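import Mathlib

set_option autoImplicit false

namespace Cfsg.Agent.Lib.Helper7

open MulAction

/-- Orbit counting: if `x₀` is a fixed point and all other orbits have size divisible by `n`,
then the cardinality is congruent to `1` modulo `n`. -/
theorem card_modEq_one_of_orbits {P X : Type*} [Group P] [MulAction P X] [Finite X] (n : ℕ) (x₀ : X)
    (hfix : ∀ g : P, g • x₀ = x₀) (h : ∀ x : X, x ≠ x₀ → n ∣ (orbit P x).ncard) :
    Nat.card X ≡ 1 [MOD n] := by
  classical
  have := Fintype.ofFinite X
  let Ω := orbitRel.Quotient P X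
  have : Fintype Ω := Fintype.ofFinite Ω
  have e := selfEquivSigmaOrbits' P X
  have h1 : Nat.card X = ∑ ω : Ω, Nat.card ω.orbit := by
    rw [Nat.card_congr e, Nat.card_sigma]
  let ω₀ : Ω := Quotient.mk'' x₀
  have h2 : Nat.card ω₀.orbit = 1 := by
    have : ω₀.orbit = {x₀} := by
      rw [orbitRel.Quotient.orbit_mk]
      ext y
      simp only [mem_orbit_iff, Set.mem_singleton_iff]
      constructor
      · rintro ⟨g, rfl⟩; exact hfix g
      · rintro rfl; exact ⟨1, one_smul _ _⟩
    rw [this]; simp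
  have h3 : ∀ ω ∈ (Finset.univ.erase ω₀ : Finset Ω), n ∣ Nat.card ω.orbit := by
    intro ω hω
    induction ω using Quotient.inductionOn' with
    | h x =>
      have hx : x ≠ x₀ := by
        rintro rfl
        exact (Finset.mem_erase.mp hω).1 rfl
      have := h x hx
      rw [orbitRel.Quotient.orbit_mk, Nat.card_coe_set_eq]
      exact this
  rw [h1, ← Finset.add_sum_erase _ _ (Finset.mem_univ ω₀), h2]
  obtain ⟨m, hm⟩ := Finset.dvd_sum h3
  rw [hm]
  show (1 + n * m) % n = 1 % n
  rw [Nat.add_mul_mod_self_left]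

variable {G : Type*} [Group G]

/-- The stabilizer of a Sylow subgroup `R` under the conjugation action of a `p`-subgroup `P`. -/
theorem stabilizer_sylow_eq_subgroupOf {p : ℕ} (P : Subgroup G) (hP : IsPGroup p P) (R : Sylow p G) :
    stabilizer ↥P R = (R : Subgroup G).subgroupOf P := by
  have h1 : stabilizer ↥P R = (Subgroup.normalizer ((R : Subgroup G) : Set G)).subgroupOf P := by
    ext g
    rw [mem_stabilizer_iff, Subgroup.mem_subgroupOf, Subgroup.smul_def, Sylow.smul_eq_iff_mem_normalizer]
    exact Iff.rfl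
  have h2 : P ⊓ Subgroup.normalizer ((R : Subgroup G) : Set G) = P ⊓ (R : Subgroup G) :=
    hP.inf_normalizer_sylow R
  rw [h1, ← Subgroup.inf_subgroupOf_left, h2, Subgroup.inf_subgroupOf_left]

theorem ncard_orbit_sylow_eq_index {p : ℕ} (P : Subgroup G) (hP : IsPGroup p P) (R : Sylow p G) :
    (orbit ↥P R).ncard = ((R : Subgroup G).subgroupOf P).index := by
  rw [← index_stabilizer, stabilizer_sylow_eq_subgroupOf P hP R]

/-- If the number of Sylow `p`-subgroups is not `≡ 1 [MOD p^k]`, then for every Sylow `p`-subgroup `P`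
there is another one `R` with `[P : P ∩ R] ≤ p^(k-1)`. -/
theorem exists_sylow_large_inter [Finite G] (p k : ℕ) [Fact p.Prime]
    (h : ¬ Nat.card (Sylow p G) ≡ 1 [MOD p ^ k]) (P : Sylow p G) :
    ∃ R : Sylow p G, P ≠ R ∧ ((R : Subgroup G).subgroupOf (P : Subgroup G)).index ≤ p ^ (k - 1) := by
  classical
  have hp : p.Prime := Fact.out
  by_contra hcon
  push Not at hcon
  apply h
  apply card_modEq_one_of_orbits (P := ↥(P : Subgroup G)) (p ^ k) P
  · intro g
    rw [Subgroup.smul_def, Sylow.smul_eq_iff_mem_normalizer]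
    exact Subgroup.le_normalizer g.2
  · intro R hR
    rw [ncard_orbit_sylow_eq_index (P : Subgroup G) P.2 R]
    have hlt := hcon R (Ne.symm hR)
    -- the index is a power of p
    have hdvd : ((R : Subgroup G).subgroupOf (P : Subgroup G)).index ∣ Nat.card (P : Subgroup G) :=
      Subgroup.index_dvd_card _
    obtain ⟨n, hn⟩ := P.2.exists_card_eq
    rw [hn] at hdvd
    obtain ⟨m, _, hm⟩ := (Nat.dvd_prime_pow hp).mp hdvd
    rw [hm] at hlt ⊢
    have hkm : k - 1 < m := (Nat.pow_lt_pow_iff_right hp.one_lt).mp hlt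
    exact pow_dvd_pow p (by omega)

end Cfsg.Agent.Lib.Helper7
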