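import Mathlib
import Cfsg.Agent.Lib.Helper7.SylowCount
import Cfsg.Agent.Lib.Helper23.SylowCount

set_option autoImplicit false

/-!
# Tools for excluding simple groups of a given order
-/

namespace Cfsg.Agent.Lib.Helper7

variable {G : Type*} [Group G]

/-- A finite simple group whose order is not prime is not commutative. -/
theorem not_comm_of_card_not_prime [Finite G] [IsSimpleGroup G] (h : ¬ (Nat.card G).Prime) :
    ¬ IsMulCommutative G := by
  intro hc
  apply h
  let _ : CommGroup G := { (inferInstance : Group G) with mul_comm := fun a b => hc.is_comm.comm a b }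
  exact IsSimpleGroup.prime_card

/-- In a simple group, a proper subgroup of index `n` forces `|G| ∣ n!`. -/
theorem card_dvd_factorial_index [Finite G] [IsSimpleGroup G] (H : Subgroup G) (hH : H ≠ ⊤) :
    Nat.card G ∣ (H.index).factorial := by
  classical
  have : Fintype (G ⧸ H) := Fintype.ofFinite _
  let φ : G →* Equiv.Perm (G ⧸ H) := MulAction.toPermHom G (G ⧸ H)
  have hker : φ.ker = ⊥ := by
    rcases (MonoidHom.normal_ker φ).eq_bot_or_eq_top with h | h
    · exact h
    · exfalso
      apply hH
      rw [eq_top_iff]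
      intro g _
      have hg : g ∈ φ.ker := by rw [h]; trivial
      rw [MonoidHom.mem_ker] at hg
      have h3 : g • (QuotientGroup.mk 1 : G ⧸ H) = QuotientGroup.mk 1 := by
        have := congrArg (fun σ : Equiv.Perm (G ⧸ H) => σ (QuotientGroup.mk 1)) hg
        simpa [φ] using this
      have h4 : (QuotientGroup.mk (g * 1) : G ⧸ H) = QuotientGroup.mk 1 := h3
      have := QuotientGroup.eq.mp h4.symm
      simpa using this
  have hinj : Function.Injective φ := (MonoidHom.ker_eq_bot_iff φ).mp hker
  have h1 := Subgroup.card_dvd_of_injective φ hinj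
  rw [Nat.card_eq_fintype_card (α := Equiv.Perm (G ⧸ H)), Fintype.card_perm,
    ← Nat.card_eq_fintype_card] at h1
  exact h1

/-- In a simple group, a proper subgroup of index at most `n` forces `|G| ∣ n!`. -/
theorem card_dvd_factorial_of_index_le [Finite G] [IsSimpleGroup G] (H : Subgroup G) (hH : H ≠ ⊤)
    {n : ℕ} (hn : H.index ≤ n) : Nat.card G ∣ n.factorial :=
  (card_dvd_factorial_index H hH).trans (Nat.factorial_dvd_factorial hn)

/-- if `p` exactly divides `|G| = p * m`, a Sylow `p`-subgroup has order `p` and index `m` -/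
theorem sylow_card_index_of_exact [Finite G] {p m : ℕ} [Fact p.Prime]
    (h : Nat.card G = p * m) (hm : ¬ p ∣ m) (P : Sylow p G) :
    Nat.card ↥(P : Subgroup G) = p ∧ (P : Subgroup G).index = m := by
  have hp : p.Prime := Fact.out
  obtain ⟨k, hk⟩ := P.2.exists_card_eq
  have hmul := (P : Subgroup G).card_mul_index
  rw [hk, h] at hmul
  have hnd := P.not_dvd_index
  rcases k with _ | _ | k
  · exfalso
    rw [pow_zero, one_mul] at hmul
    exact hnd ⟨m, hmul⟩
  · rw [pow_one] at hmul hk
    exact ⟨hk, Nat.eq_of_mul_eq_mul_left hp.pos hmul⟩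
  · exfalso
    apply hm
    have : p * (p * (p ^ k * (P : Subgroup G).index)) = p * m := by rw [← hmul]; ring
    have := Nat.eq_of_mul_eq_mul_left hp.pos this
    exact ⟨_, this.symm⟩

/-- if `|G| = p^k * m` with `p ∤ m`, a Sylow `p`-subgroup has order `p^k` and index `m` -/
theorem sylow_card_index_of_pow [Finite G] {p k m : ℕ} [Fact p.Prime]
    (h : Nat.card G = p ^ k * m) (hm : ¬ p ∣ m) (P : Sylow p G) :
    Nat.card ↥(P : Subgroup G) = p ^ k ∧ (P : Subgroup G).index = m := by
  have hp : p.Prime := Fact.out
  have hm0 : m ≠ 0 := by rintro rfl; exact hm (dvd_zero p)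
  have hfac : (Nat.card G).factorization p = k := by
    rw [h, Nat.factorization_mul (pow_ne_zero _ hp.ne_zero) hm0, Nat.factorization_pow,
      Nat.Prime.factorization hp]
    simp [Nat.factorization_eq_zero_of_not_dvd hm]
  have hc : Nat.card ↥(P : Subgroup G) = p ^ k := by rw [P.card_eq_multiplicity, hfac]
  refine ⟨hc, ?_⟩
  have hmul := (P : Subgroup G).card_mul_index
  rw [hc, h] at hmul
  exact Nat.eq_of_mul_eq_mul_left (pow_pos hp.pos k) hmul

/-- In a simple group which is not a `p`-group, a nontrivial Sylow `p`-subgroup is not unique. -/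
theorem card_sylow_ne_one [Finite G] [IsSimpleGroup G] {p : ℕ} [Fact p.Prime] (P : Sylow p G)
    (h1 : 1 < Nat.card ↥(P : Subgroup G)) (h2 : Nat.card ↥(P : Subgroup G) < Nat.card G) :
    Nat.card (Sylow p G) ≠ 1 := by
  intro h
  have hsub : Subsingleton (Sylow p G) := (Nat.card_eq_one_iff_unique.mp h).1
  have hn : (P : Subgroup G).Normal := Sylow.normal_of_subsingleton P
  rcases hn.eq_bot_or_eq_top with hb | ht
  · rw [hb, Subgroup.card_bot] at h1; omega
  · rw [ht, Subgroup.card_top] at h2; omega

/-- The number of Sylow subgroups times the order of the normalizer is the group order. -/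
theorem card_sylow_mul_card_normalizer [Finite G] {p : ℕ} [Fact p.Prime] (P : Sylow p G) :
    Nat.card (Sylow p G) * Nat.card ↥(Subgroup.normalizer ((P : Subgroup G) : Set G)) = Nat.card G := by
  have h1 : Nat.card (Sylow p G) = (Subgroup.normalizer ((P : Subgroup G) : Set G)).index :=
    Sylow.card_eq_index_normalizer P
  rw [h1, mul_comm]
  exact Subgroup.card_mul_index _

/-- A finite simple non-commutative group has no nontrivial abelian Sylow `p`-subgroup with a normal
complement. -/
theorem no_normal_complement [Finite G] [IsSimpleGroup G] (hG : ¬ IsMulCommutative G)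
    {p : ℕ} [Fact p.Prime] (T : Sylow p G) (hT : 1 < Nat.card ↥(T : Subgroup G))
    (hcomm : ∀ a ∈ (T : Subgroup G), ∀ b ∈ (T : Subgroup G), a * b = b * a)
    (K : Subgroup G) [K.Normal] (hK : K.IsComplement' (T : Subgroup G)) : False := by
  have hcard := hK.card_mul_card
  rcases (inferInstance : K.Normal).eq_bot_or_eq_top with h | h
  · rw [h, Subgroup.card_bot, one_mul] at hcard
    have hTtop : (T : Subgroup G) = ⊤ := Subgroup.eq_top_of_card_eq _ hcard
    apply hG
    refine ⟨⟨fun a b => ?_⟩⟩
    exact hcomm a (by rw [hTtop]; trivial) b (by rw [hTtop]; trivial)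
  · rw [h, Subgroup.card_top] at hcard
    have hpos : 0 < Nat.card G := Nat.card_pos
    have : Nat.card ↥(T : Subgroup G) = 1 :=
      Nat.eq_of_mul_eq_mul_left hpos (by rw [hcard, mul_one])
    omega

/-- Burnside: in a finite simple non-commutative group, a nontrivial abelian Sylow subgroup is not
central in its normalizer. -/
theorem not_normalizer_le_centralizer [Finite G] [IsSimpleGroup G] (hG : ¬ IsMulCommutative G)
    {p : ℕ} [Fact p.Prime] (T : Sylow p G) (hT : 1 < Nat.card ↥(T : Subgroup G))
    (hcomm : ∀ a ∈ (T : Subgroup G), ∀ b ∈ (T : Subgroup G), a * b = b * a) :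
    ¬ Subgroup.normalizer ((T : Subgroup G) : Set G) ≤ Subgroup.centralizer ((T : Subgroup G) : Set G) :=
  fun hNC => no_normal_complement hG T hT hcomm _ (MonoidHom.ker_transferSylow_isComplement' T hNC)

/-- elements of a subgroup of prime order commute -/
theorem comm_of_card_prime {p : ℕ} [Fact p.Prime] (T : Subgroup G) (hT : Nat.card ↥T = p) :
    ∀ a ∈ T, ∀ b ∈ T, a * b = b * a := by
  intro a ha b hb
  have hcyc : IsCyclic ↥T := isCyclic_of_prime_card hT
  have hmc : IsMulCommutative ↥T := IsCyclic.isMulCommutative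
  exact congrArg Subtype.val (hmc.is_comm.comm ⟨a, ha⟩ ⟨b, hb⟩)

/-- elements of a subgroup of order `p^2` commute -/
theorem comm_of_card_prime_sq {p : ℕ} [Fact p.Prime] (T : Subgroup G) (hT : Nat.card ↥T = p ^ 2) :
    ∀ a ∈ T, ∀ b ∈ T, a * b = b * a := by
  intro a ha b hb
  have hmc : IsMulCommutative ↥T := IsPGroup.isMulCommutative_of_card_eq_prime_sq hT
  exact congrArg Subtype.val (hmc.is_comm.comm ⟨a, ha⟩ ⟨b, hb⟩)

/-- `|N(T) : C(T)|` divides `|Aut T|` -/
theorem relIndex_centralizer_normalizer_dvd (T : Subgroup G) [Finite ↥T] :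
    (Subgroup.centralizer (T : Set G)).relIndex (Subgroup.normalizer (T : Set G))
      ∣ Nat.card (MulAut ↥T) := by
  have hker := Subgroup.normalizerMonoidHom_ker T
  have h1 : (Subgroup.centralizer (T : Set G)).relIndex (Subgroup.normalizer (T : Set G))
      = (T.normalizerMonoidHom).ker.index := by rw [hker]; rfl
  rw [h1, Subgroup.index_ker]
  exact Subgroup.card_subgroup_dvd_card _

/-- for `T` of prime order `p`, `|N(T) : C(T)|` divides `p - 1` -/
theorem relIndex_centralizer_normalizer_dvd_of_prime {p : ℕ} [Fact p.Prime] (T : Subgroup G)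
    (hT : Nat.card ↥T = p) :
    (Subgroup.centralizer (T : Set G)).relIndex (Subgroup.normalizer (T : Set G)) ∣ p - 1 := by
  have hp : p.Prime := Fact.out
  have : Finite ↥T := Nat.finite_of_card_ne_zero (by rw [hT]; exact hp.ne_zero)
  have hcyc : IsCyclic ↥T := isCyclic_of_prime_card hT
  have hAut : Nat.card (MulAut ↥T) = p - 1 := by
    rw [IsCyclic.card_mulAut, hT, Nat.totient_prime hp]
  rw [← hAut]
  exact relIndex_centralizer_normalizer_dvd T

/-- `|C(T)| * |N(T) : C(T)| = |N(T)|` -/
theorem card_centralizer_mul_relIndex (T : Subgroup G) :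
    Nat.card ↥(Subgroup.centralizer (T : Set G)) *
      (Subgroup.centralizer (T : Set G)).relIndex (Subgroup.normalizer (T : Set G))
      = Nat.card ↥(Subgroup.normalizer (T : Set G)) := by
  have := Subgroup.relIndex_mul_relIndex (H := (⊥ : Subgroup G)) (K := Subgroup.centralizer (T : Set G))
    (L := Subgroup.normalizer (T : Set G)) bot_le (Subgroup.centralizer_le_normalizer _)
  rwa [Subgroup.relIndex_bot_left, Subgroup.relIndex_bot_left] at this

end Cfsg.Agent.Lib.Helper7
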