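import Mathlib

set_option autoImplicit false
set_option linter.unusedSectionVars false

/-! Involutions acting on finite sets: sign, supports and fixed points (helper7). -/

namespace Cfsg.Agent.Lib.Helper7

open Equiv Equiv.Perm

/-- sign of an involution in terms of the size of its support -/
theorem sign_of_sq_eq_one {X : Type*} [Fintype X] [DecidableEq X] (σ : Perm X) (h : σ ^ 2 = 1) :
    Perm.sign σ = (-1) ^ (σ.support.card / 2) := by
  by_cases h1 : σ = 1
  · subst h1; simp
  have ho : orderOf σ = 2 := orderOf_eq_prime h h1
  obtain ⟨n, hn⟩ := Equiv.Perm.cycleType_prime_order (σ := σ) (by rw [ho]; exact Nat.prime_two)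
  rw [ho] at hn
  have hs : σ.support.card = 2 * (n + 1) := by
    rw [← Equiv.Perm.sum_cycleType, hn, Multiset.sum_replicate, smul_eq_mul, mul_comm]
  rw [Equiv.Perm.sign_of_cycleType, hn, hs, Multiset.sum_replicate, Multiset.card_replicate, smul_eq_mul]
  have : 2 * (n + 1) / 2 = n + 1 := by omega
  rw [this]
  have : (n + 1) * 2 + (n + 1) = 2 * (n + 1) + (n + 1) := by ring
  rw [this, pow_add, pow_mul]
  simp

/-- a simple group of order `> 2` has no nontrivial homomorphism to `ℤˣ` -/
theorem hom_units_int_eq_one {G : Type*} [Group G] [Finite G] [IsSimpleGroup G] (hG : 2 < Nat.card G)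
    (ψ : G →* ℤˣ) (g : G) : ψ g = 1 := by
  rcases (MonoidHom.normal_ker ψ).eq_bot_or_eq_top with h | h
  · exfalso
    have hinj : Function.Injective ψ := (MonoidHom.ker_eq_bot_iff ψ).mp h
    have := Nat.card_le_card_of_injective ψ hinj
    have h2 : Nat.card ℤˣ = 2 := by simp
    omega
  · have : g ∈ ψ.ker := by rw [h]; trivial
    exact this

/-- In a simple group of order `> 2` acting on a finite set, the support of an involution has size
divisible by 4. -/
theorem four_dvd_card_support_of_sq_eq_one {G : Type*} [Group G] [Finite G] [IsSimpleGroup G]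
    (hG : 2 < Nat.card G) {X : Type*} [Fintype X] [DecidableEq X] [MulAction G X] (t : G)
    (ht : t ^ 2 = 1) : 4 ∣ (MulAction.toPermHom G X t).support.card := by
  have h1 := hom_units_int_eq_one hG (Perm.sign.comp (MulAction.toPermHom G X)) t
  have h2 : (MulAction.toPermHom G X t) ^ 2 = 1 := by rw [← map_pow, ht, map_one]
  have h3 := sign_of_sq_eq_one _ h2
  rw [MonoidHom.comp_apply] at h1
  rw [h1] at h3
  have heven : Even ((MulAction.toPermHom G X t).support.card / 2) := by
    by_contra hodd
    rw [Nat.not_even_iff_odd] at hodd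
    rw [hodd.neg_one_pow] at h3
    exact absurd h3 (by decide)
  have h2dvd : 2 ∣ (MulAction.toPermHom G X t).support.card := by
    by_cases h1 : MulAction.toPermHom G X t = 1
    · rw [h1]; simp
    have ho : orderOf (MulAction.toPermHom G X t) = 2 := orderOf_eq_prime h2 h1
    obtain ⟨n, hn⟩ := Equiv.Perm.cycleType_prime_order (σ := MulAction.toPermHom G X t) (by rw [ho]; exact Nat.prime_two)
    rw [← Equiv.Perm.sum_cycleType, hn, Multiset.sum_replicate, smul_eq_mul, ho]
    exact dvd_mul_left 2 _
  obtain ⟨k, hk⟩ := heven
  obtain ⟨m, hm⟩ := h2dvd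
  omega

/-- support and fixed points -/
theorem card_support_add_card_fixedBy {G X : Type*} [Group G] [Fintype X] [DecidableEq X]
    [MulAction G X] (t : G) :
    (MulAction.toPermHom G X t).support.card + Nat.card (MulAction.fixedBy X t) = Fintype.card X := by
  classical
  have h1 : Nat.card (MulAction.fixedBy X t) = (Finset.univ.filter (fun x : X => t • x = x)).card := by
    rw [Nat.card_eq_fintype_card, ← Fintype.card_subtype]
    rfl
  have h2 : (MulAction.toPermHom G X t).support = Finset.univ.filter (fun x : X => ¬ t • x = x) := by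
    ext x
    simp [Equiv.Perm.mem_support]
  rw [h1, h2, add_comm, Finset.card_filter_add_card_filter_not, Finset.card_univ]

end Cfsg.Agent.Lib.Helper7
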