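import Mathlib
import Cfsg.Agent.Lib.Helper20.AschDefs
import Cfsg.Agent.Lib.Helper13.AltForm

/-!
S5630 (Aschbacher, helper20's market), block (A5) FORMS, by helper7:
if an absolutely irreducible subgroup `N` normalised by `H` fixes a non-degenerate symplectic / unitary / quadratic
form then `H` consists of similarities of that form (uniqueness of the invariant form by Schur), hence `Geo H`.
-/

set_option autoImplicit false
set_option linter.unusedSectionVars false
set_option linter.unusedVariables false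

namespace Cfsg.Agent.Lib.Helper7.AschLeaf
open Matrix Cfsg.Geo Cfsg.Agent.Lib.Helper20.Asch

section gen
variable {F : Type*} [Field F] {n : ℕ}

/-- the Gram matrix of a two-argument form in the standard basis -/
def gramF (f : (Fin n → F) → (Fin n → F) → F) : Matrix (Fin n) (Fin n) F :=
  Matrix.of fun i j => f (Pi.single i 1) (Pi.single j 1)

/-- apply `σ` entrywise to a vector -/
def vmap (σ : F →+* F) (v : Fin n → F) : Fin n → F := fun i => σ (v i)

lemma vmap_single (σ : F →+* F) (j : Fin n) : vmap σ (Pi.single j (1 : F)) = Pi.single j 1 := by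
  funext k
  unfold vmap
  by_cases h : k = j
  · subst h; simp
  · simp [Pi.single_apply, h]

lemma vmap_mulVec (σ : F →+* F) (M : Matrix (Fin n) (Fin n) F) (v : Fin n → F) :
    vmap σ (M *ᵥ v) = M.map σ *ᵥ vmap σ v := by
  funext i
  show σ ((M *ᵥ v) i) = (M.map σ *ᵥ (σ ∘ v)) i
  exact RingHom.map_mulVec σ M v i

/-- a form that is linear in the first and `σ`-semilinear in the second argument is given by its Gram matrix -/
theorem rep_of (σ : F →+* F) (f : (Fin n → F) → (Fin n → F) → F)
    (hal : ∀ x y v, f (x + y) v = f x v + f y v) (hsl : ∀ (c : F) (x v : Fin n → F), f (c • x) v = c * f x v)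
    (har : ∀ v x y, f v (x + y) = f v x + f v y)
    (hsr : ∀ (c : F) (v x : Fin n → F), f v (c • x) = σ c * f v x) (u v : Fin n → F) :
    f u v = u ⬝ᵥ gramF f *ᵥ vmap σ v := by
  classical
  have h0l : ∀ v, f 0 v = 0 := by
    intro v
    have := hsl 0 0 v
    simpa using this
  have h0r : ∀ v, f v 0 = 0 := by
    intro v
    have := hsr 0 v 0
    simpa using this
  -- additive maps
  let φ : (Fin n → F) → (Fin n → F) →+ F := fun v =>
    { toFun := fun x => f x v, map_zero' := h0l v, map_add' := fun x y => hal x y v }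
  let ψ : (Fin n → F) → (Fin n → F) →+ F := fun x =>
    { toFun := fun v => f x v, map_zero' := h0r x, map_add' := fun v w => har x v w }
  have hu : u = ∑ i, u i • (Pi.single i (1 : F) : Fin n → F) := by
    funext k
    simp [Finset.sum_apply, Pi.single_apply]
  have hv : v = ∑ j, v j • (Pi.single j (1 : F) : Fin n → F) := by
    funext k
    simp [Finset.sum_apply, Pi.single_apply]
  have e1 : ∀ w, f u w = ∑ i, u i * f (Pi.single i 1) w := by
    intro w
    have : f u w = φ w u := rfl
    rw [this]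
    conv_lhs => rw [hu]
    rw [map_sum]
    apply Finset.sum_congr rfl
    intro i _
    exact hsl _ _ _
  have e2 : ∀ x, f x v = ∑ j, σ (v j) * f x (Pi.single j 1) := by
    intro x
    have : f x v = ψ x v := rfl
    rw [this]
    conv_lhs => rw [hv]
    rw [map_sum]
    apply Finset.sum_congr rfl
    intro j _
    exact hsr _ _ _
  rw [e1]
  simp only [dotProduct, Matrix.mulVec, gramF, vmap, Matrix.of_apply]
  apply Finset.sum_congr rfl
  intro i _
  rw [e2, Finset.mul_sum, Finset.mul_sum]
  apply Finset.sum_congr rfl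
  intro j _
  ring

/-- matrices are determined by the sesquilinear forms they define -/
lemma eq_of_forall_dot (σ : F →+* F) (A B : Matrix (Fin n) (Fin n) F)
    (h : ∀ u v : Fin n → F, u ⬝ᵥ A *ᵥ vmap σ v = u ⬝ᵥ B *ᵥ vmap σ v) : A = B := by
  classical
  ext i j
  have := h (Pi.single i 1) (Pi.single j 1)
  rw [vmap_single] at this
  simpa [Matrix.mulVec_single_one, single_one_dotProduct] using this

lemma dot_conj (σ : F →+* F) (J g : Matrix (Fin n) (Fin n) F) (u v : Fin n → F) :
    (g *ᵥ u) ⬝ᵥ J *ᵥ vmap σ (g *ᵥ v) = u ⬝ᵥ (gᵀ * J * g.map σ) *ᵥ vmap σ v := by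
  rw [vmap_mulVec, Matrix.mulVec_mulVec]
  have h1 : ∀ w : Fin n → F, (g *ᵥ u) ⬝ᵥ w = u ⬝ᵥ gᵀ *ᵥ w := by
    intro w
    rw [dotProduct_comm, Matrix.dotProduct_mulVec, ← Matrix.mulVec_transpose, dotProduct_comm]
  rw [h1, Matrix.mulVec_mulVec, ← mul_assoc]

/-- the Gram matrix of a left non-degenerate form is invertible -/
lemma gram_det_ne_zero' (σ : F →+* F) (f : (Fin n → F) → (Fin n → F) → F)
    (hrep : ∀ u v, f u v = u ⬝ᵥ gramF f *ᵥ vmap σ v) (hnd : IsNondegenerateForm f) :
    (gramF f).det ≠ 0 := by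
  intro hdet
  obtain ⟨v, hv, hv0⟩ := Matrix.exists_vecMul_eq_zero_iff.mpr hdet
  obtain ⟨x, hx⟩ := (hnd v hv).2
  apply hx
  rw [hrep, Matrix.dotProduct_mulVec, hv0, zero_dotProduct]

/-- SCHUR: if `N` is absolutely irreducible, normalised by `H`, and preserves the `σ`-sesquilinear form with invertible
Gram matrix `J`, then every `h ∈ H` multiplies `J` by a non-zero scalar. -/
theorem core (hn : 0 < n) (σ : F →+* F) (J : Matrix (Fin n) (Fin n) F) (hJ : J.det ≠ 0)
    {H N : Subgroup (GL (Fin n) F)} (hnorm : NormBy H N) (habs : AbsIrr N)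
    (hfix : ∀ x ∈ N, (x : Matrix (Fin n) (Fin n) F)ᵀ * J * (x : Matrix (Fin n) (Fin n) F).map σ = J)
    (h : GL (Fin n) F) (hh : h ∈ H) :
    ∃ c : F, c ≠ 0 ∧
      (h : Matrix (Fin n) (Fin n) F)ᵀ * J * (h : Matrix (Fin n) (Fin n) F).map σ = c • J := by
  classical
  have : Nonempty (Fin n) := ⟨⟨0, hn⟩⟩
  set hm : Matrix (Fin n) (Fin n) F := (h : Matrix (Fin n) (Fin n) F) with hhm
  set K : Matrix (Fin n) (Fin n) F := hmᵀ * J * hm.map σ with hK
  have hJu : IsUnit J.det := isUnit_iff_ne_zero.mpr hJ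
  have hJJ : J * J⁻¹ = 1 := Matrix.mul_nonsing_inv J hJu
  have hJJ' : J⁻¹ * J = 1 := Matrix.nonsing_inv_mul J hJu
  have hmapmul : ∀ A B : Matrix (Fin n) (Fin n) F, (A * B).map σ = A.map σ * B.map σ := by
    intro A B
    exact Matrix.map_mul
  -- K is N-invariant
  have hKfix : ∀ x ∈ N, (x : Matrix (Fin n) (Fin n) F)ᵀ * K * (x : Matrix (Fin n) (Fin n) F).map σ = K := by
    intro x hx
    have hy : h * x * h⁻¹ ∈ N := hnorm h hh x hx
    have hyx : ((h * x * h⁻¹ : GL (Fin n) F) : Matrix (Fin n) (Fin n) F) * hm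
        = hm * (x : Matrix (Fin n) (Fin n) F) := by
      rw [hhm, ← Units.val_mul, ← Units.val_mul]
      congr 1
      group
    have h1 := hfix _ hy
    set y : Matrix (Fin n) (Fin n) F := ((h * x * h⁻¹ : GL (Fin n) F) : Matrix (Fin n) (Fin n) F) with hy'
    calc (x : Matrix (Fin n) (Fin n) F)ᵀ * K * (x : Matrix (Fin n) (Fin n) F).map σ
        = (hm * (x : Matrix (Fin n) (Fin n) F))ᵀ * J * (hm * (x : Matrix (Fin n) (Fin n) F)).map σ := by
          rw [hK, Matrix.transpose_mul, hmapmul]
          simp only [mul_assoc]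
      _ = (y * hm)ᵀ * J * (y * hm).map σ := by rw [hyx]
      _ = hmᵀ * (yᵀ * J * y.map σ) * hm.map σ := by
          rw [Matrix.transpose_mul, hmapmul]
          simp only [mul_assoc]
      _ = K := by rw [h1]
  -- the commuting matrix
  have hcomm : ∀ s ∈ matrixSet N, (K * J⁻¹)ᵀ * s = s * (K * J⁻¹)ᵀ := by
    rintro _ ⟨x, hx, rfl⟩
    set xm : Matrix (Fin n) (Fin n) F := (x : Matrix (Fin n) (Fin n) F) with hxm
    set xi : Matrix (Fin n) (Fin n) F := ((x⁻¹ : GL (Fin n) F) : Matrix (Fin n) (Fin n) F) with hxi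
    have hx1 : xi * xm = 1 := by rw [hxi, hxm, ← Units.val_mul, inv_mul_cancel, Units.val_one]
    have hx2 : xiᵀ * xmᵀ = 1 := by
      rw [← Matrix.transpose_mul, hxi, hxm, ← Units.val_mul, mul_inv_cancel, Units.val_one,
        Matrix.transpose_one]
    have hx3 : xmᵀ * xiᵀ = 1 := by rw [← Matrix.transpose_mul, hx1, Matrix.transpose_one]
    have e1 : xmᵀ * J * xm.map σ = J := hfix x hx
    have e2 : xmᵀ * K * xm.map σ = K := hKfix x hx
    -- xm.map σ = J⁻¹ xiᵀ J
    have e3 : xm.map σ = J⁻¹ * xiᵀ * J := by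
      have : J * xm.map σ = xiᵀ * J := by
        calc J * xm.map σ = (xiᵀ * xmᵀ) * (J * xm.map σ) := by rw [hx2, one_mul]
          _ = xiᵀ * (xmᵀ * J * xm.map σ) := by simp only [mul_assoc]
          _ = xiᵀ * J := by rw [e1]
      calc xm.map σ = (J⁻¹ * J) * xm.map σ := by rw [hJJ', one_mul]
        _ = J⁻¹ * (J * xm.map σ) := by rw [mul_assoc]
        _ = J⁻¹ * xiᵀ * J := by rw [this, mul_assoc]
    have e4 : xmᵀ * (K * J⁻¹) = (K * J⁻¹) * xmᵀ := by
      have e5 : xmᵀ * (K * J⁻¹) * xiᵀ = K * J⁻¹ := by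
        calc xmᵀ * (K * J⁻¹) * xiᵀ = (xmᵀ * K * (J⁻¹ * xiᵀ * J)) * J⁻¹ := by
              simp only [mul_assoc]
              rw [hJJ, mul_one]
          _ = K * J⁻¹ := by rw [← e3, e2]
      calc xmᵀ * (K * J⁻¹) = xmᵀ * (K * J⁻¹) * (xiᵀ * xmᵀ) := by rw [hx2, mul_one]
        _ = (xmᵀ * (K * J⁻¹) * xiᵀ) * xmᵀ := by simp only [mul_assoc]
        _ = (K * J⁻¹) * xmᵀ := by rw [e5]
    show (K * J⁻¹)ᵀ * xm = xm * (K * J⁻¹)ᵀ
    calc (K * J⁻¹)ᵀ * xm = (xmᵀ * (K * J⁻¹))ᵀ := by
          rw [Matrix.transpose_mul xmᵀ (K * J⁻¹), Matrix.transpose_transpose]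
      _ = ((K * J⁻¹) * xmᵀ)ᵀ := by rw [e4]
      _ = xm * (K * J⁻¹)ᵀ := by rw [Matrix.transpose_mul (K * J⁻¹) xmᵀ, Matrix.transpose_transpose]
  obtain ⟨c, hc⟩ := habs.2 _ hcomm
  have hKc : K = c • J := by
    have h1 : K * J⁻¹ = c • (1 : Matrix (Fin n) (Fin n) F) := by
      have := congrArg Matrix.transpose hc
      rw [Matrix.transpose_transpose, Matrix.transpose_smul, Matrix.transpose_one] at this
      exact this
    calc K = K * (J⁻¹ * J) := by rw [hJJ', mul_one]
      _ = (K * J⁻¹) * J := (mul_assoc K J⁻¹ J).symm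
      _ = c • J := by rw [h1, Matrix.smul_mul, one_mul]
  refine ⟨c, ?_, hKc⟩
  intro hc0
  have hK0 : K = 0 := by rw [hKc, hc0, zero_smul]
  have hdet : K.det ≠ 0 := by
    rw [hK, Matrix.det_mul, Matrix.det_mul, Matrix.det_transpose]
    have h1 : hm.det ≠ 0 := by
      rw [hhm]
      exact (Matrix.isUnits_det_units h).ne_zero
    have h2 : (hm.map σ).det ≠ 0 := by
      have : (hm.map σ).det = σ hm.det := by
        rw [RingHom.map_det]
        rfl
      rw [this]
      exact (map_ne_zero σ).mpr h1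
    exact mul_ne_zero (mul_ne_zero h1 hJ) h2
  apply hdet
  rw [hK0]
  exact Matrix.det_zero

/-- the similarity statement in terms of the form -/
theorem similarity_of_rep (hn : 0 < n) (σ : F →+* F) (f : (Fin n → F) → (Fin n → F) → F)
    (hrep : ∀ u v, f u v = u ⬝ᵥ gramF f *ᵥ vmap σ v) (hnd : IsNondegenerateForm f)
    {H N : Subgroup (GL (Fin n) F)} (hnorm : NormBy H N) (habs : AbsIrr N)
    (hfix : FixesForm (matrixSet N) f) : H ≤ similarityGroup f := by
  intro h hh
  have hJ := gram_det_ne_zero' σ f hrep hnd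
  have hfixJ : ∀ x ∈ N, (x : Matrix (Fin n) (Fin n) F)ᵀ * gramF f * (x : Matrix (Fin n) (Fin n) F).map σ
      = gramF f := by
    intro x hx
    apply eq_of_forall_dot σ
    intro u v
    rw [← dot_conj, ← hrep, ← hrep]
    exact hfix _ ⟨x, hx, rfl⟩ u v
  obtain ⟨c, hc0, hc⟩ := core hn σ (gramF f) hJ hnorm habs hfixJ h hh
  refine ⟨Units.mk0 c hc0, ?_⟩
  intro u v
  rw [hrep, dot_conj, hc, hrep, Matrix.smul_mulVec, dotProduct_smul, Units.val_mk0, smul_eq_mul]

/-- a non-degenerate alternating form lives in even dimension -/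
theorem even_of_symplectic (f : (Fin n → F) → (Fin n → F) → F) (hf : IsSymplecticForm f) : Even n := by
  classical
  let γ : LinearMap.BilinForm F (Fin n → F) :=
    LinearMap.mk₂ F f hf.bilinear.add_left hf.bilinear.smul_left hf.bilinear.add_right
      hf.bilinear.smul_right
  have halt : γ.IsAlt := fun x => hf.alternating x
  have hnd : γ.Nondegenerate := by
    refine ⟨?_, ?_⟩
    · intro x hx
      by_contra hne
      obtain ⟨y, hy⟩ := (hf.nondegenerate x hne).2
      exact hy (hx y)
    · intro y hy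
      by_contra hne
      obtain ⟨x, hx⟩ := (hf.nondegenerate y hne).1
      exact hx (hy x)
  exact Cfsg.Agent.Lib.Helper13.even_finrank_of_isAlt_nondegenerate n γ halt hnd
    (by rw [Module.finrank_fintype_fun_eq_card, Fintype.card_fin])

end gen

section leaves
variable {F : Type*} [Field F] [Fintype F] {n : ℕ} {H N : Subgroup (GL (Fin n) F)}

/-- (A5) symplectic -/
theorem geo_of_fixes_symp (hn : 3 ≤ n) (hN : N ≤ H) (hnorm : NormBy H N) (habs : AbsIrr N)
    (f : (Fin n → F) → (Fin n → F) → F) (hf : IsSymplecticForm f)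
    (hfix : FixesForm (matrixSet N) f) : Geo H := by
  have hrep := rep_of (RingHom.id F) f hf.bilinear.add_left hf.bilinear.smul_left
    hf.bilinear.add_right (by intro c v x; simpa using hf.bilinear.smul_right c v x)
  have hsim := similarity_of_rep (by omega) (RingHom.id F) f hrep hf.nondegenerate hnorm habs hfix
  have hev := even_of_symplectic f hf
  have h4 : 4 ≤ n := by
    obtain ⟨k, hk⟩ := hev
    omega
  exact Geo.of_C8s f hf hev h4 hsim

/-- (A5) unitary -/
theorem geo_of_fixes_unitary (hn : 3 ≤ n) (hN : N ≤ H) (hnorm : NormBy H N) (habs : AbsIrr N)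
    (σ : F ≃+* F) (f : (Fin n → F) → (Fin n → F) → F) (hf : IsUnitaryForm σ f)
    (hfix : FixesForm (matrixSet N) f) : Geo H := by
  have har : ∀ v x y, f v (x + y) = f v x + f v y := by
    intro v x y
    rw [hf.herm v (x + y), hf.add_left, map_add, ← hf.herm, ← hf.herm]
  have hsr : ∀ (c : F) (v x : Fin n → F), f v (c • x) = (σ : F →+* F) c * f v x := by
    intro c v x
    rw [hf.herm v (c • x), hf.smul_left, map_mul, ← hf.herm]
    rfl
  have hrep := rep_of (σ : F →+* F) f hf.add_left hf.smul_left har hsr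
  have hsim := similarity_of_rep (by omega) (σ : F →+* F) f hrep hf.nondegenerate hnorm habs hfix
  exact Geo.of_C8u σ f hf hn hsim

/-- `polar Q v v = 2 Q v` -/
lemma polar_self (Q : (Fin n → F) → F) (hQ : IsNondegenerateQuadraticForm Q) (v : Fin n → F) :
    QuadraticMap.polar Q v v = 2 * Q v := by
  unfold QuadraticMap.polar
  have : v + v = (2 : F) • v := by rw [two_smul]
  rw [this, hQ.smul]
  ring

/-- (A5) quadratic -/
theorem geo_of_fixes_quad (hn : 3 ≤ n) (hN : N ≤ H) (hnorm : NormBy H N) (habs : AbsIrr N)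
    (Q : (Fin n → F) → F) (hQ : IsNondegenerateQuadraticForm Q)
    (hfix : FixesQuadForm (matrixSet N) Q) : Geo H := by
  have hfixp : FixesForm (matrixSet N) (QuadraticMap.polar Q) := by
    intro s hs u v
    unfold QuadraticMap.polar
    rw [← Matrix.mulVec_add, hfix s hs, hfix s hs, hfix s hs]
  by_cases h2 : (2 : F) = 0
  · -- characteristic two: the polar form is symplectic
    have hneg : ∀ a : F, a = -a := by
      intro a
      have : a + a = 0 := by rw [← two_mul, h2, zero_mul]
      exact eq_neg_of_add_eq_zero_left this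
    have hf : IsSymplecticForm (QuadraticMap.polar Q) :=
      { bilinear := hQ.polar_bilinear
        skew := by
          intro v w
          rw [QuadraticMap.polar_comm Q v w]
          exact hneg _
        alternating := by
          intro v
          rw [polar_self Q hQ, h2, zero_mul]
        nondegenerate := hQ.nondegenerate }
    exact geo_of_fixes_symp hn hN hnorm habs _ hf hfixp
  · -- odd characteristic: similarities of the polar form are similarities of Q
    have hb := hQ.polar_bilinear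
    have hrep := rep_of (RingHom.id F) (QuadraticMap.polar Q) hb.add_left hb.smul_left
      hb.add_right (by intro c v x; simpa using hb.smul_right c v x)
    have hsim := similarity_of_rep (by omega) (RingHom.id F) (QuadraticMap.polar Q) hrep
      hQ.nondegenerate hnorm habs hfixp
    have hodd : Odd (Fintype.card F) := by
      have hchar : ringChar F ≠ 2 := by
        intro hc
        apply h2
        have := CharP.cast_eq_zero F (ringChar F)
        rw [hc] at this
        exact_mod_cast this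
      exact Nat.odd_iff.mpr (FiniteField.odd_card_of_char_ne_two hchar)
    refine Geo.of_C8q Q hQ hodd hn ?_
    intro h hh
    obtain ⟨c, hc⟩ := hsim hh
    refine ⟨c, fun v => ?_⟩
    have h1 := hc v v
    rw [polar_self Q hQ, polar_self Q hQ] at h1
    have h3 : (2 : F) * Q ((h : Matrix (Fin n) (Fin n) F) *ᵥ v) = 2 * ((c : F) * Q v) := by
      rw [h1]; ring
    exact mul_left_cancel₀ h2 h3

end leaves

end Cfsg.Agent.Lib.Helper7.AschLeaf
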