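import Mathlib
import Cfsg.Agent.Lib.Helper25.SpTK
import Cfsg.Agent.Lib.Helper25.TensQ
import Cfsg.Agent.Lib.Helper25.TensI

/-!
S5704 leaves (helper25 market, part (I)): `sp_trans` (the group generated by the symplectic
transvections is transitive on non-zero vectors), `kel_one_mem` / `kel_mem_one`
(`1 ⊗ β ∈ M`, `α ⊗ 1 ∈ M` for products of symplectic transvections) and `normalize` (`R1 → R2`).
-/

set_option autoImplicit false
set_option linter.unusedSectionVars false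
set_option linter.unusedVariables false

namespace Cfsg.Agent.Lib.Helper7.SpTLeaf
open Matrix QuadraticMap
open Cfsg.Agent.Lib.Helper25.Tens Cfsg.Agent.Lib.Helper25.TensLeaves Cfsg.Agent.Lib.Helper19.OSub
open Cfsg.Agent.Lib.Helper25.SpT
open scoped Kronecker

variable {F : Type*} [Field F] [Fintype F] {a b : ℕ} {Q : QuadraticForm F (Idx a b → F)}
  {M : Subgroup (GL (Idx a b) F)}

/-- the group generated by the symplectic transvections -/
def SpT (n : ℕ) : Subgroup (GL (Fin n) F) :=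
  Subgroup.closure {g : GL (Fin n) F | ∃ (z : Fin n → F) (c : F), g = stv z c}

lemma stv_mem_SpT {n : ℕ} (z : Fin n → F) (c : F) : stv z c ∈ SpT (F := F) n :=
  Subgroup.subset_closure ⟨z, c, rfl⟩

/-- one symplectic transvection maps `u` to `y` when `sf u y ≠ 0` -/
lemma sp_trans_one {n : ℕ} (u y : Fin n → F) (h : sf u y ≠ 0) :
    ((stv (y - u) (sf u y)⁻¹ : GL (Fin n) F) : Matrix (Fin n) (Fin n) F) *ᵥ u = y := by
  rw [stv_mulVec, sf_sub_right, sf_self, sub_zero, inv_mul_cancel₀ h, one_smul]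
  abel

/-- (I4) transitivity on non-zero vectors -/
theorem sp_trans {n : ℕ} (hn : Even n) (o : Fin n) (y : Fin n → F) (hy : y ≠ 0) :
    ∃ β : GL (Fin n) F, β ∈ SpT (F := F) n ∧
      (β : Matrix (Fin n) (Fin n) F) *ᵥ Pi.single o 1 = y := by
  have he : (Pi.single o (1 : F) : Fin n → F) ≠ 0 := by
    intro h
    have := congrFun h o
    rw [Pi.single_eq_same, Pi.zero_apply] at this
    exact one_ne_zero this
  by_cases h0 : sf (Pi.single o (1 : F) : Fin n → F) y ≠ 0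
  · exact ⟨_, stv_mem_SpT _ _, sp_trans_one _ y h0⟩
  · rw [not_not] at h0
    -- find `t` with `sf e t ≠ 0` and `sf t y ≠ 0`
    obtain ⟨t, ht1, ht2⟩ : ∃ t : Fin n → F, sf (Pi.single o (1 : F) : Fin n → F) t ≠ 0 ∧
        sf t y ≠ 0 := by
      obtain ⟨t1, ht1⟩ := exists_sf_ne_zero hn he
      obtain ⟨t2, ht2⟩ := exists_sf_ne_zero hn hy
      by_cases h1 : sf t1 y ≠ 0
      · exact ⟨t1, ht1, h1⟩
      · rw [not_not] at h1
        by_cases h2 : sf (Pi.single o (1 : F) : Fin n → F) t2 ≠ 0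
        · refine ⟨t2, h2, ?_⟩
          rw [sf_skew]
          exact neg_ne_zero.2 ht2
        · rw [not_not] at h2
          refine ⟨t1 + t2, ?_, ?_⟩
          · rw [sf_add_right, h2, add_zero]
            exact ht1
          · rw [sf_add_left, h1, zero_add, sf_skew]
            exact neg_ne_zero.2 ht2
    refine ⟨stv (y - t) (sf t y)⁻¹ * stv (t - Pi.single o 1) (sf (Pi.single o 1) t)⁻¹,
      (SpT n).mul_mem (stv_mem_SpT _ _) (stv_mem_SpT _ _), ?_⟩
    rw [Units.val_mul, ← Matrix.mulVec_mulVec, sp_trans_one _ t ht1, sp_trans_one _ y ht2]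

lemma kel_mul_kel (α α' : GL (Fin a) F) (β β' : GL (Fin b) F) :
    (kel (α * α') (β * β') : GL (Idx a b) F) = kel α β * kel α' β' := by
  apply Units.ext
  rw [Units.val_mul, kel_val, kel_val, kel_val, Units.val_mul, Units.val_mul,
    Matrix.mul_kronecker_mul]

lemma kel_one_one : (kel (1 : GL (Fin a) F) (1 : GL (Fin b) F) : GL (Idx a b) F) = 1 := by
  apply Units.ext
  rw [kel_val, Units.val_one, Units.val_one, Units.val_one, Matrix.one_kronecker_one]

lemma kel_inv_inv (α : GL (Fin a) F) (β : GL (Fin b) F) :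
    (kel α⁻¹ β⁻¹ : GL (Idx a b) F) = (kel α β)⁻¹ := by
  rw [eq_inv_iff_mul_eq_one, ← kel_mul_kel, inv_mul_cancel, inv_mul_cancel, kel_one_one]

/-- (I4') `1 ⊗ β ∈ M` for `β` a product of symplectic transvections -/
theorem kel_one_mem (h : MCtx a b Q M) (β : GL (Fin b) F) (hβ : β ∈ SpT (F := F) b) :
    kel (1 : GL (Fin a) F) β ∈ M := by
  unfold SpT at hβ
  induction hβ using Subgroup.closure_induction with
  | mem g hg =>
    obtain ⟨z, c, rfl⟩ := hg
    exact kB_mem h z c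
  | one =>
    rw [kel_one_one]
    exact M.one_mem
  | mul x y _ _ hx hy =>
    have : (kel (1 : GL (Fin a) F) (x * y) : GL (Idx a b) F) = kel 1 x * kel 1 y := by
      rw [← kel_mul_kel, one_mul]
    rw [this]
    exact M.mul_mem hx hy
  | inv x _ hx =>
    have : (kel (1 : GL (Fin a) F) x⁻¹ : GL (Idx a b) F) = (kel 1 x)⁻¹ := by
      rw [← kel_inv_inv, inv_one]
    rw [this]
    exact M.inv_mem hx

theorem kel_mem_one (h : MCtx a b Q M) (α : GL (Fin a) F) (hα : α ∈ SpT (F := F) a) :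
    kel α (1 : GL (Fin b) F) ∈ M := by
  unfold SpT at hα
  induction hα using Subgroup.closure_induction with
  | mem g hg =>
    obtain ⟨z, c, rfl⟩ := hg
    exact kA_mem h z c
  | one =>
    rw [kel_one_one]
    exact M.one_mem
  | mul x y _ _ hx hy =>
    have : (kel (x * y) (1 : GL (Fin b) F) : GL (Idx a b) F) = kel x 1 * kel y 1 := by
      rw [← kel_mul_kel, one_mul]
    rw [this]
    exact M.mul_mem hx hy
  | inv x _ hx =>
    have : (kel x⁻¹ (1 : GL (Fin b) F) : GL (Idx a b) F) = (kel x 1)⁻¹ := by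
      rw [← kel_inv_inv, inv_one]
    rw [this]
    exact M.inv_mem hx

/-- (I5) normalisation: `h' := (kel 1 β₂)⁻¹ * h * kel 1 β₁` with `β₁ e_o = y`, `β₂ e_o = y'` -/
theorem normalize (h : MCtx a b Q M) (o : Fin b) (hR : R1 M) : R2 o M := by
  obtain ⟨g, hM, hK, y, y', hy, hy', hall⟩ := hR
  obtain ⟨β₁, hβ₁S, hβ₁⟩ := sp_trans (F := F) h.eb o y hy
  obtain ⟨β₂, hβ₂S, hβ₂⟩ := sp_trans (F := F) h.eb o y' hy'
  have h1 : kel (1 : GL (Fin a) F) β₁ ∈ M := kel_one_mem h β₁ hβ₁S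
  have h2 : kel (1 : GL (Fin a) F) β₂⁻¹ ∈ M := kel_one_mem h β₂⁻¹ ((SpT b).inv_mem hβ₂S)
  refine ⟨kel 1 β₂⁻¹ * g * kel 1 β₁, M.mul_mem (M.mul_mem h2 hM) h1, ?_, ?_⟩
  · intro hmem
    apply hK
    have h3 : (kel (1 : GL (Fin a) F) β₂⁻¹)⁻¹ * (kel 1 β₂⁻¹ * g * kel 1 β₁) *
        (kel (1 : GL (Fin a) F) β₁)⁻¹ ∈ KG a b F :=
      (KG a b F).mul_mem ((KG a b F).mul_mem ((KG a b F).inv_mem (kel_mem_KG _ _)) hmem)
        ((KG a b F).inv_mem (kel_mem_KG _ _))
    simpa [mul_assoc] using h3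
  · intro x
    obtain ⟨x', hx'⟩ := hall x
    refine ⟨x', ?_⟩
    rw [Units.val_mul, Units.val_mul, ← Matrix.mulVec_mulVec, ← Matrix.mulVec_mulVec,
      kel_mulVec_pt, hβ₁, Units.val_one, Matrix.one_mulVec, hx', kel_mulVec_pt, Units.val_one,
      Matrix.one_mulVec, ← hβ₂, Cfsg.Agent.Lib.Helper25.TensLeaf.gl_inv_mul_mulVec]

end Cfsg.Agent.Lib.Helper7.SpTLeaf
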