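import Mathlib
import Cfsg.Prelude.Def_GeometricClasses
import Cfsg.Agent.Lib.Helper11.MonoDefs

/-!
S5634, case m = 1, leaf MB: a non-trivial element `y = 1 + e_r b` of a subgroup `M` containing all
monomial matrices of determinant one gives an elementary transvection in `M`.
-/

set_option autoImplicit false

namespace Cfsg.Agent.Lib.Helper7.MonoLeaf
open Matrix Cfsg.Agent.Lib.Helper11.Mono

variable {F : Type*} [Field F] [Fintype F] {ι : Type} [Fintype ι] [DecidableEq ι]

/-- the matrix `1 + e_r b` -/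
def mbRowM (r : ι) (b : ι → F) : Matrix ι ι F := 1 + Matrix.vecMulVec (Pi.single r 1) b

lemma mbRowM_apply (r : ι) (b : ι → F) (i j : ι) :
    mbRowM r b i j = (if i = j then 1 else 0) + (if i = r then b j else 0) := by
  unfold mbRowM
  rw [Matrix.add_apply, Matrix.one_apply, Matrix.vecMulVec_apply, Pi.single_apply]
  split_ifs <;> simp

lemma mbRowM_zero (r : ι) : mbRowM r (0 : ι → F) = 1 := by
  unfold mbRowM
  rw [Matrix.vecMulVec_zero, add_zero]

lemma mbRowM_mul (r : ι) (b b' : ι → F) (hb : b r = 0) :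
    mbRowM r b * mbRowM r b' = mbRowM r (b + b') := by
  unfold mbRowM
  rw [add_mul, mul_add, mul_add, one_mul, mul_one, one_mul, Matrix.vecMulVec_mul_vecMulVec,
    dotProduct_single, hb, mul_one, zero_smul, Matrix.vecMulVec_zero, add_zero,
    Matrix.vecMulVec_add, add_assoc, add_comm (vecMulVec _ b') (vecMulVec _ b)]

/-- the element `1 + e_r b` of `GL` (`b r = 0`) -/
def mbRowU (r : ι) (b : ι → F) (hb : b r = 0) : GL ι F :=
  ⟨mbRowM r b, mbRowM r (-b),
    by rw [mbRowM_mul r b (-b) hb, add_neg_cancel, mbRowM_zero],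
    by rw [mbRowM_mul r (-b) b (by rw [Pi.neg_apply, hb, neg_zero]), neg_add_cancel, mbRowM_zero]⟩

lemma mbRowU_val (r : ι) (b : ι → F) (hb : b r = 0) :
    ((mbRowU r b hb : GL ι F) : Matrix ι ι F) = mbRowM r b := rfl

/-- commutator of a diagonal element (with `s r = 1`) and `1 + e_r b` -/
lemma mbRowU_comm (r : ι) (b : ι → F) (hb : b r = 0) (s : ι → Fˣ) (hs : s r = 1) :
    dg s * mbRowU r b hb * (dg s)⁻¹ * (mbRowU r b hb)⁻¹ =
      mbRowU r (fun j => b j * ((((s j)⁻¹ : Fˣ) : F) - 1)) (by simp only [hb, zero_mul]) := by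
  rw [mul_inv_eq_iff_eq_mul, mul_inv_eq_iff_eq_mul]
  apply Units.ext
  rw [Units.val_mul, Units.val_mul, Units.val_mul, dg_val, mbRowU_val, mbRowU_val,
    mbRowM_mul _ _ _ (by simp only [hb, zero_mul])]
  ext i j
  rw [Matrix.diagonal_mul, Matrix.mul_diagonal, mbRowM_apply, mbRowM_apply, Pi.add_apply]
  by_cases hir : i = r
  · subst hir
    by_cases hij : i = j
    · subst hij
      simp [hb]
    · simp only [hij, if_false, if_true, zero_add, hs, Units.val_one, one_mul]
      have : ((s j : Fˣ) : F) ≠ 0 := (s j).ne_zero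
      rw [Units.val_inv_eq_inv_val]
      field_simp
      ring
  · by_cases hij : i = j
    · subst hij
      simp [hir, mul_comm]
    · simp [hir, hij]

theorem hasTransv_of_row (h4 : 4 ≤ Fintype.card ι) (hq : 3 ≤ Fintype.card F)
    (M : Subgroup (GL ι F)) (hH : ContainsH M) (y : GL ι F) (hy : y ∈ M) (r : ι)
    (hrow : ∀ i j, i ≠ r → (y : Matrix ι ι F) i j = if i = j then 1 else 0)
    (hrr : (y : Matrix ι ι F) r r = 1) (hne : y ≠ 1) : HasTransv M := by
  classical
  -- the row vector `b`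
  set b : ι → F := fun j => if j = r then 0 else (y : Matrix ι ι F) r j with hbdef
  have hbr : b r = 0 := by simp [hbdef]
  have hyU : y = mbRowU r b hbr := by
    apply Units.ext
    rw [mbRowU_val]
    ext i j
    rw [mbRowM_apply]
    by_cases hir : i = r
    · subst hir
      by_cases hij : i = j
      · subst hij
        simp [hbdef, hrr]
      · have : j ≠ i := fun h => hij h.symm
        simp [hbdef, hij, this]
    · rw [hrow i j hir]
      simp [hir]
  -- an index with `b j0 ≠ 0`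
  have hex : ∃ j0, b j0 ≠ 0 := by
    by_contra hcon
    push Not at hcon
    apply hne
    rw [hyU]
    apply Units.ext
    rw [mbRowU_val, Units.val_one]
    have : b = 0 := funext hcon
    rw [this, mbRowM_zero]
  obtain ⟨j0, hj0⟩ := hex
  have hj0r : j0 ≠ r := by
    intro h
    rw [h] at hj0
    exact hj0 hbr
  -- two more indices
  have hex1 : ∃ j1, j1 ≠ r ∧ j1 ≠ j0 := by
    by_contra hcon
    push Not at hcon
    have hsub : (Finset.univ : Finset ι) ⊆ {r, j0} := by
      intro x _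
      by_cases hx : x = r
      · simp [hx]
      · simp [hcon x hx]
    have := Finset.card_le_card hsub
    have h2 : ({r, j0} : Finset ι).card ≤ 2 := Finset.card_insert_le _ _ |>.trans (by simp)
    rw [Finset.card_univ] at this
    omega
  obtain ⟨j1, hj1r, hj10⟩ := hex1
  have hex2 : ∃ j2, j2 ≠ r ∧ j2 ≠ j0 ∧ j2 ≠ j1 := by
    by_contra hcon
    push Not at hcon
    have hsub : (Finset.univ : Finset ι) ⊆ {r, j0, j1} := by
      intro x _
      by_cases hx : x = r
      · simp [hx]
      · by_cases hx0 : x = j0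
        · simp [hx0]
        · simp [hcon x hx hx0]
    have := Finset.card_le_card hsub
    have h2 : ({r, j0, j1} : Finset ι).card ≤ 3 := Finset.card_le_three
    rw [Finset.card_univ] at this
    omega
  obtain ⟨j2, hj2r, hj20, hj21⟩ := hex2
  -- a unit different from one
  have hexl : ∃ l : Fˣ, l ≠ 1 := by
    have hc : 1 < Fintype.card Fˣ := by
      rw [Fintype.card_units]
      omega
    obtain ⟨l, hl⟩ := Fintype.exists_ne_of_one_lt_card hc (1 : Fˣ)
    exact ⟨l, hl⟩
  obtain ⟨l, hl⟩ := hexl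
  have hl' : (((l⁻¹ : Fˣ) : F) - 1) ≠ 0 := by
    intro h
    apply hl
    have h1 : ((l⁻¹ : Fˣ) : F) = 1 := sub_eq_zero.mp h
    have h2 : l⁻¹ = 1 := Units.ext (by rw [h1, Units.val_one])
    exact inv_eq_one.mp h2
  -- the two torus elements
  set s1 : ι → Fˣ := Pi.mulSingle j0 l * Pi.mulSingle j1 l⁻¹ with hs1
  set s2 : ι → Fˣ := Pi.mulSingle j0 l * Pi.mulSingle j2 l⁻¹ with hs2
  have hp1 : ∏ i, s1 i = 1 := by
    rw [hs1]
    simp only [Pi.mul_apply]
    rw [Finset.prod_mul_distrib, Fintype.prod_pi_mulSingle', Fintype.prod_pi_mulSingle',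
      mul_inv_cancel]
  have hp2 : ∏ i, s2 i = 1 := by
    rw [hs2]
    simp only [Pi.mul_apply]
    rw [Finset.prod_mul_distrib, Fintype.prod_pi_mulSingle', Fintype.prod_pi_mulSingle',
      mul_inv_cancel]
  have hs1r : s1 r = 1 := by
    rw [hs1, Pi.mul_apply, Pi.mulSingle_eq_of_ne (Ne.symm hj0r), Pi.mulSingle_eq_of_ne (Ne.symm hj1r),
      mul_one]
  have hs2r : s2 r = 1 := by
    rw [hs2, Pi.mul_apply, Pi.mulSingle_eq_of_ne (Ne.symm hj0r), Pi.mulSingle_eq_of_ne (Ne.symm hj2r),
      mul_one]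
  have hd1 : dg s1 ∈ M := dg_mem_of_containsH hH hp1
  have hd2 : dg s2 ∈ M := dg_mem_of_containsH hH hp2
  -- first commutator
  have hz1 : dg s1 * y * (dg s1)⁻¹ * y⁻¹ ∈ M :=
    M.mul_mem (M.mul_mem (M.mul_mem hd1 hy) (M.inv_mem hd1)) (M.inv_mem hy)
  rw [hyU, mbRowU_comm r b hbr s1 hs1r] at hz1
  -- second commutator
  have hz2 := M.mul_mem (M.mul_mem (M.mul_mem hd2 hz1) (M.inv_mem hd2)) (M.inv_mem hz1)
  rw [mbRowU_comm r _ _ s2 hs2r] at hz2
  refine ⟨r, j0, Ne.symm hj0r, b j0 * (((l⁻¹ : Fˣ) : F) - 1) * (((l⁻¹ : Fˣ) : F) - 1),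
    mul_ne_zero (mul_ne_zero hj0 hl') hl', _, hz2, ?_⟩
  rw [mbRowU_val]
  ext a k
  rw [mbRowM_apply, Matrix.transvection, Matrix.add_apply, Matrix.one_apply, Matrix.single_apply]
  congr 1
  by_cases hak : a = r
  · subst hak
    by_cases hk0 : k = j0
    · subst hk0
      have e1 : s1 k = l := by
        rw [hs1, Pi.mul_apply, Pi.mulSingle_eq_same, Pi.mulSingle_eq_of_ne (Ne.symm hj10), mul_one]
      have e2 : s2 k = l := by
        rw [hs2, Pi.mul_apply, Pi.mulSingle_eq_same, Pi.mulSingle_eq_of_ne (Ne.symm hj20), mul_one]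
      simp [e1, e2]
    · have hk0' : ¬ (j0 = k) := fun h => hk0 h.symm
      simp only [if_true, hk0', and_false, if_false]
      by_cases hk1 : k = j1
      · subst hk1
        have e2 : s2 k = 1 := by
          rw [hs2, Pi.mul_apply, Pi.mulSingle_eq_of_ne hk0, Pi.mulSingle_eq_of_ne (Ne.symm hj21),
            mul_one]
        simp [e2]
      · have e1 : s1 k = 1 := by
          rw [hs1, Pi.mul_apply, Pi.mulSingle_eq_of_ne hk0, Pi.mulSingle_eq_of_ne hk1, mul_one]
        simp [e1]
  · have : ¬ (r = a) := fun h => hak h.symm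
    simp [hak, this]

end Cfsg.Agent.Lib.Helper7.MonoLeaf
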