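import Mathlib
import Cfsg.Prelude.Def_GeometricClasses
import Cfsg.Agent.Lib.Helper11.MonoDefs

/-!
S5634, case m = 1, leaf MC: a subgroup `G` of `GL` containing all diagonal matrices and an element
`A` with `A i k = 0 ≠ (A⁻¹) k i` contains an elementary transvection.
-/

set_option autoImplicit false

namespace Cfsg.Agent.Lib.Helper7.MonoLeaf
open Matrix Cfsg.Agent.Lib.Helper11.Mono

variable {F : Type*} [Field F] [Fintype F] {ι : Type} [Fintype ι] [DecidableEq ι]

/-- the matrix `1 + w e^i` -/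
def mcColM (i : ι) (w : ι → F) : Matrix ι ι F := 1 + Matrix.vecMulVec w (Pi.single i 1)

lemma mcColM_apply (i : ι) (w : ι → F) (a b : ι) :
    mcColM i w a b = (if a = b then 1 else 0) + (if b = i then w a else 0) := by
  unfold mcColM
  rw [Matrix.add_apply, Matrix.one_apply, Matrix.vecMulVec_apply, Pi.single_apply]
  split_ifs <;> simp

lemma mcColM_zero (i : ι) : mcColM i (0 : ι → F) = 1 := by
  unfold mcColM
  rw [Matrix.zero_vecMulVec, add_zero]

lemma mcColM_mul (i : ι) (w w' : ι → F) (hw : w' i = 0) :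
    mcColM i w * mcColM i w' = mcColM i (w + w') := by
  unfold mcColM
  rw [add_mul, mul_add, mul_add, one_mul, mul_one, one_mul, Matrix.vecMulVec_mul_vecMulVec,
    single_dotProduct, hw, mul_zero, zero_smul, Matrix.vecMulVec_zero, add_zero,
    Matrix.add_vecMulVec, add_assoc, add_comm (vecMulVec w' _) (vecMulVec w _)]

/-- the element `1 + w e^i` of `GL` (`w i = 0`) -/
def mcColU (i : ι) (w : ι → F) (hw : w i = 0) : GL ι F :=
  ⟨mcColM i w, mcColM i (-w),
    by rw [mcColM_mul i w (-w) (by rw [Pi.neg_apply, hw, neg_zero]), add_neg_cancel, mcColM_zero],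
    by rw [mcColM_mul i (-w) w hw, neg_add_cancel, mcColM_zero]⟩

lemma mcColU_val (i : ι) (w : ι → F) (hw : w i = 0) :
    ((mcColU i w hw : GL ι F) : Matrix ι ι F) = mcColM i w := rfl

/-- commutator of a diagonal element (with `s i = 1`) and `1 + w e^i` -/
lemma mcColU_comm (i : ι) (w : ι → F) (hw : w i = 0) (s : ι → Fˣ) (hs : s i = 1) :
    dg s * mcColU i w hw * (dg s)⁻¹ * (mcColU i w hw)⁻¹ =
      mcColU i (fun a => (((s a : Fˣ) : F) - 1) * w a) (by simp only [hw, mul_zero]) := by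
  rw [mul_inv_eq_iff_eq_mul, mul_inv_eq_iff_eq_mul]
  apply Units.ext
  rw [Units.val_mul, Units.val_mul, Units.val_mul, dg_val, mcColU_val, mcColU_val,
    mcColM_mul _ _ _ hw]
  ext a b
  rw [Matrix.diagonal_mul, Matrix.mul_diagonal, mcColM_apply, mcColM_apply, Pi.add_apply]
  by_cases hbi : b = i
  · subst hbi
    by_cases hab : a = b
    · subst hab
      simp [hw]
    · simp only [hab, if_false, if_true, zero_add, hs, Units.val_one, mul_one]
      ring
  · by_cases hab : a = b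
    · subst hab
      simp [hbi, mul_comm]
    · simp [hbi, hab]

/-- the matrix `1 + c u v` -/
def mcRankM (c : F) (u v : ι → F) : Matrix ι ι F := 1 + c • Matrix.vecMulVec u v

/-- conjugating `diag(1,…,ε,…,1)` (at `k`) by `A` -/
lemma mc_conj_val (A : GL ι F) (k : ι) (e : Fˣ) :
    ((A * dg (Pi.mulSingle k e) * A⁻¹ : GL ι F) : Matrix ι ι F) =
      mcRankM ((e : F) - 1) (fun a => (A : Matrix ι ι F) a k)
        (fun b => ((A⁻¹ : GL ι F) : Matrix ι ι F) k b) := by
  have hd : (Matrix.diagonal fun i => (((Pi.mulSingle k e : ι → Fˣ) i : Fˣ) : F)) =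
      1 + ((e : F) - 1) • Matrix.vecMulVec (Pi.single k (1 : F)) (Pi.single k (1 : F)) := by
    ext a b
    rw [Matrix.add_apply, Matrix.smul_apply, Matrix.vecMulVec_apply, Matrix.one_apply,
      Matrix.diagonal_apply, Pi.single_apply, Pi.single_apply]
    by_cases hab : a = b
    · subst hab
      by_cases hak : a = k
      · subst hak
        simp
      · simp [hak]
    · by_cases hak : a = k
      · subst hak
        have : ¬ (b = a) := fun h => hab h.symm
        simp [hab, this]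
      · simp [hab, hak]
  rw [Units.val_mul, Units.val_mul, dg_val, hd, mul_add, add_mul, mul_one, Units.mul_inv,
    Matrix.mul_smul, Matrix.smul_mul, Matrix.mul_vecMulVec, Matrix.vecMulVec_mul,
    Matrix.mulVec_single_one, Matrix.single_one_vecMul]
  rfl

/-- the key identity `h d = x d h` -/
lemma mc_key (i : ι) (u v : ι → F) (hui : u i = 0) (e : Fˣ) (c κ : F)
    (hκ : κ * (e : F) = c * ((e : F) - 1) * v i) :
    mcRankM c u v * Matrix.diagonal (fun a => (((Pi.mulSingle i e : ι → Fˣ) a : Fˣ) : F)) =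
      mcColM i (fun a => κ * u a) *
        Matrix.diagonal (fun a => (((Pi.mulSingle i e : ι → Fˣ) a : Fˣ) : F)) * mcRankM c u v := by
  obtain ⟨δ, hδ⟩ : ∃ δ : ι → F, δ = fun a => (((Pi.mulSingle i e : ι → Fˣ) a : Fˣ) : F) := ⟨_, rfl⟩
  rw [← hδ]
  have hδi : δ i = e := by
    rw [hδ]
    show (((Pi.mulSingle i e : ι → Fˣ) i : Fˣ) : F) = e
    rw [Pi.mulSingle_eq_same]
  have hδa : ∀ a, a ≠ i → δ a = 1 := fun a ha => by
    rw [hδ]
    show (((Pi.mulSingle i e : ι → Fˣ) a : Fˣ) : F) = 1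
    rw [Pi.mulSingle_eq_of_ne ha, Units.val_one]
  have e0 : Matrix.diagonal δ *ᵥ u = u := by
    ext a
    rw [Matrix.mulVec_diagonal]
    by_cases ha : a = i
    · rw [ha, hui, mul_zero]
    · rw [hδa a ha, one_mul]
  have e1 : (mcColM i (fun a => κ * u a) * Matrix.diagonal δ) *ᵥ u = u := by
    rw [← Matrix.mulVec_mulVec, e0]
    unfold mcColM
    rw [Matrix.add_mulVec, Matrix.one_mulVec, Matrix.vecMulVec_mulVec, single_dotProduct, hui,
      mul_zero, MulOpposite.op_zero, zero_smul, add_zero]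
  unfold mcRankM
  rw [mul_add, mul_one, Matrix.mul_smul, Matrix.mul_vecMulVec, e1]
  ext a b
  rw [Matrix.mul_diagonal, Matrix.add_apply, Matrix.add_apply, Matrix.mul_diagonal, mcColM_apply,
    Matrix.smul_apply, Matrix.one_apply, Matrix.vecMulVec_apply, smul_eq_mul]
  by_cases hb : b = i
  · subst hb
    rw [hδi]
    simp only [if_true]
    linear_combination (-(u a)) * hκ
  · rw [hδa b hb]
    simp [hb]

theorem hasTransv_of_asym (hq : 3 ≤ Fintype.card F) (G : Subgroup (GL ι F))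
    (hD : ∀ s : ι → Fˣ, dg s ∈ G) (A : GL ι F) (hA : A ∈ G) (i k : ι)
    (h0 : (A : Matrix ι ι F) i k = 0) (h1 : ((A⁻¹ : GL ι F) : Matrix ι ι F) k i ≠ 0) :
    HasTransv G := by
  classical
  set u : ι → F := fun a => (A : Matrix ι ι F) a k with hu
  set v : ι → F := fun b => ((A⁻¹ : GL ι F) : Matrix ι ι F) k b with hv
  have hui : u i = 0 := h0
  have hvi : v i ≠ 0 := h1
  have hvu : v ⬝ᵥ u = 1 := by
    have : (((A⁻¹ : GL ι F) : Matrix ι ι F) * (A : Matrix ι ι F)) k k = 1 := by
      rw [Units.inv_mul, Matrix.one_apply_eq]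
    rw [Matrix.mul_apply] at this
    exact this
  -- a unit different from one
  have hexl : ∃ l : Fˣ, l ≠ 1 := by
    have hc : 1 < Fintype.card Fˣ := by
      rw [Fintype.card_units]
      omega
    obtain ⟨l, hl⟩ := Fintype.exists_ne_of_one_lt_card hc (1 : Fˣ)
    exact ⟨l, hl⟩
  obtain ⟨l, hl⟩ := hexl
  have hl' : ((l : F) - 1) ≠ 0 := by
    intro h
    apply hl
    have h1 : (l : F) = 1 := sub_eq_zero.mp h
    exact Units.ext (by rw [h1, Units.val_one])
  have hl0 : (l : F) ≠ 0 := l.ne_zero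
  -- an index `m ≠ i` with `u m ≠ 0`
  have hexm : ∃ m, u m ≠ 0 := by
    by_contra hcon
    push Not at hcon
    have : v ⬝ᵥ u = 0 := by
      have hu0 : u = 0 := funext hcon
      rw [hu0, dotProduct_zero]
    rw [hvu] at this
    exact one_ne_zero this
  obtain ⟨m, hm⟩ := hexm
  have hmi : m ≠ i := by
    intro h
    rw [h] at hm
    exact hm hui
  -- the elements
  obtain ⟨h, hh⟩ : ∃ h : GL ι F, h = A * dg (Pi.mulSingle k l) * A⁻¹ := ⟨_, rfl⟩
  obtain ⟨d, hd⟩ : ∃ d : GL ι F, d = dg (Pi.mulSingle i l) := ⟨_, rfl⟩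
  have hhG : h ∈ G := by
    rw [hh]
    exact G.mul_mem (G.mul_mem hA (hD _)) (G.inv_mem hA)
  have hdG : d ∈ G := by
    rw [hd]
    exact hD _
  have hhval : (h : Matrix ι ι F) = mcRankM ((l : F) - 1) u v := by
    rw [hh]
    exact mc_conj_val A k l
  -- `x = h d h⁻¹ d⁻¹`
  set κ : F := ((l : F) - 1) * ((l : F) - 1) * v i * (l : F)⁻¹ with hκ
  have hκ0 : κ ≠ 0 := mul_ne_zero (mul_ne_zero (mul_ne_zero hl' hl') hvi) (inv_ne_zero hl0)
  have hwi : (fun a => κ * u a) i = 0 := by
    show κ * u i = 0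
    rw [hui, mul_zero]
  have hx : h * d * h⁻¹ * d⁻¹ = mcColU i (fun a => κ * u a) hwi := by
    rw [mul_inv_eq_iff_eq_mul, mul_inv_eq_iff_eq_mul]
    apply Units.ext
    rw [Units.val_mul, Units.val_mul, Units.val_mul, hhval, mcColU_val, hd, dg_val]
    apply mc_key i u v hui l
    rw [hκ]
    field_simp
  have hxG : mcColU i (fun a => κ * u a) hwi ∈ G := by
    rw [← hx]
    exact G.mul_mem (G.mul_mem (G.mul_mem hhG hdG) (G.inv_mem hhG)) (G.inv_mem hdG)
  -- final commutator with `d_m(l)`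
  have hsm : (Pi.mulSingle m l : ι → Fˣ) i = 1 := Pi.mulSingle_eq_of_ne (Ne.symm hmi) _
  have hz := G.mul_mem (G.mul_mem (G.mul_mem (hD (Pi.mulSingle m l)) hxG)
    (G.inv_mem (hD (Pi.mulSingle m l)))) (G.inv_mem hxG)
  rw [mcColU_comm i _ hwi _ hsm] at hz
  refine ⟨m, i, hmi, ((l : F) - 1) * (κ * u m), mul_ne_zero hl' (mul_ne_zero hκ0 hm), _, hz, ?_⟩
  rw [mcColU_val]
  ext a b
  rw [mcColM_apply, Matrix.transvection, Matrix.add_apply, Matrix.one_apply, Matrix.single_apply]
  congr 1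
  by_cases ham : a = m
  · subst ham
    by_cases hbi : b = i
    · subst hbi
      simp
    · have : ¬ (i = b) := fun h => hbi h.symm
      simp [hbi, this]
  · have hma : ¬ (m = a) := fun h => ham h.symm
    simp [hma]

end Cfsg.Agent.Lib.Helper7.MonoLeaf
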