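import Mathlib
import Cfsg.Prelude.Def_GeometricClasses
import Cfsg.Agent.Lib.Helper18.ReidxDefs

/-!
REINDEX / TRANSPORT block (helper18's market), packet P0a, by helper7.
-/

set_option autoImplicit false
set_option linter.unusedSectionVars false
set_option linter.unusedVariables false

namespace Cfsg.Agent.Lib.Helper7.ReidxLeaf
open Matrix Cfsg Cfsg.Geo Cfsg.Agent.Lib.Helper18.Reidx
open scoped Kronecker

variable {F : Type*} [Field F] {ι κ : Type} [Fintype ι] [DecidableEq ι] [Fintype κ] [DecidableEq κ]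

theorem rm_one (e : ι ≃ κ) : rm e (1 : Matrix ι ι F) = 1 := by
  ext k l
  simp [rm_apply, Matrix.one_apply]

theorem rm_mul (e : ι ≃ κ) (M N : Matrix ι ι F) : rm e (M * N) = rm e M * rm e N := by
  ext k l
  simp only [rm_apply, Matrix.mul_apply]
  exact (Equiv.sum_comp e.symm fun i => M (e.symm k) i * N i (e.symm l)).symm

theorem rm_add (e : ι ≃ κ) (M N : Matrix ι ι F) : rm e (M + N) = rm e M + rm e N := by
  ext k l
  simp [rm_apply]

theorem rm_smul (e : ι ≃ κ) (c : F) (M : Matrix ι ι F) : rm e (c • M) = c • rm e M := by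
  ext k l
  simp [rm_apply]

theorem rm_symm (e : ι ≃ κ) (M : Matrix ι ι F) : rm e.symm (rm e M) = M := by
  ext k l
  simp [rm_apply]

theorem rm_transpose (e : ι ≃ κ) (M : Matrix ι ι F) : rm e Mᵀ = (rm e M)ᵀ := by
  ext k l
  simp [rm_apply]

theorem rm_det (e : ι ≃ κ) (M : Matrix ι ι F) : (rm e M).det = M.det := by
  unfold rm
  exact Matrix.det_reindex_self e M

theorem rm_injective (e : ι ≃ κ) : Function.Injective (rm (F := F) e) := by
  intro M N h
  rw [← rm_symm e M, ← rm_symm e N, h]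

theorem rv_symm_eq (e : ι ≃ κ) (w : κ → F) : (rv e).symm w = rv e.symm w := by
  ext i
  simp [rv_symm_apply, rv_apply]

theorem rv_symm_rv (e : ι ≃ κ) (v : ι → F) : rv e.symm (rv e v) = v := by
  ext i
  simp [rv_apply]

theorem rv_dotProduct (e : ι ≃ κ) (u v : ι → F) : rv e u ⬝ᵥ rv e v = u ⬝ᵥ v := by
  simp only [dotProduct, rv_apply]
  exact Equiv.sum_comp e.symm fun i => u i * v i

theorem rv_single (e : ι ≃ κ) (i : ι) (c : F) : rv e (Pi.single i c) = Pi.single (e i) c := by
  ext k
  simp only [rv_apply, Pi.single_apply]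
  by_cases h : k = e i
  · rw [if_pos h, if_pos (by rw [h, Equiv.symm_apply_apply])]
  · rw [if_neg h, if_neg (fun h' => h (by rw [← h', Equiv.apply_symm_apply]))]

end Cfsg.Agent.Lib.Helper7.ReidxLeaf
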