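import Mathlib
import Cfsg.Prelude.Def_GeometricClasses
import Cfsg.Agent.Lib.Helper18.ReidxDefs
import Cfsg.Agent.Lib.Helper7.ReidxP0a

/-!
REINDEX / TRANSPORT block (helper18's market), packet P0c, by helper7.
-/

set_option autoImplicit false
set_option linter.unusedSectionVars false
set_option linter.unusedVariables false

namespace Cfsg.Agent.Lib.Helper7.ReidxLeaf
open Matrix Cfsg Cfsg.Geo Cfsg.Agent.Lib.Helper18.Reidx
open scoped Kronecker

variable {F : Type*} [Field F] {ι κ : Type} [Fintype ι] [DecidableEq ι] [Fintype κ] [DecidableEq κ]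

theorem glReindex_symm (e : ι ≃ κ) (g : GL ι F) : glReindex e.symm (glReindex e g) = g := by
  apply Units.ext
  rw [glReindex_val, glReindex_val, rm_symm]

/-- the other cancellation -/
theorem glReindex_symm' (e : ι ≃ κ) (g : GL κ F) : glReindex e (glReindex e.symm g) = g := by
  have := glReindex_symm (F := F) e.symm g
  rwa [Equiv.symm_symm] at this

theorem rg_symm (e : ι ≃ κ) (H : Subgroup (GL ι F)) : rg e.symm (rg e H) = H := by
  ext g
  rw [mem_rg]
  constructor
  · rintro ⟨h, hh, rfl⟩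
    rw [mem_rg] at hh
    obtain ⟨h', hh', rfl⟩ := hh
    rw [glReindex_symm]
    exact hh'
  · intro hg
    exact ⟨glReindex e g, mem_rg.2 ⟨g, hg, rfl⟩, glReindex_symm e g⟩

theorem rg_mono (e : ι ≃ κ) {H K : Subgroup (GL ι F)} (h : H ≤ K) : rg e H ≤ rg e K :=
  Subgroup.map_mono h

theorem rg_inf (e : ι ≃ κ) (H K : Subgroup (GL ι F)) : rg e (H ⊓ K) = rg e H ⊓ rg e K := by
  unfold rg
  exact Subgroup.map_inf H K _ (glReindex e).injective

theorem rg_le_iff (e : ι ≃ κ) (H : Subgroup (GL ι F)) (K : Subgroup (GL κ F)) :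
    rg e H ≤ K ↔ H ≤ rg e.symm K := by
  constructor
  · intro h
    have := rg_mono e.symm h
    rwa [rg_symm] at this
  · intro h
    have := rg_mono e h
    have h2 := rg_symm (F := F) e.symm K
    rw [Equiv.symm_symm] at h2
    rwa [h2] at this

theorem rg_commutator (e : ι ≃ κ) (H K : Subgroup (GL ι F)) : rg e ⁅H, K⁆ = ⁅rg e H, rg e K⁆ := by
  unfold rg
  exact Subgroup.map_commutator H K _

theorem rf_symm (e : ι ≃ κ) (f : (ι → F) → (ι → F) → F) : rf e.symm (rf e f) = f := by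
  funext u v
  unfold rf
  rw [rv_symm_eq, rv_symm_eq, rv_symm_eq, rv_symm_eq]
  simp only [Equiv.symm_symm]
  have h : ∀ w : ι → F, rv e.symm (rv e w) = w := rv_symm_rv e
  rw [h, h]

theorem rq_symm (e : ι ≃ κ) (Q : (ι → F) → F) : rq e.symm (rq e Q) = Q := by
  funext v
  unfold rq
  rw [rv_symm_eq, rv_symm_eq]
  simp only [Equiv.symm_symm]
  rw [rv_symm_rv]

theorem ra_symm (e : ι ≃ κ) (K : Subalgebra F (Matrix ι ι F)) : ra e.symm (ra e K) = K := by
  ext M
  rw [mem_ra]
  constructor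
  · rintro ⟨k, hk, rfl⟩
    rw [mem_ra] at hk
    obtain ⟨k', hk', rfl⟩ := hk
    rw [rm_symm]
    exact hk'
  · intro hM
    exact ⟨rm e M, mem_ra.2 ⟨M, hM, rfl⟩, rm_symm e M⟩

theorem polar_rq (e : ι ≃ κ) (Q : (ι → F) → F) : QuadraticMap.polar (rq e Q) = rf e (QuadraticMap.polar Q) := by
  funext u v
  unfold rf rq QuadraticMap.polar
  simp only [map_add]

end Cfsg.Agent.Lib.Helper7.ReidxLeaf
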