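import Mathlib
import Cfsg.Prelude.Def_GeometricClasses
import Cfsg.Agent.Lib.Helper18.ReidxDefs
import Cfsg.Agent.Lib.Helper7.ReidxP0a
import Cfsg.Agent.Lib.Helper7.ReidxP0c

/-!
REINDEX / TRANSPORT block (helper18's market), packet P1, by helper7.
-/

set_option autoImplicit false
set_option linter.unusedSectionVars false
set_option linter.unusedVariables false

namespace Cfsg.Agent.Lib.Helper7.ReidxLeaf
open Matrix Cfsg Cfsg.Geo Cfsg.Agent.Lib.Helper18.Reidx
open scoped Kronecker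

variable {F : Type*} [Field F] {ι κ : Type} [Fintype ι] [DecidableEq ι] [Fintype κ] [DecidableEq κ]

/-- membership of a pushed element in a pushed subgroup -/
lemma glReindex_mem_rg (e : ι ≃ κ) (H : Subgroup (GL ι F)) (h : GL ι F) :
    glReindex e h ∈ rg e H ↔ h ∈ H := by
  rw [mem_rg]
  constructor
  · rintro ⟨h', hh', he⟩
    rwa [← (glReindex e).injective he]
  · intro hh
    exact ⟨h, hh, rfl⟩

/-- criterion for `rg e H = K` -/
lemma rg_eq_of_forall (e : ι ≃ κ) (H : Subgroup (GL ι F)) (K : Subgroup (GL κ F))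
    (hK : ∀ h : GL ι F, h ∈ H ↔ glReindex e h ∈ K) : rg e H = K := by
  ext g
  have hg : g = glReindex e (glReindex e.symm g) := (glReindex_symm' e g).symm
  rw [hg, glReindex_mem_rg, hK]

lemma rv_mem_rs (e : ι ≃ κ) (W : Submodule F (ι → F)) (v : ι → F) : rv e v ∈ rs e W ↔ v ∈ W := by
  rw [mem_rs]
  constructor
  · rintro ⟨v', hv', he⟩
    rwa [← (rv (F := F) e).injective he]
  · intro hv
    exact ⟨v, hv, rfl⟩

lemma exists_rv (e : ι ≃ κ) (w : κ → F) : ∃ v : ι → F, rv e v = w :=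
  ⟨(rv e).symm w, LinearEquiv.apply_symm_apply _ _⟩

lemma rs_injective (e : ι ≃ κ) : Function.Injective (rs (F := F) e) := by
  intro W W' h
  ext v
  rw [← rv_mem_rs e W, ← rv_mem_rs e W', h]

/-- (own copy of the P0b leaf) -/
lemma rs_map_toLin_aux (e : ι ≃ κ) (M : Matrix ι ι F) (W : Submodule F (ι → F)) :
    (rs e W).map (Matrix.toLin' (rm e M)) = rs e (W.map (Matrix.toLin' M)) := by
  ext w
  constructor
  · rintro ⟨u, hu, rfl⟩
    obtain ⟨v, hv, rfl⟩ := mem_rs.1 hu
    rw [Matrix.toLin'_apply, rm_mulVec]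
    exact (rv_mem_rs e _ _).2 ⟨v, hv, by rw [Matrix.toLin'_apply]⟩
  · intro hw
    obtain ⟨u, hu, rfl⟩ := mem_rs.1 hw
    obtain ⟨v, hv, rfl⟩ := hu
    refine ⟨rv e v, (rv_mem_rs e W v).2 hv, ?_⟩
    rw [Matrix.toLin'_apply, rm_mulVec, Matrix.toLin'_apply]

theorem rg_subspaceStabilizer (e : ι ≃ κ) (W : Submodule F (ι → F)) :
    rg e (subspaceStabilizer W) = subspaceStabilizer (rs e W) := by
  apply rg_eq_of_forall
  intro h
  constructor
  · intro hh w
    obtain ⟨v, rfl⟩ := exists_rv e w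
    have h1 := hh v
    change v ∈ W ↔ (h : Matrix ι ι F) *ᵥ v ∈ W at h1
    change rv e v ∈ rs e W ↔ ((glReindex e h : GL κ F) : Matrix κ κ F) *ᵥ rv e v ∈ rs e W
    rw [glReindex_val, rm_mulVec, rv_mem_rs, rv_mem_rs]
    exact h1
  · intro hh v
    have h1 := hh (rv e v)
    change rv e v ∈ rs e W ↔ ((glReindex e h : GL κ F) : Matrix κ κ F) *ᵥ rv e v ∈ rs e W at h1
    rw [glReindex_val, rm_mulVec, rv_mem_rs, rv_mem_rs] at h1
    exact h1

theorem isMDecomposition_rs (e : ι ≃ κ) {t m : ℕ} {D : Fin t → Submodule F (ι → F)} (h : IsMDecomposition m D) :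
    IsMDecomposition m (fun i => rs e (D i)) := by
  refine ⟨h.two_le, h.pos, ?_, ?_, ?_⟩
  · intro i
    rw [← h.finrank_eq i]
    exact LinearEquiv.finrank_map_eq (rv e) (D i)
  · have := (iSupIndep_map_orderIso_iff (Submodule.orderIsoMapComap (rv (F := F) e))).2 h.indep
    exact this
  · have h1 : (⨆ i, rs e (D i)) = rs e (⨆ i, D i) := by
      unfold rs
      rw [Submodule.map_iSup]
    change (⨆ i, rs e (D i)) = ⊤
    rw [h1, h.iSup_eq_top]
    unfold rs
    rw [Submodule.map_top]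
    exact LinearEquiv.range _

theorem rg_decompositionStabilizer (e : ι ≃ κ) {t : ℕ} (D : Fin t → Submodule F (ι → F)) :
    rg e (decompositionStabilizer D) = decompositionStabilizer (fun i => rs e (D i)) := by
  apply rg_eq_of_forall
  intro h
  constructor
  · rintro ⟨σ, hσ⟩
    refine ⟨σ, fun i => ?_⟩
    change (rs e (D i)).map (Matrix.toLin' ((glReindex e h : GL κ F) : Matrix κ κ F)) = rs e (D (σ i))
    rw [glReindex_val, rs_map_toLin_aux, hσ]
  · rintro ⟨σ, hσ⟩
    refine ⟨σ, fun i => ?_⟩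
    have h1 := hσ i
    change (rs e (D i)).map (Matrix.toLin' ((glReindex e h : GL κ F) : Matrix κ κ F)) = rs e (D (σ i)) at h1
    rw [glReindex_val, rs_map_toLin_aux] at h1
    exact rs_injective e h1

end Cfsg.Agent.Lib.Helper7.ReidxLeaf
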