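import Cfsg.Agent.Lib.Helper3.BNParabolic

/-! Counting in finite groups with a (B,N)-pair: `|B w B| = q^{ℓ(w)} |B|` when `|B s B| = q |B|` for the
distinguished generators, and `|G| = |B| Σ_w q^{ℓ(w)}` (helper7). -/

set_option autoImplicit false

namespace Cfsg.Agent.Lib.Helper7

open Cfsg Cfsg.Agent.Lib.Helper3.BN Cfsg.Agent.Lib.Helper3.WordLen

variable {G : Type*} [Group G] (P : Cfsg.BNPair G)

local notation "ℓ" => len (Sbar P)

theorem C_mul_C {s : G} (hs : s ∈ P.S) {w : W P} (hle : ℓ w ≤ ℓ (sb P s hs * w)) {a b : G}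
    (ha : a ∈ C P (sb P s hs)) (hb : b ∈ C P w) : a * b ∈ C P (sb P s hs * w) := by
  rw [sb, C_mk, mem_dc] at ha
  obtain ⟨b₁, hb₁, b₂, hb₂, rfl⟩ := ha
  have h1 : b₂ * b ∈ C P w := C_mul_left P hb hb₂
  have h2 := A_lemma P hs hle h1
  have h3 := C_mul_left P h2 hb₁
  have e : b₁ * s * b₂ * b = b₁ * (s * (b₂ * b)) := by group
  rw [e]; exact h3

theorem inv_mul_mem_B_or_C {s : G} (hs : s ∈ P.S) {a a' : G} (ha : a ∈ C P (sb P s hs))
    (ha' : a' ∈ C P (sb P s hs)) : a⁻¹ * a' ∈ P.B ∨ a⁻¹ * a' ∈ C P (sb P s hs) := by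
  have hai := C_inv P ha
  rw [sb_inv] at hai
  rw [sb, C_mk, mem_dc] at hai
  obtain ⟨b₁, hb₁, b₂, hb₂, he⟩ := hai
  have h1 : b₂ * a' ∈ C P (sb P s hs) := C_mul_left P ha' hb₂
  have h2 := W_axiom_left P hs h1
  rw [sb_sq, C_one] at h2
  have e : a⁻¹ * a' = b₁ * (s * (b₂ * a')) := by rw [he]; group
  rw [e]
  rcases h2 with h2 | h2
  · left; exact P.B.mul_mem hb₁ h2
  · right; exact C_mul_left P h2 hb₁

theorem exists_mul_of_mem_C {s : G} (hs : s ∈ P.S) (w : W P) {x : G} (hx : x ∈ C P (sb P s hs * w)) :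
    ∃ a ∈ C P (sb P s hs), ∃ b ∈ C P w, x = a * b := by
  obtain ⟨n, hn, rfl⟩ := mkW_surj P w
  have : sb P s hs * mkW P n hn = mkW P (s * n) (P.N.mul_mem (P.subset hs) hn) := rfl
  rw [this, C_mk, mem_dc] at hx
  obtain ⟨b₁, hb₁, b₂, hb₂, rfl⟩ := hx
  refine ⟨b₁ * s, ?_, n * b₂, ?_, by group⟩
  · exact C_mul_left P (self_mem_C P (P.subset hs)) hb₁
  · exact C_mul_right P (self_mem_C P hn) hb₂

variable [Finite G]

/-- `|B s w B| · |B| = |B s B| · |B w B|` when `ℓ(sw) > ℓ(w)` -/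
theorem card_C_mul {s : G} (hs : s ∈ P.S) {w : W P} (hlt : ℓ w < ℓ (sb P s hs * w)) :
    Nat.card (C P (sb P s hs * w)) * Nat.card P.B =
      Nat.card (C P (sb P s hs)) * Nat.card (C P w) := by
  classical
  have hdec : ∀ x : C P (sb P s hs * w), ∃ p : G × G, p.1 ∈ C P (sb P s hs) ∧ p.2 ∈ C P w ∧
      (x : G) = p.1 * p.2 := by
    intro x
    obtain ⟨a, ha, b, hb, he⟩ := exists_mul_of_mem_C P hs w x.2
    exact ⟨(a, b), ha, hb, he⟩
  choose dec hdec1 hdec2 hdec3 using hdec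
  let f : P.B × C P (sb P s hs * w) → C P (sb P s hs) × C P w := fun p =>
    (⟨(dec p.2).1 * (p.1 : G), C_mul_right P (hdec1 p.2) p.1.2⟩,
     ⟨(p.1 : G)⁻¹ * (dec p.2).2, C_mul_left P (hdec2 p.2) (P.B.inv_mem p.1.2)⟩)
  have hprod : ∀ p, (((f p).1 : G)) * ((f p).2 : G) = (p.2 : G) := by
    intro p
    show (dec p.2).1 * (p.1 : G) * ((p.1 : G)⁻¹ * (dec p.2).2) = _
    rw [hdec3 p.2]; group
  have hinj : Function.Injective f := by
    intro p p' h
    have hx : p.2 = p'.2 := by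
      apply Subtype.ext
      rw [← hprod p, ← hprod p', h]
    have h1 : ((f p).1 : G) = ((f p').1 : G) := by rw [h]
    have h1' : (dec p.2).1 * (p.1 : G) = (dec p'.2).1 * (p'.1 : G) := h1
    rw [hx] at h1'
    have hb : p.1 = p'.1 := Subtype.ext (mul_left_cancel h1')
    exact Prod.ext hb hx
  have hsurj : Function.Surjective f := by
    rintro ⟨⟨a, ha⟩, ⟨b', hb'⟩⟩
    have hx : a * b' ∈ C P (sb P s hs * w) := C_mul_C P hs (le_of_lt hlt) ha hb'
    set x : C P (sb P s hs * w) := ⟨a * b', hx⟩ with hxdef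
    have he : a * b' = (dec x).1 * (dec x).2 := hdec3 x
    rcases inv_mul_mem_B_or_C P hs (hdec1 x) ha with hy | hy
    · refine ⟨(⟨(dec x).1⁻¹ * a, hy⟩, x), ?_⟩
      apply Prod.ext
      · apply Subtype.ext
        show (dec x).1 * ((dec x).1⁻¹ * a) = a
        group
      · apply Subtype.ext
        show ((dec x).1⁻¹ * a)⁻¹ * (dec x).2 = b'
        have : (dec x).2 = (dec x).1⁻¹ * (a * b') := by rw [he]; group
        rw [this]; group
    · exfalso
      have h1 : (dec x).1⁻¹ * a * b' ∈ C P (sb P s hs * w) := C_mul_C P hs (le_of_lt hlt) hy hb'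
      have h2 : (dec x).1⁻¹ * a * b' = (dec x).2 := by
        rw [mul_assoc, he]; group
      rw [h2] at h1
      have h3 := eq_of_common P h1 (hdec2 x)
      exact sb_ne_one P hs (mul_eq_right.mp h3)
  have hcard := Nat.card_congr (Equiv.ofBijective f ⟨hinj, hsurj⟩)
  rw [Nat.card_prod, Nat.card_prod] at hcard
  rw [mul_comm, hcard]

/-- `|B w B| = q^{ℓ(w)} |B|` -/
theorem card_C (q : ℕ) (hq : ∀ s, ∀ hs : s ∈ P.S, Nat.card (C P (sb P s hs)) = q * Nat.card P.B) :
    ∀ (k : ℕ) (w : W P), ℓ w = k → Nat.card (C P w) = q ^ k * Nat.card P.B := by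
  have hS := Sbar_sq P
  have hgen := Sbar_closure P
  intro k
  induction k with
  | zero =>
    intro w hw
    rw [len_eq_zero_iff hS hgen] at hw
    rw [hw, C_one, pow_zero, one_mul]
    rfl
  | succ k ih =>
    intro w hw
    obtain ⟨t, ht, hlen⟩ := exists_cons hS hgen hw
    obtain ⟨s, hs, rfl⟩ := exists_sb_of_mem P ht
    have hw' : sb P s hs * (sb P s hs * w) = w := sb_mul_cancel P hs w
    have hlt : ℓ (sb P s hs * w) < ℓ (sb P s hs * (sb P s hs * w)) := by rw [hw', hlen, hw]; omega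
    have h1 := card_C_mul P hs hlt
    rw [hw', hq s hs, ih _ hlen] at h1
    have hBpos : 0 < Nat.card P.B := Nat.card_pos
    have : Nat.card (C P w) * Nat.card P.B = (q ^ (k + 1) * Nat.card P.B) * Nat.card P.B := by
      rw [h1]; ring
    exact Nat.eq_of_mul_eq_mul_right hBpos this

/-- `|G| = |B| Σ_w q^{ℓ(w)}` -/
theorem card_eq_sum_cells [Fintype (W P)] : Nat.card G = ∑ w : W P, Nat.card (C P w) := by
  classical
  have hex : ∀ g : G, ∃ w, g ∈ C P w := exists_C P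
  choose wOf hwOf using hex
  let e : G ≃ Σ w : W P, C P w :=
    { toFun := fun g => ⟨wOf g, g, hwOf g⟩
      invFun := fun p => (p.2 : G)
      left_inv := fun g => rfl
      right_inv := by
        rintro ⟨w, g, hg⟩
        have : wOf g = w := eq_of_common P (hwOf g) hg
        subst this
        rfl }
  rw [Nat.card_congr e, Nat.card_sigma]

theorem card_eq_sum_pow [Fintype (W P)] (q : ℕ)
    (hq : ∀ s, ∀ hs : s ∈ P.S, Nat.card (C P (sb P s hs)) = q * Nat.card P.B) :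
    Nat.card G = Nat.card P.B * ∑ w : W P, q ^ ℓ w := by
  rw [card_eq_sum_cells P, Finset.mul_sum]
  apply Finset.sum_congr rfl
  intro w _
  rw [card_C P q hq _ w rfl, mul_comm]

end Cfsg.Agent.Lib.Helper7
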