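import Mathlib
import Cfsg.Prelude.Def_GeometricClasses
import Cfsg.Prelude.Def_LieClassical
import Cfsg.Agent.Lib.Helper20.UTDefs
import Cfsg.Agent.Lib.Helper22.UnitRA
import Cfsg.Agent.Lib.Helper15.TT

/-!
S5670 leaves (T): TO `exists_onb`, TG `formOfGram_kel`, TT `transportU`: the frozen conclusion (tensor product subgroup of two arbitrary unitary
forms, reindexed by `e` and conjugated by `P`, inside `GU_n ∩ SL_n` for the standard hermitian form)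
from the model statement on `Fin n₁ × Fin n₂` with all three hermitian forms standard.

`φ := conj R ≫ glReindex e.symm ≫ conj P` with `R = P₁ ⊗ P₂`, `P_i` an orthonormal basis of `f_i`;
`L x := P ((R x) ∘ e)` intertwines and is a similarity `herm (L x) (L y) = c * hv x y`.
-/

set_option autoImplicit false
set_option linter.unusedSectionVars false
set_option linter.unusedVariables false

namespace Cfsg.Agent.Lib.Helper7.UTTLeaf
open Matrix
open Cfsg.Agent.Lib.Helper25.Tens Cfsg.Agent.Lib.Helper25.TensLeaf Cfsg.Agent.Lib.Helper20.UT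
open Cfsg.Agent.Lib.Helper15 Cfsg.Agent.Lib.Helper15.TensLeaf
open scoped Kronecker

variable {F : Type*} [Field F] [Fintype F] {q : ℕ}

/-- a unitary form is given by its Gram matrix -/
lemma form_eq_gram {m : ℕ} (hF : Fintype.card F = q ^ 2) (f : (Fin m → F) → (Fin m → F) → F)
    (hf : Cfsg.Geo.IsUnitaryFormPow q f) (x y : Fin m → F) :
    f x y = ∑ a, ∑ b, x a * Cfsg.Geo.gramMatrix f a b * (y b) ^ q := by
  have hh : HermSub.IsHerm q f := ⟨hf.add_left, hf.smul_left, hf.herm⟩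
  have hx : x = ∑ a, x a • (Pi.single a (1 : F) : Fin m → F) := by
    ext i
    simp [Finset.sum_apply, Pi.single_apply]
  have hy : y = ∑ b, y b • (Pi.single b (1 : F) : Fin m → F) := by
    ext i
    simp [Finset.sum_apply, Pi.single_apply]
  conv_lhs => rw [hx, hh.sum_left]
  apply Finset.sum_congr rfl
  intro a _
  rw [hh.smul_left]
  conv_lhs => rw [hy, hh.sum_right hF]
  rw [Finset.mul_sum]
  apply Finset.sum_congr rfl
  intro b _
  rw [hh.smul_right hF]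
  unfold Cfsg.Geo.gramMatrix
  ring

/-- the tensor product form of two Gram matrices -/
def Tf {a b : ℕ} (q : ℕ) (G₁ : Matrix (Fin a) (Fin a) F) (G₂ : Matrix (Fin b) (Fin b) F)
    (x y : Idx a b → F) : F :=
  Cfsg.Geo.formOfGram (fun t : F => t ^ q) (G₁ ⊗ₖ G₂) x y

section Tf
variable {a b : ℕ} (G₁ : Matrix (Fin a) (Fin a) F) (G₂ : Matrix (Fin b) (Fin b) F)

lemma Tf_add_left (x x' y : Idx a b → F) :
    Tf q G₁ G₂ (x + x') y = Tf q G₁ G₂ x y + Tf q G₁ G₂ x' y := by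
  simp only [Tf, Cfsg.Geo.formOfGram, Pi.add_apply, add_mul, Finset.sum_add_distrib]

lemma Tf_add_right (hF : Fintype.card F = q ^ 2) (x y y' : Idx a b → F) :
    Tf q G₁ G₂ x (y + y') = Tf q G₁ G₂ x y + Tf q G₁ G₂ x y' := by
  simp only [Tf, Cfsg.Geo.formOfGram, Pi.add_apply, add_pow_q hF, mul_add, Finset.sum_add_distrib]

lemma Tf_zero_left (y : Idx a b → F) : Tf q G₁ G₂ 0 y = 0 := by
  simp [Tf, Cfsg.Geo.formOfGram]

lemma q_ne_zero (hF : Fintype.card F = q ^ 2) : q ≠ 0 := by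
  rintro rfl
  have : 2 ≤ Fintype.card F := Fintype.one_lt_card
  omega

lemma Tf_zero_right (hF : Fintype.card F = q ^ 2) (x : Idx a b → F) : Tf q G₁ G₂ x 0 = 0 := by
  simp [Tf, Cfsg.Geo.formOfGram, zero_pow (q_ne_zero hF)]

lemma Tf_pt (x x' : Fin a → F) (y y' : Fin b → F) :
    Tf q G₁ G₂ (pt x y) (pt x' y') =
      (∑ i, ∑ i', x i * G₁ i i' * (x' i') ^ q) * (∑ l, ∑ l', y l * G₂ l l' * (y' l') ^ q) := by
  simp only [Tf, Cfsg.Geo.formOfGram, pt, Fintype.sum_prod_type, Matrix.kroneckerMap_apply,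
    mul_pow]
  rw [Finset.sum_mul_sum]
  apply Finset.sum_congr rfl
  intro i _
  apply Finset.sum_congr rfl
  intro l _
  rw [Finset.sum_mul_sum]
  apply Finset.sum_congr rfl
  intro i' _
  apply Finset.sum_congr rfl
  intro l' _
  ring

end Tf

/-- induction over sums of pure tensors -/
theorem pt_ind {a b : ℕ} {p : (Idx a b → F) → Prop} (h0 : p 0)
    (hadd : ∀ v w, p v → p w → p (v + w)) (hpt : ∀ (x : Fin a → F) (y : Fin b → F), p (pt x y)) :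
    ∀ v, p v := by
  intro v
  rw [eq_sum_pt v]
  apply Finset.sum_induction _ p hadd h0
  intro i _
  apply Finset.sum_induction _ p hadd h0
  intro l _
  rw [← pt_smul_left]
  exact hpt _ _

/-- in orthonormal coordinates the tensor product form is the standard hermitian form -/
theorem Tf_kel {a b : ℕ} (hF : Fintype.card F = q ^ 2)
    (f₁ : (Fin a → F) → (Fin a → F) → F) (f₂ : (Fin b → F) → (Fin b → F) → F)
    (hf₁ : Cfsg.Geo.IsUnitaryFormPow q f₁) (hf₂ : Cfsg.Geo.IsUnitaryFormPow q f₂)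
    (P₁ : GL (Fin a) F) (P₂ : GL (Fin b) F)
    (hP₁ : ∀ x x' : Fin a → F, f₁ ((P₁ : Matrix (Fin a) (Fin a) F) *ᵥ x)
      ((P₁ : Matrix (Fin a) (Fin a) F) *ᵥ x') = Cfsg.hermForm a F q x x')
    (hP₂ : ∀ y y' : Fin b → F, f₂ ((P₂ : Matrix (Fin b) (Fin b) F) *ᵥ y)
      ((P₂ : Matrix (Fin b) (Fin b) F) *ᵥ y') = Cfsg.hermForm b F q y y')
    (v w : Idx a b → F) :
    Tf q (Cfsg.Geo.gramMatrix f₁) (Cfsg.Geo.gramMatrix f₂)
      (((kel P₁ P₂ : GL (Idx a b) F) : Matrix (Idx a b) (Idx a b) F) *ᵥ v)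
      (((kel P₁ P₂ : GL (Idx a b) F) : Matrix (Idx a b) (Idx a b) F) *ᵥ w) = hv q v w := by
  revert w
  revert v
  apply pt_ind
  · intro w
    rw [Matrix.mulVec_zero, Tf_zero_left, hv_zero_left]
  · intro v v' hv1 hv2 w
    rw [Matrix.mulVec_add, Tf_add_left, hv1, hv2, hv_add_left]
  · intro x y
    apply pt_ind
    · rw [Matrix.mulVec_zero, Tf_zero_right _ _ hF, hv_zero_right hF]
    · intro w w' hw1 hw2
      rw [Matrix.mulVec_add, Tf_add_right _ _ hF, hw1, hw2, hv_add_right hF]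
    · intro x' y'
      rw [kel_mulVec_pt, kel_mulVec_pt, Tf_pt, ← form_eq_gram hF f₁ hf₁, ← form_eq_gram hF f₂ hf₂,
        hP₁, hP₂, hv_pt]
      rfl

/-- reindexed matrices act on reindexed vectors -/
lemma glReindex_mulVec {κ ι : Type} [Fintype κ] [DecidableEq κ] [Fintype ι] [DecidableEq ι]
    (e : ι ≃ κ) (g : GL κ F) (v : κ → F) :
    ((Cfsg.Geo.glReindex (F := F) e.symm g : GL ι F) : Matrix ι ι F) *ᵥ (v ∘ e) =
      ((g : Matrix κ κ F) *ᵥ v) ∘ e := by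
  change (Matrix.reindexAlgEquiv F F e.symm (g : Matrix κ κ F)) *ᵥ (v ∘ e) = _
  rw [Matrix.coe_reindexAlgEquiv, Matrix.reindex_apply, Matrix.submatrix_mulVec_equiv]
  simp [Function.comp_assoc]

section main
variable {n n₁ n₂ : ℕ}

/-- the isomorphism `conj R ≫ glReindex e.symm ≫ conj P` -/
def tphi (e : Fin n ≃ Fin n₁ × Fin n₂) (P : GL (Fin n) F) (R : GL (Idx n₁ n₂) F) :
    GL (Idx n₁ n₂) F ≃* GL (Fin n) F :=
  (MulAut.conj R).trans ((Cfsg.Geo.glReindex (F := F) e.symm).trans (MulAut.conj P))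

/-- the similarity `L x = P ((R x) ∘ e)` -/
def tL (e : Fin n ≃ Fin n₁ × Fin n₂) (P : GL (Fin n) F) (R : GL (Idx n₁ n₂) F)
    (x : Idx n₁ n₂ → F) : Fin n → F :=
  (P : Matrix (Fin n) (Fin n) F) *ᵥ ((((R : Matrix (Idx n₁ n₂) (Idx n₁ n₂) F)) *ᵥ x) ∘ e)

lemma gl_inv_mulVec' {ι : Type} [Fintype ι] [DecidableEq ι] (m : GL ι F) (v : ι → F) :
    ((m⁻¹ : GL ι F) : Matrix ι ι F) *ᵥ ((m : Matrix ι ι F) *ᵥ v) = v := by
  rw [Matrix.mulVec_mulVec, ← Units.val_mul, inv_mul_cancel, Units.val_one, Matrix.one_mulVec]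

lemma gl_mulVec_inv' {ι : Type} [Fintype ι] [DecidableEq ι] (m : GL ι F) (v : ι → F) :
    (m : Matrix ι ι F) *ᵥ (((m⁻¹ : GL ι F) : Matrix ι ι F) *ᵥ v) = v := by
  rw [Matrix.mulVec_mulVec, ← Units.val_mul, mul_inv_cancel, Units.val_one, Matrix.one_mulVec]

lemma tphi_mulVec (e : Fin n ≃ Fin n₁ × Fin n₂) (P : GL (Fin n) F) (R : GL (Idx n₁ n₂) F)
    (g : GL (Idx n₁ n₂) F) (x : Idx n₁ n₂ → F) :
    ((tphi e P R g : GL (Fin n) F) : Matrix (Fin n) (Fin n) F) *ᵥ tL e P R x =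
      tL e P R ((g : Matrix (Idx n₁ n₂) (Idx n₁ n₂) F) *ᵥ x) := by
  have h1 : tphi e P R g = P * Cfsg.Geo.glReindex (F := F) e.symm (R * g * R⁻¹) * P⁻¹ := rfl
  rw [h1]
  unfold tL
  rw [Units.val_mul, Units.val_mul, ← Matrix.mulVec_mulVec, ← Matrix.mulVec_mulVec, gl_inv_mulVec',
    glReindex_mulVec, Units.val_mul, Units.val_mul, ← Matrix.mulVec_mulVec, ← Matrix.mulVec_mulVec,
    gl_inv_mulVec']

lemma tL_surjective (e : Fin n ≃ Fin n₁ × Fin n₂) (P : GL (Fin n) F) (R : GL (Idx n₁ n₂) F)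
    (u : Fin n → F) : ∃ x, tL e P R x = u := by
  refine ⟨((R⁻¹ : GL (Idx n₁ n₂) F) : Matrix (Idx n₁ n₂) (Idx n₁ n₂) F) *ᵥ
    ((((P⁻¹ : GL (Fin n) F) : Matrix (Fin n) (Fin n) F) *ᵥ u) ∘ e.symm), ?_⟩
  unfold tL
  rw [gl_mulVec_inv']
  have : ((((P⁻¹ : GL (Fin n) F) : Matrix (Fin n) (Fin n) F) *ᵥ u) ∘ e.symm) ∘ e =
      ((P⁻¹ : GL (Fin n) F) : Matrix (Fin n) (Fin n) F) *ᵥ u := by
    ext i
    simp
  rw [this, gl_mulVec_inv']

/-- `φ` maps the isometry group of the model onto `GU` -/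
theorem map_GUI (e : Fin n ≃ Fin n₁ × Fin n₂) (P : GL (Fin n) F) (R : GL (Idx n₁ n₂) F)
    (c : F) (hc : c ≠ 0)
    (hL : ∀ x y : Idx n₁ n₂ → F,
      Cfsg.hermForm n F q (tL e P R x) (tL e P R y) = c * hv q x y) :
    (GUI n₁ n₂ q F).map (tphi e P R).toMonoidHom = Cfsg.GU n F q := by
  have key : ∀ g : GL (Idx n₁ n₂) F, g ∈ GUI n₁ n₂ q F ↔ tphi e P R g ∈ Cfsg.GU n F q := by
    intro g
    constructor
    · intro hg u v
      obtain ⟨x, rfl⟩ := tL_surjective e P R u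
      obtain ⟨y, rfl⟩ := tL_surjective e P R v
      change Cfsg.hermForm n F q (((tphi e P R g : GL (Fin n) F) : Matrix (Fin n) (Fin n) F) *ᵥ _)
        (((tphi e P R g : GL (Fin n) F) : Matrix (Fin n) (Fin n) F) *ᵥ _) = _
      rw [tphi_mulVec, tphi_mulVec, hL, hL]
      congr 1
      exact hg x y
    · intro hg x y
      have h1 := hg (tL e P R x) (tL e P R y)
      change Cfsg.hermForm n F q (((tphi e P R g : GL (Fin n) F) : Matrix (Fin n) (Fin n) F) *ᵥ _)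
        (((tphi e P R g : GL (Fin n) F) : Matrix (Fin n) (Fin n) F) *ᵥ _) = _ at h1
      rw [tphi_mulVec, tphi_mulVec, hL, hL] at h1
      exact mul_left_cancel₀ hc h1
  ext x
  rw [Subgroup.mem_map]
  constructor
  · rintro ⟨g, hg, rfl⟩
    exact (key g).mp hg
  · intro hx
    refine ⟨(tphi e P R).symm x, ?_, by simp⟩
    rw [key, MulEquiv.apply_symm_apply]
    exact hx

theorem map_KG (e : Fin n ≃ Fin n₁ × Fin n₂) (P : GL (Fin n) F) (R : GL (Idx n₁ n₂) F)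
    (hR : R ∈ KG n₁ n₂ F) :
    (KG n₁ n₂ F).map (tphi e P R).toMonoidHom = Cfsg.Geo.tensorProductSubgroup n₁ n₂ e P := by
  have h1 : (KG n₁ n₂ F).map (MulAut.conj R).toMonoidHom = KG n₁ n₂ F := by
    ext x
    rw [Subgroup.mem_map]
    constructor
    · rintro ⟨y, hy, rfl⟩
      change R * y * R⁻¹ ∈ KG n₁ n₂ F
      exact (KG n₁ n₂ F).mul_mem ((KG n₁ n₂ F).mul_mem hR hy) ((KG n₁ n₂ F).inv_mem hR)
    · intro hx
      refine ⟨R⁻¹ * x * R, (KG n₁ n₂ F).mul_mem ((KG n₁ n₂ F).mul_mem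
        ((KG n₁ n₂ F).inv_mem hR) hx) hR, ?_⟩
      change R * (R⁻¹ * x * R) * R⁻¹ = x
      group
  have h2 : (KG n₁ n₂ F).map (tphi e P R).toMonoidHom =
      ((KG n₁ n₂ F).map (MulAut.conj R).toMonoidHom).map
        ((Cfsg.Geo.glReindex (F := F) e.symm).trans (MulAut.conj P)).toMonoidHom := by
    rw [Subgroup.map_map]
    rfl
  rw [h2, h1]
  unfold Cfsg.Geo.tensorProductSubgroup
  rw [Subgroup.map_map]
  rfl

theorem map_SLG (e : Fin n ≃ Fin n₁ × Fin n₂) (P : GL (Fin n) F) (R : GL (Idx n₁ n₂) F) :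
    (SLG n₁ n₂ F).map (tphi e P R).toMonoidHom = Cfsg.Geo.specialLinear (Fin n) F := by
  apply tt_map_specialLinear
  intro g
  have h1 : tphi e P R g = MulAut.conj P (Cfsg.Geo.glReindex (F := F) e.symm (MulAut.conj R g)) :=
    rfl
  rw [h1, tt_det_conj, tt_det_glReindex, tt_det_conj]

/-- the transporting isomorphism and its three images -/
theorem exists_transport (hF : Fintype.card F = q ^ 2)
    (e : Fin n ≃ Fin n₁ × Fin n₂) (P : GL (Fin n) F)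
    (f₁ : (Fin n₁ → F) → (Fin n₁ → F) → F) (f₂ : (Fin n₂ → F) → (Fin n₂ → F) → F)
    (hf₁ : Cfsg.Geo.IsUnitaryFormPow q f₁) (hf₂ : Cfsg.Geo.IsUnitaryFormPow q f₂)
    (hT : Cfsg.Geo.IsTensorFormStructure (fun x : F => x ^ q) (Cfsg.hermForm n F q) f₁ f₂ e P) :
    ∃ φ : GL (Idx n₁ n₂) F ≃* GL (Fin n) F,
      (KG n₁ n₂ F).map φ.toMonoidHom = Cfsg.Geo.tensorProductSubgroup n₁ n₂ e P ∧
      (GS n₁ n₂ q F).map φ.toMonoidHom =
        Cfsg.GU n F q ⊓ Cfsg.Geo.specialLinear (Fin n) F := by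
  obtain ⟨P₁, hP₁⟩ := Cfsg.Agent.Lib.Helper22.UnitR.exists_std_basis hF n₁ f₁ hf₁
  obtain ⟨P₂, hP₂⟩ := Cfsg.Agent.Lib.Helper22.UnitR.exists_std_basis hF n₂ f₂ hf₂
  obtain ⟨c, hc, hTc⟩ := hT
  set R : GL (Idx n₁ n₂) F := kel P₁ P₂ with hR
  have hL : ∀ x y : Idx n₁ n₂ → F,
      Cfsg.hermForm n F q (tL e P R x) (tL e P R y) = c * hv q x y := by
    intro x y
    unfold tL
    rw [hTc]
    congr 1
    exact Tf_kel hF f₁ f₂ hf₁ hf₂ P₁ P₂ hP₁ hP₂ x y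
  refine ⟨tphi e P R, map_KG e P R (kel_mem_KG _ _), ?_⟩
  unfold GS
  rw [Subgroup.map_inf _ _ _ (tphi e P R).injective, map_GUI e P R c hc hL, map_SLG]

/-- (T) transport of S5670 -/
theorem transport (hF : Fintype.card F = q ^ 2)
    (e : Fin n ≃ Fin n₁ × Fin n₂) (P : GL (Fin n) F)
    (f₁ : (Fin n₁ → F) → (Fin n₁ → F) → F) (f₂ : (Fin n₂ → F) → (Fin n₂ → F) → F)
    (hf₁ : Cfsg.Geo.IsUnitaryFormPow q f₁) (hf₂ : Cfsg.Geo.IsUnitaryFormPow q f₂)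
    (hT : Cfsg.Geo.IsTensorFormStructure (fun x : F => x ^ q) (Cfsg.hermForm n F q) f₁ f₂ e P)
    (hcore : Cfsg.Geo.IsMaximalIn (GS n₁ n₂ q F) (KG n₁ n₂ F ⊓ GS n₁ n₂ q F)) :
    Cfsg.Geo.IsMaximalIn (Cfsg.GU n F q ⊓ Cfsg.Geo.specialLinear (Fin n) F)
      (Cfsg.Geo.tensorProductSubgroup n₁ n₂ e P ⊓
        (Cfsg.GU n F q ⊓ Cfsg.Geo.specialLinear (Fin n) F)) := by
  obtain ⟨φ, hK, hG⟩ := exists_transport hF e P f₁ f₂ hf₁ hf₂ hT
  have key := tt_isMaximalIn_map φ hcore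
  rw [Subgroup.map_inf _ _ _ φ.injective, hK, hG] at key
  exact key

/-- (TO) a non-degenerate hermitian form on `F^n` (`|F| = q²`) has an orthonormal basis -/
theorem exists_onb {n : ℕ} (hF : Fintype.card F = q ^ 2) (f : (Fin n → F) → (Fin n → F) → F)
    (hf : Cfsg.Geo.IsUnitaryFormPow q f) :
    ∃ P : GL (Fin n) F, ∀ x y : Fin n → F,
      f ((P : Matrix (Fin n) (Fin n) F) *ᵥ x) ((P : Matrix (Fin n) (Fin n) F) *ᵥ y) = hv q x y :=
  Cfsg.Agent.Lib.Helper22.UnitR.exists_std_basis hF n f hf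

/-- (TG) the Gram form of the Kronecker product in orthonormal coordinates -/
theorem formOfGram_kel {a b : ℕ} (hF : Fintype.card F = q ^ 2)
    (f₁ : (Fin a → F) → (Fin a → F) → F)
    (f₂ : (Fin b → F) → (Fin b → F) → F) (hf₁ : Cfsg.Geo.IsUnitaryFormPow q f₁)
    (hf₂ : Cfsg.Geo.IsUnitaryFormPow q f₂) (P₁ : GL (Fin a) F) (P₂ : GL (Fin b) F)
    (h₁ : ∀ x y : Fin a → F,
      f₁ ((P₁ : Matrix (Fin a) (Fin a) F) *ᵥ x) ((P₁ : Matrix (Fin a) (Fin a) F) *ᵥ y) = hv q x y)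
    (h₂ : ∀ x y : Fin b → F,
      f₂ ((P₂ : Matrix (Fin b) (Fin b) F) *ᵥ x) ((P₂ : Matrix (Fin b) (Fin b) F) *ᵥ y) = hv q x y)
    (v w : Idx a b → F) :
    Cfsg.Geo.formOfGram (fun x : F => x ^ q) (Cfsg.Geo.gramMatrix f₁ ⊗ₖ Cfsg.Geo.gramMatrix f₂)
      (mv (kel P₁ P₂) v) (mv (kel P₁ P₂) w) = hv q v w :=
  Tf_kel hF f₁ f₂ hf₁ hf₂ P₁ P₂ h₁ h₂ v w

/-- (TT) transport of S5670, in the shape of `notes/S5670_T_leaves.lean` -/
theorem transportU {n : ℕ} (hF : Fintype.card F = q ^ 2) (n₁ n₂ : ℕ) (e : Fin n ≃ Fin n₁ × Fin n₂)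
    (P : GL (Fin n) F) (f₁ : (Fin n₁ → F) → (Fin n₁ → F) → F)
    (f₂ : (Fin n₂ → F) → (Fin n₂ → F) → F) (hf₁ : Cfsg.Geo.IsUnitaryFormPow q f₁)
    (hf₂ : Cfsg.Geo.IsUnitaryFormPow q f₂)
    (hT : Cfsg.Geo.IsTensorFormStructure (fun x : F => x ^ q) (Cfsg.hermForm n F q) f₁ f₂ e P)
    (hcore : Cfsg.Geo.IsMaximalIn (GS n₁ n₂ q F) (KG n₁ n₂ F ⊓ GS n₁ n₂ q F)) :
    Cfsg.Geo.IsMaximalIn (Cfsg.GU n F q ⊓ Cfsg.Geo.specialLinear (Fin n) F)
      (Cfsg.Geo.tensorProductSubgroup n₁ n₂ e P ⊓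
        (Cfsg.GU n F q ⊓ Cfsg.Geo.specialLinear (Fin n) F)) :=
  transport hF e P f₁ f₂ hf₁ hf₂ hT hcore

end main

end Cfsg.Agent.Lib.Helper7.UTTLeaf
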