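import Mathlib
import Cfsg.Agent.Lib.Helper20.UTDefs

/-!
S5670 leaf (TP) `KG_GS_lt`: the Kronecker group is proper in `GS` (the permutation matrix of a
3-cycle of the standard basis is an isometry of determinant one outside `KG`).
-/

set_option autoImplicit false
set_option linter.unusedSectionVars false
set_option linter.unusedVariables false

namespace Cfsg.Agent.Lib.Helper7.UTTLeaf
open Matrix
open Cfsg.Agent.Lib.Helper25.Tens Cfsg.Agent.Lib.Helper25.TensLeaf Cfsg.Agent.Lib.Helper20.UT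
open scoped Kronecker

variable {F : Type*} [Field F] [Fintype F] {a b q : ℕ}

/-- permutation matrix as an element of `GL` -/
noncomputable def permGL {ι : Type} [Fintype ι] [DecidableEq ι] (σ : Equiv.Perm ι) : GL ι F :=
  ⟨σ.permMatrix F, σ⁻¹.permMatrix F, by rw [← Matrix.permMatrix_mul]; simp,
    by rw [← Matrix.permMatrix_mul]; simp⟩

lemma permGL_val {ι : Type} [Fintype ι] [DecidableEq ι] (σ : Equiv.Perm ι) :
    ((permGL σ : GL ι F) : Matrix ι ι F) = σ.permMatrix F := rfl

lemma permGL_apply {ι : Type} [Fintype ι] [DecidableEq ι] (σ : Equiv.Perm ι) (x y : ι) :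
    ((permGL σ : GL ι F) : Matrix ι ι F) x y = if σ x = y then 1 else 0 := by
  rw [permGL_val, Equiv.Perm.permMatrix, PEquiv.toMatrix_apply, Equiv.toPEquiv_apply]
  simp

lemma mv_permGL {ι : Type} [Fintype ι] [DecidableEq ι] (σ : Equiv.Perm ι) (u : ι → F) :
    mv (permGL σ : GL ι F) u = u ∘ σ := by
  unfold mv
  rw [permGL_val, Matrix.permMatrix_mulVec]

lemma hv_comp_perm {κ : Type} [Fintype κ] (σ : Equiv.Perm κ) (u v : κ → F) :
    hv q (u ∘ σ) (v ∘ σ) = hv q u v := by
  unfold hv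
  exact Equiv.sum_comp σ (fun i => u i * (v i) ^ q)

/-- (TP) the Kronecker group is proper in `GS` -/
theorem KG_GS_lt (hc : Ctx a b q F) : KG a b F ⊓ GS a b q F < GS a b q F := by
  classical
  refine lt_of_le_of_ne inf_le_right ?_
  intro heq
  have ha := hc.ha
  have hb := hc.hb
  let i0 : Fin a := ⟨0, by omega⟩
  let i1 : Fin a := ⟨1, by omega⟩
  let l0 : Fin b := ⟨0, by omega⟩
  let l1 : Fin b := ⟨1, by omega⟩
  have hi : i0 ≠ i1 := by
    intro h
    have := congrArg Fin.val h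
    simp [i0, i1] at this
  have hl : l0 ≠ l1 := by
    intro h
    have := congrArg Fin.val h
    simp [l0, l1] at this
  set p0 : Idx a b := (i0, l0) with hp0
  set p1 : Idx a b := (i0, l1) with hp1
  set p2 : Idx a b := (i1, l0) with hp2
  set p3 : Idx a b := (i1, l1) with hp3
  have h01 : p0 ≠ p1 := fun h => hl (congrArg Prod.snd h)
  have h02 : p0 ≠ p2 := fun h => hi (congrArg Prod.fst h)
  have h12 : p1 ≠ p2 := fun h => hi (congrArg Prod.fst h)
  have h03 : p0 ≠ p3 := fun h => hi (congrArg Prod.fst h)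
  have h13 : p1 ≠ p3 := fun h => hi (congrArg Prod.fst h)
  have h23 : p2 ≠ p3 := fun h => hl (congrArg Prod.snd h)
  set σ : Equiv.Perm (Idx a b) := Equiv.swap p0 p1 * Equiv.swap p1 p2 with hσ
  have hσ0 : σ p0 = p1 := by
    rw [hσ, Equiv.Perm.mul_apply, Equiv.swap_apply_of_ne_of_ne h01 h02, Equiv.swap_apply_left]
  have hσ2 : σ p2 = p0 := by
    rw [hσ, Equiv.Perm.mul_apply, Equiv.swap_apply_right, Equiv.swap_apply_right]
  have hσ3 : σ p3 = p3 := by
    rw [hσ, Equiv.Perm.mul_apply, Equiv.swap_apply_of_ne_of_ne h13.symm h23.symm,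
      Equiv.swap_apply_of_ne_of_ne h03.symm h13.symm]
  have hsign : Equiv.Perm.sign σ = 1 := by
    rw [hσ, map_mul, Equiv.Perm.sign_swap h01, Equiv.Perm.sign_swap h12]
    rfl
  have hg : (permGL σ : GL (Idx a b) F) ∈ GS a b q F := by
    have h1 : (permGL σ : GL (Idx a b) F) ∈ GUI a b q F := by
      rw [mem_GUI]
      intro u v
      rw [mv_permGL, mv_permGL, hv_comp_perm]
    have h2 : (permGL σ : GL (Idx a b) F) ∈ SLG a b F := by
      rw [mem_SLG_iff, permGL_val, Matrix.det_permutation, hsign]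
      simp
    exact ⟨h1, h2⟩
  have hgK : (permGL σ : GL (Idx a b) F) ∈ KG a b F := by
    rw [← heq] at hg
    exact hg.1
  obtain ⟨α, β, hαβ⟩ := (mem_KG_iff _).1 hgK
  have e1 := congrFun (congrFun hαβ p0) p1
  have e2 := congrFun (congrFun hαβ p3) p3
  have e3 := congrFun (congrFun hαβ p2) p3
  rw [permGL_apply, if_pos hσ0] at e1
  rw [permGL_apply, if_pos hσ3] at e2
  rw [permGL_apply, hσ2, if_neg h03] at e3
  simp only [Matrix.kroneckerMap_apply, hp0, hp1, hp2, hp3] at e1 e2 e3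
  have hb01 : (β : Matrix (Fin b) (Fin b) F) l0 l1 ≠ 0 := by
    intro h
    rw [h, mul_zero] at e1
    exact one_ne_zero e1
  have ha11 : (α : Matrix (Fin a) (Fin a) F) i1 i1 ≠ 0 := by
    intro h
    rw [h, zero_mul] at e2
    exact one_ne_zero e2
  exact mul_ne_zero ha11 hb01 e3.symm

end Cfsg.Agent.Lib.Helper7.UTTLeaf
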