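import Mathlib
import Cfsg.Agent.Lib.Helper2.SOTDefs
import Cfsg.Agent.Lib.Helper13.SOTGDefs
import Cfsg.Agent.Lib.Helper7.SpTN
import Cfsg.Agent.Lib.Helper7.SOTT

/-!
helper7 for helper13's S5666 part (G) market (`notes/S5666_G_leaves.lean`): the model leaves
NB `fB_nondeg`, N0 `altCtx_JG`, A1 `exists_sp_map` (exact signatures).
-/

set_option autoImplicit false
set_option linter.unusedSectionVars false
set_option linter.unusedVariables false

namespace Cfsg.Agent.Lib.Helper7.SOTGLeaf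
open Matrix
open Cfsg.Agent.Lib.Helper25.Tens Cfsg.Agent.Lib.Helper25.SpT Cfsg.Agent.Lib.Helper19.OSub
open Cfsg.Agent.Lib.Helper2.SOT Cfsg.Agent.Lib.Helper13.SOTG
open scoped Kronecker

section model
variable {F : Type*} [Field F] [Fintype F] {a b : ℕ} {G : Matrix (Fin b) (Fin b) F}
  {M : Subgroup (GL (Idx a b) F)}

/-- nondegeneracy of `fB G` from `det G ≠ 0` -/
theorem fB_nondeg_of_det (hG : G.det ≠ 0) {y : Fin b → F} (hy : y ≠ 0) :
    ∃ y' : Fin b → F, fB G y y' ≠ 0 := by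
  by_contra hcon
  push Not at hcon
  apply hy
  apply Matrix.eq_zero_of_vecMul_eq_zero hG
  funext l
  have := hcon (Pi.single l 1)
  unfold fB at this
  rw [Matrix.dotProduct_mulVec, dotProduct_single, mul_one] at this
  exact this

/-- (NB) -/
theorem fB_nondeg (h : Ctx a b G) {y : Fin b → F} (hy : y ≠ 0) : ∃ y' : Fin b → F, fB G y y' ≠ 0 :=
  fB_nondeg_of_det h.nd hy

/-- the form against a pure tensor, through the contraction `ct` -/
theorem fV_pt_right (G : Matrix (Fin b) (Fin b) F) (v : Idx a b → F) (x' : Fin a → F)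
    (y' : Fin b → F) : fV G v (pt x' y') = sf (ct (G *ᵥ y') v) x' := by
  unfold fV sf ct
  rw [kron_mulVec_pt]
  simp only [dotProduct, pt, Fintype.sum_prod_type]
  apply Finset.sum_congr rfl
  intro i _
  rw [Finset.sum_mul]
  apply Finset.sum_congr rfl
  intro l _
  ring

/-- (N0) -/
theorem altCtx_JG (h : Ctx a b G) : AltCtx (JG a G) := by
  refine ⟨?_, ?_, h.two⟩
  · intro v
    have h1 := Cfsg.Agent.Lib.Helper7.SOTLeaf.fV_skew G h.symm v v
    rw [← fV_eq_fJ]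
    have h2 : (2 : F) * fV G v v = 0 := by linear_combination h1
    rcases mul_eq_zero.1 h2 with h3 | h3
    · exact absurd h3 h.two
    · exact h3
  · intro v hv
    obtain ⟨p, hp⟩ := Function.ne_iff.mp hv
    obtain ⟨i₀, l₀⟩ := p
    have hy : (fun l => v (i₀, l)) ≠ 0 := by
      intro h0
      exact hp (congrFun h0 l₀)
    obtain ⟨y', hy'⟩ := fB_nondeg h hy
    have hct : ct (G *ᵥ y') v ≠ 0 := by
      intro h0
      apply hy'
      have := congrFun h0 i₀
      unfold ct at this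
      unfold fB
      simpa [dotProduct] using this
    obtain ⟨x', hx'⟩ := exists_sf_ne_zero h.ea hct
    refine ⟨pt x' y', ?_⟩
    rw [← fV_eq_fJ, fV_pt_right]
    exact hx'

/-- elements of `SpT` preserve `sf` -/
theorem sf_of_mem_SpT {n : ℕ} {α : GL (Fin n) F} (hα : α ∈ Cfsg.Agent.Lib.Helper7.SpTLeaf.SpT (F := F) n) :
    ∀ u v : Fin n → F, sf ((α : Matrix (Fin n) (Fin n) F) *ᵥ u)
      ((α : Matrix (Fin n) (Fin n) F) *ᵥ v) = sf u v := by
  unfold Cfsg.Agent.Lib.Helper7.SpTLeaf.SpT at hα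
  induction hα using Subgroup.closure_induction with
  | mem g hg =>
    obtain ⟨z, c, rfl⟩ := hg
    intro u v
    exact Cfsg.Agent.Lib.Helper25.SpT.stv_sf z c u v
  | one =>
    intro u v
    rw [Units.val_one, Matrix.one_mulVec, Matrix.one_mulVec]
  | mul g g' _ _ ih ih' =>
    intro u v
    rw [Units.val_mul, ← Matrix.mulVec_mulVec, ← Matrix.mulVec_mulVec, ih, ih']
  | inv g _ ih =>
    intro u v
    have h1 := ih (((g⁻¹ : GL (Fin n) F) : Matrix (Fin n) (Fin n) F) *ᵥ u)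
      (((g⁻¹ : GL (Fin n) F) : Matrix (Fin n) (Fin n) F) *ᵥ v)
    rw [Matrix.mulVec_mulVec, Matrix.mulVec_mulVec, ← Units.val_mul, mul_inv_cancel,
      Units.val_one, Matrix.one_mulVec, Matrix.one_mulVec] at h1
    exact h1.symm

/-- (A1) -/
theorem exists_sp_map (ea : Even a) {x x' : Fin a → F} (hx : x ≠ 0) (hx' : x' ≠ 0) :
    ∃ α : GL (Fin a) F, (∀ u v : Fin a → F, sf ((α : Matrix (Fin a) (Fin a) F) *ᵥ u)
      ((α : Matrix (Fin a) (Fin a) F) *ᵥ v) = sf u v) ∧ (α : Matrix (Fin a) (Fin a) F) *ᵥ x = x' := by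
  have ha : 0 < a := by
    rcases Nat.eq_zero_or_pos a with h0 | h0
    · subst h0
      exact absurd (Subsingleton.elim x 0) hx
    · exact h0
  obtain ⟨β₁, hβ₁, h1⟩ := Cfsg.Agent.Lib.Helper7.SpTLeaf.sp_trans ea ⟨0, ha⟩ x hx
  obtain ⟨β₂, hβ₂, h2⟩ := Cfsg.Agent.Lib.Helper7.SpTLeaf.sp_trans ea ⟨0, ha⟩ x' hx'
  refine ⟨β₂ * β₁⁻¹, sf_of_mem_SpT (Subgroup.mul_mem _ hβ₂ (Subgroup.inv_mem _ hβ₁)), ?_⟩
  rw [← h1, Matrix.mulVec_mulVec, ← Units.val_mul, inv_mul_cancel_right, h2]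

end model

end Cfsg.Agent.Lib.Helper7.SOTGLeaf
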