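import Mathlib
import Cfsg.Agent.Lib.Helper25.WeilDefs
import Cfsg.Agent.Lib.Helper14.PGroupFixed

/-!
# S2347 leaf WJ (helper7): a `p`-group of isometries of a finite symplectic space over a field of
characteristic `p` stabilises a Lagrangian subspace.
-/

set_option autoImplicit false

open Cfsg.Agent.Lib.Helper25.Weil Module

namespace Cfsg.Agent.Lib.Helper7.WeilLeaf

variable {F V : Type*} [Field F] [AddCommGroup V] [Module F V]

/-- a `p`-group acting linearly on a finite space in characteristic `p`: between two invariant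
subspaces `Y < U` there is a vector of `U` outside `Y` fixed modulo `Y`. -/
theorem exists_fixed_mod [Finite V] {p : ℕ} [Fact p.Prime] [CharP F p]
    {P : Type*} [Group P] [DistribMulAction P V] [SMulCommClass P F V] (hP : IsPGroup p P)
    (Y U : Submodule F V) (hYU : Y ≤ U) (hne : Y ≠ U)
    (hY : ∀ (g : P), ∀ y ∈ Y, g • y ∈ Y) (hU : ∀ (g : P), ∀ u ∈ U, g • u ∈ U) :
    ∃ v ∈ U, v ∉ Y ∧ ∀ g : P, g • v - v ∈ Y := by
  classical
  set Y' : Submodule F U := Y.comap U.subtype with hY'
  have hmemY' : ∀ u : U, u ∈ Y' ↔ (u : V) ∈ Y := fun u => Iff.rfl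
  -- the restricted linear maps
  let lin : P → (U →ₗ[F] U) := fun g =>
    (DistribSMul.toLinearMap F V g).restrict (fun u hu => hU g u hu)
  have hlin : ∀ (g : P) (u : U), ((lin g u : U) : V) = g • (u : V) := fun g u => rfl
  have hle : ∀ g : P, Y' ≤ Y'.comap (lin g) := by
    intro g u hu
    rw [Submodule.mem_comap, hmemY', hlin]
    exact hY g _ ((hmemY' u).mp hu)
  let ρ : Representation F P (U ⧸ Y') :=
    { toFun := fun g => Submodule.mapQ Y' Y' (lin g) (hle g)
      map_one' := by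
        apply Submodule.linearMap_qext
        ext u
        simp only [LinearMap.comp_apply, Submodule.mkQ_apply, Submodule.mapQ_apply,
          Module.End.one_apply]
        congr 1
        apply Subtype.ext
        rw [hlin, one_smul]
      map_mul' := fun g h => by
        apply Submodule.linearMap_qext
        ext u
        simp only [LinearMap.comp_apply, Submodule.mkQ_apply, Submodule.mapQ_apply,
          Module.End.mul_apply]
        congr 1
        apply Subtype.ext
        rw [hlin, hlin, hlin, mul_smul] }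
  have hρ : ∀ (g : P) (u : U), ρ g (Submodule.Quotient.mk u) = Submodule.Quotient.mk (lin g u) :=
    fun g u => rfl
  have hnt : Nontrivial (U ⧸ Y') := by
    rw [Submodule.Quotient.nontrivial_iff]
    intro htop
    apply hne
    apply le_antisymm hYU
    intro u hu
    have : (⟨u, hu⟩ : U) ∈ Y' := htop ▸ Submodule.mem_top
    exact (hmemY' _).mp this
  have hfin : Finite (U ⧸ Y') := Finite.of_surjective _ (Submodule.Quotient.mk_surjective Y')
  obtain ⟨x, hx0, hxfix⟩ := Cfsg.Agent.Lib.Helper14.exists_ne_zero_fixed_of_isPGroup p hP ρ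
  obtain ⟨u, rfl⟩ := Submodule.Quotient.mk_surjective Y' x
  refine ⟨(u : V), u.2, ?_, ?_⟩
  · intro hu
    apply hx0
    rw [Submodule.Quotient.mk_eq_zero]
    exact (hmemY' u).mpr hu
  · intro g
    have h := hxfix g
    rw [hρ, Submodule.Quotient.eq] at h
    have h2 := (hmemY' _).mp h
    rw [Submodule.coe_sub, hlin] at h2
    exact h2

/-- WJ -/
theorem exists_lagrangian [Finite F] [Finite V] (S : Setting F V) {p : ℕ} [Fact p.Prime] [CharP F p]
    {P : Type*} [Group P] [DistribMulAction P V] [SMulCommClass P F V] (hP : IsPGroup p P)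
    (hiso : ∀ (g : P) (u v : V), S.B (g • u) (g • v) = S.B u v) :
    ∃ Y : Submodule F V, (∀ y ∈ Y, ∀ y' ∈ Y, S.B y y' = 0) ∧ (∀ (g : P), ∀ y ∈ Y, g • y ∈ Y) ∧
      Nat.card Y * Nat.card Y = Nat.card V := by
  classical
  have : Module.Finite F V := Module.Finite.of_finite
  have hnd : S.B.Nondegenerate := by
    refine ⟨fun x hx => S.nondeg x hx, fun y hy => S.nondeg y fun x => ?_⟩
    rw [S.B_swap, hy x, neg_zero]
  -- a maximal invariant isotropic subspace
  obtain ⟨Y, ⟨hYiso, hYinv⟩, hYmax⟩ := Set.exists_max_image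
    {Y : Submodule F V | (∀ y ∈ Y, ∀ y' ∈ Y, S.B y y' = 0) ∧ (∀ (g : P), ∀ y ∈ Y, g • y ∈ Y)}
    (fun Y => Nat.card Y) (Set.toFinite _)
    ⟨⊥, fun y hy y' _ => by rw [(Submodule.mem_bot F).mp hy]; simp,
      fun g y hy => by rw [(Submodule.mem_bot F).mp hy, smul_zero]; exact Submodule.zero_mem _⟩
  set Yp : Submodule F V := LinearMap.BilinForm.orthogonal S.B Y with hYp
  have hmemYp : ∀ v : V, v ∈ Yp ↔ ∀ y ∈ Y, S.B y v = 0 := by
    intro v
    rw [hYp, LinearMap.BilinForm.mem_orthogonal_iff]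
  have hYYp : Y ≤ Yp := fun y hy => (hmemYp y).mpr fun y' hy' => hYiso y' hy' y hy
  have hYpinv : ∀ (g : P), ∀ v ∈ Yp, g • v ∈ Yp := by
    intro g v hv
    rw [hmemYp] at hv ⊢
    intro y hy
    have h1 := hiso g⁻¹ y (g • v)
    rw [inv_smul_smul] at h1
    rw [← h1]
    exact hv _ (hYinv g⁻¹ y hy)
  have hYeq : Y = Yp := by
    by_contra hne
    obtain ⟨v, hvU, hvY, hvfix⟩ := exists_fixed_mod hP Y Yp hYYp hne hYinv hYpinv
    have hvperp : ∀ y ∈ Y, S.B y v = 0 := (hmemYp v).mp hvU
    have hvperp' : ∀ y ∈ Y, S.B v y = 0 := fun y hy => by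
      rw [S.B_swap, hvperp y hy, neg_zero]
    set Y₂ : Submodule F V := Y ⊔ Submodule.span F {v} with hY₂
    have hmem₂ : ∀ x : V, x ∈ Y₂ ↔ ∃ y ∈ Y, ∃ a : F, y + a • v = x := by
      intro x
      rw [hY₂, Submodule.mem_sup]
      constructor
      · rintro ⟨y, hy, z, hz, rfl⟩
        obtain ⟨a, rfl⟩ := Submodule.mem_span_singleton.mp hz
        exact ⟨y, hy, a, rfl⟩
      · rintro ⟨y, hy, a, rfl⟩
        exact ⟨y, hy, a • v, Submodule.mem_span_singleton.mpr ⟨a, rfl⟩, rfl⟩
    have hmem : Y₂ ∈ {Y : Submodule F V | (∀ y ∈ Y, ∀ y' ∈ Y, S.B y y' = 0) ∧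
        (∀ (g : P), ∀ y ∈ Y, g • y ∈ Y)} := by
      constructor
      · intro x hx x' hx'
        obtain ⟨y, hy, a, rfl⟩ := (hmem₂ x).mp hx
        obtain ⟨y', hy', a', rfl⟩ := (hmem₂ x').mp hx'
        simp only [map_add, map_smul, LinearMap.add_apply, LinearMap.smul_apply, smul_eq_mul,
          hYiso y hy y' hy', hvperp y hy, hvperp' y' hy', S.alt, mul_zero, add_zero]
      · intro g x hx
        obtain ⟨y, hy, a, rfl⟩ := (hmem₂ x).mp hx
        rw [hmem₂]
        refine ⟨g • y + a • (g • v - v), Y.add_mem (hYinv g y hy) (Y.smul_mem a (hvfix g)), a, ?_⟩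
        rw [smul_add, smul_comm g a v, smul_sub]
        abel
    have hle := hYmax Y₂ hmem
    have hsub : (Y : Set V) ⊆ (Y₂ : Set V) := fun y hy => (le_sup_left : Y ≤ Y₂) hy
    have hEq : (Y : Set V) = (Y₂ : Set V) := by
      apply Set.eq_of_subset_of_ncard_le hsub _ (Set.toFinite _)
      rw [← Nat.card_coe_set_eq, ← Nat.card_coe_set_eq]
      exact hle
    apply hvY
    have hv₂ : v ∈ (Y₂ : Set V) := (hmem₂ v).mpr ⟨0, Y.zero_mem, 1, by simp⟩
    rw [← hEq] at hv₂
    exact hv₂
  refine ⟨Y, hYiso, hYinv, ?_⟩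
  have h1 := LinearMap.BilinForm.finrank_orthogonal hnd Y
  rw [← hYp, ← hYeq] at h1
  have h2 : finrank F Y ≤ finrank F V := Submodule.finrank_le Y
  rw [Module.natCard_eq_pow_finrank (K := F) (V := Y),
    Module.natCard_eq_pow_finrank (K := F) (V := V), ← pow_add]
  congr 1
  omega

end Cfsg.Agent.Lib.Helper7.WeilLeaf
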