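import Cfsg.Agent.Lib.Helper7.ChevAddTabA
import Cfsg.Agent.Lib.Helper7.ChevAddTabE7
import Cfsg.Agent.Lib.Helper7.ChevAddTabE8

/-! Additivity `x_r(t₁) x_r(t₂) = x_r(t₁+t₂)` for the seven tabulated Chevalley data, and consequences:
inverses, root elements as elements of `GL` (helper7). -/

set_option autoImplicit false
namespace Cfsg.Agent.Lib.Helper7
open Cfsg Cfsg.Lie

theorem addOKB_of_mem (D : ChevalleyDatum)
    (hD : D ∈ [chevG2, chevB2, chevD4, chevF4, chevE6, chevE7, chevE8]) : addOKB D = true :=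
  mem_seven_cases (P := fun D => addOKB D = true) addOKB_G2 addOKB_B2 addOKB_D4 addOKB_F4 addOKB_E6
    addOKB_E7 addOKB_E8 D hD

theorem addHyp_of_addOKB (D : ChevalleyDatum) (h : addOKB D = true) (r : ℕ) (hr : r < D.nroots) :
    AddHyp D r := by
  unfold addOKB at h
  rw [List.all_eq_true] at h
  exact addHyp_of_rootOKB D r (h r (List.mem_range.mpr hr))

/-- additivity of root elements, in terms of `addOKB` -/
theorem x_add_of_addOKB (D : ChevalleyDatum) (h : addOKB D = true) (F : Type*) [Field F] (r : ℕ)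
    (t₁ t₂ : F) : D.x F r t₁ * D.x F r t₂ = D.x F r (t₁ + t₂) := by
  by_cases hr : r < D.nroots
  · rw [x_eq_xMat D F r hr, x_eq_xMat D F r hr, x_eq_xMat D F r hr]
    exact xMat_add D F ⟨r, hr⟩ (addHyp_of_addOKB D h r hr) t₁ t₂
  · unfold ChevalleyDatum.x
    rw [dif_neg hr, dif_neg hr, dif_neg hr, mul_one]

/-- additivity of root elements for the seven data -/
theorem x_add (D : ChevalleyDatum)
    (hD : D ∈ [chevG2, chevB2, chevD4, chevF4, chevE6, chevE7, chevE8]) (F : Type*) [Field F] (r : ℕ)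
    (t₁ t₂ : F) : D.x F r t₁ * D.x F r t₂ = D.x F r (t₁ + t₂) :=
  x_add_of_addOKB D (addOKB_of_mem D hD) F r t₁ t₂

theorem x_mul_x_neg (D : ChevalleyDatum)
    (hD : D ∈ [chevG2, chevB2, chevD4, chevF4, chevE6, chevE7, chevE8]) (F : Type*) [Field F] (r : ℕ)
    (t : F) : D.x F r t * D.x F r (-t) = 1 := by
  rw [x_add D hD, add_neg_cancel, x_zero]

theorem x_neg_mul_x (D : ChevalleyDatum)
    (hD : D ∈ [chevG2, chevB2, chevD4, chevF4, chevE6, chevE7, chevE8]) (F : Type*) [Field F] (r : ℕ)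
    (t : F) : D.x F r (-t) * D.x F r t = 1 := by
  rw [x_add D hD, neg_add_cancel, x_zero]

/-- the root element `x_r(t)` as an element of the general linear group -/
def xGL (D : ChevalleyDatum)
    (hD : D ∈ [chevG2, chevB2, chevD4, chevF4, chevE6, chevE7, chevE8]) (F : Type*) [Field F] (r : ℕ)
    (t : F) : GL D.Idx F :=
  ⟨D.x F r t, D.x F r (-t), x_mul_x_neg D hD F r t, x_neg_mul_x D hD F r t⟩

theorem coe_xGL (D : ChevalleyDatum)
    (hD : D ∈ [chevG2, chevB2, chevD4, chevF4, chevE6, chevE7, chevE8]) (F : Type*) [Field F] (r : ℕ)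
    (t : F) : ((xGL D hD F r t : GL D.Idx F) : Matrix D.Idx D.Idx F) = D.x F r t := rfl

theorem xGL_mem_group (D : ChevalleyDatum)
    (hD : D ∈ [chevG2, chevB2, chevD4, chevF4, chevE6, chevE7, chevE8]) (F : Type*) [Field F] (r : ℕ)
    (t : F) : xGL D hD F r t ∈ D.group F := by
  by_cases hr : r < D.nroots
  · apply Subgroup.subset_closure
    exact ⟨⟨r, hr⟩, t, by rw [coe_xGL, x_eq_xMat D F r hr]⟩
  · have : xGL D hD F r t = 1 := by
      apply Units.ext
      rw [coe_xGL]
      unfold ChevalleyDatum.x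
      rw [dif_neg hr]; rfl
    rw [this]; exact Subgroup.one_mem _

end Cfsg.Agent.Lib.Helper7
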