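import Cfsg.Agent.Lib.Helper7.ChevTri

set_option autoImplicit false

namespace Cfsg.Agent.Lib.Helper7

open Cfsg Cfsg.Lie

/-- the reversed level function -/
def levelNeg (D : ChevalleyDatum) (i : D.Idx) : ℕ := D.nroots - levelFn D i

theorem levelNeg_lt (D : ChevalleyDatum) (i : D.Idx) : levelNeg D i < D.nroots + 1 := by
  unfold levelNeg; omega

/-- table condition: negative roots come in the first half, their negatives in the second half,
and chains of negative roots go downwards in the index order -/
def TriNegOK (D : ChevalleyDatum) : Prop :=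
  ∀ r < D.nroots, D.IsNegRoot r →
    r < D.nroots / 2 ∧ D.nroots / 2 ≤ D.negIdx.getD r 0 ∧
      ∀ e ∈ (D.chain.getD r #[]).toList, ∀ q ∈ e.2.toList, q.1 < e.1

instance instDecidableTriNegOK (D : ChevalleyDatum) : Decidable (TriNegOK D) := by
  unfold TriNegOK; infer_instance

theorem levelNeg_lt_iff (D : ChevalleyDatum) (i j : D.Idx) :
    levelNeg D i < levelNeg D j + 1 ↔ levelFn D j ≤ levelFn D i := by
  unfold levelNeg
  have h1 := levelFn_lt D i
  have h2 := levelFn_lt D j
  omega

theorem levelNeg_xMat_sub_one (D : ChevalleyDatum) (hD : TriNegOK D) (F : Type*) [Field F]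
    (r : Fin D.nroots) (hr : D.IsNegRoot r.val) (t : F) :
    Level (levelNeg D) 1 (D.xMat F r t - 1) := by
  obtain ⟨h1, h2, h3⟩ := hD r.val r.isLt hr
  intro i j hij
  rw [levelNeg_lt_iff] at hij
  rw [Matrix.sub_apply, sub_eq_zero]
  unfold ChevalleyDatum.xMat
  simp only [Matrix.of_apply]
  rcases j with c | s
  · rcases i with i' | u
    · simp [Matrix.one_apply]
    · have hur : u ≠ r := by
        rintro rfl
        have : levelFn D (Sum.inl c) ≤ levelFn D (Sum.inr u) := hij
        simp only [levelFn] at this
        split_ifs at this <;> omega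
      simp [Matrix.one_apply, hur]
  · by_cases hsr : s = r
    · rcases i with i' | u
      · simp [Matrix.one_apply, hsr]
      · simp only [hsr, if_true, Matrix.one_apply, Sum.inr.injEq]
    · by_cases hneg : s.val = D.negIdx.getD r.val 0
      · have hs : D.nroots / 2 ≤ s.val := by rw [hneg]; exact h2
        have hs' : ¬ s.val < D.nroots / 2 := by omega
        rcases i with i' | u
        · exfalso
          have : levelFn D (Sum.inr s) ≤ levelFn D (Sum.inl i') := hij
          simp only [levelFn, if_neg hs'] at this
          omega
        · simp only [hsr, if_false, hneg, if_true, Matrix.one_apply, Sum.inr.injEq]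
          by_cases hus : u = s
          · simp [hus, hneg]
          · have hur : u ≠ r := by
              rintro rfl
              have : levelFn D (Sum.inr s) ≤ levelFn D (Sum.inr u) := hij
              simp only [levelFn, if_neg hs'] at this
              split_ifs at this <;> omega
            simp [hus, hur]
      · rcases i with i' | u
        · simp only [hsr, if_false, hneg, Matrix.one_apply]; simp
        · simp only [hsr, if_false, hneg, Matrix.one_apply, Sum.inr.injEq]
          have hnil : D.chainCoeff r.val s.val u.val = [] := by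
            by_contra hne
            obtain ⟨e, he, hes, q, hq, hqu⟩ := chainCoeff_ne_nil D _ _ _ hne
            have hlt := h3 e he q hq
            rw [hes, hqu] at hlt
            have : levelFn D (Sum.inr s) ≤ levelFn D (Sum.inr u) := hij
            simp only [levelFn] at this
            split_ifs at this <;> omega
          rw [hnil]
          simp

theorem levelNeg_x_sub_one (D : ChevalleyDatum) (hD : TriNegOK D) (F : Type*) [Field F]
    (r : ℕ) (hr : D.IsNegRoot r) (t : F) :
    Level (levelNeg D) 1 (D.x F r t - 1) := by
  rw [x_eq_xMat D F r hr.1]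
  exact levelNeg_xMat_sub_one D hD F ⟨r, hr.1⟩ hr t

theorem negUnipotent_le_unitri (D : ChevalleyDatum) (hD : TriNegOK D) (F : Type*) [Field F] :
    D.negUnipotent F ≤ unitriSubgroup (R := F) (levelNeg D) (D.nroots + 1) (levelNeg_lt D) 1 le_rfl := by
  unfold ChevalleyDatum.negUnipotent
  rw [Subgroup.closure_le]
  rintro g ⟨r, t, hr, hg⟩
  show Level (levelNeg D) 1 ((g : Matrix D.Idx D.Idx F) - 1)
  rw [hg]
  exact levelNeg_x_sub_one D hD F r hr t

set_option maxRecDepth 100000 in
theorem triNegOK_G2 : TriNegOK chevG2 := by decide +kernel
set_option maxRecDepth 100000 in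
theorem triNegOK_B2 : TriNegOK chevB2 := by decide +kernel
set_option maxRecDepth 100000 in
theorem triNegOK_D4 : TriNegOK chevD4 := by decide +kernel
set_option maxRecDepth 100000 in
theorem triNegOK_F4 : TriNegOK chevF4 := by decide +kernel
set_option maxRecDepth 100000 in
theorem triNegOK_E6 : TriNegOK chevE6 := by decide +kernel
set_option maxRecDepth 100000 in
theorem triNegOK_E7 : TriNegOK chevE7 := by decide +kernel
set_option maxRecDepth 100000 in
theorem triNegOK_E8 : TriNegOK chevE8 := by decide +kernel

theorem triNegOK_of_mem (D : ChevalleyDatum)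
    (hD : D ∈ [chevG2, chevB2, chevD4, chevF4, chevE6, chevE7, chevE8]) : TriNegOK D :=
  mem_seven_cases (P := TriNegOK) triNegOK_G2 triNegOK_B2 triNegOK_D4 triNegOK_F4 triNegOK_E6
    triNegOK_E7 triNegOK_E8 D hD

end Cfsg.Agent.Lib.Helper7
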