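import Cfsg.Agent.Lib.Helper7.ChevBorel
import Cfsg.Agent.Lib.Helper7.ChevTriNeg

set_option autoImplicit false

namespace Cfsg.Agent.Lib.Helper7

open Cfsg Cfsg.Lie Matrix
open scoped Pointwise

section
variable (D : ChevalleyDatum) (hD : D ∈ [chevG2, chevB2, chevD4, chevF4, chevE6, chevE7, chevE8])
variable (F : Type*) [Field F]
include hD

/-- conjugation by the diagonal matrix of a character preserves `V` -/
theorem diagChar_conj_mem_negUnipotent (g : GL D.Idx F) (χ : ℕ → F) (hχ : ChainChar D F χ)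
    (hg : (g : Matrix D.Idx D.Idx F) = diagChar D F χ) (u : GL D.Idx F) (hu : u ∈ D.negUnipotent F) :
    g * u * g⁻¹ ∈ D.negUnipotent F := by
  unfold ChevalleyDatum.negUnipotent at hu ⊢
  induction hu using Subgroup.closure_induction with
  | mem u hu =>
    obtain ⟨r, t, hr, hum⟩ := hu
    apply Subgroup.subset_closure
    refine ⟨r, χ r * t, hr, ?_⟩
    have h1 : (g * u : GL D.Idx F) = xGL D hD F r (χ r * t) * g := by
      apply Units.ext
      rw [Units.val_mul, Units.val_mul, coe_xGL, hg, hum]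
      exact diagChar_x_comm D F χ hχ r t
    rw [h1, mul_assoc, mul_inv_cancel, mul_one, coe_xGL]
  | one => simpa using Subgroup.one_mem _
  | mul a b _ _ iha ihb =>
    have : g * (a * b) * g⁻¹ = (g * a * g⁻¹) * (g * b * g⁻¹) := by group
    rw [this]
    exact Subgroup.mul_mem _ iha ihb
  | inv a _ iha =>
    have : g * a⁻¹ * g⁻¹ = (g * a * g⁻¹)⁻¹ := by group
    rw [this]
    exact Subgroup.inv_mem _ iha

theorem diagonalSubgroup_le_normalizer_negUnipotent :
    D.diagonalSubgroup F ≤ Subgroup.normalizer (D.negUnipotent F : Set (GL D.Idx F)) := by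
  intro g hg
  obtain ⟨χ, hχ, hgm⟩ := mem_diagonalSubgroup_char D hD F g hg
  rw [Subgroup.mem_set_normalizer_iff]
  intro u
  constructor
  · intro hu
    exact diagChar_conj_mem_negUnipotent D hD F g χ hχ hgm u hu
  · intro hu
    have h1 := diagChar_conj_mem_negUnipotent D hD F g⁻¹ _ hχ.inv
      (coe_inv_of_diagChar D F g χ hχ.ne0 hgm) _ hu
    have : g⁻¹ * (g * u * g⁻¹) * g⁻¹⁻¹ = u := by group
    rw [this] at h1
    exact h1

/-- `B = H U` as a set -/
theorem borel_eq_mul : ((D.borelSubgroup F : Subgroup (GL D.Idx F)) : Set (GL D.Idx F)) =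
    (D.diagonalSubgroup F : Set (GL D.Idx F)) * (D.posUnipotent F : Set (GL D.Idx F)) := by
  unfold ChevalleyDatum.borelSubgroup
  rw [sup_comm]
  exact Subgroup.coe_mul_of_left_le_normalizer_right _ _
    (diagonalSubgroup_le_normalizer_posUnipotent D hD F)

theorem borel_inf_negUnipotent : D.borelSubgroup F ⊓ D.negUnipotent F = ⊥ := by
  rw [Subgroup.eq_bot_iff_forall]
  intro g hg
  rw [Subgroup.mem_inf] at hg
  obtain ⟨hB, hV⟩ := hg
  have hB' : g ∈ ((D.borelSubgroup F : Subgroup (GL D.Idx F)) : Set (GL D.Idx F)) := hB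
  rw [borel_eq_mul D hD F] at hB'
  obtain ⟨h, hh, u, hu, rfl⟩ := Set.mem_mul.mp hB'
  obtain ⟨χ, hχ, hhm⟩ := mem_diagonalSubgroup_char D hD F h hh
  have hlevU : Level (levelFn D) 1 ((u : Matrix D.Idx D.Idx F) - 1) :=
    mem_unitriSubgroup.mp (posUnipotent_le_unitri D (triOK_of_mem D hD) F hu)
  have hlevV : Level (levelNeg D) 1 (((h * u : GL D.Idx F) : Matrix D.Idx D.Idx F) - 1) :=
    mem_unitriSubgroup.mp (negUnipotent_le_unitri D (triNegOK_of_mem D hD) F hV)
  -- entries of `h u`
  have hent : ∀ i j, ((h * u : GL D.Idx F) : Matrix D.Idx D.Idx F) i j =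
      Sum.elim (fun _ => (1 : F)) (fun s : Fin D.nroots => χ s.val) i * (u : Matrix D.Idx D.Idx F) i j := by
    intro i j
    rw [Units.val_mul, hhm]
    unfold diagChar
    rw [Matrix.diagonal_mul]
  have hU : ∀ i j, levelFn D i ≤ levelFn D j → (u : Matrix D.Idx D.Idx F) i j = (1 : Matrix D.Idx D.Idx F) i j := by
    intro i j hij
    have := hlevU i j (by omega)
    rwa [Matrix.sub_apply, sub_eq_zero] at this
  have hV' : ∀ i j, levelFn D j ≤ levelFn D i →
      ((h * u : GL D.Idx F) : Matrix D.Idx D.Idx F) i j = (1 : Matrix D.Idx D.Idx F) i j := by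
    intro i j hij
    have := hlevV i j ((levelNeg_lt_iff D i j).mpr hij)
    rwa [Matrix.sub_apply, sub_eq_zero] at this
  -- the diagonal part is trivial
  have hχ1 : ∀ i : D.Idx, Sum.elim (fun _ : Fin D.rank => (1 : F)) (fun s : Fin D.nroots => χ s.val) i = 1 := by
    intro i
    have h1 := hV' i i le_rfl
    rw [hent, hU i i le_rfl, Matrix.one_apply_eq, mul_one] at h1
    exact h1
  apply Units.ext
  rw [Units.val_one]
  ext i j
  rcases le_total (levelFn D i) (levelFn D j) with hij | hij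
  · rw [hent, hχ1, one_mul, hU i j hij]
  · exact hV' i j hij

theorem borel_inf_negBorel :
    D.borelSubgroup F ⊓ (D.negUnipotent F ⊔ D.diagonalSubgroup F) = D.diagonalSubgroup F := by
  apply le_antisymm
  · intro g hg
    rw [Subgroup.mem_inf] at hg
    obtain ⟨hB, hVH⟩ := hg
    have hVH' : g ∈ ((D.negUnipotent F ⊔ D.diagonalSubgroup F : Subgroup (GL D.Idx F)) : Set (GL D.Idx F)) := hVH
    rw [Subgroup.coe_mul_of_right_le_normalizer_left _ _
      (diagonalSubgroup_le_normalizer_negUnipotent D hD F)] at hVH'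
    obtain ⟨v, hv, h', hh', rfl⟩ := Set.mem_mul.mp hVH'
    -- `v = (v h') h'⁻¹ ∈ B ∩ V`
    have hvB : v ∈ D.borelSubgroup F := by
      have : v = (v * h') * h'⁻¹ := by group
      rw [this]
      apply Subgroup.mul_mem _ hB
      apply Subgroup.inv_mem
      unfold ChevalleyDatum.borelSubgroup
      exact le_sup_right (a := D.posUnipotent F) hh'
    have hv1 : v = 1 := by
      have : v ∈ D.borelSubgroup F ⊓ D.negUnipotent F := Subgroup.mem_inf.mpr ⟨hvB, hv⟩
      rw [borel_inf_negUnipotent D hD F] at this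
      exact Subgroup.mem_bot.mp this
    rw [hv1, one_mul]
    exact hh'
  · apply le_inf
    · unfold ChevalleyDatum.borelSubgroup; exact le_sup_right
    · exact le_sup_right

end

end Cfsg.Agent.Lib.Helper7
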