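import Cfsg.Agent.Lib.Helper7.ChevCanon

/-! Canonical form `g = b n u`: the main induction (helper7). -/

set_option autoImplicit false

namespace Cfsg.Agent.Lib.Helper7

open Cfsg Cfsg.Lie Matrix
open Cfsg.Agent.Lib.Helper3.BN Cfsg.Agent.Lib.Helper3.WordLen

section
variable (D : ChevalleyDatum) (hD : D ∈ [chevG2, chevB2, chevD4, chevF4, chevE6, chevE7, chevE8])
variable (F : Type*) [Field F]
include hD

theorem mem_B_iff (g : ↥(D.group F)) : g ∈ (chevBNPair D hD F).B ↔ (g : GL D.Idx F) ∈ D.borelSubgroup F := by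
  rw [chevBNPair_B, Subgroup.mem_subgroupOf]

theorem mem_N_iff (g : ↥(D.group F)) : g ∈ (chevBNPair D hD F).N ↔ (g : GL D.Idx F) ∈ D.monomialSubgroup F := by
  rw [chevBNPair_N, Subgroup.mem_subgroupOf]

/-- `n (U_n⁻) n⁻¹ ≤ V` -/
theorem conj_uMinus_le (n : GL D.Idx F) : ∀ u ∈ uMinus D F n, n * u * n⁻¹ ∈ D.negUnipotent F := by
  intro u hu
  unfold uMinus at hu
  induction hu using Subgroup.closure_induction with
  | mem x hx =>
    obtain ⟨r, t, hr, hle, hxm⟩ := hx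
    have : x = xGL D hD F r t := Units.ext (by rw [hxm, coe_xGL])
    rw [this]
    exact (map_conj_le_iff D hD F n r).mp hle t
  | one => simp
  | mul a b _ _ iha ihb =>
    have : n * (a * b) * n⁻¹ = (n * a * n⁻¹) * (n * b * n⁻¹) := by group
    rw [this]
    exact Subgroup.mul_mem _ iha ihb
  | inv a _ iha =>
    have : n * a⁻¹ * n⁻¹ = (n * a * n⁻¹)⁻¹ := by group
    rw [this]
    exact Subgroup.inv_mem _ iha

omit hD in
theorem uMinus_le_posUnipotent (n : GL D.Idx F) : uMinus D F n ≤ D.posUnipotent F := by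
  unfold uMinus
  rw [Subgroup.closure_le]
  rintro x ⟨r, t, hr, -, hxm⟩
  apply Subgroup.subset_closure
  exact ⟨r, t, hr, hxm⟩

/-- if `n = n_p n'`, `n'⁻¹ X_p n' = X_a` with `a` positive, then `U_{n'}⁻ ≤ U_n⁻` -/
theorem uMinus_mono (i : ℕ) (hi : i < D.rank) (n' : GL D.Idx F) (hn' : n' ∈ D.monomialSubgroup F)
    (a : ℕ) (ha : D.IsPosRoot a) (c : F)
    (h2 : ∀ t : F, n'⁻¹ * xGL D hD F (D.neg (D.simple i)) t * n' = xGL D hD F (D.neg a) (c⁻¹ * t)) :
    uMinus D F n' ≤ uMinus D F (nFund D hD F i * n') := by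
  unfold uMinus
  rw [Subgroup.closure_le]
  rintro x ⟨r, t, hr, hle, hxm⟩
  apply Subgroup.subset_closure
  refine ⟨r, t, hr, ?_, hxm⟩
  rw [map_conj_le_iff D hD F] at hle ⊢
  obtain ⟨γ, hγ, c', hc', hc1, -⟩ := (monomial_le_rootConj D hD F hn').2 r hr.1
  simp only [inv_inv] at hc1
  -- `γ` is negative
  have hγV : ∀ t : F, xGL D hD F γ t ∈ D.negUnipotent F := by
    intro t
    have := hle (c'⁻¹ * t)
    rwa [hc1, ← mul_assoc, mul_inv_cancel₀ hc', one_mul] at this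
  have hγneg := isNegRoot_of_mem D hD F γ hγ hγV
  have hnega : D.IsNegRoot (D.neg a) := posNegOK_of_mem D hD a ha.1 ha
  have hγne : γ ≠ D.neg (D.simple i) := by
    intro h
    have h3 : xGL D hD F r 1 = xGL D hD F (D.neg a) (c⁻¹ * (c' * 1)) := by
      have e : xGL D hD F r 1 = n'⁻¹ * (n' * xGL D hD F r 1 * n'⁻¹) * n' := by group
      rw [e, hc1, h, h2]
    have : xGL D hD F r 1 ∈ D.posUnipotent F ⊓ D.negUnipotent F := by
      refine Subgroup.mem_inf.mpr ⟨xGL_pos_mem D hD F r hr 1, ?_⟩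
      rw [h3]; exact xGL_neg_mem D hD F _ hnega _
    rw [posUnipotent_inf_negUnipotent D hD F] at this
    exact xGL_one_ne_one D hD F r hr.1 (Subgroup.mem_bot.mp this)
  have hwneg := reflect_neg_of_neg D hD i hi γ hγneg hγne
  intro t
  have e : nFund D hD F i * n' * xGL D hD F r t * (nFund D hD F i * n')⁻¹ =
      nFund D hD F i * (n' * xGL D hD F r t * n'⁻¹) * (nFund D hD F i)⁻¹ := by group
  rw [e, hc1, nFund_conj_xGL D hD F i hi γ hγ]
  exact xGL_neg_mem D hD F _ hwneg _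

/-- `n_p x_p(t) n_p⁻¹ ∈ V` -/
theorem nFund_conj_simple_mem (i : ℕ) (hi : i < D.rank) (t : F) :
    nFund D hD F i * xGL D hD F (D.simple i) t * (nFund D hD F i)⁻¹ ∈ D.negUnipotent F := by
  have hF := fundFacts_of_mem D hD i hi
  rw [nFund_conj_xGL D hD F i hi _ hF.hp, reflectRoot_simple]
  exact xGL_neg_mem D hD F _ (upFacts_of_mem D hD i hi).negSimple _

/-- existence of the canonical form, by induction on the length of `n` -/
theorem canon_aux : ∀ q : ℕ, ∀ (n : ↥(D.group F)) (hn : n ∈ (chevBNPair D hD F).N),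
    len (Sbar (chevBNPair D hD F)) (mkW (chevBNPair D hD F) n hn) = q →
    ∀ g ∈ dc (chevBNPair D hD F) n, ∃ b ∈ D.borelSubgroup F, ∃ u ∈ uMinus D F (n : GL D.Idx F),
      (g : GL D.Idx F) = b * (n : GL D.Idx F) * u := by
  obtain ⟨P, hP⟩ : ∃ P, P = chevBNPair D hD F := ⟨_, rfl⟩
  rw [← hP]
  have hS := Sbar_sq P
  have hgen := Sbar_closure P
  have hPB : ∀ g : ↥(D.group F), g ∈ P.B ↔ (g : GL D.Idx F) ∈ D.borelSubgroup F := by
    rw [hP]; exact mem_B_iff D hD F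
  have hPN : ∀ g : ↥(D.group F), g ∈ P.N ↔ (g : GL D.Idx F) ∈ D.monomialSubgroup F := by
    rw [hP]; exact mem_N_iff D hD F
  intro q
  induction q with
  | zero =>
    intro n hn hq g hg
    rw [len_eq_zero_iff hS hgen, mkW_eq_one_iff] at hq
    rw [dc_of_mem_B P hq] at hg
    refine ⟨(g : GL D.Idx F) * (n : GL D.Idx F)⁻¹, ?_, 1, Subgroup.one_mem _, by group⟩
    exact Subgroup.mul_mem _ ((hPB g).mp hg) (Subgroup.inv_mem _ ((hPB n).mp hq))
  | succ q ih =>
    intro n hn hq g hg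
    obtain ⟨t, ht, hlen⟩ := exists_cons hS hgen hq
    obtain ⟨s, hs, rfl⟩ := exists_sb_of_mem P ht
    have hs' : s ∈ fundSet D F := by rw [hP] at hs; exact hs
    obtain ⟨i, hi, hsm⟩ := hs'
    have hsn := coe_eq_nFund_of_mem_fundSet D hD F s i hsm
    have hF := fundFacts_of_mem D hD i hi
    -- `n' = s⁻¹ n`
    have hn' : s⁻¹ * n ∈ P.N := P.N.mul_mem (P.N.inv_mem (P.subset hs)) hn
    have hw' : mkW P (s⁻¹ * n) hn' = sb P s hs * mkW P n hn := by
      rw [mkW_mul P (P.N.inv_mem (P.subset hs)) hn, mkW_inv P (P.subset hs)]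
      show (sb P s hs)⁻¹ * _ = _
      rw [sb_inv]
    have hlen' : len (Sbar P) (mkW P (s⁻¹ * n) hn') = q := by rw [hw']; exact hlen
    have hn'M : ((s⁻¹ * n : ↥(D.group F)) : GL D.Idx F) ∈ D.monomialSubgroup F := (hPN _).mp hn'
    have hncoe : (n : GL D.Idx F) = nFund D hD F i * ((s⁻¹ * n : ↥(D.group F)) : GL D.Idx F) := by
      rw [← hsn]
      show (n : GL D.Idx F) = ((s * (s⁻¹ * n) : ↥(D.group F)) : GL D.Idx F)
      rw [mul_inv_cancel_left]
    obtain ⟨n', hn'def⟩ : ∃ n' : GL D.Idx F, n' = ((s⁻¹ * n : ↥(D.group F)) : GL D.Idx F) := ⟨_, rfl⟩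
    rw [← hn'def] at hn'M hncoe
    obtain ⟨a, ha, c, hc, h1, h2⟩ := (monomial_le_rootConj D hD F hn'M).1 (D.simple i) hF.hp
    -- `a` is positive
    have hapos : D.IsPosRoot a := by
      rcases posOrNeg_of_mem D hD a ha with hpos | hneg
      · exact hpos
      · exfalso
        have hnegpos : D.IsPosRoot (D.neg a) := (negInvOK_of_mem D hD a ha).2.2 hneg
        have hkey : ∀ t : F, (nFund D hD F i)⁻¹ * xGL D hD F (D.simple i) t * nFund D hD F i =
            xGL D hD F (D.neg (D.simple i)) (((etaFn D i (D.neg (D.simple i)) : ℤ) : F) * t) := by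
          intro t
          have h3 := nFund_conj_xGL D hD F i hi _ hF.hpb (((etaFn D i (D.neg (D.simple i)) : ℤ) : F) * t)
          rw [reflectRoot_neg_simple D i (Ne.symm (negOK_of_mem D hD _ hF.hp).2), ← mul_assoc,
            eta_sq D hD F i hi _ hF.hpb, one_mul] at h3
          rw [← h3]
          group
        have hconj' : ∀ t : F, (n : GL D.Idx F)⁻¹ * xGL D hD F (D.simple i) t * (n : GL D.Idx F) =
            xGL D hD F (D.neg a) (c⁻¹ * ((etaFn D i (D.neg (D.simple i)) : ℤ) : F) * t) := by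
          intro t
          have e : (n : GL D.Idx F)⁻¹ * xGL D hD F (D.simple i) t * (n : GL D.Idx F) =
              n'⁻¹ * ((nFund D hD F i)⁻¹ * xGL D hD F (D.simple i) t * nFund D hD F i) * n' := by
            rw [hncoe]; group
          rw [e, hkey, h2, mul_assoc]
        -- `s C(w) ⊆ C(s w)`
        have hA : ∀ g ∈ C P (mkW P n hn), s * g ∈ C P (sb P s hs * mkW P n hn) := by
          intro g hg
          rw [C_mk, mem_dc] at hg
          obtain ⟨b₁, hb₁, b₂, hb₂, rfl⟩ := hg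
          have hsnN : s * n ∈ P.N := P.N.mul_mem (P.subset hs) hn
          have : sb P s hs * mkW P n hn = mkW P (s * n) hsnN := rfl
          rw [this, C_mk, mem_dc]
          obtain ⟨c₁, hc₁, c₂, hc₂, he⟩ := nFund_mul_borel_mul_of_pos D hD F i hi (n : GL D.Idx F)
            (D.neg a) hnegpos _ hconj' (b₁ : GL D.Idx F) ((hPB b₁).mp hb₁)
          refine ⟨⟨c₁, borel_le_group D hD F hc₁⟩, (hPB _).mpr hc₁,
            ⟨c₂, borel_le_group D hD F hc₂⟩ * b₂, P.B.mul_mem ((hPB _).mpr hc₂) hb₂, ?_⟩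
          apply Subtype.ext
          show (s : GL D.Idx F) * ((b₁ : GL D.Idx F) * (n : GL D.Idx F) * (b₂ : GL D.Idx F)) =
            c₁ * ((s : GL D.Idx F) * (n : GL D.Idx F)) * (c₂ * (b₂ : GL D.Idx F))
          rw [hsn]
          have e : nFund D hD F i * ((b₁ : GL D.Idx F) * (n : GL D.Idx F) * (b₂ : GL D.Idx F)) =
              (nFund D hD F i * (b₁ : GL D.Idx F) * (n : GL D.Idx F)) * (b₂ : GL D.Idx F) := by group
          rw [e, he]; group
        have hle : len (Sbar P) (sb P s hs * mkW P n hn) ≤ len (Sbar P) (mkW P n hn) := by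
          rw [hlen, hq]; omega
        obtain ⟨g₀, hg₀, hsg₀⟩ := B_lemma P hs hle
        have h5 := eq_of_common P (hA g₀ hg₀) hsg₀
        exact sb_ne_one P hs (mul_eq_right.mp h5)
    -- now the main computation
    rw [mem_dc] at hg
    obtain ⟨b₁, hb₁, b₂, hb₂, rfl⟩ := hg
    have hg' : s⁻¹ * n * b₂ ∈ dc P (s⁻¹ * n) := dc_mul_right P (self_mem_dc P _) hb₂
    obtain ⟨b₃, hb₃, u₃, hu₃, he₃⟩ := ih (s⁻¹ * n) hn' hlen' _ hg'
    rw [← hn'def] at hu₃
    have he₃' : n' * (b₂ : GL D.Idx F) = b₃ * n' * u₃ := by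
      rw [hn'def, ← he₃]; rfl
    obtain ⟨b₄, hb₄, t, he₄⟩ := nFund_mul_borel_mul_of_pos' D hD F i hi n' a c h1 b₃ hb₃
    refine ⟨(b₁ : GL D.Idx F) * b₄, Subgroup.mul_mem _ ((hPB b₁).mp hb₁) hb₄,
      xGL D hD F a (c * t) * u₃, ?_, ?_⟩
    · rw [hncoe]
      apply Subgroup.mul_mem
      · apply Subgroup.subset_closure
        refine ⟨a, c * t, hapos, ?_, coe_xGL D hD F _ _⟩
        rw [map_conj_le_iff D hD F]
        intro t'
        have e1 : xGL D hD F a t' = n'⁻¹ * xGL D hD F (D.simple i) (c⁻¹ * t') * n' := by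
          rw [h1, ← mul_assoc, mul_inv_cancel₀ hc, one_mul]
        have e2 : nFund D hD F i * n' * xGL D hD F a t' * (nFund D hD F i * n')⁻¹ =
            nFund D hD F i * xGL D hD F (D.simple i) (c⁻¹ * t') * (nFund D hD F i)⁻¹ := by
          rw [e1]; group
        rw [e2]
        exact nFund_conj_simple_mem D hD F i hi _
      · exact uMinus_mono D hD F i hi n' hn'M a hapos c h2 hu₃
    · show (b₁ : GL D.Idx F) * (n : GL D.Idx F) * (b₂ : GL D.Idx F) = _
      rw [hncoe]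
      have e : (b₁ : GL D.Idx F) * (nFund D hD F i * n') * (b₂ : GL D.Idx F) =
          (b₁ : GL D.Idx F) * nFund D hD F i * (n' * (b₂ : GL D.Idx F)) := by group
      rw [e, he₃']
      have e' : (b₁ : GL D.Idx F) * nFund D hD F i * (b₃ * n' * u₃) =
          (b₁ : GL D.Idx F) * (nFund D hD F i * b₃ * n') * u₃ := by group
      rw [e', he₄]
      group

/-- existence of the canonical form `g = b n u` -/
theorem canon_exists (g : GL D.Idx F) (hg : g ∈ D.group F) :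
    ∃ b ∈ D.borelSubgroup F, ∃ n ∈ D.monomialSubgroup F, ∃ u ∈ uMinus D F n, g = b * n * u := by
  obtain ⟨n, hn, hgn⟩ := exists_dc (chevBNPair D hD F) ⟨g, hg⟩
  obtain ⟨b, hb, u, hu, he⟩ := canon_aux D hD F _ n hn rfl _ hgn
  exact ⟨b, hb, n, (mem_N_iff D hD F n).mp hn, u, hu, he⟩

/-- uniqueness of the canonical form `g = b n u` -/
theorem canon_unique (b b' n n' u u' : GL D.Idx F) (hb : b ∈ D.borelSubgroup F)
    (hb' : b' ∈ D.borelSubgroup F) (hn : n ∈ D.monomialSubgroup F) (hn' : n' ∈ D.monomialSubgroup F)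
    (hu : u ∈ uMinus D F n) (hu' : u' ∈ uMinus D F n') (h : b * n * u = b' * n' * u') :
    n⁻¹ * n' ∈ D.diagonalSubgroup F ∧ (n = n' → b = b' ∧ u = u') := by
  have hBG := borel_le_group D hD F
  have hNG := monomial_le_group D hD F
  have huB : u ∈ D.borelSubgroup F :=
    posUnipotent_le_borel D hD F (uMinus_le_posUnipotent D F n hu)
  have hu'B : u' ∈ D.borelSubgroup F :=
    posUnipotent_le_borel D hD F (uMinus_le_posUnipotent D F n' hu')
  constructor
  · obtain ⟨P, hP⟩ : ∃ P, P = chevBNPair D hD F := ⟨_, rfl⟩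
    have hPB : ∀ g : ↥(D.group F), g ∈ P.B ↔ (g : GL D.Idx F) ∈ D.borelSubgroup F := by
      rw [hP]; exact mem_B_iff D hD F
    have hPN : ∀ g : ↥(D.group F), g ∈ P.N ↔ (g : GL D.Idx F) ∈ D.monomialSubgroup F := by
      rw [hP]; exact mem_N_iff D hD F
    have hnP : (⟨n, hNG hn⟩ : ↥(D.group F)) ∈ P.N := (hPN _).mpr hn
    have hn'P : (⟨n', hNG hn'⟩ : ↥(D.group F)) ∈ P.N := (hPN _).mpr hn'
    have h1 : (⟨b, hBG hb⟩ * ⟨n, hNG hn⟩ * ⟨u, hBG huB⟩ : ↥(D.group F)) ∈ dc P ⟨n, hNG hn⟩ :=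
      (mem_dc P).mpr ⟨_, (hPB _).mpr hb, _, (hPB _).mpr huB, rfl⟩
    have h2 : (⟨b, hBG hb⟩ * ⟨n, hNG hn⟩ * ⟨u, hBG huB⟩ : ↥(D.group F)) ∈ dc P ⟨n', hNG hn'⟩ := by
      have e : (⟨b, hBG hb⟩ * ⟨n, hNG hn⟩ * ⟨u, hBG huB⟩ : ↥(D.group F)) =
          ⟨b', hBG hb'⟩ * ⟨n', hNG hn'⟩ * ⟨u', hBG hu'B⟩ := Subtype.ext h
      rw [e]
      exact (mem_dc P).mpr ⟨_, (hPB _).mpr hb', _, (hPB _).mpr hu'B, rfl⟩
    have h3 := dc_eq_of_common P h1 h2
    rw [dc_eq_iff P hnP hn'P] at h3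
    have h4 : n⁻¹ * n' ∈ D.borelSubgroup F := (hPB _).mp h3
    rw [← borel_inf_monomial D hD F]
    exact Subgroup.mem_inf.mpr ⟨h4, Subgroup.mul_mem _ (Subgroup.inv_mem _ hn) hn'⟩
  · intro hnn
    subst hnn
    have e : b'⁻¹ * b = n * (u' * u⁻¹) * n⁻¹ := by
      have : b = b' * n * u' * u⁻¹ * n⁻¹ := by rw [← h]; group
      rw [this]; group
    have hmem : b'⁻¹ * b ∈ D.borelSubgroup F ⊓ D.negUnipotent F := by
      refine Subgroup.mem_inf.mpr ⟨Subgroup.mul_mem _ (Subgroup.inv_mem _ hb') hb, ?_⟩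
      rw [e]
      exact conj_uMinus_le D hD F n _ (Subgroup.mul_mem _ hu' (Subgroup.inv_mem _ hu))
    rw [borel_inf_negUnipotent D hD F, Subgroup.mem_bot] at hmem
    have hbb : b = b' := by
      have := inv_mul_eq_one.mp hmem
      exact this.symm
    refine ⟨hbb, ?_⟩
    subst hbb
    exact mul_left_cancel h

end

end Cfsg.Agent.Lib.Helper7
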