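import Cfsg.Agent.Lib.Helper7.ChevLevi2
import Cfsg.Agent.Lib.Helper7.ChevCanon2

/-! The normaliser of `U_J` is the parabolic subgroup `P_J` (helper7). -/

set_option autoImplicit false

namespace Cfsg.Agent.Lib.Helper7

open Cfsg Cfsg.Lie Matrix
open Cfsg.Agent.Lib.Helper3.BN

section
variable (D : ChevalleyDatum) (hD : D ∈ [chevG2, chevB2, chevD4, chevF4, chevE6, chevE7, chevE8])
variable (F : Type*) [Field F]
include hD

theorem parabolic_le_group (J : Set ℕ) : D.parabolicSubgroup F J ≤ D.group F := by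
  unfold ChevalleyDatum.parabolicSubgroup
  apply sup_le (borel_le_group D hD F)
  rw [Subgroup.closure_le]
  rintro g ⟨j, -, hj, hg⟩
  have : g = nFund D hD F j := by
    apply Units.ext
    unfold nFund
    rw [hg, coe_wordGL]; rfl
  rw [this]
  exact monomial_le_group D hD F (nFund_mem_monomial D hD F j hj)

/-- if `n_p` normalises `U_J` then `p ∈ J` -/
theorem mem_of_nFund_mem_normalizer (J : Set ℕ) (i : ℕ) (hi : i < D.rank)
    (h : nFund D hD F i ∈ Subgroup.normalizer (D.unipotentRadical F J : Set (GL D.Idx F))) : i ∈ J := by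
  by_contra hiJ
  have hF := fundFacts_of_mem D hD i hi
  have hpos : D.IsPosRoot (D.simple i) := (parFacts_of_mem D hD).simplePos i hi
  have hnin : ¬ D.InRootSub J (D.simple i) := by
    intro hin
    have := hin.2 i hi hiJ
    rw [hF.corUnit i hi, if_pos rfl] at this
    exact one_ne_zero this
  have hx : xGL D hD F (D.simple i) 1 ∈ D.unipotentRadical F J := by
    apply Subgroup.subset_closure
    exact ⟨_, _, hpos, hnin, coe_xGL D hD F _ _⟩
  rw [Subgroup.mem_set_normalizer_iff] at h
  have h1 := (h _).mp hx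
  have hUJ : D.unipotentRadical F J ≤ D.posUnipotent F := by
    unfold ChevalleyDatum.unipotentRadical ChevalleyDatum.posUnipotent
    apply Subgroup.closure_mono
    rintro g ⟨r, t, hr, -, hg⟩
    exact ⟨r, t, hr, hg⟩
  have h2 := nFund_conj_simple_mem D hD F i hi (1 : F)
  have h3 : nFund D hD F i * xGL D hD F (D.simple i) 1 * (nFund D hD F i)⁻¹ ∈
      D.posUnipotent F ⊓ D.negUnipotent F := Subgroup.mem_inf.mpr ⟨hUJ h1, h2⟩
  rw [posUnipotent_inf_negUnipotent D hD F, Subgroup.mem_bot] at h3
  have h4 : xGL D hD F (D.simple i) 1 = 1 := by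
    have : xGL D hD F (D.simple i) 1 = (nFund D hD F i)⁻¹ *
        (nFund D hD F i * xGL D hD F (D.simple i) 1 * (nFund D hD F i)⁻¹) * nFund D hD F i := by group
    rw [this, h3]; group
  exact xGL_one_ne_one D hD F _ hF.hp h4

/-- `N_G(U_J) = P_J` -/
theorem normalizer_uJ_inf_group (J : Set ℕ) (hJ : ∀ j ∈ J, j < D.rank) :
    Subgroup.normalizer (D.unipotentRadical F J : Set (GL D.Idx F)) ⊓ D.group F =
      D.parabolicSubgroup F J := by
  obtain ⟨W, hW⟩ := exists_coefW D hD
  apply le_antisymm
  · intro g hg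
    rw [Subgroup.mem_inf] at hg
    obtain ⟨P, hP⟩ : ∃ P, P = chevBNPair D hD F := ⟨_, rfl⟩
    obtain ⟨M, hMdef⟩ : ∃ M : Subgroup ↥(D.group F), M =
        (Subgroup.normalizer (D.unipotentRadical F J : Set (GL D.Idx F))).subgroupOf (D.group F) := ⟨_, rfl⟩
    have hPB : ∀ g : ↥(D.group F), g ∈ P.B ↔ (g : GL D.Idx F) ∈ D.borelSubgroup F := by
      rw [hP]; intro g; rw [chevBNPair_B, Subgroup.mem_subgroupOf]
    have hBP : D.borelSubgroup F ≤ D.parabolicSubgroup F J := le_sup_left
    have hM : P.B ≤ M := by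
      intro b hb
      rw [hMdef, Subgroup.mem_subgroupOf]
      exact parabolic_le_normalizer_uJ D hD F W hW J (hBP ((hPB b).mp hb))
    have h1 := subgroup_eq_parabolic P M hM
    have hgM : (⟨g, hg.2⟩ : ↥(D.group F)) ∈ M := by
      rw [hMdef, Subgroup.mem_subgroupOf]; exact hg.1
    rw [h1] at hgM
    have hle : P.parabolic {s | s ∈ P.S ∧ s ∈ M} ≤ (D.parabolicSubgroup F J).subgroupOf (D.group F) := by
      unfold BNPair.parabolic
      apply sup_le
      · intro b hb
        rw [Subgroup.mem_subgroupOf]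
        exact hBP ((hPB b).mp hb)
      · rw [Subgroup.closure_le]
        rintro s ⟨hs, hsM⟩
        have hs' : s ∈ fundSet D F := by rw [hP] at hs; exact hs
        obtain ⟨i, hi, hsm⟩ := hs'
        have hsn := coe_eq_nFund_of_mem_fundSet D hD F s i hsm
        rw [hMdef, Subgroup.mem_subgroupOf, hsn] at hsM
        have hiJ := mem_of_nFund_mem_normalizer D hD F J i hi hsM
        show s ∈ (D.parabolicSubgroup F J).subgroupOf (D.group F)
        rw [Subgroup.mem_subgroupOf]
        unfold ChevalleyDatum.parabolicSubgroup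
        apply Subgroup.mem_sup_right
        apply Subgroup.subset_closure
        exact ⟨i, hiJ, hi, hsm⟩
    have := hle hgM
    rw [Subgroup.mem_subgroupOf] at this
    exact this
  · exact le_inf (parabolic_le_normalizer_uJ D hD F W hW J) (parabolic_le_group D hD F J)

end

end Cfsg.Agent.Lib.Helper7
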