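import Cfsg.Agent.Lib.Helper7.ChevFundTabA
import Cfsg.Agent.Lib.Helper7.ChevFundTabE6
import Cfsg.Agent.Lib.Helper7.ChevFundTabE7
import Cfsg.Agent.Lib.Helper7.ChevFundTabE8x0
import Cfsg.Agent.Lib.Helper7.ChevFundTabE8x1
import Cfsg.Agent.Lib.Helper7.ChevFundTabE8x2
import Cfsg.Agent.Lib.Helper7.ChevFundTabE8x3

/-! `FundFacts` for every fundamental root of the seven tabulated Chevalley data (helper7). -/

set_option autoImplicit false
namespace Cfsg.Agent.Lib.Helper7
open Cfsg Cfsg.Lie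

theorem fundAllB_E8 : fundAllB chevE8 = true := by
  unfold fundAllB
  rw [List.all_eq_true]
  intro i hi
  have hi' : i < 8 := List.mem_range.mp hi
  interval_cases i
  · exact fundOKB_E8_0
  · exact fundOKB_E8_1
  · exact fundOKB_E8_2
  · exact fundOKB_E8_3
  · exact fundOKB_E8_4
  · exact fundOKB_E8_5
  · exact fundOKB_E8_6
  · exact fundOKB_E8_7

theorem fundAllB_of_mem (D : ChevalleyDatum)
    (hD : D ∈ [chevG2, chevB2, chevD4, chevF4, chevE6, chevE7, chevE8]) : fundAllB D = true :=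
  mem_seven_cases (P := fun D => fundAllB D = true) fundAllB_G2 fundAllB_B2 fundAllB_D4 fundAllB_F4
    fundAllB_E6 fundAllB_E7 fundAllB_E8 D hD

theorem fundFacts_of_mem (D : ChevalleyDatum)
    (hD : D ∈ [chevG2, chevB2, chevD4, chevF4, chevE6, chevE7, chevE8]) (i : ℕ) (hi : i < D.rank) :
    FundFacts D i := by
  have h := fundAllB_of_mem D hD
  unfold fundAllB at h
  rw [List.all_eq_true] at h
  exact fundFacts_of_fundOKB D i (h i (List.mem_range.mpr hi))

end Cfsg.Agent.Lib.Helper7
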