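import Cfsg.Agent.Lib.Helper7.ChevHxTabA
import Cfsg.Agent.Lib.Helper7.ChevHxTabE7
import Cfsg.Agent.Lib.Helper7.ChevHxTabE8x0
import Cfsg.Agent.Lib.Helper7.ChevHxTabE8x1

/-! `HxFacts` (Cartan integers along chains) for the seven tabulated Chevalley data (helper7). -/

set_option autoImplicit false
namespace Cfsg.Agent.Lib.Helper7
open Cfsg Cfsg.Lie

theorem hxAllB_E8 : hxAllB chevE8 = true := by
  unfold hxAllB
  rw [List.all_eq_true]
  intro i hi
  have hi' : i < 8 := List.mem_range.mp hi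
  interval_cases i
  · exact hxOKB_E8_0
  · exact hxOKB_E8_1
  · exact hxOKB_E8_2
  · exact hxOKB_E8_3
  · exact hxOKB_E8_4
  · exact hxOKB_E8_5
  · exact hxOKB_E8_6
  · exact hxOKB_E8_7

theorem hxAllB_of_mem (D : ChevalleyDatum)
    (hD : D ∈ [chevG2, chevB2, chevD4, chevF4, chevE6, chevE7, chevE8]) : hxAllB D = true :=
  mem_seven_cases (P := fun D => hxAllB D = true) hxAllB_G2 hxAllB_B2 hxAllB_D4 hxAllB_F4
    hxAllB_E6 hxAllB_E7 hxAllB_E8 D hD

theorem hxFacts_of_mem (D : ChevalleyDatum)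
    (hD : D ∈ [chevG2, chevB2, chevD4, chevF4, chevE6, chevE7, chevE8]) (i : ℕ) (hi : i < D.rank) :
    HxFacts D i :=
  hxFacts_of_hxAllB D (hxAllB_of_mem D hD) i hi

end Cfsg.Agent.Lib.Helper7
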