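import Cfsg.Agent.Lib.Helper7.ChevConjTabA
import Cfsg.Agent.Lib.Helper7.ChevConjTabF4
import Cfsg.Agent.Lib.Helper7.ChevConjTabE7
import Cfsg.Agent.Lib.Helper7.ChevConjTabE8x0
import Cfsg.Agent.Lib.Helper7.ChevConjTabE8x1
import Cfsg.Agent.Lib.Helper7.ChevConjTabE8x2
import Cfsg.Agent.Lib.Helper7.ChevConjTabE8x3
import Cfsg.Agent.Lib.Helper7.ChevAddMain
import Cfsg.Agent.Lib.Helper7.ChevHxAll
import Cfsg.Agent.Lib.Helper7.ChevFundMain

/-! `n_p x_s(t) n_p⁻¹ = x_{w_p s}(η t)` for fundamental roots `p` of the seven tabulated Chevalley data (helper7). -/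

set_option autoImplicit false
namespace Cfsg.Agent.Lib.Helper7
open Cfsg Cfsg.Lie

theorem conjFacts_Gen (D : ChevalleyDatum) (h : conjGenAllB D = true) (i : ℕ) (hi : i < D.rank) :
    ConjFacts D i (etaFn D i) := by
  unfold conjGenAllB at h
  rw [List.all_eq_true] at h
  exact conjFacts_of_conjGenB D i (h i (List.mem_range.mpr hi))

theorem conjFacts_SLOne (D : ChevalleyDatum) (hadd : addOKB D = true) (hhx : hxAllB D = true) (i : ℕ)
    (h : conjSLOneB D i = true) : ConjFacts D i (etaFn D i) := by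
  have hx : ∀ k < D.rank, hxOKB D k = true := by
    intro k hk
    unfold hxAllB at hhx
    rw [List.all_eq_true] at hhx
    exact hhx k (List.mem_range.mpr hk)
  have hroot : ∀ s < D.nroots, rootOKB D s = true := by
    intro s hs
    unfold addOKB at hadd
    rw [List.all_eq_true] at hadd
    exact hadd s (List.mem_range.mpr hs)
  refine conjFacts_of_conjSLOneB D i (fun k hk => ?_) (fun s hs => ?_) (fun s hs v x hx' => ?_) h
  · have := hx k hk
    unfold hxOKB at this
    rw [Bool.and_eq_true] at this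
    exact this.1
  · have := hroot s hs
    unfold rootOKB at this
    simp only [Bool.and_eq_true] at this
    exact this.1.2
  · exact ((addHyp_of_rootOKB D s (hroot s hs)).2.1 v x hx').1

theorem conjFacts_SL (D : ChevalleyDatum) (hadd : addOKB D = true) (hhx : hxAllB D = true)
    (h : conjSLAllB D = true) (i : ℕ) (hi : i < D.rank) : ConjFacts D i (etaFn D i) := by
  unfold conjSLAllB at h
  rw [List.all_eq_true] at h
  exact conjFacts_SLOne D hadd hhx i (h i (List.mem_range.mpr hi))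

theorem conjFacts_F4 (i : ℕ) (hi : i < chevF4.rank) : ConjFacts chevF4 i (etaFn chevF4 i) := by
  have hi' : i < 4 := hi
  interval_cases i
  · exact conjFacts_of_conjGenB _ _ conjGenB_F4_0
  · exact conjFacts_of_conjGenB _ _ conjGenB_F4_1
  · exact conjFacts_of_conjGenB _ _ conjGenB_F4_2
  · exact conjFacts_of_conjGenB _ _ conjGenB_F4_3

theorem conjFacts_E8 (i : ℕ) (hi : i < chevE8.rank) : ConjFacts chevE8 i (etaFn chevE8 i) := by
  have hi' : i < 8 := hi
  interval_cases i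
  · exact conjFacts_SLOne _ addOKB_E8 hxAllB_E8 _ conjSLOneB_E8_0
  · exact conjFacts_SLOne _ addOKB_E8 hxAllB_E8 _ conjSLOneB_E8_1
  · exact conjFacts_SLOne _ addOKB_E8 hxAllB_E8 _ conjSLOneB_E8_2
  · exact conjFacts_SLOne _ addOKB_E8 hxAllB_E8 _ conjSLOneB_E8_3
  · exact conjFacts_SLOne _ addOKB_E8 hxAllB_E8 _ conjSLOneB_E8_4
  · exact conjFacts_SLOne _ addOKB_E8 hxAllB_E8 _ conjSLOneB_E8_5
  · exact conjFacts_SLOne _ addOKB_E8 hxAllB_E8 _ conjSLOneB_E8_6
  · exact conjFacts_SLOne _ addOKB_E8 hxAllB_E8 _ conjSLOneB_E8_7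

theorem conjFacts_of_mem (D : ChevalleyDatum)
    (hD : D ∈ [chevG2, chevB2, chevD4, chevF4, chevE6, chevE7, chevE8]) :
    ∀ i < D.rank, ConjFacts D i (etaFn D i) :=
  mem_seven_cases (P := fun D => ∀ i < D.rank, ConjFacts D i (etaFn D i))
    (conjFacts_Gen _ conjGenAllB_G2) (conjFacts_Gen _ conjGenAllB_B2)
    (conjFacts_SL _ addOKB_D4 hxAllB_D4 conjSLAllB_D4) conjFacts_F4
    (conjFacts_SL _ addOKB_E6 hxAllB_E6 conjSLAllB_E6)
    (conjFacts_SL _ addOKB_E7 hxAllB_E7 conjSLAllB_E7) conjFacts_E8 D hD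

/-- `n_p x_s(t) = x_{w_p s}(η_s t) n_p`, with `η_s = etaFn D i s = ±1` -/
theorem nx_comm_of_mem (D : ChevalleyDatum)
    (hD : D ∈ [chevG2, chevB2, chevD4, chevF4, chevE6, chevE7, chevE8]) (i : ℕ) (hi : i < D.rank)
    (F : Type*) [Field F] (s : ℕ) (hs : s < D.nroots) (t : F) :
    D.nMat F (D.simple i) 1 * D.x F s t =
      D.x F (D.reflectRoot i s) (((etaFn D i s : ℤ) : F) * t) * D.nMat F (D.simple i) 1 :=
  nx_comm D i (fundFacts_of_mem D hD i hi) (conjFacts_of_mem D hD i hi)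
    (fun s hs => addHyp_of_addOKB D (addOKB_of_mem D hD) s hs) F s hs t

end Cfsg.Agent.Lib.Helper7
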