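import Cfsg.Agent.Lib.Helper7.ChevAddMain

/-! Words in root elements as elements of `GL`; `n_r(t) = h_r(t) n_r(1)`; negation of roots (helper7). -/

set_option autoImplicit false

namespace Cfsg.Agent.Lib.Helper7
open Cfsg Cfsg.Lie


/-- neg is an involution exchanging negative and positive roots -/
def NegInvOK (D : ChevalleyDatum) : Prop :=
  ∀ r < D.nroots, D.negIdx.getD (D.negIdx.getD r 0) 0 = r ∧ D.negIdx.getD r 0 < D.nroots ∧
    (D.IsNegRoot r → D.IsPosRoot (D.negIdx.getD r 0))

instance (D : ChevalleyDatum) : Decidable (NegInvOK D) := by unfold NegInvOK; infer_instance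

set_option maxRecDepth 100000 in
theorem negInvOK_G2 : NegInvOK chevG2 := by decide +kernel
set_option maxRecDepth 100000 in
theorem negInvOK_B2 : NegInvOK chevB2 := by decide +kernel
set_option maxRecDepth 100000 in
theorem negInvOK_D4 : NegInvOK chevD4 := by decide +kernel
set_option maxRecDepth 100000 in
theorem negInvOK_F4 : NegInvOK chevF4 := by decide +kernel
set_option maxRecDepth 100000 in
theorem negInvOK_E6 : NegInvOK chevE6 := by decide +kernel
set_option maxRecDepth 100000 in
theorem negInvOK_E7 : NegInvOK chevE7 := by decide +kernel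
set_option maxRecDepth 100000 in
theorem negInvOK_E8 : NegInvOK chevE8 := by decide +kernel

theorem negInvOK_of_mem (D : ChevalleyDatum)
    (hD : D ∈ [chevG2, chevB2, chevD4, chevF4, chevE6, chevE7, chevE8]) : NegInvOK D :=
  mem_seven_cases (P := NegInvOK) negInvOK_G2 negInvOK_B2 negInvOK_D4 negInvOK_F4 negInvOK_E6
    negInvOK_E7 negInvOK_E8 D hD

section
variable (D : ChevalleyDatum) (hD : D ∈ [chevG2, chevB2, chevD4, chevF4, chevE6, chevE7, chevE8])
  (F : Type*) [Field F]
include hD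

/-- a word in root elements as an element of GL -/
noncomputable def wordGL (w : List (ℕ × F)) : GL D.Idx F := (w.map fun p => xGL D hD F p.1 p.2).prod

theorem coe_wordGL (w : List (ℕ × F)) :
    ((wordGL D hD F w : GL D.Idx F) : Matrix D.Idx D.Idx F) = D.wordMat F w := by
  unfold wordGL ChevalleyDatum.wordMat
  induction w with
  | nil => simp
  | cons p w ih => 
    rw [List.map_cons, List.prod_cons, List.map_cons, List.prod_cons, Units.val_mul, ih, coe_xGL]

theorem wordGL_mem_group (w : List (ℕ × F)) : wordGL D hD F w ∈ D.group F := by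
  unfold wordGL
  apply Subgroup.list_prod_mem
  intro g hg
  rw [List.mem_map] at hg
  obtain ⟨p, _, rfl⟩ := hg
  exact xGL_mem_group D hD F p.1 p.2

theorem mem_group_of_coe_eq_wordMat (g : GL D.Idx F) (w : List (ℕ × F))
    (h : (g : Matrix D.Idx D.Idx F) = D.wordMat F w) : g ∈ D.group F := by
  have : g = wordGL D hD F w := Units.ext (by rw [h, coe_wordGL])
  rw [this]; exact wordGL_mem_group D hD F w

theorem wordGL_append (w1 w2 : List (ℕ × F)) :
    wordGL D hD F (w1 ++ w2) = wordGL D hD F w1 * wordGL D hD F w2 := by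
  unfold wordGL; rw [List.map_append, List.prod_append]

theorem xGL_mul (r : ℕ) (t₁ t₂ : F) : xGL D hD F r t₁ * xGL D hD F r t₂ = xGL D hD F r (t₁ + t₂) :=
  Units.ext (by rw [Units.val_mul, coe_xGL, coe_xGL, coe_xGL, x_add D hD])

theorem xGL_zero (r : ℕ) : xGL D hD F r 0 = 1 := Units.ext (by rw [coe_xGL, x_zero]; rfl)

theorem xGL_inv (r : ℕ) (t : F) : (xGL D hD F r t)⁻¹ = xGL D hD F r (-t) := by
  rw [inv_eq_iff_mul_eq_one, xGL_mul, add_neg_cancel, xGL_zero]

theorem nGL_eq (r : ℕ) (t : F) : wordGL D hD F (D.nWord r t) =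
    xGL D hD F r t * xGL D hD F (D.neg r) (-t⁻¹) * xGL D hD F r t := by
  unfold wordGL ChevalleyDatum.nWord
  simp [mul_assoc]

theorem nGL_neg_one_mul (r : ℕ) :
    wordGL D hD F (D.nWord r (-1)) * wordGL D hD F (D.nWord r 1) = 1 := by
  rw [nGL_eq, nGL_eq]
  have e1 : -(-1 : F)⁻¹ = 1 := by rw [inv_neg_one, neg_neg]
  have e2 : -(1 : F)⁻¹ = -1 := by rw [inv_one]
  rw [e1, e2]
  have h1 : xGL D hD F r (-1) * xGL D hD F r 1 = 1 := by rw [xGL_mul, neg_add_cancel, xGL_zero]
  have h2 : xGL D hD F (D.neg r) 1 * xGL D hD F (D.neg r) (-1) = 1 := by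
    rw [xGL_mul, add_neg_cancel, xGL_zero]
  calc xGL D hD F r (-1) * xGL D hD F (D.neg r) 1 * xGL D hD F r (-1) *
        (xGL D hD F r 1 * xGL D hD F (D.neg r) (-1) * xGL D hD F r 1)
      = xGL D hD F r (-1) * xGL D hD F (D.neg r) 1 * (xGL D hD F r (-1) * xGL D hD F r 1) *
          xGL D hD F (D.neg r) (-1) * xGL D hD F r 1 := by group
    _ = xGL D hD F r (-1) * (xGL D hD F (D.neg r) 1 * xGL D hD F (D.neg r) (-1)) * xGL D hD F r 1 := by
        rw [h1]; group
    _ = 1 := by rw [h2, mul_one, h1]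

/-- `n_r(t) = h_r(t) n_r(1)` -/
theorem nGL_eq_hGL_mul (r : ℕ) (t : F) :
    wordGL D hD F (D.nWord r t) = wordGL D hD F (D.hWord r t) * wordGL D hD F (D.nWord r 1) := by
  unfold ChevalleyDatum.hWord
  rw [wordGL_append, mul_assoc, nGL_neg_one_mul, mul_one]

end


end Cfsg.Agent.Lib.Helper7
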