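import Cfsg.Agent.Lib.Helper7.ChevPar0
import Cfsg.Agent.Lib.Helper7.ChevConjMain
import Cfsg.Agent.Lib.Helper7.ChevWordGL

/-! `P_J = ⟨H, X_r : r ∈ Φ⁺ ∪ Φ_J⟩` (helper7). -/

set_option autoImplicit false

namespace Cfsg.Agent.Lib.Helper7

open Cfsg Cfsg.Lie Matrix

section
variable (D : ChevalleyDatum) (hD : D ∈ [chevG2, chevB2, chevD4, chevF4, chevE6, chevE7, chevE8])
variable (F : Type*) [Field F]
include hD

/-- `n_p x_s(t) n_p⁻¹ = x_{w_p s}(η t)` in GL -/
theorem nGL_conj_xGL (i : ℕ) (hi : i < D.rank) (s : ℕ) (hs : s < D.nroots) (t : F) :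
    wordGL D hD F (D.nWord (D.simple i) 1) * xGL D hD F s t * (wordGL D hD F (D.nWord (D.simple i) 1))⁻¹ =
      xGL D hD F (D.reflectRoot i s) (((etaFn D i s : ℤ) : F) * t) := by
  have hc : wordGL D hD F (D.nWord (D.simple i) 1) * xGL D hD F s t =
      xGL D hD F (D.reflectRoot i s) (((etaFn D i s : ℤ) : F) * t) *
        wordGL D hD F (D.nWord (D.simple i) 1) := by
    apply Units.ext
    rw [Units.val_mul, Units.val_mul, coe_wordGL, coe_xGL, coe_xGL]
    exact nx_comm_of_mem D hD i hi F _ hs _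
  rw [hc, mul_assoc, mul_inv_cancel, mul_one]

theorem eta_sq (i : ℕ) (hi : i < D.rank) (s : ℕ) (hs : s < D.nroots) :
    ((etaFn D i s : ℤ) : F) * ((etaFn D i s : ℤ) : F) = 1 := by
  rcases (conjFacts_of_mem D hD i hi).ηpm s hs with h | h <;> rw [h] <;> norm_num

/-- if all `x_s(t)` lie in a subgroup containing `n_p`, so do all `x_{w_p s}(t)` -/
theorem xGL_reflect_mem (P : Subgroup (GL D.Idx F)) (i : ℕ) (hi : i < D.rank)
    (hn : wordGL D hD F (D.nWord (D.simple i) 1) ∈ P) (s : ℕ) (hs : s < D.nroots)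
    (hx : ∀ t : F, xGL D hD F s t ∈ P) (t : F) : xGL D hD F (D.reflectRoot i s) t ∈ P := by
  have h1 := nGL_conj_xGL D hD F i hi s hs (((etaFn D i s : ℤ) : F) * t)
  rw [← mul_assoc, eta_sq D hD F i hi s hs, one_mul] at h1
  rw [← h1]
  exact Subgroup.mul_mem _ (Subgroup.mul_mem _ hn (hx _)) (Subgroup.inv_mem _ hn)

theorem inRootSub_reflect (J : Set ℕ) (j : ℕ) (hj : j < D.rank) (hjJ : j ∈ J) (r : ℕ)
    (hr : D.InRootSub J r) : D.InRootSub J (D.reflectRoot j r) := by
  have hC := conjFacts_of_mem D hD j hj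
  refine ⟨hC.wlt r hr.1, ?_⟩
  intro k hk hkJ
  rw [hC.corRefl k hk r hr.1, hr.2 k hk hkJ]
  have : k ≠ j := fun h => hkJ (h ▸ hjJ)
  rw [if_neg this, sub_zero]

/-- the right-hand side of `P_J = ⟨H, X_r : r ∈ Φ⁺ ∪ Φ_J⟩` -/
def parGen (J : Set ℕ) : Subgroup (GL D.Idx F) :=
  D.diagonalSubgroup F ⊔ Subgroup.closure {g : GL D.Idx F | ∃ (r : ℕ) (t : F),
    (D.IsPosRoot r ∨ D.InRootSub J r) ∧ (g : Matrix D.Idx D.Idx F) = D.x F r t}

theorem nGL_mem_parabolic (J : Set ℕ) (j : ℕ) (hj : j < D.rank) (hjJ : j ∈ J) :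
    wordGL D hD F (D.nWord (D.simple j) 1) ∈ D.parabolicSubgroup F J := by
  unfold ChevalleyDatum.parabolicSubgroup
  apply Subgroup.mem_sup_right
  apply Subgroup.subset_closure
  refine ⟨j, hjJ, hj, ?_⟩
  rw [coe_wordGL]; rfl

theorem xGL_pos_mem_parabolic (J : Set ℕ) (r : ℕ) (hr : D.IsPosRoot r) (t : F) :
    xGL D hD F r t ∈ D.parabolicSubgroup F J := by
  unfold ChevalleyDatum.parabolicSubgroup ChevalleyDatum.borelSubgroup
  apply Subgroup.mem_sup_left
  apply Subgroup.mem_sup_left
  apply Subgroup.subset_closure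
  exact ⟨r, t, hr, coe_xGL D hD F r t⟩

/-- root elements of negative roots of `Φ_J` lie in `P_J` -/
theorem xGL_neg_mem_parabolic (J : Set ℕ) : ∀ (m : ℕ) (r : ℕ), (cabsL D r).sum ≤ m → D.IsNegRoot r →
    D.InRootSub J r → ∀ t : F, xGL D hD F r t ∈ D.parabolicSubgroup F J := by
  intro m
  induction m with
  | zero =>
    intro r hm hneg hJ t
    obtain ⟨j, hj, hne, h | h⟩ := (parFacts_of_mem D hD).descent r hneg
    · -- `r = -p_j`, but then the height is positive
      exfalso
      have : ((D.coroot.getD r #[]).getD j 0).natAbs ≤ (cabsL D r).sum := by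
        apply List.single_le_sum (fun _ _ => Nat.zero_le _)
        unfold cabsL
        rw [List.mem_map]
        exact ⟨j, List.mem_range.mpr hj, rfl⟩
      have h0 : ((D.coroot.getD r #[]).getD j 0).natAbs = 0 := by omega
      exact hne (Int.natAbs_eq_zero.mp h0)
    · omega
  | succ m ih =>
    intro r hm hneg hJ t
    obtain ⟨j, hj, hne, h | h⟩ := (parFacts_of_mem D hD).descent r hneg
    · -- `r = -p_j = w_j p_j`
      have hjJ : j ∈ J := by
        by_contra hcon
        exact hne (hJ.2 j hj hcon)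
      have hn := nGL_mem_parabolic D hD F J j hj hjJ
      have := xGL_reflect_mem D hD F _ j hj hn (D.simple j) (fundFacts_of_mem D hD j hj).hp
        (fun t => xGL_pos_mem_parabolic D hD F J _ ((parFacts_of_mem D hD).simplePos j hj) t) t
      rw [reflectRoot_simple] at this
      rw [h]; exact this
    · have hjJ : j ∈ J := by
        by_contra hcon
        exact hne (hJ.2 j hj hcon)
      have hn := nGL_mem_parabolic D hD F J j hj hjJ
      have hC := conjFacts_of_mem D hD j hj
      have hr' : D.reflectRoot j r < D.nroots := hC.wlt r hneg.1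
      have hJ' := inRootSub_reflect D hD J j hj hjJ r hJ
      have hx : ∀ t : F, xGL D hD F (D.reflectRoot j r) t ∈ D.parabolicSubgroup F J := by
        intro t
        rcases posOrNeg_of_mem D hD _ hr' with hp | hn'
        · exact xGL_pos_mem_parabolic D hD F J _ hp t
        · exact ih _ (by omega) hn' hJ' t
      have := xGL_reflect_mem D hD F _ j hj hn _ hr' hx t
      rw [hC.winv r hneg.1] at this
      exact this

theorem parabolic_eq_parGen (J : Set ℕ) : D.parabolicSubgroup F J = parGen D F J := by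
  apply le_antisymm
  · unfold ChevalleyDatum.parabolicSubgroup ChevalleyDatum.borelSubgroup parGen
    apply sup_le
    · apply sup_le
      · unfold ChevalleyDatum.posUnipotent
        refine le_trans (Subgroup.closure_mono ?_) le_sup_right
        rintro g ⟨r, t, hr, hg⟩
        exact ⟨r, t, Or.inl hr, hg⟩
      · exact le_sup_left
    · rw [Subgroup.closure_le]
      rintro g ⟨j, hjJ, hj, hg⟩
      have hgn : g = wordGL D hD F (D.nWord (D.simple j) 1) := Units.ext (by rw [hg, coe_wordGL]; rfl)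
      rw [hgn, nGL_eq]
      have hF := fundFacts_of_mem D hD j hj
      have hpos : ∀ t : F, xGL D hD F (D.simple j) t ∈ (D.diagonalSubgroup F ⊔ Subgroup.closure
          {g : GL D.Idx F | ∃ (r : ℕ) (t : F),
            (D.IsPosRoot r ∨ D.InRootSub J r) ∧ (g : Matrix D.Idx D.Idx F) = D.x F r t} :
            Subgroup (GL D.Idx F)) := by
        intro t
        apply Subgroup.mem_sup_right
        apply Subgroup.subset_closure
        exact ⟨_, t, Or.inl ((parFacts_of_mem D hD).simplePos j hj), coe_xGL D hD F _ t⟩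
      have hneg : ∀ t : F, xGL D hD F (D.neg (D.simple j)) t ∈ (D.diagonalSubgroup F ⊔ Subgroup.closure
          {g : GL D.Idx F | ∃ (r : ℕ) (t : F),
            (D.IsPosRoot r ∨ D.InRootSub J r) ∧ (g : Matrix D.Idx D.Idx F) = D.x F r t} :
            Subgroup (GL D.Idx F)) := by
        intro t
        apply Subgroup.mem_sup_right
        apply Subgroup.subset_closure
        refine ⟨_, t, Or.inr ?_, coe_xGL D hD F _ t⟩
        -- `-p_j = w_j p_j ∈ Φ_J`
        have h1 : D.InRootSub J (D.simple j) := by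
          refine ⟨hF.hp, ?_⟩
          intro k hk hkJ
          rw [hF.corUnit k hk, if_neg (fun h : k = j => hkJ (h ▸ hjJ))]
        have := inRootSub_reflect D hD J j hj hjJ _ h1
        rwa [reflectRoot_simple] at this
      exact Subgroup.mul_mem _ (Subgroup.mul_mem _ (hpos _) (hneg _)) (hpos _)
  · unfold parGen
    apply sup_le
    · unfold ChevalleyDatum.parabolicSubgroup ChevalleyDatum.borelSubgroup
      exact le_trans le_sup_right le_sup_left
    · rw [Subgroup.closure_le]
      rintro g ⟨r, t, hr, hg⟩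
      have hgx : g = xGL D hD F r t := Units.ext (by rw [hg, coe_xGL])
      rw [hgx]
      rcases hr with hr | hr
      · exact xGL_pos_mem_parabolic D hD F J r hr t
      · rcases posOrNeg_of_mem D hD r hr.1 with hp | hn
        · exact xGL_pos_mem_parabolic D hD F J r hp t
        · exact xGL_neg_mem_parabolic D hD F J _ r le_rfl hn hr t

end

end Cfsg.Agent.Lib.Helper7
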