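import Cfsg.Agent.Lib.Helper7.ChevOrd2

/-! Unique factorisation in `U` and `|U| = q^N`: final statements (helper7). -/

set_option autoImplicit false

namespace Cfsg.Agent.Lib.Helper7

open Cfsg Cfsg.Lie Matrix

theorem mem_posRoots (D : ChevalleyDatum) (r : ℕ) : r ∈ D.posRoots ↔ D.IsPosRoot r := by
  unfold ChevalleyDatum.posRoots
  rw [List.mem_filter, List.mem_range, decide_eq_true_iff]
  exact ⟨fun h => h.2, fun h => ⟨h.1, h⟩⟩

theorem posUnipotent_eq_closure_gensL (D : ChevalleyDatum) (F : Type*) [Field F] :
    D.posUnipotent F = Subgroup.closure (gensL D F D.posRoots) := by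
  unfold ChevalleyDatum.posUnipotent gensL
  congr 1
  ext g
  constructor
  · rintro ⟨r, t, hr, hg⟩
    exact ⟨r, (mem_posRoots D r).mpr hr, t, hg⟩
  · rintro ⟨r, hr, t, hg⟩
    exact ⟨r, t, (mem_posRoots D r).mp hr, hg⟩

section
variable (D : ChevalleyDatum) (hD : D ∈ [chevG2, chevB2, chevD4, chevF4, chevE6, chevE7, chevE8])
variable (F : Type*) [Field F]
include hD

/-- every element of `U` is a unique ordered product over the positive roots -/
theorem posUnipotent_unique_factorisation :
    (∀ g : GL D.Idx F, g ∈ D.posUnipotent F →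
      ∃! t : ℕ → F, (∀ r, ¬ D.IsPosRoot r → t r = 0) ∧
        (g : Matrix D.Idx D.Idx F) = D.wordMat F (D.posRoots.map fun r => (r, t r))) ∧
    (∀ t : ℕ → F, ∃ g : GL D.Idx F, g ∈ D.posUnipotent F ∧
      (g : Matrix D.Idx D.Idx F) = D.wordMat F (D.posRoots.map fun r => (r, t r))) := by
  obtain ⟨w, hO⟩ := exists_ordW D hD
  have hA := chainAdd_linF D hD w
  have hG := goodL_posRoots D
  constructor
  · intro g hg
    rw [posUnipotent_eq_closure_gensL] at hg
    obtain ⟨t, rfl⟩ := exists_ordProd D hD F _ hA hO _ hG g hg
    classical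
    refine ⟨fun r => if D.IsPosRoot r then t r else 0, ⟨?_, ?_⟩, ?_⟩
    · intro r hr
      show (if D.IsPosRoot r then t r else 0) = 0
      rw [if_neg hr]
    · have : ordProd D hD F D.posRoots t =
          ordProd D hD F D.posRoots (fun r => if D.IsPosRoot r then t r else 0) := by
        apply ordProd_congr
        intro r hr
        show t r = if D.IsPosRoot r then t r else 0
        rw [if_pos ((mem_posRoots D r).mp hr)]
      rw [this]
      unfold ordProd
      rw [coe_wordGL]
    · rintro u ⟨hu0, hu⟩
      have heq : ordProd D hD F D.posRoots u = ordProd D hD F D.posRoots t := by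
        apply Units.ext
        rw [hu]
        unfold ordProd
        rw [coe_wordGL]
      have hagree := ordProd_inj D hD F _ hA hO _ hG u t heq
      funext r
      by_cases hr : D.IsPosRoot r
      · show u r = if D.IsPosRoot r then t r else 0
        rw [if_pos hr]
        exact hagree r ((mem_posRoots D r).mpr hr)
      · show u r = if D.IsPosRoot r then t r else 0
        rw [if_neg hr]
        exact hu0 r hr
  · intro t
    refine ⟨ordProd D hD F D.posRoots t, ?_, ?_⟩
    · rw [posUnipotent_eq_closure_gensL]
      exact ordProd_mem D hD F _ t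
    · unfold ordProd
      rw [coe_wordGL]

/-- `|U| = q^N` -/
theorem card_posUnipotent [Fintype F] :
    Nat.card (D.posUnipotent F) = Fintype.card F ^ (D.nroots / 2) := by
  obtain ⟨w, hO⟩ := exists_ordW D hD
  have hA := chainAdd_linF D hD w
  have hG := goodL_posRoots D
  classical
  let extF : (↥(D.posRoots.toFinset) → F) → ℕ → F :=
    fun f r => if h : r ∈ D.posRoots.toFinset then f ⟨r, h⟩ else 0
  have hmemU : ∀ f : ↥(D.posRoots.toFinset) → F, ordProd D hD F D.posRoots (extF f) ∈ D.posUnipotent F := by
    intro f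
    rw [posUnipotent_eq_closure_gensL]
    exact ordProd_mem D hD F _ _
  let φ : (↥(D.posRoots.toFinset) → F) → ↥(D.posUnipotent F) :=
    fun f => ⟨ordProd D hD F D.posRoots (extF f), hmemU f⟩
  have hinj : Function.Injective φ := by
    intro f f' h
    have h1 : ordProd D hD F D.posRoots (extF f) = ordProd D hD F D.posRoots (extF f') :=
      congrArg Subtype.val h
    have hagree := ordProd_inj D hD F _ hA hO _ hG _ _ h1
    funext ⟨r, hr⟩
    have := hagree r (List.mem_toFinset.mp hr)
    simp only [extF, dif_pos hr] at this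
    exact this
  have hsurj : Function.Surjective φ := by
    rintro ⟨g, hg⟩
    rw [posUnipotent_eq_closure_gensL] at hg
    obtain ⟨t, rfl⟩ := exists_ordProd D hD F _ hA hO _ hG g hg
    refine ⟨fun x => t x.val, ?_⟩
    apply Subtype.ext
    show ordProd D hD F D.posRoots (extF fun x => t x.val) = ordProd D hD F D.posRoots t
    apply ordProd_congr
    intro r hr
    simp only [extF, dif_pos (List.mem_toFinset.mpr hr)]
  rw [← Nat.card_congr (Equiv.ofBijective φ ⟨hinj, hsurj⟩), Nat.card_fun, Nat.card_eq_fintype_card,
    Nat.card_eq_fintype_card, Fintype.card_coe, List.toFinset_card_of_nodup, hO.len]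
  exact hG.sorted.imp (fun h => ne_of_lt h)

end

end Cfsg.Agent.Lib.Helper7
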