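import Cfsg.Agent.Lib.Helper7.ChevFund

set_option autoImplicit false

namespace Cfsg.Agent.Lib.Helper7

open Cfsg Cfsg.Lie Matrix

/-- pack a list of small numbers into one natural number (base 256) -/
def packL : List ℕ → ℕ
  | [] => 0
  | a :: l => a + 256 * packL l

theorem packL_access : ∀ (l : List ℕ), (∀ a ∈ l, a < 256) → ∀ u : ℕ, packL l / 256 ^ u % 256 = l.getD u 0
  | [], _, u => by simp [packL]
  | a :: l, h, 0 => by
    have ha : a < 256 := h a (List.mem_cons_self ..)
    simp only [packL, pow_zero, Nat.div_one, List.getD_cons_zero]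
    rw [Nat.add_mul_mod_self_left]; exact Nat.mod_eq_of_lt ha
  | a :: l, h, u + 1 => by
    have ha : a < 256 := h a (List.mem_cons_self ..)
    have ih := packL_access l (fun b hb => h b (List.mem_cons_of_mem _ hb)) u
    simp only [packL, List.getD_cons_succ]
    rw [pow_succ, mul_comm (256 ^ u) 256, ← Nat.div_div_eq_div_mul]
    have : (a + 256 * packL l) / 256 = packL l := by
      rw [Nat.add_mul_div_left _ _ (by norm_num : 0 < 256), Nat.div_eq_of_lt ha, zero_add]
    rw [this, ih]

theorem array_getD_eq_toList (a : Array ℤ) (u : ℕ) (hu : u < a.toList.length) : a.getD u 0 = a.toList[u] := by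
  have hu' : u < a.size := by simpa using hu
  simp [Array.getD, hu']

/-- the `i`-th row of Cartan integers, packed -/
def rowPack (D : ChevalleyDatum) (i : ℕ) : ℕ :=
  packL (((D.cartanSR.getD i #[]).toList).map (fun a => (a + 16).toNat))

/-- fast access to the Cartan integer `A_{p_i, u}` -/
def carAcc (D : ChevalleyDatum) (i u : ℕ) : ℤ := ((rowPack D i / 256 ^ u % 256 : ℕ) : ℤ) - 16

def rowOKB (D : ChevalleyDatum) (i : ℕ) : Bool :=
  (D.cartanSR.getD i #[]).toList.length == D.nroots &&
    (D.cartanSR.getD i #[]).toList.all (fun a => decide (-16 ≤ a) && decide (a < 240))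

theorem carAcc_eq (D : ChevalleyDatum) (i u : ℕ) (h : rowOKB D i = true) (hu : u < D.nroots) :
    carAcc D i u = D.cartan i u := by
  unfold rowOKB at h
  simp only [Bool.and_eq_true, beq_iff_eq, List.all_eq_true, decide_eq_true_eq] at h
  obtain ⟨hlen, hall⟩ := h
  unfold carAcc rowPack ChevalleyDatum.cartan
  rw [packL_access]
  · have hu' : u < (D.cartanSR.getD i #[]).toList.length := by rw [hlen]; exact hu
    rw [List.getD_eq_getElem _ _ (by simpa using hu')]
    simp only [List.getElem_map]
    have hmem := hall _ (List.getElem_mem hu')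
    have e1 : (D.cartanSR.getD i #[]).getD u 0 = (D.cartanSR.getD i #[]).toList[u] :=
      array_getD_eq_toList _ u hu'
    rw [e1]
    have : 0 ≤ (D.cartanSR.getD i #[]).toList[u] + 16 := by linarith [hmem.1]
    rw [Int.toNat_of_nonneg this]; ring
  · intro a ha
    rw [List.mem_map] at ha
    obtain ⟨b, hb, rfl⟩ := ha
    have := hall b hb
    omega


/-- Cartan integers `A_{p_i,·}` change sign under `neg` and are additive along all chains -/
def hxOKB (D : ChevalleyDatum) (i : ℕ) : Bool :=
  rowOKB D i && withMask (rowPack D i) fun P =>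
    (List.range D.nroots).all (fun s => P / 256 ^ (D.neg s) % 256 + P / 256 ^ s % 256 == 32) &&
    (D.chain.toList.zipIdx).all fun cs =>
      cs.1.toList.all fun e =>
        (entryList e).all fun x =>
          P / 256 ^ x.1 % 256 + 16 * x.2.1 == P / 256 ^ e.1 % 256 + x.2.1 * (P / 256 ^ cs.2 % 256)

/-- semantic content of `hxOKB` -/
structure HxFacts (D : ChevalleyDatum) (i : ℕ) : Prop where
  negCar : ∀ s < D.nroots, D.neg s < D.nroots → D.cartan i (D.neg s) = - D.cartan i s
  addCar : ∀ s < D.nroots, ∀ v < D.nroots, ∀ x ∈ ccAll D s v, x.1 < D.nroots →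
    D.cartan i x.1 = D.cartan i v + x.2.1 * D.cartan i s

theorem mem_chain_zipIdx (D : ChevalleyDatum) (s : ℕ) (e : ℕ × Array (ℕ × ℤ))
    (he : e ∈ (D.chain.getD s #[]).toList) : (D.chain.getD s #[], s) ∈ D.chain.toList.zipIdx := by
  rw [List.mk_mem_zipIdx_iff_getElem?, Array.getElem?_toList]
  by_cases hs : s < D.chain.size
  · simp [Array.getD, hs]
  · exfalso
    have : D.chain.getD s #[] = #[] := by simp [Array.getD, hs]
    rw [this] at he
    simp at he

theorem hxFacts_of_hxOKB (D : ChevalleyDatum) (i : ℕ) (h : hxOKB D i = true) : HxFacts D i := by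
  unfold hxOKB at h
  rw [withMask_eq] at h
  simp only [Bool.and_eq_true, List.all_eq_true, beq_iff_eq, List.mem_range] at h
  obtain ⟨h0, h1, h2⟩ := h
  have hc : ∀ u < D.nroots, D.cartan i u = ((rowPack D i / 256 ^ u % 256 : ℕ) : ℤ) - 16 := by
    intro u hu
    rw [← carAcc_eq D i u h0 hu]; rfl
  constructor
  · intro s hs hns
    rw [hc s hs, hc _ hns]
    have := h1 s hs
    omega
  · intro s hs v hv x hx hx1
    unfold ccAll at hx
    rw [List.mem_flatMap] at hx
    obtain ⟨e, he, hxe⟩ := hx
    rw [List.mem_filter] at he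
    obtain ⟨he1, he2⟩ := he
    have hev : e.1 = v := by simpa using he2
    have h3 := h2 _ (mem_chain_zipIdx D s e he1) e he1 x hxe
    rw [hc _ hx1, hc v hv, hc s hs]
    rw [hev] at h3
    have h4 : ((rowPack D i / 256 ^ x.1 % 256 : ℕ) : ℤ) + 16 * (x.2.1 : ℤ) =
        ((rowPack D i / 256 ^ v % 256 : ℕ) : ℤ) + (x.2.1 : ℤ) * ((rowPack D i / 256 ^ s % 256 : ℕ) : ℤ) := by
      exact_mod_cast h3
    linarith

theorem list_sum_map_mul_congr {α : Type*} {F : Type*} [Field F] (T : List α) (f g : α → F) (a b : F)
    (h : ∀ x ∈ T, a * f x = g x * b) : a * (T.map f).sum = (T.map g).sum * b := by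
  induction T with
  | nil => simp
  | cons x T ih =>
    simp only [List.map_cons, List.sum_cons, mul_add, add_mul]
    rw [h x (List.mem_cons_self ..), ih (fun y hy => h y (List.mem_cons_of_mem _ hy))]

theorem diag_xMat_comm (D : ChevalleyDatum) (i : ℕ) (hH : HxFacts D i)
    (F : Type*) [Field F] (s : Fin D.nroots) (c : F) (hc : c ≠ 0) (t : F) :
    Matrix.diagonal (Sum.elim (fun _ => (1 : F)) (fun u : Fin D.nroots => c ^ (D.cartan i u))) * D.xMat F s t =
      D.xMat F s (c ^ (D.cartan i s) * t) *
        Matrix.diagonal (Sum.elim (fun _ => (1 : F)) (fun u : Fin D.nroots => c ^ (D.cartan i u))) := by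
  have hcA : ∀ n : ℤ, c ^ n ≠ 0 := fun n => zpow_ne_zero n hc
  ext row col
  rw [Matrix.diagonal_mul, Matrix.mul_diagonal]
  rcases col with j | v
  · rcases row with j' | u
    · simp only [Sum.elim_inl, xMat_inl_inl, one_mul, mul_one]
    · simp only [Sum.elim_inl, Sum.elim_inr, xMat_inr_inl]
      by_cases hu : u = s
      · subst hu; simp only [if_true]; ring
      · simp only [hu, if_false, mul_zero, zero_mul]
  · by_cases hvs : v = s
    · subst hvs
      rcases row with j' | u
      · simp only [xMat_inl_self, mul_zero, zero_mul]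
      · simp only [xMat_inr_self, Sum.elim_inr]
        by_cases hu : u = v
        · subst hu; simp only [if_true]; ring
        · simp only [hu, if_false, mul_zero, zero_mul]
    · by_cases hneg : v.val = D.negIdx.getD s.val 0
      · have hcar : D.cartan i v = - D.cartan i s := by
          have hv : v.val = D.neg s.val := hneg
          rw [hv]
          exact hH.negCar s.val s.isLt (hv ▸ v.isLt)
        rcases row with j' | u
        · simp only [xMat_inl_neg D F s _ v hvs hneg, Sum.elim_inl, Sum.elim_inr, hcar, one_mul]
          rw [_root_.zpow_neg]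
          field_simp
        · simp only [xMat_inr_neg D F s _ v hvs hneg, Sum.elim_inr]
          by_cases hu : u = v
          · subst hu; simp only [if_true]; ring
          · simp only [hu, if_false]
            by_cases hus : u = s
            · subst hus
              simp only [if_true, hcar]
              rw [_root_.zpow_neg]
              field_simp
            · simp only [hus, if_false, mul_zero, zero_mul]
      · rcases row with j' | u
        · simp only [xMat_inl_gen D F s _ v hvs hneg, mul_zero, zero_mul]
        · simp only [xMat_inr_gen D F s _ v hvs hneg, Sum.elim_inr]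
          rw [mul_add, add_mul]
          congr 1
          · by_cases hu : u = v
            · subst hu; simp only [if_true]; ring
            · simp only [hu, if_false, mul_zero, zero_mul]
          · unfold polyAt
            apply list_sum_map_mul_congr
            intro x hx
            by_cases hxu : x.1 = u.val
            · simp only [hxu, if_true]
              have h1 := hH.addCar s.val s.isLt v.val v.isLt x hx (hxu ▸ u.isLt)
              rw [hxu] at h1
              rw [h1, zpow_add₀ hc, mul_comm (x.2.1 : ℤ), _root_.zpow_mul, zpow_natCast]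
              ring
            · simp only [hxu, if_false, mul_zero, zero_mul]

theorem hx_comm (D : ChevalleyDatum) (i : ℕ) (hF : FundFacts D i) (hH : HxFacts D i)
    (F : Type*) [Field F] (s : ℕ) (c : F) (hc : c ≠ 0) (t : F) :
    D.hMat F (D.simple i) c * D.x F s t = D.x F s (c ^ (D.cartan i s) * t) * D.hMat F (D.simple i) c := by
  by_cases hs : s < D.nroots
  · rw [x_eq_xMat D F s hs, x_eq_xMat D F s hs, hMat_fund D i hF F c hc]
    exact diag_xMat_comm D i hH F ⟨s, hs⟩ c hc t
  · unfold ChevalleyDatum.x
    rw [dif_neg hs, dif_neg hs, mul_one, one_mul]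

/-- the check for all fundamental roots -/
def hxAllB (D : ChevalleyDatum) : Bool := (List.range D.rank).all (hxOKB D)

theorem hxFacts_of_hxAllB (D : ChevalleyDatum) (h : hxAllB D = true) (i : ℕ) (hi : i < D.rank) : HxFacts D i := by
  unfold hxAllB at h
  rw [List.all_eq_true] at h
  exact hxFacts_of_hxOKB D i (h i (List.mem_range.mpr hi))

end Cfsg.Agent.Lib.Helper7
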