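import Cfsg.Agent.Lib.Helper7.ChevRoot
import Cfsg.Agent.Lib.Helper7.ChevHx

set_option autoImplicit false

namespace Cfsg.Agent.Lib.Helper7

open Cfsg Cfsg.Lie Matrix

/-- `χ` is a character of the root lattice, as seen on the chain tables -/
structure ChainChar (D : ChevalleyDatum) (F : Type*) [Field F] (χ : ℕ → F) : Prop where
  ne0 : ∀ s < D.nroots, χ s ≠ 0
  negC : ∀ s < D.nroots, D.neg s < D.nroots → χ (D.neg s) = (χ s)⁻¹
  addC : ∀ s < D.nroots, ∀ v < D.nroots, ∀ x ∈ ccAll D s v, x.1 < D.nroots → χ x.1 = χ v * χ s ^ x.2.1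

/-- the diagonal matrix of a character -/
def diagChar (D : ChevalleyDatum) (F : Type*) [Field F] (χ : ℕ → F) : Matrix D.Idx D.Idx F :=
  Matrix.diagonal (Sum.elim (fun _ => (1 : F)) (fun u : Fin D.nroots => χ u.val))

theorem diagChar_xMat_comm (D : ChevalleyDatum) (F : Type*) [Field F] (χ : ℕ → F) (hχ : ChainChar D F χ)
    (s : Fin D.nroots) (t : F) :
    diagChar D F χ * D.xMat F s t = D.xMat F s (χ s.val * t) * diagChar D F χ := by
  have hs0 : χ s.val ≠ 0 := hχ.ne0 s.val s.isLt
  unfold diagChar
  ext row col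
  rw [Matrix.diagonal_mul, Matrix.mul_diagonal]
  rcases col with j | v
  · rcases row with j' | u
    · simp only [Sum.elim_inl, xMat_inl_inl, one_mul, mul_one]
    · simp only [Sum.elim_inl, Sum.elim_inr, xMat_inr_inl]
      by_cases hu : u = s
      · subst hu; simp only [if_true]; ring
      · simp only [hu, if_false, mul_zero, zero_mul]
  · by_cases hvs : v = s
    · subst hvs
      rcases row with j' | u
      · simp only [xMat_inl_self, mul_zero, zero_mul]
      · simp only [xMat_inr_self, Sum.elim_inr]
        by_cases hu : u = v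
        · subst hu; simp only [if_true]; ring
        · simp only [hu, if_false, mul_zero, zero_mul]
    · by_cases hneg : v.val = D.negIdx.getD s.val 0
      · have hcar : χ v.val = (χ s.val)⁻¹ := by
          have hv : v.val = D.neg s.val := hneg
          rw [hv]
          exact hχ.negC s.val s.isLt (hv ▸ v.isLt)
        rcases row with j' | u
        · simp only [xMat_inl_neg D F s _ v hvs hneg, Sum.elim_inl, Sum.elim_inr, hcar, one_mul]
          field_simp
        · simp only [xMat_inr_neg D F s _ v hvs hneg, Sum.elim_inr]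
          by_cases hu : u = v
          · subst hu; simp only [if_true]; ring
          · simp only [hu, if_false]
            by_cases hus : u = s
            · subst hus
              simp only [if_true, hcar]
              field_simp
            · simp only [hus, if_false, mul_zero, zero_mul]
      · rcases row with j' | u
        · simp only [xMat_inl_gen D F s _ v hvs hneg, mul_zero, zero_mul]
        · simp only [xMat_inr_gen D F s _ v hvs hneg, Sum.elim_inr]
          rw [mul_add, add_mul]
          congr 1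
          · by_cases hu : u = v
            · subst hu; simp only [if_true]; ring
            · simp only [hu, if_false, mul_zero, zero_mul]
          · unfold polyAt
            apply list_sum_map_mul_congr
            intro x hx
            by_cases hxu : x.1 = u.val
            · simp only [hxu, if_true]
              have h1 := hχ.addC s.val s.isLt v.val v.isLt x hx (hxu ▸ u.isLt)
              rw [hxu] at h1
              rw [h1]
              ring
            · simp only [hxu, if_false, mul_zero, zero_mul]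

/-- `diag(χ) x_s(t) = x_s(χ(s) t) diag(χ)` -/
theorem diagChar_x_comm (D : ChevalleyDatum) (F : Type*) [Field F] (χ : ℕ → F) (hχ : ChainChar D F χ)
    (s : ℕ) (t : F) :
    diagChar D F χ * D.x F s t = D.x F s (χ s * t) * diagChar D F χ := by
  by_cases hs : s < D.nroots
  · rw [x_eq_xMat D F s hs, x_eq_xMat D F s hs]
    exact diagChar_xMat_comm D F χ hχ ⟨s, hs⟩ t
  · unfold ChevalleyDatum.x
    rw [dif_neg hs, dif_neg hs, mul_one, one_mul]

/-- an integer-valued function additive along chains -/
structure ChainAdd (D : ChevalleyDatum) (A : ℕ → ℤ) : Prop where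
  negA : ∀ s < D.nroots, D.neg s < D.nroots → A (D.neg s) = - A s
  addA : ∀ s < D.nroots, ∀ v < D.nroots, ∀ x ∈ ccAll D s v, x.1 < D.nroots → A x.1 = A v + x.2.1 * A s

theorem chainAdd_cartan (D : ChevalleyDatum) (i : ℕ) (hH : HxFacts D i) : ChainAdd D (D.cartan i) :=
  ⟨hH.negCar, hH.addCar⟩

theorem chainAdd_zero (D : ChevalleyDatum) : ChainAdd D (fun _ => 0) :=
  ⟨fun _ _ _ => by simp, fun _ _ _ _ _ _ _ => by simp⟩

theorem ChainAdd.add {D : ChevalleyDatum} {A B : ℕ → ℤ} (hA : ChainAdd D A) (hB : ChainAdd D B) :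
    ChainAdd D (fun s => A s + B s) :=
  ⟨fun s hs hn => by rw [hA.negA s hs hn, hB.negA s hs hn]; ring,
   fun s hs v hv x hx hx1 => by rw [hA.addA s hs v hv x hx hx1, hB.addA s hs v hv x hx hx1]; ring⟩

theorem ChainAdd.smul {D : ChevalleyDatum} {A : ℕ → ℤ} (hA : ChainAdd D A) (c : ℤ) :
    ChainAdd D (fun s => c * A s) :=
  ⟨fun s hs hn => by rw [hA.negA s hs hn]; ring,
   fun s hs v hv x hx hx1 => by rw [hA.addA s hs v hv x hx hx1]; ring⟩

theorem chainAdd_listSum (D : ChevalleyDatum) (L : List ℕ) (c : ℕ → ℤ) (A : ℕ → ℕ → ℤ)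
    (hA : ∀ k ∈ L, ChainAdd D (A k)) : ChainAdd D (fun s => (L.map fun k => c k * A k s).sum) := by
  induction L with
  | nil => simpa using chainAdd_zero D
  | cons a L ih =>
    have h1 := (hA a (List.mem_cons_self ..)).smul (c a)
    have h2 := ih (fun k hk => hA k (List.mem_cons_of_mem _ hk))
    simpa using h1.add h2

theorem chainAdd_carR (D : ChevalleyDatum) (hH : ∀ k < D.rank, HxFacts D k) (r : ℕ) :
    ChainAdd D (carR D r) := by
  unfold carR
  exact chainAdd_listSum D (List.range D.rank) (fun k => (D.coroot.getD r #[]).getD k 0) (fun k => D.cartan k)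
    (fun k hk => chainAdd_cartan D k (hH k (List.mem_range.mp hk)))

theorem chainChar_zpow (D : ChevalleyDatum) (F : Type*) [Field F] (A : ℕ → ℤ) (hA : ChainAdd D A) (c : F) (hc : c ≠ 0) :
    ChainChar D F (fun s => c ^ A s) :=
  ⟨fun s _ => zpow_ne_zero _ hc,
   fun s hs hn => by rw [hA.negA s hs hn, _root_.zpow_neg],
   fun s hs v hv x hx hx1 => by
    rw [hA.addA s hs v hv x hx hx1, zpow_add₀ hc, mul_comm (x.2.1 : ℤ), _root_.zpow_mul, zpow_natCast]⟩

theorem chainChar_one (D : ChevalleyDatum) (F : Type*) [Field F] : ChainChar D F (fun _ => 1) :=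
  ⟨fun _ _ => one_ne_zero, fun _ _ _ => by simp, fun _ _ _ _ _ _ _ => by simp⟩

theorem ChainChar.mul {D : ChevalleyDatum} {F : Type*} [Field F] {χ ψ : ℕ → F} (h1 : ChainChar D F χ)
    (h2 : ChainChar D F ψ) : ChainChar D F (fun s => χ s * ψ s) :=
  ⟨fun s hs => mul_ne_zero (h1.ne0 s hs) (h2.ne0 s hs),
   fun s hs hn => by rw [h1.negC s hs hn, h2.negC s hs hn, mul_inv],
   fun s hs v hv x hx hx1 => by rw [h1.addC s hs v hv x hx hx1, h2.addC s hs v hv x hx hx1, mul_pow]; ring⟩

theorem ChainChar.inv {D : ChevalleyDatum} {F : Type*} [Field F] {χ : ℕ → F} (h1 : ChainChar D F χ) :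
    ChainChar D F (fun s => (χ s)⁻¹) :=
  ⟨fun s hs => inv_ne_zero (h1.ne0 s hs),
   fun s hs hn => by rw [h1.negC s hs hn],
   fun s hs v hv x hx hx1 => by rw [h1.addC s hs v hv x hx hx1, mul_inv, inv_pow]⟩

theorem diagChar_mul (D : ChevalleyDatum) (F : Type*) [Field F] (χ ψ : ℕ → F) :
    diagChar D F χ * diagChar D F ψ = diagChar D F (fun s => χ s * ψ s) := by
  unfold diagChar
  rw [Matrix.diagonal_mul_diagonal]
  congr 1
  funext x
  rcases x with j | s <;> simp

theorem diagChar_one (D : ChevalleyDatum) (F : Type*) [Field F] : diagChar D F (fun _ => 1) = 1 := by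
  unfold diagChar
  rw [← Matrix.diagonal_one]
  congr 1
  funext x
  rcases x with j | s <;> simp

end Cfsg.Agent.Lib.Helper7
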