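import Cfsg.Agent.Lib.Helper7.ChevHxAll
import Cfsg.Agent.Lib.Helper7.ChevFundMain

/-! `h_p(c) x_s(t) = x_s(c^{A_{p,s}} t) h_p(c)` for fundamental roots `p` of the seven tabulated Chevalley data
(helper7). -/

set_option autoImplicit false
namespace Cfsg.Agent.Lib.Helper7
open Cfsg Cfsg.Lie

/-- `h_p(c) x_s(t) = x_s(c^{A_{p,s}} t) h_p(c)` for the `i`-th fundamental root `p` -/
theorem hx_comm_of_mem (D : ChevalleyDatum)
    (hD : D ∈ [chevG2, chevB2, chevD4, chevF4, chevE6, chevE7, chevE8]) (i : ℕ) (hi : i < D.rank)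
    (F : Type*) [Field F] (s : ℕ) (c : F) (hc : c ≠ 0) (t : F) :
    D.hMat F (D.simple i) c * D.x F s t = D.x F s (c ^ (D.cartan i s) * t) * D.hMat F (D.simple i) c :=
  hx_comm D i (fundFacts_of_mem D hD i hi) (hxFacts_of_mem D hD i hi) F s c hc t

end Cfsg.Agent.Lib.Helper7
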