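import Cfsg.Agent.Lib.Helper7.ChevH

set_option autoImplicit false

namespace Cfsg.Agent.Lib.Helper7

open Cfsg Cfsg.Lie Matrix
open scoped Pointwise

section
variable (D : ChevalleyDatum) (hD : D ∈ [chevG2, chevB2, chevD4, chevF4, chevE6, chevE7, chevE8])
variable (F : Type*) [Field F]
include hD

theorem diagonalSubgroup_comm (a b : GL D.Idx F) (ha : a ∈ D.diagonalSubgroup F) (hb : b ∈ D.diagonalSubgroup F) :
    a * b = b * a := by
  obtain ⟨χ, -, h1⟩ := mem_diagonalSubgroup_char D hD F a ha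
  obtain ⟨ψ, -, h2⟩ := mem_diagonalSubgroup_char D hD F b hb
  apply Units.ext
  rw [Units.val_mul, Units.val_mul, h1, h2, diagChar_mul, diagChar_mul]
  congr 1
  funext s
  exact mul_comm _ _

theorem borel_isSolvable : Group.IsSolvable ↥(D.borelSubgroup F) := by
  unfold ChevalleyDatum.borelSubgroup
  set U := D.posUnipotent F with hU
  set H := D.diagonalSubgroup F with hH
  have hHN : H ≤ Subgroup.normalizer (U : Set (GL D.Idx F)) :=
    diagonalSubgroup_le_normalizer_posUnipotent D hD F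
  have hUB : U ≤ U ⊔ H := le_sup_left
  have hBN : U ⊔ H ≤ Subgroup.normalizer (U : Set (GL D.Idx F)) := sup_le Subgroup.le_normalizer hHN
  haveI hnorm : (U.subgroupOf (U ⊔ H)).Normal := (Subgroup.normal_subgroupOf_iff_le_normalizer hUB).mpr hBN
  haveI : Group.IsNilpotent ↥U := posUnipotent_isNilpotent D (triOK_of_mem D hD) F
  haveI : Group.IsSolvable ↥(U.subgroupOf (U ⊔ H)) :=
    Group.isSolvable_of_isSolvable_injective (f := (Subgroup.subgroupOfEquivOfLe hUB).toMonoidHom)
      (Subgroup.subgroupOfEquivOfLe hUB).injective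
  have hset : ((U ⊔ H : Subgroup (GL D.Idx F)) : Set (GL D.Idx F)) = (H : Set (GL D.Idx F)) * (U : Set (GL D.Idx F)) := by
    rw [sup_comm]
    exact Subgroup.coe_mul_of_left_le_normalizer_right H U hHN
  have key : ∀ x : ↥(U ⊔ H), ∃ h : ↥(U ⊔ H), h.val ∈ H ∧
      (QuotientGroup.mk x : ↥(U ⊔ H) ⧸ U.subgroupOf (U ⊔ H)) = QuotientGroup.mk h := by
    intro x
    have hx : x.val ∈ (H : Set (GL D.Idx F)) * (U : Set (GL D.Idx F)) := by rw [← hset]; exact x.2
    obtain ⟨h, hh, u, hu, huh⟩ := Set.mem_mul.mp hx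
    refine ⟨⟨h, le_sup_right (a := U) hh⟩, hh, ?_⟩
    rw [QuotientGroup.eq]
    rw [Subgroup.mem_subgroupOf]
    have : ((x⁻¹ * ⟨h, le_sup_right (a := U) hh⟩ : ↥(U ⊔ H)) : GL D.Idx F) = u⁻¹ := by
      show (x.val)⁻¹ * h = u⁻¹
      rw [← huh]; group
    rw [this]
    exact Subgroup.inv_mem _ hu
  have hcomm : Group.IsSolvable (↥(U ⊔ H) ⧸ U.subgroupOf (U ⊔ H)) := by
    apply Group.isSolvable_of_comm
    intro a b
    induction a using QuotientGroup.induction_on with
    | H x =>
      induction b using QuotientGroup.induction_on with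
      | H y =>
        obtain ⟨h1, hh1, e1⟩ := key x
        obtain ⟨h2, hh2, e2⟩ := key y
        rw [e1, e2, ← QuotientGroup.mk_mul, ← QuotientGroup.mk_mul]
        congr 1
        apply Subtype.ext
        exact diagonalSubgroup_comm D hD F _ _ hh1 hh2
  exact (Group.isSolvable_iff_subgroup_quotient (U.subgroupOf (U ⊔ H))).mpr ⟨inferInstance, hcomm⟩

end

end Cfsg.Agent.Lib.Helper7
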