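import Mathlib.FieldTheory.Finite.Basic
import Mathlib.GroupTheory.SpecificGroups.Cyclic
import Mathlib.Algebra.CharP.Lemmas
import Mathlib.Algebra.Ring.GeomSum
import Mathlib.Algebra.IsPrimePow

/-! The `q`-power Frobenius of a finite field with `q^m` elements (helper7). -/

set_option autoImplicit false

namespace Cfsg.Agent.Lib.Helper7

/-- the number of solutions of `a^q = a` in a finite field with `q^m` elements -/
theorem card_pow_eq_self (K : Type*) [Field K] [Fintype K] (q m : ℕ) (hq : 1 < q) (hm : 0 < m)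
    (hK : Fintype.card K = q ^ m) : Nat.card {a : K // a ^ q = a} = q := by
  classical
  have hcardU : Nat.card Kˣ = q ^ m - 1 := by
    rw [Nat.card_eq_fintype_card, Fintype.card_units, hK]
  have hker : Nat.card (powMonoidHom (q - 1) : Kˣ →* Kˣ).ker = q - 1 := by
    rw [IsCyclic.card_powMonoidHom_ker, hcardU]
    apply Nat.gcd_eq_right
    have := sub_one_dvd_pow_sub_one (q : ℤ) m
    have h1 : ((q - 1 : ℕ) : ℤ) = (q : ℤ) - 1 := by
      rw [Nat.cast_sub (by omega)]; simp
    have h2 : ((q ^ m - 1 : ℕ) : ℤ) = (q : ℤ) ^ m - 1 := by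
      rw [Nat.cast_sub (Nat.one_le_pow _ _ (by omega))]; simp
    rw [← h1, ← h2] at this
    exact_mod_cast this
  have e : {a : K // a ^ q = a} ≃ Option ↥(powMonoidHom (q - 1) : Kˣ →* Kˣ).ker := by
    refine ⟨fun a => if h : a.1 = 0 then none else some ⟨Units.mk0 a.1 h, ?_⟩,
      fun o => match o with
        | none => ⟨0, zero_pow (by omega)⟩
        | some u => ⟨((u.1 : Kˣ) : K), ?_⟩, ?_, ?_⟩
    · rw [MonoidHom.mem_ker, powMonoidHom_apply]
      apply Units.ext
      rw [Units.val_pow_eq_pow_val, Units.val_mk0, Units.val_one]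
      have h1 : a.1 ^ (q - 1) * a.1 = a.1 := by
        rw [← pow_succ, Nat.sub_add_cancel (by omega)]; exact a.2
      have h2 : a.1 ^ (q - 1) * a.1 = 1 * a.1 := by rw [h1, one_mul]
      exact mul_right_cancel₀ h h2
    · have hu := u.2
      rw [MonoidHom.mem_ker, powMonoidHom_apply] at hu
      have : ((u.1 : Kˣ) : K) ^ (q - 1) = 1 := by
        rw [← Units.val_pow_eq_pow_val, hu, Units.val_one]
      calc ((u.1 : Kˣ) : K) ^ q = ((u.1 : Kˣ) : K) ^ (q - 1) * ((u.1 : Kˣ) : K) := by
            rw [← pow_succ, Nat.sub_add_cancel (by omega)]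
        _ = _ := by rw [this, one_mul]
    · rintro ⟨a, ha⟩
      by_cases h : a = 0
      · simp [h]
      · simp [h]
    · rintro (_ | u)
      · simp
      · have : ((u.1 : Kˣ) : K) ≠ 0 := Units.ne_zero _
        simp [this]
  rw [Nat.card_congr e, Nat.card_eq_fintype_card, Fintype.card_option, ← Nat.card_eq_fintype_card, hker]
  omega

/-- the `q`-power Frobenius of a finite field with `q^m` elements -/
theorem exists_frob (K : Type*) [Field K] [Fintype K] (q m : ℕ) (hq : IsPrimePow q) (hm : 0 < m)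
    (hK : Fintype.card K = q ^ m) :
    ∃ φ : K ≃+* K, (∀ a, φ a = a ^ q) ∧ (∀ a, φ^[m] a = a) ∧ Nat.card {a : K // φ a = a} = q := by
  obtain ⟨p, hp⟩ := CharP.exists K
  have hpp : p.Prime := (CharP.char_is_prime_or_zero K p).resolve_right (CharP.char_ne_zero_of_finite K p)
  haveI : Fact p.Prime := ⟨hpp⟩
  obtain ⟨n, -, hn⟩ := FiniteField.card K p
  obtain ⟨p', k, hp', hk, rfl⟩ := hq
  have hp'p : p' = p := by
    have h1 : p' ∣ p ^ (n : ℕ) := by
      rw [← hn, hK, ← pow_mul]
      exact dvd_pow_self p' (by positivity)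
    have h2 := (Nat.Prime.dvd_of_dvd_pow hp'.nat_prime h1)
    exact (Nat.prime_dvd_prime_iff_eq hp'.nat_prime hpp).mp h2
  subst hp'p
  haveI : ExpChar K p' := ExpChar.prime hpp
  have hinj : Function.Injective (iterateFrobenius K p' k) := RingHom.injective _
  have hbij : Function.Bijective (iterateFrobenius K p' k) :=
    ⟨hinj, Finite.surjective_of_injective hinj⟩
  refine ⟨RingEquiv.ofBijective (iterateFrobenius K p' k) hbij, ?_, ?_, ?_⟩
  · intro a; rfl
  · intro a
    have : ∀ j : ℕ, (RingEquiv.ofBijective (iterateFrobenius K p' k) hbij)^[j] a = a ^ (p' ^ k) ^ j := by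
      intro j
      induction j with
      | zero => simp
      | succ j ih =>
        rw [Function.iterate_succ_apply', ih]
        show (a ^ (p' ^ k) ^ j) ^ p' ^ k = _
        rw [← pow_mul, ← pow_succ]
    rw [this m, ← hK, FiniteField.pow_card]
  · have h1 : 1 < p' ^ k := Nat.one_lt_pow (by omega) hpp.one_lt
    exact card_pow_eq_self K (p' ^ k) m h1 hm hK

end Cfsg.Agent.Lib.Helper7
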