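import Cfsg.Agent.Lib.Helper7.ChevTwistGen
import Cfsg.Agent.Lib.Helper7.ChevTwistFrob

/-! Twisted groups: Boolean table checks and the generic statement `|U ∩ G¹| = q^N` (helper7). -/

set_option autoImplicit false

namespace Cfsg.Agent.Lib.Helper7

open Cfsg Cfsg.Lie Matrix

/-- table check for `TwistFacts` and positivity of the functional -/
def twistOKB (D : ChevalleyDatum) (ρ : List ℕ) (w : List ℤ) (cls : List (List ℕ)) : Bool :=
  decide (cls.flatten.Pairwise (fun r s => linF D w r < linF D w s)) &&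
  (cls.flatten.all fun r => decide (D.IsPosRoot r)) &&
  ((List.range D.nroots).all fun r => !decide (D.IsPosRoot r) ||
    (cls.flatten.contains r && decide (0 < linF D w r))) &&
  (cls.all fun S => decide ((S.map fun r => ρ.getD r 0).Perm S)) &&
  (cls.all fun S => S.all fun r => S.all fun s => (r == s) || (D.commTerms r s).isEmpty)

theorem twistFacts_of_twistOKB (D : ChevalleyDatum) (ρ ρ' : List ℕ) (w : List ℤ) (cls : List (List ℕ))
    (h : twistOKB D ρ w cls = true) :
    TwistFacts D (fun r => ρ.getD r 0) (fun r => ρ'.getD r 0) (linF D w) cls ∧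
      ∀ r, D.IsPosRoot r → 0 < linF D w r := by
  unfold twistOKB at h
  simp only [Bool.and_eq_true, List.all_eq_true, decide_eq_true_eq, Bool.or_eq_true, Bool.not_eq_true',
    decide_eq_false_iff_not, List.mem_range, List.contains_iff_mem, beq_iff_eq, List.isEmpty_iff] at h
  obtain ⟨⟨⟨⟨h1, h2⟩, h3⟩, h4⟩, h5⟩ := h
  have hall : ∀ r, D.IsPosRoot r → r ∈ cls.flatten := by
    intro r hr
    rcases h3 r hr.1 with h' | h'
    · exact absurd hr h'
    · exact h'.1
  refine ⟨⟨⟨h1, h2, fun r _ s hs _ => hall s hs⟩, hall, h4, ?_⟩, ?_⟩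
  · intro S hS r hr s hs hrs
    rcases h5 S hS r hr s hs with h' | h'
    · exact absurd h' hrs
    · exact h'
  · intro r hr
    rcases h3 r hr.1 with h' | h'
    · exact absurd hr h'
    · exact h'.2

/-- table check for `ClassShape` -/
def classShapeB (ρ' : List ℕ) (ε : List ℤ) (m : ℕ) (S : List ℕ) : Bool :=
  match S with
  | [r] => (ρ'.getD r 0 == r) && (ε.getD r 0 == 1)
  | [r, s] => (m == 2) && (r != s) && (ρ'.getD r 0 == s) && (ρ'.getD s 0 == r) &&
      (ε.getD r 0 * ε.getD s 0 == 1)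
  | [r, s, v] => (m == 3) && (r != s) && (r != v) && (s != v) &&
      (((ρ'.getD r 0 == v) && (ρ'.getD s 0 == r) && (ρ'.getD v 0 == s)) ||
        ((ρ'.getD r 0 == s) && (ρ'.getD s 0 == v) && (ρ'.getD v 0 == r))) &&
      (ε.getD r 0 * ε.getD s 0 * ε.getD v 0 == 1)
  | _ => false

theorem classShape_of_classShapeB (ρ' : List ℕ) (ε : List ℤ) (m : ℕ) (S : List ℕ)
    (h : classShapeB ρ' ε m S = true) :
    ClassShape (fun r => ρ'.getD r 0) (fun r => ε.getD r 0) m S := by
  unfold classShapeB at h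
  split at h
  · rename_i r
    simp only [Bool.and_eq_true, beq_iff_eq] at h
    exact Or.inl ⟨r, rfl, h.1, h.2⟩
  · rename_i r s
    simp only [Bool.and_eq_true, beq_iff_eq, bne_iff_ne, ne_eq] at h
    obtain ⟨⟨⟨⟨a, b⟩, c⟩, d⟩, e⟩ := h
    exact Or.inr (Or.inl ⟨a, r, s, rfl, b, c, d, e⟩)
  · rename_i r s v
    simp only [Bool.and_eq_true, Bool.or_eq_true, beq_iff_eq, bne_iff_ne, ne_eq] at h
    obtain ⟨⟨⟨⟨⟨a, b⟩, c⟩, d⟩, e⟩, f⟩ := h
    refine Or.inr (Or.inr ⟨a, r, s, v, rfl, b, c, d, ?_, f⟩)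
    rcases e with ⟨⟨e1, e2⟩, e3⟩ | ⟨⟨e1, e2⟩, e3⟩
    · exact Or.inl ⟨e1, e2, e3⟩
    · exact Or.inr ⟨e1, e2, e3⟩
  · exact absurd h (by simp)

/-- all the table checks for a twisted group -/
structure TwistTab (D : ChevalleyDatum) (pv pv' ρ ρ' : List ℕ) (ε : List ℤ) (w : List ℤ)
    (cls : List (List ℕ)) (m : ℕ) (L1 : List ℕ) (L2 : List (ℕ × ℕ)) (L3 : List (ℕ × ℕ × ℕ))
    (simpIdx simpCls : List (List ℕ)) (cert : List (List ℕ × ℕ)) : Prop where
  graph : graphOKB D pv pv' ρ ρ' ε = true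
  prim : ∀ r < D.nroots, gcdL (corL D r) = 1
  twist : twistOKB D ρ w cls = true
  shape : (cls.all fun S => classShapeB ρ' ε m S) = true
  gen : twGenOKB D ρ ε L1 L2 L3 = true
  nsh : (simpIdx.all fun J => nShapeB D L1 L2 L3 J) = true
  ssh : (simpCls.all fun J => simpShapeB L1 L2 L3 J && cls.contains J) = true
  cert : certOKB D simpIdx simpCls cls cert = true
  m2 : L2 ≠ [] → m = 2
  m3 : L3 ≠ [] → m = 3

section
variable (D : ChevalleyDatum) (hD : D ∈ [chevG2, chevB2, chevD4, chevF4, chevE6, chevE7, chevE8])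
variable (pv pv' ρ ρ' : List ℕ) (ε : List ℤ) (w : List ℤ) (cls : List (List ℕ)) (m : ℕ)
variable (L1 : List ℕ) (L2 : List (ℕ × ℕ)) (L3 : List (ℕ × ℕ × ℕ)) (simpIdx simpCls : List (List ℕ))
variable (cert : List (List ℕ × ℕ))
variable (hT : TwistTab D pv pv' ρ ρ' ε w cls m L1 L2 L3 simpIdx simpCls cert)
variable (K : Type*) [Field K] (φ : K ≃+* K)
include hD hT

/-- `|U ∩ G¹| = q^N` for the twisted group `G¹` generated by `twWords` -/
theorem card_posUnipotent_inf_twGroup (q : ℕ) (hK : Nat.card K = q ^ m)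
    (hfix : Nat.card {a : K // φ a = a} = q) (hφ : ∀ a, φ^[m] a = a) :
    Nat.card ↥(D.posUnipotent K ⊓ D.genSubgroup K (twWords K φ L1 L2 L3)) = q ^ cls.flatten.length := by
  have hG := graphFacts_of_graphOKB D pv pv' ρ ρ' ε hT.graph
  obtain ⟨hTw, hpos⟩ := twistFacts_of_twistOKB D ρ ρ' w cls hT.twist
  have hA := chainAdd_linF D hD w
  have hO : PosFacts D (linF D w) := ⟨hpos, hT.prim⟩
  have hgen := genFacts_of_twGenOKB D ρ ε L1 L2 L3 hT.gen
  have hsh : ∀ S ∈ cls, ClassShape (fun r => ρ'.getD r 0) (fun r => ε.getD r 0) m S := by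
    intro S hS
    exact classShape_of_classShapeB ρ' ε m S (List.all_eq_true.mp hT.shape S hS)
  have h2 : L2 ≠ [] → ∀ a, φ (φ a) = a := by
    intro h a
    have := hφ a
    rw [hT.m2 h] at this
    exact this
  have h3 : L3 ≠ [] → ∀ a, φ (φ (φ a)) = a := by
    intro h a
    have := hφ a
    rw [hT.m3 h] at this
    exact this
  have hF : TwistGroupFacts D hD _ _ _ _ _ hG K φ cls (D.genSubgroup K (twWords K φ L1 L2 L3))
      simpIdx simpCls := by
    refine ⟨twGroup_le_fixSigma D hD _ _ _ _ _ hG K φ L1 L2 L3 hgen h2 h3, ?_, ?_, ?_, ?_⟩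
    · intro J hJ
      have := List.all_eq_true.mp hT.ssh J hJ
      simp only [Bool.and_eq_true, List.contains_iff_mem] at this
      exact this.2
    · intro J hJ t ht
      have := List.all_eq_true.mp hT.ssh J hJ
      simp only [Bool.and_eq_true] at this
      exact simple_mem_twGroup D hD _ _ _ K φ L1 L2 L3 hG.ρinv hgen J
        (simpShape_of_simpShapeB L1 L2 L3 J this.1) t ht
    · intro Jidx hJ i hi
      have := nShape_of_nShapeB D L1 L2 L3 Jidx (List.all_eq_true.mp hT.nsh Jidx hJ)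
      rcases this with ⟨i', rfl, h1, -⟩ | ⟨i', j', rfl, h1, h2', -⟩ | ⟨i', j', k', rfl, h1, h2', h3', -⟩
      · simp only [List.mem_cons, List.not_mem_nil, or_false] at hi
        rw [hi]; exact h1
      · simp only [List.mem_cons, List.not_mem_nil, or_false] at hi
        rcases hi with rfl | rfl
        · exact h1
        · exact h2'
      · simp only [List.mem_cons, List.not_mem_nil, or_false] at hi
        rcases hi with rfl | rfl | rfl
        · exact h1
        · exact h2'
        · exact h3'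
    · intro Jidx hJ
      exact nWordGL_mem_twGroup D hD _ _ K φ L1 L2 L3 hgen Jidx
        (nShape_of_nShapeB D L1 L2 L3 Jidx (List.all_eq_true.mp hT.nsh Jidx hJ))
  rw [posUnipotent_inf_twisted D hD _ _ _ _ _ hG K φ (linF D w) hA hO cls hTw _ simpIdx simpCls hF cert hT.cert]
  exact card_posUnipotent_inf_fixSigma D hD _ _ _ _ _ hG K φ (linF D w) hA hO cls hTw m q hK hfix hφ hsh

end

end Cfsg.Agent.Lib.Helper7
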