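import Cfsg.Agent.Lib.Helper7.ChevTwistBN6
import Cfsg.Agent.Lib.Helper7.ChevTwistTab

/-! Twisted groups: the `(B,N)`-pair of the group generated by `twWords` (helper7). -/

set_option autoImplicit false

namespace Cfsg.Agent.Lib.Helper7

open Cfsg Cfsg.Lie Matrix

def twInvB (D : ChevalleyDatum) (simpIdx : List (List ℕ)) : Bool :=
  simpIdx.all fun J => (List.range D.nroots).all fun s => reflWord D J (reflWord D J s) == s

def twInjB (D : ChevalleyDatum) (simpIdx : List (List ℕ)) : Bool :=
  (List.range simpIdx.length).all fun i => (List.range simpIdx.length).all fun j => (i == j) ||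
    (List.range D.nroots).any fun s => reflWord D (simpIdx.getD i []) s != reflWord D (simpIdx.getD j []) s

/-- every generating word is supported on `S_J` or on `-S_J` for a simple class `J` -/
def twCovB (D : ChevalleyDatum) (simpIdx : List (List ℕ)) (L1 : List ℕ) (L2 : List (ℕ × ℕ))
    (L3 : List (ℕ × ℕ × ℕ)) : Bool :=
  (L1.all fun r => (List.range simpIdx.length).any fun k =>
    ((simpIdx.getD k []).map D.simple).contains r ||
      ((simpIdx.getD k []).map fun i => D.neg (D.simple i)).contains r) &&
  (L2.all fun rs => (List.range simpIdx.length).any fun k =>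
    (((simpIdx.getD k []).map D.simple).contains rs.1 && ((simpIdx.getD k []).map D.simple).contains rs.2) ||
    (((simpIdx.getD k []).map fun i => D.neg (D.simple i)).contains rs.1 &&
      ((simpIdx.getD k []).map fun i => D.neg (D.simple i)).contains rs.2)) &&
  (L3.all fun rs => (List.range simpIdx.length).any fun k =>
    (((simpIdx.getD k []).map D.simple).contains rs.1 && ((simpIdx.getD k []).map D.simple).contains rs.2.1 &&
      ((simpIdx.getD k []).map D.simple).contains rs.2.2) ||
    (((simpIdx.getD k []).map fun i => D.neg (D.simple i)).contains rs.1 &&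
      ((simpIdx.getD k []).map fun i => D.neg (D.simple i)).contains rs.2.1 &&
      ((simpIdx.getD k []).map fun i => D.neg (D.simple i)).contains rs.2.2))

/-- the additional table checks for the `(B,N)`-pair -/
structure TwistTab2 (D : ChevalleyDatum) (L1 : List ℕ) (L2 : List (ℕ × ℕ)) (L3 : List (ℕ × ℕ × ℕ))
    (simpIdx simpCls : List (List ℕ)) : Prop where
  cls_eq : simpCls = simpIdx.map (fun J => J.map D.simple)
  facts : (simpIdx.all fun J => simpClassB D J) = true
  inv : twInvB D simpIdx = true
  inj : twInjB D simpIdx = true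
  cov : twCovB D simpIdx L1 L2 L3 = true

section
variable (D : ChevalleyDatum) (hD : D ∈ [chevG2, chevB2, chevD4, chevF4, chevE6, chevE7, chevE8])
variable (K : Type*) [Field K]
include hD

theorem wordGL_mem_closure_gensL (R : List ℕ) (w : List (ℕ × K)) (hw : ∀ e ∈ w, e.1 ∈ R) :
    wordGL D hD K w ∈ Subgroup.closure (gensL D K R) := by
  unfold wordGL
  apply Subgroup.list_prod_mem
  intro g hg
  rw [List.mem_map] at hg
  obtain ⟨e, he, rfl⟩ := hg
  apply Subgroup.subset_closure
  exact ⟨e.1, hw e he, e.2, coe_xGL D hD K _ _⟩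

end

section
variable (D : ChevalleyDatum) (hD : D ∈ [chevG2, chevB2, chevD4, chevF4, chevE6, chevE7, chevE8])
variable (pv pv' ρ ρ' : List ℕ) (ε : List ℤ) (w : List ℤ) (cls : List (List ℕ)) (m : ℕ)
variable (L1 : List ℕ) (L2 : List (ℕ × ℕ)) (L3 : List (ℕ × ℕ × ℕ)) (simpIdx simpCls : List (List ℕ))
variable (cert : List (List ℕ × ℕ))
variable (hT : TwistTab D pv pv' ρ ρ' ε w cls m L1 L2 L3 simpIdx simpCls cert)
variable (K : Type*) [Field K] (φ : K ≃+* K)
include hD hT

/-- the facts `TwistGroupFacts` for the group generated by `twWords` -/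
theorem twistGroupFacts_of_tab (hφ : ∀ a, φ^[m] a = a) :
    TwistGroupFacts D hD _ _ _ _ _ (graphFacts_of_graphOKB D pv pv' ρ ρ' ε hT.graph) K φ cls
      (D.genSubgroup K (twWords K φ L1 L2 L3)) simpIdx simpCls := by
  have hG := graphFacts_of_graphOKB D pv pv' ρ ρ' ε hT.graph
  have hgen := genFacts_of_twGenOKB D ρ ε L1 L2 L3 hT.gen
  have h2 : L2 ≠ [] → ∀ a, φ (φ a) = a := by
    intro h a
    have := hφ a
    rw [hT.m2 h] at this
    exact this
  have h3 : L3 ≠ [] → ∀ a, φ (φ (φ a)) = a := by
    intro h a
    have := hφ a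
    rw [hT.m3 h] at this
    exact this
  refine ⟨twGroup_le_fixSigma D hD _ _ _ _ _ hG K φ L1 L2 L3 hgen h2 h3, ?_, ?_, ?_, ?_⟩
  · intro J hJ
    have := List.all_eq_true.mp hT.ssh J hJ
    simp only [Bool.and_eq_true, List.contains_iff_mem] at this
    exact this.2
  · intro J hJ t ht
    have := List.all_eq_true.mp hT.ssh J hJ
    simp only [Bool.and_eq_true] at this
    exact simple_mem_twGroup D hD _ _ _ K φ L1 L2 L3 hG.ρinv hgen J
      (simpShape_of_simpShapeB L1 L2 L3 J this.1) t ht
  · intro Jidx hJ i hi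
    have := nShape_of_nShapeB D L1 L2 L3 Jidx (List.all_eq_true.mp hT.nsh Jidx hJ)
    rcases this with ⟨i', rfl, h1, -⟩ | ⟨i', j', rfl, h1, h2', -⟩ | ⟨i', j', k', rfl, h1, h2', h3', -⟩
    · simp only [List.mem_cons, List.not_mem_nil, or_false] at hi
      rw [hi]; exact h1
    · simp only [List.mem_cons, List.not_mem_nil, or_false] at hi
      rcases hi with rfl | rfl
      · exact h1
      · exact h2'
    · simp only [List.mem_cons, List.not_mem_nil, or_false] at hi
      rcases hi with rfl | rfl | rfl
      · exact h1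
      · exact h2'
      · exact h3'
  · intro Jidx hJ
    exact nWordGL_mem_twGroup D hD _ _ K φ L1 L2 L3 hgen Jidx
      (nShape_of_nShapeB D L1 L2 L3 Jidx (List.all_eq_true.mp hT.nsh Jidx hJ))

end

end Cfsg.Agent.Lib.Helper7
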