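import Cfsg.Agent.Lib.Helper7.ChevTwistTabD4
import Cfsg.Agent.Lib.Helper7.ChevTwistBN7

/-! Twisted groups: the additional tables for the `(B,N)`-pair, type D4 (helper7). -/

set_option autoImplicit false
set_option maxRecDepth 100000

namespace Cfsg.Agent.Lib.Helper7

open Cfsg Cfsg.Lie Matrix

theorem twFacts_D4 : (twSimpIdx_D4.all fun J => simpClassB chevD4 J) = true := by decide +kernel
theorem twInvB_D4 : twInvB chevD4 twSimpIdx_D4 = true := by decide +kernel
theorem twInjB_D4 : twInjB chevD4 twSimpIdx_D4 = true := by decide +kernel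
theorem twCovB_D4 : twCovB chevD4 twSimpIdx_D4 [d4p2, d4m2] [] [(d4p1, d4p3, d4p4), (d4m1, d4m3, d4m4)] = true := by decide +kernel

theorem twistTab2_D4 : TwistTab2 chevD4 [d4p2, d4m2] [] [(d4p1, d4p3, d4p4), (d4m1, d4m3, d4m4)] twSimpIdx_D4 twSimpCls_D4 where
  cls_eq := by decide +kernel
  facts := twFacts_D4
  inv := twInvB_D4
  inj := twInjB_D4
  cov := twCovB_D4

end Cfsg.Agent.Lib.Helper7
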