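import Cfsg.Agent.Lib.Helper7.ChevTwistPerf2
import Cfsg.Agent.Lib.Helper7.ChevTwistTab2D4

/-! The twisted group `³D₄(q)`: reduction to `twWords`, and perfectness (helper7). -/

set_option autoImplicit false
set_option maxRecDepth 100000

namespace Cfsg.Agent.Lib.Helper7

open Cfsg Cfsg.Lie Matrix

theorem chevD4_mem : chevD4 ∈ [chevG2, chevB2, chevD4, chevF4, chevE6, chevE7, chevE8] := by simp

/-- `³D₄(q)` as the group generated by `twWords` for the `q`-Frobenius -/
theorem twistedD4_eq (K : Type*) [Field K] [Fintype K] (q : ℕ) (hq : IsPrimePow q)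
    (hK : Fintype.card K = q ^ 3) :
    ∃ φ : K ≃+* K, (∀ a, φ a = a ^ q) ∧ (∀ a, φ^[3] a = a) ∧ Nat.card {a : K // φ a = a} = q ∧
      twistedD4 K q = chevD4.genSubgroup K (twWords K φ [d4p2, d4m2] []
        [(d4p1, d4p3, d4p4), (d4m1, d4m3, d4m4)]) := by
  obtain ⟨φ, hφ, hiter, hfix⟩ := exists_frob K q 3 hq (by norm_num) hK
  refine ⟨φ, hφ, hiter, hfix, ?_⟩
  have hW : d4Words K q = twWords K φ [d4p2, d4m2] []
      [(d4p1, d4p3, d4p4), (d4m1, d4m3, d4m4)] := by
    have h2 : ∀ t : K, t ^ q ^ 2 = (t ^ q) ^ q := fun t => by rw [← pow_mul, pow_two]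
    ext w
    simp only [d4Words, twWords, hφ, h2, Set.mem_union, Set.mem_setOf_eq,
      List.not_mem_nil, false_and, exists_false, or_false]
  unfold twistedD4
  rw [hW]

section
variable (K : Type*) [Field K] (φ : K ≃+* K)

theorem nWordGL_mem_twD4 (J : List ℕ) (hJ : J ∈ twSimpIdx_D4) :
    nWordGL chevD4 chevD4_mem K J ∈ chevD4.genSubgroup K (twWords K φ [d4p2, d4m2] []
      [(d4p1, d4p3, d4p4), (d4m1, d4m3, d4m4)]) :=
  nWordGL_mem_twGroup chevD4 chevD4_mem _ _ K φ _ _ _ (genFacts_of_twGenOKB _ _ _ _ _ _ twGenOKB_D4) J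
    (nShape_of_nShapeB _ _ _ _ _ (List.all_eq_true.mp twNsh_D4 J hJ))

theorem simpClassFacts_D4 (J : List ℕ) (hJ : J ∈ twSimpIdx_D4) : SimpClassFacts chevD4 J :=
  simpClassFacts_of_B _ _ (List.all_eq_true.mp twFacts_D4 J hJ)

/-- `³D₄(q)` is perfect -/
theorem twD4_perfect [Fintype K] (hK : 3 < Fintype.card K) :
    commutator ↥(chevD4.genSubgroup K (twWords K φ [d4p2, d4m2] []
      [(d4p1, d4p3, d4p4), (d4m1, d4m3, d4m4)])) = ⊤ := by
  obtain ⟨lam, h0, h1⟩ := exists_sq_ne_one K hK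
  obtain ⟨G1, hG1⟩ : ∃ G1, G1 = chevD4.genSubgroup K (twWords K φ [d4p2, d4m2] []
      [(d4p1, d4p3, d4p4), (d4m1, d4m3, d4m4)]) := ⟨_, rfl⟩
  have hn1 : nWordGL chevD4 chevD4_mem K [1] ∈ G1 := by
    rw [hG1]; exact nWordGL_mem_twD4 K φ [1] (by decide)
  have hn3 : nWordGL chevD4 chevD4_mem K [0, 2, 3] ∈ G1 := by
    rw [hG1]; exact nWordGL_mem_twD4 K φ [0, 2, 3] (by decide)
  have Q14 : FixIn chevD4 chevD4_mem K φ G1 14 := by
    intro t ht
    rw [hG1]; exact gen1_mem chevD4 chevD4_mem K φ _ _ _ 14 (by decide) t ht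
  have Q22 : FixIn chevD4 chevD4_mem K φ G1 22 := by
    have h := FixIn.conj_G1 chevD4 chevD4_mem K φ G1 [0, 2, 3] (by decide) hn3 14 (by decide) Q14
    have e : reflWord chevD4 [0, 2, 3] 14 = 22 := by decide +kernel
    rwa [e] at h
  have P23 : FixIn chevD4 chevD4_mem K φ ⁅G1, G1⁆ 23 :=
    FixIn.of_comm chevD4 chevD4_mem K φ G1 14 22 23 1 (by decide) (by decide) (by decide) (by decide)
      (Or.inl rfl) (by decide +kernel) Q14 Q22
  have P22 : FixIn chevD4 chevD4_mem K φ ⁅G1, G1⁆ 22 := by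
    have h := FixIn.conj_comm chevD4 chevD4_mem K φ G1 [1] (by decide) hn1 23 (by decide) P23
    have e : reflWord chevD4 [1] 23 = 22 := by decide +kernel
    rwa [e] at h
  have P14 : FixIn chevD4 chevD4_mem K φ ⁅G1, G1⁆ 14 := by
    have h := FixIn.conj_comm chevD4 chevD4_mem K φ G1 [0, 2, 3] (by decide) hn3 22 (by decide) P22
    have e : reflWord chevD4 [0, 2, 3] 22 = 14 := by decide +kernel
    rwa [e] at h
  have P9 : FixIn chevD4 chevD4_mem K φ ⁅G1, G1⁆ 9 := by
    have h := FixIn.conj_comm chevD4 chevD4_mem K φ G1 [1] (by decide) hn1 14 (by decide) P14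
    have e : reflWord chevD4 [1] 14 = 9 := by decide +kernel
    rwa [e] at h
  have hp1 := triple_class_perfect chevD4 chevD4_mem K φ [d4p2, d4m2] []
      [(d4p1, d4p3, d4p4), (d4m1, d4m3, d4m4)] 0 2 3
      (simpClassFacts_D4 [0, 2, 3] (by decide)) (by decide) (by decide)
      (nWordGL_mem_twD4 K φ [0, 2, 3] (by decide))
      (by decide +kernel) (by decide +kernel) (by decide +kernel) (by decide +kernel) (by decide +kernel)
      (by decide +kernel) lam h0 h1
  have es0 : chevD4.simple 0 = d4p1 := by decide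
  have es2 : chevD4.simple 2 = d4p3 := by decide
  have es3 : chevD4.simple 3 = d4p4 := by decide
  have en0 : chevD4.neg d4p1 = d4m1 := by decide
  have en2 : chevD4.neg d4p3 = d4m3 := by decide
  have en3 : chevD4.neg d4p4 = d4m4 := by decide
  rw [es0, es2, es3, en0, en2, en3] at hp1
  apply twGroup_perfect_of_gens chevD4 chevD4_mem K φ
  · intro r hr t ht
    rw [← hG1]
    simp only [List.mem_cons, List.not_mem_nil, or_false] at hr
    rcases hr with rfl | rfl
    · exact P14 t ht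
    · exact P9 t ht
  · intro rs hrs
    simp at hrs
  · intro rs hrs t
    simp only [List.mem_cons, List.not_mem_nil, or_false] at hrs
    rcases hrs with rfl | rfl
    · exact hp1.1 t
    · exact hp1.2 t

end

end Cfsg.Agent.Lib.Helper7
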