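import Mathlib

/-!
# S4719 leaf G5 (planner helper13): a subgroup commuting with its conjugate under an involution
-/

set_option autoImplicit false

namespace Cfsg.Agent.Lib.Helper7.DCG5

/-- the homomorphism `l ↦ l * (y l y⁻¹)`. -/
noncomputable def psi {G : Type*} [Group G] (L : Subgroup G) (y : G)
    (hcomm : ∀ a ∈ L, ∀ b ∈ L, a * (y * b * y⁻¹) = (y * b * y⁻¹) * a) : L →* G where
  toFun l := (l : G) * (y * l * y⁻¹)
  map_one' := by simp
  map_mul' a b := by
    have h := hcomm b b.2 a a.2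
    simp only [Subgroup.coe_mul]
    calc (a : G) * b * (y * (a * b) * y⁻¹)
        = a * (b * (y * a * y⁻¹)) * (y * b * y⁻¹) := by group
      _ = a * ((y * a * y⁻¹) * b) * (y * b * y⁻¹) := by rw [h]
      _ = a * (y * a * y⁻¹) * (b * (y * b * y⁻¹)) := by group

/-- LEAF G5. -/
theorem card_le_of_commute_conj {G : Type*} [Group G] [Finite G] (L : Subgroup G) (y : G)
    (hy : y * y = 1)
    (hcomm : ∀ a ∈ L, ∀ b ∈ L, a * (y * b * y⁻¹) = (y * b * y⁻¹) * a) :
    Nat.card L ≤ Nat.card (Subgroup.centralizer ({y} : Set G)) * Nat.card (Subgroup.center L) := by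
  classical
  set ψ := psi L y hcomm with hψ
  have hyinv : y⁻¹ = y := by
    rw [inv_eq_iff_mul_eq_one]; exact hy
  have hrange : ψ.range ≤ Subgroup.centralizer ({y} : Set G) := by
    rintro _ ⟨l, rfl⟩
    rw [Subgroup.mem_centralizer_iff]
    intro z hz
    rw [Set.mem_singleton_iff] at hz
    subst hz
    have h := hcomm l l.2 l l.2
    change z * ((l : G) * (z * l * z⁻¹)) = (l : G) * (z * l * z⁻¹) * z
    rw [hyinv] at h ⊢
    calc z * ((l : G) * (z * l * z)) = (z * l * z) * (z * z) * l * z := by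
          rw [hy]; group
      _ = (z * l * z) * l * z := by rw [hy, mul_one]
      _ = (l : G) * (z * l * z) * z := by rw [← h]
  have hker : ψ.ker ≤ Subgroup.center L := by
    intro l hl
    rw [MonoidHom.mem_ker] at hl
    have hl' : (l : G) * (y * l * y⁻¹) = 1 := hl
    have hinv : y * (l : G) * y⁻¹ = (l : G)⁻¹ := eq_inv_of_mul_eq_one_right hl'
    rw [Subgroup.mem_center_iff]
    intro b
    have h := hcomm b b.2 l l.2
    rw [hinv] at h
    -- `b * l⁻¹ = l⁻¹ * b`
    apply Subtype.ext
    simp only [Subgroup.coe_mul]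
    generalize (l : G) = x at h ⊢
    generalize (b : G) = c at h ⊢
    calc c * x = x * (x⁻¹ * c) * x := by group
      _ = x * (c * x⁻¹) * x := by rw [h]
      _ = x * c := by group
  have h1 : Nat.card L = Nat.card (L ⧸ ψ.ker) * Nat.card ψ.ker :=
    Subgroup.card_eq_card_quotient_mul_card_subgroup ψ.ker
  have h2 : Nat.card (L ⧸ ψ.ker) = Nat.card ψ.range :=
    Nat.card_congr (QuotientGroup.quotientKerEquivRange ψ).toEquiv
  rw [h1, h2]
  exact Nat.mul_le_mul (Subgroup.card_le_of_le hrange) (Subgroup.card_le_of_le hker)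

end Cfsg.Agent.Lib.Helper7.DCG5
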