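import Mathlib

/-!
# S4719 leaves G1 + G2 (planner helper13): centralizers in quotients
`|C_{H/N}(S̄)| * |N| ≤ |N|^|S| * |C_H(S)|`.
-/

set_option autoImplicit false

namespace Cfsg.Agent.Lib.Helper7.DCG1

/-- LEAF G1. -/
theorem card_centralizer_quotient_mul_le {H : Type*} [Group H] [Finite H] (N : Subgroup H)
    [N.Normal] (S : Finset H) :
    Nat.card (Subgroup.centralizer ((QuotientGroup.mk' N) '' (S : Set H))) * Nat.card N ≤
      Nat.card N ^ S.card * Nat.card (Subgroup.centralizer (S : Set H)) := by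
  classical
  set Cbar := Subgroup.centralizer ((QuotientGroup.mk' N) '' (S : Set H)) with hCbar
  set X := Cbar.comap (QuotientGroup.mk' N) with hX
  set C := Subgroup.centralizer (S : Set H) with hC
  have hXcard : Nat.card X = Nat.card Cbar * Nat.card N := by
    have h1 := Subgroup.card_mul_index X
    have h2 := Subgroup.card_mul_index Cbar
    have h3 : X.index = Cbar.index :=
      Subgroup.index_comap_of_surjective _ (QuotientGroup.mk'_surjective N)
    have h4 : Nat.card H = Nat.card (H ⧸ N) * Nat.card N :=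
      Subgroup.card_eq_card_quotient_mul_card_subgroup N
    have hpos : 0 < Cbar.index := Nat.pos_of_ne_zero Subgroup.index_ne_zero_of_finite
    apply Nat.eq_of_mul_eq_mul_right hpos
    rw [← h3, h1, h4, ← h2, h3]; ring
  rw [← hXcard]
  -- the commutator map
  have hmemN : ∀ x : X, ∀ s : {s : H // s ∈ S}, (x : H) * s * (x : H)⁻¹ * (s : H)⁻¹ ∈ N := by
    intro x s
    have hx : (QuotientGroup.mk' N) (x : H) ∈ Cbar := x.2
    rw [hCbar, Subgroup.mem_centralizer_iff] at hx
    have h := hx _ ⟨s, s.2, rfl⟩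
    rw [← QuotientGroup.eq_one_iff]
    have h' : ((s : H) : H ⧸ N) * ((x : H) : H ⧸ N) = ((x : H) : H ⧸ N) * ((s : H) : H ⧸ N) := h
    simp only [QuotientGroup.mk_mul, QuotientGroup.mk_inv, ← h']
    group
  let φ : X → ({s : H // s ∈ S} → N) := fun x s => ⟨(x : H) * s * (x : H)⁻¹ * (s : H)⁻¹, hmemN x s⟩
  -- representatives of the fibres
  let r : ({s : H // s ∈ S} → N) → X := fun v => if h : ∃ x, φ x = v then h.choose else 1
  have hr : ∀ x : X, φ (r (φ x)) = φ x := by
    intro x
    have h : ∃ x', φ x' = φ x := ⟨x, rfl⟩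
    simp only [r, dif_pos h]
    exact h.choose_spec
  have hmemC : ∀ x : X, ((r (φ x) : X) : H)⁻¹ * (x : H) ∈ C := by
    intro x
    rw [hC, Subgroup.mem_centralizer_iff]
    intro s hs
    have h := congrFun (hr x) ⟨s, hs⟩
    have h' : ((r (φ x) : X) : H) * s * ((r (φ x) : X) : H)⁻¹ * s⁻¹ = (x : H) * s * (x : H)⁻¹ * s⁻¹ :=
      congrArg Subtype.val h
    generalize ((r (φ x) : X) : H) = x₀ at h'
    generalize (x : H) = x₁ at h'
    have h'' : x₀ * s * x₀⁻¹ = x₁ * s * x₁⁻¹ := mul_right_cancel h'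
    calc s * (x₀⁻¹ * x₁) = x₀⁻¹ * (x₀ * s * x₀⁻¹) * x₁ := by group
      _ = x₀⁻¹ * (x₁ * s * x₁⁻¹) * x₁ := by rw [h'']
      _ = x₀⁻¹ * x₁ * s := by group
  let g : X → ({s : H // s ∈ S} → N) × C := fun x => (φ x, ⟨_, hmemC x⟩)
  have hg : Function.Injective g := by
    intro x x' hxx
    have h1 : φ x = φ x' := congrArg Prod.fst hxx
    have h2 : ((r (φ x) : X) : H)⁻¹ * (x : H) = ((r (φ x') : X) : H)⁻¹ * (x' : H) :=
      congrArg (fun z => ((z.2 : C) : H)) hxx
    rw [h1] at h2
    exact Subtype.ext (mul_left_cancel h2)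
  have hle := Nat.card_le_card_of_injective g hg
  rw [Nat.card_prod, Nat.card_fun] at hle
  have hS : Nat.card {s : H // s ∈ S} = S.card := by
    rw [Nat.card_eq_fintype_card]; simp
  rwa [hS] at hle

/-- LEAF G2. -/
theorem card_centralizer_quotient_singleton_le {H : Type*} [Group H] [Finite H] (N : Subgroup H)
    [N.Normal] (g : H) :
    Nat.card (Subgroup.centralizer ({(QuotientGroup.mk' N) g} : Set (H ⧸ N))) ≤
      Nat.card (Subgroup.centralizer ({g} : Set H)) := by
  have h := card_centralizer_quotient_mul_le N {g}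
  rw [Finset.coe_singleton, Set.image_singleton, Finset.card_singleton, pow_one, mul_comm] at h
  exact Nat.le_of_mul_le_mul_left h Nat.card_pos

end Cfsg.Agent.Lib.Helper7.DCG1
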