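import Cfsg.Agent.Lib.Helper7.ChevTwistTabE6
import Cfsg.Agent.Lib.Helper7.ChevTwistBN7

/-! Twisted groups: the additional tables for the `(B,N)`-pair, type E6 (helper7). -/

set_option autoImplicit false
set_option maxRecDepth 100000

namespace Cfsg.Agent.Lib.Helper7

open Cfsg Cfsg.Lie Matrix

theorem twFacts_E6 : (twSimpIdx_E6.all fun J => simpClassB chevE6 J) = true := by decide +kernel
theorem twInvB_E6 : twInvB chevE6 twSimpIdx_E6 = true := by decide +kernel
theorem twInjB_E6 : twInjB chevE6 twSimpIdx_E6 = true := by decide +kernel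
theorem twCovB_E6 : twCovB chevE6 twSimpIdx_E6 [e6p2, e6m2, e6p4, e6m4] [(e6p1, e6p6), (e6m1, e6m6), (e6p3, e6p5), (e6m3, e6m5)] [] = true := by decide +kernel

theorem twistTab2_E6 : TwistTab2 chevE6 [e6p2, e6m2, e6p4, e6m4] [(e6p1, e6p6), (e6m1, e6m6), (e6p3, e6p5), (e6m3, e6m5)] [] twSimpIdx_E6 twSimpCls_E6 where
  cls_eq := by decide +kernel
  facts := twFacts_E6
  inv := twInvB_E6
  inj := twInjB_E6
  cov := twCovB_E6

end Cfsg.Agent.Lib.Helper7
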