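import Cfsg.Agent.Lib.Helper7.ChevTwistPerf2
import Cfsg.Agent.Lib.Helper7.ChevTwistTab2E6

/-! The twisted group `²E₆(q)`: reduction to `twWords`, and perfectness (helper7). -/

set_option autoImplicit false
set_option maxRecDepth 100000

namespace Cfsg.Agent.Lib.Helper7

open Cfsg Cfsg.Lie Matrix

theorem chevE6_mem : chevE6 ∈ [chevG2, chevB2, chevD4, chevF4, chevE6, chevE7, chevE8] := by simp

/-- `²E₆(q)` as the group generated by `twWords` for the `q`-Frobenius -/
theorem twistedE6_eq (K : Type*) [Field K] [Fintype K] (q : ℕ) (hq : IsPrimePow q)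
    (hK : Fintype.card K = q ^ 2) :
    ∃ φ : K ≃+* K, (∀ a, φ a = a ^ q) ∧ (∀ a, φ^[2] a = a) ∧ Nat.card {a : K // φ a = a} = q ∧
      twistedE6 K q = chevE6.genSubgroup K (twWords K φ [e6p2, e6m2, e6p4, e6m4]
        [(e6p1, e6p6), (e6m1, e6m6), (e6p3, e6p5), (e6m3, e6m5)] []) := by
  obtain ⟨φ, hφ, hiter, hfix⟩ := exists_frob K q 2 hq (by norm_num) hK
  refine ⟨φ, hφ, hiter, hfix, ?_⟩
  have hW : e6Words K q = twWords K φ [e6p2, e6m2, e6p4, e6m4]
      [(e6p1, e6p6), (e6m1, e6m6), (e6p3, e6p5), (e6m3, e6m5)] [] := by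
    ext w
    simp only [e6Words, twWords, hφ, Set.mem_union, Set.mem_setOf_eq,
      List.not_mem_nil, false_and, exists_false, or_false]
  unfold twistedE6
  rw [hW]

section
variable (K : Type*) [Field K] (φ : K ≃+* K)

theorem nWordGL_mem_twE6 (J : List ℕ) (hJ : J ∈ twSimpIdx_E6) :
    nWordGL chevE6 chevE6_mem K J ∈ chevE6.genSubgroup K (twWords K φ [e6p2, e6m2, e6p4, e6m4]
      [(e6p1, e6p6), (e6m1, e6m6), (e6p3, e6p5), (e6m3, e6m5)] []) :=
  nWordGL_mem_twGroup chevE6 chevE6_mem _ _ K φ _ _ _ (genFacts_of_twGenOKB _ _ _ _ _ _ twGenOKB_E6) J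
    (nShape_of_nShapeB _ _ _ _ _ (List.all_eq_true.mp twNsh_E6 J hJ))

theorem simpClassFacts_E6 (J : List ℕ) (hJ : J ∈ twSimpIdx_E6) : SimpClassFacts chevE6 J :=
  simpClassFacts_of_B _ _ (List.all_eq_true.mp twFacts_E6 J hJ)

/-- `²E₆(q)` is perfect -/
theorem twE6_perfect [Fintype K] (hK : 3 < Fintype.card K) :
    commutator ↥(chevE6.genSubgroup K (twWords K φ [e6p2, e6m2, e6p4, e6m4]
      [(e6p1, e6p6), (e6m1, e6m6), (e6p3, e6p5), (e6m3, e6m5)] [])) = ⊤ := by
  obtain ⟨lam, h0, h1⟩ := exists_sq_ne_one K hK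
  obtain ⟨G1, hG1⟩ : ∃ G1, G1 = chevE6.genSubgroup K (twWords K φ [e6p2, e6m2, e6p4, e6m4]
      [(e6p1, e6p6), (e6m1, e6m6), (e6p3, e6p5), (e6m3, e6m5)] []) := ⟨_, rfl⟩
  have hn1 : nWordGL chevE6 chevE6_mem K [1] ∈ G1 := by
    rw [hG1]; exact nWordGL_mem_twE6 K φ [1] (by decide)
  have hn3 : nWordGL chevE6 chevE6_mem K [3] ∈ G1 := by
    rw [hG1]; exact nWordGL_mem_twE6 K φ [3] (by decide)
  have Q46 : FixIn chevE6 chevE6_mem K φ G1 46 := by
    intro t ht
    rw [hG1]; exact gen1_mem chevE6 chevE6_mem K φ _ _ _ 46 (by decide) t ht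
  have Q39 : FixIn chevE6 chevE6_mem K φ G1 39 := by
    intro t ht
    rw [hG1]; exact gen1_mem chevE6 chevE6_mem K φ _ _ _ 39 (by decide) t ht
  have P47 : FixIn chevE6 chevE6_mem K φ ⁅G1, G1⁆ 47 :=
    FixIn.of_comm chevE6 chevE6_mem K φ G1 46 39 47 (-1) (by decide) (by decide) (by decide) (by decide)
      (Or.inr rfl) (by decide +kernel) Q46 Q39
  have P46 : FixIn chevE6 chevE6_mem K φ ⁅G1, G1⁆ 46 := by
    have h := FixIn.conj_comm chevE6 chevE6_mem K φ G1 [3] (by decide) hn3 47 (by decide) P47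
    have e : reflWord chevE6 [3] 47 = 46 := by decide +kernel
    rwa [e] at h
  have P39 : FixIn chevE6 chevE6_mem K φ ⁅G1, G1⁆ 39 := by
    have h := FixIn.conj_comm chevE6 chevE6_mem K φ G1 [1] (by decide) hn1 47 (by decide) P47
    have e : reflWord chevE6 [1] 47 = 39 := by decide +kernel
    rwa [e] at h
  have P25 : FixIn chevE6 chevE6_mem K φ ⁅G1, G1⁆ 25 := by
    have h := FixIn.conj_comm chevE6 chevE6_mem K φ G1 [1] (by decide) hn1 46 (by decide) P46
    have e : reflWord chevE6 [1] 46 = 25 := by decide +kernel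
    rwa [e] at h
  have P32 : FixIn chevE6 chevE6_mem K φ ⁅G1, G1⁆ 32 := by
    have h := FixIn.conj_comm chevE6 chevE6_mem K φ G1 [3] (by decide) hn3 39 (by decide) P39
    have e : reflWord chevE6 [3] 39 = 32 := by decide +kernel
    rwa [e] at h
  have hp1 := pair_class_perfect chevE6 chevE6_mem K φ [e6p2, e6m2, e6p4, e6m4]
      [(e6p1, e6p6), (e6m1, e6m6), (e6p3, e6p5), (e6m3, e6m5)] [] 0 5
      (simpClassFacts_E6 [0, 5] (by decide)) (by decide) (by decide) (nWordGL_mem_twE6 K φ [0, 5] (by decide))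
      (by decide +kernel) (by decide +kernel) lam h0 h1
  have hp2 := pair_class_perfect chevE6 chevE6_mem K φ [e6p2, e6m2, e6p4, e6m4]
      [(e6p1, e6p6), (e6m1, e6m6), (e6p3, e6p5), (e6m3, e6m5)] [] 2 4
      (simpClassFacts_E6 [2, 4] (by decide)) (by decide) (by decide) (nWordGL_mem_twE6 K φ [2, 4] (by decide))
      (by decide +kernel) (by decide +kernel) lam h0 h1
  have es0 : chevE6.simple 0 = e6p1 := by decide
  have es5 : chevE6.simple 5 = e6p6 := by decide
  have es2 : chevE6.simple 2 = e6p3 := by decide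
  have es4 : chevE6.simple 4 = e6p5 := by decide
  have en0 : chevE6.neg e6p1 = e6m1 := by decide
  have en5 : chevE6.neg e6p6 = e6m6 := by decide
  have en2 : chevE6.neg e6p3 = e6m3 := by decide
  have en4 : chevE6.neg e6p5 = e6m5 := by decide
  rw [es0, es5, en0, en5] at hp1
  rw [es2, es4, en2, en4] at hp2
  apply twGroup_perfect_of_gens chevE6 chevE6_mem K φ
  · intro r hr t ht
    rw [← hG1]
    simp only [List.mem_cons, List.not_mem_nil, or_false] at hr
    rcases hr with rfl | rfl | rfl | rfl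
    · exact P46 t ht
    · exact P25 t ht
    · exact P39 t ht
    · exact P32 t ht
  · intro rs hrs t
    simp only [List.mem_cons, List.not_mem_nil, or_false] at hrs
    rcases hrs with rfl | rfl | rfl | rfl
    · exact hp1.1 t
    · exact hp1.2 t
    · exact hp2.1 t
    · exact hp2.2 t
  · intro rs hrs
    simp at hrs

end

end Cfsg.Agent.Lib.Helper7
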