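import Cfsg.Agent.Lib.Helper7.ChevTwist3

/-! Twisted groups: the generators and the facts `TwistGroupFacts` (helper7). -/

set_option autoImplicit false

namespace Cfsg.Agent.Lib.Helper7

open Cfsg Cfsg.Lie Matrix

/-- the root subgroups `X_r`, `X_s` commute elementwise for table reasons -/
def NC (D : ChevalleyDatum) (r s : ℕ) : Prop :=
  r < D.nroots ∧ s < D.nroots ∧ s ≠ r ∧ s ≠ D.neg r ∧ D.commTerms r s = []

instance (D : ChevalleyDatum) (r s : ℕ) : Decidable (NC D r s) := inferInstanceAs (Decidable (_ ∧ _))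

section
variable (K : Type*) [Field K] (φ : K ≃+* K)

/-- the generating words of a twisted group -/
def twWords (L1 : List ℕ) (L2 : List (ℕ × ℕ)) (L3 : List (ℕ × ℕ × ℕ)) : Set (List (ℕ × K)) :=
  {w | ∃ t : K, φ t = t ∧ ∃ r ∈ L1, w = [(r, t)]} ∪
  {w | ∃ t : K, ∃ rs ∈ L2, w = [(rs.1, t), (rs.2, φ t)]} ∪
  {w | ∃ t : K, ∃ rs ∈ L3, w = [(rs.1, t), (rs.2.1, φ t), (rs.2.2, φ (φ t))]}

end

/-- table facts on the generating classes -/
structure GenFacts (D : ChevalleyDatum) (ρ : ℕ → ℕ) (ε : ℕ → ℤ) (L1 : List ℕ) (L2 : List (ℕ × ℕ))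
    (L3 : List (ℕ × ℕ × ℕ)) : Prop where
  one : ∀ r ∈ L1, r < D.nroots ∧ ρ r = r ∧ ε r = 1
  two : ∀ rs ∈ L2, ρ rs.1 = rs.2 ∧ ρ rs.2 = rs.1 ∧ ε rs.1 = 1 ∧ ε rs.2 = 1 ∧ NC D rs.1 rs.2
  three : ∀ rs ∈ L3, ρ rs.1 = rs.2.1 ∧ ρ rs.2.1 = rs.2.2 ∧ ρ rs.2.2 = rs.1 ∧ ε rs.1 = 1 ∧ ε rs.2.1 = 1 ∧
    ε rs.2.2 = 1 ∧ NC D rs.1 rs.2.1 ∧ NC D rs.1 rs.2.2 ∧ NC D rs.2.1 rs.2.2

def twGenOKB (D : ChevalleyDatum) (ρ : List ℕ) (ε : List ℤ) (L1 : List ℕ) (L2 : List (ℕ × ℕ))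
    (L3 : List (ℕ × ℕ × ℕ)) : Bool :=
  (L1.all fun r => decide (r < D.nroots) && (ρ.getD r 0 == r) && (ε.getD r 0 == 1)) &&
  (L2.all fun rs => (ρ.getD rs.1 0 == rs.2) && (ρ.getD rs.2 0 == rs.1) && (ε.getD rs.1 0 == 1) &&
    (ε.getD rs.2 0 == 1) && decide (NC D rs.1 rs.2)) &&
  (L3.all fun rs => (ρ.getD rs.1 0 == rs.2.1) && (ρ.getD rs.2.1 0 == rs.2.2) && (ρ.getD rs.2.2 0 == rs.1) &&
    (ε.getD rs.1 0 == 1) && (ε.getD rs.2.1 0 == 1) && (ε.getD rs.2.2 0 == 1) &&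
    decide (NC D rs.1 rs.2.1) && decide (NC D rs.1 rs.2.2) && decide (NC D rs.2.1 rs.2.2))

theorem genFacts_of_twGenOKB (D : ChevalleyDatum) (ρ : List ℕ) (ε : List ℤ) (L1 : List ℕ) (L2 : List (ℕ × ℕ))
    (L3 : List (ℕ × ℕ × ℕ)) (h : twGenOKB D ρ ε L1 L2 L3 = true) :
    GenFacts D (fun r => ρ.getD r 0) (fun r => ε.getD r 0) L1 L2 L3 := by
  unfold twGenOKB at h
  simp only [Bool.and_eq_true, List.all_eq_true, decide_eq_true_eq, beq_iff_eq] at h
  obtain ⟨⟨h1, h2⟩, h3⟩ := h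
  refine ⟨fun r hr => ?_, fun rs hrs => ?_, fun rs hrs => ?_⟩
  · obtain ⟨⟨a, b⟩, c⟩ := h1 r hr
    exact ⟨a, b, c⟩
  · obtain ⟨⟨⟨⟨a, b⟩, c⟩, d⟩, e⟩ := h2 rs hrs
    exact ⟨a, b, c, d, e⟩
  · obtain ⟨⟨⟨⟨⟨⟨⟨⟨a, b⟩, c⟩, d⟩, e⟩, f⟩, g⟩, i⟩, j⟩ := h3 rs hrs
    exact ⟨a, b, c, d, e, f, g, i, j⟩

/-- table facts on the elements `n_J` -/
def NShape (D : ChevalleyDatum) (L1 : List ℕ) (L2 : List (ℕ × ℕ)) (L3 : List (ℕ × ℕ × ℕ))
    (Jidx : List ℕ) : Prop :=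
  (∃ i, Jidx = [i] ∧ i < D.rank ∧ D.simple i ∈ L1 ∧ D.neg (D.simple i) ∈ L1) ∨
  (∃ i j, Jidx = [i, j] ∧ i < D.rank ∧ j < D.rank ∧ (D.simple i, D.simple j) ∈ L2 ∧
    (D.neg (D.simple i), D.neg (D.simple j)) ∈ L2 ∧ NC D (D.simple i) (D.neg (D.simple j)) ∧
    NC D (D.neg (D.simple i)) (D.simple j)) ∨
  (∃ i j k, Jidx = [i, j, k] ∧ i < D.rank ∧ j < D.rank ∧ k < D.rank ∧
    (D.simple i, D.simple j, D.simple k) ∈ L3 ∧
    (D.neg (D.simple i), D.neg (D.simple j), D.neg (D.simple k)) ∈ L3 ∧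
    NC D (D.simple i) (D.neg (D.simple j)) ∧ NC D (D.simple i) (D.neg (D.simple k)) ∧
    NC D (D.simple j) (D.neg (D.simple i)) ∧ NC D (D.simple j) (D.neg (D.simple k)) ∧
    NC D (D.simple k) (D.neg (D.simple i)) ∧ NC D (D.simple k) (D.neg (D.simple j)))

def nShapeB (D : ChevalleyDatum) (L1 : List ℕ) (L2 : List (ℕ × ℕ)) (L3 : List (ℕ × ℕ × ℕ))
    (Jidx : List ℕ) : Bool :=
  match Jidx with
  | [i] => decide (i < D.rank) && L1.contains (D.simple i) && L1.contains (D.neg (D.simple i))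
  | [i, j] => decide (i < D.rank) && decide (j < D.rank) && L2.contains (D.simple i, D.simple j) &&
      L2.contains (D.neg (D.simple i), D.neg (D.simple j)) && decide (NC D (D.simple i) (D.neg (D.simple j))) &&
      decide (NC D (D.neg (D.simple i)) (D.simple j))
  | [i, j, k] => decide (i < D.rank) && decide (j < D.rank) && decide (k < D.rank) &&
      L3.contains (D.simple i, D.simple j, D.simple k) &&
      L3.contains (D.neg (D.simple i), D.neg (D.simple j), D.neg (D.simple k)) &&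
      decide (NC D (D.simple i) (D.neg (D.simple j))) && decide (NC D (D.simple i) (D.neg (D.simple k))) &&
      decide (NC D (D.simple j) (D.neg (D.simple i))) && decide (NC D (D.simple j) (D.neg (D.simple k))) &&
      decide (NC D (D.simple k) (D.neg (D.simple i))) && decide (NC D (D.simple k) (D.neg (D.simple j)))
  | _ => false

theorem nShape_of_nShapeB (D : ChevalleyDatum) (L1 : List ℕ) (L2 : List (ℕ × ℕ)) (L3 : List (ℕ × ℕ × ℕ))
    (Jidx : List ℕ) (h : nShapeB D L1 L2 L3 Jidx = true) : NShape D L1 L2 L3 Jidx := by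
  unfold nShapeB at h
  split at h
  · rename_i i
    simp only [Bool.and_eq_true, decide_eq_true_eq, List.contains_iff_mem] at h
    exact Or.inl ⟨i, rfl, h.1.1, h.1.2, h.2⟩
  · rename_i i j
    simp only [Bool.and_eq_true, decide_eq_true_eq, List.contains_iff_mem] at h
    obtain ⟨⟨⟨⟨⟨a, b⟩, c⟩, d⟩, e⟩, f⟩ := h
    exact Or.inr (Or.inl ⟨i, j, rfl, a, b, c, d, e, f⟩)
  · rename_i i j k
    simp only [Bool.and_eq_true, decide_eq_true_eq, List.contains_iff_mem] at h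
    obtain ⟨⟨⟨⟨⟨⟨⟨⟨⟨⟨a, b⟩, c⟩, d⟩, e⟩, f⟩, g⟩, i1⟩, i2⟩, i3⟩, i4⟩ := h
    exact Or.inr (Or.inr ⟨i, j, k, rfl, a, b, c, d, e, f, g, i1, i2, i3, i4⟩)
  · exact absurd h (by simp)

/-- the shape of a simple class and its generator -/
def SimpShape (L1 : List ℕ) (L2 : List (ℕ × ℕ)) (L3 : List (ℕ × ℕ × ℕ)) (J : List ℕ) : Prop :=
  (∃ r, J = [r] ∧ r ∈ L1) ∨ (∃ r s, J = [r, s] ∧ (r, s) ∈ L2) ∨ (∃ r s v, J = [r, s, v] ∧ (r, s, v) ∈ L3)

def simpShapeB (L1 : List ℕ) (L2 : List (ℕ × ℕ)) (L3 : List (ℕ × ℕ × ℕ)) (J : List ℕ) : Bool :=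
  match J with
  | [r] => L1.contains r
  | [r, s] => L2.contains (r, s)
  | [r, s, v] => L3.contains (r, s, v)
  | _ => false

theorem simpShape_of_simpShapeB (L1 : List ℕ) (L2 : List (ℕ × ℕ)) (L3 : List (ℕ × ℕ × ℕ)) (J : List ℕ)
    (h : simpShapeB L1 L2 L3 J = true) : SimpShape L1 L2 L3 J := by
  unfold simpShapeB at h
  split at h
  · rename_i r
    exact Or.inl ⟨r, rfl, by simpa using h⟩
  · rename_i r s
    exact Or.inr (Or.inl ⟨r, s, rfl, by simpa using h⟩)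
  · rename_i r s v
    exact Or.inr (Or.inr ⟨r, s, v, rfl, by simpa using h⟩)
  · exact absurd h (by simp)

section
variable (D : ChevalleyDatum) (hD : D ∈ [chevG2, chevB2, chevD4, chevF4, chevE6, chevE7, chevE8])
variable (pv pv' ρ ρ' : ℕ → ℕ) (ε : ℕ → ℤ) (hG : GraphFacts D pv pv' ρ ρ' ε)
variable (K : Type*) [Field K] (φ : K ≃+* K)
variable (L1 : List ℕ) (L2 : List (ℕ × ℕ)) (L3 : List (ℕ × ℕ × ℕ))
include hD

omit pv pv' ρ ρ' ε hG φ L1 L2 L3 in
theorem NC.commute {r s : ℕ} (h : NC D r s) (a b : K) : Commute (xGL D hD K r a) (xGL D hD K s b) :=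
  xGL_comm_of_nil D hD K r s h.1 h.2.1 h.2.2.1 h.2.2.2.1 h.2.2.2.2 a b

omit pv pv' ρ ρ' ε hG in
theorem wordGL_mem_twGroup (w : List (ℕ × K)) (hw : w ∈ twWords K φ L1 L2 L3) :
    wordGL D hD K w ∈ D.genSubgroup K (twWords K φ L1 L2 L3) := by
  apply Subgroup.subset_closure
  exact ⟨w, hw, coe_wordGL D hD K w⟩

omit pv pv' ρ ρ' ε hG in
theorem gen1_mem (r : ℕ) (hr : r ∈ L1) (t : K) (ht : φ t = t) :
    xGL D hD K r t ∈ D.genSubgroup K (twWords K φ L1 L2 L3) := by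
  have := wordGL_mem_twGroup D hD K φ L1 L2 L3 [(r, t)] (Or.inl (Or.inl ⟨t, ht, r, hr, rfl⟩))
  simpa [wordGL] using this

omit pv pv' ρ ρ' ε hG in
theorem gen2_mem (rs : ℕ × ℕ) (hrs : rs ∈ L2) (t : K) :
    xGL D hD K rs.1 t * xGL D hD K rs.2 (φ t) ∈ D.genSubgroup K (twWords K φ L1 L2 L3) := by
  have := wordGL_mem_twGroup D hD K φ L1 L2 L3 [(rs.1, t), (rs.2, φ t)] (Or.inl (Or.inr ⟨t, rs, hrs, rfl⟩))
  simpa [wordGL] using this

omit pv pv' ρ ρ' ε hG in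
theorem gen3_mem (rs : ℕ × ℕ × ℕ) (hrs : rs ∈ L3) (t : K) :
    xGL D hD K rs.1 t * xGL D hD K rs.2.1 (φ t) * xGL D hD K rs.2.2 (φ (φ t)) ∈
      D.genSubgroup K (twWords K φ L1 L2 L3) := by
  have := wordGL_mem_twGroup D hD K φ L1 L2 L3 [(rs.1, t), (rs.2.1, φ t), (rs.2.2, φ (φ t))]
    (Or.inr ⟨t, rs, hrs, rfl⟩)
  simpa [wordGL, mul_assoc] using this

/-- the twisted group consists of `σ`-fixed elements -/
theorem twGroup_le_fixSigma (hgen : GenFacts D ρ ε L1 L2 L3)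
    (h2 : L2 ≠ [] → ∀ a, φ (φ a) = a) (h3 : L3 ≠ [] → ∀ a, φ (φ (φ a)) = a) :
    D.genSubgroup K (twWords K φ L1 L2 L3) ≤ fixSigma D pv pv' ρ ρ' ε hG K φ := by
  unfold ChevalleyDatum.genSubgroup
  rw [Subgroup.closure_le]
  rintro g ⟨w, hw, hgw⟩
  have hg : g = wordGL D hD K w := Units.ext (by rw [hgw, coe_wordGL])
  rw [SetLike.mem_coe, mem_fixSigma, hg]
  rcases hw with (⟨t, ht, r, hr, rfl⟩ | ⟨t, rs, hrs, rfl⟩) | ⟨t, rs, hrs, rfl⟩
  · obtain ⟨a, b, c⟩ := hgen.one r hr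
    rw [sigmaGL_wordGL D hD pv pv' ρ ρ' ε hG K φ _ (by simpa using a)]
    simp only [List.map_cons, List.map_nil]
    rw [b, c, ht]
    simp
  · obtain ⟨a, b, c, d, e⟩ := hgen.two rs hrs
    have hφ := h2 (List.ne_nil_of_mem hrs)
    rw [sigmaGL_wordGL D hD pv pv' ρ ρ' ε hG K φ _ (by
      intro x hx
      simp only [List.mem_cons, List.not_mem_nil, or_false] at hx
      rcases hx with rfl | rfl
      · exact e.1
      · exact e.2.1)]
    simp only [List.map_cons, List.map_nil]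
    rw [a, b, c, d, hφ]
    simp only [wordGL, List.map_cons, List.map_nil, List.prod_cons, List.prod_nil, mul_one, Int.cast_one,
      one_mul]
    exact ((e.commute D hD K t (φ t)).eq).symm
  · obtain ⟨a, b, c, d, e, f, g1, g2, g3⟩ := hgen.three rs hrs
    have hφ := h3 (List.ne_nil_of_mem hrs)
    rw [sigmaGL_wordGL D hD pv pv' ρ ρ' ε hG K φ _ (by
      intro x hx
      simp only [List.mem_cons, List.not_mem_nil, or_false] at hx
      rcases hx with rfl | rfl | rfl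
      · exact g1.1
      · exact g1.2.1
      · exact g2.2.1)]
    simp only [List.map_cons, List.map_nil]
    rw [a, b, c, d, e, f, hφ]
    simp only [wordGL, List.map_cons, List.map_nil, List.prod_cons, List.prod_nil, mul_one, Int.cast_one,
      one_mul]
    have c1 := (g1.commute D hD K t (φ t)).eq
    have c2 := (g2.commute D hD K t (φ (φ t))).eq
    rw [← c2, ← mul_assoc, ← c1, mul_assoc]

omit pv pv' ρ ρ' ε hG φ L1 L2 L3 hD in
theorem comm_shuffle2 {G : Type*} [Group G] (a1 a2 b1 b2 : G) (h11 : Commute a1 b1) (h12 : Commute a1 b2)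
    (h21 : Commute a2 b1) :
    a1 * a2 * a1 * (b1 * b2 * b1) = (a1 * b1) * (a2 * b2) * (a1 * b1) := by
  have e1 : b1 * a2 = a2 * b1 := h21.eq.symm
  have e2 : b2 * a1 = a1 * b2 := h12.eq.symm
  have e3 : b1 * a1 = a1 * b1 := h11.eq.symm
  calc a1 * a2 * a1 * (b1 * b2 * b1) = a1 * a2 * (a1 * b1) * b2 * b1 := by group
    _ = a1 * a2 * (b1 * a1) * b2 * b1 := by rw [e3]
    _ = a1 * (a2 * b1) * (a1 * b2) * b1 := by group
    _ = a1 * (b1 * a2) * (b2 * a1) * b1 := by rw [e1, e2]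
    _ = _ := by group

omit pv pv' ρ' in
/-- the elements `n_J` lie in the twisted group -/
theorem nWordGL_mem_twGroup (hgen : GenFacts D ρ ε L1 L2 L3) (Jidx : List ℕ)
    (h : NShape D L1 L2 L3 Jidx) :
    nWordGL D hD K Jidx ∈ D.genSubgroup K (twWords K φ L1 L2 L3) := by
  have hφ1 : φ 1 = 1 := map_one φ
  have hφm : φ (-1) = -1 := by rw [map_neg, map_one]
  have e2 : -(1 : K)⁻¹ = -1 := by rw [inv_one]
  rcases h with ⟨i, rfl, hi, h1, h2⟩ | ⟨i, j, rfl, hi, hj, h1, h2, h3, h4⟩ |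
    ⟨i, j, k, rfl, hi, hj, hk, h1, h2, n1, n2, n3, n4, n5, n6⟩
  · have : nWordGL D hD K [i] = nFund D hD K i := by simp [nWordGL]
    rw [this]
    unfold nFund
    rw [nGL_eq, e2]
    exact Subgroup.mul_mem _ (Subgroup.mul_mem _ (gen1_mem D hD K φ L1 L2 L3 _ h1 1 hφ1)
      (gen1_mem D hD K φ L1 L2 L3 _ h2 (-1) hφm)) (gen1_mem D hD K φ L1 L2 L3 _ h1 1 hφ1)
  · have : nWordGL D hD K [i, j] = nFund D hD K i * nFund D hD K j := by simp [nWordGL]
    rw [this]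
    unfold nFund
    rw [nGL_eq, nGL_eq, e2]
    obtain ⟨-, -, -, -, c1⟩ := hgen.two _ h1
    rw [comm_shuffle2 _ _ _ _ (c1.commute D hD K _ _) (h3.commute D hD K _ _) (h4.commute D hD K _ _)]
    have g1 := gen2_mem D hD K φ L1 L2 L3 _ h1 1
    have g2 := gen2_mem D hD K φ L1 L2 L3 _ h2 (-1)
    rw [hφ1] at g1
    rw [hφm] at g2
    exact Subgroup.mul_mem _ (Subgroup.mul_mem _ g1 g2) g1
  · have : nWordGL D hD K [i, j, k] = nFund D hD K i * (nFund D hD K j * nFund D hD K k) := by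
      simp [nWordGL]
    rw [this]
    unfold nFund
    rw [nGL_eq, nGL_eq, nGL_eq, e2]
    obtain ⟨-, -, -, -, -, -, c1, c2, c3⟩ := hgen.three _ h1
    obtain ⟨-, -, -, -, -, -, d1, d2, d3⟩ := hgen.three _ h2
    rw [comm_shuffle2 _ _ _ _ (c3.commute D hD K _ _) (n4.commute D hD K _ _)
      ((n6.commute D hD K _ _).symm)]
    rw [comm_shuffle2 _ _ _ _ ((c1.commute D hD K _ _).mul_right (c2.commute D hD K _ _))
      ((n1.commute D hD K _ _).mul_right (n2.commute D hD K _ _))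
      (((n3.commute D hD K _ _).symm).mul_right ((n5.commute D hD K _ _).symm))]
    have g1 := gen3_mem D hD K φ L1 L2 L3 _ h1 1
    have g2 := gen3_mem D hD K φ L1 L2 L3 _ h2 (-1)
    rw [hφ1, hφ1] at g1
    rw [hφm, hφm] at g2
    rw [mul_assoc] at g1 g2
    exact Subgroup.mul_mem _ (Subgroup.mul_mem _ g1 g2) g1

omit pv pv' in
/-- the generators over a simple class lie in the twisted group -/
theorem simple_mem_twGroup (hρ : ∀ s < D.nroots, ρ' (ρ s) = s) (hgen : GenFacts D ρ ε L1 L2 L3) (J : List ℕ)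
    (h : SimpShape L1 L2 L3 J) (t : ℕ → K) (ht : ∀ r ∈ J, t r = twistFn ρ' ε K φ t r) :
    ordProd D hD K J t ∈ D.genSubgroup K (twWords K φ L1 L2 L3) := by
  rcases h with ⟨r, rfl, hr⟩ | ⟨r, s, rfl, hrs⟩ | ⟨r, s, v, rfl, hrs⟩
  · obtain ⟨a, b, c⟩ := hgen.one r hr
    have hρr : ρ' r = r := by
      have := hρ r a
      rwa [b] at this
    have h1 := ht r List.mem_cons_self
    unfold twistFn at h1
    rw [hρr, c] at h1
    rw [ordProd_cons, ordProd_nil, mul_one]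
    apply gen1_mem D hD K φ L1 L2 L3 r hr
    simp only [Int.cast_one, one_mul] at h1
    exact h1.symm
  · obtain ⟨a, b, c, d, e⟩ := hgen.two _ hrs
    have hρs : ρ' s = r := by
      have := hρ r e.1
      rwa [a] at this
    have h1 := ht s (by simp)
    unfold twistFn at h1
    rw [hρs, c] at h1
    simp only [Int.cast_one, one_mul] at h1
    rw [ordProd_cons, ordProd_cons, ordProd_nil, mul_one, h1]
    have := gen2_mem D hD K φ L1 L2 L3 _ hrs (t r)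
    simpa using this
  · obtain ⟨a, b, c, d, e, f, g1, g2, g3⟩ := hgen.three _ hrs
    have hρs : ρ' s = r := by
      have := hρ r g1.1
      rwa [a] at this
    have hρv : ρ' v = s := by
      have := hρ s g1.2.1
      rwa [b] at this
    have h1 := ht s (by simp)
    have h2 := ht v (by simp)
    unfold twistFn at h1 h2
    rw [hρs, d] at h1
    rw [hρv, e] at h2
    simp only [Int.cast_one, one_mul] at h1 h2
    rw [ordProd_cons, ordProd_cons, ordProd_cons, ordProd_nil, mul_one, h2, h1]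
    have := gen3_mem D hD K φ L1 L2 L3 _ hrs (t r)
    simpa [mul_assoc] using this

end

end Cfsg.Agent.Lib.Helper7
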