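import Cfsg.Agent.Lib.Helper7.ChevTwistPerf
import Cfsg.Agent.Lib.Helper7.ChevTwistGen

/-! Twisted groups: pair and triple classes lie in the derived subgroup (helper7). -/

set_option autoImplicit false

namespace Cfsg.Agent.Lib.Helper7

open Cfsg Cfsg.Lie Matrix

theorem exists_sq_ne_one (K : Type*) [Field K] [Fintype K] (h : 3 < Fintype.card K) :
    ∃ a : K, a ≠ 0 ∧ a ^ 2 ≠ 1 := by
  classical
  by_contra hcon
  push Not at hcon
  have hsub : (Finset.univ : Finset K) ⊆ {0, 1, -1} := by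
    intro a _
    by_cases ha : a = 0
    · simp [ha]
    · have h2 := hcon a ha
      have h3 : (a - 1) * (a + 1) = 0 := by
        have : (a - 1) * (a + 1) = a ^ 2 - 1 := by ring
        rw [this, h2, sub_self]
      rcases mul_eq_zero.mp h3 with h' | h'
      · simp [sub_eq_zero.mp h']
      · simp [eq_neg_of_add_eq_zero_left h']
  have h4 := Finset.card_le_card hsub
  rw [Finset.card_univ] at h4
  have h5 : ({0, 1, -1} : Finset K).card ≤ 3 := Finset.card_le_three
  omega

section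
variable (D : ChevalleyDatum) (hD : D ∈ [chevG2, chevB2, chevD4, chevF4, chevE6, chevE7, chevE8])
variable (K : Type*) [Field K] (φ : K ≃+* K)
variable (L1 : List ℕ) (L2 : List (ℕ × ℕ)) (L3 : List (ℕ × ℕ × ℕ))
include hD

/-- a pair class and its negative lie in the derived subgroup of the twisted group -/
theorem pair_class_perfect (i j : ℕ) (hC : SimpClassFacts D [i, j])
    (hp : (D.simple i, D.simple j) ∈ L2) (hm : (D.neg (D.simple i), D.neg (D.simple j)) ∈ L2)
    (hn : nWordGL D hD K [i, j] ∈ D.genSubgroup K (twWords K φ L1 L2 L3))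
    (hji : D.cartan j (D.simple i) = 0) (hij : D.cartan i (D.simple j) = 0)
    (lam : K) (h0 : lam ≠ 0) (h1 : lam ^ 2 ≠ 1) :
    (∀ t, xGL D hD K (D.simple i) t * xGL D hD K (D.simple j) (φ t) ∈
      ⁅D.genSubgroup K (twWords K φ L1 L2 L3), D.genSubgroup K (twWords K φ L1 L2 L3)⁆) ∧
    (∀ t, xGL D hD K (D.neg (D.simple i)) t * xGL D hD K (D.neg (D.simple j)) (φ t) ∈
      ⁅D.genSubgroup K (twWords K φ L1 L2 L3), D.genSubgroup K (twWords K φ L1 L2 L3)⁆) := by
  have hi : i < D.rank := hC.lt i (by simp)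
  have hj : j < D.rank := hC.lt j (by simp)
  have hFi := fundFacts_of_mem D hD i hi
  have hFj := fundFacts_of_mem D hD j hj
  have hne : D.simple j ≠ D.simple i := by
    have := hC.nodup
    simp only [List.map_cons, List.map_nil, List.nodup_cons, List.mem_cons, List.not_mem_nil, or_false,
      not_false_eq_true, List.nodup_nil, and_true] at this
    exact fun h => this h.symm
  have hij' : i ≠ j := fun h => hne (by rw [h])
  obtain ⟨nc1, nc2, nc3⟩ := hC.nc i (by simp) j (by simp) hij'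
  obtain ⟨a, ha⟩ : ∃ a : K, a = -lam⁻¹ := ⟨_, rfl⟩
  have ha0 : a ≠ 0 := by rw [ha]; exact neg_ne_zero.mpr (inv_ne_zero h0)
  have hφa0 : φ a ≠ 0 := (map_ne_zero φ).mpr ha0
  obtain ⟨u, hu⟩ : ∃ u : ℕ → K, u = fun r => if r = D.simple i then a else φ a := ⟨_, rfl⟩
  have hui : u (D.simple i) = a := by rw [hu]; simp
  have huj : u (D.simple j) = φ a := by rw [hu]; simp [hne]
  have hu0 : ∀ r, u r ≠ 0 := by
    intro r; rw [hu]; dsimp only; split_ifs
    · exact ha0
    · exact hφa0
  obtain ⟨c, hc⟩ : ∃ c : ℕ → K, c = fun k => -(u (D.simple k))⁻¹ := ⟨_, rfl⟩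
  have hc0 : ∀ k, c k ≠ 0 := by
    intro k; rw [hc]; exact neg_ne_zero.mpr (inv_ne_zero (hu0 _))
  have hci : c i = lam := by
    rw [hc]; dsimp only; rw [hui, ha, inv_neg, inv_inv, neg_neg]
  have hcj : c j = φ lam := by
    rw [hc]; dsimp only; rw [huj, ha, map_neg, map_inv₀, inv_neg, inv_inv, neg_neg]
  have hmem := hClass_mem D hD K (D.genSubgroup K (twWords K φ L1 L2 L3)) [i, j] hC u (fun r _ => hu0 r)
    (by
      simp only [List.map_cons, List.map_nil, List.prod_cons, List.prod_nil, mul_one]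
      rw [hui, huj]
      exact gen2_mem D hD K φ L1 L2 L3 _ hm a)
    (by
      rw [List.map_cons, List.map_cons, List.map_nil, ordProd_cons, ordProd_cons, ordProd_nil, mul_one, hui, huj,
        ← map_inv₀]
      exact gen2_mem D hD K φ L1 L2 L3 _ hp a⁻¹) hn
  have hcc : (fun k => D.hWord (D.simple k) (-(u (D.simple k))⁻¹)) = fun k => D.hWord (D.simple k) (c k) := by
    rw [hc]
  rw [hcc] at hmem
  have hconj := hClass_conj D hD K [i, j] hC.lt c hc0
  have hχ := chainChar_prodChar D hD K [i, j] hC.lt c hc0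
  have hχi : prodChar D K [i, j] c (D.simple i) = lam ^ 2 := by
    unfold prodChar
    simp only [List.map_cons, List.map_nil, List.prod_cons, List.prod_nil, mul_one]
    rw [hFi.carP, hji, hci, zpow_zero, mul_one]
    exact zpow_ofNat _ 2
  have hχj : prodChar D K [i, j] c (D.simple j) = φ (lam ^ 2) := by
    unfold prodChar
    simp only [List.map_cons, List.map_nil, List.prod_cons, List.prod_nil, mul_one]
    rw [hFj.carP, hij, hcj, zpow_zero, one_mul, map_pow]
    exact zpow_ofNat _ 2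
  refine ⟨fun t => ?_, fun t => ?_⟩
  · exact pair_mem_comm D hD K φ _ _ hmem _ hconj _ _ (fun t => gen2_mem D hD K φ L1 L2 L3 _ hp t)
      (fun a b => nc1.commute D hD K a b) (by rw [hχi, hχj]) (by rw [hχi]; exact h1) t
  · have e1 : prodChar D K [i, j] c (D.neg (D.simple i)) = (lam ^ 2)⁻¹ := by
      rw [hχ.negC _ hFi.hp hFi.hpb, hχi]
    have e2 : prodChar D K [i, j] c (D.neg (D.simple j)) = φ ((lam ^ 2)⁻¹) := by
      rw [hχ.negC _ hFj.hp hFj.hpb, hχj, map_inv₀]
    exact pair_mem_comm D hD K φ _ _ hmem _ hconj _ _ (fun t => gen2_mem D hD K φ L1 L2 L3 _ hm t)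
      (fun a b => nc3.commute D hD K a b) (by rw [e1, e2])
      (by rw [e1]; intro h; apply h1; rw [inv_eq_one] at h; exact h) t

/-- a triple class and its negative lie in the derived subgroup of the twisted group -/
theorem triple_class_perfect (i j k : ℕ) (hC : SimpClassFacts D [i, j, k])
    (hp : (D.simple i, D.simple j, D.simple k) ∈ L3)
    (hm : (D.neg (D.simple i), D.neg (D.simple j), D.neg (D.simple k)) ∈ L3)
    (hn : nWordGL D hD K [i, j, k] ∈ D.genSubgroup K (twWords K φ L1 L2 L3))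
    (hji : D.cartan j (D.simple i) = 0) (hki : D.cartan k (D.simple i) = 0)
    (hij : D.cartan i (D.simple j) = 0) (hkj : D.cartan k (D.simple j) = 0)
    (hik : D.cartan i (D.simple k) = 0) (hjk : D.cartan j (D.simple k) = 0)
    (lam : K) (h0 : lam ≠ 0) (h1 : lam ^ 2 ≠ 1) :
    (∀ t, xGL D hD K (D.simple i) t * xGL D hD K (D.simple j) (φ t) * xGL D hD K (D.simple k) (φ (φ t)) ∈
      ⁅D.genSubgroup K (twWords K φ L1 L2 L3), D.genSubgroup K (twWords K φ L1 L2 L3)⁆) ∧
    (∀ t, xGL D hD K (D.neg (D.simple i)) t * xGL D hD K (D.neg (D.simple j)) (φ t) *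
        xGL D hD K (D.neg (D.simple k)) (φ (φ t)) ∈
      ⁅D.genSubgroup K (twWords K φ L1 L2 L3), D.genSubgroup K (twWords K φ L1 L2 L3)⁆) := by
  have hi : i < D.rank := hC.lt i (by simp)
  have hj : j < D.rank := hC.lt j (by simp)
  have hk : k < D.rank := hC.lt k (by simp)
  have hFi := fundFacts_of_mem D hD i hi
  have hFj := fundFacts_of_mem D hD j hj
  have hFk := fundFacts_of_mem D hD k hk
  have hnd := hC.nodup
  simp only [List.map_cons, List.map_nil, List.nodup_cons, List.mem_cons, List.not_mem_nil, or_false,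
    not_false_eq_true, List.nodup_nil, and_true, not_or] at hnd
  obtain ⟨⟨hne1, hne2⟩, hne3⟩ := hnd
  have hij' : i ≠ j := fun h => hne1 (by rw [h])
  have hik' : i ≠ k := fun h => hne2 (by rw [h])
  have hjk' : j ≠ k := fun h => hne3 (by rw [h])
  obtain ⟨nij1, nij2, nij3⟩ := hC.nc i (by simp) j (by simp) hij'
  obtain ⟨nik1, nik2, nik3⟩ := hC.nc i (by simp) k (by simp) hik'
  obtain ⟨njk1, njk2, njk3⟩ := hC.nc j (by simp) k (by simp) hjk'
  obtain ⟨a, ha⟩ : ∃ a : K, a = -lam⁻¹ := ⟨_, rfl⟩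
  have ha0 : a ≠ 0 := by rw [ha]; exact neg_ne_zero.mpr (inv_ne_zero h0)
  have hφa0 : φ a ≠ 0 := (map_ne_zero φ).mpr ha0
  have hφφa0 : φ (φ a) ≠ 0 := (map_ne_zero φ).mpr hφa0
  obtain ⟨u, hu⟩ : ∃ u : ℕ → K, u = fun r => if r = D.simple i then a else
    if r = D.simple j then φ a else φ (φ a) := ⟨_, rfl⟩
  have hui : u (D.simple i) = a := by rw [hu]; simp
  have huj : u (D.simple j) = φ a := by rw [hu]; simp [Ne.symm hne1]
  have huk : u (D.simple k) = φ (φ a) := by rw [hu]; simp [Ne.symm hne2, Ne.symm hne3]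
  have hu0 : ∀ r, u r ≠ 0 := by
    intro r; rw [hu]; dsimp only; split_ifs
    · exact ha0
    · exact hφa0
    · exact hφφa0
  obtain ⟨c, hc⟩ : ∃ c : ℕ → K, c = fun k => -(u (D.simple k))⁻¹ := ⟨_, rfl⟩
  have hc0 : ∀ k, c k ≠ 0 := by
    intro k; rw [hc]; exact neg_ne_zero.mpr (inv_ne_zero (hu0 _))
  have hci : c i = lam := by
    rw [hc]; dsimp only; rw [hui, ha, inv_neg, inv_inv, neg_neg]
  have hcj : c j = φ lam := by
    rw [hc]; dsimp only; rw [huj, ha, map_neg, map_inv₀, inv_neg, inv_inv, neg_neg]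
  have hck : c k = φ (φ lam) := by
    rw [hc]; dsimp only
    rw [huk, ha, map_neg, map_inv₀, map_neg, map_inv₀, inv_neg, inv_inv, neg_neg]
  have hmem := hClass_mem D hD K (D.genSubgroup K (twWords K φ L1 L2 L3)) [i, j, k] hC u (fun r _ => hu0 r)
    (by
      simp only [List.map_cons, List.map_nil, List.prod_cons, List.prod_nil, mul_one]
      rw [hui, huj, huk, ← mul_assoc]
      exact gen3_mem D hD K φ L1 L2 L3 _ hm a)
    (by
      rw [List.map_cons, List.map_cons, List.map_cons, List.map_nil, ordProd_cons, ordProd_cons, ordProd_cons,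
        ordProd_nil, mul_one, hui, huj, huk, ← mul_assoc]
      have e : (φ (φ a))⁻¹ = φ (φ a⁻¹) := by rw [map_inv₀, map_inv₀]
      have e' : (φ a)⁻¹ = φ a⁻¹ := by rw [map_inv₀]
      rw [e, e']
      exact gen3_mem D hD K φ L1 L2 L3 _ hp a⁻¹) hn
  have hcc : (fun k => D.hWord (D.simple k) (-(u (D.simple k))⁻¹)) = fun k => D.hWord (D.simple k) (c k) := by
    rw [hc]
  rw [hcc] at hmem
  have hconj := hClass_conj D hD K [i, j, k] hC.lt c hc0
  have hχ := chainChar_prodChar D hD K [i, j, k] hC.lt c hc0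
  have hχi : prodChar D K [i, j, k] c (D.simple i) = lam ^ 2 := by
    unfold prodChar
    simp only [List.map_cons, List.map_nil, List.prod_cons, List.prod_nil, mul_one]
    rw [hFi.carP, hji, hki, hci, zpow_zero, zpow_zero, mul_one, mul_one]
    exact zpow_ofNat _ 2
  have hχj : prodChar D K [i, j, k] c (D.simple j) = φ (lam ^ 2) := by
    unfold prodChar
    simp only [List.map_cons, List.map_nil, List.prod_cons, List.prod_nil, mul_one]
    rw [hFj.carP, hij, hkj, hcj, zpow_zero, zpow_zero, one_mul, mul_one, map_pow]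
    exact zpow_ofNat _ 2
  have hχk : prodChar D K [i, j, k] c (D.simple k) = φ (φ (lam ^ 2)) := by
    unfold prodChar
    simp only [List.map_cons, List.map_nil, List.prod_cons, List.prod_nil, mul_one]
    rw [hFk.carP, hik, hjk, hck, zpow_zero, zpow_zero, one_mul, one_mul, map_pow, map_pow]
    exact zpow_ofNat _ 2
  refine ⟨fun t => ?_, fun t => ?_⟩
  · exact triple_mem_comm D hD K φ _ _ hmem _ hconj _ _ _ (fun t => gen3_mem D hD K φ L1 L2 L3 _ hp t)
      (fun a b => nij1.commute D hD K a b) (fun a b => nik1.commute D hD K a b)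
      (fun a b => njk1.commute D hD K a b) (by rw [hχi, hχj]) (by rw [hχi, hχk])
      (by rw [hχi]; exact h1) t
  · have e1 : prodChar D K [i, j, k] c (D.neg (D.simple i)) = (lam ^ 2)⁻¹ := by
      rw [hχ.negC _ hFi.hp hFi.hpb, hχi]
    have e2 : prodChar D K [i, j, k] c (D.neg (D.simple j)) = φ ((lam ^ 2)⁻¹) := by
      rw [hχ.negC _ hFj.hp hFj.hpb, hχj, map_inv₀]
    have e3 : prodChar D K [i, j, k] c (D.neg (D.simple k)) = φ (φ ((lam ^ 2)⁻¹)) := by
      rw [hχ.negC _ hFk.hp hFk.hpb, hχk, map_inv₀, map_inv₀]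
    exact triple_mem_comm D hD K φ _ _ hmem _ hconj _ _ _ (fun t => gen3_mem D hD K φ L1 L2 L3 _ hm t)
      (fun a b => nij3.commute D hD K a b) (fun a b => nik3.commute D hD K a b)
      (fun a b => njk3.commute D hD K a b) (by rw [e1, e2]) (by rw [e1, e3])
      (by rw [e1]; intro h; apply h1; rw [inv_eq_one] at h; exact h) t

/-- the twisted group is perfect once its generators lie in the derived subgroup -/
theorem twGroup_perfect_of_gens
    (h1 : ∀ r ∈ L1, ∀ t, φ t = t → xGL D hD K r t ∈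
      ⁅D.genSubgroup K (twWords K φ L1 L2 L3), D.genSubgroup K (twWords K φ L1 L2 L3)⁆)
    (h2 : ∀ rs ∈ L2, ∀ t, xGL D hD K rs.1 t * xGL D hD K rs.2 (φ t) ∈
      ⁅D.genSubgroup K (twWords K φ L1 L2 L3), D.genSubgroup K (twWords K φ L1 L2 L3)⁆)
    (h3 : ∀ rs ∈ L3, ∀ t, xGL D hD K rs.1 t * xGL D hD K rs.2.1 (φ t) * xGL D hD K rs.2.2 (φ (φ t)) ∈
      ⁅D.genSubgroup K (twWords K φ L1 L2 L3), D.genSubgroup K (twWords K φ L1 L2 L3)⁆) :
    commutator ↥(D.genSubgroup K (twWords K φ L1 L2 L3)) = ⊤ := by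
  apply commutator_eq_top_of_le_self
  conv_lhs => unfold ChevalleyDatum.genSubgroup
  rw [Subgroup.closure_le]
  rintro g ⟨w, hw, hgw⟩
  have hg : g = wordGL D hD K w := Units.ext (by rw [hgw, coe_wordGL])
  rw [SetLike.mem_coe, hg]
  rcases hw with (⟨t, ht, r, hr, rfl⟩ | ⟨t, rs, hrs, rfl⟩) | ⟨t, rs, hrs, rfl⟩
  · have := h1 r hr t ht
    simpa [wordGL] using this
  · have := h2 rs hrs t
    simpa [wordGL] using this
  · have := h3 rs hrs t
    simpa [wordGL, mul_assoc] using this

end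

end Cfsg.Agent.Lib.Helper7
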