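import Cfsg.Agent.Lib.Helper7.ChevTwistH
import Cfsg.Agent.Lib.Helper7.ChevTwistPerf2

/-! Twisted groups: explicit torus elements of `H ∩ G¹` (helper7). -/

set_option autoImplicit false

namespace Cfsg.Agent.Lib.Helper7

open Cfsg Cfsg.Lie Matrix

section
variable (D : ChevalleyDatum) (hD : D ∈ [chevG2, chevB2, chevD4, chevF4, chevE6, chevE7, chevE8])
variable (K : Type*) [Field K] (φ : K ≃+* K)
variable (L1 : List ℕ) (L2 : List (ℕ × ℕ)) (L3 : List (ℕ × ℕ × ℕ))
include hD

/-- `h_p(μ) ∈ G¹` for a fixed fundamental root `p` and `μ` in the fixed field -/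
theorem hSingle_mem (i : ℕ) (hC : SimpClassFacts D [i])
    (hp : D.simple i ∈ L1) (hm : D.neg (D.simple i) ∈ L1)
    (hn : nWordGL D hD K [i] ∈ D.genSubgroup K (twWords K φ L1 L2 L3))
    (mu : K) (h0 : mu ≠ 0) (hmu : φ mu = mu) :
    wordGL D hD K ([i].flatMap fun k => D.hWord (D.simple k) mu) ∈
      D.genSubgroup K (twWords K φ L1 L2 L3) := by
  obtain ⟨a, ha⟩ : ∃ a : K, a = -mu⁻¹ := ⟨_, rfl⟩
  have ha0 : a ≠ 0 := by rw [ha]; exact neg_ne_zero.mpr (inv_ne_zero h0)
  have hφa : φ a = a := by rw [ha, map_neg, map_inv₀, hmu]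
  have hmem := hClass_mem D hD K (D.genSubgroup K (twWords K φ L1 L2 L3)) [i] hC (fun _ => a)
    (fun _ _ => ha0)
    (by
      simp only [List.map_cons, List.map_nil, List.prod_cons, List.prod_nil, mul_one]
      exact gen1_mem D hD K φ L1 L2 L3 _ hm a hφa)
    (by
      rw [List.map_cons, List.map_nil, ordProd_cons, ordProd_nil, mul_one]
      exact gen1_mem D hD K φ L1 L2 L3 _ hp a⁻¹ (by rw [map_inv₀, hφa])) hn
  have e : -a⁻¹ = mu := by rw [ha, inv_neg, inv_inv, neg_neg]
  simp only [e] at hmem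
  exact hmem

/-- the parameters of the torus element of a triple class -/
def tripleC (i j : ℕ) (lam : K) : ℕ → K :=
  fun x => if x = i then lam else if x = j then φ lam else φ (φ lam)

/-- `h_{p_i}(λ) h_{p_j}(φλ) h_{p_k}(φ²λ) ∈ G¹` for a triple class -/
theorem hTriple_mem (i j k : ℕ) (hC : SimpClassFacts D [i, j, k])
    (hp : (D.simple i, D.simple j, D.simple k) ∈ L3)
    (hm : (D.neg (D.simple i), D.neg (D.simple j), D.neg (D.simple k)) ∈ L3)
    (hn : nWordGL D hD K [i, j, k] ∈ D.genSubgroup K (twWords K φ L1 L2 L3))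
    (lam : K) (h0 : lam ≠ 0) :
    wordGL D hD K ([i, j, k].flatMap fun x => D.hWord (D.simple x) (tripleC K φ i j lam x)) ∈
      D.genSubgroup K (twWords K φ L1 L2 L3) := by
  have hnd := hC.nodup
  simp only [List.map_cons, List.map_nil, List.nodup_cons, List.mem_cons, List.not_mem_nil, or_false,
    not_false_eq_true, List.nodup_nil, and_true, not_or] at hnd
  obtain ⟨⟨hne1, hne2⟩, hne3⟩ := hnd
  have hij' : i ≠ j := fun h => hne1 (by rw [h])
  have hik' : i ≠ k := fun h => hne2 (by rw [h])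
  have hjk' : j ≠ k := fun h => hne3 (by rw [h])
  obtain ⟨a, ha⟩ : ∃ a : K, a = -lam⁻¹ := ⟨_, rfl⟩
  have ha0 : a ≠ 0 := by rw [ha]; exact neg_ne_zero.mpr (inv_ne_zero h0)
  have hφa0 : φ a ≠ 0 := (map_ne_zero φ).mpr ha0
  have hφφa0 : φ (φ a) ≠ 0 := (map_ne_zero φ).mpr hφa0
  obtain ⟨u, hu⟩ : ∃ u : ℕ → K, u = fun r => if r = D.simple i then a else
    if r = D.simple j then φ a else φ (φ a) := ⟨_, rfl⟩
  have hui : u (D.simple i) = a := by rw [hu]; simp
  have huj : u (D.simple j) = φ a := by rw [hu]; simp [Ne.symm hne1]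
  have huk : u (D.simple k) = φ (φ a) := by rw [hu]; simp [Ne.symm hne2, Ne.symm hne3]
  have hu0 : ∀ r, u r ≠ 0 := by
    intro r; rw [hu]; dsimp only; split_ifs
    · exact ha0
    · exact hφa0
    · exact hφφa0
  have hmem := hClass_mem D hD K (D.genSubgroup K (twWords K φ L1 L2 L3)) [i, j, k] hC u (fun r _ => hu0 r)
    (by
      simp only [List.map_cons, List.map_nil, List.prod_cons, List.prod_nil, mul_one]
      rw [hui, huj, huk, ← mul_assoc]
      exact gen3_mem D hD K φ L1 L2 L3 _ hm a)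
    (by
      rw [List.map_cons, List.map_cons, List.map_cons, List.map_nil, ordProd_cons, ordProd_cons, ordProd_cons,
        ordProd_nil, mul_one, hui, huj, huk, ← mul_assoc]
      have e : (φ (φ a))⁻¹ = φ (φ a⁻¹) := by rw [map_inv₀, map_inv₀]
      have e' : (φ a)⁻¹ = φ a⁻¹ := by rw [map_inv₀]
      rw [e, e']
      exact gen3_mem D hD K φ L1 L2 L3 _ hp a⁻¹) hn
  have hci : -(u (D.simple i))⁻¹ = tripleC K φ i j lam i := by
    unfold tripleC; rw [if_pos rfl, hui, ha, inv_neg, inv_inv, neg_neg]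
  have hcj : -(u (D.simple j))⁻¹ = tripleC K φ i j lam j := by
    unfold tripleC
    rw [if_neg (Ne.symm hij'), if_pos rfl, huj, ha, map_neg, map_inv₀, inv_neg, inv_inv, neg_neg]
  have hck : -(u (D.simple k))⁻¹ = tripleC K φ i j lam k := by
    unfold tripleC
    rw [if_neg (Ne.symm hik'), if_neg (Ne.symm hjk'), huk, ha, map_neg, map_inv₀, map_neg, map_inv₀, inv_neg,
      inv_inv, neg_neg]
  simp only [List.flatMap_cons, List.flatMap_nil, hci, hcj, hck] at hmem ⊢
  exact hmem

/-- the parameters of the torus element of a pair class -/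
def pairC (i : ℕ) (lam : K) : ℕ → K := fun x => if x = i then lam else φ lam

/-- `h_{p_i}(λ) h_{p_j}(φλ) ∈ G¹` for a pair class -/
theorem hPair_mem (i j : ℕ) (hC : SimpClassFacts D [i, j])
    (hp : (D.simple i, D.simple j) ∈ L2) (hm : (D.neg (D.simple i), D.neg (D.simple j)) ∈ L2)
    (hn : nWordGL D hD K [i, j] ∈ D.genSubgroup K (twWords K φ L1 L2 L3))
    (lam : K) (h0 : lam ≠ 0) :
    wordGL D hD K ([i, j].flatMap fun x => D.hWord (D.simple x) (pairC K φ i lam x)) ∈
      D.genSubgroup K (twWords K φ L1 L2 L3) := by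
  have hne : D.simple j ≠ D.simple i := by
    have := hC.nodup
    simp only [List.map_cons, List.map_nil, List.nodup_cons, List.mem_cons, List.not_mem_nil, or_false,
      not_false_eq_true, List.nodup_nil, and_true] at this
    exact fun h => this h.symm
  have hij' : i ≠ j := fun h => hne (by rw [h])
  obtain ⟨a, ha⟩ : ∃ a : K, a = -lam⁻¹ := ⟨_, rfl⟩
  have ha0 : a ≠ 0 := by rw [ha]; exact neg_ne_zero.mpr (inv_ne_zero h0)
  have hφa0 : φ a ≠ 0 := (map_ne_zero φ).mpr ha0
  obtain ⟨u, hu⟩ : ∃ u : ℕ → K, u = fun r => if r = D.simple i then a else φ a := ⟨_, rfl⟩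
  have hui : u (D.simple i) = a := by rw [hu]; simp
  have huj : u (D.simple j) = φ a := by rw [hu]; simp [hne]
  have hu0 : ∀ r, u r ≠ 0 := by
    intro r; rw [hu]; dsimp only; split_ifs
    · exact ha0
    · exact hφa0
  have hmem := hClass_mem D hD K (D.genSubgroup K (twWords K φ L1 L2 L3)) [i, j] hC u (fun r _ => hu0 r)
    (by
      simp only [List.map_cons, List.map_nil, List.prod_cons, List.prod_nil, mul_one]
      rw [hui, huj]
      exact gen2_mem D hD K φ L1 L2 L3 _ hm a)
    (by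
      rw [List.map_cons, List.map_cons, List.map_nil, ordProd_cons, ordProd_cons, ordProd_nil, mul_one, hui, huj,
        ← map_inv₀]
      exact gen2_mem D hD K φ L1 L2 L3 _ hp a⁻¹) hn
  have hci : -(u (D.simple i))⁻¹ = pairC K φ i lam i := by
    unfold pairC; rw [if_pos rfl, hui, ha, inv_neg, inv_inv, neg_neg]
  have hcj : -(u (D.simple j))⁻¹ = pairC K φ i lam j := by
    unfold pairC
    rw [if_neg (Ne.symm hij'), huj, ha, map_neg, map_inv₀, inv_neg, inv_inv, neg_neg]
  simp only [List.flatMap_cons, List.flatMap_nil, hci, hcj] at hmem ⊢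
  exact hmem

end

end Cfsg.Agent.Lib.Helper7
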