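import Cfsg.Agent.Lib.Helper7.ChevHCard

/-! Certificates for the order of `H`: root coefficients and Smith normal forms of the Cartan matrices (helper7). -/

set_option autoImplicit false
set_option maxRecDepth 100000

namespace Cfsg.Agent.Lib.Helper7

open Cfsg Cfsg.Lie

def hcA_E8 : List (List ℤ) := [[2, 0, -1, 0, 0, 0, 0, 0], [0, 2, 0, -1, 0, 0, 0, 0], [-1, 0, 2, -1, 0, 0, 0, 0], [0, -1, -1, 2, -1, 0, 0, 0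
  ], [0, 0, 0, -1, 2, -1, 0, 0], [0, 0, 0, 0, -1, 2, -1, 0], [0, 0, 0, 0, 0, -1, 2, -1
  ], [0, 0, 0, 0, 0, 0, -1, 2]]
def hcP_E8 : List (List ℤ) := [[-1, 0, 0, 0, 0, 0, 0, 0], [0, -1, 0, 0, 0, 0, 0, 0], [2, -1, 0, 0, 0, 0, -1, 0], [-1, 2, -1, 0, 0, 0, 0, 0
  ], [0, -1, 2, -1, 0, 0, 0, 0], [0, 0, -1, 2, -1, 0, 0, 0], [0, 0, 0, -1, 2, -1, 0, 0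
  ], [0, 0, 0, 0, -1, 2, 4, -1]]
def hcPi_E8 : List (List ℤ) := [[-1, 0, 0, 0, 0, 0, 0, 0], [0, -1, 0, 0, 0, 0, 0, 0], [1, -2, 0, -1, 0, 0, 0, 0], [2, -3, 0, -2, -1, 0, 0, 0
  ], [3, -4, 0, -3, -2, -1, 0, 0], [4, -5, 0, -4, -3, -2, -1, 0], [-2, 1, -1, 0, 0, 0, 0, 0
  ], [-3, -2, -4, -5, -4, -3, -2, -1]]
def hcQ_E8 : List (List ℤ) := [[-2, 0, 1, 0, 0, 0, 0, 0], [0, -2, 0, 1, 0, 0, 0, 0], [2, -3, 0, 0, 1, 0, 0, 0], [4, -4, 0, 0, 0, 1, 0, 0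
  ], [6, -5, 0, 0, 0, 0, 1, 0], [8, -6, 0, 0, 0, 0, 0, 1], [-3, 2, 0, 0, 0, 0, 0, 0], [-2, 1, 0, 0, 0, 0, 0, 0]]
def hcQi_E8 : List (List ℤ) := [[0, 0, 0, 0, 0, 0, 1, -2], [0, 0, 0, 0, 0, 0, 2, -3], [1, 0, 0, 0, 0, 0, 2, -4], [0, 1, 0, 0, 0, 0, 4, -6
  ], [0, 0, 1, 0, 0, 0, 4, -5], [0, 0, 0, 1, 0, 0, 4, -4], [0, 0, 0, 0, 1, 0, 4, -3], [0, 0, 0, 0, 0, 1, 4, -2]]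
def hcRn_E8 : List (List ℕ) := [[4, 3, 2, 0, 1, 2, 3, 4], [4, 3, 2, 0, 1, 2, 3, 5], [4, 3, 2, 0, 1, 2, 4, 5], [4, 3, 2, 0, 1, 3, 4, 5
  ], [4, 3, 2, 0, 2, 3, 4, 5], [4, 3, 2, 1, 2, 3, 4, 5], [4, 3, 3, 1, 2, 3, 4, 5], [4, 4, 2, 1, 2, 3, 4, 5
  ], [4, 4, 3, 1, 2, 3, 4, 5], [4, 4, 3, 2, 2, 3, 4, 5], [4, 4, 3, 2, 3, 3, 4, 5], [4, 4, 3, 2, 3, 4, 4, 5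
  ], [4, 4, 3, 2, 3, 4, 5, 5], [4, 4, 3, 2, 3, 4, 5, 6], [5, 3, 3, 1, 2, 3, 4, 5], [5, 4, 3, 1, 2, 3, 4, 5
  ], [5, 4, 3, 2, 2, 3, 4, 5], [5, 4, 3, 2, 3, 3, 4, 5], [5, 4, 3, 2, 3, 4, 4, 5], [5, 4, 3, 2, 3, 4, 5, 5
  ], [5, 4, 3, 2, 3, 4, 5, 6], [5, 4, 4, 2, 2, 3, 4, 5], [5, 4, 4, 2, 3, 3, 4, 5], [5, 4, 4, 2, 3, 4, 4, 5
  ], [5, 4, 4, 2, 3, 4, 5, 5], [5, 4, 4, 2, 3, 4, 5, 6], [5, 4, 4, 3, 3, 3, 4, 5], [5, 4, 4, 3, 3, 4, 4, 5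
  ], [5, 4, 4, 3, 3, 4, 5, 5], [5, 4, 4, 3, 3, 4, 5, 6], [5, 4, 4, 3, 4, 4, 4, 5], [5, 4, 4, 3, 4, 4, 5, 5
  ], [5, 4, 4, 3, 4, 4, 5, 6], [5, 4, 4, 3, 4, 5, 5, 5], [5, 4, 4, 3, 4, 5, 5, 6], [5, 4, 4, 3, 4, 5, 6, 6
  ], [5, 5, 4, 3, 3, 3, 4, 5], [5, 5, 4, 3, 3, 4, 4, 5], [5, 5, 4, 3, 3, 4, 5, 5], [5, 5, 4, 3, 3, 4, 5, 6
  ], [5, 5, 4, 3, 4, 4, 4, 5], [5, 5, 4, 3, 4, 4, 5, 5], [5, 5, 4, 3, 4, 4, 5, 6], [5, 5, 4, 3, 4, 5, 5, 5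
  ], [5, 5, 4, 3, 4, 5, 5, 6], [5, 5, 4, 3, 4, 5, 6, 6], [5, 5, 4, 4, 4, 4, 4, 5], [5, 5, 4, 4, 4, 4, 5, 5
  ], [5, 5, 4, 4, 4, 4, 5, 6], [5, 5, 4, 4, 4, 5, 5, 5], [5, 5, 4, 4, 4, 5, 5, 6], [5, 5, 4, 4, 4, 5, 6, 6
  ], [5, 5, 4, 4, 5, 5, 5, 5], [5, 5, 4, 4, 5, 5, 5, 6], [5, 5, 4, 4, 5, 5, 6, 6], [5, 5, 4, 4, 5, 6, 6, 6
  ], [5, 5, 5, 4, 4, 4, 4, 5], [5, 5, 5, 4, 4, 4, 5, 5], [5, 5, 5, 4, 4, 4, 5, 6], [5, 5, 5, 4, 4, 5, 5, 5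
  ], [5, 5, 5, 4, 4, 5, 5, 6], [5, 5, 5, 4, 4, 5, 6, 6], [5, 5, 5, 4, 5, 5, 5, 5], [5, 5, 5, 4, 5, 5, 5, 6
  ], [5, 5, 5, 4, 5, 5, 6, 6], [5, 5, 5, 4, 5, 6, 6, 6], [5, 5, 5, 5, 5, 5, 5, 5], [5, 5, 5, 5, 5, 5, 5, 6
  ], [5, 5, 5, 5, 5, 5, 6, 6], [5, 5, 5, 5, 5, 6, 6, 6], [5, 5, 5, 5, 6, 6, 6, 6], [5, 6, 5, 5, 5, 5, 5, 5
  ], [5, 6, 5, 5, 5, 5, 5, 6], [5, 6, 5, 5, 5, 5, 6, 6], [5, 6, 5, 5, 5, 6, 6, 6], [5, 6, 5, 5, 6, 6, 6, 6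
  ], [5, 6, 5, 6, 6, 6, 6, 6], [5, 6, 6, 6, 6, 6, 6, 6], [6, 5, 5, 4, 4, 4, 4, 5], [6, 5, 5, 4, 4, 4, 5, 5
  ], [6, 5, 5, 4, 4, 4, 5, 6], [6, 5, 5, 4, 4, 5, 5, 5], [6, 5, 5, 4, 4, 5, 5, 6], [6, 5, 5, 4, 4, 5, 6, 6
  ], [6, 5, 5, 4, 5, 5, 5, 5], [6, 5, 5, 4, 5, 5, 5, 6], [6, 5, 5, 4, 5, 5, 6, 6], [6, 5, 5, 4, 5, 6, 6, 6
  ], [6, 5, 5, 5, 5, 5, 5, 5], [6, 5, 5, 5, 5, 5, 5, 6], [6, 5, 5, 5, 5, 5, 6, 6], [6, 5, 5, 5, 5, 6, 6, 6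
  ], [6, 5, 5, 5, 6, 6, 6, 6], [6, 5, 6, 5, 5, 5, 5, 5], [6, 5, 6, 5, 5, 5, 5, 6], [6, 5, 6, 5, 5, 5, 6, 6
  ], [6, 5, 6, 5, 5, 6, 6, 6], [6, 5, 6, 5, 6, 6, 6, 6], [6, 5, 6, 6, 6, 6, 6, 6], [6, 6, 5, 5, 5, 5, 5, 5
  ], [6, 6, 5, 5, 5, 5, 5, 6], [6, 6, 5, 5, 5, 5, 6, 6], [6, 6, 5, 5, 5, 6, 6, 6], [6, 6, 5, 5, 6, 6, 6, 6
  ], [6, 6, 5, 6, 6, 6, 6, 6], [6, 6, 6, 5, 5, 5, 5, 5], [6, 6, 6, 5, 5, 5, 5, 6], [6, 6, 6, 5, 5, 5, 6, 6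
  ], [6, 6, 6, 5, 5, 6, 6, 6], [6, 6, 6, 5, 6, 6, 6, 6], [6, 6, 6, 6, 5, 5, 5, 5], [6, 6, 6, 6, 5, 5, 5, 6
  ], [6, 6, 6, 6, 5, 5, 6, 6], [6, 6, 6, 6, 5, 6, 6, 6], [6, 6, 6, 6, 6, 5, 5, 5], [6, 6, 6, 6, 6, 5, 5, 6
  ], [6, 6, 6, 6, 6, 5, 6, 6], [6, 6, 6, 6, 6, 6, 5, 5], [6, 6, 6, 6, 6, 6, 5, 6], [6, 6, 6, 6, 6, 6, 6, 5
  ], [6, 6, 6, 6, 6, 6, 6, 7], [6, 6, 6, 6, 6, 6, 7, 6], [6, 6, 6, 6, 6, 6, 7, 7], [6, 6, 6, 6, 6, 7, 6, 6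
  ], [6, 6, 6, 6, 6, 7, 7, 6], [6, 6, 6, 6, 6, 7, 7, 7], [6, 6, 6, 6, 7, 6, 6, 6], [6, 6, 6, 6, 7, 7, 6, 6
  ], [6, 6, 6, 6, 7, 7, 7, 6], [6, 6, 6, 6, 7, 7, 7, 7], [6, 6, 6, 7, 6, 6, 6, 6], [6, 6, 6, 7, 7, 6, 6, 6
  ], [6, 6, 6, 7, 7, 7, 6, 6], [6, 6, 6, 7, 7, 7, 7, 6], [6, 6, 6, 7, 7, 7, 7, 7], [6, 6, 7, 6, 6, 6, 6, 6
  ], [6, 6, 7, 7, 6, 6, 6, 6], [6, 6, 7, 7, 7, 6, 6, 6], [6, 6, 7, 7, 7, 7, 6, 6], [6, 6, 7, 7, 7, 7, 7, 6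
  ], [6, 6, 7, 7, 7, 7, 7, 7], [6, 7, 6, 6, 6, 6, 6, 6], [6, 7, 6, 7, 6, 6, 6, 6], [6, 7, 6, 7, 7, 6, 6, 6
  ], [6, 7, 6, 7, 7, 7, 6, 6], [6, 7, 6, 7, 7, 7, 7, 6], [6, 7, 6, 7, 7, 7, 7, 7], [6, 7, 7, 7, 6, 6, 6, 6
  ], [6, 7, 7, 7, 7, 6, 6, 6], [6, 7, 7, 7, 7, 7, 6, 6], [6, 7, 7, 7, 7, 7, 7, 6], [6, 7, 7, 7, 7, 7, 7, 7
  ], [6, 7, 7, 8, 7, 6, 6, 6], [6, 7, 7, 8, 7, 7, 6, 6], [6, 7, 7, 8, 7, 7, 7, 6], [6, 7, 7, 8, 7, 7, 7, 7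
  ], [6, 7, 7, 8, 8, 7, 6, 6], [6, 7, 7, 8, 8, 7, 7, 6], [6, 7, 7, 8, 8, 7, 7, 7], [6, 7, 7, 8, 8, 8, 7, 6
  ], [6, 7, 7, 8, 8, 8, 7, 7], [6, 7, 7, 8, 8, 8, 8, 7], [7, 6, 6, 6, 6, 6, 6, 6], [7, 6, 7, 6, 6, 6, 6, 6
  ], [7, 6, 7, 7, 6, 6, 6, 6], [7, 6, 7, 7, 7, 6, 6, 6], [7, 6, 7, 7, 7, 7, 6, 6], [7, 6, 7, 7, 7, 7, 7, 6
  ], [7, 6, 7, 7, 7, 7, 7, 7], [7, 7, 7, 7, 6, 6, 6, 6], [7, 7, 7, 7, 7, 6, 6, 6], [7, 7, 7, 7, 7, 7, 6, 6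
  ], [7, 7, 7, 7, 7, 7, 7, 6], [7, 7, 7, 7, 7, 7, 7, 7], [7, 7, 7, 8, 7, 6, 6, 6], [7, 7, 7, 8, 7, 7, 6, 6
  ], [7, 7, 7, 8, 7, 7, 7, 6], [7, 7, 7, 8, 7, 7, 7, 7], [7, 7, 7, 8, 8, 7, 6, 6], [7, 7, 7, 8, 8, 7, 7, 6
  ], [7, 7, 7, 8, 8, 7, 7, 7], [7, 7, 7, 8, 8, 8, 7, 6], [7, 7, 7, 8, 8, 8, 7, 7], [7, 7, 7, 8, 8, 8, 8, 7
  ], [7, 7, 8, 8, 7, 6, 6, 6], [7, 7, 8, 8, 7, 7, 6, 6], [7, 7, 8, 8, 7, 7, 7, 6], [7, 7, 8, 8, 7, 7, 7, 7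
  ], [7, 7, 8, 8, 8, 7, 6, 6], [7, 7, 8, 8, 8, 7, 7, 6], [7, 7, 8, 8, 8, 7, 7, 7], [7, 7, 8, 8, 8, 8, 7, 6
  ], [7, 7, 8, 8, 8, 8, 7, 7], [7, 7, 8, 8, 8, 8, 8, 7], [7, 7, 8, 9, 8, 7, 6, 6], [7, 7, 8, 9, 8, 7, 7, 6
  ], [7, 7, 8, 9, 8, 7, 7, 7], [7, 7, 8, 9, 8, 8, 7, 6], [7, 7, 8, 9, 8, 8, 7, 7], [7, 7, 8, 9, 8, 8, 8, 7
  ], [7, 7, 8, 9, 9, 8, 7, 6], [7, 7, 8, 9, 9, 8, 7, 7], [7, 7, 8, 9, 9, 8, 8, 7], [7, 7, 8, 9, 9, 9, 8, 7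
  ], [7, 8, 8, 9, 8, 7, 6, 6], [7, 8, 8, 9, 8, 7, 7, 6], [7, 8, 8, 9, 8, 7, 7, 7], [7, 8, 8, 9, 8, 8, 7, 6
  ], [7, 8, 8, 9, 8, 8, 7, 7], [7, 8, 8, 9, 8, 8, 8, 7], [7, 8, 8, 9, 9, 8, 7, 6], [7, 8, 8, 9, 9, 8, 7, 7
  ], [7, 8, 8, 9, 9, 8, 8, 7], [7, 8, 8, 9, 9, 9, 8, 7], [7, 8, 8, 10, 9, 8, 7, 6], [7, 8, 8, 10, 9, 8, 7, 7
  ], [7, 8, 8, 10, 9, 8, 8, 7], [7, 8, 8, 10, 9, 9, 8, 7], [7, 8, 8, 10, 10, 9, 8, 7], [7, 8, 9, 10, 9, 8, 7, 6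
  ], [7, 8, 9, 10, 9, 8, 7, 7], [7, 8, 9, 10, 9, 8, 8, 7], [7, 8, 9, 10, 9, 9, 8, 7], [7, 8, 9, 10, 10, 9, 8, 7
  ], [7, 8, 9, 11, 10, 9, 8, 7], [7, 9, 9, 11, 10, 9, 8, 7], [8, 8, 9, 10, 9, 8, 7, 6], [8, 8, 9, 10, 9, 8, 7, 7
  ], [8, 8, 9, 10, 9, 8, 8, 7], [8, 8, 9, 10, 9, 9, 8, 7], [8, 8, 9, 10, 10, 9, 8, 7], [8, 8, 9, 11, 10, 9, 8, 7
  ], [8, 8, 10, 11, 10, 9, 8, 7], [8, 9, 9, 11, 10, 9, 8, 7], [8, 9, 10, 11, 10, 9, 8, 7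
  ], [8, 9, 10, 12, 10, 9, 8, 7], [8, 9, 10, 12, 11, 9, 8, 7], [8, 9, 10, 12, 11, 10, 8, 7
  ], [8, 9, 10, 12, 11, 10, 9, 7], [8, 9, 10, 12, 11, 10, 9, 8]]
def hcR_E8 : List (List ℤ) := hcRn_E8.map fun r => r.map fun x => (x : ℤ) - 6
def hcD_E8 : List ℕ := [1, 1, 1, 1, 1, 1, 1, 1]
theorem rootCoefOKB_E8 : rootCoefOKB chevE8 hcA_E8 hcR_E8 = true := by decide +kernel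
theorem smithOKB_E8 : smithOKB chevE8 hcP_E8 hcPi_E8 hcQ_E8 hcQi_E8 hcD_E8 = true := by decide +kernel

end Cfsg.Agent.Lib.Helper7
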