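import Cfsg.Agent.Lib.Helper7.ChevHCardTab
import Cfsg.Agent.Lib.Helper7.ChevHCardTabE6
import Cfsg.Agent.Lib.Helper7.ChevHCardTabE7
import Cfsg.Agent.Lib.Helper7.ChevHCardTabE8

/-! `d |H| = (q-1)^l` for the seven tabulated types (helper7). -/

set_option autoImplicit false

namespace Cfsg.Agent.Lib.Helper7

open Cfsg Cfsg.Lie Matrix

theorem gcd_mul_div (n d : ℕ) : Nat.gcd d n * (n / Nat.gcd n d) = n := by
  rw [Nat.gcd_comm d n]; exact Nat.mul_div_cancel' (Nat.gcd_dvd_left n d)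

section
variable (F : Type*) [Field F] [Fintype F]

theorem card_diagonal_B2 :
    Nat.gcd 2 (Fintype.card F - 1) * Nat.card (chevB2.diagonalSubgroup F) = (Fintype.card F - 1) ^ 2 := by
  rw [card_diagonal chevB2 (by simp) F hcA_B2 hcR_B2 hcP_B2 hcPi_B2 hcQ_B2 hcQi_B2 hcD_B2
    rootCoefOKB_B2 smithOKB_B2]
  have hr : chevB2.rank = 2 := rfl
  rw [Fin.prod_univ_eq_prod_range (fun k => (Fintype.card F - 1) / (Fintype.card F - 1).gcd (hcD_B2.getD k 0)) chevB2.rank, hr]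
  obtain ⟨n, hn⟩ : ∃ n, n = Fintype.card F - 1 := ⟨_, rfl⟩
  rw [← hn]
  simp only [Finset.prod_range_succ, Finset.prod_range_zero, hcD_B2, List.getD_cons_zero,
    List.getD_cons_succ, Nat.gcd_one_right, Nat.div_one, one_mul]
  rw [mul_comm n, ← mul_assoc, gcd_mul_div, pow_two]

theorem card_diagonal_D4 :
    Nat.gcd 2 (Fintype.card F - 1) ^ 2 * Nat.card (chevD4.diagonalSubgroup F) = (Fintype.card F - 1) ^ 4 := by
  rw [card_diagonal chevD4 (by simp) F hcA_D4 hcR_D4 hcP_D4 hcPi_D4 hcQ_D4 hcQi_D4 hcD_D4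
    rootCoefOKB_D4 smithOKB_D4]
  have hr : chevD4.rank = 4 := rfl
  rw [Fin.prod_univ_eq_prod_range (fun k => (Fintype.card F - 1) / (Fintype.card F - 1).gcd (hcD_D4.getD k 0)) chevD4.rank, hr]
  obtain ⟨n, hn⟩ : ∃ n, n = Fintype.card F - 1 := ⟨_, rfl⟩
  rw [← hn]
  simp only [Finset.prod_range_succ, Finset.prod_range_zero, hcD_D4, List.getD_cons_zero,
    List.getD_cons_succ, Nat.gcd_one_right, Nat.div_one, one_mul]
  have h := gcd_mul_div n 2
  calc Nat.gcd 2 n ^ 2 * (n * n * (n / n.gcd 2) * (n / n.gcd 2))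
      = n * n * (Nat.gcd 2 n * (n / n.gcd 2)) * (Nat.gcd 2 n * (n / n.gcd 2)) := by ring
    _ = n ^ 4 := by rw [h]; ring

theorem card_diagonal_F4 :
    Nat.card (chevF4.diagonalSubgroup F) = (Fintype.card F - 1) ^ 4 := by
  rw [card_diagonal chevF4 (by simp) F hcA_F4 hcR_F4 hcP_F4 hcPi_F4 hcQ_F4 hcQi_F4 hcD_F4
    rootCoefOKB_F4 smithOKB_F4]
  have hr : chevF4.rank = 4 := rfl
  rw [Fin.prod_univ_eq_prod_range (fun k => (Fintype.card F - 1) / (Fintype.card F - 1).gcd (hcD_F4.getD k 0)) chevF4.rank, hr]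
  obtain ⟨n, hn⟩ : ∃ n, n = Fintype.card F - 1 := ⟨_, rfl⟩
  rw [← hn]
  simp only [Finset.prod_range_succ, Finset.prod_range_zero, hcD_F4, List.getD_cons_zero,
    List.getD_cons_succ, Nat.gcd_one_right, Nat.div_one, one_mul]
  ring

theorem card_diagonal_E6 :
    Nat.gcd 3 (Fintype.card F - 1) * Nat.card (chevE6.diagonalSubgroup F) = (Fintype.card F - 1) ^ 6 := by
  rw [card_diagonal chevE6 (by simp) F hcA_E6 hcR_E6 hcP_E6 hcPi_E6 hcQ_E6 hcQi_E6 hcD_E6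
    rootCoefOKB_E6 smithOKB_E6]
  have hr : chevE6.rank = 6 := rfl
  rw [Fin.prod_univ_eq_prod_range (fun k => (Fintype.card F - 1) / (Fintype.card F - 1).gcd (hcD_E6.getD k 0)) chevE6.rank, hr]
  obtain ⟨n, hn⟩ : ∃ n, n = Fintype.card F - 1 := ⟨_, rfl⟩
  rw [← hn]
  simp only [Finset.prod_range_succ, Finset.prod_range_zero, hcD_E6, List.getD_cons_zero,
    List.getD_cons_succ, Nat.gcd_one_right, Nat.div_one, one_mul]
  have h := gcd_mul_div n 3
  calc Nat.gcd 3 n * (n * n * n * n * n * (n / n.gcd 3))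
      = n * n * n * n * n * (Nat.gcd 3 n * (n / n.gcd 3)) := by ring
    _ = n ^ 6 := by rw [h]; ring

theorem card_diagonal_E7 :
    Nat.gcd 2 (Fintype.card F - 1) * Nat.card (chevE7.diagonalSubgroup F) = (Fintype.card F - 1) ^ 7 := by
  rw [card_diagonal chevE7 (by simp) F hcA_E7 hcR_E7 hcP_E7 hcPi_E7 hcQ_E7 hcQi_E7 hcD_E7
    rootCoefOKB_E7 smithOKB_E7]
  have hr : chevE7.rank = 7 := rfl
  rw [Fin.prod_univ_eq_prod_range (fun k => (Fintype.card F - 1) / (Fintype.card F - 1).gcd (hcD_E7.getD k 0)) chevE7.rank, hr]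
  obtain ⟨n, hn⟩ : ∃ n, n = Fintype.card F - 1 := ⟨_, rfl⟩
  rw [← hn]
  simp only [Finset.prod_range_succ, Finset.prod_range_zero, hcD_E7, List.getD_cons_zero,
    List.getD_cons_succ, Nat.gcd_one_right, Nat.div_one, one_mul]
  have h := gcd_mul_div n 2
  calc Nat.gcd 2 n * (n * n * n * n * n * n * (n / n.gcd 2))
      = n * n * n * n * n * n * (Nat.gcd 2 n * (n / n.gcd 2)) := by ring
    _ = n ^ 7 := by rw [h]; ring

theorem card_diagonal_E8 :
    Nat.card (chevE8.diagonalSubgroup F) = (Fintype.card F - 1) ^ 8 := by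
  rw [card_diagonal chevE8 (by simp) F hcA_E8 hcR_E8 hcP_E8 hcPi_E8 hcQ_E8 hcQi_E8 hcD_E8
    rootCoefOKB_E8 smithOKB_E8]
  have hr : chevE8.rank = 8 := rfl
  rw [Fin.prod_univ_eq_prod_range (fun k => (Fintype.card F - 1) / (Fintype.card F - 1).gcd (hcD_E8.getD k 0)) chevE8.rank, hr]
  obtain ⟨n, hn⟩ : ∃ n, n = Fintype.card F - 1 := ⟨_, rfl⟩
  rw [← hn]
  simp only [Finset.prod_range_succ, Finset.prod_range_zero, hcD_E8, List.getD_cons_zero,
    List.getD_cons_succ, Nat.gcd_one_right, Nat.div_one, one_mul]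
  ring

end

end Cfsg.Agent.Lib.Helper7
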