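import Cfsg.Agent.Lib.Helper7.ChevWeylChainE8
import Cfsg.Agent.Lib.Helper7.ChevHCardFin

/-! `|E8(q)|` (helper7). -/

set_option autoImplicit false
set_option maxHeartbeats 4000000
set_option maxRecDepth 100000

namespace Cfsg.Agent.Lib.Helper7

open Cfsg Cfsg.Lie Matrix

theorem card_group_E8 (F : Type*) [Field F] [Fintype F] :
    Nat.card ↥(chevE8.group F) = Fintype.card F ^ 120 * (Fintype.card F ^ 2 - 1) * (Fintype.card F ^ 8 - 1) * (Fintype.card F ^ 12 - 1) * (Fintype.card F ^ 14 - 1) * (Fintype.card F ^ 18 - 1) * (Fintype.card F ^ 20 - 1) * (Fintype.card F ^ 24 - 1) * (Fintype.card F ^ 30 - 1) := by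
  rw [card_group_of_chain chevE8 (by simp) F weylChain_E8 weylChainOKB_E8 weylHist_E8 chainHistOKB_E8]
  have hn : chevE8.nroots / 2 = 120 := rfl
  rw [hn]
  have hH := card_diagonal_E8 F
  obtain ⟨q, hq⟩ : ∃ q, q = Fintype.card F := ⟨_, rfl⟩
  rw [← hq] at hH ⊢
  have h1 : 1 ≤ q := by rw [hq]; exact Fintype.card_pos
  have h2 : 1 ≤ q ^ 2 := Nat.one_le_pow _ _ h1
  have h8 : 1 ≤ q ^ 8 := Nat.one_le_pow _ _ h1
  have h12 : 1 ≤ q ^ 12 := Nat.one_le_pow _ _ h1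
  have h14 : 1 ≤ q ^ 14 := Nat.one_le_pow _ _ h1
  have h18 : 1 ≤ q ^ 18 := Nat.one_le_pow _ _ h1
  have h20 : 1 ≤ q ^ 20 := Nat.one_le_pow _ _ h1
  have h24 : 1 ≤ q ^ 24 := Nat.one_le_pow _ _ h1
  have h30 : 1 ≤ q ^ 30 := Nat.one_le_pow _ _ h1
  obtain ⟨S, hS⟩ : ∃ S, S = histPoly q weylHist_E8 := ⟨_, rfl⟩
  rw [← hS]
  have key : (q - 1) ^ 8 * S = (q ^ 2 - 1) * (q ^ 8 - 1) * (q ^ 12 - 1) * (q ^ 14 - 1) * (q ^ 18 - 1) * (q ^ 20 - 1) * (q ^ 24 - 1) * (q ^ 30 - 1) := by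
    rw [hS]
    simp only [weylHist_E8, histPoly, Finset.sum_range_succ, Finset.sum_range_zero, List.getD_cons_zero,
      List.getD_cons_succ]
    zify [h1, h2, h8, h12, h14, h18, h20, h24, h30]
    ring
  calc (q ^ 120 * Nat.card (chevE8.diagonalSubgroup F) * S)
      = q ^ 120 * (Nat.card (chevE8.diagonalSubgroup F) * S) := by ring
    _ = q ^ 120 * ((q - 1) ^ 8 * S) := by rw [hH]
    _ = q ^ 120 * (q ^ 2 - 1) * (q ^ 8 - 1) * (q ^ 12 - 1) * (q ^ 14 - 1) * (q ^ 18 - 1) * (q ^ 20 - 1) * (q ^ 24 - 1) * (q ^ 30 - 1) := by rw [key]; ring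

end Cfsg.Agent.Lib.Helper7
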