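import Cfsg.Agent.Lib.Helper7.OddInvC
import Cfsg.Agent.Lib.Helper11.ChevParCent

/-! Involutions of Chevalley groups over finite fields of odd order (helper7), part D:
the case of a single reflection (`single_split`), and tools for the involutions of `H`. -/

set_option autoImplicit false

namespace Cfsg.Agent.Lib.Helper7.OddInv

open Cfsg Cfsg.Lie Matrix
open Cfsg.Agent.Lib.Helper7 Cfsg.Agent.Lib.Helper25.ChInv Cfsg.Agent.Lib.Helper11.SL2Hom
open Cfsg.Agent.Lib.Helper11.ChevSL2 Cfsg.Agent.Lib.Helper11.ChevParCent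

section
variable (D : ChevalleyDatum) (hD : D ∈ [chevG2, chevB2, chevD4, chevF4, chevE6, chevE7, chevE8])
variable (F : Type*) [Field F]
include hD

/-- the word of an involution of `N` is an involution on the roots -/
theorem reflWord_invol (n : GL D.Idx F) (hnn : n * n = 1) (L : List ℕ)
    (hact : ActsAs D hD F n (reflWord D L)) : ∀ r < D.nroots, reflWord D L (reflWord D L r) = r := by
  intro r hr
  have h1 := ActsAs.mul D F hact hact
  rw [hnn] at h1
  have h2 := actsAs_diag D hD F 1 (Subgroup.one_mem _)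
  exact ActsAs.unique D hD F h1 h2 r hr

/-- conjugation of a root element by `n_i h` -/
theorem conj_nFund_diag (i : ℕ) (hi : i < D.rank) (h : GL D.Idx F) (χ : ℕ → F) (hχ : ChainChar D F χ)
    (hh : (h : Matrix D.Idx D.Idx F) = diagChar D F χ) (s : ℕ) (hs : s < D.nroots) (t : F) :
    (nFund D hD F i * h) * xGL D hD F s t * (nFund D hD F i * h)⁻¹ =
      xGL D hD F (D.reflectRoot i s) (((etaFn D i s : ℤ) : F) * (χ s * t)) := by
  have e : (nFund D hD F i * h) * xGL D hD F s t * (nFund D hD F i * h)⁻¹ =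
      nFund D hD F i * (h * xGL D hD F s t * h⁻¹) * (nFund D hD F i)⁻¹ := by group
  rw [e, diagGL_xGL_comm D hD F h χ hχ hh s t]
  have e2 : xGL D hD F s (χ s * t) * h * h⁻¹ = xGL D hD F s (χ s * t) := by group
  rw [e2, nFund_conj_xGL D hD F i hi s hs]

/-- `η_{i,s} η_{i,w_i s} = (-1)^{A_{i s}}` -/
theorem eta_mul_eta (i : ℕ) (hi : i < D.rank) (s : ℕ) (hs : s < D.nroots) :
    ((etaFn D i (D.reflectRoot i s) : ℤ) : F) * ((etaFn D i s : ℤ) : F) = (-1 : F) ^ (D.cartan i s) := by
  have hC := conjFacts_of_mem D hD i hi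
  have hws := hC.wlt s hs
  have hm1 : (-1 : F) ≠ 0 := neg_ne_zero.mpr one_ne_zero
  have h1 : (nFund D hD F i * nFund D hD F i) * xGL D hD F s 1 * (nFund D hD F i * nFund D hD F i)⁻¹ =
      xGL D hD F s (((etaFn D i (D.reflectRoot i s) : ℤ) : F) * (((etaFn D i s : ℤ) : F) * 1)) := by
    have e : (nFund D hD F i * nFund D hD F i) * xGL D hD F s 1 * (nFund D hD F i * nFund D hD F i)⁻¹ =
        nFund D hD F i * (nFund D hD F i * xGL D hD F s 1 * (nFund D hD F i)⁻¹) * (nFund D hD F i)⁻¹ := by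
      group
    rw [e, nFund_conj_xGL D hD F i hi s hs, nFund_conj_xGL D hD F i hi _ hws, hC.winv s hs]
  have h2 : (nFund D hD F i * nFund D hD F i) * xGL D hD F s 1 * (nFund D hD F i * nFund D hD F i)⁻¹ =
      xGL D hD F s ((-1 : F) ^ (D.cartan i s) * 1) := by
    have e0 : nFund D hD F i * nFund D hD F i = hF D hD F i (-1) := nF_sq D hD F i hi
    rw [e0, hF_x D hD F i hi s (-1) hm1]; group
  have h3 := xGL_coef_inj D hD F s hs _ _ (h1.symm.trans h2)
  rw [mul_one, mul_one] at h3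
  exact h3

/-- **a single reflection**: if `n` sends `p_i` to its negative and keeps the other fundamental roots
positive, and some fundamental root `p_j` has an odd Cartan integer `-k` with `p_i`, then the
coefficient of `n` at `p_i` is a square -/
theorem single_split (n : GL D.Idx F) (hn : n ∈ D.monomialSubgroup F) (hnn : n * n = 1) (L : List ℕ)
    (hL : ∀ i ∈ L, i < D.rank) (hact : ActsAs D hD F n (reflWord D L)) (i : ℕ) (hi : i < D.rank)
    (hfi : reflWord D L (D.simple i) = D.neg (D.simple i))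
    (hoth : ∀ j < D.rank, j ≠ i → D.IsPosRoot (reflWord D L (D.simple j)))
    (j : ℕ) (hj : j < D.rank) (m : ℕ) (hcar : D.cartan i (D.simple j) = -((2 * m + 1 : ℕ) : ℤ))
    (hmem : ∃ x ∈ ccAll D (D.simple i) (D.simple j), x.1 = D.reflectRoot i (D.simple j) ∧
      x.2.1 = 2 * m + 1) :
    ∃ d : F, d ≠ 0 ∧ SwapsAt D hD F n i (d * d) := by
  have hC := conjFacts_of_mem D hD i hi
  have hs := nFund_mem_monomial D hD F i hi
  have hpi := (parFacts_of_mem D hD).simplePos i hi
  have hpj := (parFacts_of_mem D hD).simplePos j hj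
  have hinv := reflWord_invol D hD F n hnn L hact
  -- `h = n_i⁻¹ n ∈ H`
  have hact' : ActsAs D hD F ((nFund D hD F i)⁻¹ * n) (D.reflectRoot i ∘ reflWord D L) :=
    ActsAs.mul D F (actsAs_nFund_inv D hD F i hi) hact
  have hh : (nFund D hD F i)⁻¹ * n ∈ D.diagonalSubgroup F := by
    apply mem_diagonal_of_simple_pos D hD F _ (Subgroup.mul_mem _ (Subgroup.inv_mem _ hs) hn) _ hact'
    intro j' hj'
    show D.IsPosRoot (D.reflectRoot i (reflWord D L (D.simple j')))
    by_cases hji : j' = i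
    · rw [hji, hfi, (hC.wneg _ hpi.1).2.1]
      have e1 : D.reflectRoot i (D.simple i) = D.neg (D.simple i) := by
        unfold ChevalleyDatum.reflectRoot; simp
      rw [e1, neg_neg_root D hD _ hpi.1]
      exact hpi
    · have hp := hoth j' hj' hji
      apply reflect_pos_of_pos D hD i hi _ hp
      intro hcon
      have hpj' := (parFacts_of_mem D hD).simplePos j' hj'
      have h1 := hinv _ hpj'.1
      rw [hcon, hfi] at h1
      exact not_pos_and_neg D hD _ (by rw [← h1] at hpj'; exact hpj') (isNegRoot_neg D hD _ hpi)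
  obtain ⟨χ, hχ, hhm⟩ := mem_diagonalSubgroup_char D hD F _ hh
  set h := (nFund D hD F i)⁻¹ * n with hdef
  have hnh : n = nFund D hD F i * h := by rw [hdef]; group
  -- the relation from `n² = 1` at the root `p_j`
  set s := D.simple j with hsdef
  have hs' : s < D.nroots := hpj.1
  have hws := hC.wlt s hs'
  have hrel : ((etaFn D i (D.reflectRoot i s) : ℤ) : F) * (χ (D.reflectRoot i s) *
      (((etaFn D i s : ℤ) : F) * (χ s * 1))) = 1 := by
    have h1 : (n * n) * xGL D hD F s 1 * (n * n)⁻¹ = xGL D hD F s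
        (((etaFn D i (D.reflectRoot i s) : ℤ) : F) * (χ (D.reflectRoot i s) *
          (((etaFn D i s : ℤ) : F) * (χ s * 1)))) := by
      have e : (n * n) * xGL D hD F s 1 * (n * n)⁻¹ = n * (n * xGL D hD F s 1 * n⁻¹) * n⁻¹ := by group
      rw [e]
      nth_rewrite 2 [hnh]
      nth_rewrite 2 [hnh]
      rw [conj_nFund_diag D hD F i hi h χ hχ hhm s hs']
      rw [hnh, conj_nFund_diag D hD F i hi h χ hχ hhm _ hws, hC.winv s hs']
    rw [hnn] at h1
    have h2 : (1 : GL D.Idx F) * xGL D hD F s 1 * (1 : GL D.Idx F)⁻¹ = xGL D hD F s 1 := by group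
    rw [h2] at h1
    exact (xGL_coef_inj D hD F s hs' _ _ h1).symm
  obtain ⟨x, hx, hx1, hx2⟩ := hmem
  have hadd := hχ.addC (D.simple i) hpi.1 s hs' x hx (by rw [hx1]; exact hws)
  rw [hx1, hx2] at hadd
  have heta := eta_mul_eta D hD F i hi s hs'
  rw [hcar] at heta
  have hm1 : (-1 : F) ^ (-((2 * m + 1 : ℕ) : ℤ)) = -1 := by
    rw [_root_.zpow_neg, zpow_natCast, Odd.neg_one_pow ⟨m, rfl⟩]; norm_num
  rw [hm1] at heta
  -- `-χ(p_i)^(2m+1) χ(s)² = 1`
  have hχs : χ s ≠ 0 := hχ.ne0 s hs'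
  have hχi : χ (D.simple i) ≠ 0 := hχ.ne0 _ hpi.1
  have key : -(χ (D.simple i)) = (χ s * χ (D.simple i) ^ m)⁻¹ * (χ s * χ (D.simple i) ^ m)⁻¹ := by
    have h5 : ((etaFn D i (D.reflectRoot i s) : ℤ) : F) * ((etaFn D i s : ℤ) : F) *
        (χ s * χ (D.simple i) ^ (2 * m + 1) * χ s) = 1 := by
      rw [← hrel, hadd]; ring
    rw [heta] at h5
    have hne : χ s * χ (D.simple i) ^ m ≠ 0 := mul_ne_zero hχs (pow_ne_zero _ hχi)
    field_simp
    have : χ (D.simple i) ^ (2 * m + 1) = χ (D.simple i) * (χ (D.simple i) ^ m) ^ 2 := by ring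
    rw [this] at h5
    linear_combination h5
  refine ⟨(χ s * χ (D.simple i) ^ m)⁻¹, inv_ne_zero (mul_ne_zero hχs (pow_ne_zero _ hχi)), ?_⟩
  intro t
  rw [← key]
  have h6 := conj_nFund_diag D hD F i hi h χ hχ hhm (D.simple i) hpi.1 t
  rw [← hnh] at h6
  rw [h6]
  have e1 : D.reflectRoot i (D.simple i) = D.neg (D.simple i) := by
    unfold ChevalleyDatum.reflectRoot; simp
  have e2 : etaFn D i (D.simple i) = -1 := by
    unfold etaFn; simp
  rw [e1, e2]
  congr 1
  push_cast
  ring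

/-- the character of `h_{p_i}(c)` -/
theorem coe_hF_diagChar (i : ℕ) (hi : i < D.rank) (c : F) (hc : c ≠ 0) :
    ((hF D hD F i c : GL D.Idx F) : Matrix D.Idx D.Idx F) = diagChar D F (fun s => c ^ D.cartan i s) := by
  rw [coe_hF D hD F i hi c hc]
  rfl

theorem chainChar_hF (i : ℕ) (hi : i < D.rank) (c : F) (hc : c ≠ 0) :
    ChainChar D F (fun s => c ^ D.cartan i s) :=
  chainChar_zpow D F (D.cartan i) (chainAdd_cartan D i (hxFacts_of_mem D hD i hi)) c hc

/-- `n_i h n_i⁻¹ = h_{p_i}(χ(p_i))⁻¹ h` -/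
theorem nFund_conj_diag (i : ℕ) (hi : i < D.rank) (h : GL D.Idx F) (χ : ℕ → F) (hχ : ChainChar D F χ)
    (hh : (h : Matrix D.Idx D.Idx F) = diagChar D F χ) :
    nFund D hD F i * h * (nFund D hD F i)⁻¹ = (hF D hD F i (χ (D.simple i)))⁻¹ * h := by
  have hpi := (parFacts_of_mem D hD).simplePos i hi
  have h1 := diagGL_nGL_comm D hD F h χ hχ hh (D.simple i) hpi.1
  rw [nGL_eq_hGL_mul D hD F (D.simple i) (χ (D.simple i))] at h1
  have h2 : h * nFund D hD F i = hF D hD F i (χ (D.simple i)) * nFund D hD F i * h := h1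
  have h3 : nFund D hD F i * h = (hF D hD F i (χ (D.simple i)))⁻¹ * (h * nFund D hD F i) := by
    rw [h2]; group
  calc nFund D hD F i * h * (nFund D hD F i)⁻¹
      = (hF D hD F i (χ (D.simple i)))⁻¹ * (h * nFund D hD F i) * (nFund D hD F i)⁻¹ := by rw [h3]
    _ = (hF D hD F i (χ (D.simple i)))⁻¹ * h := by group

/-- the values of the character of an involution of `H` are `±1` -/
theorem char_sq_of_invol (h : GL D.Idx F) (χ : ℕ → F)
    (hh : (h : Matrix D.Idx D.Idx F) = diagChar D F χ) (hsq : h * h = 1) (s : ℕ) (hs : s < D.nroots) :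
    χ s * χ s = 1 := by
  have h1 : ((h * h : GL D.Idx F) : Matrix D.Idx D.Idx F) = 1 := by rw [hsq]; rfl
  rw [Units.val_mul, hh, diagChar_mul] at h1
  have h2 := congrFun (congrFun h1 (Sum.inr ⟨s, hs⟩)) (Sum.inr ⟨s, hs⟩)
  unfold diagChar at h2
  simpa using h2

end

end Cfsg.Agent.Lib.Helper7.OddInv
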