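import Cfsg.Agent.Lib.Helper7.BNDihedral

/-! Counting in a finite group with a (B,N)-pair whose Weyl group is dihedral of order 16, with possibly
different parameters for the two generators; a group generated by two involutions whose product has order
`n > 2` is dihedral (helper7). -/

set_option autoImplicit false

namespace Cfsg.Agent.Lib.Helper7

open Cfsg Cfsg.Agent.Lib.Helper3.BN Cfsg.Agent.Lib.Helper3.WordLen

/-- a group generated by two involutions whose product has order `n > 2` is dihedral of order `2n` -/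
theorem exists_dihedral_equiv {W : Type*} [Group W] (n : ℕ) (hn : 2 < n) (s t : W) (hs : s * s = 1)
    (ht : t * t = 1) (hord : orderOf (s * t) = n) (hgen : Subgroup.closure {s, t} = ⊤) :
    ∃ e : DihedralGroup n ≃* W, e (.sr 0) = s ∧ e (.sr 1) = t := by
  have hx : (s * t) ^ n = 1 := by rw [← hord]; exact pow_orderOf_eq_one _
  have hsi : s⁻¹ = s := inv_eq_of_mul_eq_one_left hs
  have hti : t⁻¹ = t := inv_eq_of_mul_eq_one_left ht
  have hsx : s * (s * t) * s = (s * t)⁻¹ := by
    rw [_root_.mul_inv_rev, hsi, hti, ← mul_assoc, hs, one_mul]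
  have hnot : s ∉ Subgroup.zpowers (s * t) := by
    intro hmem
    obtain ⟨k, hk⟩ := Subgroup.mem_zpowers_iff.mp hmem
    have hcomm : Commute s (s * t) := by
      have := (Commute.refl (s * t)).zpow_left k
      rw [hk] at this
      exact this
    have h1 : s * (s * t) * s = s * t := by
      rw [hcomm.eq, mul_assoc, hs, mul_one]
    rw [hsx] at h1
    have h2 : (s * t) ^ 2 = 1 := by
      rw [pow_two]
      nth_rewrite 1 [← h1]
      exact inv_mul_cancel _
    have := orderOf_dvd_of_pow_eq_one h2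
    rw [hord] at this
    have := Nat.le_of_dvd (by norm_num) this
    omega
  have hinj := Cfsg.Agent.Lib.Helper3.dihLift_injective (s * t) s hx hs hsx hord hnot
  have hrange := Cfsg.Agent.Lib.Helper3.dihLift_range (s * t) s hx hs hsx
  have hsurj : Function.Surjective (Cfsg.Agent.Lib.Helper3.dihLift (s * t) s hx hs hsx) := by
    rw [← MonoidHom.range_eq_top, hrange, eq_top_iff, ← hgen, Subgroup.closure_le]
    rintro y (rfl | rfl)
    · exact Subgroup.subset_closure (by simp)
    · have : s * (s * y) ∈ Subgroup.closure {s * y, s} :=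
        Subgroup.mul_mem _ (Subgroup.subset_closure (by simp)) (Subgroup.subset_closure (by simp))
      rwa [← mul_assoc, hs, one_mul] at this
  refine ⟨MulEquiv.ofBijective _ ⟨hinj, hsurj⟩, ?_, ?_⟩
  · exact Cfsg.Agent.Lib.Helper3.dihLift_sr_zero _ _ hx hs hsx
  · show Cfsg.Agent.Lib.Helper3.dihLift (s * t) s hx hs hsx (.sr 1) = t
    rw [Cfsg.Agent.Lib.Helper3.dihLift_sr, Cfsg.Agent.Lib.Helper3.dihPow_one, ← mul_assoc, hs, one_mul]

def d8a : DihedralGroup 8 → ℕ
  | .r i => [0, 1, 2, 3, 4, 3, 2, 1].getD i.val 0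
  | .sr i => [1, 0, 1, 2, 3, 4, 3, 2].getD i.val 0

def d8b : DihedralGroup 8 → ℕ
  | .r i => [0, 1, 2, 3, 4, 3, 2, 1].getD i.val 0
  | .sr i => [0, 1, 2, 3, 4, 3, 2, 1].getD i.val 0

def d8len : DihedralGroup 8 → ℕ
  | .r i => [0, 2, 4, 6, 8, 6, 4, 2].getD i.val 0
  | .sr i => [1, 1, 3, 5, 7, 7, 5, 3].getD i.val 0

theorem d8_univ : (Finset.univ : Finset (DihedralGroup 8)) =
    {.r 0, .r 1, .r 2, .r 3, .r 4, .r 5, .r 6, .r 7,
      .sr 0, .sr 1, .sr 2, .sr 3, .sr 4, .sr 5, .sr 6, .sr 7} := by decide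

theorem d8_sum (a b : ℕ) : ∑ d : DihedralGroup 8, a ^ (d8a d) * b ^ (d8b d) =
    (1 + a) * (1 + b) * (1 + a * b + a ^ 2 * b ^ 2 + a ^ 3 * b ^ 3) := by
  rw [d8_univ]
  repeat rw [Finset.sum_insert (by decide)]
  rw [Finset.sum_singleton]
  simp only [d8a, d8b]
  have e0 : (0 : ZMod 8).val = 0 := rfl
  have e1 : (1 : ZMod 8).val = 1 := rfl
  have e2 : (2 : ZMod 8).val = 2 := rfl
  have e3 : (3 : ZMod 8).val = 3 := rfl
  have e4 : (4 : ZMod 8).val = 4 := rfl
  have e5 : (5 : ZMod 8).val = 5 := rfl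
  have e6 : (6 : ZMod 8).val = 6 := rfl
  have e7 : (7 : ZMod 8).val = 7 := rfl
  rw [e0, e1, e2, e3, e4, e5, e6, e7]
  simp only [List.getD_cons_zero, List.getD_cons_succ]
  ring

theorem d8_step : ∀ d : DihedralGroup 8,
    d8len (.sr 0 * d) ≤ d8len d + 1 ∧ d8len (.sr 1 * d) ≤ d8len d + 1 := by
  decide

theorem d8_desc : ∀ d : DihedralGroup 8, d8len d ≠ 0 →
    (d8len (.sr 0 * d) + 1 = d8len d ∧ d8a d = d8a (.sr 0 * d) + 1 ∧ d8b d = d8b (.sr 0 * d)) ∨
    (d8len (.sr 1 * d) + 1 = d8len d ∧ d8a d = d8a (.sr 1 * d) ∧ d8b d = d8b (.sr 1 * d) + 1) := by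
  decide

theorem d8_zero : ∀ d : DihedralGroup 8, d8len d = 0 → d = 1 := by decide

def d8alt : ℕ → Bool → List (DihedralGroup 8)
  | 0, _ => []
  | k + 1, c => (if c then .sr 0 else .sr 1) :: d8alt k (!c)

def d8words : List (List (DihedralGroup 8)) := (List.range 9).flatMap fun k => [d8alt k true, d8alt k false]

theorem d8_word : ∀ d : DihedralGroup 8, ∃ L ∈ d8words, L.prod = d ∧ L.length ≤ d8len d := by decide

theorem d8_letters : ∀ L ∈ d8words, ∀ x ∈ L, x = .sr 0 ∨ x = .sr 1 := by decide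

section
variable {G : Type*} [Group G] (P : Cfsg.BNPair G) (e : DihedralGroup 8 ≃* W P)
variable (s t : G) (hs : s ∈ P.S) (ht : t ∈ P.S) (hes : e (.sr 0) = sb P s hs) (het : e (.sr 1) = sb P t ht)
variable (hS : ∀ x ∈ Sbar P, x = sb P s hs ∨ x = sb P t ht)
include hes het hS

local notation "ℓ" => len (Sbar P)

/-- the length function of a dihedral Weyl group of order 16 -/
theorem len_dihedral8 (d : DihedralGroup 8) : ℓ (e d) = d8len d := by
  have h := len_eq_of_table (Sbar_sq P) (Sbar_closure P) (fun w => d8len (e.symm w))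
    (by rw [map_one]; rfl)
    (by
      intro x hx w
      show d8len (e.symm (x * w)) ≤ d8len (e.symm w) + 1
      rw [map_mul]
      rcases hS x hx with rfl | rfl
      · rw [← hes, MulEquiv.symm_apply_apply]; exact (d8_step _).1
      · rw [← het, MulEquiv.symm_apply_apply]; exact (d8_step _).2)
    (by
      intro w
      obtain ⟨L, hL, hw, hlen⟩ := d8_word (e.symm w)
      refine ⟨L.map e, ?_, ?_, ?_⟩
      · intro x hx
        rw [List.mem_map] at hx
        obtain ⟨y, hy, rfl⟩ := hx
        rcases d8_letters L hL y hy with rfl | rfl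
        · rw [hes]; exact sb_mem P hs
        · rw [het]; exact sb_mem P ht
      · rw [← map_list_prod, hw, MulEquiv.apply_symm_apply]
      · rw [List.length_map]; exact hlen) (e d)
  rw [h]
  show d8len (e.symm (e d)) = d8len d
  rw [MulEquiv.symm_apply_apply]

variable [Finite G] (a b : ℕ) (ha : Nat.card (C P (sb P s hs)) = a * Nat.card P.B)
  (hb : Nat.card (C P (sb P t ht)) = b * Nat.card P.B)
include ha hb

theorem card_C_dihedral8 : ∀ (k : ℕ) (d : DihedralGroup 8), d8len d = k →
    Nat.card (C P (e d)) = a ^ (d8a d) * b ^ (d8b d) * Nat.card P.B := by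
  have hl := len_dihedral8 P e s t hs ht hes het hS
  have hBpos : 0 < Nat.card P.B := Nat.card_pos
  intro k
  induction k with
  | zero =>
    intro d hd
    rw [d8_zero d hd, map_one, C_one]
    show Nat.card P.B = a ^ 0 * b ^ 0 * Nat.card P.B
    rw [pow_zero, pow_zero, one_mul, one_mul]
  | succ k ih =>
    intro d hd
    rcases d8_desc d (by rw [hd]; exact Nat.succ_ne_zero k) with ⟨h1, h2, h3⟩ | ⟨h1, h2, h3⟩
    · have hw : sb P s hs * e (.sr 0 * d) = e d := by
        rw [map_mul, hes, sb_mul_cancel]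
      have hlt : ℓ (e (.sr 0 * d)) < ℓ (sb P s hs * e (.sr 0 * d)) := by
        rw [hw, hl, hl]; omega
      have hc := card_C_mul P hs hlt
      rw [hw, ha, ih (.sr 0 * d) (by omega)] at hc
      have : Nat.card (C P (e d)) * Nat.card P.B =
          (a ^ (d8a d) * b ^ (d8b d) * Nat.card P.B) * Nat.card P.B := by
        rw [hc, h2, h3]; ring
      exact Nat.eq_of_mul_eq_mul_right hBpos this
    · have hw : sb P t ht * e (.sr 1 * d) = e d := by
        rw [map_mul, het, sb_mul_cancel]
      have hlt : ℓ (e (.sr 1 * d)) < ℓ (sb P t ht * e (.sr 1 * d)) := by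
        rw [hw, hl, hl]; omega
      have hc := card_C_mul P ht hlt
      rw [hw, hb, ih (.sr 1 * d) (by omega)] at hc
      have : Nat.card (C P (e d)) * Nat.card P.B =
          (a ^ (d8a d) * b ^ (d8b d) * Nat.card P.B) * Nat.card P.B := by
        rw [hc, h2, h3]; ring
      exact Nat.eq_of_mul_eq_mul_right hBpos this

/-- the order of a finite group with a `(B,N)`-pair with dihedral Weyl group of order 16 and parameters
`a`, `b` -/
theorem card_of_dihedral8 :
    Nat.card G = Nat.card P.B * ((1 + a) * (1 + b) * (1 + a * b + a ^ 2 * b ^ 2 + a ^ 3 * b ^ 3)) := by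
  classical
  letI : Fintype (W P) := Fintype.ofEquiv _ e.toEquiv
  rw [card_eq_sum_cells P, ← Equiv.sum_comp e.toEquiv, ← d8_sum, Finset.mul_sum]
  apply Finset.sum_congr rfl
  intro d _
  have := card_C_dihedral8 P e s t hs ht hes het hS a b ha hb _ d rfl
  rw [mul_comm]
  exact this

end

end Cfsg.Agent.Lib.Helper7
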