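import Cfsg.Agent.Lib.Helper7.TwBN
import Mathlib.SetTheory.Cardinal.Finite
import Mathlib.Algebra.Group.Subgroup.Basic

/-! Abstract counting for twisted `(B,N)`-pairs (helper7): the size of a rank one cell `B₁ s B₁` and of a
factorised subgroup `B₁ = H₁ U₁`. -/

set_option autoImplicit false

namespace Cfsg.Agent.Lib.Helper7.TwBN

variable {Γ : Type*} [Group Γ]

/-- the size of a cell `B₁ s B₁` of rank one: `|B₁ s B₁| = |B₁| |X|` -/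
theorem card_cell (B1 X : Subgroup Γ) (s : Γ) (hX : X ≤ B1)
    (decomp : ∀ b ∈ B1, ∃ c ∈ B1, ∃ x ∈ X, b = c * x ∧ s * c * s⁻¹ ∈ B1)
    (inj : ∀ x ∈ X, s * x * s⁻¹ ∈ B1 → x = 1) :
    Nat.card {g : Γ // ∃ b ∈ B1, ∃ b' ∈ B1, g = b * s * b'} = Nat.card B1 * Nat.card X := by
  rw [← Nat.card_prod]
  symm
  apply Nat.card_congr
  refine Equiv.ofBijective
    (fun p => ⟨(p.1 : Γ) * s * (p.2 : Γ), p.1.1, p.1.2, p.2.1, hX p.2.2, rfl⟩) ⟨?_, ?_⟩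
  · rintro ⟨⟨b, hb⟩, ⟨x, hx⟩⟩ ⟨⟨b', hb'⟩, ⟨x', hx'⟩⟩ he
    have he' : b * s * x = b' * s * x' := congrArg Subtype.val he
    have e : s * (x * x'⁻¹) * s⁻¹ = b⁻¹ * b' := by
      have : b' = b * s * x * x'⁻¹ * s⁻¹ := by rw [he']; group
      rw [this]; group
    have hm : s * (x * x'⁻¹) * s⁻¹ ∈ B1 := by rw [e]; exact B1.mul_mem (B1.inv_mem hb) hb'
    have h1 := inj _ (X.mul_mem hx (X.inv_mem hx')) hm
    have hx1 : x = x' := mul_inv_eq_one.mp h1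
    have hb1 : b = b' := by
      rw [h1] at e
      have : b⁻¹ * b' = 1 := by rw [← e]; group
      exact (inv_mul_eq_one.mp this)
    subst hx1 hb1
    rfl
  · rintro ⟨g, b, hb, b', hb', rfl⟩
    obtain ⟨c, hc, x, hx, rfl, hcc⟩ := decomp b' hb'
    refine ⟨(⟨b * (s * c * s⁻¹), B1.mul_mem hb hcc⟩, ⟨x, hx⟩), ?_⟩
    apply Subtype.ext
    show b * (s * c * s⁻¹) * s * x = b * s * (c * x)
    group

/-- the size of a factorised subgroup `B₁ = H₁ U₁` with `H₁ ∩ U₁ = 1` -/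
theorem card_of_factor (B1 H1 U1 : Subgroup Γ) (hH : H1 ≤ B1) (hU : U1 ≤ B1) (hdisj : H1 ⊓ U1 = ⊥)
    (hfac : ∀ b ∈ B1, ∃ h ∈ H1, ∃ u ∈ U1, b = h * u) :
    Nat.card B1 = Nat.card H1 * Nat.card U1 := by
  rw [← Nat.card_prod]
  symm
  apply Nat.card_congr
  refine Equiv.ofBijective
    (fun p => ⟨(p.1 : Γ) * (p.2 : Γ), B1.mul_mem (hH p.1.2) (hU p.2.2)⟩) ⟨?_, ?_⟩
  · rintro ⟨⟨h, hh⟩, ⟨u, hu⟩⟩ ⟨⟨h', hh'⟩, ⟨u', hu'⟩⟩ he
    have he' : h * u = h' * u' := congrArg Subtype.val he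
    have e : h'⁻¹ * h = u' * u⁻¹ := by
      have : h = h' * u' * u⁻¹ := by rw [← he']; group
      rw [this]; group
    have hm : h'⁻¹ * h ∈ H1 ⊓ U1 := by
      refine Subgroup.mem_inf.mpr ⟨H1.mul_mem (H1.inv_mem hh') hh, ?_⟩
      rw [e]; exact U1.mul_mem hu' (U1.inv_mem hu)
    rw [hdisj, Subgroup.mem_bot] at hm
    have hh1 : h' = h := inv_mul_eq_one.mp hm
    have hu1 : u' = u := by
      rw [hm] at e
      exact mul_inv_eq_one.mp e.symm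
    subst hh1 hu1
    rfl
  · rintro ⟨b, hb⟩
    obtain ⟨h, hh, u, hu, rfl⟩ := hfac b hb
    exact ⟨(⟨h, hh⟩, ⟨u, hu⟩), rfl⟩

end Cfsg.Agent.Lib.Helper7.TwBN
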