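import Cfsg.Agent.Lib.Helper11.F4Tw16
import Cfsg.Agent.Lib.Helper7.BNDihedral8
import Cfsg.Agent.Lib.Helper7.TwBNCount

/-! `²F₄(q)`: the Weyl group `N¹/H¹` is dihedral of order 16, and the order of the group, from helper11's
`(B,N)`-pair (helper7). -/

set_option autoImplicit false
set_option maxRecDepth 100000

namespace Cfsg.Agent.Lib.Helper7.F4O

open Cfsg Cfsg.Lie Matrix Cfsg.Agent.Lib.Helper7 Cfsg.Agent.Lib.Helper11 Cfsg.Agent.Lib.Helper11.F4T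
  Cfsg.Agent.Lib.Helper11.Isog Cfsg.Agent.Lib.Helper3.BN

theorem pow8_id : ∀ s < 48, reflWord chevF4 (flatW [0, 1, 0, 1, 0, 1, 0, 1, 0, 1, 0, 1, 0, 1, 0, 1]) s = s := by
  decide +kernel

theorem pow4_ne : reflWord chevF4 (flatW [0, 1, 0, 1, 0, 1, 0, 1]) 33 ≠ 33 := by decide +kernel

section
variable {F : Type*} [Field F]

theorem sJ_pow_four : (sJ F 0 * sJ F 1) ^ 4 = nW F [0, 1, 0, 1, 0, 1, 0, 1] := by
  simp only [nW_cons, nW_nil, mul_one, pow_succ, pow_zero, one_mul, mul_assoc]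
  rfl

theorem sJ_pow_eight : (sJ F 0 * sJ F 1) ^ 8 = nW F [0, 1, 0, 1, 0, 1, 0, 1, 0, 1, 0, 1, 0, 1, 0, 1] := by
  simp only [nW_cons, nW_nil, mul_one, pow_succ, pow_zero, one_mul, mul_assoc]
  rfl

theorem sJ_pow_eight_mem : (sJ F 0 * sJ F 1) ^ 8 ∈ chevF4.borelSubgroup F := by
  rw [sJ_pow_eight]
  apply diagonal_le_borel chevF4 f4_mem F
  exact mem_diagonal_of_actsAs_id chevF4 f4_mem F _ (nW_mem_monomial F _) _ (actsAs_nW F _)
    (fun s hs => pow8_id s hs)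

theorem sJ_pow_four_not_mem : (sJ F 0 * sJ F 1) ^ 4 ∉ chevF4.borelSubgroup F := by
  rw [sJ_pow_four]
  intro h
  have hH : nW F [0, 1, 0, 1, 0, 1, 0, 1] ∈ chevF4.diagonalSubgroup F := by
    rw [← borel_inf_monomial chevF4 f4_mem F]
    exact Subgroup.mem_inf.mpr ⟨h, nW_mem_monomial F _⟩
  have h1 := actsAs_diag chevF4 f4_mem F _ hH
  have h2 := ActsAs.unique chevF4 f4_mem F (actsAs_nW F _) h1 33 (by decide)
  exact pow4_ne h2

/-- conjugating a nontrivial element of `X_J` by `n_J` leaves `B` -/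
theorem conj_sJ_inj (J : Fin 2) (x : GL chevF4.Idx F) (hxX : x ∈ XJ F J)
    (h : sJ F J * x * (sJ F J)⁻¹ ∈ chevF4.borelSubgroup F) : x = 1 := by
  have h5 : sJ F J * x * (sJ F J)⁻¹ ∈ chevF4.negUnipotent F := by
    have h1 := conj_closure_gensL chevF4 f4_mem F _ _ (actsAs_nJ (F := F) J) (clsJr J)
      (fun r hr => ((tab_w J).2 r hr).1) x (by rw [← XL_clsJr] at hxX; exact hxX)
    refine XL_le_neg _ ?_ h1
    intro r hr
    obtain ⟨s, hs, rfl⟩ := List.mem_map.mp hr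
    exact ((tab_w J).2 s hs).2
  have h6 : sJ F J * x * (sJ F J)⁻¹ ∈ chevF4.borelSubgroup F ⊓ chevF4.negUnipotent F :=
    Subgroup.mem_inf.mpr ⟨h, h5⟩
  rw [borel_inf_negUnipotent chevF4 f4_mem F, Subgroup.mem_bot] at h6
  have e : x = (sJ F J)⁻¹ * (sJ F J * x * (sJ F J)⁻¹) * sJ F J := by group
  rw [e, h6]; group

end

section
variable {F : Type*} [Field F] [Fintype F]
variable {τ : ↥(chevF4.group F) ≃* ↥(chevF4.group F)} {θ : ℕ} (hτ : TauData F τ θ)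
include hτ

/-- `|B¹ n_J B¹| = |B¹| |X_J¹|` -/
theorem card_cell_GL (J : Fin 2) :
    Nat.card {g : GL chevF4.Idx F // ∃ b ∈ chevF4.borelSubgroup F ⊓ fixTau F τ,
      ∃ b' ∈ chevF4.borelSubgroup F ⊓ fixTau F τ, g = b * sJ F J * b'} =
    Nat.card ↥(chevF4.borelSubgroup F ⊓ fixTau F τ) * Nat.card ↥(XJ F J ⊓ fixTau F τ) :=
  TwBN.card_cell _ _ _
    (inf_le_inf_right _ ((XJ_le_pos J).trans (posUnipotent_le_borel chevF4 f4_mem F)))
    ((closureData hτ).decomp J)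
    (fun x hx h => conj_sJ_inj J x (Subgroup.mem_inf.mp hx).1 (Subgroup.mem_inf.mp h).1)

/-- `|B¹| = |H¹| |U¹|` -/
theorem card_borel_fix : Nat.card ↥(chevF4.borelSubgroup F ⊓ fixTau F τ) =
    Nat.card ↥(chevF4.diagonalSubgroup F ⊓ fixTau F τ) *
      Nat.card ↥(chevF4.posUnipotent F ⊓ fixTau F τ) :=
  TwBN.card_of_factor _ _ _ (inf_le_inf_right _ (diagonal_le_borel chevF4 f4_mem F))
    (inf_le_inf_right _ (posUnipotent_le_borel chevF4 f4_mem F))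
    (by
      rw [eq_bot_iff]
      intro x hx
      have h1 := (Subgroup.mem_inf.mp (Subgroup.mem_inf.mp hx).1).1
      have h2 := (Subgroup.mem_inf.mp (Subgroup.mem_inf.mp hx).2).1
      have : x ∈ chevF4.posUnipotent F ⊓ chevF4.diagonalSubgroup F := Subgroup.mem_inf.mpr ⟨h2, h1⟩
      rwa [posUnipotent_inf_diagonalSubgroup chevF4 f4_mem F] at this)
    (fun b hb => fix_borel hτ b hb)

/-- `|B¹| = (q-1)² q¹²` -/
theorem card_borel_fix' : Nat.card ↥(chevF4.borelSubgroup F ⊓ fixTau F τ) =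
    Nat.card Fˣ ^ 2 * Nat.card F ^ 12 := by
  rw [card_borel_fix hτ, diag_inf_fixTau_eq hτ, card_diag_inf_twistedF4 hτ,
    card_posUnipotent_inf_fixTau hτ]

/-- the class representatives in `²F₄` -/
noncomputable def sEl (J : Fin 2) : ↥(twistedF4 F θ) :=
  ⟨sJ F J, nJ_mem_twistedF4 F hτ.two θ hτ.pos J⟩

theorem sEl_mem (J : Fin 2) : sEl hτ J ∈ (f4BNPair hτ).S := ⟨J, rfl⟩

theorem sEl_mem_N (J : Fin 2) : sEl hτ J ∈ (f4BNPair hτ).N := (f4BNPair hτ).subset (sEl_mem hτ J)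

theorem mem_B_iff (g : ↥(twistedF4 F θ)) :
    g ∈ (f4BNPair hτ).B ↔ (g : GL chevF4.Idx F) ∈ chevF4.borelSubgroup F := by
  show g ∈ (chevF4.borelSubgroup F ⊓ twistedF4 F θ).subgroupOf (twistedF4 F θ) ↔ _
  rw [Subgroup.mem_subgroupOf, Subgroup.mem_inf]
  exact ⟨fun h => h.1, fun h => ⟨h, g.2⟩⟩

theorem mem_N_iff' (g : ↥(twistedF4 F θ)) :
    g ∈ (f4BNPair hτ).N ↔ (g : GL chevF4.Idx F) ∈ chevF4.monomialSubgroup F := by
  show g ∈ (chevF4.monomialSubgroup F ⊓ twistedF4 F θ).subgroupOf (twistedF4 F θ) ↔ _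
  rw [Subgroup.mem_subgroupOf, Subgroup.mem_inf]
  exact ⟨fun h => h.1, fun h => ⟨h, g.2⟩⟩

/-- powers of the product of the two generators in the Weyl group -/
theorem sb_mul_pow_eq_one_iff (k : ℕ) :
    (sb (f4BNPair hτ) (sEl hτ 0) (sEl_mem hτ 0) * sb (f4BNPair hτ) (sEl hτ 1) (sEl_mem hτ 1)) ^ k = 1 ↔
      (sJ F 0 * sJ F 1) ^ k ∈ chevF4.borelSubgroup F := by
  have e : sb (f4BNPair hτ) (sEl hτ 0) (sEl_mem hτ 0) * sb (f4BNPair hτ) (sEl hτ 1) (sEl_mem hτ 1) =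
      mkW (f4BNPair hτ) (sEl hτ 0 * sEl hτ 1)
        ((f4BNPair hτ).N.mul_mem (sEl_mem_N hτ 0) (sEl_mem_N hτ 1)) := rfl
  have e2 : ∀ k : ℕ, (mkW (f4BNPair hτ) (sEl hτ 0 * sEl hτ 1)
        ((f4BNPair hτ).N.mul_mem (sEl_mem_N hτ 0) (sEl_mem_N hτ 1))) ^ k =
      mkW (f4BNPair hτ) ((sEl hτ 0 * sEl hτ 1) ^ k)
        ((f4BNPair hτ).N.pow_mem ((f4BNPair hτ).N.mul_mem (sEl_mem_N hτ 0) (sEl_mem_N hτ 1)) k) := by
    intro k
    rfl
  rw [e, e2, mkW_eq_one_iff, mem_B_iff]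
  rfl

theorem orderOf_sb_mul :
    orderOf (sb (f4BNPair hτ) (sEl hτ 0) (sEl_mem hτ 0) * sb (f4BNPair hτ) (sEl hτ 1) (sEl_mem hτ 1)) = 8 := by
  have : Fact (Nat.Prime 2) := ⟨Nat.prime_two⟩
  have h := orderOf_eq_prime_pow (p := 2) (n := 2)
    (x := sb (f4BNPair hτ) (sEl hτ 0) (sEl_mem hτ 0) * sb (f4BNPair hτ) (sEl hτ 1) (sEl_mem hτ 1))
    (by
      show ¬ _ ^ 4 = 1
      rw [sb_mul_pow_eq_one_iff]
      exact sJ_pow_four_not_mem)
    (by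
      show _ ^ 8 = 1
      rw [sb_mul_pow_eq_one_iff]
      exact sJ_pow_eight_mem)
  exact h

theorem Sbar_cases (x : W (f4BNPair hτ)) (hx : x ∈ Sbar (f4BNPair hτ)) :
    x = sb (f4BNPair hτ) (sEl hτ 0) (sEl_mem hτ 0) ∨ x = sb (f4BNPair hτ) (sEl hτ 1) (sEl_mem hτ 1) := by
  obtain ⟨s, hs, rfl⟩ := hx
  obtain ⟨J, hJ⟩ := hs
  have : s = sEl hτ J := Subtype.ext hJ
  subst this
  fin_cases J
  · left; rfl
  · right; rfl

/-- the Weyl group of `²F₄` is dihedral of order 16 -/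
theorem exists_weyl_equiv : ∃ e : DihedralGroup 8 ≃* W (f4BNPair hτ),
    e (.sr 0) = sb (f4BNPair hτ) (sEl hτ 0) (sEl_mem hτ 0) ∧
    e (.sr 1) = sb (f4BNPair hτ) (sEl hτ 1) (sEl_mem hτ 1) := by
  apply exists_dihedral_equiv 8 (by norm_num) _ _ (sb_sq _ _) (sb_sq _ _) (orderOf_sb_mul hτ)
  rw [eq_top_iff, ← Sbar_closure (f4BNPair hτ)]
  apply Subgroup.closure_mono
  intro x hx
  rcases Sbar_cases hτ x hx with rfl | rfl
  · simp
  · simp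

theorem card_B_eq' : Nat.card (f4BNPair hτ).B = Nat.card ↥(chevF4.borelSubgroup F ⊓ fixTau F τ) := by
  rw [fixTau_eq hτ]
  show Nat.card ↥((chevF4.borelSubgroup F ⊓ twistedF4 F θ).subgroupOf (twistedF4 F θ)) = _
  exact Nat.card_congr (Subgroup.subgroupOfEquivOfLe inf_le_right).toEquiv

/-- the cell of `s_J` in `²F₄` and in `GL` -/
theorem card_C_sb (J : Fin 2) :
    Nat.card (C (f4BNPair hτ) (sb (f4BNPair hτ) (sEl hτ J) (sEl_mem hτ J))) =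
      Nat.card {g : GL chevF4.Idx F // ∃ b ∈ chevF4.borelSubgroup F ⊓ fixTau F τ,
        ∃ b' ∈ chevF4.borelSubgroup F ⊓ fixTau F τ, g = b * sJ F J * b'} := by
  unfold sb
  rw [C_mk]
  apply Nat.card_congr
  have hB : ∀ b : ↥(twistedF4 F θ), b ∈ (f4BNPair hτ).B ↔
      (b : GL chevF4.Idx F) ∈ chevF4.borelSubgroup F ⊓ fixTau F τ := by
    intro b
    rw [mem_B_iff, fixTau_eq hτ, Subgroup.mem_inf]
    exact ⟨fun h => ⟨h, b.2⟩, fun h => h.1⟩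
  refine Equiv.ofBijective (fun g => ⟨((g : ↥(twistedF4 F θ)) : GL chevF4.Idx F), ?_⟩) ⟨?_, ?_⟩
  · obtain ⟨b, hb, b', hb', he⟩ := (mem_dc (f4BNPair hτ)).mp g.2
    refine ⟨b, (hB b).mp hb, b', (hB b').mp hb', ?_⟩
    rw [he]
    rfl
  · intro g g' h
    have h0 := Subtype.ext_iff.mp h
    exact Subtype.ext (Subtype.ext h0)
  · rintro ⟨g, b, hb, b', hb', rfl⟩
    have hbG : b ∈ twistedF4 F θ := by rw [← fixTau_eq hτ]; exact (Subgroup.mem_inf.mp hb).2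
    have hbG' : b' ∈ twistedF4 F θ := by rw [← fixTau_eq hτ]; exact (Subgroup.mem_inf.mp hb').2
    refine ⟨⟨⟨b, hbG⟩ * sEl hτ J * ⟨b', hbG'⟩, ?_⟩, rfl⟩
    exact (mem_dc (f4BNPair hτ)).mpr ⟨_, (hB _).mpr hb, _, (hB _).mpr hb', rfl⟩

/-- the order of `²F₄(q)` in terms of `|B¹|` -/
theorem card_twistedF4_aux : Nat.card ↥(twistedF4 F θ) =
    Nat.card Fˣ ^ 2 * Nat.card F ^ 12 * ((1 + Nat.card F) * (1 + Nat.card F ^ 2) *
      (1 + Nat.card F * Nat.card F ^ 2 + Nat.card F ^ 2 * (Nat.card F ^ 2) ^ 2 +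
        Nat.card F ^ 3 * (Nat.card F ^ 2) ^ 3)) := by
  obtain ⟨e, hes, het⟩ := exists_weyl_equiv hτ
  have hB := card_B_eq' hτ
  have ha : Nat.card (C (f4BNPair hτ) (sb (f4BNPair hτ) (sEl hτ 0) (sEl_mem hτ 0))) =
      Nat.card F * Nat.card (f4BNPair hτ).B := by
    rw [card_C_sb hτ 0, card_cell_GL hτ 0, hB, mul_comm]
    congr 1
    exact card_XJ_zero_inf_fixTau hτ
  have hb : Nat.card (C (f4BNPair hτ) (sb (f4BNPair hτ) (sEl hτ 1) (sEl_mem hτ 1))) =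
      Nat.card F ^ 2 * Nat.card (f4BNPair hτ).B := by
    rw [card_C_sb hτ 1, card_cell_GL hτ 1, hB, mul_comm]
    congr 1
    exact card_XJ_one_inf_fixTau hτ
  have hfin := card_of_dihedral8 (f4BNPair hτ) e _ _ (sEl_mem hτ 0) (sEl_mem hτ 1) hes het
    (Sbar_cases hτ) (Nat.card F) (Nat.card F ^ 2) ha hb
  rw [hfin, hB, card_borel_fix' hτ]

/-- `N¹/H¹` is dihedral of order 16 -/
theorem exists_weyl_hom :
    ∃ φ : ↥(chevF4.monomialSubgroup F ⊓ twistedF4 F θ) →* DihedralGroup 8, Function.Surjective φ ∧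
      φ.ker = (chevF4.diagonalSubgroup F ⊓ twistedF4 F θ).subgroupOf
        (chevF4.monomialSubgroup F ⊓ twistedF4 F θ) := by
  obtain ⟨e, -, -⟩ := exists_weyl_equiv hτ
  let ψ : ↥(chevF4.monomialSubgroup F ⊓ twistedF4 F θ) →* ↥(f4BNPair hτ).N :=
    { toFun := fun n => ⟨⟨n.1, (Subgroup.mem_inf.mp n.2).2⟩,
        (mem_N_iff' hτ _).mpr (Subgroup.mem_inf.mp n.2).1⟩
      map_one' := rfl
      map_mul' := fun _ _ => rfl }
  have hψ : Function.Surjective ψ := by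
    intro y
    refine ⟨⟨y.1.1, Subgroup.mem_inf.mpr ⟨(mem_N_iff' hτ _).mp y.2, y.1.2⟩⟩, ?_⟩
    exact Subtype.ext (Subtype.ext rfl)
  refine ⟨e.symm.toMonoidHom.comp ((QuotientGroup.mk' _).comp ψ), ?_, ?_⟩
  · exact e.symm.surjective.comp ((QuotientGroup.mk'_surjective _).comp hψ)
  · ext n
    rw [MonoidHom.mem_ker, Subgroup.mem_subgroupOf]
    show e.symm (QuotientGroup.mk' _ (ψ n)) = 1 ↔ _
    rw [map_eq_one_iff e.symm e.symm.injective, QuotientGroup.mk'_apply, QuotientGroup.eq_one_iff,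
      Subgroup.mem_subgroupOf, Subgroup.mem_inf, mem_B_iff, mem_N_iff']
    show (n : GL chevF4.Idx F) ∈ chevF4.borelSubgroup F ∧ (n : GL chevF4.Idx F) ∈ chevF4.monomialSubgroup F ↔ _
    rw [← Subgroup.mem_inf, borel_inf_monomial chevF4 f4_mem F, Subgroup.mem_inf]
    exact ⟨fun h => ⟨h, (Subgroup.mem_inf.mp n.2).2⟩, fun h => h.1⟩

end

end Cfsg.Agent.Lib.Helper7.F4O
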