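import Cfsg.Agent.Lib.Helper7.ChevOrder0

/-! `U` is a Sylow `p`-subgroup of a finite Chevalley group (helper7). -/

set_option autoImplicit false

namespace Cfsg.Agent.Lib.Helper7

open Cfsg Cfsg.Lie Matrix
open Cfsg.Agent.Lib.Helper3.BN Cfsg.Agent.Lib.Helper3.WordLen
open scoped Pointwise

section
variable (D : ChevalleyDatum) (hD : D ∈ [chevG2, chevB2, chevD4, chevF4, chevE6, chevE7, chevE8])
variable (F : Type*) [Field F]

theorem diagChar_pow (χ : ℕ → F) (n : ℕ) : diagChar D F χ ^ n = diagChar D F (fun s => χ s ^ n) := by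
  unfold diagChar
  rw [Matrix.diagonal_pow]
  congr 1
  funext i
  rcases i with i | u
  · simp
  · simp

include hD

/-- every element of `H` has order dividing `q - 1` -/
theorem diagonal_pow_card_sub_one [Fintype F] (g : GL D.Idx F) (hg : g ∈ D.diagonalSubgroup F) :
    g ^ (Fintype.card F - 1) = 1 := by
  obtain ⟨χ, hχ, hgm⟩ := mem_diagonalSubgroup_char D hD F g hg
  apply Units.ext
  rw [Units.val_pow_eq_pow_val, hgm, diagChar_pow, Units.val_one, ← diagChar_one D F]
  unfold diagChar
  congr 1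
  funext i
  rcases i with i | u
  · rfl
  · simp only [Sum.elim_inr]
    exact FiniteField.pow_card_sub_one_eq_one _ (hχ.ne0 u.val u.isLt)

/-- `p ∤ |H|` -/
theorem not_dvd_card_diagonal [Fintype F] (p : ℕ) [Fact p.Prime] [CharP F p] :
    ¬ p ∣ Nat.card (D.diagonalSubgroup F) := by
  intro hdvd
  have : Finite (GL D.Idx F) := by
    have : Finite (Matrix D.Idx D.Idx F) := inferInstance
    exact Finite.of_injective (fun g : GL D.Idx F => (g : Matrix D.Idx D.Idx F)) Units.val_injective
  obtain ⟨h, hh⟩ := exists_prime_orderOf_dvd_card' (G := D.diagonalSubgroup F) p hdvd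
  have h1 : (h : GL D.Idx F) ^ (Fintype.card F - 1) = 1 :=
    diagonal_pow_card_sub_one D hD F h h.2
  have h2 : h ^ (Fintype.card F - 1) = 1 := Subtype.ext h1
  have h3 : p ∣ Fintype.card F - 1 := by
    rw [← hh]; exact orderOf_dvd_of_pow_eq_one h2
  obtain ⟨n, hp, hq⟩ := FiniteField.card F p
  have h4 : p ∣ Fintype.card F := by
    rw [hq]; exact dvd_pow_self p n.ne_zero
  have h5 : 1 ≤ Fintype.card F := Fintype.card_pos
  have h6 : p ∣ 1 := by
    have := (Nat.dvd_sub h4 h3)
    rwa [Nat.sub_sub_self h5] at this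
  exact (Fact.out : p.Prime).one_lt.ne' (Nat.dvd_one.mp h6)

/-- `Σ_w q^{ℓ(w)} ≡ 1 (mod p)` -/
theorem sum_pow_len_mod [Fintype F] [Fintype (W (chevBNPair D hD F))] (p : ℕ) [Fact p.Prime] [CharP F p] :
    (∑ w : W (chevBNPair D hD F), Fintype.card F ^ len (Sbar (chevBNPair D hD F)) w) % p = 1 % p := by
  classical
  have hS := Sbar_sq (chevBNPair D hD F)
  have hgen := Sbar_closure (chevBNPair D hD F)
  obtain ⟨n, hp, hq⟩ := FiniteField.card F p
  have h4 : p ∣ Fintype.card F := by
    rw [hq]; exact dvd_pow_self p n.ne_zero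
  rw [← Finset.add_sum_erase _ _ (Finset.mem_univ (1 : W (chevBNPair D hD F))), len_one, pow_zero]
  have : p ∣ ∑ w ∈ Finset.univ.erase (1 : W (chevBNPair D hD F)),
      Fintype.card F ^ len (Sbar (chevBNPair D hD F)) w := by
    apply Finset.dvd_sum
    intro w hw
    have hw1 : w ≠ 1 := (Finset.mem_erase.mp hw).1
    have hl : len (Sbar (chevBNPair D hD F)) w ≠ 0 := by
      rw [Ne, len_eq_zero_iff hS hgen]; exact hw1
    exact dvd_trans h4 (dvd_pow_self _ hl)
  obtain ⟨k, hk⟩ := this
  rw [hk, Nat.add_mul_mod_self_left]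

/-- `U` is a Sylow `p`-subgroup of `G` -/
theorem posUnipotent_sylow [Fintype F] (p : ℕ) [Fact p.Prime] [CharP F p] :
    ∃ P : Sylow p ↥(D.group F), (P : Subgroup ↥(D.group F)) = (D.posUnipotent F).subgroupOf (D.group F) := by
  classical
  have hfin : Finite (GL D.Idx F) := by
    have : Finite (Matrix D.Idx D.Idx F) := inferInstance
    exact Finite.of_injective (fun g : GL D.Idx F => (g : Matrix D.Idx D.Idx F)) Units.val_injective
  have : Finite (W (chevBNPair D hD F)) := by
    unfold W
    infer_instance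
  have : Fintype (W (chevBNPair D hD F)) := Fintype.ofFinite _
  have hUG : D.posUnipotent F ≤ D.group F := le_trans (posUnipotent_le_borel D hD F) (borel_le_group D hD F)
  obtain ⟨n, hp, hq⟩ := FiniteField.card F p
  have hcardU : Nat.card ((D.posUnipotent F).subgroupOf (D.group F)) = Fintype.card F ^ (D.nroots / 2) := by
    rw [Nat.card_congr (Subgroup.subgroupOfEquivOfLe hUG).toEquiv, card_posUnipotent D hD F]
  have hPG : IsPGroup p ((D.posUnipotent F).subgroupOf (D.group F)) := by
    apply IsPGroup.of_card (n := n * (D.nroots / 2))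
    rw [hcardU, hq, pow_mul]
  have hidx : ¬ p ∣ ((D.posUnipotent F).subgroupOf (D.group F)).index := by
    intro hdvd
    have hmul := Subgroup.card_mul_index ((D.posUnipotent F).subgroupOf (D.group F))
    rw [hcardU, card_group_eq D hD F, mul_assoc] at hmul
    have hqpos : 0 < Fintype.card F ^ (D.nroots / 2) := pow_pos Fintype.card_pos _
    have hidx' := Nat.eq_of_mul_eq_mul_left hqpos hmul
    rw [hidx'] at hdvd
    rcases (Nat.Prime.dvd_mul hp).mp hdvd with h | h
    · exact not_dvd_card_diagonal D hD F p h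
    · have h1 := sum_pow_len_mod D hD F p
      rw [Nat.mod_eq_zero_of_dvd h] at h1
      have : 1 % p = 1 := Nat.mod_eq_of_lt hp.one_lt
      omega
  exact ⟨hPG.toSylow hidx, rfl⟩

end

end Cfsg.Agent.Lib.Helper7
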