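import Cfsg.Agent.Lib.Helper7.ChevComm3

/-! commutator formula: table checks (helper7) -/

set_option autoImplicit false
namespace Cfsg.Agent.Lib.Helper7
open Cfsg Cfsg.Lie

def commDomsE6 : List (ℕ × List ℕ) := [(71, [25, 60, 70])]

theorem short_E6 : shortB chevE6 = true := by decide +kernel
theorem climb_E6 : climbB chevE6 = true := by decide +kernel
theorem domCover_E6 : domCoverB chevE6 commDomsE6 = true := by decide +kernel
theorem stabAll_E6 : stabAllB chevE6 commDomsE6 = true := by decide +kernel
theorem baseAll_E6 : baseAllB chevE6 commDomsE6 = true := by decide +kernel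

theorem commData_E6 : CommData chevE6 :=
  commData_mk _ _ short_E6 climb_E6 domCover_E6 stabAll_E6 baseAll_E6

end Cfsg.Agent.Lib.Helper7
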