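import Cfsg.Agent.Lib.Helper7.ChevComm3

/-! commutator formula: table checks (helper7) -/

set_option autoImplicit false
namespace Cfsg.Agent.Lib.Helper7
open Cfsg Cfsg.Lie

def commDomsE7 : List (ℕ × List ℕ) := [(125, [32, 92, 124])]

theorem short_E7 : shortB chevE7 = true := by decide +kernel
theorem climb_E7 : climbB chevE7 = true := by decide +kernel
theorem domCover_E7 : domCoverB chevE7 commDomsE7 = true := by decide +kernel
theorem stabAll_E7 : stabAllB chevE7 commDomsE7 = true := by decide +kernel
theorem baseAll_E7 : baseAllB chevE7 commDomsE7 = true := by decide +kernel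

theorem commData_E7 : CommData chevE7 :=
  commData_mk _ _ short_E7 climb_E7 domCover_E7 stabAll_E7 baseAll_E7

end Cfsg.Agent.Lib.Helper7
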