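import Cfsg.Agent.Lib.Helper7.ChevCommTabE8x0

/-! commutator formula: table checks (helper7) -/

set_option autoImplicit false
namespace Cfsg.Agent.Lib.Helper7
open Cfsg Cfsg.Lie

theorem baseAll_E8 : baseAllB chevE8 commDomsE8 = true := by decide +kernel

theorem commData_E8 : CommData chevE8 :=
  commData_mk _ _ short_E8 climb_E8 domCover_E8 stabAll_E8 baseAll_E8

end Cfsg.Agent.Lib.Helper7
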