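import Cfsg.Agent.Lib.Helper7.ChevComm3

/-! commutator formula: table checks (helper7) -/

set_option autoImplicit false
namespace Cfsg.Agent.Lib.Helper7
open Cfsg Cfsg.Lie

def commDomsF4 : List (ℕ × List ℕ) := [(44, [6, 14, 29, 32, 40, 47]), (47, [18, 23, 37, 41, 44, 46])]

theorem short_F4 : shortB chevF4 = true := by decide +kernel
theorem climb_F4 : climbB chevF4 = true := by decide +kernel
theorem domCover_F4 : domCoverB chevF4 commDomsF4 = true := by decide +kernel
theorem stabAll_F4 : stabAllB chevF4 commDomsF4 = true := by decide +kernel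
theorem baseAll_F4 : baseAllB chevF4 commDomsF4 = true := by decide +kernel

theorem commData_F4 : CommData chevF4 :=
  commData_mk _ _ short_F4 climb_F4 domCover_F4 stabAll_F4 baseAll_F4

end Cfsg.Agent.Lib.Helper7
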