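import Cfsg.Agent.Lib.Helper7.ChevCommTabA
import Cfsg.Agent.Lib.Helper7.ChevCommTabF4
import Cfsg.Agent.Lib.Helper7.ChevCommTabE6
import Cfsg.Agent.Lib.Helper7.ChevCommTabE7
import Cfsg.Agent.Lib.Helper7.ChevCommTabE8x1

/-! Chevalley's commutator formula for the seven tabulated data (helper7). -/

set_option autoImplicit false
namespace Cfsg.Agent.Lib.Helper7
open Cfsg Cfsg.Lie

universe u

/-- Chevalley's commutator formula `x_s(u) x_r(t) = x_r(t) x_s(u) ∏ x_{ir+js}(C_{ij} (-t)^i u^j)` -/
theorem comm_formula_of_mem (D : ChevalleyDatum)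
    (hD : D ∈ [chevG2, chevB2, chevD4, chevF4, chevE6, chevE7, chevE8]) (r s : ℕ) (hr : r < D.nroots)
    (hs : s < D.nroots) (hsr : s ≠ r) (hsn : s ≠ D.neg r) : CommOK.{u} D r s := by
  have hD' := hD
  simp only [List.mem_cons, List.not_mem_nil, or_false] at hD'
  rcases hD' with rfl | rfl | rfl | rfl | rfl | rfl | rfl
  · exact commOK_of_commAllB _ commAllB_G2 r s hr hs hsr hsn
  · exact commOK_of_commData _ hD commData_B2 r s hr hs hsr hsn
  · exact commOK_of_commData _ hD commData_D4 r s hr hs hsr hsn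
  · exact commOK_of_commData _ hD commData_F4 r s hr hs hsr hsn
  · exact commOK_of_commData _ hD commData_E6 r s hr hs hsr hsn
  · exact commOK_of_commData _ hD commData_E7 r s hr hs hsr hsn
  · exact commOK_of_commData _ hD commData_E8 r s hr hs hsr hsn

end Cfsg.Agent.Lib.Helper7
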