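import Cfsg.Agent.Lib.Helper7.ChevUpTab
import Cfsg.Agent.Lib.Helper7.ChevCommMain

/-! For a fundamental root `p`: `U_p = ⟨X_s : s > 0, s ≠ p⟩` is normalised by `X_p` and `X_{-p}`, and
`U = U_p X_p` (helper7). -/

set_option autoImplicit false

namespace Cfsg.Agent.Lib.Helper7

open Cfsg Cfsg.Lie Matrix

theorem conj_mem_closure {G : Type*} [Group G] (S : Set G) (g : G)
    (h : ∀ x ∈ S, g * x * g⁻¹ ∈ Subgroup.closure S) :
    ∀ u ∈ Subgroup.closure S, g * u * g⁻¹ ∈ Subgroup.closure S := by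
  intro u hu
  induction hu using Subgroup.closure_induction with
  | mem x hx => exact h x hx
  | one => simpa using Subgroup.one_mem _
  | mul a b _ _ iha ihb =>
    have : g * (a * b) * g⁻¹ = (g * a * g⁻¹) * (g * b * g⁻¹) := by group
    rw [this]
    exact Subgroup.mul_mem _ iha ihb
  | inv a _ iha =>
    have : g * a⁻¹ * g⁻¹ = (g * a * g⁻¹)⁻¹ := by group
    rw [this]
    exact Subgroup.inv_mem _ iha

theorem mem_normalizer_closure {G : Type*} [Group G] (S : Set G) (g : G)
    (h1 : ∀ x ∈ S, g * x * g⁻¹ ∈ Subgroup.closure S)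
    (h2 : ∀ x ∈ S, g⁻¹ * x * g⁻¹⁻¹ ∈ Subgroup.closure S) :
    g ∈ Subgroup.normalizer (Subgroup.closure S : Set G) := by
  rw [Subgroup.mem_set_normalizer_iff]
  intro u
  constructor
  · exact conj_mem_closure S g h1 u
  · intro hu
    have := conj_mem_closure S g⁻¹ h2 _ hu
    have e : g⁻¹ * (g * u * g⁻¹) * g⁻¹⁻¹ = u := by group
    rwa [e] at this

section
variable (D : ChevalleyDatum) (hD : D ∈ [chevG2, chevB2, chevD4, chevF4, chevE6, chevE7, chevE8])
variable (F : Type*) [Field F]
include hD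

/-- the subgroup `U_p` for the `i`-th fundamental root `p` -/
def upSubgroup (i : ℕ) : Subgroup (GL D.Idx F) :=
  Subgroup.closure {g : GL D.Idx F | ∃ (s : ℕ) (t : F), D.IsPosRoot s ∧ s ≠ D.simple i ∧
    (g : Matrix D.Idx D.Idx F) = D.x F s t}

/-- the commutator formula in GL -/
theorem comm_formula_GL (r s : ℕ) (hr : r < D.nroots) (hs : s < D.nroots) (hsr : s ≠ r) (hsn : s ≠ D.neg r)
    (t u : F) :
    xGL D hD F s u * xGL D hD F r t =
      xGL D hD F r t * xGL D hD F s u * wordGL D hD F (D.commWord F r s t u) := by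
  apply Units.ext
  rw [Units.val_mul, Units.val_mul, Units.val_mul, coe_xGL, coe_xGL, coe_wordGL]
  exact comm_formula_of_mem D hD r s hr hs hsr hsn F t u

/-- `x_q(u) x_s(t) x_q(u)⁻¹ = x_s(t) ∏ x_{iq+js}(C (u)^i t^j)` -/
theorem xGL_conj_xGL (q s : ℕ) (hq : q < D.nroots) (hs : s < D.nroots) (hsq : s ≠ q) (hsn : s ≠ D.neg q)
    (u t : F) :
    xGL D hD F q u * xGL D hD F s t * (xGL D hD F q u)⁻¹ =
      xGL D hD F s t * wordGL D hD F (D.commWord F q s (-u) t) := by
  have h := comm_formula_GL D hD F q s hq hs hsq hsn (-u) t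
  rw [xGL_inv, mul_assoc, h, ← mul_assoc, ← mul_assoc, xGL_mul, add_neg_cancel, xGL_zero, one_mul]

theorem commWord_mem_up (i : ℕ) (q s : ℕ)
    (hc : ∀ c ∈ D.commTerms q s, D.IsPosRoot c.1 ∧ c.1 ≠ D.simple i) (u t : F) :
    wordGL D hD F (D.commWord F q s u t) ∈ upSubgroup D F i := by
  unfold wordGL
  apply Subgroup.list_prod_mem
  intro g hg
  rw [List.mem_map] at hg
  obtain ⟨p, hp, rfl⟩ := hg
  unfold ChevalleyDatum.commWord at hp
  rw [List.mem_map] at hp
  obtain ⟨c, hc', rfl⟩ := hp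
  apply Subgroup.subset_closure
  exact ⟨c.1, _, (hc c hc').1, (hc c hc').2, coe_xGL D hD F _ _⟩

/-- `X_q` normalises `U_p` for `q = ±p` -/
theorem xGL_mem_normalizer_up (i : ℕ) (hi : i < D.rank) (q : ℕ) (hq : q = D.simple i ∨ q = D.neg (D.simple i))
    (u : F) : xGL D hD F q u ∈ Subgroup.normalizer (upSubgroup D F i : Set (GL D.Idx F)) := by
  have hF := fundFacts_of_mem D hD i hi
  have hU := upFacts_of_mem D hD i hi
  have hqlt : q < D.nroots := by rcases hq with rfl | rfl; exact hF.hp; exact hF.hpb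
  have key : ∀ (u : F), ∀ x ∈ {g : GL D.Idx F | ∃ (s : ℕ) (t : F), D.IsPosRoot s ∧ s ≠ D.simple i ∧
      (g : Matrix D.Idx D.Idx F) = D.x F s t},
      xGL D hD F q u * x * (xGL D hD F q u)⁻¹ ∈ upSubgroup D F i := by
    intro u x hx
    obtain ⟨s, t, hs, hne, hxm⟩ := hx
    have hx' : x = xGL D hD F s t := Units.ext (by rw [hxm, coe_xGL])
    have hnn : ¬ D.IsNegRoot s := hU.notNeg s hs hne
    have hnegp : D.IsNegRoot (D.neg (D.simple i)) := hU.negSimple
    have hsq : s ≠ q := by
      rcases hq with rfl | rfl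
      · exact hne
      · intro h; rw [h] at hnn; exact hnn hnegp
    have hsn : s ≠ D.neg q := by
      rcases hq with rfl | rfl
      · intro h; rw [h] at hnn; exact hnn hnegp
      · rw [show D.neg (D.neg (D.simple i)) = D.simple i from (negInvOK_of_mem D hD _ hF.hp).1]
        exact hne
    rw [hx', xGL_conj_xGL D hD F q s hqlt hs.1 hsq hsn u t]
    apply Subgroup.mul_mem
    · apply Subgroup.subset_closure
      exact ⟨s, t, hs, hne, coe_xGL D hD F s t⟩
    · apply commWord_mem_up D hD F i q s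
      rcases hq with rfl | rfl
      · exact hU.pos s hs hne
      · exact hU.neg s hs hne
  apply mem_normalizer_closure
  · exact key u
  · intro x hx
    have := key (-u) x hx
    rwa [← xGL_inv] at this

theorem rootSubgroup_le_normalizer_up (i : ℕ) (hi : i < D.rank) :
    D.rootSubgroup F (D.simple i) ⊔ D.rootSubgroup F (D.neg (D.simple i)) ≤
      Subgroup.normalizer (upSubgroup D F i : Set (GL D.Idx F)) := by
  apply sup_le
  · unfold ChevalleyDatum.rootSubgroup
    rw [Subgroup.closure_le]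
    rintro g ⟨t, hg⟩
    have : g = xGL D hD F (D.simple i) t := Units.ext (by rw [hg, coe_xGL])
    rw [this]
    exact xGL_mem_normalizer_up D hD F i hi _ (Or.inl rfl) t
  · unfold ChevalleyDatum.rootSubgroup
    rw [Subgroup.closure_le]
    rintro g ⟨t, hg⟩
    have : g = xGL D hD F (D.neg (D.simple i)) t := Units.ext (by rw [hg, coe_xGL])
    rw [this]
    exact xGL_mem_normalizer_up D hD F i hi _ (Or.inr rfl) t

theorem up_sup_rootSubgroup (i : ℕ) (hi : i < D.rank) :
    upSubgroup D F i ⊔ D.rootSubgroup F (D.simple i) = D.posUnipotent F := by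
  have hpos := (parFacts_of_mem D hD).simplePos i hi
  apply le_antisymm
  · apply sup_le
    · unfold upSubgroup ChevalleyDatum.posUnipotent
      apply Subgroup.closure_mono
      rintro g ⟨s, t, hs, _, hg⟩
      exact ⟨s, t, hs, hg⟩
    · unfold ChevalleyDatum.rootSubgroup ChevalleyDatum.posUnipotent
      apply Subgroup.closure_mono
      rintro g ⟨t, hg⟩
      exact ⟨_, t, hpos, hg⟩
  · unfold ChevalleyDatum.posUnipotent
    rw [Subgroup.closure_le]
    rintro g ⟨s, t, hs, hg⟩
    by_cases h : s = D.simple i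
    · apply Subgroup.mem_sup_right
      apply Subgroup.subset_closure
      exact ⟨t, by rw [hg, h]⟩
    · apply Subgroup.mem_sup_left
      apply Subgroup.subset_closure
      exact ⟨s, t, hs, h, hg⟩

end

end Cfsg.Agent.Lib.Helper7
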