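import Cfsg.Agent.Lib.Helper7.ChevBasic

set_option autoImplicit false

namespace Cfsg.Agent.Lib.Helper7

open Cfsg Cfsg.Lie

theorem xMat_map (D : ChevalleyDatum) {F : Type*} [Field F] (f : F →+* F) (r : Fin D.nroots) (t : F) :
    (D.xMat F r t).map f = D.xMat F r (f t) := by
  ext row col
  unfold ChevalleyDatum.xMat
  simp only [Matrix.map_apply, Matrix.of_apply]
  rcases col with i | s
  · rcases row with i' | u
    · simp only; split_ifs <;> simp
    · simp only; split_ifs <;> simp
  · by_cases hsr : s = r
    · rcases row with i' | u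
      · simp [hsr]
      · simp only [hsr, if_true]; split_ifs <;> simp
    · by_cases hneg : s.val = D.negIdx.getD r.val 0
      · rcases row with i' | u
        · simp [hsr, hneg]
        · simp only [hsr, if_false, hneg, if_true]; split_ifs <;> simp
      · rcases row with i' | u
        · simp only [hsr, if_false, hneg]; simp
        · simp only [hsr, if_false, hneg]
          rw [map_add, map_list_sum, List.map_map]
          congr 1
          · split_ifs <;> simp
          · congr 1
            apply List.map_congr_left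
            intro km _
            simp

theorem x_map (D : ChevalleyDatum) {F : Type*} [Field F] (f : F →+* F) (r : ℕ) (t : F) :
    (D.x F r t).map f = D.x F r (f t) := by
  unfold ChevalleyDatum.x
  split_ifs with h
  · exact xMat_map D f ⟨r, h⟩ t
  · ext i j; simp [Matrix.one_apply]

/-- the entrywise action of a field automorphism on `GL` -/
noncomputable def glMapEquiv (n : Type*) [Fintype n] [DecidableEq n] {F : Type*} [Field F] (f : F ≃+* F) :
    GL n F ≃* GL n F :=
  Units.mapEquiv (RingEquiv.mapMatrix f).toMulEquiv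

theorem glMapEquiv_val (n : Type*) [Fintype n] [DecidableEq n] {F : Type*} [Field F] (f : F ≃+* F)
    (g : GL n F) : ((glMapEquiv n f g : GL n F) : Matrix n n F) = (g : Matrix n n F).map f := rfl

theorem glMapEquiv_symm_val (n : Type*) [Fintype n] [DecidableEq n] {F : Type*} [Field F] (f : F ≃+* F)
    (g : GL n F) : (((glMapEquiv n f).symm g : GL n F) : Matrix n n F) = (g : Matrix n n F).map f.symm := rfl

theorem group_map_glMapEquiv (D : ChevalleyDatum) {F : Type*} [Field F] (f : F ≃+* F) :
    (D.group F).map (glMapEquiv D.Idx f).toMonoidHom = D.group F := by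
  unfold ChevalleyDatum.group
  rw [MonoidHom.map_closure]
  congr 1
  ext g
  simp only [Set.mem_image, Set.mem_ofPred_eq]
  constructor
  · rintro ⟨g', ⟨r, t, hg'⟩, rfl⟩
    refine ⟨r, f t, ?_⟩
    show ((glMapEquiv D.Idx f g' : GL D.Idx F) : Matrix D.Idx D.Idx F) = _
    rw [glMapEquiv_val, hg']
    exact xMat_map D (f : F →+* F) r t
  · rintro ⟨r, t, hg⟩
    refine ⟨(glMapEquiv D.Idx f).symm g, ⟨r, f.symm t, ?_⟩, ?_⟩
    · rw [glMapEquiv_symm_val, hg]
      exact xMat_map D (f.symm : F →+* F) r t
    · show glMapEquiv D.Idx f ((glMapEquiv D.Idx f).symm g) = g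
      simp

theorem field_aut (D : ChevalleyDatum) {F : Type*} [Field F] (f : F ≃+* F) :
    ∃ α : ↥(D.group F) ≃* ↥(D.group F), ∀ (g : ↥(D.group F)) (r : ℕ) (t : F), r < D.nroots →
      ((g : GL D.Idx F) : Matrix D.Idx D.Idx F) = D.x F r t →
        ((α g : GL D.Idx F) : Matrix D.Idx D.Idx F) = D.x F r (f t) := by
  refine ⟨((glMapEquiv D.Idx f).subgroupMap (D.group F)).trans
    (MulEquiv.subgroupCongr (group_map_glMapEquiv D f)), ?_⟩
  intro g r t _ hg
  show ((glMapEquiv D.Idx f (g : GL D.Idx F) : GL D.Idx F) : Matrix D.Idx D.Idx F) = _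
  rw [glMapEquiv_val, hg]
  exact x_map D (f : F →+* F) r t

end Cfsg.Agent.Lib.Helper7
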