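import Cfsg.Agent.Lib.Helper7.ChevH
import Cfsg.Agent.Lib.Helper7.ChevWordGL

set_option autoImplicit false

namespace Cfsg.Agent.Lib.Helper7

open Cfsg Cfsg.Lie Matrix

section
variable (D : ChevalleyDatum) (hD : D ∈ [chevG2, chevB2, chevD4, chevF4, chevE6, chevE7, chevE8])
variable (F : Type*) [Field F]
include hD

/-- GL version of `diag(χ) x_s(t) = x_s(χ(s) t) diag(χ)` -/
theorem diagGL_xGL_comm (h : GL D.Idx F) (χ : ℕ → F) (hχ : ChainChar D F χ)
    (hh : (h : Matrix D.Idx D.Idx F) = diagChar D F χ) (s : ℕ) (t : F) :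
    h * xGL D hD F s t = xGL D hD F s (χ s * t) * h := by
  apply Units.ext
  rw [Units.val_mul, Units.val_mul, coe_xGL, coe_xGL, hh]
  exact diagChar_x_comm D F χ hχ s t

/-- `h n_r = n_r(χ(r)) h` -/
theorem diagGL_nGL_comm (h : GL D.Idx F) (χ : ℕ → F) (hχ : ChainChar D F χ)
    (hh : (h : Matrix D.Idx D.Idx F) = diagChar D F χ) (r : ℕ) (hr : r < D.nroots) :
    h * wordGL D hD F (D.nWord r 1) = wordGL D hD F (D.nWord r (χ r)) * h := by
  have hnr : D.neg r < D.nroots := (negOK_of_mem D hD r hr).1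
  rw [nGL_eq, nGL_eq]
  have e1 : χ (D.neg r) * -(1 : F)⁻¹ = -(χ r)⁻¹ := by
    rw [hχ.negC r hr hnr]; simp
  calc h * (xGL D hD F r 1 * xGL D hD F (D.neg r) (-(1 : F)⁻¹) * xGL D hD F r 1)
      = (h * xGL D hD F r 1) * xGL D hD F (D.neg r) (-(1 : F)⁻¹) * xGL D hD F r 1 := by group
    _ = xGL D hD F r (χ r * 1) * (h * xGL D hD F (D.neg r) (-(1 : F)⁻¹)) * xGL D hD F r 1 := by
        rw [diagGL_xGL_comm D hD F h χ hχ hh]; group
    _ = xGL D hD F r (χ r * 1) * xGL D hD F (D.neg r) (χ (D.neg r) * -(1 : F)⁻¹) * (h * xGL D hD F r 1) := by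
        rw [diagGL_xGL_comm D hD F h χ hχ hh]; group
    _ = xGL D hD F r (χ r) * xGL D hD F (D.neg r) (-(χ r)⁻¹) * xGL D hD F r (χ r) * h := by
        rw [diagGL_xGL_comm D hD F h χ hχ hh, e1, mul_one]; group

theorem hGL_mem_diagonalSubgroup (r : ℕ) (hr : r < D.nroots) (c : F) (hc : c ≠ 0) :
    wordGL D hD F (D.hWord r c) ∈ D.diagonalSubgroup F := by
  apply Subgroup.subset_closure
  exact ⟨r, c, hr, hc, by rw [coe_wordGL]; rfl⟩

/-- `n_r H n_r⁻¹ ⊆ H` -/
theorem nGL_conj_mem (r : ℕ) (hr : r < D.nroots) (h : GL D.Idx F) (hh : h ∈ D.diagonalSubgroup F) :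
    wordGL D hD F (D.nWord r 1) * h * (wordGL D hD F (D.nWord r 1))⁻¹ ∈ D.diagonalSubgroup F := by
  obtain ⟨χ, hχ, hhm⟩ := mem_diagonalSubgroup_char D hD F h hh
  have h1 := diagGL_nGL_comm D hD F h χ hχ hhm r hr
  rw [nGL_eq_hGL_mul D hD F r (χ r)] at h1
  set n := wordGL D hD F (D.nWord r 1) with hn
  set k := wordGL D hD F (D.hWord r (χ r)) with hk
  have hkH : k ∈ D.diagonalSubgroup F := hGL_mem_diagonalSubgroup D hD F r hr (χ r) (hχ.ne0 r hr)
  have h2 : n * h * n⁻¹ = k⁻¹ * h := by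
    have : n * h = k⁻¹ * h * n := by
      rw [mul_assoc, h1]; group
    rw [this]; group
  rw [h2]
  exact Subgroup.mul_mem _ (Subgroup.inv_mem _ hkH) hh

theorem nGL_inv_conj_mem (r : ℕ) (hr : r < D.nroots) (h : GL D.Idx F) (hh : h ∈ D.diagonalSubgroup F) :
    (wordGL D hD F (D.nWord r 1))⁻¹ * h * wordGL D hD F (D.nWord r 1) ∈ D.diagonalSubgroup F := by
  set n := wordGL D hD F (D.nWord r 1) with hn
  -- n⁻¹ = n_r(-1) = h_r(-1) n
  have h1 : n⁻¹ = wordGL D hD F (D.nWord r (-1)) := by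
    exact (eq_inv_of_mul_eq_one_left (nGL_neg_one_mul D hD F r)).symm
  have h2 : n⁻¹ = wordGL D hD F (D.hWord r (-1)) * n := by
    rw [h1, nGL_eq_hGL_mul D hD F r (-1)]
  set k := wordGL D hD F (D.hWord r (-1)) with hk
  have hkH : k ∈ D.diagonalSubgroup F :=
    hGL_mem_diagonalSubgroup D hD F r hr (-1) (neg_ne_zero.mpr one_ne_zero)
  have h3 : n⁻¹ * h * n = k * (n * h * n⁻¹) * k⁻¹ := by
    calc n⁻¹ * h * n = n⁻¹ * h * (n⁻¹)⁻¹ := by rw [inv_inv]
      _ = (k * n) * h * (k * n)⁻¹ := by rw [h2]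
      _ = k * (n * h * n⁻¹) * k⁻¹ := by group
  rw [h3]
  exact Subgroup.mul_mem _ (Subgroup.mul_mem _ hkH (nGL_conj_mem D hD F r hr h hh)) (Subgroup.inv_mem _ hkH)

theorem monomialSubgroup_le_normalizer_diagonal :
    D.monomialSubgroup F ≤ Subgroup.normalizer (D.diagonalSubgroup F : Set (GL D.Idx F)) := by
  unfold ChevalleyDatum.monomialSubgroup
  apply sup_le Subgroup.le_normalizer
  rw [Subgroup.closure_le]
  rintro g ⟨r, hr, hg⟩
  have hgn : g = wordGL D hD F (D.nWord r 1) := Units.ext (by rw [hg, coe_wordGL]; rfl)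
  rw [hgn]
  show _ ∈ Subgroup.normalizer (D.diagonalSubgroup F : Set (GL D.Idx F))
  rw [Subgroup.mem_set_normalizer_iff]
  intro h
  constructor
  · exact nGL_conj_mem D hD F r hr h
  · intro hh
    have := nGL_inv_conj_mem D hD F r hr _ hh
    have e : (wordGL D hD F (D.nWord r 1))⁻¹ * (wordGL D hD F (D.nWord r 1) * h *
        (wordGL D hD F (D.nWord r 1))⁻¹) * wordGL D hD F (D.nWord r 1) = h := by group
    rw [e] at this
    exact this

theorem diagonal_normal_in_monomial :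
    ((D.diagonalSubgroup F).subgroupOf (D.monomialSubgroup F)).Normal := by
  have hle : D.diagonalSubgroup F ≤ D.monomialSubgroup F := by
    unfold ChevalleyDatum.monomialSubgroup; exact le_sup_left
  exact (Subgroup.normal_subgroupOf_iff_le_normalizer hle).mpr
    (monomialSubgroup_le_normalizer_diagonal D hD F)

end

end Cfsg.Agent.Lib.Helper7
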