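import Mathlib.Algebra.Group.Subgroup.Pointwise
import Mathlib.Algebra.Group.Subgroup.Lattice
import Mathlib.Tactic.Group

/-! Abstract closure argument for twisted `(B,N)`-pairs (helper7): if `B₁`, class representatives `s J` and
rank one subgroups `X J ≤ B₁` satisfy a decomposition property, a rank one property and a dichotomy for
words, then the union of the cells `B₁ n_L B₁` is the subgroup generated by `B₁` and the `s J`. -/

set_option autoImplicit false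

namespace Cfsg.Agent.Lib.Helper7.TwBN

variable {Γ : Type*} [Group Γ] {ι : Type*}

/-- the product of the class representatives along a word -/
def nW (s : ι → Γ) (L : List ι) : Γ := (L.map s).prod

theorem nW_nil (s : ι → Γ) : nW s [] = 1 := by simp [nW]

theorem nW_cons (s : ι → Γ) (J : ι) (L : List ι) : nW s (J :: L) = s J * nW s L := by simp [nW]

/-- the hypotheses of the closure argument -/
structure ClosureData (B1 : Subgroup Γ) (s : ι → Γ) (X : ι → Subgroup Γ) : Prop where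
  sq : ∀ J, s J * s J ∈ B1
  decomp : ∀ J, ∀ b ∈ B1, ∃ c ∈ B1, ∃ x ∈ X J, b = c * x ∧ s J * c * (s J)⁻¹ ∈ B1
  rank1 : ∀ J, ∀ x ∈ X J, x ≠ 1 → ∃ b₁ ∈ B1, ∃ x₂ ∈ X J, s J * x * (s J)⁻¹ = b₁ * s J * x₂
  dich : ∀ J L, (∀ x ∈ X J, (nW s L)⁻¹ * x * nW s L ∈ B1) ∨
    (∀ x ∈ X J, (nW s (J :: L))⁻¹ * x * nW s (J :: L) ∈ B1)

variable {B1 : Subgroup Γ} {s : ι → Γ} {X : ι → Subgroup Γ}

/-- the `(B,N)`-axiom for words: `s_J B₁ n_L ⊆ B₁ s_J n_L B₁ ∪ B₁ n_L B₁` -/
theorem s_mul_cell (h : ClosureData B1 s X) (J : ι) (L : List ι) (b : Γ) (hb : b ∈ B1) :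
    (∃ b₁ ∈ B1, ∃ b₂ ∈ B1, s J * b * nW s L = b₁ * nW s (J :: L) * b₂) ∨
    (∃ b₁ ∈ B1, ∃ b₂ ∈ B1, s J * b * nW s L = b₁ * nW s L * b₂) := by
  obtain ⟨c, hc, x, hx, rfl, hcc⟩ := h.decomp J b hb
  rcases h.dich J L with hd | hd
  · left
    refine ⟨s J * c * (s J)⁻¹, hcc, (nW s L)⁻¹ * x * nW s L, hd x hx, ?_⟩
    rw [nW_cons]; group
  · by_cases hx1 : x = 1
    · left
      subst hx1
      refine ⟨s J * c * (s J)⁻¹, hcc, 1, B1.one_mem, ?_⟩
      rw [nW_cons]; group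
    · obtain ⟨b₁, hb₁, x₂, hx₂, he⟩ := h.rank1 J x hx hx1
      right
      refine ⟨s J * c * (s J)⁻¹ * b₁ * (s J * s J), B1.mul_mem (B1.mul_mem hcc hb₁) (h.sq J),
        (nW s (J :: L))⁻¹ * x₂ * nW s (J :: L), hd x₂ hx₂, ?_⟩
      rw [nW_cons]
      have he' : s J * x = b₁ * s J * x₂ * s J := by rw [← he]; group
      calc s J * (c * x) * nW s L = s J * c * (s J)⁻¹ * (s J * x) * nW s L := by group
        _ = s J * c * (s J)⁻¹ * (b₁ * s J * x₂ * s J) * nW s L := by rw [he']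
        _ = _ := by group

/-- the union of the cells `B₁ n_L B₁` -/
def cellSet (B1 : Subgroup Γ) (s : ι → Γ) : Set Γ :=
  {g | ∃ L : List ι, ∃ b ∈ B1, ∃ b' ∈ B1, g = b * nW s L * b'}

theorem one_mem_cellSet : (1 : Γ) ∈ cellSet B1 s :=
  ⟨[], 1, B1.one_mem, 1, B1.one_mem, by simp [nW_nil]⟩

theorem B_mul_cellSet (b : Γ) (hb : b ∈ B1) (g : Γ) (hg : g ∈ cellSet B1 s) : b * g ∈ cellSet B1 s := by
  obtain ⟨L, b₁, hb₁, b₂, hb₂, rfl⟩ := hg
  exact ⟨L, b * b₁, B1.mul_mem hb hb₁, b₂, hb₂, by group⟩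

theorem s_mul_cellSet (h : ClosureData B1 s X) (J : ι) (g : Γ) (hg : g ∈ cellSet B1 s) :
    s J * g ∈ cellSet B1 s := by
  obtain ⟨L, b₁, hb₁, b₂, hb₂, rfl⟩ := hg
  rcases s_mul_cell h J L b₁ hb₁ with ⟨c₁, hc₁, c₂, hc₂, he⟩ | ⟨c₁, hc₁, c₂, hc₂, he⟩
  · refine ⟨J :: L, c₁, hc₁, c₂ * b₂, B1.mul_mem hc₂ hb₂, ?_⟩
    calc s J * (b₁ * nW s L * b₂) = s J * b₁ * nW s L * b₂ := by group
      _ = c₁ * nW s (J :: L) * c₂ * b₂ := by rw [he]
      _ = _ := by group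
  · refine ⟨L, c₁, hc₁, c₂ * b₂, B1.mul_mem hc₂ hb₂, ?_⟩
    calc s J * (b₁ * nW s L * b₂) = s J * b₁ * nW s L * b₂ := by group
      _ = c₁ * nW s L * c₂ * b₂ := by rw [he]
      _ = _ := by group

/-- every element of the subgroup generated by `B₁` and the `s J` lies in a cell -/
theorem mem_cellSet_of_mem_closure (h : ClosureData B1 s X) (g : Γ)
    (hg : g ∈ Subgroup.closure ((B1 : Set Γ) ∪ Set.range s)) : g ∈ cellSet B1 s := by
  have key : ∀ t ∈ cellSet B1 s, g * t ∈ cellSet B1 s := by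
    induction hg using Subgroup.closure_induction'' with
    | mem x hx =>
      intro t ht
      rcases hx with hx | ⟨J, rfl⟩
      · exact B_mul_cellSet x hx t ht
      · exact s_mul_cellSet h J t ht
    | inv_mem x hx =>
      intro t ht
      rcases hx with hx | ⟨J, rfl⟩
      · exact B_mul_cellSet x⁻¹ (B1.inv_mem hx) t ht
      · have e : (s J)⁻¹ * t = (s J * s J)⁻¹ * (s J * t) := by group
        rw [e]
        exact B_mul_cellSet _ (B1.inv_mem (h.sq J)) _ (s_mul_cellSet h J t ht)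
    | one => intro t ht; rwa [one_mul]
    | mul x y _ _ hx hy =>
      intro t ht
      rw [mul_assoc]
      exact hx _ (hy t ht)
  have := key 1 one_mem_cellSet
  rwa [mul_one] at this

end Cfsg.Agent.Lib.Helper7.TwBN
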