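import Cfsg.Agent.Lib.Helper7.ChevBV
import Cfsg.Agent.Lib.Helper7.ChevNorm

set_option autoImplicit false

namespace Cfsg.Agent.Lib.Helper7

open Cfsg Cfsg.Lie Matrix
open scoped Pointwise

/-- block-monomial matrices: the two mixed blocks vanish and every column of the root block has at most one
non-zero entry, at a position prescribed by a function `π` -/
def BM (D : ChevalleyDatum) (F : Type*) [Field F] (M : Matrix D.Idx D.Idx F) : Prop :=
  (∀ j v, M (Sum.inl j) (Sum.inr v) = 0) ∧ (∀ u j, M (Sum.inr u) (Sum.inl j) = 0) ∧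
  ∃ π : Fin D.nroots → Fin D.nroots, ∀ u v, M (Sum.inr u) (Sum.inr v) ≠ 0 → u = π v

theorem BM.mul {D : ChevalleyDatum} {F : Type*} [Field F] {M M' : Matrix D.Idx D.Idx F}
    (h : BM D F M) (h' : BM D F M') : BM D F (M * M') := by
  obtain ⟨a1, a2, π, a3⟩ := h
  obtain ⟨b1, b2, π', b3⟩ := h'
  refine ⟨?_, ?_, fun v => π (π' v), ?_⟩
  · intro j v
    rw [Matrix.mul_apply, Fintype.sum_sum_type]
    simp [a1, b1]
  · intro u j
    rw [Matrix.mul_apply, Fintype.sum_sum_type]
    simp [a2, b2]
  · intro u v huv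
    rw [Matrix.mul_apply, Fintype.sum_sum_type] at huv
    have h0 : ∑ x : Fin D.rank, M (Sum.inr u) (Sum.inl x) * M' (Sum.inl x) (Sum.inr v) = 0 := by
      simp [a2]
    rw [h0, zero_add] at huv
    obtain ⟨w, -, hw⟩ := Finset.exists_ne_zero_of_sum_ne_zero huv
    have h1 : M (Sum.inr u) (Sum.inr w) ≠ 0 := left_ne_zero_of_mul hw
    have h2 : M' (Sum.inr w) (Sum.inr v) ≠ 0 := right_ne_zero_of_mul hw
    rw [a3 u w h1, b3 w v h2]

theorem BM_diagChar (D : ChevalleyDatum) (F : Type*) [Field F] (χ : ℕ → F) : BM D F (diagChar D F χ) := by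
  unfold diagChar
  refine ⟨?_, ?_, id, ?_⟩
  · intro j v; exact Matrix.diagonal_apply_ne _ (by simp)
  · intro u j; exact Matrix.diagonal_apply_ne _ (by simp)
  · intro u v huv
    by_contra hne
    apply huv
    exact Matrix.diagonal_apply_ne _ (fun h => hne (Sum.inr.inj h))

theorem BM_nMat (D : ChevalleyDatum) (r₀ : ℕ) (hR : RootFacts D r₀) (F : Type*) [Field F] (t : F) (ht : t ≠ 0) :
    BM D F (D.nMat F r₀ t) := by
  have hN := nMat_eq_triple D F ⟨r₀, hR.hr⟩ ⟨D.neg r₀, hR.hrb⟩ rfl t
  change D.nMat F r₀ t = _ at hN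
  rw [hN]
  set r : Fin D.nroots := ⟨r₀, hR.hr⟩ with hr
  set rb : Fin D.nroots := ⟨D.neg r₀, hR.hrb⟩ with hrb
  have hcol : ∀ s : Fin D.nroots, s ≠ r → s ≠ rb → ∃ w : Fin D.nroots, ∀ row : D.Idx,
      (D.xMat F r t * D.xMat F rb (-t⁻¹) * D.xMat F r t) row (Sum.inr s) ≠ 0 → row = Sum.inr w := by
    intro s hs1 hs2
    have hs1' : s.val ≠ r₀ := fun h => hs1 (Fin.ext h)
    have hs2' : s.val ≠ D.neg r₀ := fun h => hs2 (Fin.ext h)
    obtain ⟨g1, -⟩ := hR.gen s.val s.isLt hs1' hs2'
    obtain ⟨hw, hc⟩ := strCheck_col D F r rb hR.rank1 s g1 t ht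
    refine ⟨⟨_, hw⟩, fun row hrow => ?_⟩
    rw [hc row] at hrow
    by_contra hne
    rw [if_neg hne] at hrow
    exact hrow rfl
  classical
  refine ⟨?_, ?_, fun v => if h1 : v = r then rb else if h2 : v = rb then r else (hcol v h1 h2).choose, ?_⟩
  · intro j v
    by_cases h1 : v = r
    · rw [h1, nTriple_col_r D F r rb hR.rank1 t ht]; rfl
    · by_cases h2 : v = rb
      · rw [h2, nTriple_col_rb D F r rb hR.rank1 t ht]; rfl
      · by_contra hne
        have := (hcol v h1 h2).choose_spec _ hne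
        exact Sum.inl_ne_inr this
  · intro u j
    rw [nTriple_col_inl D F r rb hR.rank1 t ht]
    show (if u = r then (0 : F) else if u = rb then 0 else 0) = 0
    simp
  · intro u v huv
    beta_reduce
    by_cases h1 : v = r
    · rw [dif_pos h1]
      rw [h1, nTriple_col_r D F r rb hR.rank1 t ht] at huv
      change (if u = r then (0 : F) else if u = rb then _ else 0) ≠ 0 at huv
      by_contra hne
      apply huv
      by_cases h3 : u = r
      · rw [if_pos h3]
      · rw [if_neg h3, if_neg hne]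
    · rw [dif_neg h1]
      by_cases h2 : v = rb
      · rw [dif_pos h2]
        rw [h2, nTriple_col_rb D F r rb hR.rank1 t ht] at huv
        change (if u = r then _ else if u = rb then (0 : F) else 0) ≠ 0 at huv
        by_contra hne
        apply huv
        rw [if_neg hne]
        simp
      · rw [dif_neg h2]
        exact Sum.inr.inj ((hcol v h1 h2).choose_spec _ huv)


theorem BM_one (D : ChevalleyDatum) (F : Type*) [Field F] : BM D F (1 : Matrix D.Idx D.Idx F) := by
  rw [← diagChar_one D F]; exact BM_diagChar D F _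

/-- the subgroup of `GL` of block-monomial matrices with block-monomial inverse -/
def bmSubgroup (D : ChevalleyDatum) (F : Type*) [Field F] : Subgroup (GL D.Idx F) where
  carrier := {g | BM D F (g : Matrix D.Idx D.Idx F) ∧ BM D F ((g⁻¹ : GL D.Idx F) : Matrix D.Idx D.Idx F)}
  one_mem' := by
    refine ⟨?_, ?_⟩
    · rw [Units.val_one]; exact BM_one D F
    · rw [inv_one, Units.val_one]; exact BM_one D F
  mul_mem' := by
    intro g h hg hh
    refine ⟨?_, ?_⟩
    · rw [Units.val_mul]; exact hg.1.mul hh.1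
    · rw [_root_.mul_inv_rev, Units.val_mul]; exact hh.2.mul hg.2
  inv_mem' := by
    intro g hg
    refine ⟨hg.2, ?_⟩
    rw [inv_inv]; exact hg.1

section
variable (D : ChevalleyDatum) (hD : D ∈ [chevG2, chevB2, chevD4, chevF4, chevE6, chevE7, chevE8])
variable (F : Type*) [Field F]
include hD

theorem monomialSubgroup_le_bm : D.monomialSubgroup F ≤ bmSubgroup D F := by
  unfold ChevalleyDatum.monomialSubgroup
  apply sup_le
  · intro g hg
    obtain ⟨χ, hχ, hgm⟩ := mem_diagonalSubgroup_char D hD F g hg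
    refine ⟨?_, ?_⟩
    · rw [hgm]; exact BM_diagChar D F χ
    · rw [coe_inv_of_diagChar D F g χ hχ.ne0 hgm]; exact BM_diagChar D F _
  · rw [Subgroup.closure_le]
    rintro g ⟨r, hr, hg⟩
    have hgn : g = wordGL D hD F (D.nWord r 1) := Units.ext (by rw [hg, coe_wordGL]; rfl)
    have hinv : g⁻¹ = wordGL D hD F (D.nWord r (-1)) := by
      rw [hgn]
      exact (eq_inv_of_mul_eq_one_left (nGL_neg_one_mul D hD F r)).symm
    have hR := rootFacts_of_mem D hD r hr
    refine ⟨?_, ?_⟩
    · rw [hg]; exact BM_nMat D r hR F 1 one_ne_zero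
    · rw [hinv, coe_wordGL]
      exact BM_nMat D r hR F (-1) (neg_ne_zero.mpr one_ne_zero)

theorem posUnipotent_inf_monomial : D.posUnipotent F ⊓ D.monomialSubgroup F = ⊥ := by
  rw [Subgroup.eq_bot_iff_forall]
  intro g hg
  rw [Subgroup.mem_inf] at hg
  obtain ⟨hU, hN⟩ := hg
  obtain ⟨⟨a1, a2, π, a3⟩, -⟩ := monomialSubgroup_le_bm D hD F hN
  have hlev : Level (levelFn D) 1 ((g : Matrix D.Idx D.Idx F) - 1) :=
    mem_unitriSubgroup.mp (posUnipotent_le_unitri D (triOK_of_mem D hD) F hU)
  have hU' : ∀ i j, levelFn D i ≤ levelFn D j → (g : Matrix D.Idx D.Idx F) i j = (1 : Matrix D.Idx D.Idx F) i j := by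
    intro i j hij
    have := hlev i j (by omega)
    rwa [Matrix.sub_apply, sub_eq_zero] at this
  apply Units.ext
  rw [Units.val_one]
  ext i j
  rcases i with a | u <;> rcases j with b | v
  · exact hU' _ _ le_rfl
  · rw [a1]; exact (Matrix.one_apply_ne (by simp)).symm
  · rw [a2]; exact (Matrix.one_apply_ne (by simp)).symm
  · by_cases huv : u = v
    · subst huv; exact hU' _ _ le_rfl
    · rw [Matrix.one_apply_ne (fun h => huv (Sum.inr.inj h))]
      by_contra hne
      have h1 : (g : Matrix D.Idx D.Idx F) (Sum.inr v) (Sum.inr v) ≠ 0 := by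
        rw [hU' _ _ le_rfl, Matrix.one_apply_eq]; exact one_ne_zero
      have h2 := a3 v v h1
      have h3 := a3 u v hne
      exact huv (h3.trans h2.symm)

theorem borel_inf_monomial : D.borelSubgroup F ⊓ D.monomialSubgroup F = D.diagonalSubgroup F := by
  have hHN : D.diagonalSubgroup F ≤ D.monomialSubgroup F := by
    unfold ChevalleyDatum.monomialSubgroup; exact le_sup_left
  have hHB : D.diagonalSubgroup F ≤ D.borelSubgroup F := by
    unfold ChevalleyDatum.borelSubgroup; exact le_sup_right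
  apply le_antisymm
  · intro g hg
    rw [Subgroup.mem_inf] at hg
    obtain ⟨hB, hN⟩ := hg
    have hB' : g ∈ ((D.borelSubgroup F : Subgroup (GL D.Idx F)) : Set (GL D.Idx F)) := hB
    rw [borel_eq_mul D hD F] at hB'
    obtain ⟨h, hh, u, hu, rfl⟩ := Set.mem_mul.mp hB'
    have huN : u ∈ D.monomialSubgroup F := by
      have : u = h⁻¹ * (h * u) := by group
      rw [this]
      exact Subgroup.mul_mem _ (Subgroup.inv_mem _ (hHN hh)) hN
    have hu1 : u = 1 := by
      have : u ∈ D.posUnipotent F ⊓ D.monomialSubgroup F := Subgroup.mem_inf.mpr ⟨hu, huN⟩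
      rw [posUnipotent_inf_monomial D hD F] at this
      exact Subgroup.mem_bot.mp this
    rw [hu1, mul_one]
    exact hh
  · exact le_inf hHB hHN

end

end Cfsg.Agent.Lib.Helper7
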