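import Cfsg.Agent.Lib.Helper7.ChevTwistBN10
import Cfsg.Agent.Lib.Helper7.ChevBorel
import Cfsg.Agent.Lib.Helper3.BNSimple

/-! Twisted groups: simplicity via Tits' criterion (helper7). -/

set_option autoImplicit false

namespace Cfsg.Agent.Lib.Helper7

open Cfsg Cfsg.Lie Matrix

section
variable (D : ChevalleyDatum) (hD : D ∈ [chevG2, chevB2, chevD4, chevF4, chevE6, chevE7, chevE8])
variable (K : Type*) [Field K]
variable (G1 : Subgroup (GL D.Idx K)) (simpIdx : List (List ℕ))
include hD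

/-- the commutator of two class representatives whose Weyl images do not commute is not in `B` -/
theorem comm_clsRep_not_mem_borel (hlt : ∀ J ∈ simpIdx, ∀ i ∈ J, i < D.rank) (a b : Fin simpIdx.length)
    (r : ℕ) (hr : r < D.nroots)
    (hne : reflWord D (simpIdx.get a) (reflWord D (simpIdx.get b) (reflWord D (simpIdx.get a).reverse
      (reflWord D (simpIdx.get b).reverse r))) ≠ r) :
    clsRep D hD K simpIdx a * clsRep D hD K simpIdx b * (clsRep D hD K simpIdx a)⁻¹ *
      (clsRep D hD K simpIdx b)⁻¹ ∉ D.borelSubgroup K := by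
  intro hB
  have hla := hlt _ (List.get_mem simpIdx a)
  have hlb := hlt _ (List.get_mem simpIdx b)
  have hna : clsRep D hD K simpIdx a ∈ D.monomialSubgroup K := nWordGL_mem_monomial D hD K _ hla
  have hnb : clsRep D hD K simpIdx b ∈ D.monomialSubgroup K := nWordGL_mem_monomial D hD K _ hlb
  have hH : clsRep D hD K simpIdx a * clsRep D hD K simpIdx b * (clsRep D hD K simpIdx a)⁻¹ *
      (clsRep D hD K simpIdx b)⁻¹ ∈ D.diagonalSubgroup K := by
    rw [← borel_inf_monomial D hD K]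
    exact Subgroup.mem_inf.mpr ⟨hB, Subgroup.mul_mem _ (Subgroup.mul_mem _ (Subgroup.mul_mem _ hna hnb)
      (Subgroup.inv_mem _ hna)) (Subgroup.inv_mem _ hnb)⟩
  have h1 := actsAs_diag D hD K _ hH
  have h2 : ActsAs D hD K (clsRep D hD K simpIdx a * clsRep D hD K simpIdx b * (clsRep D hD K simpIdx a)⁻¹ *
      (clsRep D hD K simpIdx b)⁻¹) _ :=
    ActsAs.mul D K (ActsAs.mul D K (ActsAs.mul D K (actsAs_nWordGL D hD K _ hla) (actsAs_nWordGL D hD K _ hlb))
      (actsAs_nWordGL_inv D hD K _ hla)) (actsAs_nWordGL_inv D hD K _ hlb)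
  have h3 := ActsAs.unique D hD K h2 h1 r hr
  exact hne h3

omit hD in
/-- `B ∩ G¹` is solvable -/
theorem twisted_borel_isSolvable (hD : D ∈ [chevG2, chevB2, chevD4, chevF4, chevE6, chevE7, chevE8]) :
    Group.IsSolvable ↥((D.borelSubgroup K ⊓ G1).subgroupOf G1) := by
  have := borel_isSolvable D hD K
  have h1 : Group.IsSolvable ↥(D.borelSubgroup K ⊓ G1) :=
    Group.isSolvable_of_isSolvable_injective (f := Subgroup.inclusion (inf_le_left : D.borelSubgroup K ⊓ G1 ≤ _))
      (Subgroup.inclusion_injective _)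
  exact Group.isSolvable_of_isSolvable_injective
    (f := (Subgroup.subgroupOfEquivOfLe (inf_le_right : D.borelSubgroup K ⊓ G1 ≤ G1)).toMonoidHom)
    (Subgroup.subgroupOfEquivOfLe (inf_le_right : D.borelSubgroup K ⊓ G1 ≤ G1)).injective

/-- irreducibility of the twisted `(B,N)`-pair from a connected graph of non-commuting generators -/
theorem twisted_irreducible (P : Cfsg.BNPair ↥G1)
    (hPB : P.B = (D.borelSubgroup K ⊓ G1).subgroupOf G1) (hPS : P.S = twS D hD K G1 simpIdx)
    (hmem : ∀ J : Fin simpIdx.length, clsRep D hD K simpIdx J ∈ G1)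
    (hlt : ∀ J ∈ simpIdx, ∀ i ∈ J, i < D.rank)
    (adj : Fin simpIdx.length → Fin simpIdx.length → Bool)
    (hadj : ∀ a b, adj a b = true → ∃ r < D.nroots,
      reflWord D (simpIdx.get a) (reflWord D (simpIdx.get b) (reflWord D (simpIdx.get a).reverse
        (reflWord D (simpIdx.get b).reverse r))) ≠ r)
    (hconn : ∀ I : Finset (Fin simpIdx.length), I.Nonempty → Iᶜ.Nonempty →
      ∃ a ∈ I, ∃ b ∈ Iᶜ, adj a b = true) : P.Irreducible := by
  classical
  intro J hJ hJne hJc
  obtain ⟨I, hI⟩ : ∃ I : Finset (Fin simpIdx.length),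
      I = Finset.univ.filter (fun a => ∃ s ∈ J, ((s : ↥G1) : GL D.Idx K) = clsRep D hD K simpIdx a) := ⟨_, rfl⟩
  have hIne : I.Nonempty := by
    obtain ⟨s, hs⟩ := hJne
    have hsS := hJ hs
    rw [hPS] at hsS
    obtain ⟨a, ha⟩ := hsS
    exact ⟨a, by rw [hI]; simp only [Finset.mem_filter, Finset.mem_univ, true_and]; exact ⟨s, hs, ha⟩⟩
  have hIc : Iᶜ.Nonempty := by
    obtain ⟨s', hs'S, hs'J⟩ := hJc
    rw [hPS] at hs'S
    obtain ⟨b, hb⟩ := hs'S
    refine ⟨b, ?_⟩
    rw [Finset.mem_compl, hI]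
    simp only [Finset.mem_filter, Finset.mem_univ, true_and, not_exists, not_and]
    intro s hs hsb
    apply hs'J
    have : s' = s := Subtype.ext (by rw [hb, hsb])
    rw [this]; exact hs
  obtain ⟨a, haI, b, hbI, hab⟩ := hconn I hIne hIc
  rw [hI] at haI
  simp only [Finset.mem_filter, Finset.mem_univ, true_and] at haI
  obtain ⟨s, hsJ, hsa⟩ := haI
  rw [Finset.mem_compl, hI] at hbI
  simp only [Finset.mem_filter, Finset.mem_univ, true_and, not_exists, not_and] at hbI
  obtain ⟨r, hr, hne⟩ := hadj a b hab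
  refine ⟨s, hsJ, ⟨clsRep D hD K simpIdx b, hmem b⟩, ⟨?_, ?_⟩, ?_⟩
  · rw [hPS]; exact ⟨b, rfl⟩
  · intro h; exact hbI _ h rfl
  · intro hB
    rw [hPB, Subgroup.mem_subgroupOf] at hB
    have hB' := (Subgroup.mem_inf.mp hB).1
    have e : ((s * ⟨clsRep D hD K simpIdx b, hmem b⟩ * s⁻¹ *
        (⟨clsRep D hD K simpIdx b, hmem b⟩ : ↥G1)⁻¹ : ↥G1) : GL D.Idx K) =
        clsRep D hD K simpIdx a * clsRep D hD K simpIdx b * (clsRep D hD K simpIdx a)⁻¹ *
          (clsRep D hD K simpIdx b)⁻¹ := by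
      rw [← hsa]; rfl
    rw [e] at hB'
    exact comm_clsRep_not_mem_borel D hD K simpIdx hlt a b r hr hne hB'

/-- Tits' criterion for a twisted group -/
theorem twisted_simple (P : Cfsg.BNPair ↥G1)
    (hPB : P.B = (D.borelSubgroup K ⊓ G1).subgroupOf G1) (hPS : P.S = twS D hD K G1 simpIdx)
    (hmem : ∀ J : Fin simpIdx.length, clsRep D hD K simpIdx J ∈ G1)
    (hlt : ∀ J ∈ simpIdx, ∀ i ∈ J, i < D.rank)
    (adj : Fin simpIdx.length → Fin simpIdx.length → Bool)
    (hadj : ∀ a b, adj a b = true → ∃ r < D.nroots,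
      reflWord D (simpIdx.get a) (reflWord D (simpIdx.get b) (reflWord D (simpIdx.get a).reverse
        (reflWord D (simpIdx.get b).reverse r))) ≠ r)
    (hconn : ∀ I : Finset (Fin simpIdx.length), I.Nonempty → Iᶜ.Nonempty →
      ∃ a ∈ I, ∃ b ∈ Iᶜ, adj a b = true)
    (hpos : 0 < simpIdx.length)
    (hperf : commutator ↥G1 = ⊤)
    (hcore : ((D.borelSubgroup K ⊓ G1).subgroupOf G1).normalCore = ⊥) :
    IsSimpleGroup ↥G1 ∧ ¬ IsMulCommutative ↥G1 := by
  have hnt : Nontrivial ↥G1 := by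
    by_contra hnt
    rw [not_nontrivial_iff_subsingleton] at hnt
    have hs : (⟨clsRep D hD K simpIdx ⟨0, hpos⟩, hmem _⟩ : ↥G1) ∈ P.S := by
      rw [hPS]; exact ⟨⟨0, hpos⟩, rfl⟩
    apply P.conj_ne _ hs
    ext x
    have hx : x = 1 := Subsingleton.elim _ _
    rw [hx]
    constructor
    · intro _; exact P.B.one_mem
    · intro _; exact ⟨1, P.B.one_mem, Subsingleton.elim _ _⟩
  constructor
  · apply Cfsg.Agent.Lib.Helper3.BN.simple_of_irreducible P
      (twisted_irreducible D hD K G1 simpIdx P hPB hPS hmem hlt adj hadj hconn) ?_ hperf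
    · rw [hPB]; exact hcore
    · rw [hPB]; exact twisted_borel_isSolvable D K G1 hD
  · intro hc
    have hbot : commutator ↥G1 = ⊥ := by
      rw [commutator_def, Subgroup.commutator_eq_bot_iff_le_centralizer]
      intro a _
      rw [Subgroup.mem_centralizer_iff]
      intro b _
      exact hc.is_comm.comm b a
    rw [hbot] at hperf
    exact bot_ne_top hperf

end

end Cfsg.Agent.Lib.Helper7
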