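import Cfsg.Agent.Lib.Helper7.ChevGraph0
import Cfsg.Agent.Lib.Helper7.ChevWordGL

/-! Graph automorphisms of Chevalley groups as conjugation by a monomial matrix (helper7). -/

set_option autoImplicit false

namespace Cfsg.Agent.Lib.Helper7

open Cfsg Cfsg.Lie Matrix

/-- the decidable check of `GraphFacts` for data given as lists -/
def graphOKB (D : ChevalleyDatum) (pv pv' ρ ρ' : List ℕ) (ε : List ℤ) : Bool :=
  ((List.range D.rank).all fun j =>
    decide (pv.getD j 0 < D.rank) && decide (pv'.getD j 0 < D.rank) && (pv'.getD (pv.getD j 0) 0 == j) &&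
      (pv.getD (pv'.getD j 0) 0 == j)) &&
  ((List.range D.nroots).all fun s =>
    decide (ρ.getD s 0 < D.nroots) && decide (ρ'.getD s 0 < D.nroots) && (ρ'.getD (ρ.getD s 0) 0 == s) &&
    (ρ.getD (ρ'.getD s 0) 0 == s) && decide (D.neg s < D.nroots) && (ρ.getD (D.neg s) 0 == D.neg (ρ.getD s 0)) &&
    (ε.getD s 0 == 1 || ε.getD s 0 == -1) && (ε.getD (D.neg s) 0 == ε.getD s 0) &&
    ((List.range D.rank).all fun j =>
      (D.cartan (pv.getD j 0) (ρ.getD s 0) == D.cartan j s) &&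
      ((D.coroot.getD (ρ.getD s 0) #[]).getD (pv.getD j 0) 0 == (D.coroot.getD s #[]).getD j 0)) &&
    ((List.range D.nroots).all fun v =>
      (v == s) || (v == D.neg s) ||
        (ccAll D (ρ.getD s 0) (ρ.getD v 0) ==
          (ccAll D s v).map (fun x => (ρ.getD x.1 0, x.2.1, x.2.2 * ε.getD x.1 0 * ε.getD v 0 * ε.getD s 0 ^ x.2.1)))))

theorem graphFacts_of_graphOKB (D : ChevalleyDatum) (pv pv' ρ ρ' : List ℕ) (ε : List ℤ)
    (h : graphOKB D pv pv' ρ ρ' ε = true) :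
    GraphFacts D (fun j => pv.getD j 0) (fun j => pv'.getD j 0) (fun s => ρ.getD s 0) (fun s => ρ'.getD s 0)
      (fun s => ε.getD s 0) := by
  unfold graphOKB at h
  rw [Bool.and_eq_true, List.all_eq_true, List.all_eq_true] at h
  obtain ⟨h1, h2⟩ := h
  have h1' : ∀ j < D.rank, pv.getD j 0 < D.rank ∧ pv'.getD j 0 < D.rank ∧ pv'.getD (pv.getD j 0) 0 = j ∧
      pv.getD (pv'.getD j 0) 0 = j := by
    intro j hj
    have := h1 j (List.mem_range.mpr hj)
    simp only [Bool.and_eq_true, decide_eq_true_eq, beq_iff_eq] at this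
    exact ⟨this.1.1.1, this.1.1.2, this.1.2, this.2⟩
  have h2' := fun s (hs : s < D.nroots) => h2 s (List.mem_range.mpr hs)
  simp only [Bool.and_eq_true, Bool.or_eq_true, decide_eq_true_eq, beq_iff_eq, List.all_eq_true, List.mem_range] at h2'
  refine ⟨fun j hj => (h1' j hj).1, fun j hj => (h1' j hj).2.1, fun j hj => (h1' j hj).2.2.1,
    fun j hj => (h1' j hj).2.2.2, ?_, ?_, ?_, ?_, ?_, ?_, ?_, ?_, ?_, ?_⟩
  · intro s hs; exact (h2' s hs).1.1.1.1.1.1.1.1.1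
  · intro s hs; exact (h2' s hs).1.1.1.1.1.1.1.1.2
  · intro s hs; exact (h2' s hs).1.1.1.1.1.1.1.2
  · intro s hs; exact (h2' s hs).1.1.1.1.1.1.2
  · intro s hs; exact ⟨(h2' s hs).1.1.1.1.1.2, (h2' s hs).1.1.1.1.2⟩
  · intro s hs; exact (h2' s hs).1.1.1.2
  · intro s hs; exact (h2' s hs).1.1.2
  · intro j hj s hs; exact ((h2' s hs).1.2 j hj).1
  · intro j hj s hs; exact ((h2' s hs).1.2 j hj).2
  · intro s hs v hv hvs hvn
    rcases (h2' s hs).2 v hv with (h | h) | h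
    · exact absurd h hvs
    · exact absurd h hvn
    · exact h

section
variable (D : ChevalleyDatum) (hD : D ∈ [chevG2, chevB2, chevD4, chevF4, chevE6, chevE7, chevE8])
variable (pv pv' ρ ρ' : ℕ → ℕ) (ε : ℕ → ℤ) (hG : GraphFacts D pv pv' ρ ρ' ε)
variable (F : Type*) [Field F]
include hG

theorem gMono_mul_inv :
    gMono D pv ρ ε F * gMono D pv' ρ' (fun s => ε (ρ' s)) F = 1 := by
  ext row col
  rcases row with j' | u'
  · rw [gMono_mul_inl D pv pv' ρ ρ' ε hG F]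
    rcases col with j | v
    · show (if ((pF' D pv pv' ρ ρ' ε hG j' : Fin D.rank) : ℕ) = pv' j.val then (1 : F) else 0) = _
      by_cases hj : j' = j
      · subst hj
        have : ((pF' D pv pv' ρ ρ' ε hG j' : Fin D.rank) : ℕ) = pv' j'.val := rfl
        rw [if_pos this, Matrix.one_apply_eq]
      · have : ¬ ((pF' D pv pv' ρ ρ' ε hG j' : Fin D.rank) : ℕ) = pv' j.val := by
          intro h
          apply hj
          have h' : pv' j'.val = pv' j.val := h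
          have := congrArg pv h'
          rw [hG.pvinv' j'.val j'.isLt, hG.pvinv' j.val j.isLt] at this
          exact Fin.ext this
        rw [if_neg this, Matrix.one_apply_ne (by simpa using hj)]
    · show (0 : F) = _
      rw [Matrix.one_apply_ne (by simp)]
  · rw [gMono_mul_inr D pv pv' ρ ρ' ε hG F]
    rcases col with j | v
    · show _ * (0 : F) = _
      rw [mul_zero, Matrix.one_apply_ne (by simp)]
    · show _ * (if ((rF' D pv pv' ρ ρ' ε hG u' : Fin D.nroots) : ℕ) = ρ' v.val then ((ε (ρ' v.val) : ℤ) : F) else 0) = _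
      by_cases hu : u' = v
      · subst hu
        have : ((rF' D pv pv' ρ ρ' ε hG u' : Fin D.nroots) : ℕ) = ρ' u'.val := rfl
        rw [if_pos this, Matrix.one_apply_eq]
        exact epsF_sq D pv pv' ρ ρ' ε hG F _ (hG.ρlt' u'.val u'.isLt)
      · have : ¬ ((rF' D pv pv' ρ ρ' ε hG u' : Fin D.nroots) : ℕ) = ρ' v.val := by
          intro h
          apply hu
          have h' : ρ' u'.val = ρ' v.val := h
          have := congrArg ρ h'
          rw [hG.ρinv' u'.val u'.isLt, hG.ρinv' v.val v.isLt] at this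
          exact Fin.ext this
        rw [if_neg this, mul_zero, Matrix.one_apply_ne (by simpa using hu)]

/-- the monomial matrix as an element of GL -/
noncomputable def gGL : GL D.Idx F :=
  ⟨gMono D pv ρ ε F, gMono D pv' ρ' (fun s => ε (ρ' s)) F, gMono_mul_inv D pv pv' ρ ρ' ε hG F,
    mul_eq_one_comm.mp (gMono_mul_inv D pv pv' ρ ρ' ε hG F)⟩

include hD

/-- `T x_s(t) T⁻¹ = x_{ρ s}(ε_s t)` -/
theorem gGL_conj_xGL (s : ℕ) (hs : s < D.nroots) (t : F) :
    gGL D pv pv' ρ ρ' ε hG F * xGL D hD F s t * (gGL D pv pv' ρ ρ' ε hG F)⁻¹ =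
      xGL D hD F (ρ s) (((ε s : ℤ) : F) * t) := by
  have hA := addHyp_of_addOKB D (addOKB_of_mem D hD) s hs
  have h := gMono_xMat_comm D pv pv' ρ ρ' ε hG F ⟨s, hs⟩ t (fun v x hx => (hA.2.1 v x hx).1)
  rw [mul_inv_eq_iff_eq_mul]
  apply Units.ext
  rw [Units.val_mul, Units.val_mul, coe_xGL, coe_xGL, x_eq_xMat D F s hs, x_eq_xMat D F _ (hG.ρlt s hs)]
  exact h

theorem gGL_inv_conj_xGL (s : ℕ) (hs : s < D.nroots) (t : F) :
    (gGL D pv pv' ρ ρ' ε hG F)⁻¹ * xGL D hD F s t * gGL D pv pv' ρ ρ' ε hG F =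
      xGL D hD F (ρ' s) (((ε (ρ' s) : ℤ) : F) * t) := by
  have h := gGL_conj_xGL D hD pv pv' ρ ρ' ε hG F (ρ' s) (hG.ρlt' s hs) (((ε (ρ' s) : ℤ) : F) * t)
  rw [hG.ρinv' s hs, ← mul_assoc, epsF_sq D pv pv' ρ ρ' ε hG F _ (hG.ρlt' s hs), one_mul] at h
  rw [← h]
  group

theorem gGL_conj_mem (g : GL D.Idx F) (hg : g ∈ D.group F) :
    gGL D pv pv' ρ ρ' ε hG F * g * (gGL D pv pv' ρ ρ' ε hG F)⁻¹ ∈ D.group F := by
  unfold ChevalleyDatum.group at hg
  induction hg using Subgroup.closure_induction with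
  | mem x hx =>
    obtain ⟨r, t, hx⟩ := hx
    have : x = xGL D hD F r.val t := Units.ext (by rw [hx, coe_xGL, x_eq_xMat D F r.val r.isLt])
    rw [this, gGL_conj_xGL D hD pv pv' ρ ρ' ε hG F r.val r.isLt]
    exact xGL_mem_group D hD F _ _
  | one => simp
  | mul a b _ _ iha ihb =>
    have : gGL D pv pv' ρ ρ' ε hG F * (a * b) * (gGL D pv pv' ρ ρ' ε hG F)⁻¹ =
        (gGL D pv pv' ρ ρ' ε hG F * a * (gGL D pv pv' ρ ρ' ε hG F)⁻¹) *
          (gGL D pv pv' ρ ρ' ε hG F * b * (gGL D pv pv' ρ ρ' ε hG F)⁻¹) := by group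
    rw [this]; exact Subgroup.mul_mem _ iha ihb
  | inv a _ iha =>
    have : gGL D pv pv' ρ ρ' ε hG F * a⁻¹ * (gGL D pv pv' ρ ρ' ε hG F)⁻¹ =
        (gGL D pv pv' ρ ρ' ε hG F * a * (gGL D pv pv' ρ ρ' ε hG F)⁻¹)⁻¹ := by group
    rw [this]; exact Subgroup.inv_mem _ iha

theorem gGL_inv_conj_mem (g : GL D.Idx F) (hg : g ∈ D.group F) :
    (gGL D pv pv' ρ ρ' ε hG F)⁻¹ * g * gGL D pv pv' ρ ρ' ε hG F ∈ D.group F := by
  unfold ChevalleyDatum.group at hg
  induction hg using Subgroup.closure_induction with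
  | mem x hx =>
    obtain ⟨r, t, hx⟩ := hx
    have : x = xGL D hD F r.val t := Units.ext (by rw [hx, coe_xGL, x_eq_xMat D F r.val r.isLt])
    rw [this, gGL_inv_conj_xGL D hD pv pv' ρ ρ' ε hG F r.val r.isLt]
    exact xGL_mem_group D hD F _ _
  | one => simp
  | mul a b _ _ iha ihb =>
    have : (gGL D pv pv' ρ ρ' ε hG F)⁻¹ * (a * b) * gGL D pv pv' ρ ρ' ε hG F =
        ((gGL D pv pv' ρ ρ' ε hG F)⁻¹ * a * gGL D pv pv' ρ ρ' ε hG F) *
          ((gGL D pv pv' ρ ρ' ε hG F)⁻¹ * b * gGL D pv pv' ρ ρ' ε hG F) := by group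
    rw [this]; exact Subgroup.mul_mem _ iha ihb
  | inv a _ iha =>
    have : (gGL D pv pv' ρ ρ' ε hG F)⁻¹ * a⁻¹ * gGL D pv pv' ρ ρ' ε hG F =
        ((gGL D pv pv' ρ ρ' ε hG F)⁻¹ * a * gGL D pv pv' ρ ρ' ε hG F)⁻¹ := by group
    rw [this]; exact Subgroup.inv_mem _ iha

/-- the graph automorphism: conjugation by the monomial matrix -/
noncomputable def graphAut : ↥(D.group F) ≃* ↥(D.group F) where
  toFun g := ⟨gGL D pv pv' ρ ρ' ε hG F * g.1 * (gGL D pv pv' ρ ρ' ε hG F)⁻¹,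
    gGL_conj_mem D hD pv pv' ρ ρ' ε hG F g.1 g.2⟩
  invFun g := ⟨(gGL D pv pv' ρ ρ' ε hG F)⁻¹ * g.1 * gGL D pv pv' ρ ρ' ε hG F,
    gGL_inv_conj_mem D hD pv pv' ρ ρ' ε hG F g.1 g.2⟩
  left_inv g := Subtype.ext (by show _ * (_ * g.1 * _) * _ = g.1; group)
  right_inv g := Subtype.ext (by show _ * (_ * g.1 * _) * _ = g.1; group)
  map_mul' a b := Subtype.ext (by
    show _ * (a.1 * b.1) * _ = (_ * a.1 * _) * (_ * b.1 * _); group)

theorem graphAut_x (g : ↥(D.group F)) (s : ℕ) (hs : s < D.nroots) (t : F)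
    (hg : ((g : GL D.Idx F) : Matrix D.Idx D.Idx F) = D.x F s t) :
    ((graphAut D hD pv pv' ρ ρ' ε hG F g : GL D.Idx F) : Matrix D.Idx D.Idx F) =
      D.x F (ρ s) (((ε s : ℤ) : F) * t) := by
  have hg' : (g : GL D.Idx F) = xGL D hD F s t := Units.ext (by rw [hg, coe_xGL])
  show ((gGL D pv pv' ρ ρ' ε hG F * g.1 * (gGL D pv pv' ρ ρ' ε hG F)⁻¹ : GL D.Idx F) : Matrix D.Idx D.Idx F) = _
  rw [hg', gGL_conj_xGL D hD pv pv' ρ ρ' ε hG F s hs t, coe_xGL]

end

end Cfsg.Agent.Lib.Helper7
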