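import Cfsg.Agent.Lib.Helper7.ChevOrdA
import Cfsg.Agent.Lib.Helper7.ChevGraph1
import Cfsg.Agent.Lib.Helper7.ChevFieldAut

/-! Twisted groups: the automorphism `σ = graph ∘ field` of `GL` and its action on ordered products
(helper7). -/

set_option autoImplicit false

namespace Cfsg.Agent.Lib.Helper7

open Cfsg Cfsg.Lie Matrix

/-- table facts about the classes of positive roots under a diagram symmetry `ρ` -/
structure TwistFacts (D : ChevalleyDatum) (ρ ρ' : ℕ → ℕ) (A : ℕ → ℤ) (cls : List (List ℕ)) : Prop where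
  good : GoodLA D A cls.flatten
  all : ∀ r, D.IsPosRoot r → r ∈ cls.flatten
  perm : ∀ S ∈ cls, (S.map ρ).Perm S
  comm : ∀ S ∈ cls, ∀ r ∈ S, ∀ s ∈ S, r ≠ s → D.commTerms r s = []

theorem TwistFacts.mem_iff {D : ChevalleyDatum} {ρ ρ' : ℕ → ℕ} {A : ℕ → ℤ} {cls : List (List ℕ)}
    (h : TwistFacts D ρ ρ' A cls) (r : ℕ) : r ∈ cls.flatten ↔ D.IsPosRoot r :=
  ⟨fun hr => h.good.pos r hr, h.all r⟩

section
variable (D : ChevalleyDatum) (hD : D ∈ [chevG2, chevB2, chevD4, chevF4, chevE6, chevE7, chevE8])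
variable (pv pv' ρ ρ' : ℕ → ℕ) (ε : ℕ → ℤ) (hG : GraphFacts D pv pv' ρ ρ' ε)
variable (K : Type*) [Field K] (φ : K ≃+* K)

/-- `σ = (graph automorphism) ∘ (field automorphism)` on `GL` -/
noncomputable def sigmaGL : GL D.Idx K ≃* GL D.Idx K :=
  (glMapEquiv D.Idx φ).trans (MulAut.conj (gGL D pv pv' ρ ρ' ε hG K))

/-- the subgroup of `σ`-fixed elements -/
def fixSigma : Subgroup (GL D.Idx K) where
  carrier := {g | sigmaGL D pv pv' ρ ρ' ε hG K φ g = g}
  one_mem' := map_one _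
  mul_mem' := fun {a b} ha hb => by
    show sigmaGL D pv pv' ρ ρ' ε hG K φ (a * b) = a * b
    rw [map_mul, ha, hb]
  inv_mem' := fun {a} ha => by
    show sigmaGL D pv pv' ρ ρ' ε hG K φ a⁻¹ = a⁻¹
    rw [map_inv, ha]

theorem mem_fixSigma (g : GL D.Idx K) :
    g ∈ fixSigma D pv pv' ρ ρ' ε hG K φ ↔ sigmaGL D pv pv' ρ ρ' ε hG K φ g = g := Iff.rfl

include hD

omit hG in
theorem glMapEquiv_xGL (s : ℕ) (t : K) :
    glMapEquiv D.Idx φ (xGL D hD K s t) = xGL D hD K s (φ t) := by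
  apply Units.ext
  rw [glMapEquiv_val, coe_xGL, coe_xGL]
  exact x_map D (φ : K →+* K) s t

theorem sigmaGL_xGL (s : ℕ) (hs : s < D.nroots) (t : K) :
    sigmaGL D pv pv' ρ ρ' ε hG K φ (xGL D hD K s t) = xGL D hD K (ρ s) (((ε s : ℤ) : K) * φ t) := by
  show gGL D pv pv' ρ ρ' ε hG K * glMapEquiv D.Idx φ (xGL D hD K s t) * (gGL D pv pv' ρ ρ' ε hG K)⁻¹ = _
  rw [glMapEquiv_xGL, gGL_conj_xGL D hD pv pv' ρ ρ' ε hG K s hs]

theorem sigmaGL_wordGL (w : List (ℕ × K)) (hw : ∀ e ∈ w, e.1 < D.nroots) :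
    sigmaGL D pv pv' ρ ρ' ε hG K φ (wordGL D hD K w) =
      wordGL D hD K (w.map fun e => (ρ e.1, ((ε e.1 : ℤ) : K) * φ e.2)) := by
  unfold wordGL
  rw [map_list_prod, List.map_map, List.map_map]
  congr 1
  apply List.map_congr_left
  intro e he
  exact sigmaGL_xGL D hD pv pv' ρ ρ' ε hG K φ e.1 (hw e he) e.2

omit hG in
theorem ordProd_append (l₁ l₂ : List ℕ) (t : ℕ → K) :
    ordProd D hD K (l₁ ++ l₂) t = ordProd D hD K l₁ t * ordProd D hD K l₂ t := by
  unfold ordProd
  rw [List.map_append, wordGL_append]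

omit hG in
theorem ordProd_flatten (cls : List (List ℕ)) (t : ℕ → K) :
    ordProd D hD K cls.flatten t = (cls.map fun S => ordProd D hD K S t).prod := by
  induction cls with
  | nil => simp [ordProd_nil]
  | cons S l ih => rw [List.flatten_cons, ordProd_append, ih, List.map_cons, List.prod_cons]

/-- the parameters of `σ(u)` in terms of those of `u` -/
def twistFn (t : ℕ → K) (r : ℕ) : K := ((ε (ρ' r) : ℤ) : K) * φ (t (ρ' r))

omit hG in
/-- root elements whose roots have no sum commute -/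
theorem xGL_comm_of_nil (r s : ℕ) (hr : r < D.nroots) (hs : s < D.nroots) (hsr : s ≠ r)
    (hsn : s ≠ D.neg r) (h : D.commTerms r s = []) (a b : K) :
    Commute (xGL D hD K r a) (xGL D hD K s b) := by
  have := comm_formula_GL D hD K r s hr hs hsr hsn a b
  unfold ChevalleyDatum.commWord at this
  rw [h] at this
  simp only [List.map_nil, wordGL, List.prod_nil, mul_one] at this
  exact this.symm

omit hG in
theorem commute_xGL_same (r : ℕ) (a b : K) : Commute (xGL D hD K r a) (xGL D hD K r b) := by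
  show _ * _ = _ * _
  rw [xGL_mul, xGL_mul, add_comm]

/-- `σ` on the ordered product of a class -/
theorem sigmaGL_ordProd_class (S : List ℕ) (hS : ∀ r ∈ S, D.IsPosRoot r) (hperm : (S.map ρ).Perm S)
    (hcomm : ∀ r ∈ S, ∀ s ∈ S, r ≠ s → D.commTerms r s = []) (hA : ∃ A : ℕ → ℤ, ChainAdd D A ∧ PosFacts D A)
    (t : ℕ → K) :
    sigmaGL D pv pv' ρ ρ' ε hG K φ (ordProd D hD K S t) = ordProd D hD K S (twistFn ρ' ε K φ t) := by
  unfold ordProd
  rw [sigmaGL_wordGL D hD pv pv' ρ ρ' ε hG K φ _ (by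
    intro e he
    rw [List.mem_map] at he
    obtain ⟨r, hr, rfl⟩ := he
    exact (hS r hr).1)]
  rw [List.map_map]
  unfold wordGL
  rw [List.map_map, List.map_map]
  -- the left list is `(S.map ρ).map g`
  have e1 : S.map ((fun p : ℕ × K => xGL D hD K p.1 p.2) ∘ (fun e : ℕ × K => (ρ e.1, ((ε e.1 : ℤ) : K) * φ e.2)) ∘
      fun r => (r, t r)) = (S.map ρ).map (fun s => xGL D hD K s (twistFn ρ' ε K φ t s)) := by
    rw [List.map_map]
    apply List.map_congr_left
    intro r hr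
    show xGL D hD K (ρ r) (((ε r : ℤ) : K) * φ (t r)) = xGL D hD K (ρ r) (twistFn ρ' ε K φ t (ρ r))
    unfold twistFn
    rw [hG.ρinv r (hS r hr).1]
  have e2 : S.map ((fun p : ℕ × K => xGL D hD K p.1 p.2) ∘ fun r => (r, twistFn ρ' ε K φ t r)) =
      S.map (fun s => xGL D hD K s (twistFn ρ' ε K φ t s)) := rfl
  rw [e1, e2]
  apply List.Perm.prod_eq' (hperm.map _)
  apply List.pairwise_of_forall_mem_list
  intro x hx y hy
  rw [List.mem_map] at hx hy
  obtain ⟨a, ha, rfl⟩ := hx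
  obtain ⟨b, hb, rfl⟩ := hy
  have ha' : a ∈ S := hperm.subset ha
  have hb' : b ∈ S := hperm.subset hb
  by_cases hab : a = b
  · rw [hab]; exact commute_xGL_same D hD K b _ _
  · obtain ⟨A, hA1, hA2⟩ := hA
    have hbn : b ≠ D.neg a := by
      intro h
      have hN := negOK_of_mem D hD a (hS a ha').1
      have h1 := hA1.negA a (hS a ha').1 hN.1
      have h2 := hA2.pos a (hS a ha')
      have h3 := hA2.pos b (hS b hb')
      rw [h] at h3
      omega
    exact xGL_comm_of_nil D hD K a b (hS a ha').1 (hS b hb').1 (Ne.symm hab) hbn (hcomm a ha' b hb' hab) _ _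

/-- `σ` on the ordered product of all positive roots -/
theorem sigmaGL_ordProd_flatten (A : ℕ → ℤ) (hA : ChainAdd D A) (hO : PosFacts D A) (cls : List (List ℕ))
    (hT : TwistFacts D ρ ρ' A cls) (t : ℕ → K) :
    sigmaGL D pv pv' ρ ρ' ε hG K φ (ordProd D hD K cls.flatten t) =
      ordProd D hD K cls.flatten (twistFn ρ' ε K φ t) := by
  rw [ordProd_flatten, ordProd_flatten, map_list_prod, List.map_map]
  congr 1
  apply List.map_congr_left
  intro S hS
  refine sigmaGL_ordProd_class D hD pv pv' ρ ρ' ε hG K φ S ?_ (hT.perm S hS) (hT.comm S hS) ⟨A, hA, hO⟩ t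
  intro r hr
  exact hT.good.pos r (List.mem_flatten.mpr ⟨S, hS, hr⟩)

/-- an ordered product is `σ`-fixed iff its parameters satisfy the twisting constraints -/
theorem ordProd_mem_fixSigma_iff (A : ℕ → ℤ) (hA : ChainAdd D A) (hO : PosFacts D A) (cls : List (List ℕ))
    (hT : TwistFacts D ρ ρ' A cls) (t : ℕ → K) :
    ordProd D hD K cls.flatten t ∈ fixSigma D pv pv' ρ ρ' ε hG K φ ↔
      ∀ r ∈ cls.flatten, t r = twistFn ρ' ε K φ t r := by
  rw [mem_fixSigma, sigmaGL_ordProd_flatten D hD pv pv' ρ ρ' ε hG K φ A hA hO cls hT]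
  constructor
  · intro h r hr
    exact (ordProd_injA D hD K A hA hO _ hT.good _ _ h r hr).symm
  · intro h
    apply ordProd_congr
    intro r hr
    exact (h r hr).symm

/-- every element of `U` is an ordered product over the classes -/
theorem exists_ordProd_flatten (A : ℕ → ℤ) (hA : ChainAdd D A) (hO : PosFacts D A) (cls : List (List ℕ))
    (hT : TwistFacts D ρ ρ' A cls) (u : GL D.Idx K) (hu : u ∈ D.posUnipotent K) :
    ∃ t : ℕ → K, (∀ r, r ∉ cls.flatten → t r = 0) ∧ u = ordProd D hD K cls.flatten t := by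
  rw [posUnipotent_eq_closure_gensLA D hD K A hA hO cls.flatten (hT.mem_iff)] at hu
  obtain ⟨t, ht⟩ := exists_ordProdA D hD K A hA hO _ hT.good u hu
  classical
  refine ⟨fun r => if r ∈ cls.flatten then t r else 0, fun r hr => if_neg hr, ?_⟩
  rw [ht]
  apply ordProd_congr
  intro r hr
  rw [if_pos hr]

omit hG in
theorem ordProd_mem_posUnipotent (l : List ℕ) (hl : ∀ r ∈ l, D.IsPosRoot r) (t : ℕ → K) :
    ordProd D hD K l t ∈ D.posUnipotent K := by
  have h := ordProd_mem D hD K l t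
  have hle : Subgroup.closure (gensL D K l) ≤ D.posUnipotent K := by
    rw [Subgroup.closure_le]
    rintro g ⟨r, hr, a, hg⟩
    apply Subgroup.subset_closure
    exact ⟨r, a, hl r hr, hg⟩
  exact hle h

end

end Cfsg.Agent.Lib.Helper7
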