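import Cfsg.Agent.Lib.Helper7.ChevHCard

/-! Certificates for the order of `H`: root coefficients and Smith normal forms of the Cartan matrices (helper7). -/

set_option autoImplicit false
set_option maxRecDepth 100000

namespace Cfsg.Agent.Lib.Helper7

open Cfsg Cfsg.Lie

def hcA_G2 : List (List ℤ) := [[2, -3], [-1, 2]]
def hcP_G2 : List (List ℤ) := [[2, 1], [-1, 0]]
def hcPi_G2 : List (List ℤ) := [[0, -1], [1, 2]]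
def hcQ_G2 : List (List ℤ) := [[1, -2], [0, 1]]
def hcQi_G2 : List (List ℤ) := [[1, 2], [0, 1]]
def hcRn_G2 : List (List ℕ) := [[3, 4], [3, 5], [4, 5], [5, 5], [5, 6], [6, 5], [6, 7], [7, 6], [7, 7], [8, 7], [9, 7], [9, 8]]
def hcR_G2 : List (List ℤ) := hcRn_G2.map fun r => r.map fun x => (x : ℤ) - 6
def hcD_G2 : List ℕ := [1, 1]
theorem rootCoefOKB_G2 : rootCoefOKB chevG2 hcA_G2 hcR_G2 = true := by decide +kernel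
theorem smithOKB_G2 : smithOKB chevG2 hcP_G2 hcPi_G2 hcQ_G2 hcQi_G2 hcD_G2 = true := by decide +kernel

def hcA_B2 : List (List ℤ) := [[2, -2], [-1, 2]]
def hcP_B2 : List (List ℤ) := [[2, 1], [-1, 0]]
def hcPi_B2 : List (List ℤ) := [[0, -1], [1, 2]]
def hcQ_B2 : List (List ℤ) := [[1, -2], [0, 1]]
def hcQi_B2 : List (List ℤ) := [[1, 2], [0, 1]]
def hcRn_B2 : List (List ℕ) := [[4, 5], [5, 5], [5, 6], [6, 5], [6, 7], [7, 6], [7, 7], [8, 7]]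
def hcR_B2 : List (List ℤ) := hcRn_B2.map fun r => r.map fun x => (x : ℤ) - 6
def hcD_B2 : List ℕ := [1, 2]
theorem rootCoefOKB_B2 : rootCoefOKB chevB2 hcA_B2 hcR_B2 = true := by decide +kernel
theorem smithOKB_B2 : smithOKB chevB2 hcP_B2 hcPi_B2 hcQ_B2 hcQi_B2 hcD_B2 = true := by decide +kernel

def hcA_D4 : List (List ℤ) := [[2, -1, 0, 0], [-1, 2, -1, -1], [0, -1, 2, 0], [0, -1, 0, 2]]
def hcP_D4 : List (List ℤ) := [[-1, 0, 0, 0], [2, -1, 0, 0], [-1, 2, -1, 0], [-1, 0, 1, 1]]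
def hcPi_D4 : List (List ℤ) := [[-1, 0, 0, 0], [-2, -1, 0, 0], [-3, -2, -1, 0], [2, 2, 1, 1]]
def hcQ_D4 : List (List ℤ) := [[-2, 1, 0, 0], [-3, 0, 1, 1], [-2, 0, 0, 1], [1, 0, 0, 0]]
def hcQi_D4 : List (List ℤ) := [[0, 0, 0, 1], [1, 0, 0, 2], [0, 1, -1, 1], [0, 0, 1, 2]]
def hcRn_D4 : List (List ℕ) := [[5, 4, 5, 5], [5, 5, 5, 5], [5, 5, 5, 6], [5, 5, 6, 5], [5, 5, 6, 6], [5, 6, 6, 6], [6, 5, 5, 5], [6, 5, 5, 6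
  ], [6, 5, 6, 5], [6, 5, 6, 6], [6, 6, 5, 6], [6, 6, 6, 5], [6, 6, 6, 7], [6, 6, 7, 6], [6, 7, 6, 6
  ], [6, 7, 6, 7], [6, 7, 7, 6], [6, 7, 7, 7], [7, 6, 6, 6], [7, 7, 6, 6], [7, 7, 6, 7], [7, 7, 7, 6
  ], [7, 7, 7, 7], [7, 8, 7, 7]]
def hcR_D4 : List (List ℤ) := hcRn_D4.map fun r => r.map fun x => (x : ℤ) - 6
def hcD_D4 : List ℕ := [1, 1, 2, 2]
theorem rootCoefOKB_D4 : rootCoefOKB chevD4 hcA_D4 hcR_D4 = true := by decide +kernel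
theorem smithOKB_D4 : smithOKB chevD4 hcP_D4 hcPi_D4 hcQ_D4 hcQi_D4 hcD_D4 = true := by decide +kernel

def hcA_F4 : List (List ℤ) := [[2, -1, 0, 0], [-1, 2, -2, 0], [0, -1, 2, -1], [0, 0, -1, 2]]
def hcP_F4 : List (List ℤ) := [[-1, 0, 0, 0], [2, 0, -1, 0], [-1, -1, 0, 0], [0, 2, 2, -1]]
def hcPi_F4 : List (List ℤ) := [[-1, 0, 0, 0], [1, 0, -1, 0], [-2, -1, 0, 0], [-2, -2, -2, -1]]
def hcQ_F4 : List (List ℤ) := [[-2, 1, 0, 0], [2, 0, -2, 1], [-3, 0, 2, 0], [-2, 0, 1, 0]]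
def hcQi_F4 : List (List ℤ) := [[0, 0, 1, -2], [1, 0, 2, -4], [0, 0, 2, -3], [0, 1, 2, -2]]
def hcRn_F4 : List (List ℕ) := [[4, 2, 3, 4], [4, 2, 3, 5], [4, 2, 4, 5], [4, 3, 4, 5], [4, 4, 4, 5], [4, 4, 5, 5], [4, 4, 5, 6], [5, 3, 4, 5
  ], [5, 4, 4, 5], [5, 4, 5, 5], [5, 4, 5, 6], [5, 5, 5, 5], [5, 5, 5, 6], [5, 5, 6, 6], [5, 6, 6, 6
  ], [6, 4, 4, 5], [6, 4, 5, 5], [6, 4, 5, 6], [6, 5, 5, 5], [6, 5, 5, 6], [6, 5, 6, 6], [6, 6, 5, 5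
  ], [6, 6, 5, 6], [6, 6, 6, 5], [6, 6, 6, 7], [6, 6, 7, 6], [6, 6, 7, 7], [6, 7, 6, 6], [6, 7, 7, 6
  ], [6, 7, 7, 7], [6, 8, 7, 6], [6, 8, 7, 7], [6, 8, 8, 7], [7, 6, 6, 6], [7, 7, 6, 6], [7, 7, 7, 6
  ], [7, 7, 7, 7], [7, 8, 7, 6], [7, 8, 7, 7], [7, 8, 8, 7], [7, 9, 8, 7], [8, 8, 7, 6], [8, 8, 7, 7
  ], [8, 8, 8, 7], [8, 9, 8, 7], [8, 10, 8, 7], [8, 10, 9, 7], [8, 10, 9, 8]]
def hcR_F4 : List (List ℤ) := hcRn_F4.map fun r => r.map fun x => (x : ℤ) - 6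
def hcD_F4 : List ℕ := [1, 1, 1, 1]
theorem rootCoefOKB_F4 : rootCoefOKB chevF4 hcA_F4 hcR_F4 = true := by decide +kernel
theorem smithOKB_F4 : smithOKB chevF4 hcP_F4 hcPi_F4 hcQ_F4 hcQi_F4 hcD_F4 = true := by decide +kernel

end Cfsg.Agent.Lib.Helper7
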