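import Cfsg.Agent.Lib.Helper7.ChevH
import Cfsg.Agent.Lib.Helper7.ChevFundMain

set_option autoImplicit false

namespace Cfsg.Agent.Lib.Helper7

open Cfsg Cfsg.Lie Matrix

/-- the character `s ↦ ∏_i c_i ^ A_{p_i, s}` -/
def prodChar (D : ChevalleyDatum) (F : Type*) [Field F] (L : List ℕ) (c : ℕ → F) (s : ℕ) : F :=
  (L.map fun i => c i ^ D.cartan i s).prod

theorem prodChar_one (D : ChevalleyDatum) (F : Type*) [Field F] (L : List ℕ) (s : ℕ) :
    prodChar D F L (fun _ => 1) s = 1 := by
  unfold prodChar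
  induction L with
  | nil => rfl
  | cons a L ih => simp [ih]

theorem prodChar_mul (D : ChevalleyDatum) (F : Type*) [Field F] (L : List ℕ) (c c' : ℕ → F) (s : ℕ) :
    prodChar D F L (fun i => c i * c' i) s = prodChar D F L c s * prodChar D F L c' s := by
  unfold prodChar
  induction L with
  | nil => simp
  | cons a L ih =>
    simp only [List.map_cons, List.prod_cons]
    rw [ih, mul_zpow]
    ring

theorem prodChar_inv (D : ChevalleyDatum) (F : Type*) [Field F] (L : List ℕ) (c : ℕ → F) (s : ℕ) :
    prodChar D F L (fun i => (c i)⁻¹) s = (prodChar D F L c s)⁻¹ := by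
  unfold prodChar
  induction L with
  | nil => simp
  | cons a L ih =>
    simp only [List.map_cons, List.prod_cons]
    rw [ih, _root_.inv_zpow, mul_inv]

theorem zpow_list_sum {F : Type*} [Field F] (t : F) (ht : t ≠ 0) (L : List ℕ) (a b : ℕ → ℤ) :
    t ^ (L.map fun k => a k * b k).sum = (L.map fun k => (t ^ a k) ^ b k).prod := by
  induction L with
  | nil => simp
  | cons x L ih =>
    simp only [List.map_cons, List.sum_cons, List.prod_cons]
    rw [zpow_add₀ ht, ih, _root_.zpow_mul]

section
variable (D : ChevalleyDatum) (hD : D ∈ [chevG2, chevB2, chevD4, chevF4, chevE6, chevE7, chevE8])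
variable (F : Type*) [Field F]
include hD

theorem wordMat_flatMap_hWord (c : ℕ → F) (L : List ℕ) (hL : ∀ i ∈ L, i < D.rank ∧ c i ≠ 0) :
    D.wordMat F (L.flatMap fun i => D.hWord (D.simple i) (c i)) = diagChar D F (prodChar D F L c) := by
  induction L with
  | nil =>
    show D.wordMat F [] = _
    have : prodChar D F [] c = fun _ => 1 := by funext s; rfl
    rw [this, diagChar_one]; rfl
  | cons a L ih =>
    rw [List.flatMap_cons, wordMat_append, ih (fun i hi => hL i (List.mem_cons_of_mem _ hi))]
    obtain ⟨ha, hca⟩ := hL a (List.mem_cons_self ..)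
    have h1 : D.wordMat F (D.hWord (D.simple a) (c a)) = diagChar D F (fun s => c a ^ D.cartan a s) :=
      hMat_fund D a (fundFacts_of_mem D hD a ha) F (c a) hca
    rw [h1, diagChar_mul]
    rfl

/-- every element of `H` is a product of `h_{p_i}(c_i)` over the fundamental roots -/
theorem mem_diagonalSubgroup_prodChar (g : GL D.Idx F) (hg : g ∈ D.diagonalSubgroup F) :
    ∃ c : ℕ → F, (∀ i, c i ≠ 0) ∧
      (g : Matrix D.Idx D.Idx F) = diagChar D F (prodChar D F (List.range D.rank) c) := by
  unfold ChevalleyDatum.diagonalSubgroup at hg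
  induction hg using Subgroup.closure_induction with
  | mem g hg =>
    obtain ⟨r, t, hr, ht, hgm⟩ := hg
    refine ⟨fun k => t ^ (D.coroot.getD r #[]).getD k 0, fun k => zpow_ne_zero _ ht, ?_⟩
    rw [hgm, hMat_eq_diagChar D hD F r hr t ht]
    congr 1
    funext s
    unfold carR prodChar
    exact zpow_list_sum t ht _ _ _
  | one =>
    refine ⟨fun _ => 1, fun _ => one_ne_zero, ?_⟩
    have : prodChar D F (List.range D.rank) (fun _ => (1 : F)) = fun _ => 1 := by
      funext s; exact prodChar_one D F _ s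
    rw [this, diagChar_one]; rfl
  | mul g h _ _ ihg ihh =>
    obtain ⟨c, h1, h2⟩ := ihg
    obtain ⟨c', h3, h4⟩ := ihh
    refine ⟨fun i => c i * c' i, fun i => mul_ne_zero (h1 i) (h3 i), ?_⟩
    rw [Units.val_mul, h2, h4, diagChar_mul]
    congr 1
    funext s
    exact (prodChar_mul D F _ c c' s).symm
  | inv g _ ihg =>
    obtain ⟨c, h1, h2⟩ := ihg
    refine ⟨fun i => (c i)⁻¹, fun i => inv_ne_zero (h1 i), ?_⟩
    have hne : ∀ s < D.nroots, prodChar D F (List.range D.rank) c s ≠ 0 := by
      intro s _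
      unfold prodChar
      apply List.prod_ne_zero
      intro h0
      rw [List.mem_map] at h0
      obtain ⟨i, -, hi⟩ := h0
      exact zpow_ne_zero _ (h1 i) hi
    rw [coe_inv_of_diagChar D F g _ hne h2]
    congr 1
    funext s
    exact (prodChar_inv D F _ c s).symm

theorem diagonalSubgroup_eq_word (g : GL D.Idx F) (hg : g ∈ D.diagonalSubgroup F) :
    ∃ c : ℕ → F, (∀ i < D.rank, c i ≠ 0) ∧
      (g : Matrix D.Idx D.Idx F) =
        D.wordMat F ((List.range D.rank).flatMap fun i => D.hWord (D.simple i) (c i)) := by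
  obtain ⟨c, h1, h2⟩ := mem_diagonalSubgroup_prodChar D hD F g hg
  refine ⟨c, fun i _ => h1 i, ?_⟩
  rw [h2, wordMat_flatMap_hWord D hD F c _ (fun i hi => ⟨List.mem_range.mp hi, h1 i⟩)]

end

end Cfsg.Agent.Lib.Helper7
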