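import Cfsg.Agent.Lib.Helper7.ChevLongRoot
import Cfsg.Agent.Lib.Helper7.ChevLevi3
import Cfsg.Agent.Lib.Helper7.ChevHWord

/-! The centraliser of a highest root element `x_{r₀}(1)` (helper7). -/

set_option autoImplicit false

namespace Cfsg.Agent.Lib.Helper7

open Cfsg Cfsg.Lie Matrix
open Cfsg.Agent.Lib.Helper3.BN

/-- table check: `j₀` is the only fundamental root not orthogonal to the highest root `r₀`, with
`⟨r₀, p_{j₀}⟩ = 1`; `negL` contains the negatives of the other fundamental roots and consists of roots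
`s ≠ ±r₀` such that `r₀ + s` is not a root -/
def centOKB (D : ChevalleyDatum) (j₀ : ℕ) (negL : List ℕ) : Bool :=
  highOKB D && decide (j₀ < D.rank) && (D.cartan j₀ (D.nroots - 1) == 1) &&
    (D.reflectRoot j₀ (D.nroots - 1) != D.nroots - 1) &&
    ((List.range D.rank).all fun i => i == j₀ ||
      ((D.cartan i (D.nroots - 1) == 0) && negL.contains (D.neg (D.simple i)))) &&
    (negL.all fun s => decide (s < D.nroots) && (s != D.nroots - 1) && (s != 0) &&
      (D.commTerms (D.nroots - 1) s).isEmpty)

theorem centOKB_spec (D : ChevalleyDatum) (j₀ : ℕ) (negL : List ℕ) (h : centOKB D j₀ negL = true) :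
    highOKB D = true ∧ j₀ < D.rank ∧ D.cartan j₀ (D.nroots - 1) = 1 ∧
      D.reflectRoot j₀ (D.nroots - 1) ≠ D.nroots - 1 ∧
      (∀ i < D.rank, i ≠ j₀ → D.cartan i (D.nroots - 1) = 0 ∧ D.neg (D.simple i) ∈ negL) ∧
      (∀ s ∈ negL, s < D.nroots ∧ s ≠ D.nroots - 1 ∧ s ≠ 0 ∧ D.commTerms (D.nroots - 1) s = []) := by
  unfold centOKB at h
  simp only [Bool.and_eq_true, decide_eq_true_eq, beq_iff_eq, bne_iff_ne, List.all_eq_true, List.mem_range,
    Bool.or_eq_true, List.isEmpty_iff, List.contains_iff_mem] at h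
  obtain ⟨⟨⟨⟨⟨h1, h2⟩, h3⟩, h4⟩, h5⟩, h6⟩ := h
  refine ⟨h1, h2, h3, h4, fun i hi hne => ?_, fun s hs => ?_⟩
  · rcases h5 i hi with h | h
    · exact absurd h hne
    · exact h
  · obtain ⟨⟨⟨a, b⟩, c⟩, d⟩ := h6 s hs
    exact ⟨a, b, c, d⟩

theorem le_normalizer_closure {G : Type*} [Group G] (H : Subgroup G) (S : Set G)
    (h1 : ∀ h ∈ H, ∀ x ∈ S, h * x * h⁻¹ ∈ Subgroup.closure S) :
    H ≤ Subgroup.normalizer (Subgroup.closure S : Set G) := by
  have key : ∀ h ∈ H, ∀ x ∈ Subgroup.closure S, h * x * h⁻¹ ∈ Subgroup.closure S := by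
    intro h hh x hx
    induction hx using Subgroup.closure_induction with
    | mem x hx => exact h1 h hh x hx
    | one => simp
    | mul a b _ _ iha ihb =>
      have : h * (a * b) * h⁻¹ = (h * a * h⁻¹) * (h * b * h⁻¹) := by group
      rw [this]; exact Subgroup.mul_mem _ iha ihb
    | inv a _ iha =>
      have : h * a⁻¹ * h⁻¹ = (h * a * h⁻¹)⁻¹ := by group
      rw [this]; exact Subgroup.inv_mem _ iha
  intro h hh
  rw [Subgroup.mem_set_normalizer_iff]
  intro x
  constructor
  · exact key h hh x
  · intro hx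
    have := key h⁻¹ (Subgroup.inv_mem _ hh) _ hx
    have e : h⁻¹ * (h * x * h⁻¹) * h⁻¹⁻¹ = x := by group
    rwa [e] at this

section
variable (D : ChevalleyDatum) (hD : D ∈ [chevG2, chevB2, chevD4, chevF4, chevE6, chevE7, chevE8])
variable (F : Type*) [Field F]

/-- the subgroup `⟨U, X_s : s ∈ negL⟩` -/
def centGen (negL : List ℕ) : Subgroup (GL D.Idx F) :=
  D.posUnipotent F ⊔ Subgroup.closure {g : GL D.Idx F | ∃ s ∈ negL, ∃ c : F,
    (g : Matrix D.Idx D.Idx F) = D.x F s c}

include hD

theorem xGL_param_inj (r : ℕ) (hr : r < D.nroots) (t t' : F) (h : xGL D hD F r t = xGL D hD F r t') :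
    t = t' := by
  have h1 : xGL D hD F r (t - t') = 1 := by
    rw [sub_eq_add_neg, ← xGL_mul, ← xGL_inv, h, mul_inv_cancel]
  have h2 : D.x F r (t - t') = 1 := by
    rw [← coe_xGL D hD F, h1]; rfl
  have hN := negOK_of_mem D hD r hr
  exact sub_eq_zero.mp (eq_zero_of_x_eq_one D F r hr hN.1 hN.2 _ h2)

theorem Sends.root_eq {a : GL D.Idx F} {r r' r'' : ℕ} (hr' : r' < D.nroots) (hr'' : r'' < D.nroots)
    (h : Sends D hD F a r r') (h' : Sends D hD F a r r'') : r' = r'' := by
  obtain ⟨c, hc, h1⟩ := h
  obtain ⟨c', hc', h2⟩ := h'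
  have := (h1 1).symm.trans (h2 1)
  exact xGL_root_inj D hD F _ _ hr' hr'' _ _ (by simpa using hc) this

/-- `U` centralises the highest root elements -/
theorem pos_comm_high (hH : highOKB D = true) (u : GL D.Idx F) (hu : u ∈ D.posUnipotent F) (t : F) :
    u * xGL D hD F (D.nroots - 1) t = xGL D hD F (D.nroots - 1) t * u := by
  obtain ⟨hpos, hneg, h0, hcomm⟩ := highOKB_spec D hH
  unfold ChevalleyDatum.posUnipotent at hu
  induction hu using Subgroup.closure_induction with
  | mem g hg =>
    obtain ⟨r, v, hr, hgm⟩ := hg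
    have hg' : g = xGL D hD F r v := Units.ext (by rw [hgm, coe_xGL])
    rw [hg']
    by_cases hrr : r = D.nroots - 1
    · rw [hrr, xGL_mul, xGL_mul, add_comm]
    · have hne : r ≠ D.neg (D.nroots - 1) := by
        rw [hneg]; rintro rfl; exact h0 hr
      have h := comm_formula_GL D hD F (D.nroots - 1) r hpos.1 hr.1 hrr hne t v
      rw [h]
      unfold ChevalleyDatum.commWord
      rw [hcomm r hr hrr]
      simp [wordGL]
  | one => simp
  | mul a b _ _ iha ihb => rw [mul_assoc, ihb, ← mul_assoc, iha, mul_assoc]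
  | inv a _ iha =>
    rw [← mul_right_inj a, ← mul_assoc, mul_inv_cancel, one_mul, ← mul_assoc, iha, mul_assoc,
      mul_inv_cancel, mul_one]

variable {D F} in
omit hD in
theorem centGen_comm_of_gens {negL : List ℕ} (z : GL D.Idx F)
    (hU : ∀ u ∈ D.posUnipotent F, u * z = z * u)
    (hK : ∀ g : GL D.Idx F, (∃ s ∈ negL, ∃ c : F, (g : Matrix D.Idx D.Idx F) = D.x F s c) → g * z = z * g)
    (r : GL D.Idx F) (hr : r ∈ centGen D F negL) : r * z = z * r := by
  have hle : centGen D F negL ≤ Subgroup.centralizer {z} := by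
    unfold centGen
    apply sup_le
    · intro u hu
      rw [Subgroup.mem_centralizer_singleton_iff]
      exact hU u hu
    · rw [Subgroup.closure_le]
      intro g hg
      rw [SetLike.mem_coe, Subgroup.mem_centralizer_singleton_iff]
      exact hK g hg
  have := hle hr
  rwa [Subgroup.mem_centralizer_singleton_iff] at this

/-- `⟨U, X_s : s ∈ negL⟩` centralises the highest root elements -/
theorem centGen_comm_high (j₀ : ℕ) (negL : List ℕ) (hC : centOKB D j₀ negL = true) (r : GL D.Idx F)
    (hr : r ∈ centGen D F negL) (t : F) :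
    r * xGL D hD F (D.nroots - 1) t = xGL D hD F (D.nroots - 1) t * r := by
  obtain ⟨hH, hj₀, hcar, hrefl, hJ, hneg⟩ := centOKB_spec D j₀ negL hC
  obtain ⟨hpos, hneg0, h0, hcomm⟩ := highOKB_spec D hH
  apply centGen_comm_of_gens _ (fun u hu => pos_comm_high D hD F hH u hu t) _ r hr
  rintro g ⟨s, hs, c, hgm⟩
  have hg' : g = xGL D hD F s c := Units.ext (by rw [hgm, coe_xGL])
  obtain ⟨hs1, hs2, hs3, hs4⟩ := hneg s hs
  rw [hg']
  have h := comm_formula_GL D hD F (D.nroots - 1) s hpos.1 hs1 hs2 (by rw [hneg0]; exact hs3) t c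
  rw [h]
  unfold ChevalleyDatum.commWord
  rw [hs4]
  simp [wordGL]

/-- `H` normalises `⟨U, X_s : s ∈ negL⟩` -/
theorem diagonal_le_normalizer_centGen (negL : List ℕ) :
    D.diagonalSubgroup F ≤ Subgroup.normalizer (centGen D F negL : Set (GL D.Idx F)) := by
  unfold centGen
  refine le_trans ?_ (Subgroup.normalizer_inf_normalizer_le_normalizer_sup _ _)
  apply le_inf (diagonalSubgroup_le_normalizer_posUnipotent D hD F)
  apply le_normalizer_closure
  rintro h hh x ⟨s, hs, c, hxm⟩
  obtain ⟨χ, hχ, hhm⟩ := mem_diagonalSubgroup_char D hD F h hh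
  have hx' : x = xGL D hD F s c := Units.ext (by rw [hxm, coe_xGL])
  apply Subgroup.subset_closure
  refine ⟨s, hs, χ s * c, ?_⟩
  rw [hx', diagGL_xGL_comm D hD F h χ hχ hhm s c, mul_assoc, mul_inv_cancel, mul_one, coe_xGL]

theorem xGL_mem_centGen_of_pos (negL : List ℕ) (r : ℕ) (hr : D.IsPosRoot r) (t : F) :
    xGL D hD F r t ∈ centGen D F negL :=
  Subgroup.mem_sup_left (xGL_pos_mem D hD F r hr t)

theorem xGL_mem_centGen_of_mem (negL : List ℕ) (s : ℕ) (hs : s ∈ negL) (t : F) :
    xGL D hD F s t ∈ centGen D F negL :=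
  Subgroup.mem_sup_right (Subgroup.subset_closure ⟨s, hs, t, coe_xGL D hD F s t⟩)

/-- words in `x_{±p_i}`, `i ≠ j₀`, lie in `⟨U, X_s : s ∈ negL⟩` -/
theorem wordGL_mem_centGen (negL : List ℕ) (w : List (ℕ × F))
    (hw : ∀ e ∈ w, D.IsPosRoot e.1 ∨ e.1 ∈ negL) : wordGL D hD F w ∈ centGen D F negL := by
  unfold wordGL
  apply Subgroup.list_prod_mem
  intro g hg
  rw [List.mem_map] at hg
  obtain ⟨e, he, rfl⟩ := hg
  rcases hw e he with h | h
  · exact xGL_mem_centGen_of_pos D hD F negL _ h _
  · exact xGL_mem_centGen_of_mem D hD F negL _ h _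


theorem chainChar_prodChar (L : List ℕ) (hL : ∀ i ∈ L, i < D.rank) (c : ℕ → F) (hc : ∀ i, c i ≠ 0) :
    ChainChar D F (prodChar D F L c) := by
  induction L with
  | nil =>
    have : prodChar D F [] c = fun _ => 1 := by funext s; rfl
    rw [this]; exact chainChar_one D F
  | cons a L ih =>
    have ha : a < D.rank := hL a List.mem_cons_self
    have h1 := chainChar_zpow D F (D.cartan a) (chainAdd_cartan D a (hxFacts_of_mem D hD a ha)) (c a) (hc a)
    have h2 := ih (fun i hi => hL i (List.mem_cons_of_mem _ hi))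
    have e : prodChar D F (a :: L) c = fun s => (fun s => c a ^ D.cartan a s) s * prodChar D F L c s := by
      funext s
      unfold prodChar
      simp
    rw [e]
    exact h1.mul h2

omit hD in
theorem prod_range_single {M : Type*} [Monoid M] (f : ℕ → M) (j₀ : ℕ) (n : ℕ)
    (hf : ∀ i < n, i ≠ j₀ → f i = 1) :
    ((List.range n).map f).prod = if j₀ < n then f j₀ else 1 := by
  induction n with
  | zero => simp
  | succ n ih =>
    rw [List.range_succ, List.map_append, List.prod_append, ih (fun i hi => hf i (by omega))]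
    simp only [List.map_cons, List.map_nil, List.prod_cons, List.prod_nil, mul_one]
    rcases lt_trichotomy j₀ n with h | h | h
    · rw [if_pos h, if_pos (by omega), hf n (by omega) (by omega), mul_one]
    · rw [if_neg (by omega), if_pos (by omega), one_mul, h]
    · rw [if_neg (by omega), if_neg (by omega), hf n (by omega) (by omega), mul_one]

theorem hGL_one (r : ℕ) : wordGL D hD F (D.hWord r 1) = 1 := by
  unfold ChevalleyDatum.hWord
  rw [wordGL_append]
  exact mul_eq_one_comm.mp (nGL_neg_one_mul D hD F r)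

/-- products of `h_{p_i}(c_i)` with `c_{j₀} = 1` lie in `⟨U, X_s : s ∈ negL⟩` -/
theorem hWord_flatMap_mem_centGen (j₀ : ℕ) (negL : List ℕ) (hC : centOKB D j₀ negL = true) (c : ℕ → F)
    (hc : c j₀ = 1) (L : List ℕ) (hL : ∀ i ∈ L, i < D.rank) :
    wordGL D hD F (L.flatMap fun i => D.hWord (D.simple i) (c i)) ∈ centGen D F negL := by
  obtain ⟨hH, hj₀, hcar, hrefl, hJ, hneg⟩ := centOKB_spec D j₀ negL hC
  induction L with
  | nil =>
    have : wordGL D hD F ([] : List (ℕ × F)) = 1 := by simp [wordGL]
    rw [List.flatMap_nil, this]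
    exact Subgroup.one_mem _
  | cons a L ih =>
    rw [List.flatMap_cons, wordGL_append]
    apply Subgroup.mul_mem _ _ (ih (fun i hi => hL i (List.mem_cons_of_mem _ hi)))
    have ha : a < D.rank := hL a List.mem_cons_self
    by_cases haj : a = j₀
    · rw [haj, hc, hGL_one]
      exact Subgroup.one_mem _
    · apply wordGL_mem_centGen
      intro e he
      have hp := (parFacts_of_mem D hD).simplePos a ha
      have hn := (hJ a ha haj).2
      unfold ChevalleyDatum.hWord ChevalleyDatum.nWord at he
      simp only [List.cons_append, List.nil_append, List.mem_cons, List.not_mem_nil, or_false] at he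
      rcases he with rfl | rfl | rfl | rfl | rfl | rfl
      · exact Or.inl hp
      · exact Or.inr hn
      · exact Or.inl hp
      · exact Or.inl hp
      · exact Or.inr hn
      · exact Or.inl hp

/-- the centraliser in `G` of the highest root element `x_{r₀}(1)` is `⟨U, X_s : s ∈ negL⟩` -/
theorem centralizer_high (j₀ : ℕ) (negL : List ℕ) (hC : centOKB D j₀ negL = true) (t : GL D.Idx F)
    (ht : (t : Matrix D.Idx D.Idx F) = D.x F (D.nroots - 1) 1) :
    D.group F ⊓ Subgroup.centralizer {t} = centGen D F negL := by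
  obtain ⟨hH, hj₀, hcar, hrefl, hJ, hneg⟩ := centOKB_spec D j₀ negL hC
  obtain ⟨hpos, hneg0, h0, hcomm⟩ := highOKB_spec D hH
  have ht' : t = xGL D hD F (D.nroots - 1) 1 := Units.ext (by rw [ht, coe_xGL])
  apply le_antisymm
  · intro g hg
    rw [Subgroup.mem_inf, Subgroup.mem_centralizer_singleton_iff] at hg
    obtain ⟨hgG, hgt⟩ := hg
    -- step (i): `g` normalises the highest root subgroup
    have hgS : Sends D hD F g (D.nroots - 1) (D.nroots - 1) := by
      obtain ⟨b, hb, n, hn, u, hu, hgeq⟩ := canon_exists D hD F g hgG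
      have huU := uMinus_le_posUnipotent D F n hu
      obtain ⟨L, hL, hact⟩ := exists_actsAs D hD F n hn
      have hs : reflWord D L (D.nroots - 1) < D.nroots := (hact _ hpos.1).1
      have hsn := hact.sends _ hpos.1
      have hsb := borel_sends_high D hD F hH b hb
      have hsu := pos_sends_high D hD F hH u huU
      have hut := pos_comm_high D hD F hH u huU 1
      rw [← ht'] at hut
      have key : n * t * n⁻¹ = b⁻¹ * t * b⁻¹⁻¹ := by
        have e1 : b * n * t * u = t * b * n * u := by
          calc b * n * t * u = b * n * (t * u) := by group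
            _ = b * n * (u * t) := by rw [hut]
            _ = (b * n * u) * t := by group
            _ = t * (b * n * u) := by rw [← hgeq, hgt]
            _ = t * b * n * u := by group
        have e2 := mul_right_cancel e1
        calc n * t * n⁻¹ = b⁻¹ * (b * n * t) * n⁻¹ := by group
          _ = b⁻¹ * (t * b * n) * n⁻¹ := by rw [e2]
          _ = b⁻¹ * t * b⁻¹⁻¹ := by group
      have hroot : reflWord D L (D.nroots - 1) = D.nroots - 1 := by
        obtain ⟨c, hc, h1⟩ := hsn
        obtain ⟨c', hc', h1'⟩ := hsb.inv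
        have h2 := (h1 1).symm.trans ((ht' ▸ key).trans (h1' 1))
        exact xGL_root_inj D hD F _ _ hs hpos.1 _ _ (by simpa using hc) h2
      rw [hroot] at hsn
      have := (hsu.mul hsn).mul hsb
      rwa [← mul_assoc, ← hgeq] at this
    -- step (ii): the stabiliser is a parabolic subgroup
    obtain ⟨P, hP⟩ : ∃ P, P = chevBNPair D hD F := ⟨_, rfl⟩
    obtain ⟨M, hMdef⟩ : ∃ M : Subgroup ↥(D.group F), M = (highStab D hD F).subgroupOf (D.group F) :=
      ⟨_, rfl⟩
    have hPB : ∀ g : ↥(D.group F), g ∈ P.B ↔ (g : GL D.Idx F) ∈ D.borelSubgroup F := by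
      rw [hP]; intro g; rw [chevBNPair_B, Subgroup.mem_subgroupOf]
    have hM : P.B ≤ M := by
      intro b hb
      rw [hMdef, Subgroup.mem_subgroupOf]
      exact borel_sends_high D hD F hH _ ((hPB b).mp hb)
    have h1 := subgroup_eq_parabolic P M hM
    have hgM : (⟨g, hgG⟩ : ↥(D.group F)) ∈ M := by
      rw [hMdef, Subgroup.mem_subgroupOf]; exact hgS
    rw [h1] at hgM
    have hle : P.parabolic {s | s ∈ P.S ∧ s ∈ M} ≤
        (D.diagonalSubgroup F ⊔ centGen D F negL).subgroupOf (D.group F) := by
      unfold BNPair.parabolic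
      apply sup_le
      · intro b hb
        rw [Subgroup.mem_subgroupOf]
        have hb' := (hPB b).mp hb
        have hBle : D.borelSubgroup F ≤ D.diagonalSubgroup F ⊔ centGen D F negL := by
          unfold ChevalleyDatum.borelSubgroup
          exact sup_le (le_trans (le_sup_left : D.posUnipotent F ≤ centGen D F negL) le_sup_right)
            le_sup_left
        exact hBle hb'
      · rw [Subgroup.closure_le]
        rintro s ⟨hs, hsM⟩
        have hs' : s ∈ fundSet D F := by rw [hP] at hs; exact hs
        obtain ⟨i, hi, hsm⟩ := hs'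
        have hsn := coe_eq_nFund_of_mem_fundSet D hD F s i hsm
        rw [hMdef, Subgroup.mem_subgroupOf, hsn] at hsM
        have hact := (actsAs_nFund D hD F i hi).sends _ hpos.1
        have hlt : D.reflectRoot i (D.nroots - 1) < D.nroots := (actsAs_nFund D hD F i hi _ hpos.1).1
        have hroot := Sends.root_eq D hD F hlt hpos.1 hact hsM
        have hij : i ≠ j₀ := by rintro rfl; exact hrefl hroot
        show s ∈ (D.diagonalSubgroup F ⊔ centGen D F negL).subgroupOf (D.group F)
        rw [Subgroup.mem_subgroupOf, hsn]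
        apply Subgroup.mem_sup_right
        unfold nFund
        apply wordGL_mem_centGen
        intro e he
        have hp := (parFacts_of_mem D hD).simplePos i hi
        have hn := (hJ i hi hij).2
        unfold ChevalleyDatum.nWord at he
        simp only [List.mem_cons, List.not_mem_nil, or_false] at he
        rcases he with rfl | rfl | rfl
        · exact Or.inl hp
        · exact Or.inr hn
        · exact Or.inl hp
    -- step (iii): split off the diagonal part
    have hg2 := hle hgM
    rw [Subgroup.mem_subgroupOf] at hg2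
    have hg3 : g ∈ ((D.diagonalSubgroup F ⊔ centGen D F negL : Subgroup (GL D.Idx F)) :
        Set (GL D.Idx F)) := hg2
    rw [Subgroup.coe_mul_of_left_le_normalizer_right _ _ (diagonal_le_normalizer_centGen D hD F negL)] at hg3
    obtain ⟨h, hh, r, hr, hgeq⟩ := Set.mem_mul.mp hg3
    have hrt := centGen_comm_high D hD F j₀ negL hC r hr 1
    rw [← ht'] at hrt
    have hht : h * t = t * h := by
      have : h * t * r = t * h * r := by
        rw [mul_assoc, ← hrt, ← mul_assoc, hgeq, hgt, ← hgeq, mul_assoc]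
      exact mul_right_cancel this
    obtain ⟨c, hc, hhm⟩ := mem_diagonalSubgroup_prodChar D hD F h hh
    have hχ := chainChar_prodChar D hD F (List.range D.rank) (fun i hi => List.mem_range.mp hi) c hc
    have hcomm1 := diagGL_xGL_comm D hD F h _ hχ hhm (D.nroots - 1) 1
    rw [← ht', hht, ht'] at hcomm1
    have hχ1 := xGL_param_inj D hD F _ hpos.1 _ _ (mul_right_cancel hcomm1)
    have hcj : c j₀ = 1 := by
      unfold prodChar at hχ1
      rw [prod_range_single (fun i => c i ^ D.cartan i (D.nroots - 1)) j₀ D.rank ?_, if_pos hj₀, hcar,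
        mul_one, zpow_one] at hχ1
      · exact hχ1.symm
      · intro i hi hij
        show c i ^ D.cartan i (D.nroots - 1) = 1
        rw [(hJ i hi hij).1, zpow_zero]
    have hh' : h = wordGL D hD F ((List.range D.rank).flatMap fun i => D.hWord (D.simple i) (c i)) := by
      apply Units.ext
      rw [coe_wordGL, hhm, wordMat_flatMap_hWord D hD F c _ (fun i hi => ⟨List.mem_range.mp hi, hc i⟩)]
    rw [← hgeq]
    apply Subgroup.mul_mem _ _ hr
    rw [hh']
    exact hWord_flatMap_mem_centGen D hD F j₀ negL hC c hcj _ (fun i hi => List.mem_range.mp hi)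
  · intro r hr
    rw [Subgroup.mem_inf, Subgroup.mem_centralizer_singleton_iff]
    constructor
    · have hle : centGen D F negL ≤ D.group F := by
        unfold centGen
        apply sup_le (le_trans (posUnipotent_le_borel D hD F) (borel_le_group D hD F))
        rw [Subgroup.closure_le]
        rintro g ⟨s, hs, c, hgm⟩
        have hg' : g = xGL D hD F s c := Units.ext (by rw [hgm, coe_xGL])
        rw [hg']
        exact xGL_mem_group D hD F s c
      exact hle hr
    · rw [ht']
      exact centGen_comm_high D hD F j₀ negL hC r hr 1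

end

end Cfsg.Agent.Lib.Helper7
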