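import Cfsg.Agent.Lib.Helper7.ChevWeylPerm

/-! The Weyl group `N/H` of a Chevalley group acts faithfully on the roots (helper7). -/

set_option autoImplicit false

namespace Cfsg.Agent.Lib.Helper7

open Cfsg Cfsg.Lie Matrix
open Cfsg.Agent.Lib.Helper3.BN Cfsg.Agent.Lib.Helper3.WordLen

section
variable (D : ChevalleyDatum) (hD : D ∈ [chevG2, chevB2, chevD4, chevF4, chevE6, chevE7, chevE8])
variable (F : Type*) [Field F]
include hD

/-- if `n⁻¹ X_p n = X_a` with `a` positive then `ℓ(s_p w) > ℓ(w)` -/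
theorem len_lt_of_pos (n : ↥(D.group F)) (hn : n ∈ (chevBNPair D hD F).N) (s : ↥(D.group F))
    (hs : s ∈ (chevBNPair D hD F).S) (i : ℕ) (hi : i < D.rank) (hsn : (s : GL D.Idx F) = nFund D hD F i)
    (a : ℕ) (ha : D.IsPosRoot a) (c : F)
    (hconj : ∀ t : F, (n : GL D.Idx F)⁻¹ * xGL D hD F (D.simple i) t * (n : GL D.Idx F) = xGL D hD F a (c * t)) :
    len (Sbar (chevBNPair D hD F)) (mkW (chevBNPair D hD F) n hn) <
      len (Sbar (chevBNPair D hD F)) (sb (chevBNPair D hD F) s hs * mkW (chevBNPair D hD F) n hn) := by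
  obtain ⟨P, hP⟩ : ∃ P, P = chevBNPair D hD F := ⟨_, rfl⟩
  have hs' : s ∈ P.S := by rw [hP]; exact hs
  have hn' : n ∈ P.N := by rw [hP]; exact hn
  have hgoal : len (Sbar P) (mkW P n hn') < len (Sbar P) (sb P s hs' * mkW P n hn') := by
    have hPB : ∀ g : ↥(D.group F), g ∈ P.B ↔ (g : GL D.Idx F) ∈ D.borelSubgroup F := by
      rw [hP]; exact mem_B_iff D hD F
    by_contra hcon
    push Not at hcon
    have hA : ∀ g ∈ C P (mkW P n hn'), s * g ∈ C P (sb P s hs' * mkW P n hn') := by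
      intro g hg
      rw [C_mk, mem_dc] at hg
      obtain ⟨b₁, hb₁, b₂, hb₂, rfl⟩ := hg
      have hsnN : s * n ∈ P.N := P.N.mul_mem (P.subset hs') hn'
      have : sb P s hs' * mkW P n hn' = mkW P (s * n) hsnN := rfl
      rw [this, C_mk, mem_dc]
      obtain ⟨c₁, hc₁, c₂, hc₂, he⟩ := nFund_mul_borel_mul_of_pos D hD F i hi (n : GL D.Idx F)
        a ha _ hconj (b₁ : GL D.Idx F) ((hPB b₁).mp hb₁)
      refine ⟨⟨c₁, borel_le_group D hD F hc₁⟩, (hPB _).mpr hc₁,
        ⟨c₂, borel_le_group D hD F hc₂⟩ * b₂, P.B.mul_mem ((hPB _).mpr hc₂) hb₂, ?_⟩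
      apply Subtype.ext
      show (s : GL D.Idx F) * ((b₁ : GL D.Idx F) * (n : GL D.Idx F) * (b₂ : GL D.Idx F)) =
        c₁ * ((s : GL D.Idx F) * (n : GL D.Idx F)) * (c₂ * (b₂ : GL D.Idx F))
      rw [hsn]
      have e : nFund D hD F i * ((b₁ : GL D.Idx F) * (n : GL D.Idx F) * (b₂ : GL D.Idx F)) =
          (nFund D hD F i * (b₁ : GL D.Idx F) * (n : GL D.Idx F)) * (b₂ : GL D.Idx F) := by group
      rw [e, he]; group
    obtain ⟨g₀, hg₀, hsg₀⟩ := B_lemma P hs' hcon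
    have h5 := eq_of_common P (hA g₀ hg₀) hsg₀
    exact sb_ne_one P hs' (mul_eq_right.mp h5)
  subst hP
  exact hgoal

/-- an element of `N` fixing all roots lies in `H` -/
theorem mkW_eq_one_of_actsAs_id (n : ↥(D.group F)) (hn : n ∈ (chevBNPair D hD F).N) (f : ℕ → ℕ)
    (hf : ActsAs D hD F (n : GL D.Idx F) f) (hid : ∀ s < D.nroots, f s = s) :
    mkW (chevBNPair D hD F) n hn = 1 := by
  have hS := Sbar_sq (chevBNPair D hD F)
  have hgen := Sbar_closure (chevBNPair D hD F)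
  by_contra hne
  have hlen : len (Sbar (chevBNPair D hD F)) (mkW (chevBNPair D hD F) n hn) ≠ 0 := by
    rw [Ne, len_eq_zero_iff hS hgen]; exact hne
  obtain ⟨k, hk⟩ := Nat.exists_eq_succ_of_ne_zero hlen
  obtain ⟨t, ht, hlt⟩ := exists_cons hS hgen hk
  obtain ⟨s, hs, rfl⟩ := exists_sb_of_mem (chevBNPair D hD F) ht
  have hsf : s ∈ fundSet D F := hs
  obtain ⟨i, hi, hsm⟩ := hsf
  have hsn := coe_eq_nFund_of_mem_fundSet D hD F s i hsm
  have hF := fundFacts_of_mem D hD i hi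
  obtain ⟨-, c, hc, h1⟩ := hf (D.simple i) hF.hp
  rw [hid _ hF.hp] at h1
  have hconj : ∀ t : F, (n : GL D.Idx F)⁻¹ * xGL D hD F (D.simple i) t * (n : GL D.Idx F) =
      xGL D hD F (D.simple i) (c⁻¹ * t) := by
    intro t
    have := h1 (c⁻¹ * t)
    rw [← mul_assoc, mul_inv_cancel₀ hc, one_mul] at this
    rw [← this]; group
  have := len_lt_of_pos D hD F n hn s hs i hi hsn (D.simple i)
    ((parFacts_of_mem D hD).simplePos i hi) c⁻¹ hconj
  omega

/-- the permutation (as a list of images) attached to an element of the Weyl group -/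
def WRel (w : W (chevBNPair D hD F)) (p : List ℕ) : Prop :=
  ∃ (n : ↥(D.group F)) (hn : n ∈ (chevBNPair D hD F).N), mkW (chevBNPair D hD F) n hn = w ∧
    ∃ f : ℕ → ℕ, ActsAs D hD F (n : GL D.Idx F) f ∧ p = (List.range D.nroots).map f

theorem wRel_exists (w : W (chevBNPair D hD F)) :
    ∃ L : List ℕ, (∀ i ∈ L, i < D.rank) ∧ WRel D hD F w ((List.range D.nroots).map (reflWord D L)) := by
  obtain ⟨n, hn, rfl⟩ := mkW_surj (chevBNPair D hD F) w
  obtain ⟨L, hL, hact⟩ := exists_actsAs D hD F (n : GL D.Idx F) ((mem_N_iff D hD F n).mp hn)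
  exact ⟨L, hL, n, hn, rfl, _, hact, rfl⟩

theorem wRel_one : WRel D hD F 1 (List.range D.nroots) := by
  refine ⟨1, (chevBNPair D hD F).N.one_mem, rfl, id, ?_, by simp⟩
  intro s hs
  exact ⟨hs, 1, one_ne_zero, fun t => by simp⟩

theorem wRel_mul (w : W (chevBNPair D hD F)) (p : List ℕ) (h : WRel D hD F w p) (s : ↥(D.group F))
    (hs : s ∈ (chevBNPair D hD F).S) (i : ℕ) (hi : i < D.rank) (hsn : (s : GL D.Idx F) = nFund D hD F i) :
    WRel D hD F (sb (chevBNPair D hD F) s hs * w) (p.map (D.reflectRoot i)) := by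
  obtain ⟨n, hn, rfl, f, hf, rfl⟩ := h
  refine ⟨s * n, (chevBNPair D hD F).N.mul_mem ((chevBNPair D hD F).subset hs) hn, rfl,
    D.reflectRoot i ∘ f, ?_, by rw [List.map_map]⟩
  have := (actsAs_nFund D hD F i hi).mul D F hf
  rw [← hsn] at this
  exact this

theorem wRel_inj (w w' : W (chevBNPair D hD F)) (p : List ℕ) (h : WRel D hD F w p)
    (h' : WRel D hD F w' p) : w = w' := by
  obtain ⟨n, hn, rfl, f, hf, rfl⟩ := h
  obtain ⟨n', hn', rfl, f', hf', hp⟩ := h'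
  have hff : ∀ s < D.nroots, f s = f' s := by
    intro s hs
    have := congrArg (fun l : List ℕ => l.getD s 0) hp
    simpa [List.getD_eq_getElem?_getD, hs] using this
  have hninv : (n⁻¹ : ↥(D.group F)) ∈ (chevBNPair D hD F).N := (chevBNPair D hD F).N.inv_mem hn
  obtain ⟨L, -, hg⟩ := exists_actsAs D hD F ((n⁻¹ : ↥(D.group F)) : GL D.Idx F)
    ((mem_N_iff D hD F _).mp hninv)
  have h1 : ActsAs D hD F (((n⁻¹ * n : ↥(D.group F)) : GL D.Idx F)) (reflWord D L ∘ f) := hg.mul D F hf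
  have h2 : ActsAs D hD F (((n⁻¹ * n' : ↥(D.group F)) : GL D.Idx F)) (reflWord D L ∘ f') := hg.mul D F hf'
  have hone : ActsAs D hD F (((n⁻¹ * n : ↥(D.group F)) : GL D.Idx F)) id := by
    rw [inv_mul_cancel]
    intro s hs
    exact ⟨hs, 1, one_ne_zero, fun t => by simp⟩
  have hid : ∀ s < D.nroots, (reflWord D L ∘ f') s = s := by
    intro s hs
    show reflWord D L (f' s) = s
    rw [← hff s hs]
    exact h1.unique D hD F hone s hs
  have h3 := mkW_eq_one_of_actsAs_id D hD F (n⁻¹ * n') ((chevBNPair D hD F).N.mul_mem hninv hn') _ h2 hid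
  rw [mkW_mul (chevBNPair D hD F) hninv hn', mkW_inv (chevBNPair D hD F) hn] at h3
  exact inv_mul_eq_one.mp h3

theorem wRel_unique (w : W (chevBNPair D hD F)) (p p' : List ℕ) (h : WRel D hD F w p)
    (h' : WRel D hD F w p') : p = p' := by
  obtain ⟨n, hn, rfl, f, hf, rfl⟩ := h
  obtain ⟨n', hn', hw, f', hf', rfl⟩ := h'
  have hB : n'⁻¹ * n ∈ (chevBNPair D hD F).B := (mkW_eq_iff (chevBNPair D hD F) hn' hn).mp hw
  have hH : ((n'⁻¹ * n : ↥(D.group F)) : GL D.Idx F) ∈ D.diagonalSubgroup F := by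
    rw [← borel_inf_monomial D hD F]
    refine Subgroup.mem_inf.mpr ⟨(mem_B_iff D hD F _).mp hB, ?_⟩
    exact (mem_N_iff D hD F _).mp ((chevBNPair D hD F).N.mul_mem ((chevBNPair D hD F).N.inv_mem hn') hn)
  have h1 : ActsAs D hD F (((n' * (n'⁻¹ * n) : ↥(D.group F)) : GL D.Idx F)) (f' ∘ id) :=
    hf'.mul D F (actsAs_diag D hD F _ hH)
  rw [mul_inv_cancel_left] at h1
  apply List.map_congr_left
  intro s hs
  exact hf.unique D hD F h1 s (List.mem_range.mp hs)

end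

end Cfsg.Agent.Lib.Helper7
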