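import Cfsg.Agent.Lib.Helper7.ChevTwistStab
import Cfsg.Agent.Lib.Helper7.ChevTwistGen
import Cfsg.Agent.Lib.Helper7.ChevWeylPerm2

/-! Twisted groups: the rank one subgroups attached to the simple classes (helper7). -/

set_option autoImplicit false

namespace Cfsg.Agent.Lib.Helper7

open Cfsg Cfsg.Lie Matrix
open Cfsg.Agent.Lib.Helper3.BN Cfsg.Agent.Lib.Helper3.WordLen

/-- elements of two subgroups generated by elementwise commuting sets commute -/
theorem commute_of_mem_closure {G : Type*} [Group G] (A B : Set G) (h : ∀ a ∈ A, ∀ b ∈ B, Commute a b)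
    (x : G) (hx : x ∈ Subgroup.closure A) (y : G) (hy : y ∈ Subgroup.closure B) : Commute x y := by
  have h1 : ∀ a ∈ A, Commute a y := by
    intro a ha
    induction hy using Subgroup.closure_induction with
    | mem b hb => exact h a ha b hb
    | one => exact Commute.one_right a
    | mul u v _ _ hu hv => exact hu.mul_right hv
    | inv u _ hu => exact hu.inv_right
  induction hx using Subgroup.closure_induction with
  | mem a ha => exact h1 a ha
  | one => exact Commute.one_left y
  | mul u v _ _ hu hv => exact hu.mul_left hv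
  | inv u _ hu => exact hu.inv_left

/-- `∏ (f a g a) = (∏ f a)(∏ g a)` when `g a` commutes with `f b` for `a ≠ b` -/
theorem prod_map_mul_of_commute {α G : Type*} [Group G] (f g : α → G) :
    ∀ (S : List α), S.Nodup → (∀ a ∈ S, ∀ b ∈ S, a ≠ b → Commute (g a) (f b)) →
      (S.map fun a => f a * g a).prod = (S.map f).prod * (S.map g).prod
  | [], _, _ => by simp
  | a :: S, hnd, h => by
    have hnd' := List.nodup_cons.mp hnd
    have ih := prod_map_mul_of_commute f g S hnd'.2
      (fun x hx y hy hxy => h x (List.mem_cons_of_mem _ hx) y (List.mem_cons_of_mem _ hy) hxy)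
    have hc : Commute (g a) (S.map f).prod := by
      apply Commute.list_prod_right
      intro z hz
      rw [List.mem_map] at hz
      obtain ⟨b, hb, rfl⟩ := hz
      apply h a List.mem_cons_self b (List.mem_cons_of_mem _ hb)
      rintro rfl
      exact hnd'.1 hb
    simp only [List.map_cons, List.prod_cons]
    rw [ih]
    calc f a * g a * ((S.map f).prod * (S.map g).prod)
        = f a * (g a * (S.map f).prod) * (S.map g).prod := by group
      _ = f a * ((S.map f).prod * g a) * (S.map g).prod := by rw [hc.eq]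
      _ = _ := by group

/-- table facts on a simple class `Jidx`: a list of pairwise orthogonal fundamental roots -/
structure SimpClassFacts (D : ChevalleyDatum) (Jidx : List ℕ) : Prop where
  lt : ∀ i ∈ Jidx, i < D.rank
  nodup : (Jidx.map D.simple).Nodup
  neg : ∀ i ∈ Jidx, reflWord D Jidx (D.simple i) = D.neg (D.simple i)
  negr : ∀ i ∈ Jidx, reflWord D Jidx.reverse (D.simple i) = D.neg (D.simple i)
  pos : ∀ r < D.nroots, D.IsPosRoot r → r ∉ Jidx.map D.simple → D.IsPosRoot (reflWord D Jidx r)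
  norm : ∀ i ∈ Jidx, ∀ r < D.nroots, D.IsPosRoot r → r ∉ Jidx.map D.simple →
    ∀ c ∈ D.commTerms (D.simple i) r, D.IsPosRoot c.1 ∧ c.1 ∉ Jidx.map D.simple
  nc : ∀ i ∈ Jidx, ∀ j ∈ Jidx, i ≠ j → NC D (D.simple i) (D.simple j) ∧
    NC D (D.simple i) (D.neg (D.simple j)) ∧ NC D (D.neg (D.simple i)) (D.neg (D.simple j))

def simpClassB (D : ChevalleyDatum) (Jidx : List ℕ) : Bool :=
  (Jidx.all fun i => decide (i < D.rank)) &&
  decide (Jidx.map D.simple).Nodup &&
  (Jidx.all fun i => reflWord D Jidx (D.simple i) == D.neg (D.simple i)) &&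
  (Jidx.all fun i => reflWord D Jidx.reverse (D.simple i) == D.neg (D.simple i)) &&
  ((List.range D.nroots).all fun r => !decide (D.IsPosRoot r) || (Jidx.map D.simple).contains r ||
    decide (D.IsPosRoot (reflWord D Jidx r))) &&
  (Jidx.all fun i => (List.range D.nroots).all fun r => !decide (D.IsPosRoot r) ||
    (Jidx.map D.simple).contains r ||
    (D.commTerms (D.simple i) r).all fun c => decide (D.IsPosRoot c.1) && !(Jidx.map D.simple).contains c.1) &&
  (Jidx.all fun i => Jidx.all fun j => (i == j) || (decide (NC D (D.simple i) (D.simple j)) &&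
    decide (NC D (D.simple i) (D.neg (D.simple j))) && decide (NC D (D.neg (D.simple i)) (D.neg (D.simple j)))))

theorem simpClassFacts_of_B (D : ChevalleyDatum) (Jidx : List ℕ) (h : simpClassB D Jidx = true) :
    SimpClassFacts D Jidx := by
  unfold simpClassB at h
  simp only [Bool.and_eq_true, List.all_eq_true, decide_eq_true_eq, beq_iff_eq, Bool.or_eq_true,
    Bool.not_eq_true', decide_eq_false_iff_not, List.mem_range, List.contains_iff_mem, Bool.not_eq_eq_eq_not,
    Bool.not_true] at h
  obtain ⟨⟨⟨⟨⟨⟨h1, h2⟩, h3⟩, h4⟩, h5⟩, h6⟩, h7⟩ := h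
  refine ⟨h1, h2, h3, h4, ?_, ?_, ?_⟩
  · intro r hr hp hn
    rcases h5 r hr with (h' | h') | h'
    · exact absurd hp h'
    · exact absurd h' hn
    · exact h'
  · intro i hi r hr hp hn c hc
    rcases h6 i hi r hr with (h' | h') | h'
    · exact absurd hp h'
    · exact absurd h' hn
    · have := h' c hc
      refine ⟨this.1, ?_⟩
      intro hc'
      have h2' := this.2
      rw [← List.contains_iff_mem] at hc'
      rw [hc'] at h2'
      exact absurd h2' (by simp)
  · intro i hi j hj hij
    rcases h7 i hi j hj with h' | h'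
    · exact absurd h' hij
    · exact ⟨h'.1.1, h'.1.2, h'.2⟩

section
variable (D : ChevalleyDatum) (hD : D ∈ [chevG2, chevB2, chevD4, chevF4, chevE6, chevE7, chevE8])
variable (K : Type*) [Field K]
include hD

omit K in
theorem reflWord_lt' : ∀ (L : List ℕ), (∀ i ∈ L, i < D.rank) → ∀ x < D.nroots, reflWord D L x < D.nroots
  | [], _, x, hx => hx
  | i :: L, hL, x, hx => by
    show D.reflectRoot i (reflWord D L x) < D.nroots
    exact (conjFacts_of_mem D hD i (hL i List.mem_cons_self)).wlt _
      (reflWord_lt' L (fun j hj => hL j (List.mem_cons_of_mem _ hj)) x hx)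

omit K in
theorem reflWord_neg : ∀ (L : List ℕ), (∀ i ∈ L, i < D.rank) → ∀ x < D.nroots,
    reflWord D L (D.neg x) = D.neg (reflWord D L x)
  | [], _, x, _ => rfl
  | i :: L, hL, x, hx => by
    have hL' : ∀ j ∈ L, j < D.rank := fun j hj => hL j (List.mem_cons_of_mem _ hj)
    show D.reflectRoot i (reflWord D L (D.neg x)) = D.neg (D.reflectRoot i (reflWord D L x))
    rw [reflWord_neg L hL' x hx]
    exact ((conjFacts_of_mem D hD i (hL i List.mem_cons_self)).wneg _ (reflWord_lt' D hD L hL' x hx)).2.1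

theorem nWordGL_append (L L' : List ℕ) :
    nWordGL D hD K (L ++ L') = nWordGL D hD K L * nWordGL D hD K L' := by
  unfold nWordGL
  rw [List.map_append, List.prod_append]

theorem actsAs_nWordGL_inv (L : List ℕ) (hL : ∀ i ∈ L, i < D.rank) :
    ActsAs D hD K (nWordGL D hD K L)⁻¹ (reflWord D L.reverse) := by
  induction L with
  | nil =>
    have : (nWordGL D hD K [])⁻¹ = 1 := by simp [nWordGL]
    rw [this]
    exact actsAs_diag D hD K 1 (Subgroup.one_mem _)
  | cons i L ih =>
    have hi : i < D.rank := hL i List.mem_cons_self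
    have e : (nWordGL D hD K (i :: L))⁻¹ = (nWordGL D hD K L)⁻¹ * (nFund D hD K i)⁻¹ := by
      simp [nWordGL]
    rw [e, List.reverse_cons, reflWord_append]
    exact ActsAs.mul D K (ih (fun j hj => hL j (List.mem_cons_of_mem _ hj))) (actsAs_nFund_inv D hD K i hi)

/-- an element of `N` acting trivially on the roots lies in `H` -/
theorem mem_diagonal_of_actsAs_id (n : GL D.Idx K) (hn : n ∈ D.monomialSubgroup K) (f : ℕ → ℕ)
    (hf : ActsAs D hD K n f) (hid : ∀ s < D.nroots, f s = s) : n ∈ D.diagonalSubgroup K := by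
  have hnG : n ∈ D.group K := monomial_le_group D hD K hn
  have hnN : (⟨n, hnG⟩ : ↥(D.group K)) ∈ (chevBNPair D hD K).N := (mem_N_iff D hD K _).mpr hn
  have h1 := mkW_eq_one_of_actsAs_id D hD K ⟨n, hnG⟩ hnN f hf hid
  rw [mkW_eq_one_iff] at h1
  have h2 : n ∈ D.borelSubgroup K := (mem_B_iff D hD K _).mp h1
  rw [← borel_inf_monomial D hD K]
  exact Subgroup.mem_inf.mpr ⟨h2, hn⟩

/-- the rank one subgroup `⟨X_r, X_{-r}⟩` -/
def rk1 (r : ℕ) : Subgroup (GL D.Idx K) := Subgroup.closure (gensL D K [r, D.neg r])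

omit hD in
theorem xGL_mem_rk1 (hD : D ∈ [chevG2, chevB2, chevD4, chevF4, chevE6, chevE7, chevE8]) (r : ℕ) (a : K) :
    xGL D hD K r a ∈ rk1 D K r :=
  Subgroup.subset_closure ⟨r, by simp, a, coe_xGL D hD K _ _⟩

omit hD in
theorem xGL_neg_mem_rk1 (hD : D ∈ [chevG2, chevB2, chevD4, chevF4, chevE6, chevE7, chevE8]) (r : ℕ) (a : K) :
    xGL D hD K (D.neg r) a ∈ rk1 D K r :=
  Subgroup.subset_closure ⟨D.neg r, by simp, a, coe_xGL D hD K _ _⟩

omit hD in
theorem nGL_mem_rk1 (hD : D ∈ [chevG2, chevB2, chevD4, chevF4, chevE6, chevE7, chevE8]) (r : ℕ) (c : K) :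
    wordGL D hD K (D.nWord r c) ∈ rk1 D K r := by
  rw [nGL_eq]
  exact Subgroup.mul_mem _ (Subgroup.mul_mem _ (xGL_mem_rk1 D K hD r _) (xGL_neg_mem_rk1 D K hD r _))
    (xGL_mem_rk1 D K hD r _)

omit hD in
theorem hGL_mem_rk1 (hD : D ∈ [chevG2, chevB2, chevD4, chevF4, chevE6, chevE7, chevE8]) (r : ℕ) (c : K) :
    wordGL D hD K (D.hWord r c) ∈ rk1 D K r := by
  unfold ChevalleyDatum.hWord
  rw [wordGL_append]
  exact Subgroup.mul_mem _ (nGL_mem_rk1 D K hD r _) (nGL_mem_rk1 D K hD r _)

/-- rank one subgroups of strongly orthogonal roots commute -/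
theorem rk1_commute (r s : ℕ) (h1 : NC D r s) (h2 : NC D r (D.neg s)) (h3 : NC D (D.neg r) s)
    (h4 : NC D (D.neg r) (D.neg s)) (x : GL D.Idx K) (hx : x ∈ rk1 D K r) (y : GL D.Idx K)
    (hy : y ∈ rk1 D K s) : Commute x y := by
  apply commute_of_mem_closure _ _ _ x hx y hy
  rintro a ⟨r', hr', ta, ham⟩ b ⟨s', hs', tb, hbm⟩
  have ha : a = xGL D hD K r' ta := Units.ext (by rw [ham, coe_xGL])
  have hb : b = xGL D hD K s' tb := Units.ext (by rw [hbm, coe_xGL])
  rw [ha, hb]
  simp only [List.mem_cons, List.not_mem_nil, or_false] at hr' hs'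
  rcases hr' with rfl | rfl <;> rcases hs' with rfl | rfl
  · exact h1.commute D hD K _ _
  · exact h2.commute D hD K _ _
  · exact h3.commute D hD K _ _
  · exact h4.commute D hD K _ _

end

end Cfsg.Agent.Lib.Helper7
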