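import Mathlib

/-! Integer matrices acting on a power of a commutative group, and the size of the image when the
group is cyclic, by the Smith normal form (helper7). -/

set_option autoImplicit false

namespace Cfsg.Agent.Lib.Helper7

open Finset

section
variable {M : Type*} [CommGroup M] {l : ℕ}

/-- `(c_i)_i ↦ (∏_i c_i ^ A i k)_k` -/
def zact (A : ℕ → ℕ → ℤ) (c : Fin l → M) : Fin l → M := fun k => ∏ i : Fin l, c i ^ A i k

theorem zact_congr (A B : ℕ → ℕ → ℤ) (h : ∀ i < l, ∀ k < l, A i k = B i k) (c : Fin l → M) :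
    zact A c = zact B c := by
  funext k
  unfold zact
  apply Finset.prod_congr rfl
  intro i _
  rw [h i i.isLt k k.isLt]

theorem zpow_finset_sum {ι : Type*} (x : M) (s : Finset ι) (f : ι → ℤ) :
    x ^ (∑ j ∈ s, f j) = ∏ j ∈ s, x ^ f j := by
  classical
  induction s using Finset.induction_on with
  | empty => simp
  | insert a s ha ih => rw [Finset.sum_insert ha, Finset.prod_insert ha, zpow_add, ih]

theorem zact_zact (A B : ℕ → ℕ → ℤ) (c : Fin l → M) :
    zact B (zact A c) = zact (fun i k => ∑ j ∈ Finset.range l, A i j * B j k) c := by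
  funext k
  unfold zact
  have h1 : ∀ j : Fin l, (∏ i : Fin l, c i ^ A i j) ^ B j k = ∏ i : Fin l, c i ^ (A i j * B j k) := by
    intro j
    rw [← Finset.prod_zpow]
    apply Finset.prod_congr rfl
    intro i _
    rw [zpow_mul]
  rw [Finset.prod_congr rfl (fun j _ => h1 j), Finset.prod_comm]
  apply Finset.prod_congr rfl
  intro i _
  show _ = c i ^ (∑ j ∈ Finset.range l, A i j * B j k)
  rw [← Fin.sum_univ_eq_sum_range (fun j => A i j * B j k) l, zpow_finset_sum]

theorem zact_one (A : ℕ → ℕ → ℤ) (hA : ∀ i < l, ∀ k < l, A i k = if i = k then 1 else 0)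
    (c : Fin l → M) : zact A c = c := by
  funext k
  unfold zact
  rw [Finset.prod_eq_single k]
  · rw [hA k k.isLt k k.isLt, if_pos rfl, zpow_one]
  · intro i _ hik
    rw [hA i i.isLt k k.isLt, if_neg (fun h => hik (Fin.ext h)), zpow_zero]
  · intro h; exact absurd (Finset.mem_univ k) h

theorem zact_mul_diag (P : ℕ → ℕ → ℤ) (d : ℕ → ℕ) (c : Fin l → M) :
    zact (fun i j => P i j * (d j : ℤ)) c = fun j => zact P c j ^ d j := by
  funext j
  unfold zact
  rw [← Finset.prod_pow]
  apply Finset.prod_congr rfl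
  intro i _
  rw [zpow_mul, zpow_natCast]

/-- the image of `zact A` when `A = P · diag(d) · Q` with `P`, `Q` invertible -/
theorem card_range_zact [Finite M] [IsCyclic M] (A P P' Q Q' : ℕ → ℕ → ℤ) (d : ℕ → ℕ)
    (hA : ∀ i < l, ∀ k < l, A i k = ∑ j ∈ Finset.range l, P i j * (d j : ℤ) * Q j k)
    (hP : ∀ i < l, ∀ k < l, ∑ j ∈ Finset.range l, P' i j * P j k = if i = k then 1 else 0)
    (hQ : ∀ i < l, ∀ k < l, ∑ j ∈ Finset.range l, Q i j * Q' j k = if i = k then 1 else 0) :
    Nat.card (Set.range (zact A : (Fin l → M) → (Fin l → M))) =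
      ∏ k : Fin l, Nat.card M / (Nat.card M).gcd (d k) := by
  have hfac : ∀ c : Fin l → M, zact A c = zact Q (fun j => zact P c j ^ d j) := by
    intro c
    rw [← zact_mul_diag, zact_zact]
    exact zact_congr _ _ hA c
  have hPs : Function.Surjective (zact P : (Fin l → M) → (Fin l → M)) := by
    intro c
    refine ⟨zact P' c, ?_⟩
    rw [zact_zact]
    exact zact_one _ hP c
  have hQi : Function.Injective (zact Q : (Fin l → M) → (Fin l → M)) := by
    intro c c' h
    have := congrArg (zact Q') h
    rw [zact_zact, zact_zact, zact_one _ hQ, zact_one _ hQ] at this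
    exact this
  have hrange : Set.range (zact A : (Fin l → M) → (Fin l → M)) =
      zact Q '' {c : Fin l → M | ∀ k : Fin l, c k ∈ (powMonoidHom (d k) : M →* M).range} := by
    ext x
    constructor
    · rintro ⟨c, rfl⟩
      exact ⟨_, fun k => ⟨zact P c k, rfl⟩, (hfac c).symm⟩
    · rintro ⟨y, hy, rfl⟩
      choose c' hc' using hy
      obtain ⟨c, hc⟩ := hPs c'
      refine ⟨c, ?_⟩
      rw [hfac c, hc]
      congr 1
      funext k
      exact hc' k
  rw [hrange, Nat.card_image_of_injective hQi]
  have e : {c : Fin l → M | ∀ k : Fin l, c k ∈ (powMonoidHom (d k) : M →* M).range} ≃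
      ∀ k : Fin l, (powMonoidHom (d k) : M →* M).range :=
    Equiv.subtypePiEquivPi (p := fun (k : Fin l) (x : M) => x ∈ (powMonoidHom (d k) : M →* M).range)
  rw [Nat.card_congr e, Nat.card_pi]
  apply Finset.prod_congr rfl
  intro k _
  exact IsCyclic.card_powMonoidHom_range (G := M) (d k)

end

/-- list sums over `List.range` are `Finset.range` sums -/
theorem list_sum_range (f : ℕ → ℤ) (n : ℕ) :
    ((List.range n).map f).sum = ∑ j ∈ Finset.range n, f j := by
  induction n with
  | zero => simp
  | succ n ih => rw [List.range_succ, List.map_append, List.sum_append, ih, Finset.sum_range_succ]; simp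

end Cfsg.Agent.Lib.Helper7
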