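import Cfsg.Agent.Lib.Helper7.ChevHWord
import Cfsg.Agent.Lib.Helper7.ChevNorm
import Cfsg.Agent.Lib.Helper7.ZAct

/-! The order of the diagonal subgroup `H` of a Chevalley group over a finite field (helper7). -/

set_option autoImplicit false

namespace Cfsg.Agent.Lib.Helper7

open Cfsg Cfsg.Lie Matrix

/-- a matrix given by a list of rows -/
def matL (L : List (List ℤ)) (i j : ℕ) : ℤ := (L.getD i []).getD j 0

/-- the Cartan matrix `A i k = A_{p_i, p_k}` -/
def cartanA (D : ChevalleyDatum) (i k : ℕ) : ℤ := D.cartan i (D.simple k)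

/-- table check: `A` is the Cartan matrix and the rows of `R` are the coefficients of the roots on the
fundamental roots -/
def rootCoefOKB (D : ChevalleyDatum) (A R : List (List ℤ)) : Bool :=
  ((List.range D.rank).all fun i => (List.range D.rank).all fun k => matL A i k == cartanA D i k) &&
  (List.range D.nroots).all fun s => (List.range D.rank).all fun i =>
    D.cartan i s == ((List.range D.rank).map fun k => matL A i k * matL R s k).sum

theorem rootCoef_of_OKB (D : ChevalleyDatum) (A R : List (List ℤ)) (h : rootCoefOKB D A R = true)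
    (s : ℕ) (hs : s < D.nroots) (i : ℕ) (hi : i < D.rank) :
    D.cartan i s = ∑ k ∈ Finset.range D.rank, cartanA D i k * matL R s k := by
  unfold rootCoefOKB at h
  simp only [Bool.and_eq_true, List.all_eq_true, List.mem_range, beq_iff_eq] at h
  rw [h.2 s hs i hi, list_sum_range]
  apply Finset.sum_congr rfl
  intro k hk
  rw [h.1 i hi k (Finset.mem_range.mp hk)]

/-- table check of a Smith normal form `A = P diag(d) Q` of the Cartan matrix -/
def smithOKB (D : ChevalleyDatum) (P P' Q Q' : List (List ℤ)) (d : List ℕ) : Bool :=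
  (List.range D.rank).all fun i => (List.range D.rank).all fun k =>
    (cartanA D i k == ((List.range D.rank).map fun j => matL P i j * ((d.getD j 0 : ℕ) : ℤ) * matL Q j k).sum) &&
    (((List.range D.rank).map fun j => matL P' i j * matL P j k).sum == if i = k then 1 else 0) &&
    (((List.range D.rank).map fun j => matL Q i j * matL Q' j k).sum == if i = k then 1 else 0)

theorem smith_of_OKB (D : ChevalleyDatum) (P P' Q Q' : List (List ℤ)) (d : List ℕ)
    (h : smithOKB D P P' Q Q' d = true) :
    (∀ i < D.rank, ∀ k < D.rank, cartanA D i k =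
      ∑ j ∈ Finset.range D.rank, matL P i j * ((d.getD j 0 : ℕ) : ℤ) * matL Q j k) ∧
    (∀ i < D.rank, ∀ k < D.rank, ∑ j ∈ Finset.range D.rank, matL P' i j * matL P j k = if i = k then 1 else 0) ∧
    (∀ i < D.rank, ∀ k < D.rank, ∑ j ∈ Finset.range D.rank, matL Q i j * matL Q' j k = if i = k then 1 else 0) := by
  unfold smithOKB at h
  simp only [Bool.and_eq_true, List.all_eq_true, List.mem_range, beq_iff_eq] at h
  refine ⟨?_, ?_, ?_⟩
  · intro i hi k hk; rw [(h i hi k hk).1.1, list_sum_range]
  · intro i hi k hk; rw [← list_sum_range]; exact (h i hi k hk).1.2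
  · intro i hi k hk; rw [← list_sum_range]; exact (h i hi k hk).2

section
variable (D : ChevalleyDatum) (hD : D ∈ [chevG2, chevB2, chevD4, chevF4, chevE6, chevE7, chevE8])
variable (F : Type*) [Field F]

/-- extend a family of units by `1` -/
def extU (l : ℕ) (c : Fin l → Fˣ) (i : ℕ) : F := if h : i < l then ((c ⟨i, h⟩ : Fˣ) : F) else 1

theorem extU_ne_zero (l : ℕ) (c : Fin l → Fˣ) (i : ℕ) : extU F l c i ≠ 0 := by
  unfold extU
  split_ifs
  · exact Units.ne_zero _
  · exact one_ne_zero

/-- the character of `c`, valued in the units -/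
def unitChar (c : Fin D.rank → Fˣ) (s : ℕ) : Fˣ := ∏ i : Fin D.rank, c i ^ D.cartan i s

theorem prodChar_extU (c : Fin D.rank → Fˣ) (s : ℕ) :
    prodChar D F (List.range D.rank) (extU F D.rank c) s = ((unitChar D F c s : Fˣ) : F) := by
  unfold prodChar unitChar
  rw [Units.coe_prod, Fin.prod_univ_def, ← List.map_coe_finRange_eq_range, List.map_map]
  congr 1
  apply List.map_congr_left
  intro i _
  show extU F D.rank c i.val ^ D.cartan i.val s = _
  unfold extU
  rw [dif_pos i.isLt, Units.val_zpow_eq_zpow_val]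

theorem unitChar_simple (c : Fin D.rank → Fˣ) (k : Fin D.rank) :
    unitChar D F c (D.simple k) = zact (cartanA D) c k := rfl

theorem unitChar_root (A R : List (List ℤ)) (h : rootCoefOKB D A R = true) (c : Fin D.rank → Fˣ)
    (s : ℕ) (hs : s < D.nroots) :
    unitChar D F c s = ∏ k : Fin D.rank, zact (cartanA D) c k ^ matL R s k := by
  unfold unitChar zact
  have h1 : ∀ k : Fin D.rank, (∏ i : Fin D.rank, c i ^ cartanA D i k) ^ matL R s k =
      ∏ i : Fin D.rank, c i ^ (cartanA D i k * matL R s k) := by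
    intro k
    rw [← Finset.prod_zpow]
    apply Finset.prod_congr rfl
    intro i _
    rw [_root_.zpow_mul]
  rw [Finset.prod_congr rfl (fun k _ => h1 k), Finset.prod_comm]
  apply Finset.prod_congr rfl
  intro i _
  rw [rootCoef_of_OKB D A R h s hs i i.isLt,
    ← Fin.sum_univ_eq_sum_range (fun k => cartanA D i k * matL R s k) D.rank, zpow_finset_sum]

include hD

/-- the element `∏_i h_{p_i}(c_i)` of `H` -/
noncomputable def hOf (c : Fin D.rank → Fˣ) : GL D.Idx F :=
  wordGL D hD F ((List.range D.rank).flatMap fun i => D.hWord (D.simple i) (extU F D.rank c i))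

theorem wordGL_flatMap_mem (c : ℕ → F) (L : List ℕ) (hL : ∀ i ∈ L, i < D.rank ∧ c i ≠ 0) :
    wordGL D hD F (L.flatMap fun i => D.hWord (D.simple i) (c i)) ∈ D.diagonalSubgroup F := by
  induction L with
  | nil =>
    have : wordGL D hD F ([] : List (ℕ × F)) = 1 := rfl
    rw [List.flatMap_nil, this]
    exact Subgroup.one_mem _
  | cons a L ih =>
    rw [List.flatMap_cons, wordGL_append]
    obtain ⟨ha, hca⟩ := hL a List.mem_cons_self
    exact Subgroup.mul_mem _
      (hGL_mem_diagonalSubgroup D hD F _ (fundFacts_of_mem D hD a ha).hp (c a) hca)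
      (ih (fun i hi => hL i (List.mem_cons_of_mem _ hi)))

theorem hOf_mem (c : Fin D.rank → Fˣ) : hOf D hD F c ∈ D.diagonalSubgroup F :=
  wordGL_flatMap_mem D hD F _ _ (fun i hi => ⟨List.mem_range.mp hi, extU_ne_zero F _ c i⟩)

theorem coe_hOf (c : Fin D.rank → Fˣ) :
    ((hOf D hD F c : GL D.Idx F) : Matrix D.Idx D.Idx F) =
      diagChar D F (fun s => ((unitChar D F c s : Fˣ) : F)) := by
  unfold hOf
  rw [coe_wordGL, wordMat_flatMap_hWord D hD F _ _
    (fun i hi => ⟨List.mem_range.mp hi, extU_ne_zero F _ c i⟩)]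
  congr 1
  funext s
  exact prodChar_extU D F c s

theorem hOf_surj (g : GL D.Idx F) (hg : g ∈ D.diagonalSubgroup F) :
    ∃ c : Fin D.rank → Fˣ, hOf D hD F c = g := by
  obtain ⟨c, hc, hgm⟩ := diagonalSubgroup_eq_word D hD F g hg
  refine ⟨fun i => Units.mk0 (c i.val) (hc i.val i.isLt), ?_⟩
  apply Units.ext
  unfold hOf
  rw [coe_wordGL, hgm]
  congr 1
  apply List.flatMap_congr
  intro i hi
  have hi' : i < D.rank := List.mem_range.mp hi
  congr 1
  unfold extU
  rw [dif_pos hi']
  rfl

theorem hOf_eq_iff (A R : List (List ℤ)) (h : rootCoefOKB D A R = true) (c c' : Fin D.rank → Fˣ) :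
    hOf D hD F c = hOf D hD F c' ↔ zact (cartanA D) c = zact (cartanA D) c' := by
  constructor
  · intro heq
    have h1 : diagChar D F (fun s => ((unitChar D F c s : Fˣ) : F)) =
        diagChar D F (fun s => ((unitChar D F c' s : Fˣ) : F)) := by
      rw [← coe_hOf D hD F c, ← coe_hOf D hD F c', heq]
    funext k
    have hk := (fundFacts_of_mem D hD k.val k.isLt).hp
    have h2 := congrFun (Matrix.diagonal_injective h1) (Sum.inr ⟨D.simple k, hk⟩)
    simp only [Sum.elim_inr] at h2
    rw [← unitChar_simple D F c k, ← unitChar_simple D F c' k]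
    exact Units.ext h2
  · intro heq
    apply Units.ext
    rw [coe_hOf D hD F c, coe_hOf D hD F c']
    unfold diagChar
    congr 1
    funext x
    rcases x with j | s
    · rfl
    · simp only [Sum.elim_inr]
      rw [unitChar_root D F A R h c s.val s.isLt, unitChar_root D F A R h c' s.val s.isLt, heq]

/-- `|H|` is the size of the image of the Cartan matrix on `(Fˣ)^l` -/
theorem card_diagonal_eq_range (A R : List (List ℤ)) (h : rootCoefOKB D A R = true) :
    Nat.card (D.diagonalSubgroup F) =
      Nat.card (Set.range (zact (cartanA D) : (Fin D.rank → Fˣ) → (Fin D.rank → Fˣ))) := by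
  let g : D.diagonalSubgroup F → Set.range (zact (cartanA D) : (Fin D.rank → Fˣ) → (Fin D.rank → Fˣ)) :=
    fun x => ⟨zact (cartanA D) (Classical.choose (hOf_surj D hD F x.1 x.2)), ⟨_, rfl⟩⟩
  have hg : ∀ x : D.diagonalSubgroup F, hOf D hD F (Classical.choose (hOf_surj D hD F x.1 x.2)) = x.1 :=
    fun x => Classical.choose_spec (hOf_surj D hD F x.1 x.2)
  have hinj : Function.Injective g := by
    intro x y hxy
    have h1 : zact (cartanA D) (Classical.choose (hOf_surj D hD F x.1 x.2)) =
        zact (cartanA D) (Classical.choose (hOf_surj D hD F y.1 y.2)) := congrArg Subtype.val hxy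
    have h2 := (hOf_eq_iff D hD F A R h _ _).mpr h1
    rw [hg x, hg y] at h2
    exact Subtype.ext h2
  have hsurj : Function.Surjective g := by
    rintro ⟨y, c, rfl⟩
    refine ⟨⟨hOf D hD F c, hOf_mem D hD F c⟩, ?_⟩
    apply Subtype.ext
    show zact (cartanA D) (Classical.choose (hOf_surj D hD F (hOf D hD F c) (hOf_mem D hD F c))) = _
    apply (hOf_eq_iff D hD F A R h _ _).mp
    exact Classical.choose_spec (hOf_surj D hD F (hOf D hD F c) (hOf_mem D hD F c))
  exact Nat.card_congr (Equiv.ofBijective g ⟨hinj, hsurj⟩)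

/-- `|H| = ∏_k (q-1)/gcd(q-1, d_k)` with `d_k` the elementary divisors of the Cartan matrix -/
theorem card_diagonal [Fintype F] (A R P P' Q Q' : List (List ℤ)) (d : List ℕ)
    (h : rootCoefOKB D A R = true) (hs : smithOKB D P P' Q Q' d = true) :
    Nat.card (D.diagonalSubgroup F) =
      ∏ k : Fin D.rank, (Fintype.card F - 1) / (Fintype.card F - 1).gcd (d.getD k 0) := by
  obtain ⟨h1, h2, h3⟩ := smith_of_OKB D P P' Q Q' d hs
  rw [card_diagonal_eq_range D hD F A R h,
    card_range_zact (M := Fˣ) (cartanA D) (matL P) (matL P') (matL Q) (matL Q') (fun j => d.getD j 0) h1 h2 h3,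
    Nat.card_units, Nat.card_eq_fintype_card]

end

end Cfsg.Agent.Lib.Helper7
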