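import Cfsg.Agent.Lib.Helper7.ChevWeylTab1
import Cfsg.Agent.Lib.Helper7.ChevHCard

/-! The order of a finite Chevalley group from a verified table of its Weyl group (helper7). -/

set_option autoImplicit false

namespace Cfsg.Agent.Lib.Helper7

open Cfsg Cfsg.Lie Matrix
open Cfsg.Agent.Lib.Helper3.BN Cfsg.Agent.Lib.Helper3.WordLen

theorem map_getD_range {α : Type*} (f : ℕ → α) (l : List ℕ) :
    ((List.range l.length).map fun e => f (l.getD e 0)) = l.map f := by
  induction l with
  | nil => rfl
  | cons a l ih =>
    rw [List.length_cons, List.range_succ_eq_map, List.map_cons, List.map_map, List.map_cons]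
    congr 1

/-- a sum of powers, sorted by exponent -/
theorem sum_pow_hist (q : ℕ) (dep : List ℕ) (K : ℕ) (hK : ∀ x ∈ dep, x < K) :
    (dep.map fun x => q ^ x).sum = ∑ k ∈ Finset.range K, dep.count k * q ^ k := by
  rw [Finset.sum_list_map_count]
  simp only [smul_eq_mul]
  apply Finset.sum_subset
  · intro x hx
    exact Finset.mem_range.mpr (hK x (List.mem_toFinset.mp hx))
  · intro x _ hx
    rw [List.count_eq_zero_of_not_mem (fun h => hx (List.mem_toFinset.mpr h)), zero_mul]

/-- histogram check -/
def histOKB (T : WeylTable) (K : ℕ) (H : List ℕ) : Bool :=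
  decide (T.dep.length = T.elems.length) && (T.dep.all fun x => decide (x < K)) &&
  (((List.range K).map fun k => T.dep.count k) == H)

theorem sum_of_histOKB (T : WeylTable) (K : ℕ) (H : List ℕ) (h : histOKB T K H = true) (q : ℕ) :
    ((List.range T.elems.length).map fun e => q ^ T.dep.getD e 0).sum =
      ∑ k ∈ Finset.range K, H.getD k 0 * q ^ k := by
  unfold histOKB at h
  simp only [Bool.and_eq_true, List.all_eq_true, decide_eq_true_eq, beq_iff_eq] at h
  obtain ⟨⟨h1, h2⟩, h3⟩ := h
  rw [← h1, map_getD_range (fun x => q ^ x) T.dep, sum_pow_hist q T.dep K h2]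
  apply Finset.sum_congr rfl
  intro k hk
  rw [← h3]
  simp [List.getD_eq_getElem?_getD, Finset.mem_range.mp hk]

section
variable (D : ChevalleyDatum) (hD : D ∈ [chevG2, chevB2, chevD4, chevF4, chevE6, chevE7, chevE8])
variable (F : Type*) [Field F]
include hD

/-- `|G| = q^N |H| Σ_k c_k q^k` with `c_k` the number of elements of length `k` of the Weyl group -/
theorem card_group_of_tab [Fintype F] (T : WeylTable) (hT : tabOKB D T = true) (K : ℕ) (H : List ℕ)
    (hH : histOKB T K H = true) :
    Nat.card ↥(D.group F) = Fintype.card F ^ (D.nroots / 2) * Nat.card (D.diagonalSubgroup F) *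
      ∑ k ∈ Finset.range K, H.getD k 0 * Fintype.card F ^ k := by
  have hTF := tabFacts_of_tabOKB D T hT
  have : Finite (W (chevBNPair D hD F)) := finite_W D hD F T hTF
  have : Fintype (W (chevBNPair D hD F)) := Fintype.ofFinite _
  rw [card_group_eq D hD F, sum_pow_len D hD F T hTF, sum_of_histOKB T K H hH]

end

end Cfsg.Agent.Lib.Helper7
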