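import Cfsg.Agent.Lib.Helper7.ChevWeylChain
import Cfsg.Agent.Lib.Helper7.ChevOrder1

/-! The order of a finite Chevalley group from a verified chain of coset representatives of its Weyl
group (helper7). -/

set_option autoImplicit false

namespace Cfsg.Agent.Lib.Helper7

open Cfsg Cfsg.Lie Matrix
open Cfsg.Agent.Lib.Helper3.BN Cfsg.Agent.Lib.Helper3.WordLen

/-- a chain for the Weyl group of a datum -/
structure WeylChain where
  /-- the fundamental reflections as lists -/
  refls : List (List ℕ)
  /-- the levels -/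
  levels : List ChainLevel

/-- the check of a chain against a datum -/
def weylChainOKB (D : ChevalleyDatum) (C : WeylChain) : Bool :=
  (C.refls == (List.range D.rank).map fun i => (List.range D.nroots).map (D.reflectRoot i)) &&
  ((List.range D.rank).all fun i => (headGens C.levels).contains i) &&
  ((headGens C.levels).all fun i => decide (i < D.rank)) &&
  chainOKB D.nroots C.refls C.levels

/-- the finite set of normal forms -/
def nfFin : List ChainLevel → Finset (List ℕ)
  | [] => {[]}
  | L :: Ls => (Finset.range L.elems.length ×ˢ nfFin Ls).image fun p => p.1 :: p.2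

theorem mem_nfFin : ∀ (Ls : List ChainLevel) (es : List ℕ), es ∈ nfFin Ls ↔ IsNF Ls es
  | [], es => by
    show es ∈ ({[]} : Finset (List ℕ)) ↔ es = []
    exact Finset.mem_singleton
  | L :: Ls, [] => by
    show [] ∈ (Finset.range L.elems.length ×ˢ nfFin Ls).image (fun p => p.1 :: p.2) ↔ False
    simp
  | L :: Ls, e :: es => by
    show e :: es ∈ (Finset.range L.elems.length ×ˢ nfFin Ls).image (fun p => p.1 :: p.2) ↔
      e < L.elems.length ∧ IsNF Ls es
    rw [← mem_nfFin Ls es]
    simp [Finset.mem_image]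

/-- the Poincaré polynomial of a chain -/
def chainPoly (q : ℕ) : List ChainLevel → ℕ
  | [] => 1
  | L :: Ls => (∑ e ∈ Finset.range L.elems.length, q ^ L.dep.getD e 0) * chainPoly q Ls

theorem sum_nfFin (q : ℕ) : ∀ Ls : List ChainLevel, ∑ es ∈ nfFin Ls, q ^ nfDep Ls es = chainPoly q Ls
  | [] => by
    show ∑ es ∈ ({[]} : Finset (List ℕ)), q ^ nfDep [] es = 1
    rw [Finset.sum_singleton]; rfl
  | L :: Ls => by
    show ∑ es ∈ (Finset.range L.elems.length ×ˢ nfFin Ls).image (fun p => p.1 :: p.2),
      q ^ nfDep (L :: Ls) es = _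
    rw [Finset.sum_image (by
      intro p _ p' _ h
      have h1 : p.1 :: p.2 = p'.1 :: p'.2 := h
      rw [List.cons.injEq] at h1
      exact Prod.ext h1.1 h1.2), Finset.sum_product]
    show ∑ e ∈ Finset.range L.elems.length, ∑ es ∈ nfFin Ls, q ^ (L.dep.getD e 0 + nfDep Ls es) = _
    simp only [pow_add]
    rw [← Finset.sum_mul_sum, sum_nfFin q Ls]
    rfl

theorem weylEnum_of_chain (D : ChevalleyDatum) (C : WeylChain) (h : weylChainOKB D C = true) :
    WeylEnum D (nfFin C.levels) (nfPerm D.nroots C.levels) (nfDep C.levels) (nfZero C.levels) := by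
  unfold weylChainOKB at h
  simp only [Bool.and_eq_true, List.all_eq_true, List.mem_range, decide_eq_true_eq, beq_iff_eq,
    List.contains_iff_mem] at h
  obtain ⟨⟨⟨hrefl, hall⟩, hlt⟩, hch⟩ := h
  have hreflget : ∀ i < D.rank, ∀ p : List ℕ, (∀ x ∈ p, x < D.nroots) →
      comp (C.refls.getD i []) p = p.map (D.reflectRoot i) := by
    intro i hi p hp
    unfold comp
    apply List.map_congr_left
    intro x hx
    rw [hrefl]
    simp [List.getD_eq_getElem?_getD, hi, hp x hx]
  refine ⟨?_, ?_, ?_, ?_, ?_, ?_, ?_⟩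
  · exact (mem_nfFin _ _).mpr (isNF_zero _ _ _ hch)
  · exact nfPerm_zero _ _ _ hch
  · exact nfDep_zero _ _ _ hch
  · intro e he e' he' hp
    exact chain_inj _ _ _ hch e e' ((mem_nfFin _ _).mp he) ((mem_nfFin _ _).mp he') hp
  · intro e he x hx
    exact (chain_valid _ _ _ hch e ((mem_nfFin _ _).mp he)).2 x hx
  · intro e he i hi
    have hv := chain_valid _ _ _ hch e ((mem_nfFin _ _).mp he)
    obtain ⟨e', he', hp, hd⟩ := chain_step _ _ _ hch i (hall i hi) e ((mem_nfFin _ _).mp he)
    refine ⟨e', (mem_nfFin _ _).mpr he', ?_, ?_, ?_⟩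
    · rw [hp, hreflget i hi _ hv.2]
    · omega
    · omega
  · intro e he hne
    have hv := chain_valid _ _ _ hch e ((mem_nfFin _ _).mp he)
    obtain ⟨i, hi, e', he', hp, hd⟩ := chain_desc _ _ _ hch e ((mem_nfFin _ _).mp he) hne
    refine ⟨i, hlt i hi, e', (mem_nfFin _ _).mpr he', ?_, hd⟩
    rw [hp, hreflget i (hlt i hi) _ hv.2]

/-- list sums over `List.range` are `Finset.range` sums -/
theorem list_sum_range_nat (f : ℕ → ℕ) (n : ℕ) :
    ((List.range n).map f).sum = ∑ j ∈ Finset.range n, f j := by
  induction n with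
  | zero => simp
  | succ n ih => rw [List.range_succ, List.map_append, List.sum_append, ih, Finset.sum_range_succ]; simp

/-- histograms of the levels: `(K, H)` with `H[k]` the number of elements of length `k < K` -/
def chainHistOKB : List ChainLevel → List (ℕ × List ℕ) → Bool
  | [], [] => true
  | L :: Ls, KH :: Hs =>
    decide (L.dep.length = L.elems.length) && (L.dep.all fun x => decide (x < KH.1)) &&
    (((List.range KH.1).map fun k => L.dep.count k) == KH.2) && chainHistOKB Ls Hs
  | _, _ => false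

/-- the polynomial of a list of histograms -/
def histPoly (q : ℕ) : List (ℕ × List ℕ) → ℕ
  | [] => 1
  | KH :: Hs => (∑ k ∈ Finset.range KH.1, KH.2.getD k 0 * q ^ k) * histPoly q Hs

theorem chainPoly_eq_histPoly (q : ℕ) : ∀ (Ls : List ChainLevel) (Hs : List (ℕ × List ℕ)),
    chainHistOKB Ls Hs = true → chainPoly q Ls = histPoly q Hs
  | [], [], _ => rfl
  | [], _ :: _, h => by simp [chainHistOKB] at h
  | _ :: _, [], h => by simp [chainHistOKB] at h
  | L :: Ls, KH :: Hs, h => by
    unfold chainHistOKB at h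
    simp only [Bool.and_eq_true, List.all_eq_true, decide_eq_true_eq, beq_iff_eq] at h
    obtain ⟨⟨⟨h1, h2⟩, h3⟩, h4⟩ := h
    show (∑ e ∈ Finset.range L.elems.length, q ^ L.dep.getD e 0) * chainPoly q Ls =
      (∑ k ∈ Finset.range KH.1, KH.2.getD k 0 * q ^ k) * histPoly q Hs
    rw [chainPoly_eq_histPoly q Ls Hs h4, ← list_sum_range_nat, ← h1,
      map_getD_range (fun x => q ^ x) L.dep, sum_pow_hist q L.dep KH.1 h2]
    congr 1
    apply Finset.sum_congr rfl
    intro k hk
    rw [← h3]
    simp [List.getD_eq_getElem?_getD, Finset.mem_range.mp hk]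

section
variable (D : ChevalleyDatum) (hD : D ∈ [chevG2, chevB2, chevD4, chevF4, chevE6, chevE7, chevE8])
variable (F : Type*) [Field F]
include hD

/-- `|G| = q^N |H| ∏_j (Σ_k c_{j,k} q^k)` -/
theorem card_group_of_chain [Fintype F] (C : WeylChain) (hC : weylChainOKB D C = true)
    (Hs : List (ℕ × List ℕ)) (hH : chainHistOKB C.levels Hs = true) :
    Nat.card ↥(D.group F) = Fintype.card F ^ (D.nroots / 2) * Nat.card (D.diagonalSubgroup F) *
      histPoly (Fintype.card F) Hs := by
  have hE := weylEnum_of_chain D C hC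
  have : Finite (W (chevBNPair D hD F)) := enum_finite_W D hD F _ _ _ _ hE
  have : Fintype (W (chevBNPair D hD F)) := Fintype.ofFinite _
  rw [card_group_eq D hD F, enum_sum_pow_len D hD F _ _ _ _ hE, sum_nfFin,
    chainPoly_eq_histPoly _ _ _ hH]

end

end Cfsg.Agent.Lib.Helper7
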