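import Cfsg.Agent.Lib.Helper7.ChevWeylPerm2

/-! From a verified enumeration of the Weyl group (by any index set) to `Σ_w q^{ℓ(w)}` (helper7). -/

set_option autoImplicit false

namespace Cfsg.Agent.Lib.Helper7

open Cfsg Cfsg.Lie Matrix
open Cfsg.Agent.Lib.Helper3.BN Cfsg.Agent.Lib.Helper3.WordLen

/-- an enumeration of the Weyl group: indices `e ∈ S`, the permutation `perm e` of the roots as a list,
the length `dep e`, and the index `e0` of the identity -/
structure WeylEnum (D : ChevalleyDatum) {I : Type} (S : Finset I) (perm : I → List ℕ) (dep : I → ℕ)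
    (e0 : I) : Prop where
  idMem : e0 ∈ S
  idEl : perm e0 = List.range D.nroots
  idDep : dep e0 = 0
  inj : ∀ e ∈ S, ∀ e' ∈ S, perm e = perm e' → e = e'
  elLt : ∀ e ∈ S, ∀ x ∈ perm e, x < D.nroots
  step : ∀ e ∈ S, ∀ i < D.rank, ∃ e' ∈ S, perm e' = (perm e).map (D.reflectRoot i) ∧
    dep e' ≤ dep e + 1 ∧ dep e ≤ dep e' + 1
  desc : ∀ e ∈ S, e ≠ e0 → ∃ i < D.rank, ∃ e' ∈ S, perm e' = (perm e).map (D.reflectRoot i) ∧
    dep e' + 1 = dep e

section
variable (D : ChevalleyDatum) (hD : D ∈ [chevG2, chevB2, chevD4, chevF4, chevE6, chevE7, chevE8])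
variable (F : Type*) [Field F] {I : Type} (S : Finset I) (perm : I → List ℕ) (dep : I → ℕ) (e0 : I)
variable (hT : WeylEnum D S perm dep e0)
include hD hT

omit hD in
theorem enum_word (L : List ℕ) (hL : ∀ i ∈ L, i < D.rank) :
    ∃ e ∈ S, perm e = (List.range D.nroots).map (reflWord D L) := by
  induction L with
  | nil =>
    refine ⟨e0, hT.idMem, ?_⟩
    rw [hT.idEl]
    show _ = (List.range D.nroots).map id
    rw [List.map_id]
  | cons i L ih =>
    obtain ⟨e, he, hel⟩ := ih (fun j hj => hL j (List.mem_cons_of_mem _ hj))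
    have hi : i < D.rank := hL i List.mem_cons_self
    obtain ⟨e', he', hp, -, -⟩ := hT.step e he i hi
    refine ⟨e', he', ?_⟩
    rw [hp, hel, List.map_map]
    rfl

theorem enum_exists (w : W (chevBNPair D hD F)) :
    ∃ e, e ∈ S ∧ WRel D hD F w (perm e) := by
  obtain ⟨L, hL, hw⟩ := wRel_exists D hD F w
  obtain ⟨e, he, hel⟩ := enum_word D S perm dep e0 hT L hL
  exact ⟨e, he, by rw [hel]; exact hw⟩

/-- the index of an element of the Weyl group -/
noncomputable def enumIdx (w : W (chevBNPair D hD F)) : I :=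
  Classical.choose (enum_exists D hD F S perm dep e0 hT w)

theorem enumIdx_mem (w : W (chevBNPair D hD F)) : enumIdx D hD F S perm dep e0 hT w ∈ S :=
  (Classical.choose_spec (enum_exists D hD F S perm dep e0 hT w)).1

theorem enumIdx_rel (w : W (chevBNPair D hD F)) :
    WRel D hD F w (perm (enumIdx D hD F S perm dep e0 hT w)) :=
  (Classical.choose_spec (enum_exists D hD F S perm dep e0 hT w)).2

theorem enumIdx_eq (w : W (chevBNPair D hD F)) (e : I) (he : e ∈ S)
    (h : WRel D hD F w (perm e)) : enumIdx D hD F S perm dep e0 hT w = e :=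
  hT.inj _ (enumIdx_mem D hD F S perm dep e0 hT w) _ he
    (wRel_unique D hD F w _ _ (enumIdx_rel D hD F S perm dep e0 hT w) h)

theorem enumIdx_inj (w w' : W (chevBNPair D hD F))
    (h : enumIdx D hD F S perm dep e0 hT w = enumIdx D hD F S perm dep e0 hT w') : w = w' := by
  have h1 := enumIdx_rel D hD F S perm dep e0 hT w
  have h2 := enumIdx_rel D hD F S perm dep e0 hT w'
  rw [h] at h1
  exact wRel_inj D hD F w w' _ h1 h2

theorem enumIdx_one : enumIdx D hD F S perm dep e0 hT 1 = e0 := by
  apply enumIdx_eq D hD F S perm dep e0 hT 1 _ hT.idMem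
  rw [hT.idEl]
  exact wRel_one D hD F

theorem enumIdx_mul (w : W (chevBNPair D hD F)) (s : ↥(D.group F))
    (hs : s ∈ (chevBNPair D hD F).S) (i : ℕ) (hi : i < D.rank)
    (hsn : (s : GL D.Idx F) = nFund D hD F i) (e' : I) (he' : e' ∈ S)
    (hp : perm e' = (perm (enumIdx D hD F S perm dep e0 hT w)).map (D.reflectRoot i)) :
    enumIdx D hD F S perm dep e0 hT (sb (chevBNPair D hD F) s hs * w) = e' := by
  apply enumIdx_eq D hD F S perm dep e0 hT _ _ he'
  rw [hp]
  exact wRel_mul D hD F w _ (enumIdx_rel D hD F S perm dep e0 hT w) s hs i hi hsn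

omit hT in
/-- the fundamental reflection `s_i` as an element of `S` -/
theorem exists_fund' (i : ℕ) (hi : i < D.rank) :
    ∃ s : ↥(D.group F), ∃ _ : s ∈ (chevBNPair D hD F).S, (s : GL D.Idx F) = nFund D hD F i := by
  have hG : nFund D hD F i ∈ D.group F :=
    monomial_le_group D hD F (nFund_mem_monomial D hD F i hi)
  refine ⟨⟨nFund D hD F i, hG⟩, ?_, rfl⟩
  refine ⟨i, hi, ?_⟩
  show ((nFund D hD F i : GL D.Idx F) : Matrix D.Idx D.Idx F) = _
  unfold nFund
  rw [coe_wordGL]; rfl

theorem enum_dep_le_len (k : ℕ) : ∀ w : W (chevBNPair D hD F),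
    len (Sbar (chevBNPair D hD F)) w = k → dep (enumIdx D hD F S perm dep e0 hT w) ≤ k := by
  have hS := Sbar_sq (chevBNPair D hD F)
  have hgen := Sbar_closure (chevBNPair D hD F)
  induction k with
  | zero =>
    intro w hw
    rw [len_eq_zero_iff hS hgen] at hw
    rw [hw, enumIdx_one D hD F S perm dep e0 hT, hT.idDep]
  | succ k ih =>
    intro w hw
    obtain ⟨t, ht, hlt⟩ := exists_cons hS hgen hw
    obtain ⟨s, hs, rfl⟩ := exists_sb_of_mem (chevBNPair D hD F) ht
    have hsf : s ∈ fundSet D F := hs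
    obtain ⟨i, hi, hsm⟩ := hsf
    have hsn := coe_eq_nFund_of_mem_fundSet D hD F s i hsm
    have h1 := ih _ hlt
    obtain ⟨e', he', hp, -, h2⟩ := hT.step _ (enumIdx_mem D hD F S perm dep e0 hT w) i hi
    rw [enumIdx_mul D hD F S perm dep e0 hT w s hs i hi hsn e' he' hp] at h1
    omega

theorem enum_len_le_dep (k : ℕ) : ∀ w : W (chevBNPair D hD F),
    dep (enumIdx D hD F S perm dep e0 hT w) = k → len (Sbar (chevBNPair D hD F)) w ≤ k := by
  have hS := Sbar_sq (chevBNPair D hD F)
  have hgen := Sbar_closure (chevBNPair D hD F)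
  induction k with
  | zero =>
    intro w hw
    by_cases he : enumIdx D hD F S perm dep e0 hT w = e0
    · have he' := he.trans (enumIdx_one D hD F S perm dep e0 hT).symm
      rw [enumIdx_inj D hD F S perm dep e0 hT _ _ he', len_one]
    · obtain ⟨i, -, e', -, -, hd⟩ := hT.desc _ (enumIdx_mem D hD F S perm dep e0 hT w) he
      omega
  | succ k ih =>
    intro w hw
    by_cases he : enumIdx D hD F S perm dep e0 hT w = e0
    · rw [he, hT.idDep] at hw
      omega
    · obtain ⟨i, hi, e', he', hp, hd⟩ := hT.desc _ (enumIdx_mem D hD F S perm dep e0 hT w) he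
      obtain ⟨s, hs, hsn⟩ := exists_fund' D hD F i hi
      have h1 := enumIdx_mul D hD F S perm dep e0 hT w s hs i hi hsn e' he' hp
      have h2 := ih (sb (chevBNPair D hD F) s hs * w) (by rw [h1]; omega)
      have h3 := len_le_mul hS hgen (sb_mem (chevBNPair D hD F) hs) w
      omega

theorem enum_len_eq_dep (w : W (chevBNPair D hD F)) :
    len (Sbar (chevBNPair D hD F)) w = dep (enumIdx D hD F S perm dep e0 hT w) :=
  le_antisymm (enum_len_le_dep D hD F S perm dep e0 hT _ w rfl)
    (enum_dep_le_len D hD F S perm dep e0 hT _ w rfl)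

theorem enumIdx_surj (k : ℕ) : ∀ e ∈ S, dep e = k →
    ∃ w : W (chevBNPair D hD F), enumIdx D hD F S perm dep e0 hT w = e := by
  induction k with
  | zero =>
    intro e he hk
    by_cases hid : e = e0
    · exact ⟨1, by rw [hid]; exact enumIdx_one D hD F S perm dep e0 hT⟩
    · obtain ⟨i, -, e', -, -, hd⟩ := hT.desc e he hid
      omega
  | succ k ih =>
    intro e he hk
    by_cases hid : e = e0
    · exact ⟨1, by rw [hid]; exact enumIdx_one D hD F S perm dep e0 hT⟩
    · obtain ⟨i, hi, e', he', hp, hd⟩ := hT.desc e he hid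
      obtain ⟨w', hw'⟩ := ih e' he' (by omega)
      obtain ⟨s, hs, hsn⟩ := exists_fund' D hD F i hi
      refine ⟨sb (chevBNPair D hD F) s hs * w', ?_⟩
      apply enumIdx_mul D hD F S perm dep e0 hT w' s hs i hi hsn e he
      rw [hw', hp, List.map_map]
      have hC := conjFacts_of_mem D hD i hi
      conv_lhs => rw [← List.map_id (perm e)]
      apply List.map_congr_left
      intro x hx
      exact (hC.winv x (hT.elLt e he x hx)).symm

theorem enum_finite_W : Finite (W (chevBNPair D hD F)) := by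
  have : Function.Injective (fun w : W (chevBNPair D hD F) =>
      (⟨enumIdx D hD F S perm dep e0 hT w, enumIdx_mem D hD F S perm dep e0 hT w⟩ : S)) := by
    intro w w' h
    exact enumIdx_inj D hD F S perm dep e0 hT w w' (Subtype.mk.inj h)
  exact Finite.of_injective _ this

theorem enum_sum_pow_len [Fintype (W (chevBNPair D hD F))] (q : ℕ) :
    ∑ w : W (chevBNPair D hD F), q ^ len (Sbar (chevBNPair D hD F)) w = ∑ e ∈ S, q ^ dep e := by
  apply Finset.sum_nbij (fun w => enumIdx D hD F S perm dep e0 hT w)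
  · intro w _
    exact enumIdx_mem D hD F S perm dep e0 hT w
  · intro w _ w' _ h
    exact enumIdx_inj D hD F S perm dep e0 hT w w' h
  · intro e he
    obtain ⟨w, hw⟩ := enumIdx_surj D hD F S perm dep e0 hT _ e (Finset.mem_coe.mp he) rfl
    exact ⟨w, Finset.mem_coe.mpr (Finset.mem_univ _), hw⟩
  · intro w _
    rw [enum_len_eq_dep D hD F S perm dep e0 hT w]

end

end Cfsg.Agent.Lib.Helper7
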