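import Cfsg.Agent.Lib.Helper7.ChevBN1
import Cfsg.Prelude.Def_LieExceptional

/-! The (B,N)-pair of a Chevalley group (helper7). -/

set_option autoImplicit false

namespace Cfsg.Agent.Lib.Helper7

open Cfsg Cfsg.Lie Matrix

section
variable (D : ChevalleyDatum) (hD : D ∈ [chevG2, chevB2, chevD4, chevF4, chevE6, chevE7, chevE8])
variable (F : Type*) [Field F]
include hD

theorem borel_le_group : D.borelSubgroup F ≤ D.group F := by
  rw [← borel_sup_monomial D hD F]; exact le_sup_left

theorem monomial_le_group : D.monomialSubgroup F ≤ D.group F := by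
  rw [← borel_sup_monomial D hD F]; exact le_sup_right

/-- the distinguished generators `n_p` inside the Chevalley group -/
def fundSet : Set ↥(D.group F) :=
  {n | ∃ i < D.rank, ((n : GL D.Idx F) : Matrix D.Idx D.Idx F) = D.nMat F (D.simple i) 1}

theorem coe_eq_nFund_of_mem_fundSet (s : ↥(D.group F)) (i : ℕ)
    (h : ((s : GL D.Idx F) : Matrix D.Idx D.Idx F) = D.nMat F (D.simple i) 1) :
    (s : GL D.Idx F) = nFund D hD F i := by
  apply Units.ext
  unfold nFund
  rw [h, coe_wordGL]; rfl

theorem image_fundSet : (D.group F).subtype '' fundSet D F =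
    {g : GL D.Idx F | ∃ j < D.rank, (g : Matrix D.Idx D.Idx F) = D.nMat F (D.simple j) 1} := by
  ext g
  constructor
  · rintro ⟨s, ⟨i, hi, hs⟩, rfl⟩
    exact ⟨i, hi, hs⟩
  · rintro ⟨j, hj, hg⟩
    have hgn : g = nFund D hD F j := by
      apply Units.ext
      unfold nFund
      rw [hg, coe_wordGL]; rfl
    have hgG : g ∈ D.group F := by
      rw [hgn]; exact monomial_le_group D hD F (nFund_mem_monomial D hD F j hj)
    exact ⟨⟨g, hgG⟩, ⟨j, hj, hg⟩, rfl⟩

/-- the (B,N)-pair of the Chevalley group -/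
noncomputable def chevBNPair : Cfsg.BNPair ↥(D.group F) where
  B := (D.borelSubgroup F).subgroupOf (D.group F)
  N := (D.monomialSubgroup F).subgroupOf (D.group F)
  S := fundSet D F
  sup_eq_top := by
    rw [← Subgroup.subgroupOf_sup (borel_le_group D hD F) (monomial_le_group D hD F),
      borel_sup_monomial D hD F, Subgroup.subgroupOf_self]
  conj_mem := by
    intro n hn t ht
    rw [Subgroup.mem_subgroupOf] at hn ⊢
    rw [Subgroup.mem_inf, Subgroup.mem_subgroupOf, Subgroup.mem_subgroupOf] at ht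
    have htH : (t : GL D.Idx F) ∈ D.diagonalSubgroup F := by
      rw [← borel_inf_monomial D hD F]
      exact Subgroup.mem_inf.mpr ht
    have := monomialSubgroup_le_normalizer_diagonal D hD F hn
    rw [Subgroup.mem_set_normalizer_iff] at this
    exact diagonal_le_borel D hD F ((this _).mp htH)
  subset := by
    rintro s ⟨i, hi, hs⟩
    show s ∈ (D.monomialSubgroup F).subgroupOf (D.group F)
    rw [Subgroup.mem_subgroupOf, coe_eq_nFund_of_mem_fundSet D hD F s i hs]
    exact nFund_mem_monomial D hD F i hi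
  sq_mem := by
    rintro s ⟨i, hi, hs⟩
    rw [Subgroup.mem_subgroupOf]
    show (s : GL D.Idx F) * (s : GL D.Idx F) ∈ D.borelSubgroup F
    rw [coe_eq_nFund_of_mem_fundSet D hD F s i hs]
    exact diagonal_le_borel D hD F (nFund_sq_mem D hD F i hi)
  inj := by
    rintro s ⟨i, hi, hs⟩ s' ⟨j, hj, hs'⟩ h
    rw [Subgroup.mem_subgroupOf] at h
    have h' : (s : GL D.Idx F)⁻¹ * (s' : GL D.Idx F) ∈ D.borelSubgroup F := h
    rw [coe_eq_nFund_of_mem_fundSet D hD F s i hs, coe_eq_nFund_of_mem_fundSet D hD F s' j hs'] at h'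
    have hij := nFund_inj D hD F i j hi hj h'
    apply Subtype.ext
    rw [coe_eq_nFund_of_mem_fundSet D hD F s i hs, coe_eq_nFund_of_mem_fundSet D hD F s' j hs', hij]
  closure_sup := by
    apply Subgroup.map_injective (Subgroup.subtype_injective (D.group F))
    rw [Subgroup.map_sup, MonoidHom.map_closure, image_fundSet D hD F,
      Subgroup.map_subgroupOf_eq_of_le (monomial_le_group D hD F)]
    have h1 : (D.borelSubgroup F).subgroupOf (D.group F) ⊓ (D.monomialSubgroup F).subgroupOf (D.group F) =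
        (D.diagonalSubgroup F).subgroupOf (D.group F) := by
      rw [← borel_inf_monomial D hD F]
      exact Subgroup.map_subtype_inj.mp rfl
    rw [h1, Subgroup.map_subgroupOf_eq_of_le
      (le_trans (diagonal_le_borel D hD F) (borel_le_group D hD F)),
      monomial_eq_sup_fund D hD F, sup_comm]
    rfl
  mul_mem_union := by
    rintro s ⟨i, hi, hs⟩ n hn b hb
    rw [Subgroup.mem_subgroupOf] at hn hb
    have hsn := coe_eq_nFund_of_mem_fundSet D hD F s i hs
    rcases nFund_mul_borel_mul_monomial D hD F i hi _ hn _ hb with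
      ⟨b₁, hb₁, b₂, hb₂, h⟩ | ⟨b₁, hb₁, b₂, hb₂, h⟩
    · left
      rw [DoubleCoset.mem_doubleCoset]
      refine ⟨⟨b₁, borel_le_group D hD F hb₁⟩, ?_, ⟨b₂, borel_le_group D hD F hb₂⟩, ?_, ?_⟩
      · show _ ∈ (D.borelSubgroup F).subgroupOf (D.group F)
        rw [Subgroup.mem_subgroupOf]; exact hb₁
      · show _ ∈ (D.borelSubgroup F).subgroupOf (D.group F)
        rw [Subgroup.mem_subgroupOf]; exact hb₂
      · apply Subtype.ext
        show (s : GL D.Idx F) * (b : GL D.Idx F) * (n : GL D.Idx F) =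
          b₁ * ((s : GL D.Idx F) * (n : GL D.Idx F)) * b₂
        rw [hsn]; exact h
    · right
      rw [DoubleCoset.mem_doubleCoset]
      refine ⟨⟨b₁, borel_le_group D hD F hb₁⟩, ?_, ⟨b₂, borel_le_group D hD F hb₂⟩, ?_, ?_⟩
      · show _ ∈ (D.borelSubgroup F).subgroupOf (D.group F)
        rw [Subgroup.mem_subgroupOf]; exact hb₁
      · show _ ∈ (D.borelSubgroup F).subgroupOf (D.group F)
        rw [Subgroup.mem_subgroupOf]; exact hb₂
      · apply Subtype.ext
        show (s : GL D.Idx F) * (b : GL D.Idx F) * (n : GL D.Idx F) = b₁ * (n : GL D.Idx F) * b₂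
        rw [hsn]; exact h
  conj_ne := by
    rintro s ⟨i, hi, hs⟩ heq
    have hsn := coe_eq_nFund_of_mem_fundSet D hD F s i hs
    have hx : xGL D hD F (D.simple i) 1 ∈ D.borelSubgroup F :=
      xGL_pos_mem_borel D hD F _ ((parFacts_of_mem D hD).simplePos i hi) 1
    set x : ↥(D.group F) := ⟨xGL D hD F (D.simple i) 1, borel_le_group D hD F hx⟩ with hxdef
    have hxB : x ∈ ((D.borelSubgroup F).subgroupOf (D.group F) : Set ↥(D.group F)) := by
      show x ∈ (D.borelSubgroup F).subgroupOf (D.group F)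
      rw [Subgroup.mem_subgroupOf]; exact hx
    have h1 : s * x * s ∈ (fun b : ↥(D.group F) => s * b * s) ''
        ((D.borelSubgroup F).subgroupOf (D.group F) : Set ↥(D.group F)) := ⟨x, hxB, rfl⟩
    rw [heq] at h1
    have h2 : s * x * s ∈ (D.borelSubgroup F).subgroupOf (D.group F) := h1
    rw [Subgroup.mem_subgroupOf] at h2
    have h3 : (s : GL D.Idx F) * xGL D hD F (D.simple i) 1 * (s : GL D.Idx F) ∈ D.borelSubgroup F := h2
    rw [hsn] at h3
    exact nFund_conj_not_mem_borel D hD F i hi h3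

theorem chevBNPair_B : (chevBNPair D hD F).B = (D.borelSubgroup F).subgroupOf (D.group F) := rfl
theorem chevBNPair_N : (chevBNPair D hD F).N = (D.monomialSubgroup F).subgroupOf (D.group F) := rfl
theorem chevBNPair_S : (chevBNPair D hD F).S = {n : ↥(D.group F) | ∃ i < D.rank,
    ((n : GL D.Idx F) : Matrix D.Idx D.Idx F) = D.nMat F (D.simple i) 1} := rfl

end

end Cfsg.Agent.Lib.Helper7
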