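import Cfsg.Agent.Lib.Helper7.ChevBN
import Cfsg.Agent.Lib.Helper3.BNParabolic

/-! Canonical form `g = b n u` (sharp Bruhat decomposition) for Chevalley groups (helper7). -/

set_option autoImplicit false

namespace Cfsg.Agent.Lib.Helper7

open Cfsg Cfsg.Lie Matrix
open Cfsg.Agent.Lib.Helper3.BN Cfsg.Agent.Lib.Helper3.WordLen

/-- the negative of a positive root is negative -/
def PosNegOK (D : ChevalleyDatum) : Prop :=
  ∀ r < D.nroots, D.IsPosRoot r → D.IsNegRoot (D.negIdx.getD r 0)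

instance (D : ChevalleyDatum) : Decidable (PosNegOK D) := by unfold PosNegOK; infer_instance

set_option maxRecDepth 100000 in
theorem posNegOK_G2 : PosNegOK chevG2 := by decide +kernel
set_option maxRecDepth 100000 in
theorem posNegOK_B2 : PosNegOK chevB2 := by decide +kernel
set_option maxRecDepth 100000 in
theorem posNegOK_D4 : PosNegOK chevD4 := by decide +kernel
set_option maxRecDepth 100000 in
theorem posNegOK_F4 : PosNegOK chevF4 := by decide +kernel
set_option maxRecDepth 100000 in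
theorem posNegOK_E6 : PosNegOK chevE6 := by decide +kernel
set_option maxRecDepth 100000 in
theorem posNegOK_E7 : PosNegOK chevE7 := by decide +kernel
set_option maxRecDepth 100000 in
theorem posNegOK_E8 : PosNegOK chevE8 := by decide +kernel

theorem posNegOK_of_mem (D : ChevalleyDatum)
    (hD : D ∈ [chevG2, chevB2, chevD4, chevF4, chevE6, chevE7, chevE8]) : PosNegOK D :=
  mem_seven_cases (P := PosNegOK) posNegOK_G2 posNegOK_B2 posNegOK_D4 posNegOK_F4 posNegOK_E6
    posNegOK_E7 posNegOK_E8 D hD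

/-- `U_n⁻ = ⟨X_r : r > 0, n X_r n⁻¹ ≤ V⟩` -/
def uMinus (D : ChevalleyDatum) (F : Type*) [Field F] (n : GL D.Idx F) : Subgroup (GL D.Idx F) :=
  Subgroup.closure {x : GL D.Idx F | ∃ (r : ℕ) (t : F), D.IsPosRoot r ∧
    (D.rootSubgroup F r).map (MulAut.conj n).toMonoidHom ≤ D.negUnipotent F ∧
      (x : Matrix D.Idx D.Idx F) = D.x F r t}

section
variable (D : ChevalleyDatum) (hD : D ∈ [chevG2, chevB2, chevD4, chevF4, chevE6, chevE7, chevE8])
variable (F : Type*) [Field F]
include hD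

theorem map_conj_le_iff (n : GL D.Idx F) (r : ℕ) :
    (D.rootSubgroup F r).map (MulAut.conj n).toMonoidHom ≤ D.negUnipotent F ↔
      ∀ t : F, n * xGL D hD F r t * n⁻¹ ∈ D.negUnipotent F := by
  constructor
  · intro h t
    apply h
    refine ⟨xGL D hD F r t, (mem_rootSubgroup_iff D hD F r _).mpr ⟨t, rfl⟩, ?_⟩
    simp [MulAut.conj_apply]
  · rintro h _ ⟨y, hy, rfl⟩
    obtain ⟨t, rfl⟩ := (mem_rootSubgroup_iff D hD F r y).mp hy
    have := h t
    simpa [MulAut.conj_apply] using this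

theorem xGL_neg_mem (a : ℕ) (ha : D.IsNegRoot a) (t : F) : xGL D hD F a t ∈ D.negUnipotent F := by
  apply Subgroup.subset_closure
  exact ⟨a, t, ha, coe_xGL D hD F a t⟩

theorem xGL_pos_mem (a : ℕ) (ha : D.IsPosRoot a) (t : F) : xGL D hD F a t ∈ D.posUnipotent F := by
  apply Subgroup.subset_closure
  exact ⟨a, t, ha, coe_xGL D hD F a t⟩

theorem posUnipotent_inf_negUnipotent : D.posUnipotent F ⊓ D.negUnipotent F = ⊥ := by
  rw [eq_bot_iff, ← borel_inf_negUnipotent D hD F]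
  exact inf_le_inf_right _ (posUnipotent_le_borel D hD F)

theorem xGL_one_ne_one (a : ℕ) (ha : a < D.nroots) : xGL D hD F a 1 ≠ 1 := by
  intro h1
  have h2 : D.x F a 1 = 1 := by
    rw [← coe_xGL D hD F, h1]; rfl
  have hN := negOK_of_mem D hD a ha
  exact one_ne_zero (eq_zero_of_x_eq_one D F a ha hN.1 hN.2 _ h2)

/-- a root whose root subgroup lies in `V` is negative -/
theorem isNegRoot_of_mem (a : ℕ) (ha : a < D.nroots) (h : ∀ t : F, xGL D hD F a t ∈ D.negUnipotent F) :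
    D.IsNegRoot a := by
  rcases posOrNeg_of_mem D hD a ha with hp | hn
  · exfalso
    have : xGL D hD F a 1 ∈ D.posUnipotent F ⊓ D.negUnipotent F :=
      Subgroup.mem_inf.mpr ⟨xGL_pos_mem D hD F a hp 1, h 1⟩
    rw [posUnipotent_inf_negUnipotent D hD F] at this
    exact xGL_one_ne_one D hD F a ha (Subgroup.mem_bot.mp this)
  · exact hn

/-- a root whose root subgroup lies in `U` is positive -/
theorem isPosRoot_of_mem (a : ℕ) (ha : a < D.nroots) (h : ∀ t : F, xGL D hD F a t ∈ D.posUnipotent F) :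
    D.IsPosRoot a := by
  rcases posOrNeg_of_mem D hD a ha with hp | hn
  · exact hp
  · exfalso
    have : xGL D hD F a 1 ∈ D.posUnipotent F ⊓ D.negUnipotent F :=
      Subgroup.mem_inf.mpr ⟨h 1, xGL_neg_mem D hD F a hn 1⟩
    rw [posUnipotent_inf_negUnipotent D hD F] at this
    exact xGL_one_ne_one D hD F a ha (Subgroup.mem_bot.mp this)

/-- `n_p x_s(t) n_p⁻¹ = x_{w_p s}(η t)` for `nFund` -/
theorem nFund_conj_xGL (i : ℕ) (hi : i < D.rank) (s : ℕ) (hs : s < D.nroots) (t : F) :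
    nFund D hD F i * xGL D hD F s t * (nFund D hD F i)⁻¹ =
      xGL D hD F (D.reflectRoot i s) (((etaFn D i s : ℤ) : F) * t) :=
  nGL_conj_xGL D hD F i hi s hs t

/-- the reflection `w_p` permutes the negative roots other than `-p` -/
theorem reflect_neg_of_neg (i : ℕ) (hi : i < D.rank) (γ : ℕ) (hγ : D.IsNegRoot γ)
    (hne : γ ≠ D.neg (D.simple i)) : D.IsNegRoot (D.reflectRoot i γ) := by
  have hC := conjFacts_of_mem D hD i hi
  have hNI := negInvOK_of_mem D hD γ hγ.1
  have hpos : D.IsPosRoot (D.neg γ) := hNI.2.2 hγ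
  have hne' : D.neg γ ≠ D.simple i := by
    intro h
    apply hne
    have : D.neg (D.neg γ) = γ := hNI.1
    rw [← this, h]
  -- `x_{-γ}(t) ∈ U_p`, normalised by `n_p`
  have hmem : ∀ t : ℚ, xGL D hD ℚ (D.reflectRoot i (D.neg γ)) t ∈ D.posUnipotent ℚ := by
    intro t
    have hx : xGL D hD ℚ (D.neg γ) (((etaFn D i (D.neg γ) : ℤ) : ℚ) * t) ∈ upSubgroup D ℚ i := by
      apply Subgroup.subset_closure
      exact ⟨_, _, hpos, hne', coe_xGL D hD ℚ _ _⟩
    have hN := nFund_mem_normalizer_up D hD ℚ i hi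
    rw [Subgroup.mem_set_normalizer_iff] at hN
    have h1 := (hN _).mp hx
    rw [nFund_conj_xGL D hD ℚ i hi _ hpos.1, ← mul_assoc, eta_sq D hD ℚ i hi _ hpos.1, one_mul] at h1
    exact up_le_posUnipotent D hD ℚ i h1
  have hwlt := hC.wlt _ hpos.1
  have hp2 := isPosRoot_of_mem D hD ℚ _ hwlt hmem
  rw [(hC.wneg γ hγ.1).2.1] at hp2
  have hwγ := hC.wlt γ hγ.1
  have h3 := posNegOK_of_mem D hD _ hp2.1 hp2
  have h4 : D.negIdx.getD (D.neg (D.reflectRoot i γ)) 0 = D.reflectRoot i γ :=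
    (negInvOK_of_mem D hD _ hwγ).1
  rwa [h4] at h3

/-- refined form of `n_p B n ⊆ B n_p n B` when `n⁻¹ X_p n = X_a`, `a` positive -/
theorem nFund_mul_borel_mul_of_pos' (i : ℕ) (hi : i < D.rank) (n : GL D.Idx F) (a : ℕ)
    (c : F) (hconj : ∀ t : F, n⁻¹ * xGL D hD F (D.simple i) t * n = xGL D hD F a (c * t))
    (b : GL D.Idx F) (hb : b ∈ D.borelSubgroup F) :
    ∃ b₁ ∈ D.borelSubgroup F, ∃ t : F,
      nFund D hD F i * b * n = b₁ * (nFund D hD F i * n) * xGL D hD F a (c * t) := by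
  obtain ⟨N, hN⟩ : ∃ N : GL D.Idx F, N = nFund D hD F i := ⟨_, rfl⟩
  rw [← hN]
  have hb' : b ∈ ((D.borelSubgroup F : Subgroup (GL D.Idx F)) : Set (GL D.Idx F)) := hb
  rw [borel_eq_mul D hD F] at hb'
  obtain ⟨h, hh, u, hu, rfl⟩ := Set.mem_mul.mp hb'
  have hu' : u ∈ ((upSubgroup D F i ⊔ D.rootSubgroup F (D.simple i) : Subgroup (GL D.Idx F)) :
      Set (GL D.Idx F)) := by
    rw [up_sup_rootSubgroup D hD F i hi]; exact hu
  rw [Subgroup.coe_mul_of_right_le_normalizer_left _ _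
    (le_trans le_sup_left (rootSubgroup_le_normalizer_up D hD F i hi))] at hu'
  obtain ⟨u', hu'', x, hx, rfl⟩ := Set.mem_mul.mp hu'
  obtain ⟨t, rfl⟩ := (mem_rootSubgroup_iff D hD F _ x).mp hx
  have hnN : N ∈ D.monomialSubgroup F := by rw [hN]; exact nFund_mem_monomial D hD F i hi
  have h1 : N * h * N⁻¹ ∈ D.diagonalSubgroup F := by
    have := monomialSubgroup_le_normalizer_diagonal D hD F hnN
    rw [Subgroup.mem_set_normalizer_iff] at this
    exact (this h).mp hh
  have h2 : N * u' * N⁻¹ ∈ upSubgroup D F i := by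
    have := nFund_mem_normalizer_up D hD F i hi
    rw [← hN, Subgroup.mem_set_normalizer_iff] at this
    exact (this u').mp hu''
  refine ⟨(N * h * N⁻¹) * (N * u' * N⁻¹), ?_, t, ?_⟩
  · exact Subgroup.mul_mem _ (diagonal_le_borel D hD F h1)
      (posUnipotent_le_borel D hD F (up_le_posUnipotent D hD F i h2))
  · rw [← hconj t]
    group

end

end Cfsg.Agent.Lib.Helper7
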