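import Cfsg.Agent.Lib.Helper7.ChevLong
import Cfsg.Agent.Lib.Helper7.ChevBV
import Cfsg.Agent.Lib.Helper7.ChevNorm

/-! `n₀ B n₀⁻¹ = V H`, and the normal core of `B` in the Chevalley group is trivial (helper7). -/

set_option autoImplicit false

namespace Cfsg.Agent.Lib.Helper7

open Cfsg Cfsg.Lie Matrix

theorem map_conj_eq_of_mem_set_normalizer {G : Type*} [Group G] (H : Subgroup G) (n : G)
    (hn : n ∈ Subgroup.normalizer (H : Set G)) : H.map (MulAut.conj n).toMonoidHom = H := by
  ext x
  rw [Subgroup.mem_map]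
  rw [Subgroup.mem_set_normalizer_iff] at hn
  constructor
  · rintro ⟨h, hh, rfl⟩
    exact (hn h).mp hh
  · intro hx
    refine ⟨n⁻¹ * x * n, ?_, ?_⟩
    · apply (hn _).mpr
      have : n * (n⁻¹ * x * n) * n⁻¹ = x := by group
      rw [this]; exact hx
    · show n * (n⁻¹ * x * n) * n⁻¹ = x
      group

section
variable (D : ChevalleyDatum) (hD : D ∈ [chevG2, chevB2, chevD4, chevF4, chevE6, chevE7, chevE8])
variable (F : Type*) [Field F]
include hD

theorem nLongGL_mem_group (w : List ℕ) : nLongGL D hD F w ∈ D.group F := by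
  unfold nLongGL
  apply Subgroup.list_prod_mem
  intro g hg
  rw [List.mem_map] at hg
  obtain ⟨i, _, rfl⟩ := hg
  exact wordGL_mem_group D hD F _

/-- `n₀ B n₀⁻¹ = V H` -/
theorem conj_borel_eq (w : List ℕ) (hL : LongFacts D w) :
    (D.borelSubgroup F).map (MulAut.conj (nLongGL D hD F w)).toMonoidHom =
      D.negUnipotent F ⊔ D.diagonalSubgroup F := by
  unfold ChevalleyDatum.borelSubgroup
  rw [Subgroup.map_sup, conj_posUnipotent_eq D hD F w hL,
    map_conj_eq_of_mem_set_normalizer _ _
      (monomialSubgroup_le_normalizer_diagonal D hD F (nLongGL_mem_monomial D hD F w hL.lt))]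

/-- a root element lying in `H` is trivial -/
theorem eq_zero_of_xGL_mem_diagonal (s : ℕ) (hs : s < D.nroots) (a : F)
    (h : xGL D hD F s a ∈ D.diagonalSubgroup F) : a = 0 := by
  have h1 : xGL D hD F s a = 1 := by
    rcases posOrNeg_of_mem D hD s hs with hp | hn
    · have : xGL D hD F s a ∈ D.posUnipotent F ⊓ D.diagonalSubgroup F := by
        refine Subgroup.mem_inf.mpr ⟨?_, h⟩
        apply Subgroup.subset_closure
        exact ⟨s, a, hp, coe_xGL D hD F s a⟩
      rw [posUnipotent_inf_diagonalSubgroup D hD F] at this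
      exact Subgroup.mem_bot.mp this
    · have : xGL D hD F s a ∈ D.borelSubgroup F ⊓ D.negUnipotent F := by
        refine Subgroup.mem_inf.mpr ⟨?_, ?_⟩
        · unfold ChevalleyDatum.borelSubgroup
          exact le_sup_right (a := D.posUnipotent F) h
        · apply Subgroup.subset_closure
          exact ⟨s, a, hn, coe_xGL D hD F s a⟩
      rw [borel_inf_negUnipotent D hD F] at this
      exact Subgroup.mem_bot.mp this
  have h2 : D.x F s a = 1 := by
    rw [← coe_xGL D hD F s a, h1]; rfl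
  have hN := negOK_of_mem D hD s hs
  exact eq_zero_of_x_eq_one D F s hs hN.1 hN.2 a h2

/-- the normal core of `B` in the Chevalley group is trivial -/
theorem normalCore_borel_eq_bot :
    ((D.borelSubgroup F).subgroupOf (D.group F)).normalCore = ⊥ := by
  obtain ⟨w, hL⟩ := exists_longFacts_of_mem D hD
  set K := ((D.borelSubgroup F).subgroupOf (D.group F)).normalCore with hK
  -- every element of the core lies in `H`
  have hKH : ∀ k ∈ K, ((k : ↥(D.group F)) : GL D.Idx F) ∈ D.diagonalSubgroup F := by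
    intro k hk
    have hB : ∀ g : GL D.Idx F, g ∈ D.group F → g * (k : GL D.Idx F) * g⁻¹ ∈ D.borelSubgroup F := by
      intro g hg
      have := hk ⟨g, hg⟩
      rw [Subgroup.mem_subgroupOf] at this
      exact this
    set n := nLongGL D hD F w with hn
    have hnG : n ∈ D.group F := nLongGL_mem_group D hD F w
    have hkB : (k : GL D.Idx F) ∈ D.borelSubgroup F := by
      have := hB 1 (one_mem _)
      rwa [one_mul, inv_one, mul_one] at this
    have hkB' : (k : GL D.Idx F) ∈ D.negUnipotent F ⊔ D.diagonalSubgroup F := by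
      rw [← conj_borel_eq D hD F w hL, Subgroup.mem_map]
      refine ⟨n⁻¹ * (k : GL D.Idx F) * n, ?_, ?_⟩
      · have := hB n⁻¹ (inv_mem hnG)
        rwa [inv_inv] at this
      · show n * (n⁻¹ * (k : GL D.Idx F) * n) * n⁻¹ = k
        group
    rw [← borel_inf_negBorel D hD F]
    exact Subgroup.mem_inf.mpr ⟨hkB, hkB'⟩
  rw [Subgroup.eq_bot_iff_forall]
  intro k hk
  obtain ⟨χ, hχ, hkm⟩ := mem_diagonalSubgroup_char D hD F _ (hKH k hk)
  have hχ1 : ∀ s < D.nroots, χ s = 1 := by
    intro s hs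
    set g : ↥(D.group F) := ⟨xGL D hD F s 1, xGL_mem_group D hD F s 1⟩ with hg
    have h1 : g * k * g⁻¹ ∈ K := (inferInstance : K.Normal).conj_mem k hk g
    have h2 := hKH _ h1
    have h3 : ((g * k * g⁻¹ : ↥(D.group F)) : GL D.Idx F) =
        xGL D hD F s 1 * (k : GL D.Idx F) * (xGL D hD F s 1)⁻¹ := rfl
    rw [h3] at h2
    have h4 : xGL D hD F s 1 * (k : GL D.Idx F) * (xGL D hD F s 1)⁻¹ * (k : GL D.Idx F)⁻¹ ∈
        D.diagonalSubgroup F := Subgroup.mul_mem _ h2 (Subgroup.inv_mem _ (hKH k hk))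
    have h5 : (k : GL D.Idx F) * xGL D hD F s (-1) = xGL D hD F s (χ s * -1) * (k : GL D.Idx F) :=
      diagGL_xGL_comm D hD F _ χ hχ hkm s (-1)
    have h6 : xGL D hD F s 1 * (k : GL D.Idx F) * (xGL D hD F s 1)⁻¹ * (k : GL D.Idx F)⁻¹ =
        xGL D hD F s (1 - χ s) := by
      rw [xGL_inv, mul_assoc (xGL D hD F s 1), h5, mul_assoc, mul_assoc, mul_inv_cancel, mul_one, xGL_mul]
      congr 1; ring
    rw [h6] at h4
    have := eq_zero_of_xGL_mem_diagonal D hD F s hs _ h4
    exact (sub_eq_zero.mp this).symm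
  apply Subtype.ext
  apply Units.ext
  rw [hkm]
  show diagChar D F χ = 1
  unfold diagChar
  rw [← Matrix.diagonal_one]
  congr 1
  funext i
  rcases i with i | u
  · rfl
  · exact hχ1 u.val u.isLt

end

end Cfsg.Agent.Lib.Helper7
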