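import Cfsg.Agent.Lib.Helper7.ChevCell
import Cfsg.Agent.Lib.Helper7.ChevOrd3

/-! `|G| = q^N |H| Σ_w q^{ℓ(w)}` for a finite Chevalley group (helper7). -/

set_option autoImplicit false

namespace Cfsg.Agent.Lib.Helper7

open Cfsg Cfsg.Lie Matrix
open Cfsg.Agent.Lib.Helper3.BN Cfsg.Agent.Lib.Helper3.WordLen
open scoped Pointwise

section
variable (D : ChevalleyDatum) (hD : D ∈ [chevG2, chevB2, chevD4, chevF4, chevE6, chevE7, chevE8])
variable (F : Type*) [Field F]
include hD

/-- `|B| = |H| |U|` -/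
theorem card_borel : Nat.card (D.borelSubgroup F) = Nat.card (D.diagonalSubgroup F) * Nat.card (D.posUnipotent F) := by
  have hHB := diagonal_le_borel D hD F
  have hUB := posUnipotent_le_borel D hD F
  let φ : D.diagonalSubgroup F × D.posUnipotent F → D.borelSubgroup F := fun p =>
    ⟨(p.1 : GL D.Idx F) * (p.2 : GL D.Idx F), Subgroup.mul_mem _ (hHB p.1.2) (hUB p.2.2)⟩
  have hinj : Function.Injective φ := by
    rintro ⟨h, u⟩ ⟨h', u'⟩ heq
    have h1 : (h : GL D.Idx F) * (u : GL D.Idx F) = (h' : GL D.Idx F) * (u' : GL D.Idx F) :=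
      congrArg Subtype.val heq
    have h2 : (u : GL D.Idx F) * (u' : GL D.Idx F)⁻¹ = (h : GL D.Idx F)⁻¹ * (h' : GL D.Idx F) := by
      have : (u : GL D.Idx F) = (h : GL D.Idx F)⁻¹ * ((h' : GL D.Idx F) * (u' : GL D.Idx F)) := by
        rw [← h1]; group
      rw [this]; group
    have h3 : (u : GL D.Idx F) * (u' : GL D.Idx F)⁻¹ ∈ D.posUnipotent F ⊓ D.diagonalSubgroup F := by
      refine Subgroup.mem_inf.mpr ⟨Subgroup.mul_mem _ u.2 (Subgroup.inv_mem _ u'.2), ?_⟩
      rw [h2]; exact Subgroup.mul_mem _ (Subgroup.inv_mem _ h.2) h'.2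
    rw [posUnipotent_inf_diagonalSubgroup D hD F, Subgroup.mem_bot] at h3
    have hu : (u : GL D.Idx F) = u' := by
      have := mul_inv_eq_one.mp h3
      exact this
    have hh : (h : GL D.Idx F) = h' := by
      rw [hu] at h1
      exact mul_right_cancel h1
    exact Prod.ext (Subtype.ext hh) (Subtype.ext hu)
  have hsurj : Function.Surjective φ := by
    rintro ⟨b, hb⟩
    have hb' : b ∈ ((D.borelSubgroup F : Subgroup (GL D.Idx F)) : Set (GL D.Idx F)) := hb
    rw [borel_eq_mul D hD F] at hb'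
    obtain ⟨h, hh, u, hu, rfl⟩ := Set.mem_mul.mp hb'
    exact ⟨(⟨h, hh⟩, ⟨u, hu⟩), rfl⟩
  have := Nat.card_congr (Equiv.ofBijective φ ⟨hinj, hsurj⟩)
  rw [Nat.card_prod] at this
  exact this.symm

/-- `|G| = q^N |H| Σ_w q^{ℓ(w)}` -/
theorem card_group_eq [Fintype F] [Fintype (W (chevBNPair D hD F))] :
    Nat.card ↥(D.group F) = Fintype.card F ^ (D.nroots / 2) * Nat.card (D.diagonalSubgroup F) *
      ∑ w : W (chevBNPair D hD F), Fintype.card F ^ len (Sbar (chevBNPair D hD F)) w := by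
  have : Finite ↥(D.group F) := by
    have : Finite (GL D.Idx F) := by
      have : Finite (Matrix D.Idx D.Idx F) := inferInstance
      exact Finite.of_injective (fun g : GL D.Idx F => (g : Matrix D.Idx D.Idx F)) Units.val_injective
    infer_instance
  rw [card_eq_sum_pow (chevBNPair D hD F) (Fintype.card F) (card_C_fund D hD F)]
  congr 1
  rw [chevBNPair_B, Nat.card_congr (Subgroup.subgroupOfEquivOfLe (borel_le_group D hD F)).toEquiv,
    card_borel D hD F, card_posUnipotent D hD F, mul_comm]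

end

end Cfsg.Agent.Lib.Helper7
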