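import Cfsg.Agent.Lib.Helper7.ChevRootGen
set_option autoImplicit false
namespace Cfsg.Agent.Lib.Helper7
open Cfsg Cfsg.Lie
set_option maxRecDepth 1000000
theorem rootSL_E8_2 : slRangeB chevE8 60 30 = true := by decide +kernel
end Cfsg.Agent.Lib.Helper7
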