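import Cfsg.Agent.Lib.Helper7.ChevRootTabA
import Cfsg.Agent.Lib.Helper7.ChevRootTabF4x0
import Cfsg.Agent.Lib.Helper7.ChevRootTabF4x1
import Cfsg.Agent.Lib.Helper7.ChevRootTabF4x2
import Cfsg.Agent.Lib.Helper7.ChevRootTabF4x3
import Cfsg.Agent.Lib.Helper7.ChevRootTabE7x0
import Cfsg.Agent.Lib.Helper7.ChevRootTabE7x1
import Cfsg.Agent.Lib.Helper7.ChevRootTabE8x0
import Cfsg.Agent.Lib.Helper7.ChevRootTabE8x1
import Cfsg.Agent.Lib.Helper7.ChevRootTabE8x2
import Cfsg.Agent.Lib.Helper7.ChevRootTabE8x3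
import Cfsg.Agent.Lib.Helper7.ChevRootTabE8x4
import Cfsg.Agent.Lib.Helper7.ChevRootTabE8x5
import Cfsg.Agent.Lib.Helper7.ChevRootTabE8x6
import Cfsg.Agent.Lib.Helper7.ChevRootTabE8x7
import Cfsg.Agent.Lib.Helper7.ChevAddMain
import Cfsg.Agent.Lib.Helper7.ChevHxAll

/-! `RootFacts` for every root of the seven tabulated Chevalley data; `h_r(t)` is diagonal (helper7). -/

set_option autoImplicit false
namespace Cfsg.Agent.Lib.Helper7
open Cfsg Cfsg.Lie

theorem sortedB_of_rootOKB (D : ChevalleyDatum) (r : ℕ) (h : rootOKB D r = true) :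
    sortedB ((D.chain.getD r #[]).toList.map Prod.fst) = true := by
  unfold rootOKB at h
  simp only [Bool.and_eq_true] at h
  exact h.1.2

theorem rowOKB_of_hxOKB (D : ChevalleyDatum) (i : ℕ) (h : hxOKB D i = true) : rowOKB D i = true := by
  unfold hxOKB at h
  rw [Bool.and_eq_true] at h
  exact h.1

theorem rootOKB_of_addOKB (D : ChevalleyDatum) (h : addOKB D = true) (r : ℕ) (hr : r < D.nroots) :
    rootOKB D r = true := by
  unfold addOKB at h
  rw [List.all_eq_true] at h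
  exact h r (List.mem_range.mpr hr)

theorem rootFacts_SL (D : ChevalleyDatum) (hadd : addOKB D = true) (hhx : hxAllB D = true) (r : ℕ)
    (h : rootSLB D ((List.range D.rank).map (rowPack D)) r = true) : RootFacts D r := by
  have h0 := h
  unfold rootSLB at h0
  simp only [Bool.and_eq_true, decide_eq_true_eq] at h0
  obtain ⟨⟨⟨⟨⟨⟨⟨⟨hr, hrb⟩, -⟩, -⟩, -⟩, -⟩, -⟩, -⟩, -⟩ := h0
  have hx : ∀ k < D.rank, hxOKB D k = true := by
    intro k hk
    unfold hxAllB at hhx
    rw [List.all_eq_true] at hhx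
    exact hhx k (List.mem_range.mpr hk)
  exact rootFacts_of_rootSLB D r (addHyp_of_addOKB D hadd r hr)
    (sortedB_of_rootOKB D r (rootOKB_of_addOKB D hadd r hr))
    (sortedB_of_rootOKB D _ (rootOKB_of_addOKB D hadd _ hrb))
    (fun k hk => rowOKB_of_hxOKB D k (hx k hk))
    (fun k hk => hxFacts_of_hxOKB D k (hx k hk)) h

theorem rootFacts_Gen (D : ChevalleyDatum) (hadd : addOKB D = true) (hhx : hxAllB D = true) (r : ℕ)
    (h : rootGenB D r = true) : RootFacts D r := by
  have h0 := h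
  unfold rootGenB at h0
  simp only [Bool.and_eq_true, decide_eq_true_eq] at h0
  obtain ⟨⟨⟨⟨⟨hr, -⟩, -⟩, -⟩, -⟩, -⟩ := h0
  exact rootFacts_of_rootGenB D r (addHyp_of_addOKB D hadd r hr)
    (fun k hk => hxFacts_of_hxAllB D hhx k hk) h

theorem rootFacts_G2 (r : ℕ) (hr : r < chevG2.nroots) : RootFacts chevG2 r :=
  rootFacts_Gen _ addOKB_G2 hxAllB_G2 r (rootGenB_of_range _ 0 12 rootGen_G2 r (Nat.zero_le _) (by have h : r < 12 := hr; omega))

theorem rootFacts_B2 (r : ℕ) (hr : r < chevB2.nroots) : RootFacts chevB2 r :=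
  rootFacts_Gen _ addOKB_B2 hxAllB_B2 r (rootGenB_of_range _ 0 8 rootGen_B2 r (Nat.zero_le _) (by have h : r < 8 := hr; omega))

theorem rootFacts_D4 (r : ℕ) (hr : r < chevD4.nroots) : RootFacts chevD4 r :=
  rootFacts_SL _ addOKB_D4 hxAllB_D4 r (rootSLB_of_range _ 0 24 rootSL_D4 r (Nat.zero_le _) (by have h : r < 24 := hr; omega))

theorem rootFacts_E6 (r : ℕ) (hr : r < chevE6.nroots) : RootFacts chevE6 r :=
  rootFacts_SL _ addOKB_E6 hxAllB_E6 r (rootSLB_of_range _ 0 72 rootSL_E6 r (Nat.zero_le _) (by have h : r < 72 := hr; omega))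

theorem rootFacts_F4 (r : ℕ) (hr : r < chevF4.nroots) : RootFacts chevF4 r := by
  have hr' : r < 48 := hr
  apply rootFacts_Gen _ addOKB_F4 hxAllB_F4 r
  by_cases h0 : r < 12
  · exact rootGenB_of_range _ 0 12 rootGen_F4_0 r (Nat.zero_le _) (by omega)
  · by_cases h1 : r < 24
    · exact rootGenB_of_range _ 12 12 rootGen_F4_1 r (by omega) (by omega)
    · by_cases h2 : r < 36
      · exact rootGenB_of_range _ 24 12 rootGen_F4_2 r (by omega) (by omega)
      · exact rootGenB_of_range _ 36 12 rootGen_F4_3 r (by omega) (by omega)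

theorem rootFacts_E7 (r : ℕ) (hr : r < chevE7.nroots) : RootFacts chevE7 r := by
  have hr' : r < 126 := hr
  apply rootFacts_SL _ addOKB_E7 hxAllB_E7 r
  by_cases h0 : r < 63
  · exact rootSLB_of_range _ 0 63 rootSL_E7_0 r (Nat.zero_le _) (by omega)
  · exact rootSLB_of_range _ 63 63 rootSL_E7_1 r (by omega) (by omega)

theorem rootFacts_E8 (r : ℕ) (hr : r < chevE8.nroots) : RootFacts chevE8 r := by
  have hr' : r < 240 := hr
  apply rootFacts_SL _ addOKB_E8 hxAllB_E8 r
  by_cases h0 : r < 30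
  · exact rootSLB_of_range _ 0 30 rootSL_E8_0 r (Nat.zero_le _) (by omega)
  by_cases h1 : r < 60
  · exact rootSLB_of_range _ 30 30 rootSL_E8_1 r (by omega) (by omega)
  by_cases h2 : r < 90
  · exact rootSLB_of_range _ 60 30 rootSL_E8_2 r (by omega) (by omega)
  by_cases h3 : r < 120
  · exact rootSLB_of_range _ 90 30 rootSL_E8_3 r (by omega) (by omega)
  by_cases h4 : r < 150
  · exact rootSLB_of_range _ 120 30 rootSL_E8_4 r (by omega) (by omega)
  by_cases h5 : r < 180
  · exact rootSLB_of_range _ 150 30 rootSL_E8_5 r (by omega) (by omega)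
  by_cases h6 : r < 210
  · exact rootSLB_of_range _ 180 30 rootSL_E8_6 r (by omega) (by omega)
  · exact rootSLB_of_range _ 210 30 rootSL_E8_7 r (by omega) (by omega)

/-- `RootFacts` for every root of the seven data -/
theorem rootFacts_of_mem (D : ChevalleyDatum)
    (hD : D ∈ [chevG2, chevB2, chevD4, chevF4, chevE6, chevE7, chevE8]) : ∀ r < D.nroots, RootFacts D r :=
  mem_seven_cases (P := fun D => ∀ r < D.nroots, RootFacts D r) rootFacts_G2 rootFacts_B2 rootFacts_D4
    rootFacts_F4 rootFacts_E6 rootFacts_E7 rootFacts_E8 D hD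

/-- `h_r(t)` is diagonal, for every root `r` -/
theorem hMat_diag_of_mem (D : ChevalleyDatum)
    (hD : D ∈ [chevG2, chevB2, chevD4, chevF4, chevE6, chevE7, chevE8]) (r : ℕ) (hr : r < D.nroots)
    (F : Type*) [Field F] (c : F) (hc : c ≠ 0) :
    D.hMat F r c =
      Matrix.diagonal (Sum.elim (fun _ => (1 : F)) (fun s : Fin D.nroots => c ^ (carR D r s))) :=
  hMat_root D r (rootFacts_of_mem D hD r hr) F c hc

end Cfsg.Agent.Lib.Helper7
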