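import Mathlib

set_option autoImplicit false
set_option linter.unusedSectionVars false

/-!
# Unitriangular matrices with respect to a level function

`Level b k M` says that the entry `M i j` vanishes unless `b j + k ≤ b i`.
The invertible matrices `g` with `Level b k (g - 1)` (`k ≥ 1`) form subgroups `T b k` of `GL`, and
`⁅T b k, T b 1⁆ ≤ T b (k+1)`; in particular every subgroup of `T b 1` is nilpotent.
-/

namespace Cfsg.Agent.Lib.Helper7

open Matrix

variable {n : Type*} [Fintype n] [DecidableEq n] {R : Type*} [CommRing R] (b : n → ℕ)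

/-- `M i j = 0` unless `b j + k ≤ b i`. -/
def Level (k : ℕ) (M : Matrix n n R) : Prop := ∀ i j, b i < b j + k → M i j = 0

variable {b}

theorem Level.zero (k : ℕ) : Level b k (0 : Matrix n n R) := fun _ _ _ => rfl

theorem Level.one : Level b 0 (1 : Matrix n n R) := by
  intro i j h
  rw [Matrix.one_apply, if_neg]
  rintro rfl
  omega

theorem Level.mono {k l : ℕ} {M : Matrix n n R} (hkl : k ≤ l) (h : Level b l M) : Level b k M :=
  fun i j hij => h i j (by omega)

theorem Level.add {k : ℕ} {A B : Matrix n n R} (hA : Level b k A) (hB : Level b k B) :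
    Level b k (A + B) := by
  intro i j h
  rw [Matrix.add_apply, hA i j h, hB i j h, add_zero]

theorem Level.neg {k : ℕ} {A : Matrix n n R} (hA : Level b k A) : Level b k (-A) := by
  intro i j h
  rw [Matrix.neg_apply, hA i j h, neg_zero]

theorem Level.sub {k : ℕ} {A B : Matrix n n R} (hA : Level b k A) (hB : Level b k B) :
    Level b k (A - B) := by
  rw [sub_eq_add_neg]; exact hA.add hB.neg

theorem Level.mul {k l : ℕ} {A B : Matrix n n R} (hA : Level b k A) (hB : Level b l B) :
    Level b (k + l) (A * B) := by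
  intro i j h
  rw [Matrix.mul_apply]
  apply Finset.sum_eq_zero
  intro m _
  by_cases h1 : b i < b m + k
  · rw [hA i m h1, zero_mul]
  · have h2 : b m < b j + l := by omega
    rw [hB m j h2, mul_zero]

theorem Level.pow {k : ℕ} {A : Matrix n n R} (hA : Level b k A) (m : ℕ) : Level b (k * m) (A ^ m) := by
  induction m with
  | zero => simpa using (Level.one : Level b 0 (1 : Matrix n n R))
  | succ m ih =>
    rw [pow_succ, Nat.mul_succ]
    exact ih.mul hA

theorem Level.sum {ι : Type*} {k : ℕ} (s : Finset ι) (f : ι → Matrix n n R)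
    (h : ∀ i ∈ s, Level b k (f i)) : Level b k (∑ i ∈ s, f i) := by
  classical
  induction s using Finset.induction_on with
  | empty => simpa using Level.zero (b := b) (R := R) k
  | insert a s ha ih =>
    rw [Finset.sum_insert ha]
    exact (h a (Finset.mem_insert_self a s)).add (ih fun i hi => h i (Finset.mem_insert_of_mem hi))

theorem Level.eq_zero {N : ℕ} (hN : ∀ i, b i < N) {M : Matrix n n R} (h : Level b N M) : M = 0 := by
  ext i j
  exact h i j (by have := hN i; omega)

/-- a unitriangular matrix `A` (i.e. `A - 1` of level `≥ 1`) has the geometric series as inverse -/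
theorem unitri_mul_geom {N : ℕ} (hN : ∀ i, b i < N) {A : Matrix n n R} (hA : Level b 1 (A - 1)) :
    A * ∑ i ∈ Finset.range N, (1 - A) ^ i = 1 := by
  have h1 : (1 - A) ^ N = 0 := by
    have : Level b (1 * N) ((1 - A) ^ N) := by
      have h2 : Level b 1 (1 - A) := by
        have := hA.neg; rwa [neg_sub] at this
      exact h2.pow N
    rw [one_mul] at this
    exact this.eq_zero hN
  have := mul_neg_geom_sum (1 - A) N
  rw [h1, sub_zero, sub_sub_cancel] at this
  exact this

theorem Level.geom_sub_one {N k : ℕ} (hN : ∀ i, b i < N) (hk : 1 ≤ k) {A : Matrix n n R}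
    (hA : Level b k (A - 1)) :
    Level b k (∑ i ∈ Finset.range N, (1 - A) ^ i - 1) := by
  rcases N with _ | N
  · intro i j _
    exact absurd (hN i) (Nat.not_lt_zero _)
  · rw [Finset.sum_range_succ', pow_zero, add_sub_cancel_right]
    apply Level.sum
    intro i _
    have h2 : Level b k (1 - A) := by
      have := hA.neg; rwa [neg_sub] at this
    have := h2.pow (i + 1)
    exact this.mono (by nlinarith)


/-- The subgroup of `GL` of matrices `g` with `g - 1` of level at least `k` (for `k ≥ 1`). -/
def unitriSubgroup (b : n → ℕ) (N : ℕ) (hN : ∀ i, b i < N) (k : ℕ) (hk : 1 ≤ k) : Subgroup (GL n R) where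
  carrier := {g | Level b k ((g : Matrix n n R) - 1)}
  one_mem' := by
    show Level b k (((1 : GL n R) : Matrix n n R) - 1)
    simpa using Level.zero (b := b) (R := R) k
  mul_mem' := by
    intro g h hg hh
    show Level b k (((g * h : GL n R) : Matrix n n R) - 1)
    have e : ((g * h : GL n R) : Matrix n n R) - 1
        = ((g : Matrix n n R) - 1) * ((h : Matrix n n R) - 1) + ((g : Matrix n n R) - 1)
          + ((h : Matrix n n R) - 1) := by
      rw [Units.val_mul]; noncomm_ring
    rw [e]
    have h1 : Level b k (((g : Matrix n n R) - 1) * ((h : Matrix n n R) - 1)) :=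
      (Level.mul hg hh).mono (by omega)
    exact (h1.add hg).add hh
  inv_mem' := by
    intro g hg
    show Level b k (((g⁻¹ : GL n R) : Matrix n n R) - 1)
    have h1 : Level b 1 ((g : Matrix n n R) - 1) := hg.mono hk
    have h2 := unitri_mul_geom hN h1
    have h3 : ((g⁻¹ : GL n R) : Matrix n n R) = ∑ i ∈ Finset.range N, (1 - (g : Matrix n n R)) ^ i := by
      have : ((g⁻¹ : GL n R) : Matrix n n R) * ((g : Matrix n n R) *
          ∑ i ∈ Finset.range N, (1 - (g : Matrix n n R)) ^ i) = ((g⁻¹ : GL n R) : Matrix n n R) := by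
        rw [h2, mul_one]
      rw [← mul_assoc, ← Units.val_mul, inv_mul_cancel, Units.val_one, one_mul] at this
      exact this.symm
    rw [h3]
    exact Level.geom_sub_one hN hk hg

theorem mem_unitriSubgroup {b : n → ℕ} {N : ℕ} {hN : ∀ i, b i < N} {k : ℕ} {hk : 1 ≤ k} {g : GL n R} :
    g ∈ unitriSubgroup (R := R) b N hN k hk ↔ Level b k ((g : Matrix n n R) - 1) := Iff.rfl

theorem unitriSubgroup_eq_bot {b : n → ℕ} {N : ℕ} {hN : ∀ i, b i < N} {k : ℕ} {hk : 1 ≤ k} (hNk : N ≤ k) :
    unitriSubgroup (R := R) b N hN k hk = ⊥ := by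
  rw [Subgroup.eq_bot_iff_forall]
  intro g hg
  have h0 : (g : Matrix n n R) - 1 = 0 := (Level.mono hNk (mem_unitriSubgroup.mp hg)).eq_zero hN
  apply Units.ext
  rw [Units.val_one]
  exact sub_eq_zero.mp h0

/-- the commutator of a level-`k` unitriangular element with a level-`1` one is of level `k+1` -/
theorem commutator_mem_unitriSubgroup {b : n → ℕ} {N : ℕ} {hN : ∀ i, b i < N} {k : ℕ} {hk : 1 ≤ k}
    {x g : GL n R} (hx : x ∈ unitriSubgroup (R := R) b N hN k hk)
    (hg : g ∈ unitriSubgroup (R := R) b N hN 1 le_rfl) :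
    x * g * x⁻¹ * g⁻¹ ∈ unitriSubgroup (R := R) b N hN (k + 1) (by omega) := by
  rw [mem_unitriSubgroup] at hx hg ⊢
  have hxi : Level b 0 ((x⁻¹ : GL n R) : Matrix n n R) := by
    have h1 : x⁻¹ ∈ unitriSubgroup (R := R) b N hN k hk := Subgroup.inv_mem _ hx
    have h2 : Level b k (((x⁻¹ : GL n R) : Matrix n n R) - 1) := h1
    have := (h2.mono (Nat.zero_le k)).add (Level.one (b := b) (R := R))
    simpa using this
  have hgi : Level b 0 ((g⁻¹ : GL n R) : Matrix n n R) := by
    have h1 : g⁻¹ ∈ unitriSubgroup (R := R) b N hN 1 le_rfl := Subgroup.inv_mem _ hg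
    have h2 : Level b 1 (((g⁻¹ : GL n R) : Matrix n n R) - 1) := h1
    have := (h2.mono (Nat.zero_le 1)).add (Level.one (b := b) (R := R))
    simpa using this
  have e : ((x * g * x⁻¹ * g⁻¹ : GL n R) : Matrix n n R) - 1
      = ((((x : Matrix n n R) - 1) * ((g : Matrix n n R) - 1)
          - ((g : Matrix n n R) - 1) * ((x : Matrix n n R) - 1))
          * ((x⁻¹ : GL n R) : Matrix n n R)) * ((g⁻¹ : GL n R) : Matrix n n R) := by
    have h1 : (((x : Matrix n n R) - 1) * ((g : Matrix n n R) - 1)
          - ((g : Matrix n n R) - 1) * ((x : Matrix n n R) - 1))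
        = (x : Matrix n n R) * (g : Matrix n n R) - (g : Matrix n n R) * (x : Matrix n n R) := by
      noncomm_ring
    have h2 : (g : Matrix n n R) * (x : Matrix n n R) * ((x⁻¹ : GL n R) : Matrix n n R)
        * ((g⁻¹ : GL n R) : Matrix n n R) = 1 := by
      rw [← Units.val_mul, ← Units.val_mul, ← Units.val_mul]
      simp
    rw [h1, sub_mul, sub_mul, h2]
    simp [Units.val_mul, mul_assoc]
  rw [e]
  have h3 : Level b (k + 1) (((x : Matrix n n R) - 1) * ((g : Matrix n n R) - 1)
          - ((g : Matrix n n R) - 1) * ((x : Matrix n n R) - 1)) := by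
    refine (Level.mul hx hg).sub ?_
    have := Level.mul hg hx
    rwa [add_comm] at this
  have h4 := (Level.mul h3 hxi)
  have h5 := (Level.mul h4 hgi)
  simpa using h5

/-- every subgroup of the unitriangular group is nilpotent -/
theorem isNilpotent_of_le_unitriSubgroup {b : n → ℕ} {N : ℕ} {hN : ∀ i, b i < N}
    (U : Subgroup (GL n R)) (hU : U ≤ unitriSubgroup (R := R) b N hN 1 le_rfl) :
    Group.IsNilpotent ↥U := by
  rw [Subgroup.nilpotent_iff_finite_descending_central_series]
  refine ⟨N, fun m => (unitriSubgroup (R := R) b N hN (m + 1) (by omega)).subgroupOf U, ⟨?_, ?_⟩, ?_⟩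
  · rw [Subgroup.subgroupOf_eq_top]
    exact hU
  · intro x m hx g
    rw [Subgroup.mem_subgroupOf] at hx ⊢
    have := commutator_mem_unitriSubgroup (hk := by omega) hx (hU g.2)
    simpa [commutatorElement_def] using this
  · show (unitriSubgroup (R := R) b N hN (N + 1) (by omega)).subgroupOf U = ⊥
    rw [unitriSubgroup_eq_bot (Nat.le_succ N)]
    exact Subgroup.bot_subgroupOf U


theorem sub_one_pow_eq_zero_of_mem_unitriSubgroup {b : n → ℕ} {N : ℕ} {hN : ∀ i, b i < N}
    {g : GL n R} (hg : g ∈ unitriSubgroup (R := R) b N hN 1 le_rfl) {K : ℕ} (hK : N ≤ K) :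
    ((g : Matrix n n R) - 1) ^ K = 0 := by
  have h1 : Level b 1 ((g : Matrix n n R) - 1) := hg
  have h2 := h1.pow K
  rw [one_mul] at h2
  exact (h2.mono hK).eq_zero hN

end Cfsg.Agent.Lib.Helper7
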