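import Cfsg.Agent.Lib.Helper7.ChevBasic
import Cfsg.Agent.Lib.Helper7.Unitriangular

set_option autoImplicit false

namespace Cfsg.Agent.Lib.Helper7

open Cfsg Cfsg.Lie

/-- the level of a basis vector: negative roots (by index), then all coroots, then positive roots -/
def levelFn (D : ChevalleyDatum) : D.Idx → ℕ
  | Sum.inl _ => D.nroots / 2
  | Sum.inr s => if s.val < D.nroots / 2 then s.val else s.val + 1

theorem levelFn_lt (D : ChevalleyDatum) (i : D.Idx) : levelFn D i < D.nroots + 1 := by
  rcases i with i | s
  · show D.nroots / 2 < D.nroots + 1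
    omega
  · show (if s.val < D.nroots / 2 then s.val else s.val + 1) < D.nroots + 1
    have := s.isLt
    split_ifs <;> omega

/-- table condition: positive roots come in the second half, their negatives in the first half,
and chains of positive roots go upwards in the index order -/
def TriOK (D : ChevalleyDatum) : Prop :=
  1 ≤ D.rank ∧ ∀ r < D.nroots, D.IsPosRoot r →
    D.nroots / 2 ≤ r ∧ D.negIdx.getD r 0 < D.nroots / 2 ∧
      ∀ e ∈ (D.chain.getD r #[]).toList, ∀ q ∈ e.2.toList, e.1 < q.1

instance instDecidableTriOK (D : ChevalleyDatum) : Decidable (TriOK D) := by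
  unfold TriOK; infer_instance

theorem chainCoeff_ne_nil (D : ChevalleyDatum) (r s u : ℕ) (h : D.chainCoeff r s u ≠ []) :
    ∃ e ∈ (D.chain.getD r #[]).toList, e.1 = s ∧ ∃ q ∈ e.2.toList, q.1 = u := by
  obtain ⟨km, hkm⟩ := List.exists_mem_of_ne_nil _ h
  unfold ChevalleyDatum.chainCoeff at hkm
  simp only [List.mem_flatMap, List.mem_map, List.mem_filter] at hkm
  obtain ⟨e, ⟨he, hes⟩, q, ⟨hq, hqu⟩, _⟩ := hkm
  refine ⟨e, he, by simpa using hes, q.1, ?_, by simpa using hqu⟩
  exact List.fst_mem_of_mem_zipIdx hq

theorem level_xMat_sub_one (D : ChevalleyDatum) (hD : TriOK D) (F : Type*) [Field F]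
    (r : Fin D.nroots) (hr : D.IsPosRoot r.val) (t : F) :
    Level (levelFn D) 1 (D.xMat F r t - 1) := by
  obtain ⟨h1, h2, h3⟩ := hD.2 r.val r.isLt hr
  intro i j hij
  rw [Matrix.sub_apply, sub_eq_zero]
  unfold ChevalleyDatum.xMat
  simp only [Matrix.of_apply]
  rcases j with c | s
  · rcases i with i' | u
    · simp [Matrix.one_apply]
    · have hur : u ≠ r := by
        rintro rfl
        have : levelFn D (Sum.inr u) < levelFn D (Sum.inl c) + 1 := hij
        simp only [levelFn] at this
        split_ifs at this <;> omega
      simp [Matrix.one_apply, hur]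
  · by_cases hsr : s = r
    · rcases i with i' | u
      · simp [Matrix.one_apply, hsr]
      · simp only [hsr, if_true, Matrix.one_apply, Sum.inr.injEq]
    · by_cases hneg : s.val = D.negIdx.getD r.val 0
      · have hs : s.val < D.nroots / 2 := by rw [hneg]; exact h2
        rcases i with i' | u
        · exfalso
          have : levelFn D (Sum.inl i') < levelFn D (Sum.inr s) + 1 := hij
          simp only [levelFn, if_pos hs] at this
          omega
        · simp only [hsr, if_false, hneg, if_true, Matrix.one_apply, Sum.inr.injEq]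
          by_cases hus : u = s
          · simp [hus, hneg]
          · have hur : u ≠ r := by
              rintro rfl
              have : levelFn D (Sum.inr u) < levelFn D (Sum.inr s) + 1 := hij
              simp only [levelFn, if_pos hs] at this
              split_ifs at this <;> omega
            simp [hus, hur]
      · rcases i with i' | u
        · simp only [hsr, if_false, hneg, Matrix.one_apply]; simp
        · simp only [hsr, if_false, hneg, Matrix.one_apply, Sum.inr.injEq]
          have hnil : D.chainCoeff r.val s.val u.val = [] := by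
            by_contra hne
            obtain ⟨e, he, hes, q, hq, hqu⟩ := chainCoeff_ne_nil D _ _ _ hne
            have hlt := h3 e he q hq
            rw [hes, hqu] at hlt
            have : levelFn D (Sum.inr u) < levelFn D (Sum.inr s) + 1 := hij
            simp only [levelFn] at this
            split_ifs at this <;> omega
          rw [hnil]
          simp

theorem level_x_sub_one (D : ChevalleyDatum) (hD : TriOK D) (F : Type*) [Field F]
    (r : ℕ) (hr : D.IsPosRoot r) (t : F) :
    Level (levelFn D) 1 (D.x F r t - 1) := by
  rw [x_eq_xMat D F r hr.1]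
  exact level_xMat_sub_one D hD F ⟨r, hr.1⟩ hr t

theorem posUnipotent_le_unitri (D : ChevalleyDatum) (hD : TriOK D) (F : Type*) [Field F] :
    D.posUnipotent F ≤ unitriSubgroup (R := F) (levelFn D) (D.nroots + 1) (levelFn_lt D) 1 le_rfl := by
  unfold ChevalleyDatum.posUnipotent
  rw [Subgroup.closure_le]
  rintro g ⟨r, t, hr, hg⟩
  show Level (levelFn D) 1 ((g : Matrix D.Idx D.Idx F) - 1)
  rw [hg]
  exact level_x_sub_one D hD F r hr t

theorem posUnipotent_isNilpotent (D : ChevalleyDatum) (hD : TriOK D) (F : Type*) [Field F] :
    Group.IsNilpotent ↥(D.posUnipotent F) :=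
  isNilpotent_of_le_unitriSubgroup _ (posUnipotent_le_unitri D hD F)

theorem posUnipotent_sub_one_pow (D : ChevalleyDatum) (hD : TriOK D) (F : Type*) [Field F]
    (g : GL D.Idx F) (hg : g ∈ D.posUnipotent F) :
    ((g : Matrix D.Idx D.Idx F) - 1) ^ (D.rank + D.nroots) = 0 :=
  sub_one_pow_eq_zero_of_mem_unitriSubgroup (posUnipotent_le_unitri D hD F hg)
    (by have := hD.1; omega)

set_option maxRecDepth 100000 in
theorem triOK_G2 : TriOK chevG2 := by decide +kernel
set_option maxRecDepth 100000 in
theorem triOK_B2 : TriOK chevB2 := by decide +kernel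
set_option maxRecDepth 100000 in
theorem triOK_D4 : TriOK chevD4 := by decide +kernel
set_option maxRecDepth 100000 in
theorem triOK_F4 : TriOK chevF4 := by decide +kernel
set_option maxRecDepth 100000 in
theorem triOK_E6 : TriOK chevE6 := by decide +kernel
set_option maxRecDepth 100000 in
theorem triOK_E7 : TriOK chevE7 := by decide +kernel
set_option maxRecDepth 100000 in
theorem triOK_E8 : TriOK chevE8 := by decide +kernel

theorem triOK_of_mem (D : ChevalleyDatum)
    (hD : D ∈ [chevG2, chevB2, chevD4, chevF4, chevE6, chevE7, chevE8]) : TriOK D :=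
  mem_seven_cases (P := TriOK) triOK_G2 triOK_B2 triOK_D4 triOK_F4 triOK_E6 triOK_E7 triOK_E8 D hD

end Cfsg.Agent.Lib.Helper7
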