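import Cfsg.Agent.Lib.Helper7.ChevDiag
import Cfsg.Agent.Lib.Helper7.ChevRootMain
import Cfsg.Agent.Lib.Helper7.ChevTri

set_option autoImplicit false

namespace Cfsg.Agent.Lib.Helper7

open Cfsg Cfsg.Lie Matrix

section
variable (D : ChevalleyDatum) (hD : D ∈ [chevG2, chevB2, chevD4, chevF4, chevE6, chevE7, chevE8])
variable (F : Type*) [Field F]
include hD

theorem chainChar_h (r : ℕ) (c : F) (hc : c ≠ 0) :
    ChainChar D F (fun s => c ^ carR D r s) :=
  chainChar_zpow D F _ (chainAdd_carR D (fun k hk => hxFacts_of_mem D hD k hk) r) c hc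

theorem hMat_eq_diagChar (r : ℕ) (hr : r < D.nroots) (c : F) (hc : c ≠ 0) :
    D.hMat F r c = diagChar D F (fun s => c ^ carR D r s) :=
  hMat_diag_of_mem D hD r hr F c hc

omit hD in
/-- the inverse of an invertible matrix which is the diagonal matrix of a character -/
theorem coe_inv_of_diagChar (g : GL D.Idx F) (χ : ℕ → F) (hχ : ∀ s < D.nroots, χ s ≠ 0)
    (hg : (g : Matrix D.Idx D.Idx F) = diagChar D F χ) :
    ((g⁻¹ : GL D.Idx F) : Matrix D.Idx D.Idx F) = diagChar D F (fun s => (χ s)⁻¹) := by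
  have h1 : diagChar D F χ * diagChar D F (fun s => (χ s)⁻¹) = 1 := by
    rw [diagChar_mul]
    unfold diagChar
    rw [← Matrix.diagonal_one]
    congr 1
    funext x
    rcases x with j | s
    · simp
    · simp only [Sum.elim_inr]
      exact mul_inv_cancel₀ (hχ s.val s.isLt)
  rw [Matrix.coe_units_inv, hg]
  exact Matrix.inv_eq_right_inv h1

/-- every element of `H` is the diagonal matrix of a character -/
theorem mem_diagonalSubgroup_char (g : GL D.Idx F) (hg : g ∈ D.diagonalSubgroup F) :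
    ∃ χ : ℕ → F, ChainChar D F χ ∧ (g : Matrix D.Idx D.Idx F) = diagChar D F χ := by
  unfold ChevalleyDatum.diagonalSubgroup at hg
  induction hg using Subgroup.closure_induction with
  | mem g hg =>
    obtain ⟨r, t, hr, ht, hgm⟩ := hg
    exact ⟨_, chainChar_h D hD F r t ht, by rw [hgm, hMat_eq_diagChar D hD F r hr t ht]⟩
  | one => exact ⟨_, chainChar_one D F, by rw [diagChar_one]; rfl⟩
  | mul g h _ _ ihg ihh =>
    obtain ⟨χ, h1, h2⟩ := ihg
    obtain ⟨ψ, h3, h4⟩ := ihh
    exact ⟨_, h1.mul h3, by rw [Units.val_mul, h2, h4, diagChar_mul]⟩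
  | inv g _ ihg =>
    obtain ⟨χ, h1, h2⟩ := ihg
    exact ⟨_, h1.inv, coe_inv_of_diagChar D F g χ h1.ne0 h2⟩

/-- conjugation by the diagonal matrix of a character preserves `U` -/
theorem diagChar_conj_mem_posUnipotent (g : GL D.Idx F) (χ : ℕ → F) (hχ : ChainChar D F χ)
    (hg : (g : Matrix D.Idx D.Idx F) = diagChar D F χ) (u : GL D.Idx F) (hu : u ∈ D.posUnipotent F) :
    g * u * g⁻¹ ∈ D.posUnipotent F := by
  unfold ChevalleyDatum.posUnipotent at hu ⊢
  induction hu using Subgroup.closure_induction with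
  | mem u hu =>
    obtain ⟨r, t, hr, hum⟩ := hu
    apply Subgroup.subset_closure
    refine ⟨r, χ r * t, hr, ?_⟩
    have h1 : (g * u : GL D.Idx F) = xGL D hD F r (χ r * t) * g := by
      apply Units.ext
      rw [Units.val_mul, Units.val_mul, coe_xGL, hg, hum]
      exact diagChar_x_comm D F χ hχ r t
    rw [h1, mul_assoc, mul_inv_cancel, mul_one, coe_xGL]
  | one => simpa using Subgroup.one_mem _
  | mul a b _ _ iha ihb =>
    have : g * (a * b) * g⁻¹ = (g * a * g⁻¹) * (g * b * g⁻¹) := by group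
    rw [this]
    exact Subgroup.mul_mem _ iha ihb
  | inv a _ iha =>
    have : g * a⁻¹ * g⁻¹ = (g * a * g⁻¹)⁻¹ := by group
    rw [this]
    exact Subgroup.inv_mem _ iha

theorem diagonalSubgroup_le_normalizer_posUnipotent :
    D.diagonalSubgroup F ≤ Subgroup.normalizer (D.posUnipotent F : Set (GL D.Idx F)) := by
  intro g hg
  obtain ⟨χ, hχ, hgm⟩ := mem_diagonalSubgroup_char D hD F g hg
  rw [Subgroup.mem_set_normalizer_iff]
  intro u
  constructor
  · intro hu
    exact diagChar_conj_mem_posUnipotent D hD F g χ hχ hgm u hu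
  · intro hu
    have h1 := diagChar_conj_mem_posUnipotent D hD F g⁻¹ _ hχ.inv
      (coe_inv_of_diagChar D F g χ hχ.ne0 hgm) _ hu
    have : g⁻¹ * (g * u * g⁻¹) * g⁻¹⁻¹ = u := by group
    rw [this] at h1
    exact h1

theorem posUnipotent_inf_diagonalSubgroup : D.posUnipotent F ⊓ D.diagonalSubgroup F = ⊥ := by
  rw [Subgroup.eq_bot_iff_forall]
  intro g hg
  rw [Subgroup.mem_inf] at hg
  obtain ⟨hu, hh⟩ := hg
  obtain ⟨χ, hχ, hgm⟩ := mem_diagonalSubgroup_char D hD F g hh
  have hlev : Level (levelFn D) 1 ((g : Matrix D.Idx D.Idx F) - 1) :=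
    mem_unitriSubgroup.mp (posUnipotent_le_unitri D (triOK_of_mem D hD) F hu)
  apply Units.ext
  rw [Units.val_one]
  ext i j
  by_cases hij : i = j
  · subst hij
    have := hlev i i (by omega)
    rw [Matrix.sub_apply, sub_eq_zero] at this
    exact this
  · rw [hgm]
    unfold diagChar
    rw [Matrix.diagonal_apply_ne _ hij, Matrix.one_apply_ne hij]

end

end Cfsg.Agent.Lib.Helper7
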