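import Cfsg.Agent.Lib.Helper7.ChevUp
import Cfsg.Agent.Lib.Helper7.ChevNorm
import Cfsg.Agent.Lib.Helper7.ChevBV

/-! For a fundamental root `p`: `B ∪ B n_p B` is a subgroup (helper7). -/

set_option autoImplicit false

namespace Cfsg.Agent.Lib.Helper7

open Cfsg Cfsg.Lie Matrix
open scoped Pointwise

section
variable (D : ChevalleyDatum) (hD : D ∈ [chevG2, chevB2, chevD4, chevF4, chevE6, chevE7, chevE8])
variable (F : Type*) [Field F]
include hD

/-- the elements of a root subgroup are the root elements -/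
theorem mem_rootSubgroup_iff (r : ℕ) (g : GL D.Idx F) :
    g ∈ D.rootSubgroup F r ↔ ∃ t : F, g = xGL D hD F r t := by
  constructor
  · intro hg
    unfold ChevalleyDatum.rootSubgroup at hg
    induction hg using Subgroup.closure_induction with
    | mem g hg =>
      obtain ⟨t, hg⟩ := hg
      exact ⟨t, Units.ext (by rw [hg, coe_xGL])⟩
    | one => exact ⟨0, (xGL_zero D hD F r).symm⟩
    | mul a b _ _ iha ihb =>
      obtain ⟨t₁, rfl⟩ := iha
      obtain ⟨t₂, rfl⟩ := ihb
      exact ⟨t₁ + t₂, xGL_mul D hD F r t₁ t₂⟩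
    | inv a _ iha =>
      obtain ⟨t, rfl⟩ := iha
      exact ⟨-t, xGL_inv D hD F r t⟩
  · rintro ⟨t, rfl⟩
    apply Subgroup.subset_closure
    exact ⟨t, coe_xGL D hD F r t⟩

/-- `n_p` as an element of GL -/
noncomputable def nFund (i : ℕ) : GL D.Idx F := wordGL D hD F (D.nWord (D.simple i) 1)

theorem nFund_mem_normalizer_up (i : ℕ) (hi : i < D.rank) :
    nFund D hD F i ∈ Subgroup.normalizer (upSubgroup D F i : Set (GL D.Idx F)) := by
  unfold nFund
  rw [nGL_eq]
  have h1 : ∀ t : F, xGL D hD F (D.simple i) t ∈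
      Subgroup.normalizer (upSubgroup D F i : Set (GL D.Idx F)) :=
    fun t => xGL_mem_normalizer_up D hD F i hi _ (Or.inl rfl) t
  have h2 : ∀ t : F, xGL D hD F (D.neg (D.simple i)) t ∈
      Subgroup.normalizer (upSubgroup D F i : Set (GL D.Idx F)) :=
    fun t => xGL_mem_normalizer_up D hD F i hi _ (Or.inr rfl) t
  exact Subgroup.mul_mem _ (Subgroup.mul_mem _ (h1 _) (h2 _)) (h1 _)

theorem nFund_mem_monomial (i : ℕ) (hi : i < D.rank) : nFund D hD F i ∈ D.monomialSubgroup F := by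
  unfold ChevalleyDatum.monomialSubgroup
  apply Subgroup.mem_sup_right
  apply Subgroup.subset_closure
  refine ⟨D.simple i, (fundFacts_of_mem D hD i hi).hp, ?_⟩
  unfold nFund
  rw [coe_wordGL]; rfl

/-- `n_p⁻² = h_p(-1) ∈ H` -/
theorem nFund_inv_sq_mem (i : ℕ) (hi : i < D.rank) :
    (nFund D hD F i)⁻¹ * (nFund D hD F i)⁻¹ ∈ D.diagonalSubgroup F := by
  have h1 : wordGL D hD F (D.nWord (D.simple i) (-1)) = (nFund D hD F i)⁻¹ := by
    rw [eq_inv_iff_mul_eq_one]
    exact nGL_neg_one_mul D hD F (D.simple i)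
  have h2 : wordGL D hD F (D.hWord (D.simple i) (-1)) = (nFund D hD F i)⁻¹ * (nFund D hD F i)⁻¹ := by
    unfold ChevalleyDatum.hWord
    rw [wordGL_append, h1]
  rw [← h2]
  exact hGL_mem_diagonalSubgroup D hD F _ (fundFacts_of_mem D hD i hi).hp (-1) (by norm_num)

theorem nFund_sq_mem (i : ℕ) (hi : i < D.rank) :
    nFund D hD F i * nFund D hD F i ∈ D.diagonalSubgroup F := by
  have := Subgroup.inv_mem _ (nFund_inv_sq_mem D hD F i hi)
  rwa [_root_.mul_inv_rev, inv_inv] at this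

theorem diagonal_le_borel : D.diagonalSubgroup F ≤ D.borelSubgroup F := by
  unfold ChevalleyDatum.borelSubgroup; exact le_sup_right

theorem posUnipotent_le_borel : D.posUnipotent F ≤ D.borelSubgroup F := by
  unfold ChevalleyDatum.borelSubgroup; exact le_sup_left

theorem up_le_posUnipotent (i : ℕ) : upSubgroup D F i ≤ D.posUnipotent F := by
  unfold upSubgroup ChevalleyDatum.posUnipotent
  apply Subgroup.closure_mono
  rintro g ⟨s, t, hs, _, hg⟩
  exact ⟨s, t, hs, hg⟩

/-- `x_{-p}(t') ∈ B n_p B` for `t' ≠ 0` -/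
theorem xGL_neg_mem_doubleCoset (i : ℕ) (hi : i < D.rank) (t' : F) (ht : t' ≠ 0) :
    ∃ b₁ ∈ D.borelSubgroup F, ∃ b₂ ∈ D.borelSubgroup F,
      xGL D hD F (D.neg (D.simple i)) t' = b₁ * nFund D hD F i * b₂ := by
  have hF := fundFacts_of_mem D hD i hi
  have hpos := (parFacts_of_mem D hD).simplePos i hi
  set c : F := -t'⁻¹ with hc
  have hc0 : c ≠ 0 := by rw [hc]; exact neg_ne_zero.mpr (inv_ne_zero ht)
  have hct : -c⁻¹ = t' := by rw [hc]; field_simp
  have h1 := nGL_eq D hD F (D.simple i) c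
  rw [nGL_eq_hGL_mul D hD F (D.simple i) c, hct] at h1
  -- `h_p(c) n = x_p(c) x_{-p}(t') x_p(c)`
  have hxp : ∀ t : F, xGL D hD F (D.simple i) t ∈ D.borelSubgroup F := by
    intro t
    apply posUnipotent_le_borel D hD F
    apply Subgroup.subset_closure
    exact ⟨_, t, hpos, coe_xGL D hD F _ t⟩
  refine ⟨xGL D hD F (D.simple i) (-c) * wordGL D hD F (D.hWord (D.simple i) c), ?_,
    xGL D hD F (D.simple i) (-c), hxp _, ?_⟩
  · exact Subgroup.mul_mem _ (hxp _)
      (diagonal_le_borel D hD F (hGL_mem_diagonalSubgroup D hD F _ hF.hp c hc0))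
  · have e : xGL D hD F (D.simple i) (-c) * wordGL D hD F (D.hWord (D.simple i) c) * nFund D hD F i *
        xGL D hD F (D.simple i) (-c) =
        xGL D hD F (D.simple i) (-c) * (wordGL D hD F (D.hWord (D.simple i) c) *
          wordGL D hD F (D.nWord (D.simple i) 1)) * xGL D hD F (D.simple i) (-c) := by
      unfold nFund; group
    rw [e, h1]
    have e2 : xGL D hD F (D.simple i) (-c) * (xGL D hD F (D.simple i) c *
        xGL D hD F (D.neg (D.simple i)) t' * xGL D hD F (D.simple i) c) * xGL D hD F (D.simple i) (-c) =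
        (xGL D hD F (D.simple i) (-c) * xGL D hD F (D.simple i) c) *
        xGL D hD F (D.neg (D.simple i)) t' * (xGL D hD F (D.simple i) c * xGL D hD F (D.simple i) (-c)) := by
      group
    rw [e2, xGL_mul, xGL_mul, neg_add_cancel, add_neg_cancel, xGL_zero, one_mul, mul_one]

/-- `n_p B n_p ⊆ B ∪ B n_p B` -/
theorem nFund_mul_borel_mul_nFund (i : ℕ) (hi : i < D.rank) (b : GL D.Idx F) (hb : b ∈ D.borelSubgroup F) :
    nFund D hD F i * b * nFund D hD F i ∈ D.borelSubgroup F ∨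
      ∃ b₁ ∈ D.borelSubgroup F, ∃ b₂ ∈ D.borelSubgroup F,
        nFund D hD F i * b * nFund D hD F i = b₁ * nFund D hD F i * b₂ := by
  set n := nFund D hD F i with hn
  have hF := fundFacts_of_mem D hD i hi
  have hb' : b ∈ ((D.borelSubgroup F : Subgroup (GL D.Idx F)) : Set (GL D.Idx F)) := hb
  rw [borel_eq_mul D hD F] at hb'
  obtain ⟨h, hh, u, hu, rfl⟩ := Set.mem_mul.mp hb'
  -- `u = u' x_p(t)`
  have hu' : u ∈ ((upSubgroup D F i ⊔ D.rootSubgroup F (D.simple i) : Subgroup (GL D.Idx F)) :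
      Set (GL D.Idx F)) := by
    rw [up_sup_rootSubgroup D hD F i hi]; exact hu
  rw [Subgroup.coe_mul_of_right_le_normalizer_left _ _
    (le_trans le_sup_left (rootSubgroup_le_normalizer_up D hD F i hi))] at hu'
  obtain ⟨u', hu'', x, hx, rfl⟩ := Set.mem_mul.mp hu'
  obtain ⟨t, rfl⟩ := (mem_rootSubgroup_iff D hD F _ x).mp hx
  -- conjugates
  have hnN := nFund_mem_monomial D hD F i hi
  have h1 : n * h * n⁻¹ ∈ D.diagonalSubgroup F := by
    have := monomialSubgroup_le_normalizer_diagonal D hD F hnN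
    rw [Subgroup.mem_set_normalizer_iff] at this
    exact (this h).mp hh
  have h2 : n * u' * n⁻¹ ∈ upSubgroup D F i := by
    have := nFund_mem_normalizer_up D hD F i hi
    rw [Subgroup.mem_set_normalizer_iff] at this
    exact (this u').mp hu''
  have h3 : n * xGL D hD F (D.simple i) t * n⁻¹ =
      xGL D hD F (D.neg (D.simple i)) (((etaFn D i (D.simple i) : ℤ) : F) * t) := by
    have := nGL_conj_xGL D hD F i hi (D.simple i) hF.hp t
    rw [reflectRoot_simple] at this
    exact this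
  have h4 := nFund_sq_mem D hD F i hi
  have e : n * (h * (u' * xGL D hD F (D.simple i) t)) * n =
      (n * h * n⁻¹) * (n * u' * n⁻¹) * (n * xGL D hD F (D.simple i) t * n⁻¹) * (n * n) := by group
  rw [e, h3]
  set t' := ((etaFn D i (D.simple i) : ℤ) : F) * t with ht'
  have hA : (n * h * n⁻¹) * (n * u' * n⁻¹) ∈ D.borelSubgroup F :=
    Subgroup.mul_mem _ (diagonal_le_borel D hD F h1)
      (posUnipotent_le_borel D hD F (up_le_posUnipotent D hD F i h2))
  have hB : n * n ∈ D.borelSubgroup F := diagonal_le_borel D hD F h4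
  by_cases h0 : t' = 0
  · left
    rw [h0, xGL_zero, mul_one]
    exact Subgroup.mul_mem _ hA hB
  · right
    obtain ⟨b₁, hb₁, b₂, hb₂, hx⟩ := xGL_neg_mem_doubleCoset D hD F i hi t' h0
    refine ⟨(n * h * n⁻¹) * (n * u' * n⁻¹) * b₁, Subgroup.mul_mem _ hA hb₁, b₂ * (n * n),
      Subgroup.mul_mem _ hb₂ hB, ?_⟩
    rw [hx, ← hn]
    group

/-- the subgroup `B ∪ B n_p B` -/
noncomputable def rankOneParabolic (i : ℕ) (hi : i < D.rank) : Subgroup (GL D.Idx F) where
  carrier := (D.borelSubgroup F : Set (GL D.Idx F)) ∪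
    DoubleCoset.doubleCoset (nFund D hD F i) (D.borelSubgroup F : Set (GL D.Idx F)) (D.borelSubgroup F)
  one_mem' := Or.inl (Subgroup.one_mem _)
  mul_mem' := by
    intro a b ha hb
    rcases ha with ha | ha <;> rcases hb with hb | hb
    · exact Or.inl (Subgroup.mul_mem _ ha hb)
    · right
      rw [DoubleCoset.mem_doubleCoset] at hb ⊢
      obtain ⟨b₁, hb₁, b₂, hb₂, rfl⟩ := hb
      exact ⟨a * b₁, Subgroup.mul_mem _ ha hb₁, b₂, hb₂, by group⟩
    · right
      rw [DoubleCoset.mem_doubleCoset] at ha ⊢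
      obtain ⟨a₁, ha₁, a₂, ha₂, rfl⟩ := ha
      exact ⟨a₁, ha₁, a₂ * b, Subgroup.mul_mem _ ha₂ hb, by group⟩
    · rw [DoubleCoset.mem_doubleCoset] at ha hb
      obtain ⟨a₁, ha₁, a₂, ha₂, rfl⟩ := ha
      obtain ⟨b₁, hb₁, b₂, hb₂, rfl⟩ := hb
      have e : a₁ * nFund D hD F i * a₂ * (b₁ * nFund D hD F i * b₂) =
          a₁ * (nFund D hD F i * (a₂ * b₁) * nFund D hD F i) * b₂ := by group
      rw [e]
      rcases nFund_mul_borel_mul_nFund D hD F i hi (a₂ * b₁) (Subgroup.mul_mem _ ha₂ hb₁) with h | h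
      · left
        exact Subgroup.mul_mem _ (Subgroup.mul_mem _ ha₁ h) hb₂
      · right
        obtain ⟨c₁, hc₁, c₂, hc₂, hc⟩ := h
        rw [DoubleCoset.mem_doubleCoset]
        refine ⟨a₁ * c₁, Subgroup.mul_mem _ ha₁ hc₁, c₂ * b₂, Subgroup.mul_mem _ hc₂ hb₂, ?_⟩
        rw [hc]; group
  inv_mem' := by
    intro a ha
    rcases ha with ha | ha
    · exact Or.inl (Subgroup.inv_mem _ ha)
    · right
      rw [DoubleCoset.mem_doubleCoset] at ha ⊢
      obtain ⟨a₁, ha₁, a₂, ha₂, rfl⟩ := ha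
      have hh := diagonal_le_borel D hD F (nFund_inv_sq_mem D hD F i hi)
      refine ⟨a₂⁻¹, Subgroup.inv_mem _ ha₂,
        (nFund D hD F i)⁻¹ * (nFund D hD F i)⁻¹ * a₁⁻¹,
        Subgroup.mul_mem _ hh (Subgroup.inv_mem _ ha₁), ?_⟩
      group

theorem exists_rankOneParabolic (i : ℕ) (hi : i < D.rank) (n : GL D.Idx F)
    (hn : (n : Matrix D.Idx D.Idx F) = D.nMat F (D.simple i) 1) :
    ∃ P : Subgroup (GL D.Idx F), (P : Set (GL D.Idx F)) =
      (D.borelSubgroup F : Set (GL D.Idx F)) ∪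
        DoubleCoset.doubleCoset n (D.borelSubgroup F : Set (GL D.Idx F)) (D.borelSubgroup F) := by
  have hn' : n = nFund D hD F i := by
    apply Units.ext
    unfold nFund
    rw [hn, coe_wordGL]; rfl
  rw [hn']
  exact ⟨rankOneParabolic D hD F i hi, rfl⟩

end

end Cfsg.Agent.Lib.Helper7
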