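import Cfsg.Agent.Lib.Helper7.ChevWeylPerm
import Cfsg.Agent.Lib.Helper7.ChevSylow

/-! Pairs of conjugates of the highest root subgroup (helper7). -/

set_option autoImplicit false

namespace Cfsg.Agent.Lib.Helper7

open Cfsg Cfsg.Lie Matrix
open Cfsg.Agent.Lib.Helper3.BN Cfsg.Agent.Lib.Helper3.WordLen

/-- table check: the last root `r₀` is positive, its negative is the root `0`, which is not positive,
and no `r₀ + s` with `s` positive is a root -/
def highOKB (D : ChevalleyDatum) : Bool :=
  decide (D.IsPosRoot (D.nroots - 1)) && (D.neg (D.nroots - 1) == 0) && !decide (D.IsPosRoot 0) &&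
    (List.range D.nroots).all fun s =>
      !decide (D.IsPosRoot s) || s == D.nroots - 1 || (D.commTerms (D.nroots - 1) s).isEmpty

/-- certificate: for every root `s ≠ -r₀` a Weyl word mapping both `r₀` and `s` to positive roots -/
def pairCertB (D : ChevalleyDatum) (cert : List (List ℕ)) : Bool :=
  (List.range D.nroots).all fun s => s == 0 ||
    ((cert.getD s []).all (fun i => decide (i < D.rank)) &&
      decide (D.IsPosRoot (reflWord D (cert.getD s []) (D.nroots - 1))) &&
      decide (D.IsPosRoot (reflWord D (cert.getD s []) s)))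

theorem highOKB_spec (D : ChevalleyDatum) (h : highOKB D = true) :
    D.IsPosRoot (D.nroots - 1) ∧ D.neg (D.nroots - 1) = 0 ∧ ¬ D.IsPosRoot 0 ∧
      ∀ s, D.IsPosRoot s → s ≠ D.nroots - 1 → D.commTerms (D.nroots - 1) s = [] := by
  unfold highOKB at h
  simp only [Bool.and_eq_true, decide_eq_true_eq, beq_iff_eq, Bool.not_eq_true', decide_eq_false_iff_not,
    List.all_eq_true, List.mem_range, Bool.or_eq_true, List.isEmpty_iff] at h
  obtain ⟨⟨⟨h1, h2⟩, h3⟩, h4⟩ := h
  refine ⟨h1, h2, h3, fun s hs hne => ?_⟩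
  rcases h4 s hs.1 with (h | h) | h
  · exact absurd hs h
  · exact absurd h hne
  · exact h

theorem pairCertB_spec (D : ChevalleyDatum) (cert : List (List ℕ)) (h : pairCertB D cert = true)
    (s : ℕ) (hs : s < D.nroots) (h0 : s ≠ 0) :
    ∃ L : List ℕ, (∀ i ∈ L, i < D.rank) ∧ D.IsPosRoot (reflWord D L (D.nroots - 1)) ∧
      D.IsPosRoot (reflWord D L s) := by
  unfold pairCertB at h
  simp only [List.all_eq_true, List.mem_range, Bool.or_eq_true, beq_iff_eq, Bool.and_eq_true,
    decide_eq_true_eq] at h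
  rcases h s hs with h | ⟨⟨h1, h2⟩, h3⟩
  · exact absurd h h0
  · exact ⟨_, h1, h2, h3⟩

section
variable (D : ChevalleyDatum) (hD : D ∈ [chevG2, chevB2, chevD4, chevF4, chevE6, chevE7, chevE8])
variable (F : Type*) [Field F]

/-- `a X_r a⁻¹ = X_{r'}`, in parametrised form -/
def Sends (a : GL D.Idx F) (r r' : ℕ) : Prop :=
  ∃ c : F, c ≠ 0 ∧ ∀ t : F, a * xGL D hD F r t * a⁻¹ = xGL D hD F r' (c * t)

variable {D F}

theorem Sends.mul {hD : D ∈ [chevG2, chevB2, chevD4, chevF4, chevE6, chevE7, chevE8]}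
    {a b : GL D.Idx F} {r r' r'' : ℕ} (h : Sends D hD F a r r') (h' : Sends D hD F b r' r'') :
    Sends D hD F (b * a) r r'' := by
  obtain ⟨c, hc, h1⟩ := h
  obtain ⟨c', hc', h2⟩ := h'
  refine ⟨c' * c, mul_ne_zero hc' hc, fun t => ?_⟩
  have e : b * a * xGL D hD F r t * (b * a)⁻¹ = b * (a * xGL D hD F r t * a⁻¹) * b⁻¹ := by group
  rw [e, h1, h2, mul_assoc]

theorem Sends.inv {hD : D ∈ [chevG2, chevB2, chevD4, chevF4, chevE6, chevE7, chevE8]}
    {a : GL D.Idx F} {r r' : ℕ} (h : Sends D hD F a r r') : Sends D hD F a⁻¹ r' r := by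
  obtain ⟨c, hc, h1⟩ := h
  refine ⟨c⁻¹, inv_ne_zero hc, fun t => ?_⟩
  have := h1 (c⁻¹ * t)
  rw [← mul_assoc, mul_inv_cancel₀ hc, one_mul] at this
  rw [← this]
  group

theorem sends_one {hD : D ∈ [chevG2, chevB2, chevD4, chevF4, chevE6, chevE7, chevE8]} (r : ℕ) :
    Sends D hD F (1 : GL D.Idx F) r r :=
  ⟨1, one_ne_zero, fun t => by simp⟩

theorem Sends.map_eq {hD : D ∈ [chevG2, chevB2, chevD4, chevF4, chevE6, chevE7, chevE8]}
    {a : GL D.Idx F} {r r' : ℕ} (h : Sends D hD F a r r') :
    (D.rootSubgroup F r).map (MulAut.conj a).toMonoidHom = D.rootSubgroup F r' := by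
  obtain ⟨c, hc, h1⟩ := h
  ext x
  constructor
  · rintro ⟨y, hy, rfl⟩
    obtain ⟨t, rfl⟩ := (mem_rootSubgroup_iff D hD F r y).mp hy
    rw [mem_rootSubgroup_iff D hD F]
    exact ⟨c * t, by simpa [MulAut.conj_apply] using h1 t⟩
  · intro hx
    obtain ⟨t, rfl⟩ := (mem_rootSubgroup_iff D hD F r' x).mp hx
    refine ⟨xGL D hD F r (c⁻¹ * t), (mem_rootSubgroup_iff D hD F r _).mpr ⟨_, rfl⟩, ?_⟩
    have := h1 (c⁻¹ * t)
    rw [← mul_assoc, mul_inv_cancel₀ hc, one_mul] at this
    simpa [MulAut.conj_apply] using this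

theorem ActsAs.sends {hD : D ∈ [chevG2, chevB2, chevD4, chevF4, chevE6, chevE7, chevE8]}
    {n : GL D.Idx F} {f : ℕ → ℕ} (h : ActsAs D hD F n f) (s : ℕ) (hs : s < D.nroots) :
    Sends D hD F n s (f s) := (h s hs).2

theorem map_conj_map_conj {G : Type*} [Group G] (K : Subgroup G) (a b : G) :
    (K.map (MulAut.conj a).toMonoidHom).map (MulAut.conj b).toMonoidHom =
      K.map (MulAut.conj (b * a)).toMonoidHom := by
  rw [Subgroup.map_map]
  congr 1
  ext x
  simp [MulAut.conj_apply, mul_assoc]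

theorem rootSubgroup_le_posUnipotent (a : ℕ) (ha : D.IsPosRoot a) :
    D.rootSubgroup F a ≤ D.posUnipotent F := by
  unfold ChevalleyDatum.rootSubgroup ChevalleyDatum.posUnipotent
  apply Subgroup.closure_mono
  rintro g ⟨t, ht⟩
  exact ⟨a, t, ha, ht⟩

variable (D F)
include hD

/-- words in the fundamental reflections are realised in `N` -/
theorem exists_word_actsAs (L : List ℕ) (hL : ∀ i ∈ L, i < D.rank) :
    ∃ n : GL D.Idx F, n ∈ D.monomialSubgroup F ∧ ActsAs D hD F n (reflWord D L) := by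
  induction L with
  | nil => exact ⟨1, Subgroup.one_mem _, actsAs_diag D hD F 1 (Subgroup.one_mem _)⟩
  | cons i L ih =>
    obtain ⟨n, hn, hact⟩ := ih (fun j hj => hL j (List.mem_cons_of_mem _ hj))
    have hi : i < D.rank := hL i List.mem_cons_self
    exact ⟨nFund D hD F i * n, Subgroup.mul_mem _ (nFund_mem_monomial D hD F i hi) hn,
      ActsAs.mul D F (actsAs_nFund D hD F i hi) hact⟩

/-- `U` centralises the highest root subgroup -/
theorem pos_sends_high (hH : highOKB D = true) (u : GL D.Idx F) (hu : u ∈ D.posUnipotent F) :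
    Sends D hD F u (D.nroots - 1) (D.nroots - 1) := by
  obtain ⟨hpos, hneg, h0, hcomm⟩ := highOKB_spec D hH
  refine ⟨1, one_ne_zero, fun t => ?_⟩
  rw [one_mul, mul_inv_eq_iff_eq_mul]
  unfold ChevalleyDatum.posUnipotent at hu
  induction hu using Subgroup.closure_induction with
  | mem g hg =>
    obtain ⟨r, v, hr, hgm⟩ := hg
    have hg' : g = xGL D hD F r v := Units.ext (by rw [hgm, coe_xGL])
    rw [hg']
    by_cases hrr : r = D.nroots - 1
    · rw [hrr, xGL_mul, xGL_mul, add_comm]
    · have hne : r ≠ D.neg (D.nroots - 1) := by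
        rw [hneg]; rintro rfl; exact h0 hr
      have h := comm_formula_GL D hD F (D.nroots - 1) r hpos.1 hr.1 hrr hne t v
      rw [h]
      unfold ChevalleyDatum.commWord
      rw [hcomm r hr hrr]
      simp [wordGL]
  | one => simp
  | mul a b _ _ iha ihb => rw [mul_assoc, ihb, ← mul_assoc, iha, mul_assoc]
  | inv a _ iha =>
    rw [← mul_right_inj a, ← mul_assoc, mul_inv_cancel, one_mul, ← mul_assoc, iha, mul_assoc,
      mul_inv_cancel, mul_one]

/-- the stabiliser of the highest root subgroup, in parametrised form -/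
def highStab : Subgroup (GL D.Idx F) where
  carrier := {b | Sends D hD F b (D.nroots - 1) (D.nroots - 1)}
  one_mem' := sends_one _
  mul_mem' := fun ha hb => Sends.mul hb ha
  inv_mem' := fun ha => Sends.inv ha

/-- `B` normalises the highest root subgroup -/
theorem borel_sends_high (hH : highOKB D = true) (b : GL D.Idx F) (hb : b ∈ D.borelSubgroup F) :
    Sends D hD F b (D.nroots - 1) (D.nroots - 1) := by
  have hpos := (highOKB_spec D hH).1
  have h : D.borelSubgroup F ≤ highStab D hD F := by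
    unfold ChevalleyDatum.borelSubgroup
    apply sup_le
    · intro u hu; exact pos_sends_high D hD F hH u hu
    · intro h hh; exact (actsAs_diag D hD F h hh).sends _ hpos.1
  exact h hb

theorem isPGroup_posUnipotent [Fintype F] (p : ℕ) [Fact p.Prime] [CharP F p] :
    IsPGroup p ↥(D.posUnipotent F) := by
  obtain ⟨n, hp, hq⟩ := FiniteField.card F p
  apply IsPGroup.of_card (n := n * (D.nroots / 2))
  rw [card_posUnipotent D hD F, hq, pow_mul]

/-- the subgroup generated by the highest root subgroup `X` and a conjugate is a `p`-group or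
conjugate to `⟨X, X_{-r₀}⟩` -/
theorem highest_pair [Fintype F] (p : ℕ) [Fact p.Prime] [CharP F p] (hH : highOKB D = true)
    (cert : List (List ℕ)) (hC : pairCertB D cert = true) (g : GL D.Idx F) (hg : g ∈ D.group F) :
    IsPGroup p ↥(D.rootSubgroup F (D.nroots - 1) ⊔
        (D.rootSubgroup F (D.nroots - 1)).map (MulAut.conj g).toMonoidHom) ∨
      ∃ h ∈ D.group F, (D.rootSubgroup F (D.nroots - 1) ⊔
        (D.rootSubgroup F (D.nroots - 1)).map (MulAut.conj g).toMonoidHom).map (MulAut.conj h).toMonoidHom =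
          D.rootSubgroup F (D.nroots - 1) ⊔ D.rootSubgroup F 0 := by
  have hpos := (highOKB_spec D hH).1
  obtain ⟨b, hb, n, hn, u, hu, rfl⟩ := canon_exists D hD F g hg
  have huU := uMinus_le_posUnipotent D F n hu
  obtain ⟨L, hL, hact⟩ := exists_actsAs D hD F n hn
  have hs : reflWord D L (D.nroots - 1) < D.nroots := (hact _ hpos.1).1
  have hsn : Sends D hD F n (D.nroots - 1) (reflWord D L (D.nroots - 1)) := hact.sends _ hpos.1
  have hsb := borel_sends_high D hD F hH b hb
  have hsu := pos_sends_high D hD F hH u huU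
  have hnu : Sends D hD F (n * u) (D.nroots - 1) (reflWord D L (D.nroots - 1)) := hsu.mul hsn
  by_cases h0 : reflWord D L (D.nroots - 1) = 0
  · right
    refine ⟨b⁻¹, Subgroup.inv_mem _ (borel_le_group D hD F hb), ?_⟩
    rw [Subgroup.map_sup, hsb.inv.map_eq, map_conj_map_conj, ← h0, ← hnu.map_eq]
    congr 3
    group
  · left
    obtain ⟨L', hL', hp1, hp2⟩ := pairCertB_spec D cert hC _ hs h0
    obtain ⟨n', -, hact'⟩ := exists_word_actsAs D hD F L' hL'
    have hU := isPGroup_posUnipotent D hD F p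
    have hinj : Function.Injective (MulAut.conj (n' * b⁻¹)).toMonoidHom := (MulAut.conj (n' * b⁻¹)).injective
    apply IsPGroup.to_le (hU.comap_of_injective _ hinj)
    apply sup_le
    · apply Subgroup.map_le_iff_le_comap.mp
      have h1 : Sends D hD F (n' * b⁻¹) (D.nroots - 1) (reflWord D L' (D.nroots - 1)) :=
        hsb.inv.mul (hact'.sends _ hpos.1)
      rw [h1.map_eq]
      exact rootSubgroup_le_posUnipotent _ hp1
    · apply Subgroup.map_le_iff_le_comap.mp
      rw [map_conj_map_conj]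
      have e : n' * b⁻¹ * (b * n * u) = n' * (n * u) := by group
      have h1 : Sends D hD F (n' * (n * u)) (D.nroots - 1) (reflWord D L' (reflWord D L (D.nroots - 1))) :=
        hnu.mul (hact'.sends _ hs)
      rw [e, h1.map_eq]
      exact rootSubgroup_le_posUnipotent _ hp2

end

end Cfsg.Agent.Lib.Helper7
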