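import Cfsg.Agent.Lib.Helper7.ChevTwist1
import Cfsg.Agent.Lib.Helper7.ChevLongRoot

/-! Twisted groups: `U ∩ G¹` is the group of `σ`-fixed elements of `U` (helper7). -/

set_option autoImplicit false

namespace Cfsg.Agent.Lib.Helper7

open Cfsg Cfsg.Lie Matrix

/-- the image of a list of roots under a word in the class reflections `w_J` -/
def certImg (D : ChevalleyDatum) (simpIdx : List (List ℕ)) : List ℕ → List ℕ → List ℕ
  | [], S => S
  | J :: L, S => certImg D simpIdx L (S.map (reflWord D (simpIdx.getD J [])))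

section
variable (D : ChevalleyDatum) (hD : D ∈ [chevG2, chevB2, chevD4, chevF4, chevE6, chevE7, chevE8])
variable (K : Type*) [Field K]
include hD

/-- the product of the `n_p` over a list of fundamental roots -/
noncomputable def nWordGL (L : List ℕ) : GL D.Idx K := (L.map (nFund D hD K)).prod

theorem actsAs_nWordGL (L : List ℕ) (hL : ∀ i ∈ L, i < D.rank) :
    ActsAs D hD K (nWordGL D hD K L) (reflWord D L) := by
  induction L with
  | nil =>
    have : nWordGL D hD K [] = 1 := by simp [nWordGL]
    rw [this]
    exact actsAs_diag D hD K 1 (Subgroup.one_mem _)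
  | cons i L ih =>
    have hi : i < D.rank := hL i List.mem_cons_self
    have : nWordGL D hD K (i :: L) = nFund D hD K i * nWordGL D hD K L := by simp [nWordGL]
    rw [this]
    exact ActsAs.mul D K (actsAs_nFund D hD K i hi) (ih (fun j hj => hL j (List.mem_cons_of_mem _ hj)))

theorem nWordGL_mem_monomial (L : List ℕ) (hL : ∀ i ∈ L, i < D.rank) :
    nWordGL D hD K L ∈ D.monomialSubgroup K := by
  unfold nWordGL
  apply Subgroup.list_prod_mem
  intro g hg
  rw [List.mem_map] at hg
  obtain ⟨i, hi, rfl⟩ := hg
  exact nFund_mem_monomial D hD K i (hL i hi)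

/-- conjugation by an element of `N` acting as `f` maps `⟨X_r : r ∈ S⟩` into `⟨X_{f r} : r ∈ S⟩` -/
theorem conj_closure_gensL (n : GL D.Idx K) (f : ℕ → ℕ) (hn : ActsAs D hD K n f) (S : List ℕ)
    (hS : ∀ r ∈ S, r < D.nroots) (g : GL D.Idx K) (hg : g ∈ Subgroup.closure (gensL D K S)) :
    n * g * n⁻¹ ∈ Subgroup.closure (gensL D K (S.map f)) := by
  induction hg using Subgroup.closure_induction with
  | mem x hx =>
    obtain ⟨r, hr, t, hxm⟩ := hx
    have hx' : x = xGL D hD K r t := Units.ext (by rw [hxm, coe_xGL])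
    obtain ⟨-, c, -, hc⟩ := hn r (hS r hr)
    rw [hx', hc]
    apply Subgroup.subset_closure
    exact ⟨f r, List.mem_map.mpr ⟨r, hr, rfl⟩, c * t, coe_xGL D hD K _ _⟩
  | one => simp
  | mul a b _ _ iha ihb =>
    have : n * (a * b) * n⁻¹ = (n * a * n⁻¹) * (n * b * n⁻¹) := by group
    rw [this]; exact Subgroup.mul_mem _ iha ihb
  | inv a _ iha =>
    have : n * a⁻¹ * n⁻¹ = (n * a * n⁻¹)⁻¹ := by group
    rw [this]; exact Subgroup.inv_mem _ iha

theorem ordProd_eq_one (S : List ℕ) (t : ℕ → K) (h : ∀ r ∈ S, t r = 0) : ordProd D hD K S t = 1 := by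
  induction S with
  | nil => exact ordProd_nil D hD K t
  | cons r S ih =>
    rw [ordProd_cons, h r List.mem_cons_self, xGL_zero, one_mul]
    exact ih (fun s hs => h s (List.mem_cons_of_mem _ hs))

theorem ordProd_single (S : List ℕ) (hnd : S.Nodup) (r : ℕ) (hr : r ∈ S) (a : K) :
    ordProd D hD K S (fun y => if y = r then a else 0) = xGL D hD K r a := by
  induction S with
  | nil => simp at hr
  | cons s S ih =>
    rw [ordProd_cons]
    have hnd' := List.nodup_cons.mp hnd
    by_cases hsr : s = r
    · rw [if_pos hsr, hsr, ordProd_eq_one, mul_one]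
      intro y hy
      have : y ≠ r := by rintro rfl; exact hnd'.1 (hsr ▸ hy)
      rw [if_neg this]
    · rw [if_neg hsr, xGL_zero, one_mul]
      rcases List.mem_cons.mp hr with h | h
      · exact absurd h.symm hsr
      · exact ih hnd'.2 h

/-- elements of the group generated by pairwise commuting root subgroups are ordered products -/
theorem mem_closure_gensL_comm (S : List ℕ) (hnd : S.Nodup)
    (hcomm : ∀ r ∈ S, ∀ s ∈ S, ∀ a b : K, Commute (xGL D hD K r a) (xGL D hD K s b))
    (g : GL D.Idx K) (hg : g ∈ Subgroup.closure (gensL D K S)) :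
    ∃ t : ℕ → K, g = ordProd D hD K S t := by
  -- multiplicativity of ordered products
  have hmul : ∀ (S' : List ℕ), (∀ r ∈ S', r ∈ S) → ∀ t u : ℕ → K,
      ordProd D hD K S' t * ordProd D hD K S' u = ordProd D hD K S' (fun r => t r + u r) := by
    intro S'
    induction S' with
    | nil => intro _ t u; simp [ordProd_nil]
    | cons r S' ih =>
      intro hsub t u
      rw [ordProd_cons, ordProd_cons, ordProd_cons]
      have hS' : ∀ s ∈ S', s ∈ S := fun s hs => hsub s (List.mem_cons_of_mem _ hs)
      have hc : Commute (ordProd D hD K S' t) (xGL D hD K r (u r)) := by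
        unfold ordProd wordGL
        apply Commute.list_prod_left
        intro x hx
        simp only [List.map_map, List.mem_map, Function.comp] at hx
        obtain ⟨s, hs, rfl⟩ := hx
        exact hcomm s (hS' s hs) r (hsub r List.mem_cons_self) _ _
      calc xGL D hD K r (t r) * ordProd D hD K S' t * (xGL D hD K r (u r) * ordProd D hD K S' u)
          = xGL D hD K r (t r) * (ordProd D hD K S' t * xGL D hD K r (u r)) * ordProd D hD K S' u := by
            group
        _ = xGL D hD K r (t r) * (xGL D hD K r (u r) * ordProd D hD K S' t) * ordProd D hD K S' u := by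
            rw [hc.eq]
        _ = (xGL D hD K r (t r) * xGL D hD K r (u r)) * (ordProd D hD K S' t * ordProd D hD K S' u) := by
            group
        _ = _ := by rw [xGL_mul, ih hS']
  induction hg using Subgroup.closure_induction with
  | mem x hx =>
    obtain ⟨r, hr, a, hxm⟩ := hx
    have hx' : x = xGL D hD K r a := Units.ext (by rw [hxm, coe_xGL])
    exact ⟨_, by rw [hx', ordProd_single D hD K S hnd r hr a]⟩
  | one => exact ⟨fun _ => 0, (ordProd_eq_one D hD K S _ (fun _ _ => rfl)).symm⟩
  | mul a b _ _ iha ihb =>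
    obtain ⟨t, rfl⟩ := iha
    obtain ⟨u, rfl⟩ := ihb
    exact ⟨_, hmul S (fun _ h => h) t u⟩
  | inv a _ iha =>
    obtain ⟨t, rfl⟩ := iha
    refine ⟨fun r => - t r, ?_⟩
    rw [inv_eq_iff_mul_eq_one, hmul S (fun _ h => h)]
    apply ordProd_eq_one
    intro r _
    simp

end

end Cfsg.Agent.Lib.Helper7
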