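import Cfsg.Agent.Lib.Helper7.ChevPerfTab

/-! Perfectness of `G₂(F)`, `B₂(F)` for `|F| > 2`, and the final statement (helper7). -/

set_option autoImplicit false

namespace Cfsg.Agent.Lib.Helper7

open Cfsg Cfsg.Lie Matrix

/-- the root `r` has a root `s` with `⟨r, s^∨⟩` odd -/
def oddPartnerB (D : ChevalleyDatum) (r : ℕ) : Bool :=
  (List.range D.nroots).any fun s => carR D s r % 2 != 0

/-- every root has an odd partner, or is the second term (with coefficient `±1`) of a two-term
commutator formula whose first term has an odd partner -/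
def perf2B (D : ChevalleyDatum) (cert : List (ℕ × ℕ)) : Bool :=
  (List.range D.nroots).all fun r =>
    oddPartnerB D r ||
      (decide ((cert.getD r (0, 0)).1 < D.nroots) && decide ((cert.getD r (0, 0)).2 < D.nroots) &&
        (cert.getD r (0, 0)).2 != (cert.getD r (0, 0)).1 &&
        (cert.getD r (0, 0)).2 != D.neg (cert.getD r (0, 0)).1 &&
        (match D.commTerms (cert.getD r (0, 0)).1 (cert.getD r (0, 0)).2 with
          | [(v, _, 1, 1), (r', C₂, i, j)] =>
            r' == r && (C₂ == 1 || C₂ == -1) && ((i == 2 && j == 1) || (i == 1 && j == 2)) &&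
              oddPartnerB D v && decide (v < D.nroots)
          | _ => false))

section
variable (D : ChevalleyDatum) (hD : D ∈ [chevG2, chevB2, chevD4, chevF4, chevE6, chevE7, chevE8])
variable (F : Type*) [Field F]
include hD

theorem carR_self (r : ℕ) (hr : r < D.nroots) : carR D r r = 2 := by
  have h := (addHyp_of_addOKB D (addOKB_of_mem D hD) r hr).1
  rw [sum_range_eq_list] at h
  exact h

theorem xGL_mem_commK_of_oddPartner (hneg : (-1 : F) ≠ 1) (r : ℕ) (hr : r < D.nroots)
    (h : oddPartnerB D r = true) (t : F) : xGL D hD F r t ∈ commK D F := by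
  unfold oddPartnerB at h
  simp only [List.any_eq_true, List.mem_range, bne_iff_ne] at h
  obtain ⟨s, hs, hodd⟩ := h
  apply xGL_mem_commK_of_diag D hD F r s hr hs (-1) (by norm_num)
  have : Odd (carR D s r) := by
    rw [Int.odd_iff]; omega
  rw [this.neg_one_zpow]
  exact hneg

theorem commutator_eq_top_of_perf2B (cert : List (ℕ × ℕ)) (h : perf2B D cert = true)
    (hF : ∃ a : F, a ≠ 0 ∧ a ≠ 1) : commutator ↥(D.group F) = ⊤ := by
  obtain ⟨a, ha0, ha1⟩ := hF
  apply commutator_eq_top_of_le
  apply group_le_commK D hD F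
  intro r hr t
  by_cases ha2 : a ^ 2 = 1
  · have ham : a = -1 := by
      have : (a - 1) * (a + 1) = 0 := by ring_nf; rw [ha2]; ring
      rcases mul_eq_zero.mp this with h1 | h1
      · exact absurd (sub_eq_zero.mp h1) ha1
      · exact eq_neg_of_add_eq_zero_left h1
    have hneg : (-1 : F) ≠ 1 := by rw [← ham]; exact ha1
    unfold perf2B at h
    rw [List.all_eq_true] at h
    have hr' := h r (List.mem_range.mpr hr)
    rw [Bool.or_eq_true] at hr'
    rcases hr' with h1 | h1
    · exact xGL_mem_commK_of_oddPartner D hD F hneg r hr h1 t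
    · simp only [Bool.and_eq_true, decide_eq_true_eq, bne_iff_ne] at h1
      obtain ⟨⟨⟨⟨hA, hB⟩, hba⟩, hbn⟩, hm⟩ := h1
      split at hm
      · rename_i v C₁ r' C₂ i j hct
        simp only [Bool.and_eq_true, beq_iff_eq, Bool.or_eq_true, decide_eq_true_eq] at hm
        obtain ⟨⟨⟨⟨hr'r, hC⟩, hij⟩, hvodd⟩, hv⟩ := hm
        subst hr'r
        exact xGL_mem_commK_of_second D hD F _ _ v r' C₁ C₂ i j hA hB hba hbn hC hij hct
          (fun t => xGL_mem_commK_of_oddPartner D hD F hneg v hv hvodd t) t
      · exact absurd hm (by simp)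
  · apply xGL_mem_commK_of_diag D hD F r r hr hr a ha0
    rw [carR_self D hD r hr]
    intro h
    apply ha2
    rw [← h]
    norm_cast

end

theorem perf2B_G2 : perf2B chevG2 [] = true := by decide +kernel

theorem perf2B_B2 : perf2B chevB2 [(1, 4), (0, 0), (0, 0), (0, 5), (0, 6), (0, 0), (0, 0), (3, 6)] = true := by
  decide +kernel

/-- `G = G'` for the seven tabulated types, except `G₂` and `B₂` over the field with two elements -/
theorem commutator_eq_top_of_mem (D : ChevalleyDatum)
    (hD : D ∈ [chevG2, chevB2, chevD4, chevF4, chevE6, chevE7, chevE8]) (F : Type*) [Field F]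
    (h2 : D = chevG2 ∨ D = chevB2 → ∃ a : F, a ≠ 0 ∧ a ≠ 1) : commutator ↥(D.group F) = ⊤ := by
  have hD' := hD
  simp only [List.mem_cons, List.not_mem_nil, or_false] at hD'
  rcases hD' with rfl | rfl | rfl | rfl | rfl | rfl | rfl
  · exact commutator_eq_top_of_perf2B _ hD F _ perf2B_G2 (h2 (Or.inl rfl))
  · exact commutator_eq_top_of_perf2B _ hD F _ perf2B_B2 (h2 (Or.inr rfl))
  · exact commutator_eq_top_of_perf1B _ hD F _ perf1B_D4
  · exact commutator_eq_top_of_perf1B _ hD F _ perf1B_F4
  · exact commutator_eq_top_of_perf1B _ hD F _ perf1B_E6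
  · exact commutator_eq_top_of_perf1B _ hD F _ perf1B_E7
  · exact commutator_eq_top_of_perf1B _ hD F _ perf1B_E8

end Cfsg.Agent.Lib.Helper7
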