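import Cfsg.Agent.Lib.Helper7.ChevIrr
import Cfsg.Agent.Lib.Helper7.ChevCore
import Cfsg.Agent.Lib.Helper7.ChevPerf2
import Cfsg.Agent.Lib.Helper7.ChevBorel
import Cfsg.Agent.Lib.Helper3.BNSimple

/-! Simplicity of the Chevalley groups via Tits' criterion (helper7). -/

set_option autoImplicit false

namespace Cfsg.Agent.Lib.Helper7

open Cfsg Cfsg.Lie Matrix

section
variable (D : ChevalleyDatum) (hD : D ∈ [chevG2, chevB2, chevD4, chevF4, chevE6, chevE7, chevE8])
variable (F : Type*) [Field F]
include hD

theorem nontrivial_group : Nontrivial ↥(D.group F) := by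
  have hI := irrFacts_of_mem D hD
  have hF := fundFacts_of_mem D hD 0 hI.rankPos
  have hN := negOK_of_mem D hD _ hF.hp
  refine ⟨⟨⟨xGL D hD F (D.simple 0) 1, xGL_mem_group D hD F _ 1⟩, 1, ?_⟩⟩
  intro h
  have h1 : xGL D hD F (D.simple 0) 1 = 1 := congrArg Subtype.val h
  have h2 : D.x F (D.simple 0) 1 = 1 := by
    rw [← coe_xGL D hD F, h1]; rfl
  exact one_ne_zero (eq_zero_of_x_eq_one D F _ hF.hp hN.1 hN.2 _ h2)

theorem isSimpleGroup_of_mem (h2 : D = chevG2 ∨ D = chevB2 → ∃ a : F, a ≠ 0 ∧ a ≠ 1) :
    IsSimpleGroup ↥(D.group F) ∧ ¬ IsMulCommutative ↥(D.group F) := by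
  have := nontrivial_group D hD F
  have hperf := commutator_eq_top_of_mem D hD F h2
  constructor
  · apply Cfsg.Agent.Lib.Helper3.BN.simple_of_irreducible (chevBNPair D hD F)
      (chevBNPair_irreducible D hD F) ?_ hperf
    · rw [chevBNPair_B]
      exact normalCore_borel_eq_bot D hD F
    · rw [chevBNPair_B]
      have := borel_isSolvable D hD F
      exact Group.isSolvable_of_isSolvable_injective
        (f := (Subgroup.subgroupOfEquivOfLe (borel_le_group D hD F)).toMonoidHom)
        (Subgroup.subgroupOfEquivOfLe (borel_le_group D hD F)).injective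
  · intro hc
    have hbot : commutator ↥(D.group F) = ⊥ := by
      rw [commutator_def, Subgroup.commutator_eq_bot_iff_le_centralizer]
      intro a _
      rw [Subgroup.mem_centralizer_iff]
      intro b _
      exact hc.is_comm.comm b a
    rw [hbot] at hperf
    exact bot_ne_top hperf

end

end Cfsg.Agent.Lib.Helper7
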