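import Mathlib
import Cfsg.Agent.Lib.Helper25.SpTT
import Cfsg.Agent.Lib.Helper7.SOTT
import Cfsg.Agent.Lib.Helper14.OrthOdd
import Cfsg.Agent.Lib.Helper25.SpinForms

/-!
S5681 / S5709 (`O_a ⊗ O_b` in `Ω_{ab}(q)`, `q` odd), part (T): transport of the frozen statements to a
model statement on `Fin n₁ × Fin n₂` (index-type generic adaptation of helper25's `SpTT.transport`).

* `transportO`: for a bundled nondegenerate quadratic form `Qf` on `ι → F` whose polar form is similar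
  (through `e`, `P`) to the tensor product of two bilinear forms `f₁`, `f₂`: the frozen maximality follows
  from the model maximality for every quadratic form `Q'` on `Idx n₁ n₂ → F` with
  `polar Q' (pt x y) (pt x' y') = f₁ x x' * f₂ y y'`.
* `frozen_S5681_of_model`, `frozen_S5709_of_model`: the two instances.
-/

set_option autoImplicit false
set_option linter.unusedSectionVars false
set_option linter.unusedVariables false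

namespace Cfsg.Agent.Lib.Helper7.OTT
open Matrix QuadraticMap
open Cfsg.Agent.Lib.Helper25.Tens Cfsg.Agent.Lib.Helper25.TensLeaves Cfsg.Agent.Lib.Helper19.OSub
open Cfsg.Agent.Lib.Helper25.SpTLeaf
open scoped Kronecker

variable {F : Type*} [Field F]

/-- the tensor product Gram form on pure tensors -/
theorem formOfGram_kron_pt {n₁ n₂ : ℕ} (f₁ : (Fin n₁ → F) → (Fin n₁ → F) → F)
    (f₂ : (Fin n₂ → F) → (Fin n₂ → F) → F) (hb₁ : Cfsg.Geo.IsBilinearForm f₁)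
    (hb₂ : Cfsg.Geo.IsBilinearForm f₂) (x x' : Fin n₁ → F) (y y' : Fin n₂ → F) :
    Cfsg.Geo.formOfGram id (Cfsg.Geo.gramMatrix f₁ ⊗ₖ Cfsg.Geo.gramMatrix f₂) (pt x y) (pt x' y') =
      f₁ x x' * f₂ y y' := by
  rw [Cfsg.Agent.Lib.Helper7.SOTLeaf.formOfGram_id, kron_mulVec_pt,
    Cfsg.Agent.Lib.Helper7.SOTLeaf.pt_dot_pt,
    ← Cfsg.Agent.Lib.Helper7.SOTLeaf.bil_eq_dot f₁ hb₁,
    ← Cfsg.Agent.Lib.Helper7.SOTLeaf.bil_eq_dot f₂ hb₂]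

variable [Fintype F]

/-- (T1) transport to the frozen statement, generic index type -/
theorem transportO {ι : Type} [Fintype ι] [DecidableEq ι] (Qf : QuadraticForm F (ι → F))
    (hnd : (polarBilin Qf).Nondegenerate) (n₁ n₂ : ℕ) (e : ι ≃ Fin n₁ × Fin n₂)
    (P : Matrix.GeneralLinearGroup ι F) (f₁ : (Fin n₁ → F) → (Fin n₁ → F) → F)
    (f₂ : (Fin n₂ → F) → (Fin n₂ → F) → F) (hb₁ : Cfsg.Geo.IsBilinearForm f₁)
    (hb₂ : Cfsg.Geo.IsBilinearForm f₂)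
    (hT : Cfsg.Geo.IsTensorFormStructure id (QuadraticMap.polar ⇑Qf) f₁ f₂ e P)
    (hcore : ∀ (Q' : QuadraticForm F (Idx n₁ n₂ → F)), (polarBilin Q').Nondegenerate →
      (∀ (x : Fin n₁ → F) (y : Fin n₂ → F) (x' : Fin n₁ → F) (y' : Fin n₂ → F),
        polar Q' (pt x y) (pt x' y') = f₁ x x' * f₂ y y') →
      (∃ c : F, c ≠ 0 ∧ ∀ v : Idx n₁ n₂ → F,
        Q' v = c * Qf ((P : Matrix ι ι F) *ᵥ (v ∘ e))) →
      Cfsg.Geo.IsMaximalIn (Cfsg.Geo.omegaGL ⇑Q') (KG n₁ n₂ F ⊓ Cfsg.Geo.omegaGL ⇑Q')) :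
    Cfsg.Geo.IsMaximalIn (Cfsg.Geo.omegaGL ⇑Qf)
      (Cfsg.Geo.tensorProductSubgroup n₁ n₂ e P ⊓ Cfsg.Geo.omegaGL ⇑Qf) := by
  obtain ⟨c, hc0, hc⟩ := hT
  -- `Q₁ = Qf ∘ P` on `ι → F`, `Q₂ = Q₁ ∘ (· ∘ e)` on `Idx → F`, `Q' = c⁻¹ • Q₂`
  obtain ⟨Q₁, hQ₁⟩ : ∃ Q₁ : QuadraticForm F (ι → F),
      Q₁ = Qf.comp (Matrix.toLin' (P : Matrix ι ι F)) := ⟨_, rfl⟩
  have hnd₁ : (polarBilin Q₁).Nondegenerate := by
    rw [hQ₁]; exact Cfsg.Agent.Lib.Helper18.OSubLeaf.comp_nondeg Qf P hnd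
  obtain ⟨Q₂, hQ₂⟩ : ∃ Q₂ : QuadraticForm F (Idx n₁ n₂ → F), Q₂ = reQ e Q₁ := ⟨_, rfl⟩
  have hnd₂ : (polarBilin Q₂).Nondegenerate := by rw [hQ₂]; exact reQ_nondeg e Q₁ hnd₁
  have hc0' : c⁻¹ ≠ 0 := inv_ne_zero hc0
  have hnd' : (polarBilin (c⁻¹ • Q₂)).Nondegenerate :=
    Cfsg.Agent.Lib.Helper8.OSubLeaf19.smul_nondeg Q₂ hc0' hnd₂
  have hval : ∀ v : Idx n₁ n₂ → F, Q₂ v = Qf ((P : Matrix ι ι F) *ᵥ (v ∘ e)) := by
    intro v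
    rw [hQ₂, reQ_apply, hQ₁, QuadraticMap.comp_apply, Matrix.toLin'_apply]
  have hpol₂ : ∀ v w : Idx n₁ n₂ → F, polar Q₂ v w =
      polar Qf ((P : Matrix ι ι F) *ᵥ (v ∘ e)) ((P : Matrix ι ι F) *ᵥ (w ∘ e)) := by
    intro v w
    unfold polar
    rw [hval, hval, hval]
    congr 2
    rw [← Matrix.mulVec_add]
    rfl
  have hmax := hcore (c⁻¹ • Q₂) hnd'
    (by
      intro x y x' y'
      rw [Cfsg.Agent.Lib.Helper8.OSubLeaf19.polar_smul_form, hpol₂, hc,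
        formOfGram_kron_pt f₁ f₂ hb₁ hb₂, ← mul_assoc, inv_mul_cancel₀ hc0, one_mul])
    ⟨c⁻¹, hc0', fun v => by rw [_root_.smul_apply, hval, smul_eq_mul]⟩
  -- transport along `φ`
  set φ : GL (Idx n₁ n₂) F ≃* GL ι F :=
    (Cfsg.Geo.glReindex (F := F) e.symm).trans (MulAut.conj P) with hφ
  have h1 := Cfsg.Agent.Lib.Helper25.TensLeaf.isMaximalIn_map' φ hmax
  have hmapφ : ∀ H : Subgroup (GL (Idx n₁ n₂) F), H.map φ.toMonoidHom =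
      (H.map (Cfsg.Geo.glReindex (F := F) e.symm).toMonoidHom).map (MulAut.conj P).toMonoidHom := by
    intro H
    rw [Subgroup.map_map]
    rfl
  have hO : (Cfsg.Geo.omegaGL ⇑(c⁻¹ • Q₂)).map φ.toMonoidHom = Cfsg.Geo.omegaGL ⇑Qf := by
    rw [Cfsg.Agent.Lib.Helper8.OSubLeaf19.omegaGL_smul Q₂ hc0', hmapφ, hQ₂, omegaGL_reindex, hQ₁,
      Cfsg.Agent.Lib.Helper18.OSubLeaf.omegaGL_comp]
  have hK : (KG n₁ n₂ F).map φ.toMonoidHom = Cfsg.Geo.tensorProductSubgroup n₁ n₂ e P := by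
    rw [hmapφ]
    rfl
  rw [Subgroup.map_inf _ _ _ φ.injective, hO, hK] at h1
  exact h1

/-! ### (T2) the Gram model: for `2 ≠ 0` the model form is `v ↦ (1/2) vᵀ (G₁ ⊗ₖ G₂) v` -/

section gram
variable {κ : Type} [Fintype κ] [DecidableEq κ]

/-- the quadratic form `v ↦ (1/2) vᵀ K v` -/
noncomputable def QG (K : Matrix κ κ F) : QuadraticForm F (κ → F) :=
  LinearMap.BilinMap.toQuadraticMap ((2 : F)⁻¹ • Matrix.toBilin' K)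

omit [Fintype F] in
lemma QG_apply (K : Matrix κ κ F) (v : κ → F) : QG K v = (2 : F)⁻¹ * (v ⬝ᵥ (K *ᵥ v)) := by
  unfold QG
  rw [LinearMap.BilinMap.toQuadraticMap_apply, LinearMap.smul_apply, LinearMap.smul_apply,
    Matrix.toBilin'_apply', smul_eq_mul]

omit [Fintype F] in
lemma dot_mulVec_comm {K : Matrix κ κ F} (hK : Kᵀ = K) (v w : κ → F) :
    w ⬝ᵥ (K *ᵥ v) = v ⬝ᵥ (K *ᵥ w) := by
  rw [Matrix.dotProduct_mulVec, dotProduct_comm, ← Matrix.mulVec_transpose, hK]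

omit [Fintype F] in
lemma polar_QG {K : Matrix κ κ F} (hK : Kᵀ = K) (h2 : (2 : F) ≠ 0) (v w : κ → F) :
    polar (QG K) v w = v ⬝ᵥ (K *ᵥ w) := by
  unfold polar
  rw [QG_apply, QG_apply, QG_apply, Matrix.mulVec_add, add_dotProduct, dotProduct_add,
    dotProduct_add, dot_mulVec_comm hK v w]
  field_simp
  ring

omit [Fintype F] in
/-- Gram matrices of symmetric forms -/
lemma gram_symm {f : (κ → F) → (κ → F) → F} (hf : Cfsg.Geo.IsSymmetricForm f) :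
    (Cfsg.Geo.gramMatrix f)ᵀ = Cfsg.Geo.gramMatrix f := by
  ext i j
  rw [Matrix.transpose_apply]
  exact hf.symm _ _

omit [Fintype F] in
lemma gram_det_ne_zero {f : (κ → F) → (κ → F) → F} (hf : Cfsg.Geo.IsSymmetricForm f) :
    (Cfsg.Geo.gramMatrix f).det ≠ 0 := by
  intro h0
  obtain ⟨v, hv0, hv⟩ := Matrix.exists_mulVec_eq_zero_iff.mpr h0
  obtain ⟨⟨x, hx⟩, -⟩ := hf.nondegenerate v hv0
  apply hx
  rw [Cfsg.Agent.Lib.Helper7.SOTLeaf.bil_eq_dot f hf.bilinear, hv, dotProduct_zero]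

end gram

omit [Fintype F] in
/-- for `2 ≠ 0` a quadratic form with the tensor polar form is the Gram model form -/
theorem eq_QG {n₁ n₂ : ℕ} (h2 : (2 : F) ≠ 0) (f₁ : (Fin n₁ → F) → (Fin n₁ → F) → F)
    (f₂ : (Fin n₂ → F) → (Fin n₂ → F) → F) (hb₁ : Cfsg.Geo.IsBilinearForm f₁)
    (hb₂ : Cfsg.Geo.IsBilinearForm f₂) (Q' : QuadraticForm F (Idx n₁ n₂ → F))
    (hpol : ∀ (x : Fin n₁ → F) (y : Fin n₂ → F) (x' : Fin n₁ → F) (y' : Fin n₂ → F),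
      polar Q' (pt x y) (pt x' y') = f₁ x x' * f₂ y y') :
    Q' = QG (Cfsg.Geo.gramMatrix f₁ ⊗ₖ Cfsg.Geo.gramMatrix f₂) := by
  set K : Matrix (Idx n₁ n₂) (Idx n₁ n₂) F :=
    Cfsg.Geo.gramMatrix f₁ ⊗ₖ Cfsg.Geo.gramMatrix f₂ with hK
  have key : ∀ v w : Idx n₁ n₂ → F, polar Q' v w = v ⬝ᵥ (K *ᵥ w) := by
    intro v
    revert v
    apply Cfsg.Agent.Lib.Helper7.SOTLeaf.pt_ind
    · intro w
      rw [QuadraticMap.polar_zero_left, zero_dotProduct]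
    · intro v v' hv hv' w
      rw [QuadraticMap.polar_add_left, add_dotProduct, hv, hv']
    · intro x y w
      revert w
      apply Cfsg.Agent.Lib.Helper7.SOTLeaf.pt_ind
      · rw [QuadraticMap.polar_zero_right, Matrix.mulVec_zero, dotProduct_zero]
      · intro w w' hw hw'
        rw [QuadraticMap.polar_add_right, Matrix.mulVec_add, dotProduct_add, hw, hw']
      · intro x' y'
        rw [hpol, ← formOfGram_kron_pt f₁ f₂ hb₁ hb₂,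
          Cfsg.Agent.Lib.Helper7.SOTLeaf.formOfGram_id]
  ext v
  rw [QG_apply, ← key v v, QuadraticMap.polar_self]
  rw [two_nsmul]
  field_simp
  ring

/-- (T2) transport to the frozen statement from the Gram model -/
theorem transportG {ι : Type} [Fintype ι] [DecidableEq ι] (h2 : (2 : F) ≠ 0)
    (Qf : QuadraticForm F (ι → F))
    (hnd : (polarBilin Qf).Nondegenerate) (n₁ n₂ : ℕ) (e : ι ≃ Fin n₁ × Fin n₂)
    (P : Matrix.GeneralLinearGroup ι F) (f₁ : (Fin n₁ → F) → (Fin n₁ → F) → F)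
    (f₂ : (Fin n₂ → F) → (Fin n₂ → F) → F) (hb₁ : Cfsg.Geo.IsBilinearForm f₁)
    (hb₂ : Cfsg.Geo.IsBilinearForm f₂)
    (hT : Cfsg.Geo.IsTensorFormStructure id (QuadraticMap.polar ⇑Qf) f₁ f₂ e P)
    (hmax : Cfsg.Geo.IsMaximalIn
      (Cfsg.Geo.omegaGL ⇑(QG (Cfsg.Geo.gramMatrix f₁ ⊗ₖ Cfsg.Geo.gramMatrix f₂)))
      (KG n₁ n₂ F ⊓
        Cfsg.Geo.omegaGL ⇑(QG (Cfsg.Geo.gramMatrix f₁ ⊗ₖ Cfsg.Geo.gramMatrix f₂)))) :
    Cfsg.Geo.IsMaximalIn (Cfsg.Geo.omegaGL ⇑Qf)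
      (Cfsg.Geo.tensorProductSubgroup n₁ n₂ e P ⊓ Cfsg.Geo.omegaGL ⇑Qf) := by
  apply transportO Qf hnd n₁ n₂ e P f₁ f₂ hb₁ hb₂ hT
  intro Q' _ hpol _
  rw [eq_QG h2 f₁ f₂ hb₁ hb₂ Q' hpol]
  exact hmax

/-! ### the two frozen statements -/

/-- `2 ≠ 0` in a finite field of odd order -/
theorem two_ne_zero_of_odd (hodd : Odd (Fintype.card F)) : (2 : F) ≠ 0 :=
  Cfsg.Agent.Lib.Helper25.Spin.two_ne_zero_of_odd_card hodd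

/-- PART (T) for S5681 -/
theorem frozen_S5681_of_model
    (hmodel : ∀ (n₁ n₂ : ℕ) (G₁ : Matrix (Fin n₁) (Fin n₁) F) (G₂ : Matrix (Fin n₂) (Fin n₂) F),
      (2 : F) ≠ 0 → 3 ≤ n₁ → n₁ < n₂ → Odd (n₁ * n₂) → 13 ≤ n₁ * n₂ →
      ¬ (Fintype.card F = 3 ∧ n₁ = 3) → G₁ᵀ = G₁ → G₂ᵀ = G₂ → G₁.det ≠ 0 → G₂.det ≠ 0 →
      Cfsg.Geo.IsMaximalIn (Cfsg.Geo.omegaGL ⇑(QG (G₁ ⊗ₖ G₂)))
        (KG n₁ n₂ F ⊓ Cfsg.Geo.omegaGL ⇑(QG (G₁ ⊗ₖ G₂))))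
    (hodd : Odd (Fintype.card F)) (m : ℕ) (hm : 6 ≤ m) (n₁ n₂ : ℕ) (h1 : 3 ≤ n₁) (h12 : n₁ < n₂)
    (hex : ¬ (Fintype.card F = 3 ∧ n₁ = 3)) (e : (Unit ⊕ (Fin m ⊕ Fin m)) ≃ Fin n₁ × Fin n₂)
    (P : Matrix.GeneralLinearGroup (Unit ⊕ (Fin m ⊕ Fin m)) F)
    (f₁ : (Fin n₁ → F) → (Fin n₁ → F) → F) (f₂ : (Fin n₂ → F) → (Fin n₂ → F) → F)
    (hf₁ : Cfsg.Geo.IsSymmetricForm f₁) (hf₂ : Cfsg.Geo.IsSymmetricForm f₂)
    (hT : Cfsg.Geo.IsTensorFormStructure id (QuadraticMap.polar (Cfsg.quadFormOdd m F)) f₁ f₂ e P) :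
    Cfsg.Geo.IsMaximalIn (Cfsg.Geo.omegaGL (Cfsg.quadFormOdd m F))
      (Cfsg.Geo.tensorProductSubgroup n₁ n₂ e P ⊓ Cfsg.Geo.omegaGL (Cfsg.quadFormOdd m F)) := by
  have h2 : (2 : F) ≠ 0 := two_ne_zero_of_odd hodd
  obtain ⟨Qf, hQfe, hnd⟩ : ∃ Qf : QuadraticForm F (Unit ⊕ (Fin m ⊕ Fin m) → F),
      ⇑Qf = Cfsg.quadFormOdd m F ∧ (QuadraticMap.polarBilin Qf).Nondegenerate :=
    ⟨Cfsg.Agent.Lib.Helper25.Spin.qfOf (Cfsg.Agent.Lib.Helper14.isQF_odd (m := m) h2), rfl,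
      Cfsg.Agent.Lib.Helper25.Spin.qfOf_nondeg _⟩
  have hcard : 2 * m + 1 = n₁ * n₂ := by
    have := Fintype.card_congr e
    simp only [Fintype.card_sum, Fintype.card_fin, Fintype.card_prod, Fintype.card_unit] at this
    omega
  rw [← hQfe] at hT ⊢
  apply transportG h2 Qf hnd n₁ n₂ e P f₁ f₂ hf₁.bilinear hf₂.bilinear hT
  exact hmodel n₁ n₂ _ _ h2 h1 h12 (by rw [← hcard]; exact ⟨m, by ring⟩) (by omega) hex
    (gram_symm hf₁) (gram_symm hf₂) (gram_det_ne_zero hf₁) (gram_det_ne_zero hf₂)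

/-- PART (T) for S5709 -/
theorem frozen_S5709_of_model
    (hmodel : ∀ (n₁ n₂ : ℕ) (G₁ : Matrix (Fin n₁) (Fin n₁) F) (G₂ : Matrix (Fin n₂) (Fin n₂) F),
      (2 : F) ≠ 0 → 3 ≤ n₁ → Odd n₁ → 4 ≤ n₂ → Even n₂ → 13 ≤ n₁ * n₂ →
      ¬ (Fintype.card F = 3 ∧ n₁ = 3) → G₁ᵀ = G₁ → G₂ᵀ = G₂ → G₁.det ≠ 0 → G₂.det ≠ 0 →
      ¬ Cfsg.Geo.IsPlusTypeOn (fun v : Fin n₂ → F => v ⬝ᵥ (G₂ *ᵥ v)) ⊤ →
      Cfsg.Geo.IsMaximalIn (Cfsg.Geo.omegaGL ⇑(QG (G₁ ⊗ₖ G₂)))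
        (KG n₁ n₂ F ⊓ Cfsg.Geo.omegaGL ⇑(QG (G₁ ⊗ₖ G₂))))
    {n : ℕ} (hn : 13 ≤ n) (Q : (Fin n → F) → F)
    (hQ : Cfsg.Geo.IsNondegenerateQuadraticForm Q) (hodd : Odd (Fintype.card F)) (n₁ n₂ : ℕ)
    (h1 : 3 ≤ n₁) (h1o : Odd n₁) (h2' : 4 ≤ n₂) (h2e : Even n₂)
    (hex : ¬ (Fintype.card F = 3 ∧ n₁ = 3)) (e : (Fin n) ≃ Fin n₁ × Fin n₂)
    (P : Matrix.GeneralLinearGroup (Fin n) F) (f₁ : (Fin n₁ → F) → (Fin n₁ → F) → F)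
    (f₂ : (Fin n₂ → F) → (Fin n₂ → F) → F) (hf₁ : Cfsg.Geo.IsSymmetricForm f₁)
    (hf₂ : Cfsg.Geo.IsSymmetricForm f₂)
    (hf₂m : ¬ Cfsg.Geo.IsPlusTypeOn (fun v : Fin n₂ → F => f₂ v v) ⊤)
    (hT : Cfsg.Geo.IsTensorFormStructure id (QuadraticMap.polar Q) f₁ f₂ e P) :
    Cfsg.Geo.IsMaximalIn (Cfsg.Geo.omegaGL Q)
      (Cfsg.Geo.tensorProductSubgroup n₁ n₂ e P ⊓ Cfsg.Geo.omegaGL Q) := by
  have h2 : (2 : F) ≠ 0 := two_ne_zero_of_odd hodd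
  obtain ⟨Qf, hQf⟩ : ∃ Qf : QuadraticForm F (Fin n → F), Qf =
    Cfsg.Agent.Lib.Helper9.QuadBridge.ofFun Q hQ := ⟨_, rfl⟩
  have hcoe : ⇑Qf = Q := by rw [hQf]; rfl
  have hnd : (polarBilin Qf).Nondegenerate := by
    rw [hQf]; exact Cfsg.Agent.Lib.Helper9.QuadBridge.ofFun_nondeg Q hQ
  have hcard : n = n₁ * n₂ := by
    have := Fintype.card_congr e
    simpa using this
  rw [← hcoe] at hT ⊢
  apply transportG h2 Qf hnd n₁ n₂ e P f₁ f₂ hf₁.bilinear hf₂.bilinear hT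
  refine hmodel n₁ n₂ _ _ h2 h1 h1o h2' h2e (by rw [← hcard]; exact hn) hex
    (gram_symm hf₁) (gram_symm hf₂) (gram_det_ne_zero hf₁) (gram_det_ne_zero hf₂) ?_
  have hfun : (fun v : Fin n₂ → F => v ⬝ᵥ (Cfsg.Geo.gramMatrix f₂ *ᵥ v)) =
      (fun v : Fin n₂ → F => f₂ v v) := by
    funext v
    rw [← Cfsg.Agent.Lib.Helper7.SOTLeaf.bil_eq_dot f₂ hf₂.bilinear]
  rw [hfun]
  exact hf₂m

end Cfsg.Agent.Lib.Helper7.OTT
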