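import Cfsg.Agent.Lib.Helper7.ChevOrd3

/-! Ordered product decomposition of `U` with respect to an arbitrary injective positive
functional (helper7). -/

set_option autoImplicit false

namespace Cfsg.Agent.Lib.Helper7

open Cfsg Cfsg.Lie Matrix
open scoped Pointwise

structure PosFacts (D : ChevalleyDatum) (A : ℕ → ℤ) : Prop where
  pos : ∀ r, D.IsPosRoot r → 0 < A r
  prim : ∀ r < D.nroots, gcdL (corL D r) = 1

/-- a list of positive roots in increasing order with respect to `A`, closed upwards -/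
structure GoodLA (D : ChevalleyDatum) (A : ℕ → ℤ) (l : List ℕ) : Prop where
  sorted : l.Pairwise (fun r s => A r < A s)
  pos : ∀ r ∈ l, D.IsPosRoot r
  up : ∀ r ∈ l, ∀ s, D.IsPosRoot s → A r < A s → s ∈ l

theorem GoodLA.tail {D : ChevalleyDatum} {A : ℕ → ℤ} {r : ℕ} {l : List ℕ} (h : GoodLA D A (r :: l)) :
    GoodLA D A l := by
  have hs := List.pairwise_cons.mp h.sorted
  refine ⟨hs.2, fun s hs' => h.pos s (List.mem_cons_of_mem _ hs'), ?_⟩
  intro a ha s hsp has
  have := h.up a (List.mem_cons_of_mem _ ha) s hsp has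
  rcases List.mem_cons.mp this with rfl | h'
  · have := hs.1 a ha
    omega
  · exact h'

theorem gensL_congr (D : ChevalleyDatum) (F : Type*) [Field F] (l l' : List ℕ) (h : ∀ r, r ∈ l ↔ r ∈ l') :
    gensL D F l = gensL D F l' := by
  ext g
  constructor
  · rintro ⟨r, hr, t, hg⟩; exact ⟨r, (h r).mp hr, t, hg⟩
  · rintro ⟨r, hr, t, hg⟩; exact ⟨r, (h r).mpr hr, t, hg⟩

section
variable (D : ChevalleyDatum) (hD : D ∈ [chevG2, chevB2, chevD4, chevF4, chevE6, chevE7, chevE8])
variable (F : Type*) [Field F]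
variable (A : ℕ → ℤ) (hA : ChainAdd D A) (hO : PosFacts D A)
include hD hA hO

omit F in
theorem A_neg_of_negA (r : ℕ) (hr : D.IsNegRoot r) : A r < 0 := by
  have hNI := negInvOK_of_mem D hD r hr.1
  have hp := hO.pos _ (hNI.2.2 hr)
  have h1 := hA.negA r hr.1 hNI.2.1
  have : A (D.neg r) = A (D.negIdx.getD r 0) := rfl
  omega

omit F in
theorem isPosRoot_of_A_posA (r : ℕ) (hr : r < D.nroots) (h : 0 < A r) : D.IsPosRoot r := by
  rcases posOrNeg_of_mem D hD r hr with hp | hn
  · exact hp
  · have := A_neg_of_negA D hD A hA hO r hn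
    omega

/-- `X_r` normalises the subgroup generated by the later root subgroups -/
theorem xGL_conj_gensLA (r : ℕ) (l : List ℕ) (hl : GoodLA D A (r :: l)) (u : F) :
    ∀ y ∈ gensL D F l, xGL D hD F r u * y * (xGL D hD F r u)⁻¹ ∈ Subgroup.closure (gensL D F l) := by
  rintro y ⟨s, hs, t, hym⟩
  have hy : y = xGL D hD F s t := Units.ext (by rw [hym, coe_xGL])
  rw [hy]
  have hsort := List.pairwise_cons.mp hl.sorted
  have hrpos := hl.pos r (List.mem_cons_self ..)
  have hspos := hl.pos s (List.mem_cons_of_mem _ hs)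
  have hrs : A r < A s := hsort.1 s hs
  have hAr := hO.pos r hrpos
  have hAs := hO.pos s hspos
  have hsr : s ≠ r := by
    rintro rfl; omega
  have hsn : s ≠ D.neg r := by
    intro h
    have hN := negOK_of_mem D hD r hrpos.1
    have := hA.negA r hrpos.1 hN.1
    rw [← h] at this
    omega
  rw [xGL_conj_xGL D hD F r s hrpos.1 hspos.1 hsr hsn u t]
  apply Subgroup.mul_mem
  · apply Subgroup.subset_closure
    exact ⟨s, hs, t, coe_xGL D hD F _ _⟩
  · unfold wordGL
    apply Subgroup.list_prod_mem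
    intro g hg
    rw [List.mem_map] at hg
    obtain ⟨p, hp, rfl⟩ := hg
    unfold ChevalleyDatum.commWord at hp
    rw [List.mem_map] at hp
    obtain ⟨c, hc, rfl⟩ := hp
    obtain ⟨hc1, hi, hj, hlin⟩ := hA.commTerms D hD r s hrpos.1 hspos.1 c hc
    have hgt : A r < A c.1 := by
      have h1 : A r ≤ c.2.2.1 * A r := by
        have : (1 : ℤ) ≤ c.2.2.1 := by exact_mod_cast hi
        nlinarith
      have h2 : A s ≤ c.2.2.2 * A s := by
        have : (1 : ℤ) ≤ c.2.2.2 := by exact_mod_cast hj
        nlinarith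
      omega
    have hcpos : D.IsPosRoot c.1 := isPosRoot_of_A_posA D hD A hA hO c.1 hc1 (by omega)
    have hmem := hl.up r (List.mem_cons_self ..) c.1 hcpos hgt
    have hmem' : c.1 ∈ l := by
      rcases List.mem_cons.mp hmem with h' | h'
      · rw [h'] at hgt; omega
      · exact h'
    apply Subgroup.subset_closure
    exact ⟨c.1, hmem', _, coe_xGL D hD F _ _⟩

/-- every element of `⟨X_r : r ∈ l⟩` is an ordered product -/
theorem exists_ordProdA : ∀ (l : List ℕ), GoodLA D A l → ∀ g ∈ Subgroup.closure (gensL D F l),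
    ∃ t : ℕ → F, g = ordProd D hD F l t
  | [], _, g, hg => by
    have : gensL D F [] = ∅ := by
      ext g; simp [gensL]
    rw [this, Subgroup.closure_empty, Subgroup.mem_bot] at hg
    exact ⟨fun _ => 0, by rw [hg, ordProd_nil]⟩
  | r :: l, hl, g, hg => by
    have ih := exists_ordProdA l hl.tail
    have hnorm : D.rootSubgroup F r ≤ Subgroup.normalizer (Subgroup.closure (gensL D F l) : Set (GL D.Idx F)) := by
      intro x hx
      obtain ⟨u, rfl⟩ := (mem_rootSubgroup_iff D hD F r x).mp hx
      apply mem_normalizer_closure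
      · exact xGL_conj_gensLA D hD F A hA hO r l hl u
      · intro y hy
        rw [xGL_inv]
        exact xGL_conj_gensLA D hD F A hA hO r l hl (-u) y hy
    rw [closure_gensL_cons D F r l] at hg
    have hg' : g ∈ ((D.rootSubgroup F r ⊔ Subgroup.closure (gensL D F l) : Subgroup (GL D.Idx F)) :
        Set (GL D.Idx F)) := hg
    rw [Subgroup.coe_mul_of_left_le_normalizer_right _ _ hnorm] at hg'
    obtain ⟨x, hx, k, hk, rfl⟩ := Set.mem_mul.mp hg'
    obtain ⟨u, rfl⟩ := (mem_rootSubgroup_iff D hD F r x).mp hx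
    obtain ⟨t, rfl⟩ := ih k hk
    have hrl : r ∉ l := by
      intro h
      have := (List.pairwise_cons.mp hl.sorted).1 r h
      omega
    refine ⟨Function.update t r u, ?_⟩
    rw [ordProd_cons, Function.update_self]
    congr 1
    apply ordProd_congr
    intro s hs
    rw [Function.update_of_ne]
    rintro rfl
    exact hrl hs

/-- a root element lying in the subgroup generated by the later root subgroups is trivial -/
theorem eq_zero_of_xGL_memA (r : ℕ) (l : List ℕ) (hl : GoodLA D A (r :: l)) (d : F)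
    (h : xGL D hD F r d ∈ Subgroup.closure (gensL D F l)) : d = 0 := by
  have hsort := List.pairwise_cons.mp hl.sorted
  have hrpos := hl.pos r (List.mem_cons_self ..)
  have hAr := hO.pos r hrpos
  obtain ⟨m, hm⟩ : ∃ m : ℕ, (m : ℤ) = A r + 1 := ⟨(A r + 1).toNat, Int.toNat_of_nonneg (by omega)⟩
  have hK : Subgroup.closure (gensL D F l) ≤
      unitriSubgroup (R := F) (lvlA D A) (2 * bndA D A + 1) (lvlA_lt D A) m (by omega) := by
    rw [Subgroup.closure_le]
    rintro g ⟨s, hs, t, hg⟩
    show Level (lvlA D A) m ((g : Matrix D.Idx D.Idx F) - 1)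
    have hspos := hl.pos s (List.mem_cons_of_mem _ hs)
    rw [hg, x_eq_xMat D F s hspos.1]
    apply xMat_level D hD F hA ⟨s, hspos.1⟩ t m (by omega)
    have := hsort.1 s hs
    show (m : ℤ) ≤ A s
    omega
  have hlev : Level (lvlA D A) m (((xGL D hD F r d : GL D.Idx F) : Matrix D.Idx D.Idx F) - 1) := hK h
  rw [coe_xGL, x_eq_xMat D F r hrpos.1] at hlev
  have hN := negOK_of_mem D hD r hrpos.1
  have hnegA : A (D.negIdx.getD r 0) = - A r := hA.negA r hrpos.1 hN.1
  have hne : (⟨D.negIdx.getD r 0, hN.1⟩ : Fin D.nroots) ≠ ⟨r, hrpos.1⟩ := by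
    intro hh; exact hN.2 (Fin.mk.inj_iff.mp hh)
  have hent : ∀ j : Fin D.rank, (((D.coroot.getD r #[]).getD j.val 0 : ℤ) : F) * d = 0 := by
    intro j
    have hlt : lvlA D A (Sum.inl j) < lvlA D A (Sum.inr ⟨D.negIdx.getD r 0, hN.1⟩) + m := by
      have c1 := lvlA_cast D A (Sum.inl j)
      have c2 := lvlA_cast D A (Sum.inr ⟨D.negIdx.getD r 0, hN.1⟩)
      have w1 : wtF D A (Sum.inl j) = 0 := rfl
      have w2 : wtF D A (Sum.inr ⟨D.negIdx.getD r 0, hN.1⟩) = A (D.negIdx.getD r 0) := rfl
      omega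
    have := hlev _ _ hlt
    rw [Matrix.sub_apply, Matrix.one_apply, if_neg (by simp), sub_zero,
      xMat_inl_neg D F ⟨r, hrpos.1⟩ d ⟨D.negIdx.getD r 0, hN.1⟩ hne rfl j] at this
    exact this
  have hg := gcdL_cast_mul_eq_zero d (corL D r) (by
    intro c hc
    unfold corL at hc
    rw [List.mem_map] at hc
    obtain ⟨j, hj, rfl⟩ := hc
    exact hent ⟨j, List.mem_range.mp hj⟩)
  rw [hO.prim r hrpos.1] at hg
  simpa using hg

/-- uniqueness of the ordered product decomposition -/
theorem ordProd_injA : ∀ (l : List ℕ), GoodLA D A l → ∀ t u : ℕ → F,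
    ordProd D hD F l t = ordProd D hD F l u → ∀ r ∈ l, t r = u r
  | [], _, _, _, _, r, hr => by simp at hr
  | r :: l, hl, t, u, h, s, hs => by
    have ih := ordProd_injA l hl.tail t u
    rw [ordProd_cons, ordProd_cons] at h
    have hd : xGL D hD F r (t r - u r) ∈ Subgroup.closure (gensL D F l) := by
      have e : xGL D hD F r (t r - u r) = ordProd D hD F l u * (ordProd D hD F l t)⁻¹ := by
        have h1 : xGL D hD F r (t r - u r) = (xGL D hD F r (u r))⁻¹ * xGL D hD F r (t r) := by
          rw [xGL_inv, xGL_mul]; congr 1; ring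
        rw [h1]
        have h2 : xGL D hD F r (t r) = xGL D hD F r (u r) * ordProd D hD F l u *
            (ordProd D hD F l t)⁻¹ := by rw [← h]; group
        rw [h2]; group
      rw [e]
      exact Subgroup.mul_mem _ (ordProd_mem D hD F l u) (Subgroup.inv_mem _ (ordProd_mem D hD F l t))
    have h0 := eq_zero_of_xGL_memA D hD F A hA hO r l hl _ hd
    have htr : t r = u r := sub_eq_zero.mp h0
    rcases List.mem_cons.mp hs with rfl | hs'
    · exact htr
    · rw [htr] at h
      exact ih (mul_left_cancel h) s hs'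

/-- `U` is generated by the root subgroups of a list containing exactly the positive roots -/
theorem posUnipotent_eq_closure_gensLA (l : List ℕ) (hl : ∀ r, r ∈ l ↔ D.IsPosRoot r) :
    D.posUnipotent F = Subgroup.closure (gensL D F l) := by
  rw [posUnipotent_eq_closure_gensL]
  congr 1
  apply gensL_congr
  intro r
  rw [mem_posRoots, hl]

end

end Cfsg.Agent.Lib.Helper7
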