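import Cfsg.Agent.Lib.Helper7.ChevOrder0

/-! The action of the monomial group `N` on the roots (helper7). -/

set_option autoImplicit false

namespace Cfsg.Agent.Lib.Helper7

open Cfsg Cfsg.Lie Matrix
open Cfsg.Agent.Lib.Helper3.BN Cfsg.Agent.Lib.Helper3.WordLen

/-- the composition of the fundamental reflections of a word -/
def reflWord (D : ChevalleyDatum) : List ℕ → ℕ → ℕ
  | [] => id
  | i :: L => D.reflectRoot i ∘ reflWord D L

theorem reflWord_append (D : ChevalleyDatum) (L L' : List ℕ) :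
    reflWord D (L ++ L') = reflWord D L ∘ reflWord D L' := by
  induction L with
  | nil => rfl
  | cons i L ih =>
    show D.reflectRoot i ∘ reflWord D (L ++ L') = (D.reflectRoot i ∘ reflWord D L) ∘ reflWord D L'
    rw [ih]; rfl

section
variable (D : ChevalleyDatum) (hD : D ∈ [chevG2, chevB2, chevD4, chevF4, chevE6, chevE7, chevE8])
variable (F : Type*) [Field F]
include hD

/-- `n X_s n⁻¹ = X_{f s}` for all roots `s` -/
def ActsAs (n : GL D.Idx F) (f : ℕ → ℕ) : Prop :=
  ∀ s < D.nroots, f s < D.nroots ∧ ∃ c : F, c ≠ 0 ∧ ∀ t : F, n * xGL D hD F s t * n⁻¹ = xGL D hD F (f s) (c * t)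

theorem actsAs_diag (h : GL D.Idx F) (hh : h ∈ D.diagonalSubgroup F) : ActsAs D hD F h id := by
  obtain ⟨χ, hχ, hhm⟩ := mem_diagonalSubgroup_char D hD F h hh
  intro s hs
  refine ⟨hs, χ s, hχ.ne0 s hs, fun t => ?_⟩
  rw [diagGL_xGL_comm D hD F h χ hχ hhm s t]; simp

theorem actsAs_nFund (i : ℕ) (hi : i < D.rank) : ActsAs D hD F (nFund D hD F i) (D.reflectRoot i) := by
  have hC := conjFacts_of_mem D hD i hi
  intro s hs
  have hη : ((etaFn D i s : ℤ) : F) ≠ 0 := by
    rcases hC.ηpm s hs with h | h <;> rw [h] <;> norm_num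
  exact ⟨hC.wlt s hs, _, hη, fun t => nFund_conj_xGL D hD F i hi s hs t⟩

theorem actsAs_nFund_inv (i : ℕ) (hi : i < D.rank) :
    ActsAs D hD F (nFund D hD F i)⁻¹ (D.reflectRoot i) := by
  have hC := conjFacts_of_mem D hD i hi
  intro s hs
  obtain ⟨a, ha, c, hc, h1, -⟩ := rootConj_nFund D hD F i hi s hs
  have hws := hC.wlt s hs
  have hη : ((etaFn D i (D.reflectRoot i s) : ℤ) : F) ≠ 0 := by
    rcases hC.ηpm _ hws with h | h <;> rw [h] <;> norm_num
  refine ⟨hws, _, hη, fun t => ?_⟩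
  have h1' := nFund_conj_xGL D hD F i hi _ hws (((etaFn D i (D.reflectRoot i s) : ℤ) : F) * t)
  rw [hC.winv s hs, ← mul_assoc, eta_sq D hD F i hi _ hws, one_mul] at h1'
  rw [← h1']
  group

omit hD in
theorem ActsAs.mul {hD : D ∈ [chevG2, chevB2, chevD4, chevF4, chevE6, chevE7, chevE8]}
    {n n' : GL D.Idx F} {f f' : ℕ → ℕ} (h : ActsAs D hD F n f) (h' : ActsAs D hD F n' f') :
    ActsAs D hD F (n * n') (f ∘ f') := by
  intro s hs
  obtain ⟨hlt', c', hc', h1'⟩ := h' s hs
  obtain ⟨hlt, c, hc, h1⟩ := h (f' s) hlt'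
  refine ⟨hlt, c * c', mul_ne_zero hc hc', fun t => ?_⟩
  have e : n * n' * xGL D hD F s t * (n * n')⁻¹ = n * (n' * xGL D hD F s t * n'⁻¹) * n⁻¹ := by group
  rw [e, h1', h1, mul_assoc]
  rfl

/-- root elements of different roots are different -/
theorem xGL_root_inj (a a' : ℕ) (ha : a < D.nroots) (ha' : a' < D.nroots) (c c' : F) (hc : c ≠ 0)
    (h : xGL D hD F a c = xGL D hD F a' c') : a = a' := by
  by_contra hne
  obtain ⟨w, hO⟩ := exists_ordW D hD
  have hN := negOK_of_mem D hD a ha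
  have hm : D.xMat F ⟨a, ha⟩ c = D.xMat F ⟨a', ha'⟩ c' := by
    have := congrArg (fun g : GL D.Idx F => (g : Matrix D.Idx D.Idx F)) h
    simp only [coe_xGL] at this
    rwa [x_eq_xMat D F a ha, x_eq_xMat D F a' ha'] at this
  have hneq : (⟨D.negIdx.getD a 0, hN.1⟩ : Fin D.nroots) ≠ ⟨a, ha⟩ := by
    intro hh; exact hN.2 (Fin.mk.inj_iff.mp hh)
  have hent : ∀ j : Fin D.rank, (((D.coroot.getD a #[]).getD j.val 0 : ℤ) : F) * c = 0 := by
    intro j
    have h1 := congrFun (congrFun hm (Sum.inl j)) (Sum.inr ⟨D.negIdx.getD a 0, hN.1⟩)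
    rw [xMat_inl_neg D F ⟨a, ha⟩ c ⟨D.negIdx.getD a 0, hN.1⟩ hneq rfl j] at h1
    rw [h1]
    by_cases h2 : (⟨D.negIdx.getD a 0, hN.1⟩ : Fin D.nroots) = ⟨a', ha'⟩
    · rw [h2]; exact xMat_inl_self D F ⟨a', ha'⟩ c' j
    · apply xMat_inl_gen D F ⟨a', ha'⟩ c' _ h2
      intro h3
      apply hne
      have e1 := (negInvOK_of_mem D hD a ha).1
      have e2 := (negInvOK_of_mem D hD a' ha').1
      have h3' : D.negIdx.getD a 0 = D.negIdx.getD a' 0 := h3
      rw [← e1, h3', e2]
  have hg := gcdL_cast_mul_eq_zero c (corL D a) (by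
    intro x hx
    unfold corL at hx
    rw [List.mem_map] at hx
    obtain ⟨j, hj, rfl⟩ := hx
    exact hent ⟨j, List.mem_range.mp hj⟩)
  rw [hO.prim a ha] at hg
  exact hc (by simpa using hg)

theorem ActsAs.unique {n : GL D.Idx F} {f f' : ℕ → ℕ} (h : ActsAs D hD F n f) (h' : ActsAs D hD F n f')
    (s : ℕ) (hs : s < D.nroots) : f s = f' s := by
  obtain ⟨hlt, c, hc, h1⟩ := h s hs
  obtain ⟨hlt', c', hc', h1'⟩ := h' s hs
  have := (h1 1).symm.trans (h1' 1)
  exact xGL_root_inj D hD F _ _ hlt hlt' _ _ (by simpa using hc) this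

/-- every element of `N` acts on the roots as a word in the fundamental reflections -/
theorem exists_actsAs (n : GL D.Idx F) (hn : n ∈ D.monomialSubgroup F) :
    ∃ L : List ℕ, (∀ i ∈ L, i < D.rank) ∧ ActsAs D hD F n (reflWord D L) := by
  rw [monomial_eq_sup_fund D hD F] at hn
  unfold fundSubgroup at hn
  have hH : D.diagonalSubgroup F = Subgroup.closure (D.diagonalSubgroup F : Set (GL D.Idx F)) :=
    (Subgroup.closure_eq _).symm
  rw [hH, ← Subgroup.closure_union] at hn
  induction hn using Subgroup.closure_induction'' with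
  | mem x hx =>
    rcases hx with hx | ⟨j, hj, hx⟩
    · exact ⟨[], by simp, actsAs_diag D hD F x hx⟩
    · have : x = nFund D hD F j := by
        apply Units.ext
        unfold nFund
        rw [hx, coe_wordGL]; rfl
      rw [this]
      exact ⟨[j], by simpa using hj, actsAs_nFund D hD F j hj⟩
  | inv_mem x hx =>
    rcases hx with hx | ⟨j, hj, hx⟩
    · exact ⟨[], by simp, actsAs_diag D hD F x⁻¹ (Subgroup.inv_mem _ hx)⟩
    · have : x = nFund D hD F j := by
        apply Units.ext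
        unfold nFund
        rw [hx, coe_wordGL]; rfl
      rw [this]
      exact ⟨[j], by simpa using hj, actsAs_nFund_inv D hD F j hj⟩
  | one =>
    refine ⟨[], by simp, ?_⟩
    intro s hs
    exact ⟨hs, 1, one_ne_zero, fun t => by simp [reflWord]⟩
  | mul x y _ _ ihx ihy =>
    obtain ⟨L, hL, hx⟩ := ihx
    obtain ⟨L', hL', hy⟩ := ihy
    refine ⟨L ++ L', ?_, ?_⟩
    · intro i hi
      rcases List.mem_append.mp hi with h | h
      · exact hL i h
      · exact hL' i h
    · rw [reflWord_append]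
      exact hx.mul D F hy

end

end Cfsg.Agent.Lib.Helper7
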