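import Cfsg.Agent.Lib.Helper7.ChevWeylTab0

/-! From a verified breadth-first table to `Σ_w q^{ℓ(w)}` (helper7). -/

set_option autoImplicit false

namespace Cfsg.Agent.Lib.Helper7

open Cfsg Cfsg.Lie Matrix
open Cfsg.Agent.Lib.Helper3.BN Cfsg.Agent.Lib.Helper3.WordLen

section
variable (D : ChevalleyDatum) (hD : D ∈ [chevG2, chevB2, chevD4, chevF4, chevE6, chevE7, chevE8])
variable (F : Type*) [Field F] (T : WeylTable) (hT : TabFacts D T)
include hD hT

omit hD in
theorem tab_word (L : List ℕ) (hL : ∀ i ∈ L, i < D.rank) :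
    ∃ e < T.elems.length, T.elems.getD e [] = (List.range D.nroots).map (reflWord D L) := by
  induction L with
  | nil =>
    refine ⟨T.idIdx, hT.idLt, ?_⟩
    rw [hT.idEl]
    show _ = (List.range D.nroots).map id
    rw [List.map_id]
  | cons i L ih =>
    obtain ⟨e, he, hel⟩ := ih (fun j hj => hL j (List.mem_cons_of_mem _ hj))
    have hi : i < D.rank := hL i List.mem_cons_self
    refine ⟨_, hT.nxtLt e he i hi, ?_⟩
    rw [hT.nxtEl e he i hi, hel, List.map_map]
    rfl

omit hD in
theorem tab_inj (e e' : ℕ) (he : e < T.elems.length) (he' : e' < T.elems.length)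
    (h : T.elems.getD e [] = T.elems.getD e' []) : e = e' := by
  rw [List.getD_eq_getElem _ _ he, List.getD_eq_getElem _ _ he'] at h
  exact (List.Nodup.getElem_inj_iff hT.nodup).mp h

theorem tab_exists (w : W (chevBNPair D hD F)) :
    ∃ e, e < T.elems.length ∧ WRel D hD F w (T.elems.getD e []) := by
  obtain ⟨L, hL, hw⟩ := wRel_exists D hD F w
  obtain ⟨e, he, hel⟩ := tab_word D T hT L hL
  exact ⟨e, he, by rw [hel]; exact hw⟩

/-- the index in the table of an element of the Weyl group -/
noncomputable def tabIdx (w : W (chevBNPair D hD F)) : ℕ := Classical.choose (tab_exists D hD F T hT w)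

theorem tabIdx_lt (w : W (chevBNPair D hD F)) : tabIdx D hD F T hT w < T.elems.length :=
  (Classical.choose_spec (tab_exists D hD F T hT w)).1

theorem tabIdx_rel (w : W (chevBNPair D hD F)) :
    WRel D hD F w (T.elems.getD (tabIdx D hD F T hT w) []) :=
  (Classical.choose_spec (tab_exists D hD F T hT w)).2

theorem tabIdx_eq (w : W (chevBNPair D hD F)) (e : ℕ) (he : e < T.elems.length)
    (h : WRel D hD F w (T.elems.getD e [])) : tabIdx D hD F T hT w = e :=
  tab_inj D T hT _ _ (tabIdx_lt D hD F T hT w) he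
    (wRel_unique D hD F w _ _ (tabIdx_rel D hD F T hT w) h)

theorem tabIdx_inj (w w' : W (chevBNPair D hD F))
    (h : tabIdx D hD F T hT w = tabIdx D hD F T hT w') : w = w' := by
  have h1 := tabIdx_rel D hD F T hT w
  have h2 := tabIdx_rel D hD F T hT w'
  rw [h] at h1
  exact wRel_inj D hD F w w' _ h1 h2

theorem tabIdx_one : tabIdx D hD F T hT 1 = T.idIdx := by
  apply tabIdx_eq D hD F T hT 1 _ hT.idLt
  rw [hT.idEl]
  exact wRel_one D hD F

theorem tabIdx_mul (w : W (chevBNPair D hD F)) (s : ↥(D.group F))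
    (hs : s ∈ (chevBNPair D hD F).S) (i : ℕ) (hi : i < D.rank)
    (hsn : (s : GL D.Idx F) = nFund D hD F i) :
    tabIdx D hD F T hT (sb (chevBNPair D hD F) s hs * w) =
      (T.nxt.getD (tabIdx D hD F T hT w) []).getD i 0 := by
  have hlt := tabIdx_lt D hD F T hT w
  apply tabIdx_eq D hD F T hT _ _ (hT.nxtLt _ hlt i hi)
  rw [hT.nxtEl _ hlt i hi]
  exact wRel_mul D hD F w _ (tabIdx_rel D hD F T hT w) s hs i hi hsn

omit hT in
/-- the fundamental reflection `s_i` as an element of `S` -/
theorem exists_fund (i : ℕ) (hi : i < D.rank) :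
    ∃ s : ↥(D.group F), ∃ _ : s ∈ (chevBNPair D hD F).S, (s : GL D.Idx F) = nFund D hD F i := by
  have hG : nFund D hD F i ∈ D.group F :=
    monomial_le_group D hD F (nFund_mem_monomial D hD F i hi)
  refine ⟨⟨nFund D hD F i, hG⟩, ?_, rfl⟩
  refine ⟨i, hi, ?_⟩
  show ((nFund D hD F i : GL D.Idx F) : Matrix D.Idx D.Idx F) = _
  unfold nFund
  rw [coe_wordGL]; rfl

theorem dep_le_len (k : ℕ) : ∀ w : W (chevBNPair D hD F),
    len (Sbar (chevBNPair D hD F)) w = k → T.dep.getD (tabIdx D hD F T hT w) 0 ≤ k := by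
  have hS := Sbar_sq (chevBNPair D hD F)
  have hgen := Sbar_closure (chevBNPair D hD F)
  induction k with
  | zero =>
    intro w hw
    rw [len_eq_zero_iff hS hgen] at hw
    rw [hw, tabIdx_one D hD F T hT, hT.idDep]
  | succ k ih =>
    intro w hw
    obtain ⟨t, ht, hlt⟩ := exists_cons hS hgen hw
    obtain ⟨s, hs, rfl⟩ := exists_sb_of_mem (chevBNPair D hD F) ht
    have hsf : s ∈ fundSet D F := hs
    obtain ⟨i, hi, hsm⟩ := hsf
    have hsn := coe_eq_nFund_of_mem_fundSet D hD F s i hsm
    have h1 := ih _ hlt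
    rw [tabIdx_mul D hD F T hT w s hs i hi hsn] at h1
    have h2 := hT.dep2 _ (tabIdx_lt D hD F T hT w) i hi
    omega

theorem len_le_dep (k : ℕ) : ∀ w : W (chevBNPair D hD F),
    T.dep.getD (tabIdx D hD F T hT w) 0 = k → len (Sbar (chevBNPair D hD F)) w ≤ k := by
  have hS := Sbar_sq (chevBNPair D hD F)
  have hgen := Sbar_closure (chevBNPair D hD F)
  induction k with
  | zero =>
    intro w hw
    by_cases he : tabIdx D hD F T hT w = T.idIdx
    · rw [← tabIdx_one D hD F T hT] at he
      rw [tabIdx_inj D hD F T hT _ _ he, len_one]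
    · exact absurd hw (hT.depPos _ (tabIdx_lt D hD F T hT w) he).1
  | succ k ih =>
    intro w hw
    by_cases he : tabIdx D hD F T hT w = T.idIdx
    · rw [he, hT.idDep] at hw
      omega
    · obtain ⟨-, i, hi, hd⟩ := hT.depPos _ (tabIdx_lt D hD F T hT w) he
      obtain ⟨s, hs, hsn⟩ := exists_fund D hD F i hi
      have h1 := tabIdx_mul D hD F T hT w s hs i hi hsn
      have h2 := ih (sb (chevBNPair D hD F) s hs * w) (by rw [h1]; omega)
      have h3 := len_le_mul hS hgen (sb_mem (chevBNPair D hD F) hs) w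
      omega

theorem len_eq_dep (w : W (chevBNPair D hD F)) :
    len (Sbar (chevBNPair D hD F)) w = T.dep.getD (tabIdx D hD F T hT w) 0 :=
  le_antisymm (len_le_dep D hD F T hT _ w rfl) (dep_le_len D hD F T hT _ w rfl)

theorem tabIdx_surj (k : ℕ) : ∀ e < T.elems.length, T.dep.getD e 0 = k →
    ∃ w : W (chevBNPair D hD F), tabIdx D hD F T hT w = e := by
  induction k with
  | zero =>
    intro e he hk
    by_cases hid : e = T.idIdx
    · exact ⟨1, by rw [hid]; exact tabIdx_one D hD F T hT⟩
    · exact absurd hk (hT.depPos e he hid).1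
  | succ k ih =>
    intro e he hk
    by_cases hid : e = T.idIdx
    · exact ⟨1, by rw [hid]; exact tabIdx_one D hD F T hT⟩
    · obtain ⟨-, i, hi, hd⟩ := hT.depPos e he hid
      have hlt' := hT.nxtLt e he i hi
      obtain ⟨w', hw'⟩ := ih _ hlt' (by omega)
      obtain ⟨s, hs, hsn⟩ := exists_fund D hD F i hi
      refine ⟨sb (chevBNPair D hD F) s hs * w', ?_⟩
      rw [tabIdx_mul D hD F T hT w' s hs i hi hsn, hw']
      apply tab_inj D T hT _ _ (hT.nxtLt _ hlt' i hi) he
      rw [hT.nxtEl _ hlt' i hi, hT.nxtEl e he i hi, List.map_map]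
      have hC := conjFacts_of_mem D hD i hi
      conv_rhs => rw [← List.map_id (T.elems.getD e [])]
      apply List.map_congr_left
      intro x hx
      exact hC.winv x (hT.elLt e he x hx)

theorem finite_W : Finite (W (chevBNPair D hD F)) := by
  have : Function.Injective (fun w : W (chevBNPair D hD F) =>
      (⟨tabIdx D hD F T hT w, tabIdx_lt D hD F T hT w⟩ : Fin T.elems.length)) := by
    intro w w' h
    exact tabIdx_inj D hD F T hT w w' (Fin.mk.inj_iff.mp h)
  exact Finite.of_injective _ this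

theorem sum_pow_len [Fintype (W (chevBNPair D hD F))] (q : ℕ) :
    ∑ w : W (chevBNPair D hD F), q ^ len (Sbar (chevBNPair D hD F)) w =
      ((List.range T.elems.length).map fun e => q ^ T.dep.getD e 0).sum := by
  rw [← List.sum_toFinset _ (List.nodup_range), List.toFinset_range]
  apply Finset.sum_nbij (fun w => tabIdx D hD F T hT w)
  · intro w _
    exact Finset.mem_range.mpr (tabIdx_lt D hD F T hT w)
  · intro w _ w' _ h
    exact tabIdx_inj D hD F T hT w w' h
  · intro e he
    have he' : e < T.elems.length := Finset.mem_range.mp he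
    obtain ⟨w, hw⟩ := tabIdx_surj D hD F T hT _ e he' rfl
    exact ⟨w, Finset.mem_coe.mpr (Finset.mem_univ _), hw⟩
  · intro w _
    rw [len_eq_dep D hD F T hT w]

end

end Cfsg.Agent.Lib.Helper7
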