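import Cfsg.Agent.Lib.Helper7.ChevWeylTab0

/-! Breadth-first table of the Weyl group of type G2 (helper7; generated). -/

set_option autoImplicit false
set_option maxRecDepth 1000000

namespace Cfsg.Agent.Lib.Helper7

open Cfsg Cfsg.Lie

def weylTab_G2 : WeylTable where
  elems := [[0, 1, 2, 3, 4, 5, 6, 7, 8, 9, 10, 11],
  [0, 5, 3, 2, 7, 1, 10, 4, 9, 8, 6, 11],
  [1, 0, 2, 4, 3, 6, 5, 8, 7, 9, 11, 10],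
  [1, 6, 4, 2, 8, 0, 11, 3, 9, 7, 5, 10],
  [5, 0, 3, 7, 2, 10, 1, 9, 4, 8, 11, 6],
  [5, 10, 7, 3, 9, 0, 11, 2, 8, 4, 1, 6],
  [6, 1, 4, 8, 2, 11, 0, 9, 3, 7, 10, 5],
  [6, 11, 8, 4, 9, 1, 10, 2, 7, 3, 0, 5],
  [10, 5, 7, 9, 3, 11, 0, 8, 2, 4, 6, 1],
  [10, 11, 9, 7, 8, 5, 6, 3, 4, 2, 0, 1],
  [11, 6, 8, 9, 4, 10, 1, 7, 2, 3, 5, 0],
  [11, 10, 9, 8, 7, 6, 5, 4, 3, 2, 1, 0]]
  nxt := [[1, 2],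
  [0, 3],
  [4, 0],
  [5, 1],
  [2, 6],
  [3, 7],
  [8, 4],
  [9, 5],
  [6, 10],
  [7, 11],
  [11, 8],
  [10, 9]]
  dep := [0, 1, 1, 2, 2, 3, 3, 4, 4, 5, 5, 6]
  idIdx := 0
  refls := [[0, 5, 3, 2, 7, 1, 10, 4, 9, 8, 6, 11],
  [1, 0, 2, 4, 3, 6, 5, 8, 7, 9, 11, 10]]

theorem tabOKB_G2 : tabOKB chevG2 weylTab_G2 = true := by decide +kernel

end Cfsg.Agent.Lib.Helper7
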