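import Cfsg.Agent.Lib.Helper7.ChevOrder1
import Cfsg.Agent.Lib.Helper7.ChevHCardTab
import Cfsg.Agent.Lib.Helper7.ChevWeylTabG2

/-! `|G₂(q)|` (helper7). -/

set_option autoImplicit false

namespace Cfsg.Agent.Lib.Helper7

open Cfsg Cfsg.Lie Matrix

theorem histOKB_G2 : histOKB weylTab_G2 7 [1, 2, 2, 2, 2, 2, 1] = true := by decide +kernel

theorem card_diagonal_G2 (F : Type*) [Field F] [Fintype F] :
    Nat.card (chevG2.diagonalSubgroup F) = (Fintype.card F - 1) ^ 2 := by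
  rw [card_diagonal chevG2 (by simp) F hcA_G2 hcR_G2 hcP_G2 hcPi_G2 hcQ_G2 hcQi_G2 hcD_G2
    rootCoefOKB_G2 smithOKB_G2]
  have hr : chevG2.rank = 2 := rfl
  rw [Fin.prod_univ_eq_prod_range (fun k => (Fintype.card F - 1) / (Fintype.card F - 1).gcd (hcD_G2.getD k 0)) chevG2.rank, hr]
  simp [Finset.prod_range_succ, hcD_G2, pow_two]

theorem card_group_G2 (F : Type*) [Field F] [Fintype F] :
    Nat.card ↥(chevG2.group F) = Fintype.card F ^ 6 * (Fintype.card F ^ 2 - 1) * (Fintype.card F ^ 6 - 1) := by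
  rw [card_group_of_tab chevG2 (by simp) F weylTab_G2 tabOKB_G2 7 _ histOKB_G2, card_diagonal_G2]
  have hn : chevG2.nroots / 2 = 6 := rfl
  rw [hn]
  obtain ⟨q, hq⟩ : ∃ q, q = Fintype.card F := ⟨_, rfl⟩
  rw [← hq]
  have h1 : 1 ≤ q := by rw [hq]; exact Fintype.card_pos
  have h2 : 1 ≤ q ^ 2 := Nat.one_le_pow _ _ h1
  have h6 : 1 ≤ q ^ 6 := Nat.one_le_pow _ _ h1
  simp only [Finset.sum_range_succ, Finset.sum_range_zero, List.getD_cons_zero, List.getD_cons_succ]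
  zify [h1, h2, h6]
  ring

end Cfsg.Agent.Lib.Helper7
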