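import Cfsg.Agent.Lib.Helper7.ChevWeylChainFast

/-! The chain check cut into pieces, to bound the memory of each kernel computation (helper7). -/

set_option autoImplicit false

namespace Cfsg.Agent.Lib.Helper7

open Cfsg Cfsg.Lie

/-- the part of `levelOKBg` that does not run over the elements -/
def levelHeadOKB (n : ℕ) (L : ChainLevel) (later : List ChainLevel) : Bool :=
  decide (0 < L.elems.length) && (L.elems.getD 0 [] == List.range n) && (L.dep.getD 0 0 == 0) &&
  decide (L.test < n) && decide ((L.elems.map fun d => d.getD L.test 0).Nodup) &&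
  ((headGens later).all fun i => L.gens.contains i) &&
  (later.all fun L' => L'.elems.all fun d => d.getD L.test 0 == L.test)

/-- the part of `levelOKBg` for the element `e` -/
def levelBodyOKB (cmp : List ℕ → List ℕ → List ℕ) (n : ℕ) (refls : List (List ℕ)) (L : ChainLevel)
    (later : List ChainLevel) (e : ℕ) : Bool :=
    ((L.elems.getD e []).all fun x => decide (x < n)) &&
    (cmp (L.invs.getD e []) (L.elems.getD e []) == List.range n) &&
    (e == 0 || L.gens.any fun i =>
      ((L.act.getD e []).getD i (2, 0)).1 == 0 &&
      L.dep.getD ((L.act.getD e []).getD i (2, 0)).2 0 + 1 == L.dep.getD e 0) &&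
    L.gens.all fun i =>
      (((L.act.getD e []).getD i (2, 0)).1 == 0 &&
        decide (((L.act.getD e []).getD i (2, 0)).2 < L.elems.length) &&
        (L.elems.getD ((L.act.getD e []).getD i (2, 0)).2 [] == cmp (refls.getD i []) (L.elems.getD e [])) &&
        (L.dep.getD ((L.act.getD e []).getD i (2, 0)).2 0 == L.dep.getD e 0 + 1 ||
          L.dep.getD ((L.act.getD e []).getD i (2, 0)).2 0 + 1 == L.dep.getD e 0)) ||
      (((L.act.getD e []).getD i (2, 0)).1 == 1 &&
        (headGens later).contains ((L.act.getD e []).getD i (2, 0)).2 &&
        (cmp (refls.getD i []) (L.elems.getD e []) ==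
          cmp (L.elems.getD e []) (refls.getD ((L.act.getD e []).getD i (2, 0)).2 [])))

theorem levelOKBg_eq (cmp : List ℕ → List ℕ → List ℕ) (n : ℕ) (refls : List (List ℕ)) (L : ChainLevel)
    (later : List ChainLevel) :
    levelOKBg cmp n refls L later = (levelHeadOKB n L later &&
      (List.range L.elems.length).all (levelBodyOKB cmp n refls L later)) := rfl

/-- a check over `List.range n` from checks over chunks `(start, length)` covering it -/
theorem all_range_of_chunks (f : ℕ → Bool) (n : ℕ) (chunks : List (ℕ × ℕ))
    (hcover : (chunks.flatMap fun c => List.range' c.1 c.2) = List.range n)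
    (h : ∀ c ∈ chunks, (List.range' c.1 c.2).all f = true) : (List.range n).all f = true := by
  rw [← hcover, List.all_eq_true]
  intro x hx
  rw [List.mem_flatMap] at hx
  obtain ⟨c, hc, hxc⟩ := hx
  exact List.all_eq_true.mp (h c hc) x hxc

/-- a level from its head and its chunks -/
theorem levelOKBg_of_chunks (cmp : List ℕ → List ℕ → List ℕ) (n : ℕ) (refls : List (List ℕ))
    (L : ChainLevel) (later : List ChainLevel) (chunks : List (ℕ × ℕ))
    (hhead : levelHeadOKB n L later = true)
    (hcover : (chunks.flatMap fun c => List.range' c.1 c.2) = List.range L.elems.length)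
    (h : ∀ c ∈ chunks, (List.range' c.1 c.2).all (levelBodyOKB cmp n refls L later) = true) :
    levelOKBg cmp n refls L later = true := by
  rw [levelOKBg_eq, Bool.and_eq_true]
  exact ⟨hhead, all_range_of_chunks _ _ chunks hcover h⟩

theorem chainOKBg_cons (cmp : List ℕ → List ℕ → List ℕ) (n : ℕ) (refls : List (List ℕ))
    (L : ChainLevel) (Ls : List ChainLevel) (h1 : levelOKBg cmp n refls L Ls = true)
    (h2 : chainOKBg cmp n refls Ls = true) : chainOKBg cmp n refls (L :: Ls) = true := by
  show (levelOKBg cmp n refls L Ls && chainOKBg cmp n refls Ls) = true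
  rw [h1, h2]; rfl

theorem chainOKBg_nil (cmp : List ℕ → List ℕ → List ℕ) (n : ℕ) (refls : List (List ℕ)) :
    chainOKBg cmp n refls [] = true := rfl

/-- the reflections of a chain, one generator at a time -/
theorem refls_eq_of_rows (D : ChevalleyDatum) (refls : List (List ℕ)) (hlen : refls.length = D.rank)
    (h : ∀ i < D.rank, refls.getD i [] = (List.range D.nroots).map (D.reflectRoot i)) :
    refls = (List.range D.rank).map fun i => (List.range D.nroots).map (D.reflectRoot i) := by
  apply List.ext_getElem
  · simp [hlen]
  · intro i h1 h2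
    have hi : i < D.rank := by rw [← hlen]; exact h1
    rw [List.getElem_map, List.getElem_range, ← h i hi, List.getD_eq_getElem _ _ h1]

theorem weylChainOKBF_of_parts (D : ChevalleyDatum) (C : WeylChain)
    (h1 : C.refls = (List.range D.rank).map fun i => (List.range D.nroots).map (D.reflectRoot i))
    (h2 : ((List.range D.rank).all fun i => (headGens C.levels).contains i) = true)
    (h3 : ((headGens C.levels).all fun i => decide (i < D.rank)) = true)
    (h4 : chainOKBg compG D.nroots C.refls C.levels = true) : weylChainOKBF D C = true := by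
  unfold weylChainOKBF
  rw [h2, h3, h4, beq_iff_eq.mpr h1]; rfl

end Cfsg.Agent.Lib.Helper7
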