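import Cfsg.Agent.Lib.Helper7.ChevLin

/-! The coefficient functionals of the tabulated root systems: `coefF D W k r` is a positive multiple of
the coefficient of the root `r` on the `k`-th fundamental root (helper7). -/

set_option autoImplicit false
set_option maxRecDepth 100000

namespace Cfsg.Agent.Lib.Helper7

open Cfsg Cfsg.Lie

def dotL (w col : List ℤ) (n : ℕ) : ℤ := ((List.range n).map fun i => w.getD i 0 * col.getD i 0).sum

/-- table check: the functionals given by the rows of `W` have the signs of the coroot coefficients -/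
def coefOKB (D : ChevalleyDatum) (W : List (List ℤ)) : Bool :=
  (List.range D.nroots).all fun r =>
    let col := (List.range D.rank).map fun i => D.cartan i r
    let cor := D.coroot.getD r #[]
    (List.range D.rank).all fun k => Int.sign (dotL (W.getD k []) col D.rank) == Int.sign (cor.getD k 0)

/-- the `k`-th coefficient functional -/
def coefF (D : ChevalleyDatum) (W : List (List ℤ)) (k : ℕ) : ℕ → ℤ := linF D (W.getD k [])

theorem dotL_eq_linF (D : ChevalleyDatum) (w : List ℤ) (r : ℕ) :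
    dotL w ((List.range D.rank).map fun i => D.cartan i r) D.rank = linF D w r := by
  unfold dotL linF
  congr 1
  apply List.map_congr_left
  intro i hi
  rw [List.mem_range] at hi
  congr 1
  rw [List.getD_eq_getElem?_getD, List.getElem?_map, List.getElem?_range hi]
  rfl

theorem sign_of_coefOKB (D : ChevalleyDatum) (W : List (List ℤ)) (h : coefOKB D W = true) (r : ℕ)
    (hr : r < D.nroots) (k : ℕ) (hk : k < D.rank) :
    Int.sign (coefF D W k r) = Int.sign ((D.coroot.getD r #[]).getD k 0) := by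
  unfold coefOKB at h
  simp only [List.all_eq_true, List.mem_range, beq_iff_eq] at h
  have := h r hr k hk
  rw [dotL_eq_linF] at this
  exact this

def coefW_G2 : List (List ℤ) := [[2, 3], [1, 2]]
def coefW_B2 : List (List ℤ) := [[2, 2], [1, 2]]
def coefW_D4 : List (List ℤ) := [[2, 2, 1, 1], [2, 4, 2, 2], [1, 2, 2, 1], [1, 2, 1, 2]]
def coefW_F4 : List (List ℤ) := [[2, 3, 4, 2], [3, 6, 8, 4], [2, 4, 6, 3], [1, 2, 3, 2]]
def coefW_E6 : List (List ℤ) := [[4, 3, 5, 6, 4, 2], [3, 6, 6, 9, 6, 3], [5, 6, 10, 12, 8, 4],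
  [6, 9, 12, 18, 12, 6], [4, 6, 8, 12, 10, 5], [2, 3, 4, 6, 5, 4]]
def coefW_E7 : List (List ℤ) := [[4, 4, 6, 8, 6, 4, 2], [4, 7, 8, 12, 9, 6, 3], [6, 8, 12, 16, 12, 8, 4],
  [8, 12, 16, 24, 18, 12, 6], [6, 9, 12, 18, 15, 10, 5], [4, 6, 8, 12, 10, 8, 4], [2, 3, 4, 6, 5, 4, 3]]
def coefW_E8 : List (List ℤ) := [[4, 5, 7, 10, 8, 6, 4, 2], [5, 8, 10, 15, 12, 9, 6, 3],
  [7, 10, 14, 20, 16, 12, 8, 4], [10, 15, 20, 30, 24, 18, 12, 6], [8, 12, 16, 24, 20, 15, 10, 5],
  [6, 9, 12, 18, 15, 12, 8, 4], [4, 6, 8, 12, 10, 8, 6, 3], [2, 3, 4, 6, 5, 4, 3, 2]]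

theorem coefOKB_G2 : coefOKB chevG2 coefW_G2 = true := by decide +kernel
theorem coefOKB_B2 : coefOKB chevB2 coefW_B2 = true := by decide +kernel
theorem coefOKB_D4 : coefOKB chevD4 coefW_D4 = true := by decide +kernel
theorem coefOKB_F4 : coefOKB chevF4 coefW_F4 = true := by decide +kernel
theorem coefOKB_E6 : coefOKB chevE6 coefW_E6 = true := by decide +kernel
theorem coefOKB_E7 : coefOKB chevE7 coefW_E7 = true := by decide +kernel
theorem coefOKB_E8 : coefOKB chevE8 coefW_E8 = true := by decide +kernel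

/-- coefficient functionals exist for the seven types -/
theorem exists_coefW (D : ChevalleyDatum)
    (hD : D ∈ [chevG2, chevB2, chevD4, chevF4, chevE6, chevE7, chevE8]) :
    ∃ W : List (List ℤ), coefOKB D W = true :=
  mem_seven_cases (P := fun D => ∃ W : List (List ℤ), coefOKB D W = true)
    ⟨_, coefOKB_G2⟩ ⟨_, coefOKB_B2⟩ ⟨_, coefOKB_D4⟩ ⟨_, coefOKB_F4⟩ ⟨_, coefOKB_E6⟩ ⟨_, coefOKB_E7⟩
    ⟨_, coefOKB_E8⟩ D hD

end Cfsg.Agent.Lib.Helper7
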