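import Cfsg.Agent.Lib.Helper7.ChevLong0

/-! longest-element words: table checks (helper7) -/

set_option autoImplicit false
namespace Cfsg.Agent.Lib.Helper7
open Cfsg Cfsg.Lie

def longWordG2 : List ℕ := [0, 1, 0, 1, 0, 1]

theorem longB_G2 : longB chevG2 longWordG2 = true := by decide +kernel

def longWordB2 : List ℕ := [0, 1, 0, 1]

theorem longB_B2 : longB chevB2 longWordB2 = true := by decide +kernel

def longWordD4 : List ℕ := [0, 1, 0, 2, 1, 0, 3, 1, 0, 2, 1, 3]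

theorem longB_D4 : longB chevD4 longWordD4 = true := by decide +kernel

def longWordF4 : List ℕ := [0, 1, 0, 2, 1, 0, 2, 1, 2, 3, 2, 1, 0, 2, 1, 2, 3, 2, 1, 0, 2, 1, 2, 3]

theorem longB_F4 : longB chevF4 longWordF4 = true := by decide +kernel

def longWordE6 : List ℕ := [0, 1, 2, 0, 3, 1, 2, 0, 3, 2, 4, 3, 1, 2, 0, 3, 2, 4, 3, 1, 5, 4, 3, 1, 2, 0, 3, 2, 4, 3, 1, 5, 4, 3, 2, 0]

theorem longB_E6 : longB chevE6 longWordE6 = true := by decide +kernel

end Cfsg.Agent.Lib.Helper7
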