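import Cfsg.Agent.Lib.Helper7.ChevConjMain
import Cfsg.Agent.Lib.Helper7.ChevWordGL
import Cfsg.Agent.Lib.Helper7.ChevLongTabA
import Cfsg.Agent.Lib.Helper7.ChevLongTabE7
import Cfsg.Agent.Lib.Helper7.ChevLongTabE8

/-! Words in the fundamental reflections `n_p`, their action on root elements, and the longest
element: `n₀ U n₀⁻¹ = V` (helper7). -/

set_option autoImplicit false

namespace Cfsg.Agent.Lib.Helper7

open Cfsg Cfsg.Lie Matrix

section
variable (D : ChevalleyDatum) (hD : D ∈ [chevG2, chevB2, chevD4, chevF4, chevE6, chevE7, chevE8])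
variable (F : Type*) [Field F]
include hD

/-- the element `n_{i₁} ⋯ n_{i_k}` of GL -/
noncomputable def nLongGL (w : List ℕ) : GL D.Idx F :=
  (w.map fun i => wordGL D hD F (D.nWord (D.simple i) 1)).prod

theorem nLongGL_mem_monomial (w : List ℕ) (hw : ∀ i ∈ w, i < D.rank) :
    nLongGL D hD F w ∈ D.monomialSubgroup F := by
  unfold nLongGL
  apply Subgroup.list_prod_mem
  intro g hg
  rw [List.mem_map] at hg
  obtain ⟨i, hi, rfl⟩ := hg
  unfold ChevalleyDatum.monomialSubgroup
  apply Subgroup.mem_sup_right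
  apply Subgroup.subset_closure
  refine ⟨D.simple i, (fundFacts_of_mem D hD i (hw i hi)).hp, ?_⟩
  rw [coe_wordGL]; rfl

theorem actW_lt (w : List ℕ) (hw : ∀ i ∈ w, i < D.rank) (s : ℕ) (hs : s < D.nroots) :
    actW D w s < D.nroots := by
  induction w with
  | nil => exact hs
  | cons i w ih =>
    have hi : i < D.rank := hw i (List.mem_cons_self ..)
    exact (conjFacts_of_mem D hD i hi).wlt _ (ih (fun j hj => hw j (List.mem_cons_of_mem _ hj)))

/-- `n_w x_s(t) = x_{w s}(ε t) n_w` with a sign `ε = ±1` -/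
theorem nLongGL_xGL_comm (w : List ℕ) (hw : ∀ i ∈ w, i < D.rank) (s : ℕ) (hs : s < D.nroots) :
    ∃ ε : F, (ε = 1 ∨ ε = -1) ∧ ∀ t : F,
      nLongGL D hD F w * xGL D hD F s t = xGL D hD F (actW D w s) (ε * t) * nLongGL D hD F w := by
  induction w with
  | nil =>
    refine ⟨1, Or.inl rfl, fun t => ?_⟩
    show (1 : GL D.Idx F) * _ = xGL D hD F s (1 * t) * 1
    rw [one_mul, mul_one, one_mul]
  | cons i w ih =>
    have hi : i < D.rank := hw i (List.mem_cons_self ..)
    have hw' : ∀ j ∈ w, j < D.rank := fun j hj => hw j (List.mem_cons_of_mem _ hj)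
    obtain ⟨ε', hε', ih⟩ := ih hw'
    have hs' := actW_lt D hD w hw' s hs
    have hη := (conjFacts_of_mem D hD i hi).ηpm _ hs'
    refine ⟨((etaFn D i (actW D w s) : ℤ) : F) * ε', ?_, fun t => ?_⟩
    · rcases hη with h | h <;> rcases hε' with h' | h' <;> rw [h, h'] <;> norm_num
    · have hn : nLongGL D hD F (i :: w) = wordGL D hD F (D.nWord (D.simple i) 1) * nLongGL D hD F w := by
        unfold nLongGL; rw [List.map_cons, List.prod_cons]
      have hc : wordGL D hD F (D.nWord (D.simple i) 1) * xGL D hD F (actW D w s) (ε' * t) =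
          xGL D hD F (D.reflectRoot i (actW D w s)) (((etaFn D i (actW D w s) : ℤ) : F) * (ε' * t)) *
            wordGL D hD F (D.nWord (D.simple i) 1) := by
        apply Units.ext
        rw [Units.val_mul, Units.val_mul, coe_wordGL, coe_xGL, coe_xGL]
        exact nx_comm_of_mem D hD i hi F _ hs' _
      rw [hn, mul_assoc, ih t, ← mul_assoc, hc, mul_assoc, mul_assoc]
      rfl

/-- `n₀ U n₀⁻¹ = V` for a word `w` representing the longest element -/
theorem conj_posUnipotent_eq (w : List ℕ) (hL : LongFacts D w) :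
    (D.posUnipotent F).map (MulAut.conj (nLongGL D hD F w)).toMonoidHom = D.negUnipotent F := by
  unfold ChevalleyDatum.posUnipotent ChevalleyDatum.negUnipotent
  rw [MonoidHom.map_closure]
  apply le_antisymm
  · rw [Subgroup.closure_le]
    rintro _ ⟨g, ⟨r, t, hr, hg⟩, rfl⟩
    have hg' : g = xGL D hD F r t := Units.ext (by rw [hg, coe_xGL])
    obtain ⟨ε, _, hcomm⟩ := nLongGL_xGL_comm D hD F w hL.lt r hr.1
    show nLongGL D hD F w * g * (nLongGL D hD F w)⁻¹ ∈ _
    rw [hg', hcomm t, mul_assoc, mul_inv_cancel, mul_one]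
    apply Subgroup.subset_closure
    exact ⟨actW D w r, ε * t, hL.posneg r hr, coe_xGL D hD F _ _⟩
  · rw [Subgroup.closure_le]
    rintro g ⟨s, t, hs, hg⟩
    obtain ⟨r, hr, hrs⟩ := hL.negpos s hs
    obtain ⟨ε, hε, hcomm⟩ := nLongGL_xGL_comm D hD F w hL.lt r hr.1
    have hg' : g = xGL D hD F s t := Units.ext (by rw [hg, coe_xGL])
    apply Subgroup.subset_closure
    refine ⟨xGL D hD F r (ε * t), ⟨r, ε * t, hr, coe_xGL D hD F _ _⟩, ?_⟩
    show nLongGL D hD F w * xGL D hD F r (ε * t) * (nLongGL D hD F w)⁻¹ = g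
    rw [hcomm, mul_assoc, mul_inv_cancel, mul_one, hrs, hg', ← mul_assoc]
    have : ε * ε = 1 := by rcases hε with h | h <;> rw [h] <;> norm_num
    rw [this, one_mul]

theorem exists_longFacts_of_mem : ∃ w : List ℕ, LongFacts D w :=
  mem_seven_cases (P := fun D => ∃ w : List ℕ, LongFacts D w)
    ⟨_, longFacts_of_longB _ _ longB_G2⟩ ⟨_, longFacts_of_longB _ _ longB_B2⟩
    ⟨_, longFacts_of_longB _ _ longB_D4⟩ ⟨_, longFacts_of_longB _ _ longB_F4⟩
    ⟨_, longFacts_of_longB _ _ longB_E6⟩ ⟨_, longFacts_of_longB _ _ longB_E7⟩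
    ⟨_, longFacts_of_longB _ _ longB_E8⟩ D hD

/-- there is `n₀ ∈ N` with `n₀ U n₀⁻¹ = V` -/
theorem exists_longest_conj :
    ∃ n ∈ D.monomialSubgroup F, (D.posUnipotent F).map (MulAut.conj n).toMonoidHom = D.negUnipotent F := by
  obtain ⟨w, hw⟩ := exists_longFacts_of_mem D hD
  exact ⟨nLongGL D hD F w, nLongGL_mem_monomial D hD F w hw.lt, conj_posUnipotent_eq D hD F w hw⟩

end

end Cfsg.Agent.Lib.Helper7
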