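import Cfsg.Agent.Lib.Helper7.ChevSL1

/-! Descent of negative roots to negative fundamental roots inside a root subsystem: table check
(helper7). -/

set_option autoImplicit false

namespace Cfsg.Agent.Lib.Helper7

open Cfsg Cfsg.Lie

/-- every negative root `r` has a fundamental reflection `w_j`, `j` in the support of `r`, such that
`r = -p_j` or `w_j r` has smaller height -/
def parOKB (D : ChevalleyDatum) : Bool :=
  (List.range D.rank).all (fun j => decide (D.IsPosRoot (D.simple j))) &&
  (List.range D.nroots).all fun r =>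
    !decide (D.IsNegRoot r) ||
      (List.range D.rank).any fun j =>
        (D.coroot.getD r #[]).getD j 0 != 0 &&
          (r == D.neg (D.simple j) ||
            decide ((cabsL D (D.reflectRoot j r)).sum < (cabsL D r).sum))

structure ParFacts (D : ChevalleyDatum) : Prop where
  simplePos : ∀ j < D.rank, D.IsPosRoot (D.simple j)
  descent : ∀ r, D.IsNegRoot r → ∃ j < D.rank, (D.coroot.getD r #[]).getD j 0 ≠ 0 ∧
    (r = D.neg (D.simple j) ∨ (cabsL D (D.reflectRoot j r)).sum < (cabsL D r).sum)

theorem parFacts_of_parOKB (D : ChevalleyDatum) (h : parOKB D = true) : ParFacts D := by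
  unfold parOKB at h
  simp only [Bool.and_eq_true, List.all_eq_true, decide_eq_true_eq, List.mem_range, Bool.or_eq_true,
    Bool.not_eq_true', decide_eq_false_iff_not, List.any_eq_true, bne_iff_ne, beq_iff_eq] at h
  obtain ⟨h1, h2⟩ := h
  refine ⟨h1, ?_⟩
  intro r hr
  rcases h2 r hr.1 with h3 | ⟨j, hj, h4, h5⟩
  · exact absurd hr h3
  · exact ⟨j, hj, h4, h5⟩

theorem parOKB_G2 : parOKB chevG2 = true := by decide +kernel
theorem parOKB_B2 : parOKB chevB2 = true := by decide +kernel
theorem parOKB_D4 : parOKB chevD4 = true := by decide +kernel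
theorem parOKB_F4 : parOKB chevF4 = true := by decide +kernel
theorem parOKB_E6 : parOKB chevE6 = true := by decide +kernel
theorem parOKB_E7 : parOKB chevE7 = true := by decide +kernel
theorem parOKB_E8 : parOKB chevE8 = true := by decide +kernel

theorem parFacts_of_mem (D : ChevalleyDatum)
    (hD : D ∈ [chevG2, chevB2, chevD4, chevF4, chevE6, chevE7, chevE8]) : ParFacts D :=
  mem_seven_cases (P := ParFacts)
    (parFacts_of_parOKB _ parOKB_G2) (parFacts_of_parOKB _ parOKB_B2) (parFacts_of_parOKB _ parOKB_D4)
    (parFacts_of_parOKB _ parOKB_F4) (parFacts_of_parOKB _ parOKB_E6) (parFacts_of_parOKB _ parOKB_E7)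
    (parFacts_of_parOKB _ parOKB_E8) D hD

end Cfsg.Agent.Lib.Helper7
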