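import Cfsg.Agent.Lib.Helper7.ChevStCover

/-! The group presented by (R1), (R2) is perfect, for the seven types (helper7). -/

set_option autoImplicit false

namespace Cfsg.Agent.Lib.Helper7

open Cfsg Cfsg.Lie

theorem stDeadAllB_G2 : stDeadAllB chevG2
    [(0, 0, 6), (0, 0, 10), (0, 1, 5), (0, 1, 11), (0, 5, 11), (0, 6, 10), (1, 0, 8), (1, 0, 9), (1, 1, 9), (1, 5, 8)]
      = true := by decide +kernel

theorem stDeadAllB_B2 : stDeadAllB chevB2 [(1, 0, 5), (1, 0, 6), (1, 3, 2), (1, 3, 6), (1, 4, 5)] = true := by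
  decide +kernel

/-- the group presented by (R1), (R2) is perfect -/
theorem stCover_perfect (D : ChevalleyDatum) (hD : D ∈ [chevG2, chevB2, chevD4, chevF4, chevE6, chevE7, chevE8])
    (K : Type*) [Field K] (hK : D ∈ [chevB2, chevG2] → ∃ x : K, x ≠ 0 ∧ x ≠ 1) :
    commutator (D.SteinbergCover K) = ⊤ := by
  apply stCover_perfect_of_dead
  have hD' := hD
  simp only [List.mem_cons, List.not_mem_nil, or_false] at hD'
  rcases hD' with rfl | rfl | rfl | rfl | rfl | rfl | rfl
  · exact dead_all_of_stDeadAllB _ K (hK (by simp)) _ stDeadAllB_G2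
  · exact dead_all_of_stDeadAllB _ K (hK (by simp)) _ stDeadAllB_B2
  · exact dead_all_of_perf1B _ K _ perf1B_D4
  · exact dead_all_of_perf1B _ K _ perf1B_F4
  · exact dead_all_of_perf1B _ K _ perf1B_E6
  · exact dead_all_of_perf1B _ K _ perf1B_E7
  · exact dead_all_of_perf1B _ K _ perf1B_E8

end Cfsg.Agent.Lib.Helper7
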