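import Mathlib

/-!
S5801 conjunct (8), market C4U, leaf **RHO** `exists_rho`: for `q ≥ 4` a field with `q ^ 2` elements has an element
`ρ ≠ 0` with `ρ ^ q = ρ` and `ρ ^ 2 ≠ 1` (`ρ := g ^ (q + 1)` for a generator `g` of the unit group).
-/

set_option autoImplicit false
set_option linter.unusedSectionVars false
set_option linter.unusedVariables false

namespace Cfsg.Agent.Lib.Helper7.C4URho

variable {F : Type*} [Field F] [Fintype F] {q : ℕ}

/-- **RHO** -/
theorem exists_rho (hF : Fintype.card F = q ^ 2) (hq : 4 ≤ q) :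
    ∃ ρ : F, ρ ≠ 0 ∧ ρ ^ q = ρ ∧ ρ ^ 2 ≠ 1 := by
  classical
  obtain ⟨g, hg⟩ := IsCyclic.exists_generator (α := Fˣ)
  have hord : orderOf g = q ^ 2 - 1 := by
    rw [orderOf_eq_card_of_forall_mem_zpowers hg, Nat.card_eq_fintype_card, Fintype.card_units, hF]
  have hgq : ((g : F)) ^ (q ^ 2) = (g : F) := by
    rw [← hF]
    exact FiniteField.pow_card _
  refine ⟨((g : F)) ^ (q + 1), pow_ne_zero _ g.ne_zero, ?_, ?_⟩
  · rw [← pow_mul]
    have : (q + 1) * q = q ^ 2 + q := by ring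
    rw [this, pow_add, hgq, pow_succ']
  · intro h
    rw [← pow_mul] at h
    have h1 : g ^ ((q + 1) * 2) = 1 := by
      apply Units.ext
      rw [Units.val_pow_eq_pow_val, h, Units.val_one]
    have hdvd := orderOf_dvd_of_pow_eq_one h1
    rw [hord] at hdvd
    have hfac : q ^ 2 - 1 = (q + 1) * (q - 1) := by
      obtain ⟨k, rfl⟩ : ∃ k, q = k + 1 := ⟨q - 1, by omega⟩
      simp only [Nat.add_sub_cancel]
      have : (k + 1) ^ 2 = (k + 1 + 1) * k + 1 := by ring
      rw [this, Nat.add_sub_cancel]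
    rw [hfac] at hdvd
    have h2 : q - 1 ∣ 2 := (Nat.mul_dvd_mul_iff_left (by omega : 0 < q + 1)).1 hdvd
    have := Nat.le_of_dvd (by norm_num) h2
    omega

end Cfsg.Agent.Lib.Helper7.C4URho
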