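import Mathlib
import Cfsg.Agent.Lib.Helper2.SOTDefs
import Cfsg.Agent.Lib.Helper13.SOTGDefs
import Cfsg.Agent.Lib.Helper1.McLGSp

/-!
helper7 for helper13's S5666 part (G) market (`notes/S5666_G_leaves.lean`): the leaf
F1 `SpJ_le_of_all` (all transvections in `M` gives `SpJ J ≤ M`), exact signature, through helper1's
`mem_closure_sympTransvections'`.
-/

set_option autoImplicit false
set_option linter.unusedSectionVars false
set_option linter.unusedVariables false

namespace Cfsg.Agent.Lib.Helper7.SOTGLeaf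
open Matrix
open Cfsg.Agent.Lib.Helper25.Tens Cfsg.Agent.Lib.Helper25.SpT Cfsg.Agent.Lib.Helper19.OSub
open Cfsg.Agent.Lib.Helper2.SOT Cfsg.Agent.Lib.Helper13.SOTG
open scoped Kronecker

section general
variable {ι : Type} [Fintype ι] [DecidableEq ι] {F : Type*} [Field F] {J : Matrix ι ι F}
  {M : Subgroup (GL ι F)}

/-- the linear equivalence of an element of `GL ι F` -/
def glLin (g : GL ι F) : (ι → F) ≃ₗ[F] (ι → F) where
  toFun := mv g
  invFun := mv g⁻¹
  map_add' := mv_add g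
  map_smul' := fun c x => mv_smul g c x
  left_inv := mv_inv_mv g
  right_inv := mv_mv_inv g

lemma glLin_apply (g : GL ι F) (x : ι → F) : glLin g x = mv g x := rfl

/-- (F1) -/
theorem SpJ_le_of_all (h : AltCtx J) (hall : ∀ u : ι → F, u ∈ SsetJ J M) : SpJ J ≤ M := by
  intro g hg
  have hB : ∀ v w : ι → F, Matrix.toBilin' J v w = fJ J v w := fun v w =>
    Matrix.toBilin'_apply' J v w
  have hmem := Cfsg.Agent.Lib.Helper1.McLLeaf.mem_closure_sympTransvections'
    (Matrix.toBilin' J) (fun v => by rw [hB]; exact h.alt v)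
    (fun x hx => by
      by_contra hx0
      obtain ⟨w, hw⟩ := h.nd x hx0
      exact hw (by rw [← hB]; exact hx w))
    (glLin g) (fun x y => by
      rw [hB, hB, glLin_apply, glLin_apply]
      exact (mem_SpJ.1 hg) x y)
  have key : ∀ f : (ι → F) ≃ₗ[F] (ι → F),
      f ∈ Subgroup.closure {t : (ι → F) ≃ₗ[F] (ι → F) |
        ∃ (c : F) (v : ι → F), ∀ x, t x = x + (c * Matrix.toBilin' J x v) • v} →
      ∃ g' ∈ M, ∀ x, f x = mv g' x := by
    intro f hf
    induction hf using Subgroup.closure_induction with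
    | mem t ht =>
      obtain ⟨c, v, htv⟩ := ht
      obtain ⟨g', hg', hg'v⟩ := mv_of_inM_tvJ (hall v c)
      refine ⟨g', hg', fun x => ?_⟩
      rw [htv, hg'v, hB]
    | one => exact ⟨1, M.one_mem, fun x => by rw [mv_one]; rfl⟩
    | mul f₁ f₂ _ _ ih₁ ih₂ =>
      obtain ⟨g₁, hg₁, h₁⟩ := ih₁
      obtain ⟨g₂, hg₂, h₂⟩ := ih₂
      refine ⟨g₁ * g₂, M.mul_mem hg₁ hg₂, fun x => ?_⟩
      rw [mv_mul, ← h₂, ← h₁]
      rfl
    | inv f₁ _ ih =>
      obtain ⟨g₁, hg₁, h₁⟩ := ih
      refine ⟨g₁⁻¹, M.inv_mem hg₁, fun x => ?_⟩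
      apply f₁.injective
      rw [h₁ (mv g₁⁻¹ x), mv_mv_inv]
      exact f₁.apply_symm_apply x
  obtain ⟨g', hg', hgg'⟩ := key _ hmem
  have : g = g' := gl_ext (fun x => by rw [← hgg' x, glLin_apply])
  rw [this]
  exact hg'

end general

end Cfsg.Agent.Lib.Helper7.SOTGLeaf
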