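/-
helper7: DEFECT-ONE CLUSTER, READ-OFF of S4441 (principal block, Sylow of order `p`) from the structure
theorem DO-FULL `struct_full_of` (planner helper27, notes/S4442_O_leaves.lean), in `_of` form:
`s4441_of` takes the conclusion of `struct_full_of` at `B := principalBlock M G`, `θ := triv P` (the trivial
character of `C_G(P)`), `T := N_G(P)` and returns the conclusion of S4441.

The small facts needed to call `struct_full_of`:
* `pTriv_triv`, `isInertia_triv`, `charDegree_triv`, `thetaSum_triv`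
* `isPBlock_principal`, `blockDefect_principal_pos`
* `isInducedBlock_triv` (lead's third main theorem for centralizers)
* `exists_gen`
-/
import Mathlib
import Cfsg.Agent.Lib.Helper27.DODefs
import Cfsg.Agent.Lib.Lead.SecondMain8

set_option autoImplicit false

namespace Cfsg.Agent.Lib.Helper7.DOS4441

open Cfsg Cfsg.Agent.Lib.Helper8.DOM Cfsg.Agent.Lib.Helper27.DO
open scoped ComplexConjugate

universe u

variable {G : Type u} [Group G]

/-- the trivial character of `C_G(P)` -/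
noncomputable def triv (P : Subgroup G) : IrrCharacter (Cz P) := Cfsg.Agent.CharLib.trivIrr (Cz P)

theorem triv_apply (P : Subgroup G) (c : Cz P) : (triv P : Cz P → ℂ) c = 1 := rfl

theorem pTriv_triv (P : Subgroup G) : PTriv P (triv P : Cz P → ℂ) := fun _ _ => rfl

theorem isInertia_triv (P : Subgroup G) : IsInertia P (triv P : Cz P → ℂ) (Nz P) := by
  intro g
  constructor
  · intro hg
    exact ⟨hg, fun _ _ _ => rfl⟩
  · intro h
    exact h.1

theorem charDegree_triv (P : Subgroup G) : charDegree (triv P : Cz P → ℂ) = 1 := by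
  apply Cfsg.Agent.CharLib.charDegree_eq_of_apply_one
  rw [triv_apply]
  simp

theorem thetaSum_triv [Finite G] (P : Subgroup G) (y : G) (hy : y ∈ Cz P) :
    thetaSum P (triv P : Cz P → ℂ) (Nz P) y = 1 := by
  classical
  have : Fintype (Nz P) := Fintype.ofFinite _
  unfold thetaSum
  have h1 : ∀ n : Nz P,
      extendByZero (Cz P) (triv P : Cz P → ℂ) ((n : G) * y * (n : G)⁻¹) = 1 := by
    intro n
    have hmem := conj_mem_Cz P n.2 hy
    unfold extendByZero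
    exact Function.Injective.extend_apply Subtype.val_injective (triv P : Cz P → ℂ) 0 ⟨_, hmem⟩
  simp only [h1]
  rw [finsum_eq_sum_of_fintype, Finset.sum_const, Finset.card_univ, ← Nat.card_eq_fintype_card,
    nsmul_eq_mul, mul_one]
  have hne : (Nat.card (Nz P) : ℂ) ≠ 0 := Nat.cast_ne_zero.mpr Nat.card_pos.ne'
  exact inv_mul_cancel₀ hne

theorem isPBlock_principal (M : Ideal AlgInt) : IsPBlock M (principalBlock M G) :=
  ⟨Cfsg.Agent.CharLib.trivIrr G, rfl⟩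

theorem trivIrr_mem_principal {p : ℕ} (M : Ideal AlgInt) (hM : IsPModular p M) :
    Cfsg.Agent.CharLib.trivIrr G ∈ principalBlock M G := by
  intro g
  have h0 : centralChar (fun _ : G => (1 : ℂ)) g -
      centralChar ((Cfsg.Agent.CharLib.trivIrr G : IrrCharacter G) : G → ℂ) g = 0 := sub_self _
  rw [h0]
  exact Cfsg.Agent.Lib.Helper24.memLocalIdeal_zero (Cfsg.Agent.Lib.Helper24.one_not_mem_of_isPModular hM)

theorem blockDefect_principal_pos [Finite G] {p : ℕ} [hp : Fact p.Prime] (M : Ideal AlgInt)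
    (hM : IsPModular p M) (hdvd : p ∣ Nat.card G) : 0 < blockDefect p (principalBlock M G) := by
  unfold blockDefect
  have h0 : sInf ((fun χ : IrrCharacter G => (charDegree (χ : G → ℂ)).factorization p) ''
      principalBlock M G) = 0 := by
    apply Nat.sInf_eq_zero.mpr
    left
    refine ⟨Cfsg.Agent.CharLib.trivIrr G, trivIrr_mem_principal M hM, ?_⟩
    have h1 : charDegree ((Cfsg.Agent.CharLib.trivIrr G : IrrCharacter G) : G → ℂ) = 1 := by
      apply Cfsg.Agent.CharLib.charDegree_eq_of_apply_one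
      show (1 : ℂ) = ((1 : ℕ) : ℂ)
      simp
    show (charDegree ((Cfsg.Agent.CharLib.trivIrr G : IrrCharacter G) : G → ℂ)).factorization p = 0
    rw [h1]
    simp
  rw [h0, Nat.sub_zero]
  exact Nat.Prime.factorization_pos_of_dvd hp.out Nat.card_pos.ne' hdvd

/-- a subgroup of prime order is generated by an element -/
theorem exists_gen [Finite G] {p : ℕ} [hp : Fact p.Prime] (P : Subgroup G) (hP : Nat.card P = p) :
    ∃ x0 : G, P = Subgroup.zpowers x0 := by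
  have hnt : Nontrivial P := by
    rw [← Finite.one_lt_card_iff_nontrivial, hP]
    exact hp.out.one_lt
  obtain ⟨x, hx⟩ := exists_ne (1 : P)
  refine ⟨(x : G), ?_⟩
  have hle : Subgroup.zpowers (x : G) ≤ P := by
    rw [Subgroup.zpowers_le]
    exact x.2
  have hord : orderOf (x : G) = p := by
    have hdvd : orderOf x ∣ p := by
      rw [← hP]
      exact orderOf_dvd_natCard x
    rcases (Nat.dvd_prime hp.out).mp hdvd with h | h
    · exact absurd (orderOf_eq_one_iff.mp h) hx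
    · rw [← h]
      exact (Subgroup.orderOf_coe x)
  symm
  apply Subgroup.eq_of_le_of_card_ge hle
  rw [Nat.card_zpowers, hord, hP]

theorem Cz_eq_centralizer_singleton (P : Subgroup G) (x0 : G) (hx0 : P = Subgroup.zpowers x0) :
    Cz P = Subgroup.centralizer ({x0} : Set G) := by
  ext g
  rw [Subgroup.mem_centralizer_iff, Subgroup.mem_centralizer_iff]
  constructor
  · intro h w hw
    rw [Set.mem_singleton_iff] at hw
    apply h
    rw [hw, hx0]
    exact Subgroup.mem_zpowers x0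
  · intro h w hw
    rw [hx0] at hw
    obtain ⟨i, rfl⟩ := hw
    have h1 : Commute x0 g := h x0 rfl
    exact (h1.zpow_left i).eq

/-- the trivial block of `C_G(P)` induces the principal block (third main theorem, lead) -/
theorem isInducedBlock_triv [Finite G] {p : ℕ} [hp : Fact p.Prime] (M : Ideal AlgInt)
    (hM : IsPModular p M) (P : Subgroup G) (hP : Nat.card P = p) (x0 : G)
    (hx0 : P = Subgroup.zpowers x0) :
    IsInducedBlock M (Cz P) (blockOf M (triv P : Cz P → ℂ)) (principalBlock M G) := by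
  have hC := Cz_eq_centralizer_singleton P x0 hx0
  have hz : ∃ k : ℕ, orderOf x0 = p ^ k := by
    refine ⟨1, ?_⟩
    rw [pow_one, ← Nat.card_zpowers, ← hx0, hP]
  exact (Cfsg.Agent.CharLib.isInducedBlock_principal_centralizer_iff hM x0 hz (Cz P) hC
    (triv P)).mpr rfl

/-- READ-OFF: S4441 from the conclusion of DO-FULL at the principal block. -/
theorem s4441_of [Finite G] (p : ℕ) [hp : Fact p.Prime] (M : Ideal AlgInt) (P : Subgroup G) (e : ℕ)
    (he : (Cz P).relIndex (Nz P) = e)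
    (hfull : (Cz P).relIndex (Nz P) ∣ p - 1 ∧
      Nat.card (principalBlock M G) = (Cz P).relIndex (Nz P) + (p - 1) / (Cz P).relIndex (Nz P) ∧
      ∃ (X Y : Set (IrrCharacter G)) (εX : IrrCharacter G → ℤ) (ε : ℤ),
        principalBlock M G = X ∪ Y ∧ Disjoint X Y ∧ Nat.card X = (Cz P).relIndex (Nz P) ∧
        Nat.card Y = (p - 1) / (Cz P).relIndex (Nz P) ∧
        (∀ χ ∈ X, εX χ = 1 ∨ εX χ = -1) ∧ (ε = 1 ∨ ε = -1) ∧
        (∀ ψ ∈ Y, ∀ ψ' ∈ Y, ∀ g : G, ¬ p ∣ orderOf g → (ψ : G → ℂ) g = (ψ' : G → ℂ) g) ∧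
        (∀ ψ ∈ Y, ∀ g : G, ¬ p ∣ orderOf g →
          (ε : ℂ) * (ψ : G → ℂ) g = ∑ᶠ χ ∈ X, (εX χ : ℂ) * (χ : G → ℂ) g) ∧
        (∀ χ ∈ X, (charDegree (χ : G → ℂ) : ℤ) ≡
          εX χ * (((Cz P).relIndex (Nz P) / (Cz P).relIndex (Nz P) *
            charDegree (triv P : Cz P → ℂ) : ℕ) : ℤ) [ZMOD p]) ∧
        (∀ ψ ∈ Y, (charDegree (ψ : G → ℂ) : ℤ) ≡
          ε * (((Cz P).relIndex (Nz P) * charDegree (triv P : Cz P → ℂ) : ℕ) : ℤ) [ZMOD p]) ∧
        (∀ χ ∈ X, ∀ x ∈ P, x ≠ 1 → ∀ y ∈ Cz P, ¬ p ∣ orderOf y →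
          (χ : G → ℂ) (x * y) = (εX χ : ℂ) * thetaSum P (triv P : Cz P → ℂ) (Nz P) y) ∧
        (∀ ψ ∈ Y, ∀ k : ℕ, ¬ p ∣ k → ∃ ψ' ∈ Y, ∀ x ∈ P, x ≠ 1 → ∀ y ∈ Cz P, ¬ p ∣ orderOf y →
          (ψ' : G → ℂ) (x * y) = (ψ : G → ℂ) (x ^ k * y)) ∧
        (∀ ψ ∈ Y, ∀ ψ' ∈ Y, ∃ k : ℕ, ¬ p ∣ k ∧ ∀ x ∈ P, x ≠ 1 → ∀ y ∈ Cz P, ¬ p ∣ orderOf y →
          (ψ' : G → ℂ) (x * y) = (ψ : G → ℂ) (x ^ k * y))) :
    ∃ X Y : Set (IrrCharacter G), principalBlock M G = X ∪ Y ∧ Disjoint X Y ∧ Nat.card X = e ∧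
      Nat.card Y = (p - 1) / e ∧ ∃ (εX : IrrCharacter G → ℤ) (ε : ℤ),
      (∀ χ ∈ X, (εX χ = 1 ∨ εX χ = -1) ∧ (charDegree (χ : G → ℂ) : ℤ) ≡ εX χ [ZMOD p] ∧
        ∀ x : G, x ∈ P → x ≠ 1 → ∀ y : G, y ∈ Subgroup.centralizer (P : Set G) →
          ¬ p ∣ orderOf y → (χ : G → ℂ) (x * y) = (εX χ : ℂ)) ∧
      (ε = 1 ∨ ε = -1) ∧
      (∀ θ ∈ Y, (charDegree (θ : G → ℂ) : ℤ) ≡ ε * (e : ℤ) [ZMOD p]) ∧
      (∀ θ ∈ Y, ∀ θ' ∈ Y, ∀ g : G, ¬ p ∣ orderOf g → (θ : G → ℂ) g = (θ' : G → ℂ) g) ∧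
      ∀ θ ∈ Y, ∀ g : G, ¬ p ∣ orderOf g →
        (ε : ℂ) * (θ : G → ℂ) g = ∑ᶠ χ ∈ X, (εX χ : ℂ) * (χ : G → ℂ) g := by
  rw [he] at hfull
  obtain ⟨hdiv, -, X, Y, εX, ε, hB, hdisj, hX, hY, hεX, hε, hYagree, hYrel, hdegX, hdegY, hvalX,
    -, -⟩ := hfull
  have hp1 : 0 < p - 1 := Nat.sub_pos_of_lt hp.out.one_lt
  have hepos : 0 < e := Nat.pos_of_dvd_of_pos hdiv hp1
  refine ⟨X, Y, hB, hdisj, hX, hY, εX, ε, ?_, hε, ?_, hYagree, hYrel⟩
  · intro χ hχ
    refine ⟨hεX χ hχ, ?_, ?_⟩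
    · have h := hdegX χ hχ
      rw [Nat.div_self hepos, charDegree_triv, mul_one] at h
      simpa using h
    · intro x hx hx1 y hy hyreg
      rw [hvalX χ hχ x hx hx1 y hy hyreg, thetaSum_triv P y hy, mul_one]
  · intro θ hθ
    have h := hdegY θ hθ
    rw [charDegree_triv, mul_one] at h
    exact h

end Cfsg.Agent.Lib.Helper7.DOS4441
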