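/-
helper7: S4700 + S0996 wrapper market "BRW" (planner helper27), leaf BRW-TYPEB `apply_eq_degree_of_typeB`:
a character of degree `p - 1` which is `-1` on the `p`-singular elements of `C = C_G(P)` is `= χ(1)` on the `p`-regular elements of `C`.

Proof.  `C` has `|C|/p` `p`-regular elements (`LamData`: `∑_u lam u` is `p` on them and `0` elsewhere, and `∑_c lam u c = |C| [u = 0]`).
`∑_{c ∈ C} χ(c) = |C| N₀`, `N₀ ∈ ℕ`; the singular part is `-(p-1)|C|/p`, the regular part has real part `≤ (p-1)|C|/p`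
(`|χ(c)| ≤ χ(1)`), so equality holds termwise.
-/
import Mathlib
import Cfsg.Prelude.Def_BlockRank
import Cfsg.Agent.Lib.Helper6.BRHDefs
import Cfsg.Agent.Lib.Helper6.Knoerr
import Cfsg.Agent.Lib.Helper6.DefectOrder
import Cfsg.Agent.Lib.Helper14.BREEASYX
import Cfsg.Agent.Lib.Helper29.BRHLAM
import Cfsg.Agent.Lib.Helper29.DOTI
import Cfsg.Agent.Lib.Lead.SecondMain

set_option autoImplicit false

namespace Cfsg.Agent.Lib.Helper7.BRWTYPEB

open Cfsg Cfsg.Agent.Lib.Helper8.DOM Cfsg.Agent.Lib.Helper27.DO Cfsg.Agent.CharLib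
open Cfsg.Agent.Lib.Helper6.BRH
open scoped ComplexConjugate

universe u

variable {G : Type u} [Group G] [Finite G] {p : ℕ} [Fact p.Prime]

/-- a `p`-singular element of `C_G(P)` is `x y` with `1 ≠ x ∈ P` and `y ∈ C_G(P)` `p`-regular -/
theorem sing_decomp (P : Subgroup G) (hP : Nat.card P = p) (hSyl : ¬ p ∣ P.index) (c : G)
    (hc : c ∈ Cz P) (hs : p ∣ orderOf c) :
    ∃ x ∈ P, x ≠ 1 ∧ ∃ y ∈ Cz P, ¬ p ∣ orderOf y ∧ c = x * y := by
  have hpp : p.Prime := Fact.out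
  obtain ⟨cc, s, x, -, ⟨y, hmul, hcomm, ⟨k, hk⟩, hreg⟩, ⟨i, hxi⟩⟩ := exists_ppart_data p c
  have hx1 : x ≠ 1 := by
    rintro rfl
    rw [one_mul] at hmul
    rw [hmul] at hreg
    exact hreg hs
  have hxC : x ∈ Cz P := by
    rw [hxi]
    exact (Cz P).pow_mem ((Cz P).pow_mem hc cc) i
  have hk1 : k ≤ 1 := by
    by_contra hk2
    rw [not_le] at hk2
    have h1 : p ^ 2 ∣ p ^ k := pow_dvd_pow p hk2
    have h2 : p ^ k ∣ Nat.card G := by
      rw [← hk]
      exact orderOf_dvd_natCard x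
    have h3 : p ^ 2 ∣ p * P.index := by
      have := dvd_trans h1 h2
      rwa [← Subgroup.card_mul_index P, hP] at this
    rw [pow_two] at h3
    exact hSyl (Nat.dvd_of_mul_dvd_mul_left hpp.pos h3)
  have hxp : x ^ p = 1 := by
    apply orderOf_dvd_iff_pow_eq_one.mp
    rw [hk]
    calc p ^ k ∣ p ^ 1 := pow_dvd_pow p hk1
      _ = p := pow_one p
  have hxP : x ∈ P := Cfsg.Agent.Lib.Helper29.DOTI.mem_of_mem_Cz P hP hSyl hxC hxp
  have hy : y = x⁻¹ * c := by
    rw [← hmul, inv_mul_cancel_left]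
  refine ⟨x, hxP, hx1, y, ?_, hreg, hmul.symm⟩
  rw [hy]
  exact (Cz P).mul_mem ((Cz P).inv_mem hxC) hc

/-- `p` times the number of `p`-regular elements of `C_G(P)` is `|C_G(P)|` -/
theorem card_reg (P : Subgroup G) [Fintype (Cz P)] (lam : ZMod p → IrrCharacter (Cz P))
    (hlam : LamData p P lam) [DecidablePred fun c : Cz P => ¬ p ∣ orderOf c] :
    p * (Finset.univ.filter fun c : Cz P => ¬ p ∣ orderOf c).card = Nat.card (Cz P) := by
  classical
  have hpp : p.Prime := Fact.out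
  haveI : NeZero p := ⟨hpp.ne_zero⟩
  have hcard : (Nat.card (Cz P) : ℂ) ≠ 0 := by exact_mod_cast Nat.card_pos.ne'
  -- `∑_c lam u c = |C| [u = 0]`
  have h1 : ∀ u : ZMod p, ∑ c : Cz P, (lam u : Cz P → ℂ) c =
      if u = 0 then (Nat.card (Cz P) : ℂ) else 0 := by
    intro u
    have h := classInner_irr' (lam u) (lam 0)
    unfold classInner at h
    have h2 : ∑ c : Cz P, (lam u : Cz P → ℂ) c * conj ((lam 0 : Cz P → ℂ) c) =
        ∑ c : Cz P, (lam u : Cz P → ℂ) c := by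
      apply Finset.sum_congr rfl
      intro c _
      rw [hlam.zero c, map_one, mul_one]
    rw [h2] at h
    by_cases hu : u = 0
    · rw [if_pos hu]
      rw [if_pos (by rw [hu])] at h
      field_simp at h
      exact h
    · rw [if_neg hu]
      rw [if_neg (fun h' => hu (hlam.inj h'))] at h
      rcases mul_eq_zero.mp h with h3 | h3
      · exact absurd (inv_eq_zero.mp h3) hcard
      · exact h3
  -- double sum
  have h3 : ∑ c : Cz P, ∑ u : ZMod p, (lam u : Cz P → ℂ) c = (Nat.card (Cz P) : ℂ) := by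
    rw [Finset.sum_comm, Finset.sum_congr rfl (fun u _ => h1 u), Finset.sum_ite_eq']
    simp
  have h4 : ∀ c : Cz P, ∑ u : ZMod p, (lam u : Cz P → ℂ) c =
      if ¬ p ∣ orderOf c then (p : ℂ) else 0 := by
    intro c
    by_cases hc : p ∣ orderOf c
    · rw [if_neg (not_not.mpr hc)]
      have := hlam.sing c hc
      rwa [finsum_eq_sum_of_fintype] at this
    · rw [if_pos hc, Finset.sum_congr rfl (fun u _ => hlam.reg u c hc), Finset.sum_const,
        Finset.card_univ, ZMod.card]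
      simp
  rw [Finset.sum_congr rfl (fun c _ => h4 c), ← Finset.sum_filter, Finset.sum_const,
    nsmul_eq_mul] at h3
  have h5 : ((p * (Finset.univ.filter fun c : Cz P => ¬ p ∣ orderOf c).card : ℕ) : ℂ) =
      ((Nat.card (Cz P) : ℕ) : ℂ) := by
    push_cast
    rw [mul_comm]
    exact h3
  exact_mod_cast h5

/-- TYPEB : a character of degree `p-1` which is `-1` on the `p`-singular elements of `C_G(P)` has the `p`-regular elements of `C_G(P)` in its kernel. -/
theorem apply_eq_degree_of_typeB (P : Subgroup G) (hP : Nat.card P = p) (hSyl : ¬ p ∣ P.index)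
    (χ : IrrCharacter G) (hdeg : charDegree (χ : G → ℂ) = p - 1)
    (hval : ∀ x ∈ P, x ≠ 1 → ∀ y ∈ Cz P, ¬ p ∣ orderOf y → (χ : G → ℂ) (x * y) = -1) :
    ∀ y ∈ Cz P, ¬ p ∣ orderOf y → (χ : G → ℂ) y = (χ : G → ℂ) 1 := by
  classical
  have hpp : p.Prime := Fact.out
  letI : Fintype G := Fintype.ofFinite G
  letI : Fintype (Cz P) := Fintype.ofFinite (Cz P)
  obtain ⟨M, hM⟩ := Cfsg.Agent.Lib.Helper6.exists_isPModular p
  obtain ⟨lam, hlam⟩ := Cfsg.Agent.Lib.Helper29.BRHLAM.exists_lam hM P hP hSyl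
  have hcount := card_reg P lam hlam
  set R : Finset (Cz P) := Finset.univ.filter fun c : Cz P => ¬ p ∣ orderOf c with hR
  -- the degree
  have hone : (χ : G → ℂ) 1 = ((p - 1 : ℕ) : ℂ) := by rw [apply_one_eq, hdeg]
  -- values on the singular elements
  have hsing : ∀ c : Cz P, p ∣ orderOf c → (χ : G → ℂ) (c : G) = -1 := by
    intro c hc
    rw [← Subgroup.orderOf_coe] at hc
    obtain ⟨x, hx, hx1, y, hy, hyreg, hcxy⟩ := sing_decomp P hP hSyl (c : G) c.2 hc
    rw [hcxy]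
    exact hval x hx hx1 y hy hyreg
  -- the norm bound
  have hnorm : ∀ g : G, ‖(χ : G → ℂ) g‖ ≤ ((p - 1 : ℕ) : ℝ) := by
    intro g
    have := Cfsg.Agent.Lib.Helper14.BREEASYX.norm_apply_le χ g
    rwa [hdeg] at this
  have hre : ∀ g : G, ((χ : G → ℂ) g).re ≤ ((p - 1 : ℕ) : ℝ) :=
    fun g => le_trans (Complex.re_le_norm _) (hnorm g)
  -- the sum over `C`
  obtain ⟨N0, hN0⟩ := Cfsg.Agent.Lib.Helper6.exists_sum_subgroup_eq (χ : G → ℂ)
    (IsIrrCharacter.isCharacter χ.2) (Cz P)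
  have hsplit : ∑ c : Cz P, (χ : G → ℂ) (c : G) =
      ∑ c ∈ R, (χ : G → ℂ) (c : G) - ((Finset.univ.filter fun c : Cz P => ¬ ¬ p ∣ orderOf c).card : ℂ) := by
    rw [← Finset.sum_filter_add_sum_filter_not Finset.univ (fun c : Cz P => ¬ p ∣ orderOf c)]
    have : ∑ c ∈ Finset.univ.filter (fun c : Cz P => ¬ ¬ p ∣ orderOf c), (χ : G → ℂ) (c : G) =
        -((Finset.univ.filter fun c : Cz P => ¬ ¬ p ∣ orderOf c).card : ℂ) := by
      rw [Finset.sum_congr rfl (fun c hc => hsing c (not_not.mp (Finset.mem_filter.mp hc).2)),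
        Finset.sum_const, nsmul_eq_mul, mul_neg, mul_one]
    rw [this, ← sub_eq_add_neg]
  have hcards : R.card + (Finset.univ.filter fun c : Cz P => ¬ ¬ p ∣ orderOf c).card =
      Nat.card (Cz P) := by
    rw [hR, Finset.card_filter_add_card_filter_not, Finset.card_univ, Nat.card_eq_fintype_card]
  -- real parts
  have hsumre : ∑ c ∈ R, ((χ : G → ℂ) (c : G)).re =
      (Nat.card (Cz P) : ℝ) * (N0 : ℝ) +
        ((Finset.univ.filter fun c : Cz P => ¬ ¬ p ∣ orderOf c).card : ℝ) := by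
    have h1 : ∑ c ∈ R, (χ : G → ℂ) (c : G) = (Nat.card (Cz P) : ℂ) * (N0 : ℂ) +
        ((Finset.univ.filter fun c : Cz P => ¬ ¬ p ∣ orderOf c).card : ℂ) := by
      rw [← hN0, hsplit]
      ring
    have h2 := congrArg Complex.re h1
    rw [Complex.re_sum] at h2
    rw [h2]
    simp
  have hsingcard : ((Finset.univ.filter fun c : Cz P => ¬ ¬ p ∣ orderOf c).card : ℝ) =
      ((p - 1 : ℕ) : ℝ) * (R.card : ℝ) := by
    have h1 : (Finset.univ.filter fun c : Cz P => ¬ ¬ p ∣ orderOf c).card = (p - 1) * R.card := by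
      have h2 : p * R.card = R.card + (p - 1) * R.card := by
        have : p = 1 + (p - 1) := by have := hpp.one_lt; omega
        nth_rewrite 1 [this]
        ring
      omega
    exact_mod_cast h1
  -- every term is extremal
  have hterm : ∀ c ∈ R, ((p - 1 : ℕ) : ℝ) - ((χ : G → ℂ) (c : G)).re = 0 := by
    have hnn : ∀ c ∈ R, 0 ≤ ((p - 1 : ℕ) : ℝ) - ((χ : G → ℂ) (c : G)).re :=
      fun c _ => sub_nonneg.mpr (hre _)
    have hsum0 : ∑ c ∈ R, (((p - 1 : ℕ) : ℝ) - ((χ : G → ℂ) (c : G)).re) ≤ 0 := by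
      rw [Finset.sum_sub_distrib, Finset.sum_const, nsmul_eq_mul, hsumre, hsingcard]
      have h1 : (0 : ℝ) ≤ (Nat.card (Cz P) : ℝ) * (N0 : ℝ) := by positivity
      linarith
    have hsum0' : ∑ c ∈ R, (((p - 1 : ℕ) : ℝ) - ((χ : G → ℂ) (c : G)).re) = 0 :=
      le_antisymm hsum0 (Finset.sum_nonneg hnn)
    exact (Finset.sum_eq_zero_iff_of_nonneg hnn).mp hsum0'
  intro y hy hyreg
  have hyR : (⟨y, hy⟩ : Cz P) ∈ R := by
    rw [hR, Finset.mem_filter]
    refine ⟨Finset.mem_univ _, ?_⟩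
    rw [← Subgroup.orderOf_coe]
    exact hyreg
  have h1 := hterm _ hyR
  have hrey : ((χ : G → ℂ) y).re = ((p - 1 : ℕ) : ℝ) := by
    have : ((χ : G → ℂ) ((⟨y, hy⟩ : Cz P) : G)).re = ((p - 1 : ℕ) : ℝ) := by linarith
    exact this
  have h2 := hnorm y
  have him : ((χ : G → ℂ) y).im = 0 := by
    have h3 : ‖(χ : G → ℂ) y‖ ^ 2 ≤ (((p - 1 : ℕ) : ℝ)) ^ 2 :=
      pow_le_pow_left₀ (norm_nonneg _) h2 2
    rw [Complex.sq_norm, Complex.normSq_apply, hrey] at h3
    have h4 : ((χ : G → ℂ) y).im * ((χ : G → ℂ) y).im ≤ 0 := by nlinarith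
    have h5 : 0 ≤ ((χ : G → ℂ) y).im * ((χ : G → ℂ) y).im := mul_self_nonneg _
    exact mul_self_eq_zero.mp (le_antisymm h4 h5)
  rw [hone]
  apply Complex.ext
  · rw [hrey]
    simp
  · rw [him]
    simp

end Cfsg.Agent.Lib.Helper7.BRWTYPEB
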