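/-
helper7: S4700 + S0996 wrapper market "BRW" (planner helper27), leaf BRW-CZ `Cz_eq_of_typeB`:
if `O_{p'}(G) = 1` and an irreducible character `χ` has the `p`-regular elements of `C_G(P)` in its kernel but not all of `P`,
then `C_G(P) = P`.  (The kernel of `χ` is a normal subgroup meeting the Sylow subgroup `P` trivially, hence a `p'`-group, hence trivial.)
-/
import Mathlib
import Cfsg.Prelude.Def_BlockRank
import Cfsg.Prelude.Def_CaseTheorems
import Cfsg.Agent.Lib.Helper6.BRHDefs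
import Cfsg.Agent.Lib.Helper7.BRWTYPEB
import Cfsg.Agent.Lib.Helper7.DOS4441
import Cfsg.Agent.Lib.Helper12.Cores
import Cfsg.Agent.Lib.Helper24.Deflation
import Cfsg.Agent.Lib.Helper29.DOTI

set_option autoImplicit false

namespace Cfsg.Agent.Lib.Helper7.BRWCZ

open Cfsg Cfsg.Agent.Lib.Helper8.DOM Cfsg.Agent.Lib.Helper27.DO Cfsg.Agent.CharLib
open Cfsg.Agent.Lib.Helper6.BRH
open scoped ComplexConjugate Pointwise

universe u

variable {G : Type u} [Group G] [Finite G] {p : ℕ} [Fact p.Prime]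

/-- CZ : if moreover `O_{p'}(G) = 1` then `C_G(P) = P`. -/
theorem Cz_eq_of_typeB (hcore : pPrimeCore p G = ⊥) (P : Subgroup G) (hP : Nat.card P = p)
    (hSyl : ¬ p ∣ P.index) (χ : IrrCharacter G)
    (hker : ∀ y ∈ Cz P, ¬ p ∣ orderOf y → (χ : G → ℂ) y = (χ : G → ℂ) 1)
    (hne : ∃ x ∈ P, (χ : G → ℂ) x ≠ (χ : G → ℂ) 1) : Cz P = P := by
  classical
  have hpp : p.Prime := Fact.out
  obtain ⟨χf, n, ρ, hirr, hχ⟩ := χ
  simp only at hker hne
  -- the kernel
  set K : Subgroup G := ρ.ker with hK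
  have hKn : K.Normal := MonoidHom.normal_ker ρ
  have hmemK : ∀ g : G, g ∈ K ↔ χf g = χf 1 := by
    intro g
    rw [hK, MonoidHom.mem_ker]
    constructor
    · intro h
      rw [← hχ]
      show LinearMap.trace ℂ _ (ρ g) = LinearMap.trace ℂ _ (ρ 1)
      have h1 : ρ 1 = 1 := map_one ρ
      rw [h, h1]
    · intro h
      apply Cfsg.Agent.Lib.Helper24.rep_eq_one_of_char_eq_finrank ρ g
      rw [hχ, h, ← hχ, Representation.char_one]
  -- `K ∩ P = 1`
  obtain ⟨x1, hx1P, hx1⟩ := hne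
  have hKP : ∀ z : G, z ∈ K → z ∈ P → z = 1 := by
    intro z hzK hzP
    by_contra hz1
    obtain ⟨j, hj⟩ := Cfsg.Agent.Lib.Helper29.DOTI.exists_pow_eq_of_mem P hP hzP hz1 hx1P
    apply hx1
    rw [← (hmemK x1)]
    rw [← hj]
    exact K.zpow_mem hzK j
  -- `K` is a `p'`-group
  have hPp := Cfsg.Agent.Lib.Helper29.DOTI.isPGroup_of_card P hP
  have hcop : (Nat.card K).Coprime p := by
    rw [Nat.coprime_comm, Nat.Prime.coprime_iff_not_dvd hpp]
    intro hdvd
    obtain ⟨z, hz⟩ := exists_prime_orderOf_dvd_card' (G := K) p hdvd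
    have hzG : orderOf (z : G) = p := by rw [Subgroup.orderOf_coe]; exact hz
    -- `z` is conjugate into `P`
    have hZ : IsPGroup p (Subgroup.zpowers (z : G)) :=
      IsPGroup.of_card (n := 1) (by rw [Nat.card_zpowers, hzG, pow_one])
    obtain ⟨Q, hQ⟩ := hZ.exists_le_sylow
    obtain ⟨t, ht⟩ := MulAction.exists_smul_eq G Q (hPp.toSylow hSyl)
    have hxP : t * (z : G) * t⁻¹ ∈ P := by
      have h1 : MulAut.conj t • (z : G) ∈ MulAut.conj t • (Q : Subgroup G) :=
        Subgroup.smul_mem_pointwise_smul _ _ _ (hQ (Subgroup.mem_zpowers (z : G)))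
      rw [← Sylow.coe_subgroup_smul, ht, IsPGroup.toSylow_coe, MulAut.smul_def,
        MulAut.conj_apply] at h1
      exact h1
    have hxK : t * (z : G) * t⁻¹ ∈ K := hKn.conj_mem (z : G) z.2 t
    have h1 := hKP _ hxK hxP
    have hz1 : (z : G) = 1 := conj_eq_one_iff.mp h1
    rw [hz1, orderOf_one] at hzG
    exact hpp.one_lt.ne' hzG.symm
  have hKbot : K = ⊥ := by
    have := Cfsg.Agent.Lib.Helper12.le_pPrimeCore p K hKn hcop
    rw [hcore] at this
    exact le_bot_iff.mp this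
  -- the `p`-regular elements of `C_G(P)` are trivial
  have hreg1 : ∀ y ∈ Cz P, ¬ p ∣ orderOf y → y = 1 := by
    intro y hy hyreg
    have h1 : y ∈ K := (hmemK y).mpr (hker y hy hyreg)
    rw [hKbot] at h1
    exact Subgroup.mem_bot.mp h1
  apply le_antisymm
  · intro c hc
    by_cases hs : p ∣ orderOf c
    · obtain ⟨x, hx, -, y, hy, hyreg, hcxy⟩ :=
        Cfsg.Agent.Lib.Helper7.BRWTYPEB.sing_decomp P hP hSyl c hc hs
      rw [hcxy, hreg1 y hy hyreg, mul_one]
      exact hx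
    · rw [hreg1 c hc hs]
      exact P.one_mem
  · intro a ha
    obtain ⟨x0, hx0⟩ := Cfsg.Agent.Lib.Helper7.DOS4441.exists_gen P hP
    rw [Subgroup.mem_centralizer_iff]
    intro b hb
    have ha' : a ∈ Subgroup.zpowers x0 := hx0 ▸ ha
    have hb' : b ∈ Subgroup.zpowers x0 := by
      have : b ∈ P := hb
      exact hx0 ▸ this
    obtain ⟨i, rfl⟩ := Subgroup.mem_zpowers_iff.mp ha'
    obtain ⟨j, rfl⟩ := Subgroup.mem_zpowers_iff.mp hb'
    rw [← zpow_add, ← zpow_add, add_comm]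

end Cfsg.Agent.Lib.Helper7.BRWCZ
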