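import Mathlib
import Cfsg.Agent.Lib.Helper2.SOTDefs
import Cfsg.Agent.Lib.Helper27.SOTLADefs
import Cfsg.Agent.Lib.Helper13.OTUCalc
import Cfsg.Agent.Lib.Helper13.OTLADefs

/-!
S5681 + S5709 part (LA') (helper13's market), packet C3 (the corner elements `Zm`, `Zc`), by helper7.
-/

set_option autoImplicit false
set_option linter.unusedSectionVars false
set_option linter.unusedVariables false

namespace Cfsg.Agent.Lib.Helper7.OTLALeaf
open Matrix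
open Cfsg.Agent.Lib.Helper25.Tens Cfsg.Agent.Lib.Helper19.OSub
open Cfsg.Agent.Lib.Helper2.SOT Cfsg.Agent.Lib.Helper27.SOTLA Cfsg.Agent.Lib.Helper13.OTU
open Cfsg.Agent.Lib.Helper13.OTLA
open scoped Kronecker

variable {F : Type*} [Field F] [Fintype F] {a b : ℕ} {G₁ : Matrix (Fin a) (Fin a) F}
  {G₂ : Matrix (Fin b) (Fin b) F} {o o' p p' : Fin b} {Om M : Subgroup (GL (Idx a b) F)}

/-- block of `κ ⊗ E_{u,v}` -/
lemma blk_kron_single (κ : Matrix (Fin a) (Fin a) F) (u v k l : Fin b) :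
    blk (κ ⊗ₖ (Matrix.single u v (1 : F))) k l = if k = u ∧ l = v then κ else 0 := by
  rw [blk_kron, Matrix.single_apply]
  by_cases h : u = k ∧ v = l
  · rw [if_pos h, if_pos ⟨h.1.symm, h.2.symm⟩, one_smul]
  · rw [if_neg h, if_neg (fun hc => h ⟨hc.1.symm, hc.2.symm⟩), zero_smul]

/-- (C3a) blocks of `Zm`. -/
theorem blk_Zm (κ₁ κ₂ σ τ : Matrix (Fin a) (Fin a) F) (k l : Fin b) :
    blk (Zm o o' p p' κ₁ κ₂ σ τ) k l = (if k = l then 1 else 0) + (if k = o ∧ l = p then κ₁ else 0) +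
      (if k = o ∧ l = p' then σ else 0) + (if k = o' ∧ l = p then τ else 0) +
      (if k = o' ∧ l = p' then κ₂ else 0) := by
  unfold Zm
  rw [blk_add, blk_add, blk_add, blk_add, blk_one, blk_kron_single, blk_kron_single, blk_kron_single,
    blk_kron_single]

/-- the nilpotent part of `Zm` -/
def ZN (o o' p p' : Fin b) (κ₁ κ₂ σ τ : Matrix (Fin a) (Fin a) F) : Matrix (Idx a b) (Idx a b) F :=
  κ₁ ⊗ₖ (Matrix.single o p (1 : F)) + σ ⊗ₖ (Matrix.single o p' (1 : F)) +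
    τ ⊗ₖ (Matrix.single o' p (1 : F)) + κ₂ ⊗ₖ (Matrix.single o' p' (1 : F))

lemma Zm_eq (κ₁ κ₂ σ τ : Matrix (Fin a) (Fin a) F) :
    Zm o o' p p' κ₁ κ₂ σ τ = 1 + ZN o o' p p' κ₁ κ₂ σ τ := by
  unfold Zm ZN
  simp only [add_assoc]

lemma ZN_add (κ₁ κ₂ σ τ κ₁' κ₂' σ' τ' : Matrix (Fin a) (Fin a) F) :
    ZN o o' p p' κ₁ κ₂ σ τ + ZN o o' p p' κ₁' κ₂' σ' τ' =
      ZN o o' p p' (κ₁ + κ₁') (κ₂ + κ₂') (σ + σ') (τ + τ') := by
  unfold ZN
  rw [Matrix.add_kronecker, Matrix.add_kronecker, Matrix.add_kronecker, Matrix.add_kronecker]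
  abel

lemma kron_single_mul (κ κ' : Matrix (Fin a) (Fin a) F) (u v u' v' : Fin b) (h : v ≠ u') :
    (κ ⊗ₖ (Matrix.single u v (1 : F))) * (κ' ⊗ₖ (Matrix.single u' v' (1 : F))) = 0 := by
  rw [← Matrix.mul_kronecker_mul, Matrix.single_mul_single_of_ne _ _ _ _ h, Matrix.kronecker_zero]

lemma ZN_mul (hA : Adp G₂ o o' p p') (κ₁ κ₂ σ τ κ₁' κ₂' σ' τ' : Matrix (Fin a) (Fin a) F) :
    ZN o o' p p' κ₁ κ₂ σ τ * ZN o o' p p' κ₁' κ₂' σ' τ' = 0 := by
  unfold ZN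
  have h1 := hA.hop.symm
  have h2 := hA.ho'p.symm
  have h3 := hA.hop'.symm
  have h4 := hA.ho'p'.symm
  simp only [add_mul, mul_add, kron_single_mul _ _ _ _ _ _ h1, kron_single_mul _ _ _ _ _ _ h2,
    kron_single_mul _ _ _ _ _ _ h3, kron_single_mul _ _ _ _ _ _ h4]
  simp

/-- (C3b) -/
theorem Zm_UL (hA : Adp G₂ o o' p p') (κ₁ κ₂ σ τ : Matrix (Fin a) (Fin a) F) :
    UL o o' p p' (Zm o o' p p' κ₁ κ₂ σ τ) ∧
      SuppC (TL o o') (TL p p') (Zm o o' p p' κ₁ κ₂ σ τ - 1) := by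
  have hc : ∀ k l : Fin b, ¬ Corner (TL o o') (TL p p') k l →
      blk (Zm o o' p p' κ₁ κ₂ σ τ) k l = if k = l then 1 else 0 := by
    intro k l hkl
    rw [blk_Zm]
    have e1 : ¬ (k = o ∧ l = p) := fun h => hkl ⟨by simp [TL, h.1], by simp [TL, h.2]⟩
    have e2 : ¬ (k = o ∧ l = p') := fun h => hkl ⟨by simp [TL, h.1], by simp [TL, h.2]⟩
    have e3 : ¬ (k = o' ∧ l = p) := fun h => hkl ⟨by simp [TL, h.1], by simp [TL, h.2]⟩
    have e4 : ¬ (k = o' ∧ l = p') := fun h => hkl ⟨by simp [TL, h.1], by simp [TL, h.2]⟩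
    rw [if_neg e1, if_neg e2, if_neg e3, if_neg e4]
    simp
  have hd : Disjoint (TL o o') (TL p p') := by
    unfold TL
    rw [Finset.disjoint_left]
    intro x hx hx'
    simp only [Finset.mem_insert, Finset.mem_singleton] at hx hx'
    rcases hx with rfl | rfl <;> rcases hx' with h | h
    · exact hA.hop h
    · exact hA.hop' h
    · exact hA.ho'p h
    · exact hA.ho'p' h
  constructor
  · intro k l hkl
    exact hc k l (fun h => hkl (free_of_corner hd h))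
  · intro k l hkl
    rw [blk_sub, hc k l hkl, blk_one, sub_self]

/-- (C3c) a matrix `X` with `X - 1` supported on the corner is the `Zm` of its four corner blocks. -/
theorem eq_Zm_of_suppC (hA : Adp G₂ o o' p p') {X : Matrix (Idx a b) (Idx a b) F}
    (h : SuppC (TL o o') (TL p p') (X - 1)) :
    X = Zm o o' p p' (blk X o p) (blk X o' p') (blk X o p') (blk X o' p) := by
  apply ext_blk
  intro k l
  rw [blk_Zm]
  by_cases hc : Corner (TL o o') (TL p p') k l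
  · obtain ⟨hk, hl⟩ := hc
    simp only [TL, Finset.mem_insert, Finset.mem_singleton] at hk hl
    have hkl : k ≠ l := by
      rcases hk with rfl | rfl <;> rcases hl with rfl | rfl
      · exact hA.hop
      · exact hA.hop'
      · exact hA.ho'p
      · exact hA.ho'p'
    rw [if_neg hkl]
    rcases hk with rfl | rfl <;> rcases hl with rfl | rfl
    · simp [hA.hoo', hA.hpp']
    · simp [hA.hoo', hA.hpp', hA.hpp'.symm]
    · simp [hA.hoo', hA.hoo'.symm, hA.hpp']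
    · simp [hA.hoo', hA.hoo'.symm, hA.hpp', hA.hpp'.symm]
  · have h1 := h k l hc
    rw [blk_sub, blk_one, sub_eq_zero] at h1
    have e1 : ¬ (k = o ∧ l = p) := fun h => hc ⟨by simp [TL, h.1], by simp [TL, h.2]⟩
    have e2 : ¬ (k = o ∧ l = p') := fun h => hc ⟨by simp [TL, h.1], by simp [TL, h.2]⟩
    have e3 : ¬ (k = o' ∧ l = p) := fun h => hc ⟨by simp [TL, h.1], by simp [TL, h.2]⟩
    have e4 : ¬ (k = o' ∧ l = p') := fun h => hc ⟨by simp [TL, h.1], by simp [TL, h.2]⟩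
    rw [if_neg e1, if_neg e2, if_neg e3, if_neg e4, h1]
    simp

/-- (C3d) `Z_R` is abelian, `Z Z' = Z(sum)`. -/
theorem Zm_mul (hA : Adp G₂ o o' p p') (κ₁ κ₂ σ τ κ₁' κ₂' σ' τ' : Matrix (Fin a) (Fin a) F) :
    Zm o o' p p' κ₁ κ₂ σ τ * Zm o o' p p' κ₁' κ₂' σ' τ' =
      Zm o o' p p' (κ₁ + κ₁') (κ₂ + κ₂') (σ + σ') (τ + τ') := by
  rw [Zm_eq, Zm_eq, Zm_eq, ← ZN_add, add_mul, one_mul, mul_add, mul_one, ZN_mul hA, add_zero]
  abel

/-- (C3e) -/
theorem Zm_zero : Zm o o' p p' (0 : Matrix (Fin a) (Fin a) F) 0 0 0 = 1 := by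
  unfold Zm
  simp

/-- (C3f) `Zm` as a unit. -/
theorem exists_ZmGL (hA : Adp G₂ o o' p p') (κ₁ κ₂ σ τ : Matrix (Fin a) (Fin a) F) :
    ∃ g : GL (Idx a b) F, g.1 = Zm o o' p p' κ₁ κ₂ σ τ ∧
      g⁻¹.1 = Zm o o' p p' (-κ₁) (-κ₂) (-σ) (-τ) := by
  refine ⟨⟨Zm o o' p p' κ₁ κ₂ σ τ, Zm o o' p p' (-κ₁) (-κ₂) (-σ) (-τ), ?_, ?_⟩, rfl, rfl⟩
  · rw [Zm_mul hA]
    simp only [add_neg_cancel]
    exact Zm_zero
  · rw [Zm_mul hA]
    simp only [neg_add_cancel]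
    exact Zm_zero

lemma adjB_add' (G : Matrix (Fin a) (Fin a) F) (σ σ' : Matrix (Fin a) (Fin a) F) :
    adjB G (σ + σ') = adjB G σ + adjB G σ' := by
  unfold adjB
  rw [Matrix.transpose_add, mul_add, add_mul]

/-- (C3i) -/
theorem Zc_mul (hA : Adp G₂ o o' p p') (κ₁ κ₂ σ κ₁' κ₂' σ' : Matrix (Fin a) (Fin a) F) :
    Zc G₁ o o' p p' κ₁ κ₂ σ * Zc G₁ o o' p p' κ₁' κ₂' σ' =
      Zc G₁ o o' p p' (κ₁ + κ₁') (κ₂ + κ₂') (σ + σ') := by
  unfold Zc
  rw [Zm_mul hA, adjB_add', neg_add]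

/-- (C3j) `X_L`: `Z(0,0,c·1) = 1 ⊗ (1 + c n)`, `n = nL = E_{o,p'} - E_{o',p}`. -/
theorem Zc_scalar_eq (hn1 : G₁.det ≠ 0) (c : F) :
    Zc G₁ o o' p p' 0 0 (c • (1 : Matrix (Fin a) (Fin a) F)) =
      (1 : Matrix (Fin a) (Fin a) F) ⊗ₖ (1 + c • nL o o' p p' : Matrix (Fin b) (Fin b) F) := by
  have hadj : adjB G₁ (c • (1 : Matrix (Fin a) (Fin a) F)) = c • 1 := by
    unfold adjB
    rw [Matrix.transpose_smul, Matrix.transpose_one, Matrix.mul_smul, mul_one, Matrix.smul_mul,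
      Matrix.nonsing_inv_mul _ (isUnit_iff_ne_zero.mpr hn1)]
  have hnL : nL (F := F) o o' p p' = Matrix.single o p' (1 : F) + (-1 : F) • Matrix.single o' p (1 : F) := by
    unfold nL
    rw [neg_one_smul, sub_eq_add_neg]
  unfold Zc Zm
  rw [hadj, hnL, ← neg_smul c (1 : Matrix (Fin a) (Fin a) F)]
  rw [Matrix.kronecker_add, Matrix.one_kronecker_one, Matrix.kronecker_smul, Matrix.kronecker_add,
    Matrix.kronecker_smul, Matrix.zero_kronecker, Matrix.zero_kronecker, Matrix.smul_kronecker,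
    Matrix.smul_kronecker]
  module

end Cfsg.Agent.Lib.Helper7.OTLALeaf
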