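/-
helper7: S4861 market (planner helper12), leaf R2 `exists_real_over_of_split`:
`G = M ⋊ N`, `lam` a real-valued linear character of `M ⊴ G`; some real irreducible character of
`G` lies over `lam`.
-/
import Mathlib
import Cfsg.Prelude.Def_Blocks
import Cfsg.Agent.Lib.Helper6.Clifford
import Cfsg.Agent.Lib.Helper6.LinChar
import Cfsg.Agent.Lib.Helper6.CliffordCorr

set_option autoImplicit false

namespace Cfsg.Agent.Lib.Helper7.RealP

open Cfsg Cfsg.Agent.CharLib Cfsg.Agent.Lib.Helper6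
open scoped ComplexConjugate

universe u

variable {G : Type u} [Group G]

/-- The inertia subgroup of a function on a normal subgroup (local copy). -/
def inertiaR2 (M : Subgroup G) [hM : M.Normal] (θ : M → ℂ) : Subgroup G where
  carrier := {g | conjFun M g θ = θ}
  mul_mem' := by
    intro a b ha hb
    change conjFun M (a * b) θ = θ
    rw [conjFun_mul, ha, hb]
  one_mem' := conjFun_one M θ
  inv_mem' := by
    intro a ha
    change conjFun M a⁻¹ θ = θ
    have := conjFun_inv_conjFun M a θ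
    rw [ha] at this
    exact this

theorem mem_inertiaR2 (M : Subgroup G) [hM : M.Normal] (θ : M → ℂ) (g : G) :
    g ∈ inertiaR2 M θ ↔ conjFun M g θ = θ := Iff.rfl

/-- The `M`-part of the elements of a split extension `G = M ⋊ N`. -/
theorem exists_mPart (M N : Subgroup G) [hM : M.Normal] (hMN : M ⊓ N = ⊥) (hsup : M ⊔ N = ⊤) :
    ∃ f : G → M, (∀ g : G, ((f g : M) : G)⁻¹ * g ∈ N) ∧
      ∀ (m : M) (n : G), n ∈ N → f ((m : G) * n) = m := by
  have h : ∀ g : G, ∃ m : M, ((m : M) : G)⁻¹ * g ∈ N := by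
    intro g
    have hg : g ∈ M ⊔ N := hsup ▸ Subgroup.mem_top g
    obtain ⟨y, hy, z, hz, rfl⟩ := Subgroup.mem_sup_of_normal_left.mp hg
    exact ⟨⟨y, hy⟩, by simpa using hz⟩
  choose f hf using h
  refine ⟨f, hf, ?_⟩
  intro m n hn
  have h1 := hf ((m : G) * n)
  have h2 : ((f ((m : G) * n) : M) : G)⁻¹ * (m : G) ∈ N := by
    have := N.mul_mem h1 (N.inv_mem hn)
    simpa [mul_assoc] using this
  have h3 : ((f ((m : G) * n) : M) : G)⁻¹ * (m : G) ∈ M :=
    M.mul_mem (M.inv_mem (f _).2) m.2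
  have h4 : ((f ((m : G) * n) : M) : G)⁻¹ * (m : G) ∈ M ⊓ N := ⟨h3, h2⟩
  rw [hMN, Subgroup.mem_bot] at h4
  apply Subtype.ext
  exact (inv_mul_eq_one.mp h4)

/-- The induced function of a real-valued function is real-valued. -/
theorem indFun_im_eq_zero [Fintype G] (T : Subgroup G) (ψ : T → ℂ) (hψ : ∀ t : T, (ψ t).im = 0)
    (g : G) : (indFun T ψ g).im = 0 := by
  classical
  rw [indFun_apply]
  have h1 : ((Nat.card T : ℂ)⁻¹).im = 0 := by
    rw [Complex.inv_im, Complex.natCast_im, neg_zero, zero_div]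
  have h2 : (∑ x : G, extendByZero T ψ (x⁻¹ * g * x)).im = 0 := by
    rw [Complex.im_sum]
    apply Finset.sum_eq_zero
    intro x _
    by_cases hx : x⁻¹ * g * x ∈ T
    · rw [extendByZero_mem T ψ hx]
      exact hψ _
    · rw [extendByZero_not_mem T ψ hx]
      rfl
  rw [Complex.mul_im, h1, h2, mul_zero, zero_mul, add_zero]

variable [Finite G]

/-- R2: split case.  `G = M ⋊ N`, `lam` a REAL-valued linear character of `M`.  Then some real
irreducible character of `G` lies over `lam`. -/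
theorem exists_real_over_of_split (M : Subgroup G) [hM : M.Normal] [Fintype M] (N : Subgroup G)
    (hMN : M ⊓ N = ⊥) (hsup : M ⊔ N = ⊤) (lam : M →* ℂˣ)
    (hreal : ∀ m : M, ((lam m : ℂˣ) : ℂ).im = 0) :
    ∃ χ : IrrCharacter G, (∀ g : G, ((χ : G → ℂ) g).im = 0) ∧
      classInner (resFun M (χ : G → ℂ)) (fun m => ((lam m : ℂˣ) : ℂ)) ≠ 0 := by
  classical
  let _ : Fintype G := Fintype.ofFinite G
  set θ : M → ℂ := fun m => ((lam m : ℂˣ) : ℂ) with hθdef
  have hθ : IsIrrCharacter M θ := isIrrCharacter_of_hom lam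
  have hθcf : IsClassFunction M θ := IsCharacter.isClassFunction (IsIrrCharacter.isCharacter hθ)
  set T : Subgroup G := inertiaR2 M θ with hTdef
  let _ : Fintype T := Fintype.ofFinite T
  have hT : ∀ g : G, g ∈ T ↔ conjFun M g θ = θ := fun g => Iff.rfl
  have hMT : M ≤ T := fun n hn => (hT n).mpr (conjFun_of_mem M hθcf hn)
  obtain ⟨f, hfN, hfu⟩ := exists_mPart M N hMN hsup
  -- elements of `T ∩ N` fix `lam`
  have hfix : ∀ n : G, n ∈ T → ∀ m : M, lam ⟨n * m * n⁻¹, hM.conj_mem m m.2 n⟩ = lam m := by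
    intro n hn m
    have h1 := congrFun ((hT n).mp hn) m
    rw [conjFun_apply] at h1
    exact Units.ext h1
  -- the extension
  have hmul : ∀ a b : T, lam (f ((a * b : T) : G)) = lam (f (a : G)) * lam (f (b : G)) := by
    intro a b
    set m := f (a : G) with hm
    set m' := f (b : G) with hm'
    set n : G := ((m : M) : G)⁻¹ * (a : G) with hn
    set n' : G := ((m' : M) : G)⁻¹ * (b : G) with hn'
    have hnN : n ∈ N := hfN (a : G)
    have hn'N : n' ∈ N := hfN (b : G)
    have hnT : n ∈ T := T.mul_mem (T.inv_mem (hMT m.2)) a.2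
    have ha : (a : G) = (m : G) * n := by rw [hn]; group
    have hb : (b : G) = (m' : G) * n' := by rw [hn']; group
    have hab : ((a * b : T) : G) =
        ((m * ⟨n * m' * n⁻¹, hM.conj_mem m' m'.2 n⟩ : M) : G) * (n * n') := by
      rw [Subgroup.coe_mul, Subgroup.coe_mul, ha, hb]
      simp only [mul_assoc, inv_mul_cancel_left]
    rw [hab, hfu _ _ (N.mul_mem hnN hn'N), map_mul, hfix n hnT m']
  let L : T →* ℂˣ := MonoidHom.mk' (fun t => lam (f (t : G))) hmul
  set ψ : T → ℂ := fun t => ((L t : ℂˣ) : ℂ) with hψdef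
  have hψ : IsIrrCharacter T ψ := isIrrCharacter_of_hom L
  have hres : resLE hMT ψ = θ := by
    funext m
    rw [resLE_apply]
    change ((lam (f ((m : M) : G)) : ℂˣ) : ℂ) = ((lam m : ℂˣ) : ℂ)
    have := hfu m 1 N.one_mem
    rw [mul_one] at this
    rw [this]
  have hf0 : classInner (resLE hMT ψ) θ ≠ 0 := by
    rw [hres, classInner_irr hθ hθ, if_pos rfl]
    exact one_ne_zero
  obtain ⟨hirr, hin⟩ := isIrrCharacter_indFun_inertia hMT hθ hT hψ hf0
  refine ⟨⟨indFun T ψ, hirr⟩, ?_, ?_⟩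
  · intro g
    apply indFun_im_eq_zero
    intro t
    exact hreal _
  · change classInner (resFun M (indFun T ψ)) θ ≠ 0
    rw [hin]
    exact hf0

end Cfsg.Agent.Lib.Helper7.RealP
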