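/-
helper7: restriction of a (B,N)-pair `P` of `G` to a subgroup `H` with `H · (B ∩ N) = G`
(for instance `SL_n ≤ GL_n`): `(B ∩ H, N ∩ H)` with representatives `r s ∈ H ∩ s (B ∩ N)` of the
distinguished generators is a (B,N)-pair of `H`; the Bruhat cells of `H` are the traces of those of `G`.
-/
import Mathlib
import Cfsg.Prelude.Def_LieExceptional
import Cfsg.Agent.Lib.Helper3.BNBruhat

set_option autoImplicit false

namespace Cfsg.Agent.Lib.Helper7.BNRestrict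

open Cfsg Cfsg.Agent.Lib.Helper3.BN

variable {G : Type*} [Group G] (P : Cfsg.BNPair G) (H : Subgroup G)

/-- `G = H · (B ∩ N)` -/
def Covers : Prop := ∀ g : G, ∃ h ∈ H, ∃ t ∈ P.B ⊓ P.N, g = h * t

/-- representatives in `H` of the distinguished generators, modulo `B ∩ N` -/
structure Reps (r : G → G) : Prop where
  mem : ∀ s ∈ P.S, r s ∈ H
  rel : ∀ s ∈ P.S, s⁻¹ * r s ∈ P.B ⊓ P.N

/-- the restricted set of distinguished representatives -/
def Sres (r : G → G) : Set H := {x | ∃ s ∈ P.S, (x : G) = r s}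

variable {P H}

theorem T_conj {n t : G} (hn : n ∈ P.N) (ht : t ∈ P.B ⊓ P.N) : n * t * n⁻¹ ∈ P.B ⊓ P.N :=
  ⟨P.conj_mem n hn t ht, P.N.mul_mem (P.N.mul_mem hn ht.2) (P.N.inv_mem hn)⟩

theorem T_conj' {n t : G} (hn : n ∈ P.N) (ht : t ∈ P.B ⊓ P.N) : n⁻¹ * t * n ∈ P.B ⊓ P.N := by
  have := T_conj (P := P) (P.N.inv_mem hn) ht
  rwa [inv_inv] at this

theorem exists_reps (hc : Covers P H) : ∃ r : G → G, Reps P H r := by
  classical
  have : ∀ s : G, ∃ y : G, s ∈ P.S → (y ∈ H ∧ s⁻¹ * y ∈ P.B ⊓ P.N) := by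
    intro s
    obtain ⟨h, hh, t, ht, hst⟩ := hc s
    refine ⟨h, fun _ => ⟨hh, ?_⟩⟩
    have : s⁻¹ * h = t⁻¹ := by rw [hst]; group
    rw [this]
    exact Subgroup.inv_mem _ ht
  choose r hr using this
  exact ⟨r, ⟨fun s hs => (hr s hs).1, fun s hs => (hr s hs).2⟩⟩

/-- `B = (B ∩ H) (B ∩ N)` -/
theorem B_decomp (hc : Covers P H) {b : G} (hb : b ∈ P.B) :
    ∃ c ∈ P.B ⊓ H, ∃ t ∈ P.B ⊓ P.N, b = c * t := by
  obtain ⟨h, hh, t, ht, rfl⟩ := hc b
  refine ⟨h, ⟨?_, hh⟩, t, ht, rfl⟩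
  have : h = h * t * t⁻¹ := by group
  rw [this]
  exact P.B.mul_mem hb (P.B.inv_mem ht.1)

/-- `B = (B ∩ N) (B ∩ H)` -/
theorem B_decomp' (hc : Covers P H) {b : G} (hb : b ∈ P.B) :
    ∃ t ∈ P.B ⊓ P.N, ∃ c ∈ P.B ⊓ H, b = t * c := by
  obtain ⟨c, hcm, t, ht, h⟩ := B_decomp hc (P.B.inv_mem hb)
  refine ⟨t⁻¹, Subgroup.inv_mem _ ht, c⁻¹, Subgroup.inv_mem _ hcm, ?_⟩
  have : b = (b⁻¹)⁻¹ := by group
  rw [this, h]
  group

/-- `N = (N ∩ H) (B ∩ N)` -/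
theorem N_decomp (hc : Covers P H) {n : G} (hn : n ∈ P.N) :
    ∃ m ∈ P.N ⊓ H, ∃ t ∈ P.B ⊓ P.N, n = m * t := by
  obtain ⟨h, hh, t, ht, rfl⟩ := hc n
  refine ⟨h, ⟨?_, hh⟩, t, ht, rfl⟩
  have : h = h * t * t⁻¹ := by group
  rw [this]
  exact P.N.mul_mem hn (P.N.inv_mem ht.2)

/-- the trace on `H` of the double coset of `m ∈ N ∩ H` is the double coset of `m` for `B ∩ H` -/
theorem dc_inter (hc : Covers P H) {m g : G} (hm : m ∈ P.N) (hmH : m ∈ H) (hgH : g ∈ H)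
    (hg : g ∈ dc P m) : ∃ c ∈ P.B ⊓ H, ∃ c' ∈ P.B ⊓ H, g = c * m * c' := by
  obtain ⟨b, hb, b', hb', hgb⟩ := (mem_dc P).mp hg
  obtain ⟨c, hcm, t, ht, hbc⟩ := B_decomp hc hb
  obtain ⟨t', ht', c', hc'm, hbc'⟩ := B_decomp' hc hb'
  have h1 : m⁻¹ * t * m * t' ∈ P.B ⊓ P.N := Subgroup.mul_mem _ (T_conj' hm ht) ht'
  have h2 : m⁻¹ * t * m * t' ∈ H := by
    have : m⁻¹ * t * m * t' = m⁻¹ * c⁻¹ * g * c'⁻¹ := by rw [hgb, hbc, hbc']; group
    rw [this]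
    exact H.mul_mem (H.mul_mem (H.mul_mem (H.inv_mem hmH) (H.inv_mem hcm.2)) hgH)
      (H.inv_mem hc'm.2)
  refine ⟨c, hcm, m⁻¹ * t * m * t' * c', ⟨P.B.mul_mem h1.1 hc'm.1, H.mul_mem h2 hc'm.2⟩, ?_⟩
  rw [hgb, hbc, hbc']
  group

theorem rS_le_N {r : G → G} (hr : Reps P H r) : Subgroup.closure (r '' P.S) ≤ P.N := by
  rw [Subgroup.closure_le]
  rintro _ ⟨s, hs, rfl⟩
  have : r s = s * (s⁻¹ * r s) := by group
  rw [SetLike.mem_coe, this]
  exact P.N.mul_mem (P.subset hs) (hr.rel s hs).2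

theorem rS_le_H {r : G → G} (hr : Reps P H r) : Subgroup.closure (r '' P.S) ≤ H := by
  rw [Subgroup.closure_le]
  rintro _ ⟨s, hs, rfl⟩
  exact hr.mem s hs

theorem closure_decomp {r : G → G} (hr : Reps P H r) {x : G} (hx : x ∈ Subgroup.closure P.S) :
    ∃ y ∈ Subgroup.closure (r '' P.S), ∃ t ∈ P.B ⊓ P.N, x = y * t := by
  induction hx using Subgroup.closure_induction with
  | mem s hs =>
    exact ⟨r s, Subgroup.subset_closure ⟨s, hs, rfl⟩, (s⁻¹ * r s)⁻¹,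
      Subgroup.inv_mem _ (hr.rel s hs), by group⟩
  | one => exact ⟨1, Subgroup.one_mem _, 1, Subgroup.one_mem _, by simp⟩
  | mul y z hy hz ihy ihz =>
    obtain ⟨x1, hx1, t1, ht1, rfl⟩ := ihy
    obtain ⟨x2, hx2, t2, ht2, rfl⟩ := ihz
    have hx2N : x2 ∈ P.N := rS_le_N hr hx2
    exact ⟨x1 * x2, Subgroup.mul_mem _ hx1 hx2, (x2⁻¹ * t1 * x2) * t2,
      Subgroup.mul_mem _ (T_conj' hx2N ht1) ht2, by group⟩
  | inv y hy ihy =>
    obtain ⟨x1, hx1, t1, ht1, rfl⟩ := ihy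
    have hx1N : x1 ∈ P.N := rS_le_N hr hx1
    exact ⟨x1⁻¹, Subgroup.inv_mem _ hx1, x1 * t1⁻¹ * x1⁻¹,
      T_conj hx1N (Subgroup.inv_mem _ ht1), by group⟩

theorem image_Sres {r : G → G} (hr : Reps P H r) : H.subtype '' (Sres P H r) = r '' P.S := by
  ext y
  constructor
  · rintro ⟨x, ⟨s, hs, hx⟩, rfl⟩
    exact ⟨s, hs, hx.symm⟩
  · rintro ⟨s, hs, rfl⟩
    exact ⟨⟨r s, hr.mem s hs⟩, ⟨s, hs, rfl⟩, rfl⟩

theorem mem_closure_Sres {r : G → G} (hr : Reps P H r) {y : G}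
    (hy : y ∈ Subgroup.closure (r '' P.S)) (hyH : y ∈ H) :
    (⟨y, hyH⟩ : H) ∈ Subgroup.closure (Sres P H r) := by
  rw [← image_Sres hr, ← MonoidHom.map_closure] at hy
  obtain ⟨y', hy', hyy⟩ := hy
  have : y' = ⟨y, hyH⟩ := Subtype.ext hyy
  rw [← this]
  exact hy'

theorem Sres_coe_mem_N {r : G → G} (hr : Reps P H r) {x : H} (hx : x ∈ Sres P H r) :
    (x : G) ∈ P.N := by
  obtain ⟨s, hs, hx⟩ := hx
  have : r s = s * (s⁻¹ * r s) := by group
  rw [hx, this]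
  exact P.N.mul_mem (P.subset hs) (hr.rel s hs).2

variable (P H)

/-- **the restricted (B,N)-pair** of `H`, for `H (B ∩ N) = G` -/
def restrict (hc : Covers P H) (r : G → G) (hr : Reps P H r) : Cfsg.BNPair H where
  B := P.B.subgroupOf H
  N := P.N.subgroupOf H
  S := Sres P H r
  sup_eq_top := by
    rw [eq_top_iff]
    rintro ⟨g, hg⟩ -
    obtain ⟨n, hn, hgn⟩ := exists_dc P g
    obtain ⟨b, hb, b', hb', hgb⟩ := (mem_dc P).mp hgn
    obtain ⟨c, hcm, t, ht, hbc⟩ := B_decomp hc hb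
    obtain ⟨t', ht', c', hc'm, hbc'⟩ := B_decomp' hc hb'
    have hmN : t * n * t' ∈ P.N := P.N.mul_mem (P.N.mul_mem ht.2 hn) ht'.2
    have hmH : t * n * t' ∈ H := by
      have : t * n * t' = c⁻¹ * g * c'⁻¹ := by rw [hgb, hbc, hbc']; group
      rw [this]
      exact H.mul_mem (H.mul_mem (H.inv_mem hcm.2) hg) (H.inv_mem hc'm.2)
    have : (⟨g, hg⟩ : H) = ⟨c, hcm.2⟩ * ⟨t * n * t', hmH⟩ * ⟨c', hc'm.2⟩ := by
      apply Subtype.ext
      show g = c * (t * n * t') * c'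
      rw [hgb, hbc, hbc']
      group
    rw [this]
    refine Subgroup.mul_mem _ (Subgroup.mul_mem _ (Subgroup.mem_sup_left ?_)
      (Subgroup.mem_sup_right ?_)) (Subgroup.mem_sup_left ?_)
    · exact Subgroup.mem_subgroupOf.mpr hcm.1
    · exact Subgroup.mem_subgroupOf.mpr hmN
    · exact Subgroup.mem_subgroupOf.mpr hc'm.1
  conj_mem := by
    rintro ⟨n, hnH⟩ hn ⟨t, htH⟩ ht
    rw [Subgroup.mem_subgroupOf] at hn
    rw [Subgroup.mem_inf, Subgroup.mem_subgroupOf, Subgroup.mem_subgroupOf] at ht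
    rw [Subgroup.mem_subgroupOf]
    exact P.conj_mem n hn t ⟨ht.1, ht.2⟩
  subset := by
    intro x hx
    rw [SetLike.mem_coe, Subgroup.mem_subgroupOf]
    exact Sres_coe_mem_N hr hx
  sq_mem := by
    rintro x ⟨s, hs, hx⟩
    rw [Subgroup.mem_subgroupOf, Subgroup.coe_mul, hx]
    have hsN := P.subset hs
    have ht0 := hr.rel s hs
    have : r s * r s = (s * s) * (s⁻¹ * (s⁻¹ * r s) * s) * (s⁻¹ * r s) := by group
    rw [this]
    exact P.B.mul_mem (P.B.mul_mem (P.sq_mem s hs) (T_conj' hsN ht0).1) ht0.1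
  inj := by
    rintro x ⟨s, hs, hx⟩ y ⟨s', hs', hy⟩ h
    rw [Subgroup.mem_subgroupOf, Subgroup.coe_mul, Subgroup.coe_inv, hx, hy] at h
    have h1 : s⁻¹ * s' ∈ P.B := by
      have : s⁻¹ * s' = (s⁻¹ * r s) * ((r s)⁻¹ * r s') * (s'⁻¹ * r s')⁻¹ := by group
      rw [this]
      exact P.B.mul_mem (P.B.mul_mem (hr.rel s hs).1 h) (P.B.inv_mem (hr.rel s' hs').1)
    have := P.inj s hs s' hs' h1
    apply Subtype.ext
    rw [hx, hy, this]
  closure_sup := by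
    apply le_antisymm
    · rw [sup_le_iff]
      refine ⟨?_, inf_le_right⟩
      rw [Subgroup.closure_le]
      intro x hx
      rw [SetLike.mem_coe, Subgroup.mem_subgroupOf]
      exact Sres_coe_mem_N hr hx
    · rintro ⟨m, hmH⟩ hm
      rw [Subgroup.mem_subgroupOf] at hm
      have hm' : m ∈ Subgroup.closure P.S ⊔ (P.B ⊓ P.N) := by rw [P.closure_sup]; exact hm
      obtain ⟨x, hx, t, ht, hmx⟩ := exists_decomp P hm'
      obtain ⟨y, hy, t1, ht1, hxy⟩ := closure_decomp hr hx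
      have hyH : y ∈ H := rS_le_H hr hy
      have htH : t1 * t ∈ H := by
        have : t1 * t = y⁻¹ * m := by rw [hmx, hxy]; group
        rw [this]
        exact H.mul_mem (H.inv_mem hyH) hmH
      have : (⟨m, hmH⟩ : H) = ⟨y, hyH⟩ * ⟨t1 * t, htH⟩ := by
        apply Subtype.ext
        show m = y * (t1 * t)
        rw [hmx, hxy]
        group
      rw [this]
      refine Subgroup.mul_mem _ (Subgroup.mem_sup_left (mem_closure_Sres hr hy hyH))
        (Subgroup.mem_sup_right ?_)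
      have htt : t1 * t ∈ P.B ⊓ P.N := Subgroup.mul_mem _ ht1 ht
      rw [Subgroup.mem_inf, Subgroup.mem_subgroupOf, Subgroup.mem_subgroupOf]
      exact ⟨htt.1, htt.2⟩
  mul_mem_union := by
    rintro x hxS ⟨n, hnH⟩ hn ⟨b, hbH⟩ hb
    have hxN : (x : G) ∈ P.N := Sres_coe_mem_N hr hxS
    obtain ⟨s, hs, hx⟩ := hxS
    rw [Subgroup.mem_subgroupOf] at hn hb
    have hn' : n ∈ P.N := hn
    have hb' : b ∈ P.B := hb
    have hsN := P.subset hs
    have ht0 := hr.rel s hs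
    have key := P.mul_mem_union s hs n hn' ((s⁻¹ * r s) * b) (P.B.mul_mem ht0.1 hb')
    have e1 : s * ((s⁻¹ * r s) * b) * n = (x : G) * b * n := by rw [hx]; group
    rw [e1] at key
    have e2 : dc P (s * n) = dc P ((x : G) * n) := by
      have : (x : G) * n = s * n * (n⁻¹ * (s⁻¹ * r s) * n) := by rw [hx]; group
      rw [this]
      exact (dc_eq_of_mul_right P (T_conj' hn' ht0).1).symm
    have hxH : (x : G) ∈ H := x.2
    have hgH : (x : G) * b * n ∈ H := H.mul_mem (H.mul_mem hxH hbH) hnH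
    rcases key with key | key
    · left
      have key' : (x : G) * b * n ∈ dc P ((x : G) * n) := by rw [← e2]; exact key
      obtain ⟨c, hcm, c', hc'm, h⟩ :=
        dc_inter hc (P.N.mul_mem hxN hn') (H.mul_mem hxH hnH) hgH key'
      rw [DoubleCoset.mem_doubleCoset]
      refine ⟨⟨c, hcm.2⟩, Subgroup.mem_subgroupOf.mpr hcm.1, ⟨c', hc'm.2⟩,
        Subgroup.mem_subgroupOf.mpr hc'm.1, ?_⟩
      apply Subtype.ext
      exact h
    · right
      obtain ⟨c, hcm, c', hc'm, h⟩ := dc_inter hc hn' hnH hgH key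
      rw [DoubleCoset.mem_doubleCoset]
      refine ⟨⟨c, hcm.2⟩, Subgroup.mem_subgroupOf.mpr hcm.1, ⟨c', hc'm.2⟩,
        Subgroup.mem_subgroupOf.mpr hc'm.1, ?_⟩
      apply Subtype.ext
      exact h
  conj_ne := by
    rintro x hxS h
    have hxN : (x : G) ∈ P.N := Sres_coe_mem_N hr hxS
    obtain ⟨s, hs, hx⟩ := hxS
    obtain ⟨b, hb, hnb⟩ := exists_conj_not_mem P hs
    apply hnb
    have hx1 : ∀ c ∈ P.B ⊓ H, (x : G) * c * x ∈ P.B := by
      intro c hcm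
      have : (x * ⟨c, hcm.2⟩ * x : H) ∈ ((P.B.subgroupOf H : Subgroup H) : Set H) := by
        rw [← h]
        exact ⟨⟨c, hcm.2⟩, Subgroup.mem_subgroupOf.mpr hcm.1, rfl⟩
      exact Subgroup.mem_subgroupOf.mp this
    have ht0 := hr.rel s hs
    obtain ⟨c1, hc1, t1, ht1, h1⟩ := B_decomp hc (P.B.mul_mem (P.B.inv_mem ht0.1) hb)
    have hb2 : b = (s⁻¹ * r s) * (c1 * t1) := by rw [← h1]; group
    have : s * b * s = ((x : G) * c1 * x) * ((x : G)⁻¹ * t1 * x) * (s⁻¹ * r s)⁻¹ := by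
      rw [hb2, hx]
      group
    rw [this]
    exact P.B.mul_mem (P.B.mul_mem (hx1 c1 hc1) (T_conj' hxN ht1).1) (P.B.inv_mem ht0.1)

theorem restrict_B (hc : Covers P H) (r : G → G) (hr : Reps P H r) :
    (restrict P H hc r hr).B = P.B.subgroupOf H := rfl

theorem restrict_N (hc : Covers P H) (r : G → G) (hr : Reps P H r) :
    (restrict P H hc r hr).N = P.N.subgroupOf H := rfl

theorem restrict_S (hc : Covers P H) (r : G → G) (hr : Reps P H r) :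
    (restrict P H hc r hr).S = Sres P H r := rfl

/-- existence form, with no choice of representatives to be made by the user -/
theorem exists_restrict (hc : Covers P H) :
    ∃ Q : Cfsg.BNPair H, Q.B = P.B.subgroupOf H ∧ Q.N = P.N.subgroupOf H ∧
      (∀ x ∈ Q.S, ∃ s ∈ P.S, s⁻¹ * (x : G) ∈ P.B ⊓ P.N) ∧
      (∀ s ∈ P.S, ∃ x ∈ Q.S, s⁻¹ * (x : G) ∈ P.B ⊓ P.N) := by
  obtain ⟨r, hr⟩ := exists_reps hc
  refine ⟨restrict P H hc r hr, rfl, rfl, ?_, ?_⟩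
  · rintro x ⟨s, hs, hx⟩
    exact ⟨s, hs, by rw [hx]; exact hr.rel s hs⟩
  · intro s hs
    exact ⟨⟨r s, hr.mem s hs⟩, ⟨s, hs, rfl⟩, hr.rel s hs⟩

end Cfsg.Agent.Lib.Helper7.BNRestrict
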