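import Mathlib
import Cfsg.Agent.Lib.Helper12.U3Defs

set_option autoImplicit false
set_option linter.unusedSectionVars false

namespace Cfsg.Agent.Lib.Helper7.U3B

open Cfsg.Agent.Lib.Helper18.PSUMod Cfsg.Agent.Lib.Helper5.HermBridge Cfsg.Agent.Lib.Helper12.U3

noncomputable section

variable {F : Type*} [Field F] [Fintype F] {q : ℕ} (hF : Fintype.card F = q ^ 2)

/-- every endomorphism of `Fin 1 → F` is a scalar -/
theorem lin_fin_one (f : (Fin 1 → F) →ₗ[F] (Fin 1 → F)) (w : Fin 1 → F) : f w = (f 1 0) • w := by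
  have hw : w = (w 0) • (1 : Fin 1 → F) := by
    ext i; fin_cases i; simp
  conv_lhs => rw [hw]
  rw [map_smul]
  ext i; fin_cases i; simp [mul_comm]

theorem det_fin_one (f : (Fin 1 → F) →ₗ[F] (Fin 1 → F)) : LinearMap.det f = f 1 0 := by
  have h : f = (f 1 0) • LinearMap.id := by
    apply LinearMap.ext; intro w
    rw [lin_fin_one f w]; rfl
  conv_lhs => rw [h]
  rw [LinearMap.det_smul, LinearMap.det_id]
  simp

/-- the scalar by which an element acts on the middle coordinate -/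
def cm (g : GG hF) : F := Bof (g : V F 1 ≃ₗ[F] V F 1) 1 0

theorem Bof_eq (g : GG hF) (w : Fin 1 → F) :
    Bof (g : V F 1 ≃ₗ[F] V F 1) w = cm hF g • w := lin_fin_one _ w

theorem av_Le (l : GG hF) (hl : l ∈ LL hF) (x : V F 1) :
    av l x = (ca l * x.1, cm hF l • x.2.1, cb l * x.2.2) := by
  conv_lhs => rw [decomp x]
  rw [av_add, av_add, av_smul, av_smul, av_ve_of_mem_Pe hl.1, av_vf_of_mem_Pf hl.2,
    av_vw_of_mem_Le hl, Bof_eq]
  simp [ve, vf, vw, mul_comm]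

theorem det_Le (l : GG hF) (hl : l ∈ LL hF) : ca l * cm hF l * cb l = 1 := by
  have h1 : LinearEquiv.det (l : V F 1 ≃ₗ[F] V F 1) = 1 := ((mem_SUm _).1 l.2).2
  have h2 : ((l : V F 1 ≃ₗ[F] V F 1) : V F 1 →ₗ[F] V F 1) =
      dlin (ca l) (Bof (l : V F 1 ≃ₗ[F] V F 1)) (cb l) := by
    apply LinearMap.ext; intro x
    rw [dlin_apply, Bof_eq]
    exact av_Le hF l hl x
  have h3 := congrArg (fun u : Fˣ => (u : F)) h1
  simp only [LinearEquiv.coe_det, Units.val_one] at h3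
  rw [h2, det_dlin, det_fin_one] at h3
  exact h3

theorem ca_mul_of_mem (g g' : GG hF) (hg : g ∈ PP hF) (hg' : g' ∈ PP hF) :
    ca (g * g') = ca g * ca g' := by
  unfold ca
  rw [av_mul, av_ve_of_mem_Pe hg', av_smul, av_ve_of_mem_Pe hg]
  simp [ve, mul_comm]

theorem ca_one : ca (1 : GG hF) = 1 := by
  unfold ca; rw [av_one]; rfl

theorem ca_EG (x : ↥(HS (frobHom hF) (barOK_frob hF).invol 1)) :
    ca (EG (barOK_frob hF).invol x) = 1 := by
  unfold ca; rw [av_EG_ve]; rfl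

theorem ca_of_mem_QQ (g : GG hF) (hg : g ∈ QQ hF) : ca g = 1 := by
  obtain ⟨x, rfl⟩ := hg
  exact ca_EG hF x

/-- the homomorphism `ca : PP → Fˣ` -/
def caHom : ↥(PP hF) →* Fˣ where
  toFun k := Units.mk0 (ca (k : GG hF)) (ca_ne_zero k.2)
  map_one' := by
    apply Units.ext
    simp only [Units.val_mk0, Subgroup.coe_one, Units.val_one]
    exact ca_one hF
  map_mul' a b := by
    apply Units.ext
    simp only [Units.val_mk0, Subgroup.coe_mul, Units.val_mul]
    exact ca_mul_of_mem hF _ _ a.2 b.2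

theorem caHom_val (k : ↥(PP hF)) : ((caHom hF k : Fˣ) : F) = ca (k : GG hF) := rfl

theorem cb_eq (l : GG hF) (hl : l ∈ PP hF) : cb l = (frobHom hF (ca l))⁻¹ := by
  have h := ca_mul_cb hl
  have h2 := congrArg (frobHom hF) h
  rw [map_mul, (barOK_frob hF).invol, map_one] at h2
  exact eq_inv_of_mul_eq_one_right h2

theorem cm_eq (l : GG hF) (hl : l ∈ LL hF) : cm hF l = frobHom hF (ca l) * (ca l)⁻¹ := by
  have h := det_Le hF l hl
  rw [cb_eq hF l hl.1] at h
  have h1 : ca l ≠ 0 := ca_ne_zero hl.1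
  have h2 : frobHom hF (ca l) ≠ 0 := fun h' => h1 ((map_eq_zero _).1 h')
  field_simp at h
  field_simp
  linear_combination h

/-- `θ(λ) = λ^(2q-1)` -/
def th (a : F) : F := frobHom hF a * frobHom hF a * a⁻¹

/-- the norm `N(λ) = λ^(q+1)` -/
def nm (a : F) : F := a * frobHom hF a

theorem actL_Le (l : GG hF) (hl : l ∈ LL hF) (x : HP (frobHom hF) 1) :
    actL l x = ⟨th hF (ca l) • x.w, nm hF (ca l) * x.c⟩ := by
  unfold actL
  rw [Bof_eq, cm_eq hF l hl, cb_eq hF l hl.1, inv_inv, smul_smul]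
  unfold th nm
  congr 2
  ring

theorem eq_one_of_ca (l : GG hF) (hl : l ∈ LL hF) (h : ca l = 1) : l = 1 := by
  apply av_ext
  intro x
  rw [av_Le hF l hl, cm_eq hF l hl, cb_eq hF l hl.1, h, av_one]
  simp

theorem mem_QQ_of_ca (g : GG hF) (hg : g ∈ PP hF) (h : ca g = 1) : g ∈ QQ hF := by
  obtain ⟨x, l, hl, rfl⟩ := Pe_decomp (barOK_frob hF).invol hg
  have h1 : ca l = 1 := by
    rw [ca_mul_of_mem hF _ _ (Qe_le_Pe _ ⟨x, rfl⟩) hl.1, ca_EG, one_mul] at h
    exact h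
  rw [eq_one_of_ca hF l hl h1, mul_one]
  exact ⟨x, rfl⟩

theorem caHom_ker : (caHom hF).ker = (QQ hF).subgroupOf (PP hF) := by
  ext k
  rw [MonoidHom.mem_ker, Subgroup.mem_subgroupOf]
  constructor
  · intro h
    have h1 : ca (k : GG hF) = 1 := by
      have := congrArg (fun u : Fˣ => (u : F)) h
      simpa [caHom_val] using this
    exact mem_QQ_of_ca hF _ k.2 h1
  · intro h
    apply Units.ext
    rw [caHom_val, ca_of_mem_QQ hF _ h]; rfl

theorem exists_LL_ca (u : Fˣ) : ∃ l ∈ LL hF, ca l = (u : F) := by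
  obtain ⟨g, hg⟩ := exists_SUm_ca (barOK_frob hF) (le_refl 1) u.ne_zero
  have hgP : g ∈ PP hF := ⟨_, hg⟩
  obtain ⟨x, l, hl, rfl⟩ := Pe_decomp (barOK_frob hF).invol hgP
  refine ⟨l, hl, ?_⟩
  have h1 : ca (EG (barOK_frob hF).invol x * l) = (u : F) := by
    unfold ca; rw [hg]; simp [ve]
  rw [ca_mul_of_mem hF _ _ (Qe_le_Pe _ ⟨x, rfl⟩) hl.1, ca_EG, one_mul] at h1
  exact h1

theorem caHom_surj : Function.Surjective (caHom hF) := by
  intro u
  obtain ⟨l, hl, h⟩ := exists_LL_ca hF u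
  exact ⟨⟨l, hl.1⟩, Units.ext h⟩

end

end Cfsg.Agent.Lib.Helper7.U3B
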