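import Mathlib
import Cfsg.Agent.Lib.Helper7.U3Base

/-!
helper7: S2148 market "U3": shared infrastructure for the Borel leaves (subgroups `K ≤ PP`).

* `wq g`, `cq g`   : the coordinates `(w, c)` of an element `g = EG ⟨w, c⟩` of `QQ`;
* `wq_mul`, `cq_mul`, `cq_rel`, `mem_TT_iff`, `eq_one_of_wq_cq`;
* `wq_conj`, `cq_conj` : conjugation by `k ∈ PP` multiplies `w` by `th (ca k)`, and `c` by `nm (ca k)` on `TT`;
* `caK K hK`       : the homomorphism `ca : K → Fˣ`, `card_K : |K| = |K ⊓ QQ| * |range|`;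
* `wK K`           : the homomorphism `w : K ⊓ QQ → F`, `card_D : |K ⊓ QQ| = |K ⊓ TT| * |range|`.
-/

set_option autoImplicit false
set_option linter.unusedSectionVars false

namespace Cfsg.Agent.Lib.Helper7.U3B

open Cfsg.Agent.Lib.Helper18.PSUMod Cfsg.Agent.Lib.Helper5.HermBridge Cfsg.Agent.Lib.Helper12.U3

noncomputable section

variable {F : Type*} [Field F] [Fintype F] {q : ℕ} (hF : Fintype.card F = q ^ 2)

/-- the `w`-coordinate of an element of `QQ` -/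
def wq (g : GG hF) : F := (av g vf).2.1 0

/-- the `c`-coordinate of an element of `QQ` -/
def cq (g : GG hF) : F := (av g vf).1

theorem wq_EG (x : ↥(HS (frobHom hF) (barOK_frob hF).invol 1)) :
    wq hF (EG (barOK_frob hF).invol x) = (x : HP (frobHom hF) 1).w 0 := by
  unfold wq; rw [av_EG_vf]

theorem cq_EG (x : ↥(HS (frobHom hF) (barOK_frob hF).invol 1)) :
    cq hF (EG (barOK_frob hF).invol x) = (x : HP (frobHom hF) 1).c := by
  unfold cq; rw [av_EG_vf]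

theorem hW_one (w w' : Fin 1 → F) : hW (frobHom hF) w w' = w 0 * frobHom hF (w' 0) := by
  unfold hW; simp

theorem fin_one_ext {w w' : Fin 1 → F} (h : w 0 = w' 0) : w = w' := by
  ext i; fin_cases i; exact h

theorem wq_one : wq hF (1 : GG hF) = 0 := by
  unfold wq; rw [av_one]; rfl

theorem cq_one : cq hF (1 : GG hF) = 0 := by
  unfold cq; rw [av_one]; rfl

theorem wq_mul (g g' : GG hF) (hg : g ∈ QQ hF) (hg' : g' ∈ QQ hF) :
    wq hF (g * g') = wq hF g + wq hF g' := by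
  obtain ⟨x, rfl⟩ := hg
  obtain ⟨y, rfl⟩ := hg'
  rw [← map_mul, wq_EG, wq_EG, wq_EG]
  rfl

theorem cq_mul (g g' : GG hF) (hg : g ∈ QQ hF) (hg' : g' ∈ QQ hF) :
    cq hF (g * g') = cq hF g + cq hF g' - wq hF g' * frobHom hF (wq hF g) := by
  obtain ⟨x, rfl⟩ := hg
  obtain ⟨y, rfl⟩ := hg'
  rw [← map_mul, cq_EG, cq_EG, cq_EG, wq_EG, wq_EG, Subgroup.coe_mul, HP.mul_c, hW_one]

theorem wq_inv (g : GG hF) (hg : g ∈ QQ hF) : wq hF g⁻¹ = -wq hF g := by
  have h := wq_mul hF g g⁻¹ hg ((QQ hF).inv_mem hg)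
  rw [mul_inv_cancel, wq_one] at h
  linear_combination -h

theorem cq_rel (g : GG hF) (hg : g ∈ QQ hF) :
    cq hF g + frobHom hF (cq hF g) = -(wq hF g * frobHom hF (wq hF g)) := by
  obtain ⟨x, rfl⟩ := hg
  rw [cq_EG, wq_EG]
  have := x.2
  rw [mem_HS, hW_one] at this
  exact this

theorem mem_TT_iff (g : GG hF) (hg : g ∈ QQ hF) : g ∈ TT hF ↔ wq hF g = 0 := by
  obtain ⟨x, rfl⟩ := hg
  rw [wq_EG]
  constructor
  · intro h
    obtain ⟨y, hy, hxy⟩ := (mem_Te _).1 h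
    have := EG_injective _ hxy
    rw [← this, hy]; rfl
  · intro h
    exact (mem_Te _).2 ⟨x, fin_one_ext h, rfl⟩

theorem TT_le_QQ : TT hF ≤ QQ hF := Te_le_Qe _

theorem eq_one_of_wq_cq (g : GG hF) (hg : g ∈ QQ hF) (hw : wq hF g = 0) (hc : cq hF g = 0) :
    g = 1 := by
  obtain ⟨x, rfl⟩ := hg
  rw [wq_EG] at hw
  rw [cq_EG] at hc
  have : x = 1 := by
    apply Subtype.ext
    exact HP.ext (fin_one_ext hw) hc
  rw [this, map_one]

theorem eq_of_wq_cq (g g' : GG hF) (hg : g ∈ QQ hF) (hg' : g' ∈ QQ hF)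
    (hw : wq hF g = wq hF g') (hc : cq hF g = cq hF g') : g = g' := by
  obtain ⟨x, rfl⟩ := hg
  obtain ⟨y, rfl⟩ := hg'
  rw [wq_EG, wq_EG] at hw
  rw [cq_EG, cq_EG] at hc
  have : x = y := by
    apply Subtype.ext
    exact HP.ext (fin_one_ext hw) hc
  rw [this]

theorem ca_of_decomp (x : ↥(HS (frobHom hF) (barOK_frob hF).invol 1)) (l : GG hF)
    (hl : l ∈ LL hF) : ca (EG (barOK_frob hF).invol x * l) = ca l := by
  rw [ca_mul_of_mem hF _ _ (Qe_le_Pe _ ⟨x, rfl⟩) hl.1, ca_EG, one_mul]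

/-- conjugation by an element of `PP` on `QQ`: the `w`-coordinate -/
theorem conj_mem_QQ (k g : GG hF) (hk : k ∈ PP hF) (hg : g ∈ QQ hF) : k * g * k⁻¹ ∈ QQ hF :=
  Pe_normalizes_Qe _ hk hg

theorem conj_mem_TT (k g : GG hF) (hk : k ∈ PP hF) (hg : g ∈ TT hF) : k * g * k⁻¹ ∈ TT hF :=
  Pe_normalizes_Te _ hk hg

theorem wq_conj (k g : GG hF) (hk : k ∈ PP hF) (hg : g ∈ QQ hF) :
    wq hF (k * g * k⁻¹) = th hF (ca k) * wq hF g := by
  obtain ⟨z, l, hl, rfl⟩ := Pe_decomp (barOK_frob hF).invol hk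
  obtain ⟨x, rfl⟩ := hg
  have h1 : EG (barOK_frob hF).invol z * l * EG (barOK_frob hF).invol x *
      (EG (barOK_frob hF).invol z * l)⁻¹ =
      EG (barOK_frob hF).invol z * (l * EG (barOK_frob hF).invol x * l⁻¹) *
        (EG (barOK_frob hF).invol z)⁻¹ := by group
  rw [h1, Le_conj _ hl, ← map_inv, ← map_mul, ← map_mul, wq_EG, wq_EG, ca_of_decomp hF z l hl,
    Subgroup.coe_mul, Subgroup.coe_mul, Subgroup.coe_inv, conj_HP_w]
  simp only [actL_Le hF l hl]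
  rfl

theorem cq_conj (k g : GG hF) (hk : k ∈ PP hF) (hg : g ∈ TT hF) :
    cq hF (k * g * k⁻¹) = nm hF (ca k) * cq hF g := by
  obtain ⟨z, l, hl, rfl⟩ := Pe_decomp (barOK_frob hF).invol hk
  have hw := (mem_TT_iff hF g (TT_le_QQ hF hg)).1 hg
  obtain ⟨x, rfl⟩ := TT_le_QQ hF hg
  rw [wq_EG] at hw
  have h1 : EG (barOK_frob hF).invol z * l * EG (barOK_frob hF).invol x *
      (EG (barOK_frob hF).invol z * l)⁻¹ =
      EG (barOK_frob hF).invol z * (l * EG (barOK_frob hF).invol x * l⁻¹) *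
        (EG (barOK_frob hF).invol z)⁻¹ := by group
  rw [h1, Le_conj _ hl, ← map_inv, ← map_mul, ← map_mul, cq_EG, cq_EG, ca_of_decomp hF z l hl,
    Subgroup.coe_mul, Subgroup.coe_mul, Subgroup.coe_inv, conj_HP_c]
  simp only [actL_Le hF l hl, hW_one, Pi.smul_apply, smul_eq_mul, hw, mul_zero, map_zero,
    zero_mul, add_zero, sub_zero]

/-! ### subgroups of `PP` -/

variable (K : Subgroup (GG hF)) (hK : K ≤ PP hF)

/-- the restriction of `ca` to `K` -/
def caK : ↥K →* Fˣ := (caHom hF).comp (Subgroup.inclusion hK)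

theorem caK_val (k : ↥K) : ((caK hF K hK k : Fˣ) : F) = ca (k : GG hF) := rfl

theorem caK_ker : (caK hF K hK).ker = (QQ hF).subgroupOf K := by
  ext k
  rw [MonoidHom.mem_ker, Subgroup.mem_subgroupOf]
  constructor
  · intro h
    have h1 : ca (k : GG hF) = 1 := by
      have := congrArg (fun u : Fˣ => (u : F)) h
      simpa [caK_val] using this
    exact mem_QQ_of_ca hF _ (hK k.2) h1
  · intro h
    apply Units.ext
    rw [caK_val, ca_of_mem_QQ hF _ h]; rfl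

theorem card_subgroupOf_eq (A B : Subgroup (GG hF)) :
    Nat.card ↥(A.subgroupOf B) = Nat.card ↥(B ⊓ A) := by
  rw [← Subgroup.inf_subgroupOf_left]
  exact Nat.card_congr (Subgroup.subgroupOfEquivOfLe inf_le_left).toEquiv

/-- `|K| = |K ⊓ QQ| * |ca K|` -/
theorem card_K : Nat.card ↥K = Nat.card ↥(K ⊓ QQ hF) * Nat.card ↥(caK hF K hK).range := by
  rw [← Subgroup.card_mul_index (caK hF K hK).ker, Subgroup.index_ker, caK_ker,
    card_subgroupOf_eq]

theorem mem_caK_range (u : Fˣ) : u ∈ (caK hF K hK).range ↔ ∃ k ∈ K, ca k = (u : F) := by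
  constructor
  · rintro ⟨k, rfl⟩
    exact ⟨k, k.2, rfl⟩
  · rintro ⟨k, hk, h⟩
    exact ⟨⟨k, hk⟩, Units.ext h⟩

/-- the `w`-coordinate as a homomorphism on `K ⊓ QQ` -/
def wK : ↥(K ⊓ QQ hF) →* Multiplicative F where
  toFun d := Multiplicative.ofAdd (wq hF (d : GG hF))
  map_one' := by
    rw [Subgroup.coe_one, wq_one]; rfl
  map_mul' a b := by
    rw [Subgroup.coe_mul, wq_mul hF _ _ a.2.2 b.2.2]; rfl

theorem wK_ker : (wK hF K).ker = (TT hF).subgroupOf (K ⊓ QQ hF) := by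
  ext d
  rw [MonoidHom.mem_ker, Subgroup.mem_subgroupOf, mem_TT_iff hF _ d.2.2]
  rfl

theorem inf_QQ_inf_TT : K ⊓ QQ hF ⊓ TT hF = K ⊓ TT hF := by
  rw [inf_assoc, inf_eq_right.2 (TT_le_QQ hF)]

/-- `|K ⊓ QQ| = |K ⊓ TT| * |W|` -/
theorem card_D : Nat.card ↥(K ⊓ QQ hF) = Nat.card ↥(K ⊓ TT hF) * Nat.card ↥(wK hF K).range := by
  rw [← Subgroup.card_mul_index (wK hF K).ker, Subgroup.index_ker, wK_ker, card_subgroupOf_eq,
    inf_QQ_inf_TT]

theorem mem_wK_range (w : F) :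
    Multiplicative.ofAdd w ∈ (wK hF K).range ↔ ∃ d ∈ K ⊓ QQ hF, wq hF d = w := by
  constructor
  · rintro ⟨d, hd⟩
    exact ⟨d, d.2, Multiplicative.ofAdd.injective hd⟩
  · rintro ⟨d, hd, h⟩
    exact ⟨⟨d, hd⟩, congrArg Multiplicative.ofAdd h⟩

theorem card_wK_dvd : Nat.card ↥(wK hF K).range ∣ q ^ 2 := by
  have h := Subgroup.card_subgroup_dvd_card (wK hF K).range
  have h2 : Nat.card (Multiplicative F) = q ^ 2 := by
    rw [← hF, ← Nat.card_eq_fintype_card]; rfl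
  rwa [h2] at h

include hK in
/-- `W` is stable under the multiplication by `th (ca k)`, `k ∈ K` -/
theorem wK_stable (k : GG hF) (hk : k ∈ K) (w : F)
    (hw : Multiplicative.ofAdd w ∈ (wK hF K).range) :
    Multiplicative.ofAdd (th hF (ca k) * w) ∈ (wK hF K).range := by
  obtain ⟨d, hd, rfl⟩ := (mem_wK_range hF K w).1 hw
  refine (mem_wK_range hF K _).2 ⟨k * d * k⁻¹, ⟨K.mul_mem (K.mul_mem hk hd.1) (K.inv_mem hk),
    conj_mem_QQ hF k d (hK hk) hd.2⟩, wq_conj hF k d (hK hk) hd.2⟩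

end

end Cfsg.Agent.Lib.Helper7.U3B
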