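import Mathlib
import Cfsg.Agent.Lib.Helper7.U3Borel
import Cfsg.Agent.Lib.Helper20.U3CARDQ

/-!
helper7: S2148 market "U3": more shared infrastructure for the Borel leaves:
commutators in `QQ`, squares, the fixed field, the form `β(w, w') = w w'^q - w' w^q`.
-/

set_option autoImplicit false
set_option linter.unusedSectionVars false

namespace Cfsg.Agent.Lib.Helper7.U3B

open Cfsg.Agent.Lib.Helper18.PSUMod Cfsg.Agent.Lib.Helper5.HermBridge Cfsg.Agent.Lib.Helper12.U3

noncomputable section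

variable {F : Type*} [Field F] [Fintype F] {q : ℕ} (hF : Fintype.card F = q ^ 2)

theorem bar_bar (x : F) : frobHom hF (frobHom hF x) = x := (barOK_frob hF).invol x

/-- the fixed field has `q` elements -/
theorem card_fix : Nat.card {r : F // frobHom hF r = r} = q := by
  obtain ⟨c₀, h0, hc⟩ := (barOK_frob hF).sk
  rw [Nat.card_congr (Cfsg.Agent.Lib.Helper20.U3Leaf.trKerEquiv h0 hc),
    Cfsg.Agent.Lib.Helper20.U3Leaf.card_tr_ker hF]

theorem cq_inv (g : GG hF) (hg : g ∈ QQ hF) :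
    cq hF g⁻¹ = -cq hF g - wq hF g * frobHom hF (wq hF g) := by
  have h := cq_mul hF g g⁻¹ hg ((QQ hF).inv_mem hg)
  rw [mul_inv_cancel, cq_one, wq_inv hF g hg] at h
  linear_combination -h

/-- the commutator of two elements of `QQ` -/
theorem comm_mem_TT (g g' : GG hF) (hg : g ∈ QQ hF) (hg' : g' ∈ QQ hF) :
    g * g' * (g' * g)⁻¹ ∈ TT hF := by
  have h1 : g * g' ∈ QQ hF := (QQ hF).mul_mem hg hg'
  have h2 : g' * g ∈ QQ hF := (QQ hF).mul_mem hg' hg
  rw [mem_TT_iff hF _ ((QQ hF).mul_mem h1 ((QQ hF).inv_mem h2)),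
    wq_mul hF _ _ h1 ((QQ hF).inv_mem h2), wq_inv hF _ h2, wq_mul hF _ _ hg hg',
    wq_mul hF _ _ hg' hg]
  ring

theorem cq_comm (g g' : GG hF) (hg : g ∈ QQ hF) (hg' : g' ∈ QQ hF) :
    cq hF (g * g' * (g' * g)⁻¹) =
      wq hF g * frobHom hF (wq hF g') - wq hF g' * frobHom hF (wq hF g) := by
  have h1 : g * g' ∈ QQ hF := (QQ hF).mul_mem hg hg'
  have h2 : g' * g ∈ QQ hF := (QQ hF).mul_mem hg' hg
  rw [cq_mul hF _ _ h1 ((QQ hF).inv_mem h2), cq_inv hF _ h2, wq_inv hF _ h2,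
    cq_mul hF _ _ hg hg', cq_mul hF _ _ hg' hg, wq_mul hF _ _ hg hg', wq_mul hF _ _ hg' hg]
  simp only [map_add]
  ring

/-- the square of an element of `QQ` -/
theorem wq_sq (g : GG hF) (hg : g ∈ QQ hF) : wq hF (g * g) = 2 * wq hF g := by
  rw [wq_mul hF _ _ hg hg]; ring

theorem cq_sq (g : GG hF) (hg : g ∈ QQ hF) :
    cq hF (g * g) = 2 * cq hF g - wq hF g * frobHom hF (wq hF g) := by
  rw [cq_mul hF _ _ hg hg]; ring

theorem cq_mul_TT (g g' : GG hF) (hg : g ∈ QQ hF) (hg' : g' ∈ TT hF) :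
    cq hF (g * g') = cq hF g + cq hF g' := by
  rw [cq_mul hF _ _ hg (TT_le_QQ hF hg'), (mem_TT_iff hF _ (TT_le_QQ hF hg')).1 hg']
  ring

/-- the norm of a nonzero element is nonzero -/
theorem nm_ne_zero {a : F} (ha : a ≠ 0) : a * frobHom hF a ≠ 0 :=
  mul_ne_zero ha (fun h => ha ((map_eq_zero _).1 h))

/-- a set of field elements `w'` with `β(w₀, w') = 0` has at most `q` elements -/
theorem card_le_of_beta_zero (S : Set F) (w₀ : F) (hw₀ : w₀ ≠ 0)
    (h : ∀ w' ∈ S, w₀ * frobHom hF w' - w' * frobHom hF w₀ = 0) : Nat.card ↥S ≤ q := by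
  have hb0 : frobHom hF w₀ ≠ 0 := fun h' => hw₀ ((map_eq_zero _).1 h')
  rw [← card_fix hF]
  refine Nat.card_le_card_of_injective
    (fun w' : ↥S => (⟨(w' : F) * w₀⁻¹, by
      rw [map_mul, map_inv₀]
      have := h w' w'.2
      field_simp
      linear_combination this⟩ : {r : F // frobHom hF r = r})) ?_
  intro a b hab
  have h1 : (a : F) * w₀⁻¹ = (b : F) * w₀⁻¹ := congrArg Subtype.val hab
  apply Subtype.ext
  exact mul_right_cancel₀ (inv_ne_zero hw₀) h1

/-- the additive map `w' ↦ β(w₀, w')` on a subgroup of `(F, +)` -/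
def betaHom (A : Subgroup (Multiplicative F)) (w₀ : F) : ↥A →* Multiplicative F where
  toFun a := Multiplicative.ofAdd (w₀ * frobHom hF (Multiplicative.toAdd (a : Multiplicative F)) -
    Multiplicative.toAdd (a : Multiplicative F) * frobHom hF w₀)
  map_one' := by
    simp
  map_mul' a b := by
    rw [← ofAdd_add]
    congr 1
    simp only [Subgroup.coe_mul, toAdd_mul, map_add]
    ring

theorem card_ker_betaHom_le (A : Subgroup (Multiplicative F)) (w₀ : F) (hw₀ : w₀ ≠ 0) :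
    Nat.card ↥(betaHom hF A w₀).ker ≤ q := by
  have h1 := card_le_of_beta_zero hF
    {w' : F | ∃ a : ↥A, a ∈ (betaHom hF A w₀).ker ∧ Multiplicative.toAdd (a : Multiplicative F) = w'}
    w₀ hw₀ (by
      rintro w' ⟨a, ha, rfl⟩
      rw [MonoidHom.mem_ker] at ha
      exact Multiplicative.ofAdd.injective ha)
  refine le_trans (Nat.card_le_card_of_injective
    (fun a : ↥(betaHom hF A w₀).ker =>
      (⟨Multiplicative.toAdd ((a : ↥A) : Multiplicative F), ⟨a, a.2, rfl⟩⟩ :
        ↥{w' : F | ∃ a : ↥A, a ∈ (betaHom hF A w₀).ker ∧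
          Multiplicative.toAdd (a : Multiplicative F) = w'})) ?_) h1
  intro a b hab
  have h2 : Multiplicative.toAdd ((a : ↥A) : Multiplicative F) =
      Multiplicative.toAdd ((b : ↥A) : Multiplicative F) := by
    have := congrArg Subtype.val hab
    dsimp only at this
    exact this
  apply Subtype.ext
  apply Subtype.ext
  exact Multiplicative.toAdd.injective h2

/-- `|A| ≤ q * |β(w₀, A)|` -/
theorem card_le_mul_range (A : Subgroup (Multiplicative F)) (w₀ : F) (hw₀ : w₀ ≠ 0) :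
    Nat.card ↥A ≤ q * Nat.card ↥(betaHom hF A w₀).range := by
  rw [← Subgroup.card_mul_index (betaHom hF A w₀).ker, Subgroup.index_ker]
  exact Nat.mul_le_mul_right _ (card_ker_betaHom_le hF A w₀ hw₀)

end

end Cfsg.Agent.Lib.Helper7.U3B
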