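import Mathlib
import Cfsg.Agent.Lib.Helper7.U3Borel2

/-!
helper7: S2148 market "U3", leaf BG9 (`borel_gamma9`).
-/

set_option autoImplicit false
set_option linter.unusedSectionVars false

namespace Cfsg.Agent.Lib.Helper7.U3Leaf

open Cfsg.Agent.Lib.Helper18.PSUMod Cfsg.Agent.Lib.Helper5.HermBridge Cfsg.Agent.Lib.Helper12.U3
open Cfsg.Agent.Lib.Helper7.U3B

section borel

variable {F : Type*} [Field F] [Fintype F] {q : ℕ} (hF : Fintype.card F = q ^ 2)

/-- the `c`-coordinates of a subgroup of order three of `TT` -/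
theorem E3_values (h3 : (3 : F) = 0) (K : Subgroup (GG hF))
    (hE : Nat.card ↥(K ⊓ TT hF) = 3) :
    ∃ c₀ : F, c₀ ≠ 0 ∧ (∃ e₀ ∈ K ⊓ TT hF, cq hF e₀ = c₀) ∧
      ∀ e ∈ K ⊓ TT hF, cq hF e = 0 ∨ cq hF e = c₀ ∨ cq hF e = -c₀ := by
  classical
  have hne : K ⊓ TT hF ≠ ⊥ := by
    rw [← Subgroup.one_lt_card_iff_ne_bot, hE]; norm_num
  obtain ⟨⟨e₀, he₀⟩, hne1⟩ := Subgroup.ne_bot_iff_exists_ne_one.1 hne
  have he₀1 : e₀ ≠ 1 := fun h => hne1 (Subtype.ext h)
  have hTQ : ∀ e ∈ K ⊓ TT hF, e ∈ QQ hF := fun e he => TT_le_QQ hF he.2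
  have hw0 : ∀ e ∈ K ⊓ TT hF, wq hF e = 0 := fun e he => (mem_TT_iff hF e (hTQ e he)).1 he.2
  have hc0 : cq hF e₀ ≠ 0 := by
    intro h
    exact he₀1 (eq_one_of_wq_cq hF e₀ (hTQ e₀ he₀) (hw0 e₀ he₀) h)
  refine ⟨cq hF e₀, hc0, ⟨e₀, he₀, rfl⟩, ?_⟩
  letI : Fintype ↥(K ⊓ TT hF) := Fintype.ofFinite _
  let f : ↥(K ⊓ TT hF) → F := fun e => cq hF (e : GG hF)
  have hf : Function.Injective f := by
    intro a b hab
    apply Subtype.ext
    exact eq_of_wq_cq hF _ _ (hTQ _ a.2) (hTQ _ b.2) (by rw [hw0 _ a.2, hw0 _ b.2]) hab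
  have hcardI : (Finset.univ.image f).card = 3 := by
    rw [Finset.card_image_of_injective _ hf, Finset.card_univ, ← Nat.card_eq_fintype_card, hE]
  have h2c : cq hF e₀ ≠ -cq hF e₀ := by
    intro h
    apply hc0
    have h4 : (3 : F) * cq hF e₀ = 0 := by rw [h3, zero_mul]
    linear_combination h4 - h
  have hsub : ({0, cq hF e₀, -cq hF e₀} : Finset F) ⊆ Finset.univ.image f := by
    intro x hx
    simp only [Finset.mem_insert, Finset.mem_singleton] at hx
    rw [Finset.mem_image]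
    rcases hx with rfl | rfl | rfl
    · exact ⟨1, Finset.mem_univ _, cq_one hF⟩
    · exact ⟨⟨e₀, he₀⟩, Finset.mem_univ _, rfl⟩
    · refine ⟨⟨e₀⁻¹, (K ⊓ TT hF).inv_mem he₀⟩, Finset.mem_univ _, ?_⟩
      show cq hF e₀⁻¹ = -cq hF e₀
      rw [cq_inv hF _ (hTQ _ he₀), hw0 _ he₀, zero_mul, sub_zero]
  have hcard3 : ({0, cq hF e₀, -cq hF e₀} : Finset F).card = 3 := by
    rw [Finset.card_insert_of_notMem, Finset.card_insert_of_notMem, Finset.card_singleton]
    · simpa using h2c
    · simp only [Finset.mem_insert, Finset.mem_singleton, not_or]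
      exact ⟨fun h => hc0 h.symm, fun h => hc0 (by linear_combination h)⟩
  have heq := Finset.eq_of_subset_of_card_le hsub (by rw [hcardI, hcard3])
  intro e he
  have : f ⟨e, he⟩ ∈ Finset.univ.image f := Finset.mem_image_of_mem _ (Finset.mem_univ _)
  rw [← heq] at this
  simpa using this

/-- the values of the commutator form on `W` lie in the `c`-coordinates of `K ⊓ TT` -/
theorem beta_mem (K : Subgroup (GG hF)) (d d' : GG hF) (hd : d ∈ K ⊓ QQ hF)
    (hd' : d' ∈ K ⊓ QQ hF) :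
    ∃ e ∈ K ⊓ TT hF, cq hF e =
      wq hF d * frobHom hF (wq hF d') - wq hF d' * frobHom hF (wq hF d) :=
  ⟨d * d' * (d' * d)⁻¹, ⟨K.mul_mem (K.mul_mem hd.1 hd'.1) (K.inv_mem (K.mul_mem hd'.1 hd.1)),
    comm_mem_TT hF d d' hd.2 hd'.2⟩, cq_comm hF d d' hd.2 hd'.2⟩

/-- an element of order five in `ca K` forces `W = 0` -/
theorem no_five (hq : q = 9) (K : Subgroup (GG hF)) (hK : K ≤ PP hF) (c₀ : F) (hc₀ : c₀ ≠ 0)
    (hval : ∀ e ∈ K ⊓ TT hF, cq hF e = 0 ∨ cq hF e = c₀ ∨ cq hF e = -c₀)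
    (k : GG hF) (hk : k ∈ K) (h5 : ca k ^ 5 = 1) (h1 : ca k ≠ 1)
    (d : GG hF) (hd : d ∈ K ⊓ QQ hF) : wq hF d = 0 := by
  by_contra hw
  set l := ca k with hl
  have hl0 : l ≠ 0 := ca_ne_zero (hK hk)
  have hth : th hF l = l ^ 2 := by
    unfold th
    rw [frob_apply, hq]
    field_simp
    calc l ^ 15 = (l ^ 5) ^ 3 := by ring
      _ = 1 := by rw [h5]; ring
  have hconj : ∀ g ∈ K ⊓ QQ hF, k * g * k⁻¹ ∈ K ⊓ QQ hF := fun g hg =>
    ⟨K.mul_mem (K.mul_mem hk hg.1) (K.inv_mem hk), conj_mem_QQ hF k g (hK hk) hg.2⟩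
  have hd1 := hconj d hd
  have hd2 := hconj _ hd1
  have hw1 : wq hF (k * d * k⁻¹) = l ^ 2 * wq hF d := by
    rw [wq_conj hF k d (hK hk) hd.2, ← hl, hth]
  have hw2 : wq hF (k * (k * d * k⁻¹) * k⁻¹) = l ^ 4 * wq hF d := by
    rw [wq_conj hF k _ (hK hk) hd1.2, ← hl, hth, hw1]; ring
  obtain ⟨e1, he1, hc1⟩ := beta_mem hF K d _ hd hd1
  obtain ⟨e2, he2, hc2⟩ := beta_mem hF K d _ hd hd2
  rw [hw1] at hc1
  rw [hw2] at hc2
  set w := wq hF d with hwdef
  set n := w * frobHom hF w with hn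
  have hn0 : n ≠ 0 := nm_ne_zero hF hw
  have hbl : frobHom hF l = l ^ 4 := by
    rw [frob_apply, hq]
    calc l ^ 9 = l ^ 5 * l ^ 4 := by ring
      _ = l ^ 4 := by rw [h5, one_mul]
  have hA : cq hF e1 = (l ^ 3 - l ^ 2) * n := by
    rw [hc1, map_mul, map_pow, hbl, hn]
    have : (l ^ 4) ^ 2 = l ^ 3 := by
      calc (l ^ 4) ^ 2 = l ^ 5 * l ^ 3 := by ring
        _ = l ^ 3 := by rw [h5, one_mul]
    rw [this]; ring
  have hB : cq hF e2 = (l - l ^ 4) * n := by
    rw [hc2, map_mul, map_pow, hbl, hn]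
    have : (l ^ 4) ^ 4 = l := by
      calc (l ^ 4) ^ 4 = (l ^ 5) ^ 3 * l := by ring
        _ = l := by rw [h5]; ring
    rw [this]; ring
  have hA0 : (l ^ 3 - l ^ 2) * n ≠ 0 := by
    apply mul_ne_zero _ hn0
    intro h
    apply h1
    have : l ^ 2 * (l - 1) = 0 := by linear_combination h
    rcases mul_eq_zero.1 this with h' | h'
    · exact absurd ((pow_eq_zero_iff two_ne_zero).1 h') hl0
    · exact sub_eq_zero.1 h'
  have hB0 : (l - l ^ 4) * n ≠ 0 := by
    apply mul_ne_zero _ hn0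
    intro h
    apply h1
    have h3 : l ^ 3 = 1 := by
      have : l * (1 - l ^ 3) = 0 := by linear_combination h
      rcases mul_eq_zero.1 this with h' | h'
      · exact absurd h' hl0
      · exact (sub_eq_zero.1 h').symm
    have h2 : l ^ 2 = 1 := by
      calc l ^ 2 = l ^ 3 * l ^ 2 := by rw [h3, one_mul]
        _ = 1 := by rw [← h5]; ring
    calc l = l ^ 3 * (l ^ 2)⁻¹ := by field_simp
      _ = 1 := by rw [h3, h2]; simp
  -- B = (l^3 + l^2)⁻¹... : relation  (l - l^4) = (l^3 + l^2) * (l^3 - l^2) * l^... 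
  have hrel : (l - l ^ 4) * n = (l ^ 3 + l ^ 2) * ((l ^ 3 - l ^ 2) * n) := by
    have h6 : l ^ 6 = l := by
      calc l ^ 6 = l ^ 5 * l := by ring
        _ = l := by rw [h5, one_mul]
    linear_combination (-n) * h6
  have hsum : l ^ 3 + l ^ 2 = 1 ∨ l ^ 3 + l ^ 2 = -1 := by
    rcases hval e1 he1 with h | h | h
    · exact absurd (hA ▸ h) hA0
    · rcases hval e2 he2 with h' | h' | h'
      · exact absurd (hB ▸ h') hB0
      · left
        rw [hA] at h; rw [hB, hrel, h] at h'
        have : (l ^ 3 + l ^ 2 - 1) * c₀ = 0 := by linear_combination h'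
        rcases mul_eq_zero.1 this with h'' | h''
        · linear_combination h''
        · exact absurd h'' hc₀
      · right
        rw [hA] at h; rw [hB, hrel, h] at h'
        have : (l ^ 3 + l ^ 2 + 1) * c₀ = 0 := by linear_combination h'
        rcases mul_eq_zero.1 this with h'' | h''
        · linear_combination h''
        · exact absurd h'' hc₀
    · rcases hval e2 he2 with h' | h' | h'
      · exact absurd (hB ▸ h') hB0
      · right
        rw [hA] at h; rw [hB, hrel, h] at h'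
        have : (l ^ 3 + l ^ 2 + 1) * c₀ = 0 := by linear_combination -h'
        rcases mul_eq_zero.1 this with h'' | h''
        · linear_combination h''
        · exact absurd h'' hc₀
      · left
        rw [hA] at h; rw [hB, hrel, h] at h'
        have : (l ^ 3 + l ^ 2 - 1) * c₀ = 0 := by linear_combination -h'
        rcases mul_eq_zero.1 this with h'' | h''
        · linear_combination h''
        · exact absurd h'' hc₀
  rcases hsum with h | h
  · -- x^5 - 1 = (x^3+x^2-1)(x^2-x+1) - x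
    apply hl0
    linear_combination (l ^ 2 - l + 1) * h - h5
  · -- μ = l^2: μ^3 = 1 and μ^5 = 1 give μ = 1
    apply h1
    have hm3 : l ^ 6 = 1 := by
      linear_combination (l ^ 2 - 1) * l ^ 2 * h - (l ^ 2 - 1) * h5
    calc l = l ^ 6 * (l ^ 5)⁻¹ := by field_simp
      _ = 1 := by rw [hm3, h5]; simp

theorem wK_range_eq_bot (K : Subgroup (GG hF)) (h : ∀ d ∈ K ⊓ QQ hF, wq hF d = 0) :
    (wK hF K).range = ⊥ := by
  rw [Subgroup.eq_bot_iff_forall]
  rintro x ⟨d, rfl⟩
  show Multiplicative.ofAdd (wq hF (d : GG hF)) = 1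
  rw [h d d.2]; rfl

theorem betaHom_apply_wK (K : Subgroup (GG hF)) (w₀ : F) (a : ↥(wK hF K).range)
    (d : ↥(K ⊓ QQ hF)) (hd : wK hF K d = (a : Multiplicative F)) :
    betaHom hF (wK hF K).range w₀ a = Multiplicative.ofAdd
      (w₀ * frobHom hF (wq hF (d : GG hF)) - wq hF (d : GG hF) * frobHom hF w₀) := by
  show Multiplicative.ofAdd (w₀ * frobHom hF (Multiplicative.toAdd (a : Multiplicative F)) -
    Multiplicative.toAdd (a : Multiplicative F) * frobHom hF w₀) = _
  rw [← hd]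
  rfl

/-- `|W| ≤ 27` -/
theorem W_le_27 (hq : q = 9) (K : Subgroup (GG hF)) (c₀ : F)
    (hval : ∀ e ∈ K ⊓ TT hF, cq hF e = 0 ∨ cq hF e = c₀ ∨ cq hF e = -c₀) :
    Nat.card ↥(wK hF K).range ≤ 27 := by
  classical
  by_cases h : ∃ d ∈ K ⊓ QQ hF, wq hF d ≠ 0
  · obtain ⟨d₀, hd₀, hw₀⟩ := h
    have h1 := card_le_mul_range hF (wK hF K).range (wq hF d₀) hw₀
    have h2 : Nat.card ↥(betaHom hF (wK hF K).range (wq hF d₀)).range ≤ 3 := by
      have hsub : ((betaHom hF (wK hF K).range (wq hF d₀)).range : Set (Multiplicative F)) ⊆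
          ↑({Multiplicative.ofAdd (0 : F), Multiplicative.ofAdd c₀,
            Multiplicative.ofAdd (-c₀)} : Finset (Multiplicative F)) := by
        rintro x ⟨a, rfl⟩
        obtain ⟨d, hd⟩ := a.2
        obtain ⟨e, he, hce⟩ := beta_mem hF K d₀ d hd₀ d.2
        rw [betaHom_apply_wK hF K _ a d hd, ← hce]
        simp only [Finset.coe_insert, Finset.coe_singleton, Set.mem_insert_iff,
          Set.mem_singleton_iff]
        rcases hval e he with h | h | h
        · left; rw [h]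
        · right; left; rw [h]
        · right; right; rw [h]
      have h3 : Nat.card ↥(betaHom hF (wK hF K).range (wq hF d₀)).range =
          ((betaHom hF (wK hF K).range (wq hF d₀)).range : Set (Multiplicative F)).ncard :=
        Nat.card_coe_set_eq _
      rw [h3]
      refine le_trans (Set.ncard_le_ncard hsub (Finset.finite_toSet _)) ?_
      rw [Set.ncard_coe_finset]
      exact Finset.card_le_three
    calc _ ≤ q * _ := h1
      _ ≤ 9 * _ := Nat.mul_le_mul_right _ (le_of_eq hq)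
      _ ≤ 9 * 3 := Nat.mul_le_mul_left _ h2
  · push_neg at h
    rw [wK_range_eq_bot hF K h, Subgroup.card_bot]
    norm_num

/-- an element of order four in `ca K` forces `|W| ≤ 9` -/
theorem W_le_9_of_four (h3 : (3 : F) = 0) (hq : q = 9) (K : Subgroup (GG hF)) (hK : K ≤ PP hF)
    (c₀ : F) (hc₀ : c₀ ≠ 0)
    (hval : ∀ e ∈ K ⊓ TT hF, cq hF e = 0 ∨ cq hF e = c₀ ∨ cq hF e = -c₀)
    (k : GG hF) (hk : k ∈ K) (hi : ca k ^ 2 = -1) : Nat.card ↥(wK hF K).range ≤ 9 := by
  classical
  set i := ca k with hidef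
  have hi0 : i ≠ 0 := ca_ne_zero (hK hk)
  have hi4 : i ^ 4 = 1 := by
    calc i ^ 4 = (i ^ 2) ^ 2 := by ring
      _ = 1 := by rw [hi]; ring
  have hbi : frobHom hF i = i := by
    rw [frob_apply, hq]
    calc i ^ 9 = (i ^ 4) ^ 2 * i := by ring
      _ = i := by rw [hi4]; ring
  have hth : th hF i = i := by
    unfold th
    rw [hbi]
    field_simp
  have h1ne : (1 : F) ≠ -1 := by
    intro h
    have h2 : (2 : F) = 0 := by linear_combination h
    have : (1 : F) = 0 := by linear_combination h3 - h2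
    exact one_ne_zero this
  have hzero : ∀ d ∈ K ⊓ QQ hF, ∀ d' ∈ K ⊓ QQ hF,
      wq hF d * frobHom hF (wq hF d') - wq hF d' * frobHom hF (wq hF d) = 0 := by
    intro d hd d' hd'
    have hd'' : k * d' * k⁻¹ ∈ K ⊓ QQ hF :=
      ⟨K.mul_mem (K.mul_mem hk hd'.1) (K.inv_mem hk), conj_mem_QQ hF k d' (hK hk) hd'.2⟩
    obtain ⟨e1, he1, hc1⟩ := beta_mem hF K d d' hd hd'
    obtain ⟨e2, he2, hc2⟩ := beta_mem hF K d _ hd hd''
    rw [wq_conj hF k d' (hK hk) hd'.2, ← hidef, hth] at hc2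
    have h21 : cq hF e2 = i * cq hF e1 := by
      rw [hc1, hc2, map_mul, hbi]; ring
    rw [← hc1]
    have key : ∀ s : F, (s = 1 ∨ s = -1) → cq hF e1 = s * c₀ → False := by
      intro s hs h
      rw [h] at h21
      have hs0 : s ≠ 0 := by rcases hs with rfl | rfl <;> simp
      have hss : s * s = 1 := by rcases hs with rfl | rfl <;> ring
      rcases hval e2 he2 with h' | h' | h'
      · rw [h21] at h'
        exact mul_ne_zero hi0 (mul_ne_zero hs0 hc₀) h'
      · rw [h21] at h'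
        have h5 : (i * s - 1) * c₀ = 0 := by linear_combination h'
        rcases mul_eq_zero.1 h5 with h6 | h6
        · have h7 : i = s := by linear_combination s * h6 - i * hss
          rw [h7] at hi
          rcases hs with rfl | rfl
          · exact h1ne (by linear_combination hi)
          · exact h1ne (by linear_combination hi)
        · exact hc₀ h6
      · rw [h21] at h'
        have h5 : (i * s + 1) * c₀ = 0 := by linear_combination h'
        rcases mul_eq_zero.1 h5 with h6 | h6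
        · have h7 : i = -s := by linear_combination s * h6 - i * hss
          rw [h7] at hi
          rcases hs with rfl | rfl
          · exact h1ne (by linear_combination hi)
          · exact h1ne (by linear_combination hi)
        · exact hc₀ h6
    rcases hval e1 he1 with h | h | h
    · exact h
    · exact absurd (by rw [h, one_mul]) (key 1 (Or.inl rfl))
    · exact absurd (by rw [h]; ring) (key (-1) (Or.inr rfl))
  by_cases h : ∃ d ∈ K ⊓ QQ hF, wq hF d ≠ 0
  · obtain ⟨d₀, hd₀, hw₀⟩ := h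
    have h1 := card_le_mul_range hF (wK hF K).range (wq hF d₀) hw₀
    have h2 : (betaHom hF (wK hF K).range (wq hF d₀)).range = ⊥ := by
      rw [Subgroup.eq_bot_iff_forall]
      rintro x ⟨a, rfl⟩
      obtain ⟨d, hd⟩ := a.2
      rw [betaHom_apply_wK hF K _ a d hd, hzero d₀ hd₀ d d.2]
      rfl
    rw [h2, Subgroup.card_bot, mul_one] at h1
    exact le_trans h1 (le_of_eq hq)
  · push_neg at h
    rw [wK_range_eq_bot hF K h, Subgroup.card_bot]
    norm_num

/-- B2 -/
theorem borel_gamma9 (hq : q = 9) (K : Subgroup (GG hF)) (hK : K ≤ PP hF)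
    (hE : Nat.card ↥(K ⊓ TT hF) = 3) (hcard : 80 ≤ Nat.card K) :
    Nat.card K = 108 ∨ Nat.card K = 162 ∨ Nat.card K = 81 := by
  classical
  have h3 : (3 : F) = 0 := by
    have h := Nat.cast_card_eq_zero F
    rw [hF] at h
    have h81 : ((q ^ 2 : ℕ) : F) = (3 : F) ^ 4 := by
      rw [hq]; norm_num
    rw [h81] at h
    exact (pow_eq_zero_iff (by norm_num)).1 h
  obtain ⟨c₀, hc₀, ⟨e₀, he₀, hce₀⟩, hval⟩ := E3_values hF h3 K hE
  have hnm : ∀ k ∈ K, nm hF (ca k) = 1 ∨ nm hF (ca k) = -1 := by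
    intro k hk
    have h1 : k * e₀ * k⁻¹ ∈ K ⊓ TT hF :=
      ⟨K.mul_mem (K.mul_mem hk he₀.1) (K.inv_mem hk), conj_mem_TT hF k e₀ (hK hk) he₀.2⟩
    have h2 := cq_conj hF k e₀ (hK hk) he₀.2
    rw [hce₀] at h2
    have hn0 : nm hF (ca k) ≠ 0 := nm_ne_zero hF (ca_ne_zero (hK hk))
    rcases hval _ h1 with h | h | h
    · rw [h2] at h; exact absurd h (mul_ne_zero hn0 hc₀)
    · left; rw [h2] at h; exact mul_right_cancel₀ hc₀ (by rw [h, one_mul])
    · right; rw [h2] at h; exact mul_right_cancel₀ hc₀ (by rw [h]; ring)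
  have hpow20 : ∀ k ∈ K, ca k ^ 20 = 1 := by
    intro k hk
    have := hnm k hk
    unfold nm at this
    have hb9 : frobHom hF (ca k) = ca k ^ 9 := by
      rw [frob_apply]; exact congrArg (fun n => ca k ^ n) hq
    rw [hb9] at this
    rcases this with h | h
    · calc ca k ^ 20 = (ca k * ca k ^ 9) ^ 2 := by ring
        _ = 1 := by rw [h]; ring
    · calc ca k ^ 20 = (ca k * ca k ^ 9) ^ 2 := by ring
        _ = 1 := by rw [h]; ring
  obtain ⟨t, ht⟩ : ∃ t, t = Nat.card ↥(caK hF K hK).range := ⟨_, rfl⟩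
  obtain ⟨W, hW⟩ : ∃ W, W = Nat.card ↥(wK hF K).range := ⟨_, rfl⟩
  have hKcard : Nat.card K = 3 * W * t := by
    rw [card_K hF K hK, card_D hF K, hE, ← ht, ← hW]
  have hpowR : ∀ u : ↥(caK hF K hK).range, u ^ 20 = 1 := by
    rintro ⟨u, k, rfl⟩
    apply Subtype.ext
    apply Units.ext
    have := hpow20 k k.2
    simpa [caK_val] using this
  have ht20 : t ∣ 20 := by
    rw [ht, ← IsCyclic.exponent_eq_card]
    exact Monoid.exponent_dvd_of_forall_pow_eq_one hpowR
  have hWdvd : W ∣ 81 := by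
    have := card_wK_dvd hF K
    rw [← hW] at this
    have h81 : q ^ 2 = 81 := by rw [hq]; norm_num
    exact h81 ▸ this
  have hW27 : W ≤ 27 := hW ▸ W_le_27 hF hq K c₀ hval
  have h5 : ¬ 5 ∣ t := by
    intro h5
    haveI : Fact (Nat.Prime 5) := ⟨by norm_num⟩
    obtain ⟨u, hu⟩ := exists_prime_orderOf_dvd_card' (G := ↥(caK hF K hK).range) 5 (ht ▸ h5)
    obtain ⟨k, hk⟩ := u.2
    have hcak : ca (k : GG hF) = (((u : ↥(caK hF K hK).range) : Fˣ) : F) := by
      rw [← hk]; rfl
    have hu5 : ca (k : GG hF) ^ 5 = 1 := by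
      have h := pow_orderOf_eq_one u
      rw [hu] at h
      have h' := congrArg (fun v : ↥(caK hF K hK).range => ((v : Fˣ) : F)) h
      simp only [Subgroup.coe_pow, Units.val_pow_eq_pow_val, Subgroup.coe_one, Units.val_one] at h'
      rw [hcak]; exact h'
    have hu1 : ca (k : GG hF) ≠ 1 := by
      intro h
      have h' : u = 1 := by
        apply Subtype.ext
        apply Units.ext
        rw [← hcak, h]; rfl
      rw [h', orderOf_one] at hu
      norm_num at hu
    have hall : ∀ d ∈ K ⊓ QQ hF, wq hF d = 0 := fun d hd =>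
      no_five hF hq K hK c₀ hc₀ hval k k.2 hu5 hu1 d hd
    have hW1 : W = 1 := by
      rw [hW, wK_range_eq_bot hF K hall, Subgroup.card_bot]
    have : t ≤ 20 := Nat.le_of_dvd (by norm_num) ht20
    rw [hKcard, hW1] at hcard
    omega
  have ht4 : t ∣ 4 := by
    have hcop : Nat.Coprime t 5 :=
      (Nat.Coprime.symm ((Nat.Prime.coprime_iff_not_dvd (by norm_num)).2 h5))
    exact hcop.dvd_of_dvd_mul_right (by simpa using ht20)
  have ht4' : t = 4 → W ≤ 9 := by
    intro h4
    obtain ⟨u, hu⟩ := IsCyclic.exists_ofOrder_eq_natCard (α := ↥(caK hF K hK).range)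
    rw [← ht, h4] at hu
    obtain ⟨k, hk⟩ := u.2
    have hcak : ca (k : GG hF) = (((u : ↥(caK hF K hK).range) : Fˣ) : F) := by
      rw [← hk]; rfl
    have hu4 : ca (k : GG hF) ^ 4 = 1 := by
      have h := pow_orderOf_eq_one u
      rw [hu] at h
      have h' := congrArg (fun v : ↥(caK hF K hK).range => ((v : Fˣ) : F)) h
      simp only [Subgroup.coe_pow, Units.val_pow_eq_pow_val, Subgroup.coe_one, Units.val_one] at h'
      rw [hcak]; exact h'
    have hu2 : ca (k : GG hF) ^ 2 ≠ 1 := by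
      intro h
      have h' : u ^ 2 = 1 := by
        apply Subtype.ext
        apply Units.ext
        simp only [Subgroup.coe_pow, Units.val_pow_eq_pow_val, Subgroup.coe_one, Units.val_one]
        rw [← hcak]; exact h
      have := orderOf_dvd_of_pow_eq_one h'
      rw [hu] at this
      norm_num at this
    have hi : ca (k : GG hF) ^ 2 = -1 := by
      have h : (ca (k : GG hF) ^ 2 - 1) * (ca (k : GG hF) ^ 2 + 1) = 0 := by
        linear_combination hu4
      rcases mul_eq_zero.1 h with h' | h'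
      · exact absurd (sub_eq_zero.1 h') hu2
      · linear_combination h'
    exact hW ▸ W_le_9_of_four hF h3 hq K hK c₀ hc₀ hval k k.2 hi
  have ht_cases : t = 1 ∨ t = 2 ∨ t = 4 := by
    have h4 : t ≤ 4 := Nat.le_of_dvd (by norm_num) ht4
    have h0 : 0 < t := Nat.pos_of_dvd_of_pos ht4 (by norm_num)
    interval_cases t
    · left; rfl
    · right; left; rfl
    · norm_num at ht4
    · right; right; rfl
  have hW_cases : W = 1 ∨ W = 3 ∨ W = 9 ∨ W = 27 ∨ W = 81 := by
    have h1 : W ∈ Nat.divisors 81 := Nat.mem_divisors.2 ⟨hWdvd, by norm_num⟩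
    have h81 : Nat.divisors 81 = {1, 3, 9, 27, 81} := by decide
    rw [h81] at h1
    simpa using h1
  rw [hKcard] at hcard ⊢
  rcases ht_cases with h | h | h
  · subst h
    rcases hW_cases with h' | h' | h' | h' | h' <;> subst h' <;> omega
  · subst h
    rcases hW_cases with h' | h' | h' | h' | h' <;> subst h' <;> omega
  · have h9 := ht4' h
    subst h
    rcases hW_cases with h' | h' | h' | h' | h' <;> subst h' <;> omega

end borel

end Cfsg.Agent.Lib.Helper7.U3Leaf
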