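import Mathlib
import Cfsg.Prelude.Def_GeometricClasses
import Cfsg.Agent.Lib.Helper12.AschBurnside

/-!
S5662 / S5663 / S5673, block THR (helper13's sub-market): (THR-a) `conj_of_traces`, by helper7.
-/

set_option autoImplicit false
set_option linter.unusedSectionVars false
set_option linter.unusedVariables false

namespace Cfsg.Agent.Lib.Helper7.ThRLeaf
open Matrix Cfsg.Geo

variable {F : Type*} [Field F] {n : ℕ}

/-- the matrices of an absolutely irreducible group span the matrix algebra -/
lemma span_matrixSet_eq_top (X : Subgroup (GL (Fin n) F))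
    (hX : ActsAbsolutelyIrreducibly (matrixSet X)) :
    Submodule.span F (matrixSet X) = ⊤ := by
  have hA : Algebra.adjoin F (matrixSet X) = ⊤ := by
    apply Cfsg.Agent.Lib.Helper12.AschLeaf.eq_top_of_irr_of_cen
    · intro W hW
      exact hX.1 W (fun s hs => hW s (Algebra.subset_adjoin hs))
    · intro M hM
      exact hX.2 M (fun s hs => hM s (Algebra.subset_adjoin hs))
  have hS : matrixSet X =
      ((X.toSubmonoid.map (Units.coeHom (Matrix (Fin n) (Fin n) F)) :
        Submonoid (Matrix (Fin n) (Fin n) F)) : Set (Matrix (Fin n) (Fin n) F)) := by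
    ext s
    simp [matrixSet]
  have hcl : (Submonoid.closure (matrixSet X) : Set (Matrix (Fin n) (Fin n) F)) = matrixSet X := by
    rw [hS, Submonoid.closure_eq]
  have h1 := Algebra.adjoin_eq_span F (matrixSet X)
  rw [hcl, hA] at h1
  rw [← h1]
  exact Algebra.top_toSubmodule

/-- the `φ`-twisted matrices span too -/
lemma span_twist_eq_top (X : Subgroup (GL (Fin n) F))
    (hX : ActsAbsolutelyIrreducibly (matrixSet X)) (φ : F ≃+* F) :
    Submodule.span F ((fun A : Matrix (Fin n) (Fin n) F => A.map φ) '' matrixSet X) = ⊤ := by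
  rw [eq_top_iff]
  intro B _
  have hB : B = (B.map φ.symm).map φ := by
    ext i j
    simp
  have key : ∀ A : Matrix (Fin n) (Fin n) F, A ∈ Submodule.span F (matrixSet X) →
      A.map φ ∈ Submodule.span F ((fun A : Matrix (Fin n) (Fin n) F => A.map φ) '' matrixSet X) := by
    intro A hA
    induction hA using Submodule.span_induction with
    | mem s hs => exact Submodule.subset_span ⟨s, hs, rfl⟩
    | zero =>
      have : (0 : Matrix (Fin n) (Fin n) F).map φ = 0 := by
        ext i j
        simp
      rw [this]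
      exact Submodule.zero_mem _
    | add a b _ _ ha hb =>
      have : (a + b).map φ = a.map φ + b.map φ := by
        ext i j
        simp
      rw [this]
      exact Submodule.add_mem _ ha hb
    | smul c a _ ha =>
      have : (c • a).map φ = φ c • a.map φ := by
        ext i j
        simp
      rw [this]
      exact Submodule.smul_mem _ _ ha
  rw [hB]
  exact key _ (by rw [span_matrixSet_eq_top X hX]; trivial)

lemma trace_map_ringEquiv (φ : F ≃+* F) (A : Matrix (Fin n) (Fin n) F) :
    Matrix.trace (A.map φ) = φ (Matrix.trace A) := by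
  simp [Matrix.trace, map_sum]

/-- nondegeneracy of the trace form against the twisted group -/
lemma eq_zero_of_trace (X : Subgroup (GL (Fin n) F))
    (hX : ActsAbsolutelyIrreducibly (matrixSet X)) (φ : F ≃+* F) (D : Matrix (Fin n) (Fin n) F)
    (h : ∀ y ∈ X, Matrix.trace (D * ((y : GL (Fin n) F) : Matrix (Fin n) (Fin n) F).map φ) = 0) :
    D = 0 := by
  have hall : ∀ B : Matrix (Fin n) (Fin n) F, Matrix.trace (D * B) = 0 := by
    intro B
    have hB : B ∈ Submodule.span F
        ((fun A : Matrix (Fin n) (Fin n) F => A.map φ) '' matrixSet X) := by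
      rw [span_twist_eq_top X hX φ]
      trivial
    induction hB using Submodule.span_induction with
    | mem s hs =>
      obtain ⟨s', ⟨y, hy, rfl⟩, rfl⟩ := hs
      exact h y hy
    | zero => simp
    | add a b _ _ ha hb => rw [mul_add, Matrix.trace_add, ha, hb, add_zero]
    | smul c a _ ha => rw [Matrix.mul_smul, Matrix.trace_smul, ha, smul_zero]
  ext i j
  have h1 := hall (Matrix.single j i 1)
  rw [Matrix.trace_mul_comm] at h1
  have h2 : Matrix.trace (Matrix.single j i (1 : F) * D) = D i j := by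
    rw [Matrix.trace]
    simp only [Matrix.diag_apply, Matrix.mul_apply, Matrix.single_apply]
    rw [Finset.sum_eq_single j]
    · rw [Finset.sum_eq_single i]
      · simp
      · intro c _ hc
        simp [Ne.symm hc]
      · intro h
        exact absurd (Finset.mem_univ _) h
    · intro a _ ha
      apply Finset.sum_eq_zero
      intro c _
      simp [Ne.symm ha]
    · intro h
      exact absurd (Finset.mem_univ _) h
  rw [h2] at h1
  exact h1

/-- the linear combination map of the group -/
noncomputable def Psi (X : Subgroup (GL (Fin n) F)) : (X →₀ F) →ₗ[F] Matrix (Fin n) (Fin n) F :=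
  Finsupp.linearCombination F (fun x : X => ((x : GL (Fin n) F) : Matrix (Fin n) (Fin n) F))

/-- the linear combination map of the twisted group -/
noncomputable def Psi' (X : Subgroup (GL (Fin n) F)) (φ : F ≃+* F) :
    (X →₀ F) →ₗ[F] Matrix (Fin n) (Fin n) F :=
  Finsupp.linearCombination F
    (fun x : X => ((x : GL (Fin n) F) : Matrix (Fin n) (Fin n) F).map φ)

lemma Psi_surjective (X : Subgroup (GL (Fin n) F))
    (hX : ActsAbsolutelyIrreducibly (matrixSet X)) : Function.Surjective (Psi X) := by
  rw [← LinearMap.range_eq_top]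
  unfold Psi
  rw [Finsupp.range_linearCombination]
  have : Set.range (fun x : X => ((x : GL (Fin n) F) : Matrix (Fin n) (Fin n) F)) = matrixSet X := by
    ext s
    constructor
    · rintro ⟨x, rfl⟩
      exact ⟨x.1, x.2, rfl⟩
    · rintro ⟨x, hx, rfl⟩
      exact ⟨⟨x, hx⟩, rfl⟩
  rw [this]
  exact span_matrixSet_eq_top X hX

lemma wd (X : Subgroup (GL (Fin n) F)) (hX : ActsAbsolutelyIrreducibly (matrixSet X)) (φ : F ≃+* F)
    (htr : ∀ x ∈ X, φ (Matrix.trace (x : Matrix (Fin n) (Fin n) F)) =
      Matrix.trace (x : Matrix (Fin n) (Fin n) F))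
    (l : X →₀ F) (hl : Psi X l = 0) : Psi' X φ l = 0 := by
  apply eq_zero_of_trace X hX φ
  intro y hy
  have hfun : (Matrix.traceLinearMap (Fin n) F F ∘ₗ
      LinearMap.mulRight F (((y : GL (Fin n) F) : Matrix (Fin n) (Fin n) F).map φ) ∘ₗ Psi' X φ) =
      (Matrix.traceLinearMap (Fin n) F F ∘ₗ
        LinearMap.mulRight F ((y : GL (Fin n) F) : Matrix (Fin n) (Fin n) F) ∘ₗ Psi X) := by
    apply Finsupp.lhom_ext'
    intro x
    apply LinearMap.ext_ring
    simp only [LinearMap.coe_comp, Function.comp_apply, Finsupp.lsingle_apply, Psi, Psi',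
      Finsupp.linearCombination_single, one_smul, LinearMap.mulRight_apply,
      Matrix.traceLinearMap_apply]
    rw [← Matrix.map_mul, trace_map_ringEquiv, ← Units.val_mul]
    exact htr (x * y) (X.mul_mem x.2 hy)
  have h2 := LinearMap.congr_fun hfun l
  simp only [LinearMap.coe_comp, Function.comp_apply, LinearMap.mulRight_apply,
    Matrix.traceLinearMap_apply] at h2
  rw [h2, hl, zero_mul, Matrix.trace_zero]

/-- the matrix with `j`-th column `w` -/
def colMat (j : Fin n) : (Fin n → F) →ₗ[F] Matrix (Fin n) (Fin n) F where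
  toFun w := Matrix.of fun a b => if b = j then w a else 0
  map_add' := by
    intro v w
    ext a b
    by_cases h : b = j <;> simp [h]
  map_smul' := by
    intro c w
    ext a b
    by_cases h : b = j <;> simp [h]

lemma mul_colMat (j : Fin n) (x : Matrix (Fin n) (Fin n) F) (w : Fin n → F) :
    x * colMat j w = colMat j (x *ᵥ w) := by
  ext a b
  by_cases h : b = j
  · simp [colMat, Matrix.mul_apply, Matrix.mulVec, dotProduct, h]
  · simp [colMat, Matrix.mul_apply, h]

lemma sum_colMat : ∑ j : Fin n, colMat (F := F) j (Pi.single j 1) = 1 := by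
  ext a b
  rw [Matrix.sum_apply]
  simp [colMat, Matrix.one_apply, Pi.single_apply]

/-- evaluation at a vector -/
def evz (z : Fin n → F) : Matrix (Fin n) (Fin n) F →ₗ[F] (Fin n → F) where
  toFun A := A *ᵥ z
  map_add' := fun A B => Matrix.add_mulVec A B z
  map_smul' := fun c A => Matrix.smul_mulVec c A z

/-- (THR-a) an absolutely irreducible group whose traces are fixed by `φ` is conjugate to its `φ`-twist. -/
theorem conj_of_traces (X : Subgroup (GL (Fin n) F)) (hX : ActsAbsolutelyIrreducibly (matrixSet X)) (φ : F ≃+* F)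
    (htr : ∀ x ∈ X, φ (Matrix.trace (x : Matrix (Fin n) (Fin n) F)) = Matrix.trace (x : Matrix (Fin n) (Fin n) F)) :
    ∃ C : GL (Fin n) F, ∀ x ∈ X, (x : Matrix (Fin n) (Fin n) F).map φ =
      ((C⁻¹ : GL (Fin n) F) : Matrix (Fin n) (Fin n) F) * (x : Matrix (Fin n) (Fin n) F) * (C : Matrix (Fin n) (Fin n) F) := by
  rcases Nat.eq_zero_or_pos n with hn | hn
  · subst hn
    exact ⟨1, fun x _ => Subsingleton.elim _ _⟩
  have : Nonempty (Fin n) := ⟨⟨0, hn⟩⟩
  have hsurj := Psi_surjective X hX
  obtain ⟨g, hg⟩ := (Psi X).exists_rightInverse_of_surjective (LinearMap.range_eq_top.2 hsurj)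
  let θ : Matrix (Fin n) (Fin n) F →ₗ[F] Matrix (Fin n) (Fin n) F := Psi' X φ ∘ₗ g
  have hθ : ∀ l, θ (Psi X l) = Psi' X φ l := by
    intro l
    have h1 : Psi X (g (Psi X l) - l) = 0 := by
      rw [map_sub, ← LinearMap.comp_apply, hg, LinearMap.id_apply, sub_self]
    have h2 := wd X hX φ htr _ h1
    rw [map_sub, sub_eq_zero] at h2
    exact h2
  have hθX : ∀ x ∈ X, θ ((x : GL (Fin n) F) : Matrix (Fin n) (Fin n) F) =
      ((x : GL (Fin n) F) : Matrix (Fin n) (Fin n) F).map φ := by
    intro x hx
    have h1 := hθ (Finsupp.single ⟨x, hx⟩ 1)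
    simpa [Psi, Psi', Finsupp.linearCombination_single] using h1
  have hθmul : ∀ x ∈ X, ∀ A : Matrix (Fin n) (Fin n) F,
      θ (((x : GL (Fin n) F) : Matrix (Fin n) (Fin n) F) * A) =
        ((x : GL (Fin n) F) : Matrix (Fin n) (Fin n) F).map φ * θ A := by
    intro x hx A
    obtain ⟨l, rfl⟩ := hsurj A
    have hfun : (θ ∘ₗ LinearMap.mulLeft F ((x : GL (Fin n) F) : Matrix (Fin n) (Fin n) F) ∘ₗ Psi X) =
        (LinearMap.mulLeft F (((x : GL (Fin n) F) : Matrix (Fin n) (Fin n) F).map φ) ∘ₗ θ ∘ₗ Psi X) := by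
      apply Finsupp.lhom_ext'
      intro y
      apply LinearMap.ext_ring
      simp only [LinearMap.coe_comp, Function.comp_apply, Finsupp.lsingle_apply,
        LinearMap.mulLeft_apply]
      have e1 : Psi X (Finsupp.single y 1) = ((y : GL (Fin n) F) : Matrix (Fin n) (Fin n) F) := by
        simp [Psi, Finsupp.linearCombination_single]
      rw [e1, ← Units.val_mul, hθX _ (X.mul_mem hx y.2), hθX _ y.2, Units.val_mul, Matrix.map_mul]
    exact LinearMap.congr_fun hfun l
  have hθ1 : θ 1 = 1 := by
    have h1 := hθX 1 X.one_mem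
    rw [Units.val_one] at h1
    rw [h1]
    ext i j
    simp [Matrix.one_apply]
  -- a non-zero intertwiner
  obtain ⟨j, z, hjz⟩ : ∃ (j : Fin n) (z : Fin n → F), θ (colMat j (Pi.single j 1)) *ᵥ z ≠ 0 := by
    by_contra hcon
    push Not at hcon
    have h0 : ∀ j : Fin n, θ (colMat j (Pi.single j 1)) = 0 := by
      intro j
      ext a b
      have := congrFun (hcon j (Pi.single b 1)) a
      rw [Matrix.mulVec_single_one] at this
      exact this
    have h1 : θ 1 = 0 := by
      rw [← sum_colMat, map_sum]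
      exact Finset.sum_eq_zero fun j _ => h0 j
    rw [hθ1] at h1
    exact one_ne_zero h1
  let T : (Fin n → F) →ₗ[F] (Fin n → F) := evz z ∘ₗ θ ∘ₗ colMat j
  have hT : ∀ x ∈ X, ∀ w, T (((x : GL (Fin n) F) : Matrix (Fin n) (Fin n) F) *ᵥ w) =
      ((x : GL (Fin n) F) : Matrix (Fin n) (Fin n) F).map φ *ᵥ T w := by
    intro x hx w
    show θ (colMat j (((x : GL (Fin n) F) : Matrix (Fin n) (Fin n) F) *ᵥ w)) *ᵥ z =
      ((x : GL (Fin n) F) : Matrix (Fin n) (Fin n) F).map φ *ᵥ (θ (colMat j w) *ᵥ z)
    rw [← mul_colMat, hθmul x hx, Matrix.mulVec_mulVec]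
  have hker : LinearMap.ker T = ⊥ := by
    rcases hX.1 (LinearMap.ker T) (by
      rintro s ⟨x, hx, rfl⟩ v ⟨w, hw, rfl⟩
      rw [SetLike.mem_coe, LinearMap.mem_ker] at hw
      rw [LinearMap.mem_ker, Matrix.toLin'_apply, hT x hx, hw, Matrix.mulVec_zero]) with h | h
    · exact h
    · exfalso
      have : (Pi.single j 1 : Fin n → F) ∈ LinearMap.ker T := by
        rw [h]
        trivial
      rw [LinearMap.mem_ker] at this
      exact hjz this
  have hunit : IsUnit T := (LinearMap.isUnit_iff_ker_eq_bot T).2 hker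
  have hunit' : IsUnit (LinearMap.toMatrixAlgEquiv' T) := hunit.map LinearMap.toMatrixAlgEquiv'
  obtain ⟨u, hu⟩ := hunit'
  refine ⟨u⁻¹, fun x hx => ?_⟩
  rw [inv_inv]
  have hint : (u : Matrix (Fin n) (Fin n) F) * ((x : GL (Fin n) F) : Matrix (Fin n) (Fin n) F) =
      ((x : GL (Fin n) F) : Matrix (Fin n) (Fin n) F).map φ * (u : Matrix (Fin n) (Fin n) F) := by
    rw [hu]
    have e1 : T ∘ₗ Matrix.toLin' ((x : GL (Fin n) F) : Matrix (Fin n) (Fin n) F) =
        Matrix.toLin' (((x : GL (Fin n) F) : Matrix (Fin n) (Fin n) F).map φ) ∘ₗ T := by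
      apply LinearMap.ext
      intro w
      simp only [LinearMap.coe_comp, Function.comp_apply, Matrix.toLin'_apply]
      exact hT x hx w
    have e2 := congrArg LinearMap.toMatrix' e1
    rw [LinearMap.toMatrix'_comp, LinearMap.toMatrix'_comp, LinearMap.toMatrix'_toLin',
      LinearMap.toMatrix'_toLin'] at e2
    exact e2
  rw [hint, mul_assoc, ← Units.val_mul, mul_inv_cancel, Units.val_one, mul_one]

end Cfsg.Agent.Lib.Helper7.ThRLeaf
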