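import Mathlib
import Cfsg.Agent.Lib.Helper20.UTNDefs
import Cfsg.Agent.Lib.Helper20.UTS
import Cfsg.Agent.Lib.Helper5.SUMax

/-!
helper7 for helper20's S5670 (N) market (`notes/S5670_N_leaves.lean`): the leaf
N3c `pure_mod` (exact signature).
-/

set_option autoImplicit false
set_option linter.unusedSectionVars false
set_option linter.unusedVariables false

namespace Cfsg.Agent.Lib.Helper7.UTNLeaf
open Matrix
open Cfsg.Agent.Lib.Helper25.Tens Cfsg.Agent.Lib.Helper25.TensLeaf Cfsg.Agent.Lib.Helper25.TensLeaves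
open Cfsg.Agent.Lib.Helper20.UT Cfsg.Agent.Lib.Helper20.UTLeaf Cfsg.Agent.Lib.Helper20.UTN
open scoped Kronecker

variable {F : Type*} [Field F] [Fintype F] {a b q : ℕ} {M : Subgroup (GL (Idx a b) F)}

lemma q_ne_zero_of_card (hF : Fintype.card F = q ^ 2) : q ≠ 0 := by
  rintro rfl
  have : 2 ≤ Fintype.card F := Fintype.one_lt_card
  omega

/-- contraction with a basis vector picks a column -/
lemma ct_cj_single (hq : q ≠ 0) (l : Fin b) (w : Idx a b → F) :
    ct (cj q (Pi.single l (1 : F))) w = fun i => w (i, l) := by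
  funext i
  unfold ct cj
  rw [Finset.sum_eq_single l]
  · rw [Pi.single_eq_same, one_pow, mul_one]
  · intro l' _ hl'
    rw [Pi.single_eq_of_ne hl', zero_pow hq, mul_zero]
  · intro h
    exact absurd (Finset.mem_univ l) h

/-- a vector all of whose contractions vanish is zero -/
lemma eq_zero_of_ct (hq : q ≠ 0) {w : Idx a b → F} (h : ∀ v : Fin b → F, ct (cj q v) w = 0) :
    w = 0 := by
  funext p
  obtain ⟨i, l⟩ := p
  have := congrFun (h (Pi.single l 1)) i
  rw [ct_cj_single hq] at this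
  exact this

lemma ct_sub' (η : Fin b → F) (v w : Idx a b → F) : ct η (v - w) = ct η v - ct η w := by
  ext i
  simp only [ct, Pi.sub_apply, sub_mul, Finset.sum_sub_distrib]

/-- a vector killed by all `c_v`, `v ⊥ y`, is of the form `X ⊗ y` -/
lemma eq_pt_of_ct_perp (hF : Fintype.card F = q ^ 2) {y ys : Fin b → F}
    (hys : hv q ys y = 1) {w : Idx a b → F}
    (h : ∀ v : Fin b → F, hv q v y = 0 → ct (cj q v) w = 0) :
    w = pt (ct (cj q ys) w) y := by
  have hq := q_ne_zero_of_card hF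
  rw [← sub_eq_zero]
  apply eq_zero_of_ct hq
  intro v
  rw [ct_sub', ct_cj_pt, sub_eq_zero]
  have hv0 : hv q (v - hv q v y • ys) y = 0 := by
    rw [hv_sub_left, hv_smul_left, hys, mul_one, sub_self]
  have h1 := h _ hv0
  have hsplit : v = (v - hv q v y • ys) + hv q v y • ys := by abel
  have h2 : cj q v = cj q (v - hv q v y • ys) + (hv q v y) ^ q • cj q ys := by
    conv_lhs => rw [hsplit]
    rw [cj_add hF, cj_smul]
  rw [h2, ct_add_left, ct_smul_left, h1, zero_add, hv_conj hF]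

/-- N3c PURE MODULO `W`. -/
theorem pure_mod (hF : Fintype.card F = q ^ 2) (ha : 1 ≤ a) {y ys : Fin b → F}
    (hy : hv q y y = 0) (hys : hv q ys y = 1)
    (D : (Fin a → F) →ₗ[F] (Idx a b → F))
    (h : ∀ z' : Fin b → F, hv q z' y = 0 → ∃ l : F, ∀ x : Fin a → F, ct (cj q z') (D x) = l • x) :
    ∃ (z₁ : Fin b → F) (Φ : Matrix (Fin a) (Fin a) F), ∀ x : Fin a → F,
      D x = pt x z₁ + pt (Φ *ᵥ x) y := by
  classical
  have hq := q_ne_zero_of_card hF
  set o : Fin a := ⟨0, ha⟩ with ho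
  set x₀ : Fin a → F := Pi.single o 1 with hx₀
  set z₁ : Fin b → F := fun l => D x₀ (o, l) with hz₁
  have K1 : ∀ v : Fin b → F, hv q v y = 0 → ∀ x : Fin a → F,
      ct (cj q v) (D x) = hv q z₁ v • x := by
    intro v hv0 x
    obtain ⟨l, hl⟩ := h v hv0
    have h1 := congrFun (hl x₀) o
    have h2 : ct (cj q v) (D x₀) o = hv q z₁ v := by
      unfold ct hv cj
      rfl
    rw [h2, hx₀, Pi.smul_apply, Pi.single_eq_same, smul_eq_mul, mul_one] at h1
    rw [hl x, h1]
  set ψ : (Fin a → F) →ₗ[F] (Fin a → F) := (ctR (cj q ys)).comp (D - ptL z₁) with hψ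
  refine ⟨z₁, LinearMap.toMatrix' ψ, fun x => ?_⟩
  have hw : ∀ v : Fin b → F, hv q v y = 0 → ct (cj q v) (D x - pt x z₁) = 0 := by
    intro v hv0
    rw [ct_sub', K1 v hv0 x, ct_cj_pt, sub_self]
  have h3 := eq_pt_of_ct_perp hF hys hw
  have h4 : LinearMap.toMatrix' ψ *ᵥ x = ct (cj q ys) (D x - pt x z₁) := by
    rw [LinearMap.toMatrix'_mulVec]
    rfl
  rw [h4, ← h3]
  abel

end Cfsg.Agent.Lib.Helper7.UTNLeaf
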