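import Mathlib
import Cfsg.Agent.Lib.Helper20.UTNDefs
import Cfsg.Agent.Lib.Helper20.UTS
import Cfsg.Agent.Lib.Helper5.SUMax

/-!
helper7 for helper20's S5670 (N) market (`notes/S5670_N_leaves.lean`): the leaves
N6 `T1U_of_rk1`, `skew_two`, `one_skew_two` (exact signatures).
-/

set_option autoImplicit false
set_option linter.unusedSectionVars false
set_option linter.unusedVariables false

namespace Cfsg.Agent.Lib.Helper7.UTNLeaf
open Matrix
open Cfsg.Agent.Lib.Helper25.Tens Cfsg.Agent.Lib.Helper25.TensLeaf Cfsg.Agent.Lib.Helper25.TensLeaves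
open Cfsg.Agent.Lib.Helper20.UT Cfsg.Agent.Lib.Helper20.UTLeaf Cfsg.Agent.Lib.Helper20.UTN
open scoped Kronecker

variable {F : Type*} [Field F] [Fintype F] {a b q : ℕ} {M : Subgroup (GL (Idx a b) F)}

/-- N6 the transvections with centre `pt x y` are the `E_y(c • rk1 q x)`. -/
theorem T1U_of_rk1 {x : Fin a → F} {y : Fin b → F} (hx0 : x ≠ 0) (hy0 : y ≠ 0)
    (hy : hv q y y = 0) (h : ∀ c : F, c ^ q = -c → c • rk1 q x ∈ Th q y M) : T1U q M := by
  refine ⟨x, y, hx0, hy0, hy, ?_⟩
  intro c hc g hg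
  obtain ⟨g', hg'M, hg'⟩ := h c hc
  have : g = g' := by
    apply ext_mv
    intro v
    rw [hg v, hg' v, Matrix.smul_mulVec, rk1_mulVec, hv_pt_right, smul_smul, pt_smul_left]
  rw [this]
  exact hg'M

/-- characteristic two -/
theorem two_eq_zero_of_card (hF : Fintype.card F = 2 ^ 2) : (2 : F) = 0 := by
  have h4 : ((Fintype.card F : ℕ) : F) = 0 := FiniteField.cast_card_eq_zero F
  rw [hF] at h4
  have h5 : (2 : F) * 2 = 0 := by
    have : (((2 ^ 2 : ℕ)) : F) = 2 * 2 := by norm_num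
    rw [← this]
    exact h4
  rcases mul_eq_zero.1 h5 with h | h <;> exact h

/-- for `q = 2` the skew scalars are `0` and `1` -/
theorem skew_two (hF : Fintype.card F = 2 ^ 2) {c : F} (hc : c ^ 2 = -c) : c = 0 ∨ c = 1 := by
  have h2 := two_eq_zero_of_card hF
  have h3 : c * (c - 1) = 0 := by linear_combination hc - c * h2
  rcases mul_eq_zero.1 h3 with h | h
  · exact Or.inl h
  · exact Or.inr (sub_eq_zero.1 h)

theorem one_skew_two (hF : Fintype.card F = 2 ^ 2) : (1 : F) ^ 2 = -1 := by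
  have h2 := two_eq_zero_of_card hF
  linear_combination h2

end Cfsg.Agent.Lib.Helper7.UTNLeaf
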