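import Mathlib

/-!
# S2264/S2265 leaf P7 (core, against the statements of leaves LB, P4, P5 as hypotheses)

`P` self-reciprocal of degree `2m` or `2m+1` (`m ≥ 3`) over a finite field `F_q` divides `X^N - 1`
for some `N` with `(q-1) N ≤ q^(m+1)`.
-/

set_option autoImplicit false

namespace Cfsg.Agent.Lib.Helper7.EOrdP7Core

open Polynomial

variable {F : Type*} [Field F] [Fintype F]

theorem two_mul_le_two_pow (c : ℕ) : 2 * c ≤ 2 ^ c := by
  rcases c with _ | n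
  · simp
  · have := Nat.lt_two_pow_self (n := n)
    rw [pow_succ]; omega

theorem two_mul_add_one_le_three_pow (c : ℕ) : 2 * c + 1 ≤ 3 ^ c := by
  induction c with
  | zero => simp
  | succ n ih => rw [pow_succ]; omega

theorem two_mul_add_seven_le (k : ℕ) : 2 * k + 7 ≤ 3 ^ (k + 2) := by
  induction k with
  | zero => norm_num
  | succ n ih => rw [show n + 1 + 2 = (n + 2) + 1 from rfl, pow_succ]; omega

theorem X_pow_sub_one_pow_char (s j : ℕ) :
    ((X : F[X]) ^ s - 1) ^ (ringChar F ^ j) = X ^ (s * ringChar F ^ j) - 1 := by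
  have : CharP F (ringChar F) := ringChar.charP F
  have : Fact (ringChar F).Prime := ⟨CharP.char_is_prime F _⟩
  rw [sub_pow_char_pow, one_pow, ← pow_mul]

theorem X_sub_one_pow_dvd {a : ℕ} (s : ℕ) {j : ℕ} (ha : a ≤ ringChar F ^ j) :
    ((X : F[X]) - 1) ^ a ∣ X ^ (s * ringChar F ^ j) - 1 := by
  rw [← X_pow_sub_one_pow_char]
  exact (pow_dvd_pow _ ha).trans (pow_dvd_pow_of_dvd (sub_one_dvd_pow_sub_one X s) _)

theorem X_add_one_pow_dvd {b s j : ℕ} (hs : Even s) (hb : b ≤ ringChar F ^ j) :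
    ((X : F[X]) + 1) ^ b ∣ X ^ (s * ringChar F ^ j) - 1 := by
  rw [← X_pow_sub_one_pow_char]
  refine (pow_dvd_pow _ hb).trans (pow_dvd_pow_of_dvd ?_ _)
  obtain ⟨t, rfl⟩ := hs
  have h1 : (X : F[X]) ^ 2 - 1 ∣ X ^ (t + t) - 1 := by
    have := pow_one_sub_dvd_pow_mul_sub_one (X : F[X]) 2 t
    rwa [two_mul] at this
  exact Dvd.dvd.trans ⟨X - 1, by ring⟩ h1

omit [Fintype F] in
theorem isCoprime_X_sub_C_of_eval_ne {r : F} {Q : F[X]} (h : Q.eval r ≠ 0) :
    IsCoprime (X - C r) Q := by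
  rw [(irreducible_X_sub_C r).coprime_iff_not_dvd, dvd_iff_isRoot]
  exact h

omit [Fintype F] in
theorem isCoprime_X_sub_one {Q : F[X]} (h : Q.eval 1 ≠ 0) : IsCoprime ((X : F[X]) - 1) Q := by
  have := isCoprime_X_sub_C_of_eval_ne h
  rwa [C_1] at this

omit [Fintype F] in
theorem isCoprime_X_add_one {Q : F[X]} (h : Q.eval (-1) ≠ 0) : IsCoprime ((X : F[X]) + 1) Q := by
  have := isCoprime_X_sub_C_of_eval_ne h
  rwa [C_neg, C_1, sub_neg_eq_add] at this

omit [Fintype F] in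
theorem isCoprime_X_sub_one_X_add_one (h2 : (2 : F) ≠ 0) :
    IsCoprime ((X : F[X]) - 1) (X + 1) := by
  apply isCoprime_X_sub_one
  simp only [eval_add, eval_X, eval_one]
  intro h
  apply h2
  rw [← h]; norm_num

/-- the general divisibility step. -/
theorem dvd_of_parts {a b : ℕ} {P₁ : F[X]} (h1 : P₁.eval 1 ≠ 0) (hm1 : P₁.eval (-1) ≠ 0)
    (s j : ℕ) (ha : a ≤ ringChar F ^ j)
    (hb : b = 0 ∨ (Even s ∧ (2 : F) ≠ 0 ∧ b ≤ ringChar F ^ j))
    (hP₁ : P₁ ∣ X ^ (s * ringChar F ^ j) - 1) :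
    (X - 1) ^ a * (X + 1) ^ b * P₁ ∣ X ^ (s * ringChar F ^ j) - 1 := by
  have hA : ((X : F[X]) - 1) ^ a ∣ X ^ (s * ringChar F ^ j) - 1 := X_sub_one_pow_dvd s ha
  have hcop : IsCoprime (((X : F[X]) - 1) ^ a * (X + 1) ^ b) P₁ :=
    IsCoprime.mul_left ((isCoprime_X_sub_one h1).pow_left) ((isCoprime_X_add_one hm1).pow_left)
  refine hcop.mul_dvd ?_ hP₁
  rcases hb with rfl | ⟨hs, h2, hb⟩
  · simpa using hA
  · exact ((isCoprime_X_sub_one_X_add_one h2).pow).mul_dvd hA (X_add_one_pow_dvd hs hb)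

/-- LEAF P7 against the statements of LB, P4, P5. -/
theorem poly_order_ge_three_of
    (hLB : ∀ (q : ℕ), 2 ≤ q → ∀ (K : Finset ℕ), (∀ k ∈ K, 1 ≤ k) →
      (q - 1) * K.lcm (fun k => q ^ k + 1) ≤ q ^ (K.sum id + 1))
    (hP4 : ∀ (P : F[X]), P.coeff 0 ≠ 0 → Associated P.mirror P → P.eval 1 ≠ 0 →
      P.eval (-1) ≠ 0 →
      ∃ (m : ℕ) (K : Finset ℕ) (nA e : ℕ),
        P.natDegree = 2 * m ∧ (∀ k ∈ K, 1 ≤ k) ∧ 1 ≤ nA ∧
        P ∣ (X ^ (nA * K.lcm (fun k => Fintype.card F ^ k + 1)) - 1) ^ (ringChar F ^ e) ∧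
        nA * ringChar F ^ e * Fintype.card F ^ (K.sum id) ≤ Fintype.card F ^ m ∧
        (Odd (Fintype.card F) → 1 ≤ m →
          Even (nA * K.lcm (fun k => Fintype.card F ^ k + 1))))
    (hP5 : ∀ (P : F[X]), P ≠ 0 →
      ∃ (a b : ℕ) (P₁ : F[X]), P = (X - 1) ^ a * (X + 1) ^ b * P₁ ∧
        P₁.eval 1 ≠ 0 ∧ P₁.eval (-1) ≠ 0 ∧ (ringChar F = 2 → b = 0) ∧
        (Associated P.mirror P → Associated P₁.mirror P₁))
    (P : F[X]) (m : ℕ) (hm : 3 ≤ m)
    (hdeg : P.natDegree = 2 * m ∨ (P.natDegree = 2 * m + 1 ∧ ringChar F ≠ 2))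
    (hP0 : P.coeff 0 ≠ 0) (hmir : Associated P.mirror P) :
    ∃ N, 1 ≤ N ∧ (Fintype.card F - 1) * N ≤ Fintype.card F ^ (m + 1) ∧ P ∣ X ^ N - 1 := by
  classical
  have hcharP : CharP F (ringChar F) := ringChar.charP F
  obtain ⟨n, hpprime, hqp⟩ := FiniteField.card F (ringChar F)
  generalize hq : Fintype.card F = q at *
  generalize hp : ringChar F = p at *
  have hp2 : 2 ≤ p := hpprime.two_le
  have hpq : p ≤ q := by rw [hqp]; exact Nat.le_self_pow n.pos.ne' p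
  have hq2 : 2 ≤ q := hp2.trans hpq
  have h2F : p ≠ 2 → (2 : F) ≠ 0 := by
    intro hne h
    have h' : ((2 : ℕ) : F) = 0 := by exact_mod_cast h
    rw [CharP.cast_eq_zero_iff F p 2] at h'
    exact hne ((Nat.prime_dvd_prime_iff_eq hpprime Nat.prime_two).mp h')
  have hqodd : p ≠ 2 → Odd q := by
    intro hne
    rw [hqp]; exact (hpprime.odd_of_ne_two hne).pow
  have hp3 : p ≠ 2 → 3 ≤ p := by
    intro hne; omega
  have hP_ne : P ≠ 0 := by rintro rfl; simp at hP0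
  obtain ⟨a, b, P₁, hPeq, h1, hm1, hb2, hmir₁⟩ := hP5 P hP_ne
  have hmir₁ := hmir₁ hmir
  have hP₁0 : P₁.coeff 0 ≠ 0 := by
    intro h; apply hP0; rw [hPeq, mul_coeff_zero, h, mul_zero]
  have hP₁ne : P₁ ≠ 0 := by rintro rfl; simp at hP₁0
  obtain ⟨m₁, K, nA, e, hdeg₁, hK, hnA, hdvd, hcost, heven⟩ := hP4 P₁ hP₁0 hmir₁ h1 hm1
  have hXs : ((X : F[X]) - 1).natDegree = 1 := by rw [← C_1]; exact natDegree_X_sub_C 1
  have hXa : ((X : F[X]) + 1).natDegree = 1 := by rw [← C_1]; exact natDegree_X_add_C 1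
  have hXs0 : ((X : F[X]) - 1) ≠ 0 := by intro h; rw [h] at hXs; simp at hXs
  have hXa0 : ((X : F[X]) + 1) ≠ 0 := by intro h; rw [h] at hXa; simp at hXa
  have hdegP : P.natDegree = a + b + 2 * m₁ := by
    rw [hPeq, natDegree_mul (mul_ne_zero (pow_ne_zero _ hXs0) (pow_ne_zero _ hXa0)) hP₁ne,
      natDegree_mul (pow_ne_zero _ hXs0) (pow_ne_zero _ hXa0), natDegree_pow, natDegree_pow,
      hXs, hXa, hdeg₁]
    ring
  set L := K.lcm (fun k => q ^ k + 1) with hL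
  have hL1 : 1 ≤ L := by
    rw [Nat.one_le_iff_ne_zero, hL, Ne, Finset.lcm_eq_zero_iff]
    rintro ⟨k, -, hk⟩
    simp at hk
  have hLB' := hLB q hq2 K hK
  rw [← hL] at hLB'
  rw [hPeq]
  rcases Nat.eq_zero_or_pos m₁ with hm₁ | hm₁
  · -- `P₁` is a unit
    have hunit : IsUnit P₁ := by
      rw [hm₁, mul_zero] at hdeg₁
      rw [eq_C_of_natDegree_eq_zero hdeg₁] at hP₁ne ⊢
      exact isUnit_C.mpr (isUnit_iff_ne_zero.mpr (fun h => hP₁ne (by rw [h, C_0])))
    by_cases hp2' : p = 2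
    · -- `b = 0`, `a = 2m`
      have hb0 : b = 0 := hb2 hp2'
      have ha : a = 2 * m := by
        rcases hdeg with h | ⟨-, h⟩
        · omega
        · exact absurd hp2' h
      refine ⟨1 * p ^ m, by have := Nat.pow_pos (n := m) (by omega : 0 < p); omega, ?_, ?_⟩
      · calc (q - 1) * (1 * p ^ m) ≤ q * q ^ m := by
              rw [one_mul]; exact Nat.mul_le_mul (Nat.sub_le _ _) (Nat.pow_le_pow_left hpq m)
          _ = q ^ (m + 1) := by rw [pow_succ, mul_comm]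
      · rw [← hp]
        refine dvd_of_parts h1 hm1 1 m ?_ (Or.inl hb0) hunit.dvd
        rw [hp, ha, hp2']; exact two_mul_le_two_pow m
    · have h3 := hp3 hp2'
      obtain ⟨k, rfl⟩ : ∃ k, m = k + 3 := ⟨m - 3, by omega⟩
      have hab : a + b ≤ p ^ (k + 2) := by
        have h1' : a + b ≤ 2 * k + 7 := by rcases hdeg with h | ⟨h, -⟩ <;> omega
        exact h1'.trans ((two_mul_add_seven_le k).trans (Nat.pow_le_pow_left h3 _))
      refine ⟨2 * p ^ (k + 2), by have := Nat.pow_pos (n := k + 2) (by omega : 0 < p); omega,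
        ?_, ?_⟩
      · have hqq : (q - 1) * 2 ≤ q * q := by
          rcases q with _ | q
          · simp
          · simp only [Nat.add_sub_cancel]; nlinarith
        calc (q - 1) * (2 * p ^ (k + 2)) = ((q - 1) * 2) * p ^ (k + 2) := by ring
          _ ≤ (q * q) * q ^ (k + 2) := Nat.mul_le_mul hqq (Nat.pow_le_pow_left hpq _)
          _ = q ^ (k + 3 + 1) := by ring
      · rw [← hp]
        refine dvd_of_parts h1 hm1 2 (k + 2) ?_ (Or.inr ⟨even_two, h2F hp2', ?_⟩) hunit.dvd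
        · rw [hp]; omega
        · rw [hp]; omega
  · -- `m₁ ≥ 1`
    have hm₁m : m₁ ≤ m := by rcases hdeg with h | ⟨h, -⟩ <;> omega
    obtain ⟨c, rfl⟩ : ∃ c, m = m₁ + c := ⟨m - m₁, by omega⟩
    have hab : a + b ≤ p ^ c := by
      rcases hdeg with h | ⟨h, hne⟩
      · have : a + b = 2 * c := by omega
        rw [this]
        exact (two_mul_le_two_pow c).trans (Nat.pow_le_pow_left hp2 _)
      · have : a + b = 2 * c + 1 := by omega
        rw [this]
        exact (two_mul_add_one_le_three_pow c).trans (Nat.pow_le_pow_left (hp3 (hp ▸ hne)) _)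
    have hppos : 0 < p := by omega
    refine ⟨(nA * L * p ^ e) * p ^ c, ?_, ?_, ?_⟩
    · have h1 := Nat.pow_pos (n := e) hppos
      have h2 := Nat.pow_pos (n := c) hppos
      exact Nat.mul_pos (Nat.mul_pos (Nat.mul_pos hnA hL1) h1) h2
    · calc (q - 1) * (nA * L * p ^ e * p ^ c) = ((q - 1) * L) * (nA * p ^ e) * p ^ c := by ring
        _ ≤ q ^ (K.sum id + 1) * (nA * p ^ e) * q ^ c :=
            Nat.mul_le_mul (Nat.mul_le_mul hLB' le_rfl) (Nat.pow_le_pow_left hpq _)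
        _ = (nA * p ^ e * q ^ (K.sum id)) * q * q ^ c := by ring
        _ ≤ q ^ m₁ * q * q ^ c := Nat.mul_le_mul (Nat.mul_le_mul hcost le_rfl) le_rfl
        _ = q ^ (m₁ + c + 1) := by ring
    · rw [← hp]
      refine dvd_of_parts h1 hm1 (nA * L * ringChar F ^ e) c ?_ ?_ ?_
      · rw [hp]; omega
      · by_cases hb0 : b = 0
        · exact Or.inl hb0
        · have hne : p ≠ 2 := fun h => hb0 (hb2 h)
          refine Or.inr ⟨?_, h2F hne, by rw [hp]; omega⟩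
          exact (heven (hqodd hne) hm₁).mul_right _
      · refine hdvd.trans ?_
        rw [← hp, X_pow_sub_one_pow_char]
        exact pow_one_sub_dvd_pow_mul_sub_one _ _ _

end Cfsg.Agent.Lib.Helper7.EOrdP7Core
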