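import Mathlib
import Cfsg.Prelude.Def_Classical
import Cfsg.Prelude.Def_ClassicalGeometry
import Cfsg.Prelude.Def_GeometricClasses
import Cfsg.Agent.Lib.Helper5.SUMax
import Cfsg.Agent.Lib.Helper5.UForm
import Cfsg.Agent.Lib.Helper22.C3LDefs
import Cfsg.Agent.Lib.Helper22.C3LTool
import Cfsg.Agent.Lib.Helper16.C3uDefs
import Cfsg.Agent.Lib.Helper13.C3qDefs
import Cfsg.Agent.Lib.Helper16.C3u2Fin

/-!
S5840 conjunct (7) (rank-one unitary C3, planner helper13), leaf **B1 growth_step**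
(notes/S5840_C3_leaves.lean, notes/S5840_C3_plan.md section 2): for `W = g L₀`, `t = kt v₀ a` (`a` skew,
non-zero) and `g' = g⁻¹ t g`:  `dim (L₀ ∩ g' L₀) = dim (L₀ ∩ W) + dim (a Φ ∩ B)` and
`g' L₀ = L₀ ↔ a Φ ≤ B`, where `B = Bset S v₀ W`, `Φ = Pset S v₀ W`.
-/

set_option autoImplicit false
set_option linter.unusedSectionVars false
set_option linter.unusedVariables false

namespace Cfsg.Agent.Lib.Helper7.C3qLeaf
open Cfsg Matrix Module Cfsg.Agent.Lib.Helper5.SpMax Cfsg.Agent.Lib.Helper5.SUMax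
  Cfsg.Agent.Lib.Helper22.C3L Cfsg.Agent.Lib.Helper16.C3u Cfsg.Agent.Lib.Helper13.C3q

universe u
variable {F : Type u} [Field F] [Fintype F] {n q : ℕ} {E : Type u} [Field E] [Algebra F E]

local notation "𝕍" => (Fin n → F)
local notation "𝕄" => Matrix (Fin n) (Fin n) F
local notation "ℍ" => (Cfsg.GU n F q ⊓ Cfsg.Geo.specialLinear (Fin n) F)

/-! ### images of subspaces -/

lemma b1_img_mul (g h : GL (Fin n) F) (W : Submodule F 𝕍) : img (g * h) W = img g (img h W) := by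
  ext x
  rw [mem_img_iff, mem_img_iff, mem_img_iff, _root_.mul_inv_rev, Units.val_mul,
    Matrix.mulVec_mulVec]

lemma b1_img_one (W : Submodule F 𝕍) : img (1 : GL (Fin n) F) W = W := by
  ext x
  rw [mem_img_iff, inv_one, Units.val_one, Matrix.one_mulVec]

lemma b1_img_inf (g : GL (Fin n) F) (W W' : Submodule F 𝕍) :
    img g (W ⊓ W') = img g W ⊓ img g W' := by
  ext x
  rw [Submodule.mem_inf, mem_img_iff, mem_img_iff, mem_img_iff, Submodule.mem_inf]

/-- rank–nullity for the restriction of a linear map to a subspace -/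
lemma b1_finrank_map_add {V₁ V₂ : Type*} [AddCommGroup V₁] [Module F V₁] [AddCommGroup V₂]
    [Module F V₂] [FiniteDimensional F V₁] (f : V₁ →ₗ[F] V₂) (W : Submodule F V₁) :
    finrank F ↥(W.map f) + finrank F ↥(W ⊓ LinearMap.ker f) = finrank F ↥W := by
  have h := LinearMap.finrank_range_add_finrank_ker (f.domRestrict W)
  rw [LinearMap.range_domRestrict, LinearMap.ker_domRestrict] at h
  have h2 : finrank F ↥((LinearMap.ker f).comap W.subtype) = finrank F ↥(W ⊓ LinearMap.ker f) := by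
    rw [← Submodule.map_comap_subtype]
    exact (Submodule.equivMapOfInjective W.subtype W.injective_subtype _).finrank_eq
  rw [h2] at h
  exact h

/-- **B1** [M-L] the growth step with the root group `kt v₀ a` (`a` skew):  `g' = g⁻¹ (kt v₀ a) g` -/
theorem growth_step (S : KU n q F E) (hF : Fintype.card F = q ^ 2) [FiniteDimensional F E]
    (hd : 2 * finrank F E = n) (M : Subgroup (GL (Fin n) F)) (hMS : M ≤ ℍ)
    (hM : ∀ g ∈ ℍ, (∀ e : E, (g : 𝕄) * S.ρ e = S.ρ e * (g : 𝕄)) → g ∈ M)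
    {v₀ : 𝕍} (hv₀ : v₀ ≠ 0) (hiso : S.fE v₀ v₀ = 0) {g : GL (Fin n) F} (hg : g ∈ M)
    {a : E} (ha : S.st a = -a) (ha0 : a ≠ 0) :
    ∃ g' ∈ M,
      finrank F ↥(line S.ρ v₀ ⊓ img g' (line S.ρ v₀)) =
        finrank F ↥(line S.ρ v₀ ⊓ img g (line S.ρ v₀)) +
          finrank F ↥(smulSub a (Pset S v₀ (img g (line S.ρ v₀))) ⊓
            Bset S v₀ (img g (line S.ρ v₀))) ∧
      (img g' (line S.ρ v₀) = line S.ρ v₀ ↔
        smulSub a (Pset S v₀ (img g (line S.ρ v₀))) ≤ Bset S v₀ (img g (line S.ρ v₀))) := by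
  classical
  have hn : n = 2 * finrank F E := hd.symm
  have hhyp : S.hyp v₀ = line S.ρ v₀ := Cfsg.Agent.Lib.Helper16.C3u2.hyp_eq_line S hF hn hv₀ hiso
  set L₀ : Submodule F 𝕍 := line S.ρ v₀ with hL₀
  set W : Submodule F 𝕍 := img g L₀ with hW
  set t : GL (Fin n) F := S.kt v₀ a hiso with ht
  have htM : t ∈ M := hM _ (S.kt_mem hiso ha) (S.kt_comm hiso a)
  -- the action of `t` and `t⁻¹`
  have ht_mv : ∀ x : 𝕍, (t : 𝕄) *ᵥ x = x + act S.ρ (a * S.fE x v₀) v₀ := S.kt_mulVec hiso a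
  have hti_mv : ∀ x : 𝕍, ((t⁻¹ : GL (Fin n) F) : 𝕄) *ᵥ x = x - act S.ρ (a * S.fE x v₀) v₀ :=
    S.kt_inv_mulVec hiso a
  have hmemB : ∀ e : E, e ∈ Bset S v₀ W ↔ act S.ρ e v₀ ∈ W := fun e => Iff.rfl
  have hmemP : ∀ φ : E, φ ∈ Pset S v₀ W ↔ ∃ w ∈ W, S.fE w v₀ = φ := fun φ => mem_Pset
  -- `t W = W ↔ a Φ ≤ B`
  have hstab : img t W = W ↔ smulSub a (Pset S v₀ W) ≤ Bset S v₀ W := by
    constructor
    · intro h x hx
      obtain ⟨φ, hφ, rfl⟩ := mem_smulSub.mp hx
      obtain ⟨w, hw, rfl⟩ := (hmemP φ).mp hφ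
      rw [hmemB]
      have h1 : (t : 𝕄) *ᵥ w ∈ W := by
        rw [← h]; exact mulVec_mem_img hw
      rw [ht_mv] at h1
      have h2 := W.sub_mem h1 hw
      rwa [add_sub_cancel_left] at h2
    · intro h
      have hle : img t W ≤ W := by
        intro x hx
        obtain ⟨w, hw, rfl⟩ := mem_img.mp hx
        rw [ht_mv]
        refine W.add_mem hw ?_
        rw [← hmemB]
        exact h (mem_smulSub.mpr ⟨_, (hmemP _).mpr ⟨w, hw, rfl⟩, rfl⟩)
      exact Submodule.eq_of_le_of_finrank_eq hle (finrank_img t W)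
  refine ⟨g⁻¹ * t * g, M.mul_mem (M.mul_mem (M.inv_mem hg) htM) hg, ?_, ?_⟩
  · -- the dimension formula
    -- step 1: transport by `g`
    have e1 : img g (L₀ ⊓ img (g⁻¹ * t * g) L₀) = W ⊓ img t W := by
      rw [b1_img_inf, ← b1_img_mul, ← mul_assoc, ← mul_assoc, mul_inv_cancel, one_mul, b1_img_mul]
    have s1 : finrank F ↥(L₀ ⊓ img (g⁻¹ * t * g) L₀) = finrank F ↥(W ⊓ img t W) := by
      rw [← e1, finrank_img]
    -- step 2: `W ∩ t W = t W'`
    set ξ : 𝕍 →ₗ[F] E := S.phi v₀ with hξ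
    obtain ⟨W', hW'⟩ : ∃ W' : Submodule F 𝕍,
        W' = W ⊓ (Bset S v₀ W).comap ((LinearMap.mulLeft F a).comp ξ) := ⟨_, rfl⟩
    have hmemW' : ∀ x : 𝕍, x ∈ W' ↔ x ∈ W ∧ act S.ρ (a * S.fE x v₀) v₀ ∈ W := by
      intro x
      rw [hW', Submodule.mem_inf, Submodule.mem_comap]
      rfl
    have e2 : img t W' = W ⊓ img t W := by
      ext x
      have hfx : S.fE (x - act S.ρ (a * S.fE x v₀) v₀) v₀ = S.fE x v₀ := by
        rw [S.fE_sub_left, S.fE_act_left, hiso, mul_zero, sub_zero]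
      constructor
      · intro hx
        have h0 := mem_img_iff.mp hx
        rw [hti_mv] at h0
        obtain ⟨h1, h2⟩ := (hmemW' _).mp h0
        rw [hfx] at h2
        refine Submodule.mem_inf.mpr ⟨?_, ?_⟩
        · have := W.add_mem h1 h2
          rwa [sub_add_cancel] at this
        · apply mem_img_iff.mpr
          rw [hti_mv]
          exact h1
      · intro hx
        obtain ⟨h1, h2⟩ := Submodule.mem_inf.mp hx
        have h3 := mem_img_iff.mp h2
        rw [hti_mv] at h3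
        apply mem_img_iff.mpr
        rw [hti_mv]
        apply (hmemW' _).mpr
        rw [hfx]
        refine ⟨h3, ?_⟩
        have := W.sub_mem h1 h3
        rwa [sub_sub_cancel] at this
    have s2 : finrank F ↥(W ⊓ img t W) = finrank F ↥W' := by
      rw [← e2, finrank_img]
    -- step 3: rank-nullity on `W'`
    have s3 := b1_finrank_map_add ξ W'
    have hker : W' ⊓ LinearMap.ker ξ = L₀ ⊓ W := by
      have hk : LinearMap.ker ξ = L₀ := hhyp
      rw [hk]
      ext x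
      constructor
      · intro hx
        obtain ⟨h1, h2⟩ := Submodule.mem_inf.mp hx
        exact Submodule.mem_inf.mpr ⟨h2, ((hmemW' x).mp h1).1⟩
      · intro hx
        obtain ⟨h1, h2⟩ := Submodule.mem_inf.mp hx
        refine Submodule.mem_inf.mpr ⟨(hmemW' x).mpr ⟨h2, ?_⟩, h1⟩
        have h3 : S.fE x v₀ = 0 := by
          have : x ∈ S.hyp v₀ := by rw [hhyp]; exact h1
          exact S.mem_hyp.mp this
        rw [h3, mul_zero, act_zero]
        exact W.zero_mem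
    have hinj : Function.Injective (LinearMap.mulLeft F a : E →ₗ[F] E) := by
      intro x y hxy
      exact mul_left_cancel₀ ha0 hxy
    have hmap : (W'.map ξ).map (LinearMap.mulLeft F a) =
        smulSub a (Pset S v₀ W) ⊓ Bset S v₀ W := by
      ext x
      rw [Submodule.mem_inf, hmemB]
      constructor
      · rintro ⟨y, ⟨w, hw, rfl⟩, rfl⟩
        obtain ⟨hw1, hw2⟩ := (hmemW' w).mp hw
        exact ⟨mem_smulSub.mpr ⟨_, (hmemP _).mpr ⟨w, hw1, rfl⟩, rfl⟩, hw2⟩
      · rintro ⟨h1, h2⟩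
        obtain ⟨φ, hφ, rfl⟩ := mem_smulSub.mp h1
        obtain ⟨w, hw, rfl⟩ := (hmemP φ).mp hφ
        exact ⟨S.fE w v₀, ⟨w, (hmemW' w).mpr ⟨hw, h2⟩, rfl⟩, rfl⟩
    have s4 : finrank F ↥(W'.map ξ) =
        finrank F ↥(smulSub a (Pset S v₀ W) ⊓ Bset S v₀ W) := by
      rw [← hmap]
      exact (Submodule.equivMapOfInjective _ hinj (W'.map ξ)).finrank_eq
    rw [s1, s2, ← s3, hker, s4, add_comm]
  · -- the stabiliser criterion
    rw [← hstab]
    constructor
    · intro h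
      have h1 : img g (img (g⁻¹ * t * g) L₀) = img g L₀ := by rw [h]
      rw [← b1_img_mul, ← mul_assoc, ← mul_assoc, mul_inv_cancel, one_mul, b1_img_mul] at h1
      exact h1
    · intro h
      rw [b1_img_mul, b1_img_mul, h, ← b1_img_mul, inv_mul_cancel, b1_img_one]

end Cfsg.Agent.Lib.Helper7.C3qLeaf
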