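import Mathlib
import Cfsg.Agent.Lib.Helper2.SOTDefs
import Cfsg.Agent.Lib.Helper27.SOTLADefs
import Cfsg.Agent.Lib.Helper13.OTUCalc
import Cfsg.Agent.Lib.Helper13.OTLADefs
import Cfsg.Agent.Lib.Helper7.OTLAZm

/-!
S5681 + S5709 part (LA') (helper13's market), leaves C3g `Zm_iso`, C3h `Zc_iso`, by helper7.
-/

set_option autoImplicit false
set_option linter.unusedSectionVars false
set_option linter.unusedVariables false

namespace Cfsg.Agent.Lib.Helper7.OTLALeaf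
open Matrix
open Cfsg.Agent.Lib.Helper25.Tens Cfsg.Agent.Lib.Helper19.OSub
open Cfsg.Agent.Lib.Helper2.SOT Cfsg.Agent.Lib.Helper27.SOTLA Cfsg.Agent.Lib.Helper13.OTU
open Cfsg.Agent.Lib.Helper13.OTLA
open scoped Kronecker

variable {F : Type*} [Field F] [Fintype F] {a b : ℕ} {G₁ : Matrix (Fin a) (Fin a) F}
  {G₂ : Matrix (Fin b) (Fin b) F} {o o' p p' : Fin b} {Om M : Subgroup (GL (Idx a b) F)}

/-- blocks of `ZN` (general index positions) -/
lemma blk_ZN (u u' v v' : Fin b) (A D B C : Matrix (Fin a) (Fin a) F) (k l : Fin b) :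
    blk (ZN u u' v v' A D B C) k l = (if k = u ∧ l = v then A else 0) +
      (if k = u ∧ l = v' then B else 0) + (if k = u' ∧ l = v then C else 0) +
      (if k = u' ∧ l = v' then D else 0) := by
  unfold ZN
  rw [blk_add, blk_add, blk_add, blk_kron_single, blk_kron_single, blk_kron_single, blk_kron_single]

lemma ZN_eq_zero_iff {u u' v v' : Fin b} (huu : u ≠ u') (hvv : v ≠ v')
    (A D B C : Matrix (Fin a) (Fin a) F) :
    ZN u u' v v' A D B C = 0 ↔ (A = 0 ∧ D = 0 ∧ B = 0 ∧ C = 0) := by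
  constructor
  · intro h
    have hb : ∀ k l, blk (ZN u u' v v' A D B C) k l = 0 := by
      intro k l; rw [h]; rfl
    refine ⟨?_, ?_, ?_, ?_⟩
    · have := hb u v
      rw [blk_ZN] at this
      simpa [huu, hvv, huu.symm, hvv.symm] using this
    · have := hb u' v'
      rw [blk_ZN] at this
      simpa [huu, hvv, huu.symm, hvv.symm] using this
    · have := hb u v'
      rw [blk_ZN] at this
      simpa [huu, hvv, huu.symm, hvv.symm] using this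
    · have := hb u' v
      rw [blk_ZN] at this
      simpa [huu, hvv, huu.symm, hvv.symm] using this
  · rintro ⟨rfl, rfl, rfl, rfl⟩
    unfold ZN
    simp

lemma ZN_transpose (u u' v v' : Fin b) (A D B C : Matrix (Fin a) (Fin a) F) :
    (ZN u u' v v' A D B C)ᵀ = ZN v v' u u' Aᵀ Dᵀ Cᵀ Bᵀ := by
  unfold ZN
  simp only [Matrix.transpose_add, ← Matrix.kroneckerMap_transpose, Matrix.transpose_single]
  abel

lemma G2_mul_single (hs2 : G₂ᵀ = G₂) (hA : Adp G₂ o o' p p') (v : Fin b) :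
    G₂ * Matrix.single o v (1 : F) = Matrix.single p v 1 ∧
    G₂ * Matrix.single o' v (1 : F) = Matrix.single p' v 1 := by
  have hcol : ∀ k, G₂ k o = if k = p then 1 else 0 := by
    intro k
    have : G₂ k o = G₂ o k := by
      conv_lhs => rw [← hs2]
      rfl
    rw [this, hA.row_o]
  have hcol' : ∀ k, G₂ k o' = if k = p' then 1 else 0 := by
    intro k
    have : G₂ k o' = G₂ o' k := by
      conv_lhs => rw [← hs2]
      rfl
    rw [this, hA.row_o']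
  constructor
  · ext k l
    by_cases hl : l = v
    · subst hl
      rw [Matrix.mul_single_apply_same, hcol, mul_one, Matrix.single_apply]
      by_cases hk : k = p
      · subst hk; simp
      · rw [if_neg hk, if_neg (fun h => hk h.1.symm)]
    · rw [Matrix.mul_single_apply_of_ne _ _ _ _ _ hl, Matrix.single_apply,
        if_neg (fun h => hl h.2.symm)]
  · ext k l
    by_cases hl : l = v
    · subst hl
      rw [Matrix.mul_single_apply_same, hcol', mul_one, Matrix.single_apply]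
      by_cases hk : k = p'
      · subst hk; simp
      · rw [if_neg hk, if_neg (fun h => hk h.1.symm)]
    · rw [Matrix.mul_single_apply_of_ne _ _ _ _ _ hl, Matrix.single_apply,
        if_neg (fun h => hl h.2.symm)]

/-- `K N` -/
lemma KM_mul_ZN (hs2 : G₂ᵀ = G₂) (hA : Adp G₂ o o' p p') (κ₁ κ₂ σ τ : Matrix (Fin a) (Fin a) F) :
    KM G₁ G₂ * ZN o o' p p' κ₁ κ₂ σ τ = ZN p p' p p' (G₁ * κ₁) (G₁ * κ₂) (G₁ * σ) (G₁ * τ) := by
  unfold KM ZN
  simp only [mul_add, ← Matrix.mul_kronecker_mul, (G2_mul_single hs2 hA p).1, (G2_mul_single hs2 hA p).2,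
    (G2_mul_single hs2 hA p').1, (G2_mul_single hs2 hA p').2]

lemma KM_transpose (hs1 : G₁ᵀ = G₁) (hs2 : G₂ᵀ = G₂) : (KM G₁ G₂)ᵀ = KM G₁ G₂ := by
  unfold KM
  rw [← Matrix.kroneckerMap_transpose, hs1, hs2]

/-- (C3g) plan (C2): `Zm κ₁ κ₂ σ τ` is an isometry iff `κ₁, κ₂` are skew-adjoint and `τ = -σ†`. -/
theorem Zm_iso (hs1 : G₁ᵀ = G₁) (hs2 : G₂ᵀ = G₂) (hn1 : G₁.det ≠ 0) (hA : Adp G₂ o o' p p')
    (κ₁ κ₂ σ τ : Matrix (Fin a) (Fin a) F) :
    IsIso G₁ G₂ (Zm o o' p p' κ₁ κ₂ σ τ) ↔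
      (IsSkewAdj G₁ κ₁ ∧ IsSkewAdj G₁ κ₂ ∧ τ = -adjB G₁ σ) := by
  set N := ZN o o' p p' κ₁ κ₂ σ τ with hN
  set K := KM G₁ G₂ with hK
  have hKN : K * N = ZN p p' p p' (G₁ * κ₁) (G₁ * κ₂) (G₁ * σ) (G₁ * τ) := KM_mul_ZN hs2 hA _ _ _ _
  have hKt : Kᵀ = K := KM_transpose hs1 hs2
  have hNK : Nᵀ * K = ZN p p' p p' (κ₁ᵀ * G₁) (κ₂ᵀ * G₁) (τᵀ * G₁) (σᵀ * G₁) := by
    have : Nᵀ * K = (K * N)ᵀ := by rw [Matrix.transpose_mul, hKt]
    rw [this, hKN, ZN_transpose]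
    simp only [Matrix.transpose_mul, hs1]
  have hNKN : Nᵀ * K * N = 0 := by
    rw [mul_assoc, hKN, hN, ZN_transpose]
    unfold ZN
    simp only [add_mul, mul_add, kron_single_mul _ _ _ _ _ _ hA.hop, kron_single_mul _ _ _ _ _ _ hA.hop',
      kron_single_mul _ _ _ _ _ _ hA.ho'p, kron_single_mul _ _ _ _ _ _ hA.ho'p', add_zero]
  have hmain : (Zm o o' p p' κ₁ κ₂ σ τ)ᵀ * K * Zm o o' p p' κ₁ κ₂ σ τ = K +
      ZN p p' p p' (κ₁ᵀ * G₁ + G₁ * κ₁) (κ₂ᵀ * G₁ + G₁ * κ₂) (τᵀ * G₁ + G₁ * σ) (σᵀ * G₁ + G₁ * τ) := by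
    rw [Zm_eq, ← hN, ← ZN_add, ← hNK, ← hKN]
    have : (1 + N)ᵀ * K * (1 + N) = K + (Nᵀ * K + K * N) + Nᵀ * K * N := by
      simp only [Matrix.transpose_add, Matrix.transpose_one, add_mul, mul_add, one_mul, mul_one]
      abel
    rw [this, hNKN, add_zero]
  unfold IsIso
  rw [← hK, hmain]
  have hJ : IsUnit G₁.det := isUnit_iff_ne_zero.mpr hn1
  constructor
  · intro h
    have h0 : ZN p p' p p' (κ₁ᵀ * G₁ + G₁ * κ₁) (κ₂ᵀ * G₁ + G₁ * κ₂) (τᵀ * G₁ + G₁ * σ)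
        (σᵀ * G₁ + G₁ * τ) = 0 := by
      have := congrArg (fun T => T - K) h
      simpa using this
    obtain ⟨h1, h2, h3, h4⟩ := (ZN_eq_zero_iff hA.hpp' hA.hpp' _ _ _ _).mp h0
    refine ⟨?_, ?_, ?_⟩
    · unfold IsSkewAdj
      exact eq_neg_of_add_eq_zero_right h1
    · unfold IsSkewAdj
      exact eq_neg_of_add_eq_zero_right h2
    · unfold adjB
      have h5 : G₁ * τ = -(σᵀ * G₁) := eq_neg_of_add_eq_zero_right h4
      calc τ = G₁⁻¹ * (G₁ * τ) := by rw [← mul_assoc, Matrix.nonsing_inv_mul _ hJ, one_mul]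
        _ = -(G₁⁻¹ * σᵀ * G₁) := by rw [h5, mul_neg, mul_assoc]
  · rintro ⟨h1, h2, h3⟩
    unfold IsSkewAdj at h1 h2
    have h4 : σᵀ * G₁ + G₁ * τ = 0 := by
      rw [h3]
      unfold adjB
      rw [mul_neg, ← mul_assoc, ← mul_assoc, Matrix.mul_nonsing_inv _ hJ, one_mul, add_neg_cancel]
    have h5 : τᵀ * G₁ + G₁ * σ = 0 := by
      have := congrArg Matrix.transpose h4
      rw [Matrix.transpose_add, Matrix.transpose_mul, Matrix.transpose_mul, Matrix.transpose_transpose,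
        hs1, Matrix.transpose_zero] at this
      rw [add_comm]
      exact this
    have e1 : κ₁ᵀ * G₁ + G₁ * κ₁ = 0 := by rw [h1, add_neg_cancel]
    have e2 : κ₂ᵀ * G₁ + G₁ * κ₂ = 0 := by rw [h2, add_neg_cancel]
    rw [e1, e2, h4, h5]
    have : ZN p p' p p' (0 : Matrix (Fin a) (Fin a) F) 0 0 0 = 0 :=
      (ZN_eq_zero_iff hA.hpp' hA.hpp' _ _ _ _).mpr ⟨rfl, rfl, rfl, rfl⟩
    rw [this, add_zero]

/-- (C3h) -/
theorem Zc_iso (hs1 : G₁ᵀ = G₁) (hs2 : G₂ᵀ = G₂) (hn1 : G₁.det ≠ 0) (hA : Adp G₂ o o' p p')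
    (κ₁ κ₂ σ : Matrix (Fin a) (Fin a) F) :
    IsIso G₁ G₂ (Zc G₁ o o' p p' κ₁ κ₂ σ) ↔ (IsSkewAdj G₁ κ₁ ∧ IsSkewAdj G₁ κ₂) := by
  unfold Zc
  rw [Zm_iso hs1 hs2 hn1 hA]
  constructor
  · rintro ⟨h1, h2, -⟩
    exact ⟨h1, h2⟩
  · rintro ⟨h1, h2⟩
    exact ⟨h1, h2, rfl⟩

end Cfsg.Agent.Lib.Helper7.OTLALeaf
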