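import Mathlib
import Cfsg.Agent.Lib.Helper2.SOTDefs
import Cfsg.Agent.Lib.Helper27.SOTLADefs
import Cfsg.Agent.Lib.Helper13.OTUCalc
import Cfsg.Agent.Lib.Helper13.OTLADefs

/-!
S5681 + S5709 part (LA') (helper13's market), leaf C2 `rho_of_iso`, by helper7.
-/

set_option autoImplicit false
set_option linter.unusedSectionVars false
set_option linter.unusedVariables false

namespace Cfsg.Agent.Lib.Helper7.OTLALeaf
open Matrix
open Cfsg.Agent.Lib.Helper25.Tens Cfsg.Agent.Lib.Helper19.OSub
open Cfsg.Agent.Lib.Helper2.SOT Cfsg.Agent.Lib.Helper27.SOTLA Cfsg.Agent.Lib.Helper13.OTU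
open Cfsg.Agent.Lib.Helper13.OTLA
open scoped Kronecker

variable {F : Type*} [Field F] [Fintype F] {a b : ℕ} {G₁ : Matrix (Fin a) (Fin a) F}
  {G₂ : Matrix (Fin b) (Fin b) F} {o o' p p' : Fin b} {Om M : Subgroup (GL (Idx a b) F)}

lemma blk_transpose (X : Matrix (Idx a b) (Idx a b) F) (k l : Fin b) :
    blk Xᵀ k l = (blk X l k)ᵀ := rfl

lemma blk_KM (k l : Fin b) : blk (KM G₁ G₂) k l = G₂ k l • G₁ := by
  unfold KM
  exact blk_kron G₁ G₂ k l

/-- the block identity behind `rho_of_iso` -/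
lemma rho_key (hs2 : G₂ᵀ = G₂) (hA : Adp G₂ o o' p p')
    {X : Matrix (Idx a b) (Idx a b) F} (hiso : IsIso G₁ G₂ X) (hU : UL o o' p p' X)
    (m : Fin b) (hmo : m ≠ o) (hmo' : m ≠ o') (hmp : m ≠ p) (hmp' : m ≠ p') (c : Fin b)
    (hc : c = p ∨ c = p') :
    (∑ k, G₂ k m • ((blk X k c)ᵀ * G₁)) + (if c = p then G₁ * blk X o m else 0) +
      (if c = p' then G₁ * blk X o' m else 0) = 0 := by
  classical
  have hcol : ∀ k, G₂ k o = if k = p then 1 else 0 := by
    intro k
    have : G₂ k o = G₂ o k := by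
      conv_lhs => rw [← hs2]
      rfl
    rw [this, hA.row_o]
  have hcol' : ∀ k, G₂ k o' = if k = p' then 1 else 0 := by
    intro k
    have : G₂ k o' = G₂ o' k := by
      conv_lhs => rw [← hs2]
      rfl
    rw [this, hA.row_o']
  have hco : c ≠ o := by rcases hc with rfl | rfl; exact hA.hop.symm; exact hA.hop'.symm
  have hco' : c ≠ o' := by rcases hc with rfl | rfl; exact hA.ho'p.symm; exact hA.ho'p'.symm
  -- column `m` of `X`
  have hXm : ∀ l, blk X l m = (if l = m then 1 else 0) + (if l = o then blk X o m else 0) +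
      (if l = o' then blk X o' m else 0) := by
    intro l
    by_cases hlo : l = o
    · subst hlo
      rw [if_neg hmo.symm, if_pos rfl, if_neg hA.hoo', zero_add, add_zero]
    by_cases hlo' : l = o'
    · subst hlo'
      rw [if_neg hmo'.symm, if_neg hlo, if_pos rfl, zero_add, zero_add]
    · rw [if_neg hlo, if_neg hlo', add_zero, add_zero]
      apply hU
      rintro (⟨h1, -⟩ | ⟨h1, -⟩)
      · simp only [TL, Finset.mem_insert, Finset.mem_singleton] at h1
        rcases h1 with h1 | h1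
        · exact hlo h1
        · exact hlo' h1
      · simp only [TL, Finset.mem_insert, Finset.mem_singleton] at h1
        rcases h1 with h1 | h1
        · exact hmp h1
        · exact hmp' h1
  -- blocks `(p, c)`, `(p', c)` of `X`
  have hXpc : blk X p c = if p = c then 1 else 0 := by
    apply hU
    rintro (⟨h1, -⟩ | ⟨-, h1⟩)
    · simp only [TL, Finset.mem_insert, Finset.mem_singleton] at h1
      rcases h1 with h1 | h1
      · exact hA.hop h1.symm
      · exact hA.ho'p h1.symm
    · exact h1 (by simp [TL])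
  have hXp'c : blk X p' c = if p' = c then 1 else 0 := by
    apply hU
    rintro (⟨h1, -⟩ | ⟨-, h1⟩)
    · simp only [TL, Finset.mem_insert, Finset.mem_singleton] at h1
      rcases h1 with h1 | h1
      · exact hA.hop' h1.symm
      · exact hA.ho'p' h1.symm
    · exact h1 (by simp [TL])
  have hW : ∀ l, blk (Xᵀ * KM G₁ G₂) c l = ∑ k, G₂ k l • ((blk X k c)ᵀ * G₁) := by
    intro l
    rw [blk_mul]
    apply Finset.sum_congr rfl
    intro k _
    rw [blk_transpose, blk_KM, Matrix.mul_smul]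
  have hWo : blk (Xᵀ * KM G₁ G₂) c o = if c = p then G₁ else 0 := by
    rw [hW]
    simp only [hcol, ite_smul, one_smul, zero_smul, Finset.sum_ite_eq', Finset.mem_univ, if_true]
    rw [hXpc]
    by_cases h : c = p
    · subst h; simp
    · rw [if_neg h, if_neg (fun h' => h h'.symm)]; simp
  have hWo' : blk (Xᵀ * KM G₁ G₂) c o' = if c = p' then G₁ else 0 := by
    rw [hW]
    simp only [hcol', ite_smul, one_smul, zero_smul, Finset.sum_ite_eq', Finset.mem_univ, if_true]
    rw [hXp'c]
    by_cases h : c = p'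
    · subst h; simp
    · rw [if_neg h, if_neg (fun h' => h h'.symm)]; simp
  have hK : blk (KM G₁ G₂) c m = 0 := by
    rw [blk_KM]
    rcases hc with rfl | rfl
    · rw [hA.row_p, if_neg hmo, zero_smul]
    · rw [hA.row_p', if_neg hmo', zero_smul]
  have h1 : blk (Xᵀ * KM G₁ G₂ * X) c m = 0 := by
    have : Xᵀ * KM G₁ G₂ * X = KM G₁ G₂ := hiso
    rw [this, hK]
  rw [blk_mul] at h1
  have h2 : ∑ l, blk (Xᵀ * KM G₁ G₂) c l * blk X l m =
      blk (Xᵀ * KM G₁ G₂) c m + blk (Xᵀ * KM G₁ G₂) c o * blk X o m +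
        blk (Xᵀ * KM G₁ G₂) c o' * blk X o' m := by
    have hterm : ∀ l, blk (Xᵀ * KM G₁ G₂) c l * blk X l m =
        (if l = m then blk (Xᵀ * KM G₁ G₂) c l else 0) +
        (if l = o then blk (Xᵀ * KM G₁ G₂) c l * blk X o m else 0) +
        (if l = o' then blk (Xᵀ * KM G₁ G₂) c l * blk X o' m else 0) := by
      intro l
      rw [hXm l]
      simp only [mul_add, mul_ite, mul_one, mul_zero]
    calc ∑ l, blk (Xᵀ * KM G₁ G₂) c l * blk X l m
        = ∑ l, ((if l = m then blk (Xᵀ * KM G₁ G₂) c l else 0) +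
          (if l = o then blk (Xᵀ * KM G₁ G₂) c l * blk X o m else 0) +
          (if l = o' then blk (Xᵀ * KM G₁ G₂) c l * blk X o' m else 0)) :=
          Finset.sum_congr rfl (fun l _ => hterm l)
      _ = _ := by
          rw [Finset.sum_add_distrib, Finset.sum_add_distrib, Finset.sum_ite_eq', Finset.sum_ite_eq',
            Finset.sum_ite_eq']
          simp only [Finset.mem_univ, if_true]
  rw [h2, hWo, hWo', hW] at h1
  have e1 : (if c = p then G₁ else 0) * blk X o m = if c = p then G₁ * blk X o m else 0 := by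
    by_cases h : c = p
    · rw [if_pos h, if_pos h]
    · rw [if_neg h, if_neg h, zero_mul]
  have e2 : (if c = p' then G₁ else 0) * blk X o' m = if c = p' then G₁ * blk X o' m else 0 := by
    by_cases h : c = p'
    · rw [if_pos h, if_pos h]
    · rw [if_neg h, if_neg h, zero_mul]
  rw [e1, e2] at h1
  exact h1

/-- (C2) the `ρ`-part of a `U`-form isometry is determined by its `θ`-part. -/
theorem rho_of_iso (hs1 : G₁ᵀ = G₁) (hs2 : G₂ᵀ = G₂) (hn1 : G₁.det ≠ 0) (hA : Adp G₂ o o' p p')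
    {X : Matrix (Idx a b) (Idx a b) F} (hiso : IsIso G₁ G₂ X) (hU : UL o o' p p' X)
    (m : Fin b) (hm : cls o o' p p' m = 1) :
    blk X o m = -∑ m', G₂ m' m • adjB G₁ (blk X m' p) ∧
    blk X o' m = -∑ m', G₂ m' m • adjB G₁ (blk X m' p') := by
  have hJ : IsUnit G₁.det := isUnit_iff_ne_zero.mpr hn1
  have hmid : m ≠ o ∧ m ≠ o' ∧ m ≠ p ∧ m ≠ p' := by
    unfold cls at hm
    by_cases h1 : m = o ∨ m = o'
    · rw [if_pos h1] at hm; omega
    · rw [if_neg h1] at hm
      by_cases h2 : m = p ∨ m = p'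
      · rw [if_pos h2] at hm; omega
      · exact ⟨fun h => h1 (Or.inl h), fun h => h1 (Or.inr h), fun h => h2 (Or.inl h),
          fun h => h2 (Or.inr h)⟩
  obtain ⟨hmo, hmo', hmp, hmp'⟩ := hmid
  have solve : ∀ (Y : Matrix (Fin a) (Fin a) F) (c : Fin b),
      (∑ k, G₂ k m • ((blk X k c)ᵀ * G₁)) + G₁ * Y = 0 →
      Y = -∑ m', G₂ m' m • adjB G₁ (blk X m' c) := by
    intro Y c h
    have h1 : G₁ * Y = -∑ k, G₂ k m • ((blk X k c)ᵀ * G₁) := eq_neg_of_add_eq_zero_right h
    calc Y = G₁⁻¹ * (G₁ * Y) := by rw [← mul_assoc, Matrix.nonsing_inv_mul _ hJ, one_mul]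
      _ = -∑ m', G₂ m' m • adjB G₁ (blk X m' c) := by
        rw [h1, mul_neg, Finset.mul_sum]
        congr 1
        apply Finset.sum_congr rfl
        intro k _
        unfold adjB
        rw [Matrix.mul_smul, mul_assoc]
  constructor
  · apply solve
    have := rho_key hs2 hA hiso hU m hmo hmo' hmp hmp' p (Or.inl rfl)
    rw [if_pos rfl, if_neg hA.hpp', add_zero] at this
    exact this
  · apply solve
    have := rho_key hs2 hA hiso hU m hmo hmo' hmp hmp' p' (Or.inr rfl)
    rw [if_neg hA.hpp'.symm, if_pos rfl, add_zero] at this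
    exact this

end Cfsg.Agent.Lib.Helper7.OTLALeaf
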