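import Mathlib
import Cfsg.Agent.Lib.Helper2.SOTDefs
import Cfsg.Agent.Lib.Helper27.SOTLADefs
import Cfsg.Agent.Lib.Helper13.OTUCalc
import Cfsg.Agent.Lib.Helper13.OTLADefs
import Cfsg.Agent.Lib.Helper7.OTLAZm

/-!
S5681 + S5709 part (LA') (helper13's market), block FC: `orth_of_IsIso_kron_one`, `orth_of_IsIso_one_kron`,
`tsl_of_sq_zero`, `stabR_of_range`, by helper7.
-/

set_option autoImplicit false
set_option linter.unusedSectionVars false
set_option linter.unusedVariables false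

namespace Cfsg.Agent.Lib.Helper7.OTLALeaf
open Matrix
open Cfsg.Agent.Lib.Helper25.Tens Cfsg.Agent.Lib.Helper19.OSub
open Cfsg.Agent.Lib.Helper2.SOT Cfsg.Agent.Lib.Helper27.SOTLA Cfsg.Agent.Lib.Helper13.OTU
open Cfsg.Agent.Lib.Helper13.OTLA
open scoped Kronecker

variable {F : Type*} [Field F] [Fintype F] {a b : ℕ} {G₁ : Matrix (Fin a) (Fin a) F}
  {G₂ : Matrix (Fin b) (Fin b) F} {o o' p p' : Fin b} {Om M : Subgroup (GL (Idx a b) F)}

lemma exists_ne_zero_of_det {n : ℕ} (hn : 0 < n) {G : Matrix (Fin n) (Fin n) F} (hG : G.det ≠ 0) :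
    ∃ k l, G k l ≠ 0 := by
  by_contra hcon
  push Not at hcon
  apply hG
  have : G = 0 := by
    ext k l
    exact hcon k l
  rw [this]
  have : Nonempty (Fin n) := ⟨⟨0, hn⟩⟩
  exact Matrix.det_zero

lemma kron_transpose {m n : ℕ} (A : Matrix (Fin m) (Fin m) F) (B : Matrix (Fin n) (Fin n) F) :
    (A ⊗ₖ B)ᵀ = Aᵀ ⊗ₖ Bᵀ := (Matrix.kroneckerMap_transpose _ A B).symm

lemma kron_conj (α : Matrix (Fin a) (Fin a) F) (β : Matrix (Fin b) (Fin b) F) :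
    (α ⊗ₖ β)ᵀ * KM G₁ G₂ * (α ⊗ₖ β) = (αᵀ * G₁ * α) ⊗ₖ (βᵀ * G₂ * β) := by
  unfold KM
  rw [kron_transpose, ← Matrix.mul_kronecker_mul, ← Matrix.mul_kronecker_mul]

/-- (FC-0d) `α ⊗ 1` isometry ⟹ `α` isometry of `G₁`. -/
theorem orth_of_IsIso_kron_one (hn2 : G₂.det ≠ 0) (hb : 0 < b) {α : Matrix (Fin a) (Fin a) F}
    (h : IsIso G₁ G₂ (α ⊗ₖ (1 : Matrix (Fin b) (Fin b) F))) : IsOrthB G₁ α := by
  unfold IsIso at h
  rw [kron_conj, Matrix.transpose_one, one_mul, mul_one] at h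
  obtain ⟨k, l, hkl⟩ := exists_ne_zero_of_det hb hn2
  have h1 := congrArg (fun X => blk X k l) h
  simp only [KM, blk_kron] at h1
  unfold IsOrthB
  exact smul_right_injective _ hkl h1

/-- (FC-0d') `1 ⊗ β` isometry ⟹ `β` isometry of `G₂`. -/
theorem orth_of_IsIso_one_kron (hn1 : G₁.det ≠ 0) (ha : 0 < a) {β : Matrix (Fin b) (Fin b) F}
    (h : IsIso G₁ G₂ ((1 : Matrix (Fin a) (Fin a) F) ⊗ₖ β)) : IsOrthB G₂ β := by
  unfold IsIso at h
  rw [kron_conj, Matrix.transpose_one, one_mul, mul_one] at h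
  obtain ⟨i, j, hij⟩ := exists_ne_zero_of_det ha hn1
  unfold IsOrthB
  ext k l
  have h1 := congrFun (congrFun h (i, k)) (j, l)
  simp only [KM, Matrix.kroneckerMap_apply] at h1
  exact mul_left_cancel₀ hij h1

/-- (FC-B1) the image of a skew-adjoint `ν'` with `ν'² = 0` of rank `2` is a totally singular line. -/
theorem tsl_of_sq_zero (hs2 : G₂ᵀ = G₂) {ν : Matrix (Fin b) (Fin b) F} (hsk : IsSkewAdj G₂ ν)
    (hν : ν * ν = 0) (hr : ν.rank = 2) :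
    ∃ w₁ w₂ : Fin b → F, fB G₂ (ν *ᵥ w₁) (ν *ᵥ w₁) = 0 ∧ fB G₂ (ν *ᵥ w₂) (ν *ᵥ w₂) = 0 ∧
      fB G₂ (ν *ᵥ w₁) (ν *ᵥ w₂) = 0 ∧
      (∀ c₁ c₂ : F, c₁ • (ν *ᵥ w₁) + c₂ • (ν *ᵥ w₂) = 0 → c₁ = 0 ∧ c₂ = 0) := by
  have hz : ∀ u w : Fin b → F, fB G₂ (ν *ᵥ u) (ν *ᵥ w) = 0 := by
    intro u w
    unfold fB
    unfold IsSkewAdj at hsk
    have h1 : G₂ *ᵥ (ν *ᵥ w) = -(νᵀ *ᵥ (G₂ *ᵥ w)) := by
      rw [Matrix.mulVec_mulVec, hsk, Matrix.neg_mulVec, Matrix.mulVec_mulVec]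
    rw [h1, dotProduct_neg, Matrix.dotProduct_mulVec, Matrix.vecMul_transpose, Matrix.mulVec_mulVec,
      hν, Matrix.zero_mulVec, zero_dotProduct, neg_zero]
  -- a basis of the range
  have hfr : Module.finrank F (LinearMap.range ν.mulVecLin) = 2 := by
    rw [← Matrix.rank]; exact hr
  let bs := Module.finBasisOfFinrankEq F (LinearMap.range ν.mulVecLin) hfr
  have hmem : ∀ i : Fin 2, ∃ w : Fin b → F, ν *ᵥ w = (bs i : Fin b → F) := by
    intro i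
    obtain ⟨w, hw⟩ := LinearMap.mem_range.1 (bs i).2
    exact ⟨w, by rw [← hw]; rfl⟩
  obtain ⟨w₁, hw₁⟩ := hmem 0
  obtain ⟨w₂, hw₂⟩ := hmem 1
  refine ⟨w₁, w₂, hz _ _, hz _ _, hz _ _, ?_⟩
  intro c₁ c₂ hc
  rw [hw₁, hw₂] at hc
  have hli := bs.linearIndependent
  rw [Fintype.linearIndependent_iff] at hli
  have h2 := hli ![c₁, c₂] (by
    rw [Fin.sum_univ_two]
    apply Subtype.ext
    simpa using hc)
  exact ⟨by simpa using h2 0, by simpa using h2 1⟩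

/-- (FC-B2) if `m⁻¹ t m = 1 ⊗ β₂` and `β e_o, β e_o' ∈ Im (β₂ - 1)` then `m (1 ⊗ β)` stabilises `R = A ⊗ L`. -/
theorem stabR_of_range (hn1 : G₁.det ≠ 0) {m t : GL (Idx a b) F}
    (ht : t.1 = Zc G₁ o o' p p' 0 0 ((1 : F) • (1 : Matrix (Fin a) (Fin a) F)))
    (β₂ : Matrix (Fin b) (Fin b) F)
    (hk : (m⁻¹ * t * m).1 = (1 : Matrix (Fin a) (Fin a) F) ⊗ₖ β₂) (β : GL (Fin b) F)
    (ho : ∃ w : Fin b → F, β.1 *ᵥ Pi.single o 1 = (β₂ - 1) *ᵥ w)
    (ho' : ∃ w : Fin b → F, β.1 *ᵥ Pi.single o' 1 = (β₂ - 1) *ᵥ w) :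
    StabR o o' (m * (kel (1 : GL (Fin a) F) β : GL (Idx a b) F)).1 := by
  have ht1 : t.1 - 1 = (1 : Matrix (Fin a) (Fin a) F) ⊗ₖ (nL o o' p p' : Matrix (Fin b) (Fin b) F) := by
    rw [ht, Zc_scalar_eq hn1, one_smul, Matrix.kronecker_add, Matrix.one_kronecker_one,
      add_sub_cancel_left]
  have hcomm : t.1 * m.1 = m.1 * ((1 : Matrix (Fin a) (Fin a) F) ⊗ₖ β₂) := by
    rw [← hk]
    have e : m * (m⁻¹ * t * m) = t * m := by group
    rw [← Units.val_mul, ← Units.val_mul, e]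
  have hkey : m.1 * ((1 : Matrix (Fin a) (Fin a) F) ⊗ₖ (β₂ - 1)) =
      ((1 : Matrix (Fin a) (Fin a) F) ⊗ₖ (nL o o' p p' : Matrix (Fin b) (Fin b) F)) * m.1 := by
    have e : (1 : Matrix (Fin a) (Fin a) F) ⊗ₖ (β₂ - 1) =
        (1 : Matrix (Fin a) (Fin a) F) ⊗ₖ β₂ - 1 := by
      rw [eq_sub_iff_add_eq, ← Matrix.one_kronecker_one (α := F) (m := Fin a) (n := Fin b),
        ← Matrix.kronecker_add, sub_add_cancel]
    rw [← ht1, e, mul_sub, mul_one, sub_mul, one_mul, hcomm]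
  have main : ∀ (l : Fin b) (w : Fin b → F), β.1 *ᵥ Pi.single l 1 = (β₂ - 1) *ᵥ w →
      ∀ k, k ≠ o → k ≠ o' → blk (m * (kel (1 : GL (Fin a) F) β : GL (Idx a b) F)).1 k l = 0 := by
    intro l w hw k hko hko'
    ext i i'
    have e1 : blk (m * (kel (1 : GL (Fin a) F) β : GL (Idx a b) F)).1 k l i i' =
        ∑ j', m.1 (i, k) (i', j') * β.1 j' l := by
      simp [blk, Matrix.mul_apply, Fintype.sum_prod_type, Matrix.kroneckerMap_apply,
        Matrix.one_apply]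
    have e2 : ∀ j', β.1 j' l = ∑ j'', (β₂ - 1) j' j'' * w j'' := by
      intro j'
      have := congrFun hw j'
      rw [Matrix.mulVec_single_one] at this
      simpa [Matrix.mulVec, dotProduct] using this
    have e3 : ∀ j'', (m.1 * ((1 : Matrix (Fin a) (Fin a) F) ⊗ₖ (β₂ - 1) :
        Matrix (Idx a b) (Idx a b) F)) (i, k) (i', j'') =
        ∑ j', m.1 (i, k) (i', j') * (β₂ - 1) j' j'' := by
      intro j''
      simp [Matrix.mul_apply, Fintype.sum_prod_type, Matrix.kroneckerMap_apply, Matrix.one_apply]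
    have e4 : ∀ j'', (((1 : Matrix (Fin a) (Fin a) F) ⊗ₖ (nL o o' p p' : Matrix (Fin b) (Fin b) F) :
        Matrix (Idx a b) (Idx a b) F) * m.1) (i, k) (i', j'') = 0 := by
      intro j''
      simp [Matrix.mul_apply, Matrix.kroneckerMap_apply, Matrix.one_apply,
        nL, Ne.symm hko, Ne.symm hko']
    rw [e1]
    simp only [Matrix.zero_apply]
    calc ∑ j', m.1 (i, k) (i', j') * β.1 j' l
        = ∑ j', m.1 (i, k) (i', j') * ∑ j'', (β₂ - 1) j' j'' * w j'' := by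
          simp only [e2]
      _ = ∑ j'', (∑ j', m.1 (i, k) (i', j') * (β₂ - 1) j' j'') * w j'' := by
          simp only [Finset.mul_sum, Finset.sum_mul]
          rw [Finset.sum_comm]
          refine Finset.sum_congr rfl fun j'' _ => Finset.sum_congr rfl fun j' _ => ?_
          ring
      _ = 0 := by
          refine Finset.sum_eq_zero fun j'' _ => ?_
          rw [← e3, hkey, e4, zero_mul]
  obtain ⟨w, hw⟩ := ho
  obtain ⟨w', hw'⟩ := ho'
  intro k l hl hko hko'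
  rcases hl with rfl | rfl
  · exact main _ w hw k hko hko'
  · exact main _ w' hw' k hko hko'

end Cfsg.Agent.Lib.Helper7.OTLALeaf
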