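/-
helper7: S4503 PART H (planner helper6), leaf BRH-PSUMY `psumY_eq`: the Galois clause makes `∑_{x ∈ P#} ψ0(x)`
independent of `ψ0 ∈ Y`; summing `sumY` over `P#` gives `|Y| ∑_{P#} ψ0 = -(p-1) ε`, and `|Y| = (p-1)/f`.
-/
import Mathlib
import Cfsg.Prelude.Def_BlockRank
import Cfsg.Agent.Lib.Helper6.BRHDefs
import Cfsg.Agent.Lib.Helper7.DOS4441

set_option autoImplicit false

namespace Cfsg.Agent.Lib.Helper7.BRHPSUMY

open Cfsg Cfsg.Agent.Lib.Helper8.DOM Cfsg.Agent.Lib.Helper27.DO Cfsg.Agent.CharLib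
open Cfsg.Agent.Lib.Helper6.BRH Cfsg.Agent.Lib.Helper7.DOS4441
open scoped ComplexConjugate

universe u

variable {G : Type u} [Group G] [Finite G] {p : ℕ} [Fact p.Prime] {M : Ideal AlgInt}

omit [Finite G] in
/-- the `k`-th power map permutes `P#` when `p ∤ k`, `|P| = p` -/
theorem bijOn_pow (P : Subgroup G) (hP : Nat.card P = p) (k : ℕ) (hk : ¬ p ∣ k) :
    Set.BijOn (fun x : G => x ^ k) {x : G | x ∈ P ∧ x ≠ 1} {x : G | x ∈ P ∧ x ≠ 1} := by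
  have hpp : p.Prime := Fact.out
  have hcop : (Nat.card P).Coprime k := by
    rw [hP]
    exact (Nat.Prime.coprime_iff_not_dvd hpp).mpr hk
  have hinj : ∀ x ∈ P, ∀ y ∈ P, x ^ k = y ^ k → x = y := by
    intro x hx y hy hxy
    have h1 : (powCoprime hcop) ⟨x, hx⟩ = (powCoprime hcop) ⟨y, hy⟩ := by
      apply Subtype.ext
      simpa using hxy
    have h2 := (powCoprime hcop).injective h1
    exact congrArg Subtype.val h2
  refine ⟨?_, ?_, ?_⟩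
  · rintro x ⟨hx, hx1⟩
    refine ⟨P.pow_mem hx k, ?_⟩
    intro h1
    apply hx1
    apply hinj x hx 1 P.one_mem
    rw [one_pow]
    exact h1
  · rintro x ⟨hx, -⟩ y ⟨hy, -⟩ hxy
    exact hinj x hx y hy hxy
  · rintro y ⟨hy, hy1⟩
    obtain ⟨z, hz⟩ := (powCoprime hcop).surjective ⟨y, hy⟩
    have hz' : (z : G) ^ k = y := by
      have := congrArg Subtype.val hz
      simpa using this
    refine ⟨(z : G), ⟨z.2, ?_⟩, hz'⟩
    intro h1
    apply hy1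
    rw [← hz', h1, one_pow]

/-- PSUMY : `∑_{1 ≠ x ∈ P} ψ0(x) = -ε f` for every exceptional character. -/
theorem psumY_eq (P : Subgroup G) (hP : Nat.card P = p) (Y : Set (IrrCharacter G)) (ε : ℤ)
    (hdvd : (Cz P).relIndex (Nz P) ∣ p - 1)
    (hcardY : Nat.card Y = (p - 1) / (Cz P).relIndex (Nz P))
    (hsumY : ∀ g : G, p ∣ orderOf g → ∑ᶠ ψ0 ∈ Y, (ψ0 : G → ℂ) g = -(ε : ℂ))
    (hgal : ∀ ψ ∈ Y, ∀ ψ' ∈ Y, ∃ k : ℕ, ¬ p ∣ k ∧ ∀ x ∈ P, x ≠ 1 → ∀ y ∈ Cz P, ¬ p ∣ orderOf y →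
      (ψ' : G → ℂ) (x * y) = (ψ : G → ℂ) (x ^ k * y)) :
    ∀ ψ0 ∈ Y, ∑ᶠ x ∈ {x : G | x ∈ P ∧ x ≠ 1}, (ψ0 : G → ℂ) x =
      -(ε : ℂ) * ((Cz P).relIndex (Nz P) : ℂ) := by
  classical
  intro ψ0 hψ0
  have hpp : p.Prime := Fact.out
  have h1reg : ¬ p ∣ orderOf (1 : G) := by
    rw [orderOf_one]
    exact fun h => hpp.one_lt.ne' (Nat.dvd_one.mp h)
  set S : Set G := {x : G | x ∈ P ∧ x ≠ 1} with hS
  have hSfin : S.Finite := Set.toFinite _
  have hYfin : Y.Finite := Set.toFinite _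
  -- the sum over `P#` does not depend on the exceptional character
  have hindep : ∀ ψ' ∈ Y, ∑ᶠ x ∈ S, (ψ' : G → ℂ) x = ∑ᶠ x ∈ S, (ψ0 : G → ℂ) x := by
    intro ψ' hψ'
    obtain ⟨k, hk, hval⟩ := hgal ψ0 hψ0 ψ' hψ'
    apply finsum_mem_eq_of_bijOn (fun x : G => x ^ k) (bijOn_pow P hP k hk)
    rintro x ⟨hx, hx1⟩
    have := hval x hx hx1 1 (Subgroup.one_mem _) h1reg
    rw [mul_one, mul_one] at this
    exact this
  -- elements of `P#` are `p`-singular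
  have hsing : ∀ x ∈ S, p ∣ orderOf x := by
    rintro x ⟨hx, hx1⟩
    have h1 : orderOf (⟨x, hx⟩ : P) ∣ p := by
      rw [← hP]
      exact orderOf_dvd_natCard _
    rw [Subgroup.orderOf_mk] at h1
    rcases (Nat.dvd_prime hpp).mp h1 with h | h
    · exact absurd (orderOf_eq_one_iff.mp h) hx1
    · rw [h]
  -- double counting
  have hdouble : ∑ᶠ ψ ∈ Y, ∑ᶠ x ∈ S, (ψ : G → ℂ) x = ∑ᶠ x ∈ S, ∑ᶠ ψ ∈ Y, (ψ : G → ℂ) x :=
    finsum_mem_comm _ hYfin hSfin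
  have hleft : ∑ᶠ ψ ∈ Y, ∑ᶠ x ∈ S, (ψ : G → ℂ) x =
      (Nat.card Y : ℂ) * ∑ᶠ x ∈ S, (ψ0 : G → ℂ) x := by
    rw [finsum_mem_congr rfl hindep, finsum_mem_eq_finite_toFinset_sum _ hYfin, Finset.sum_const,
      nsmul_eq_mul, ← Set.ncard_eq_toFinset_card Y hYfin, _root_.Nat.card_coe_set_eq]
  have hright : ∑ᶠ x ∈ S, ∑ᶠ ψ ∈ Y, (ψ : G → ℂ) x = ((p - 1 : ℕ) : ℂ) * (-(ε : ℂ)) := by
    rw [finsum_mem_congr rfl (fun x hx => hsumY x (hsing x hx)),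
      finsum_mem_eq_finite_toFinset_sum _ hSfin, Finset.sum_const,
      nsmul_eq_mul, ← Set.ncard_eq_toFinset_card S hSfin]
    have hSeq : S = (P : Set G) \ {1} := by
      ext x
      simp [hS]
    rw [hSeq, Set.ncard_sdiff_singleton_of_mem (show (1 : G) ∈ (P : Set G) from P.one_mem),
      ← _root_.Nat.card_coe_set_eq]
    have : Nat.card (P : Set G) = p := hP
    rw [this]
  rw [hleft, hright, hcardY] at hdouble
  -- arithmetic
  obtain ⟨q, hq⟩ := hdvd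
  have hp1 : 0 < p - 1 := Nat.sub_pos_of_lt hpp.one_lt
  have hf0 : 0 < (Cz P).relIndex (Nz P) := by
    apply Nat.pos_of_ne_zero
    intro h0
    rw [h0, zero_mul] at hq
    omega
  have hq0 : 0 < q := by
    apply Nat.pos_of_ne_zero
    intro h0
    rw [h0, mul_zero] at hq
    omega
  have hdiv : (p - 1) / (Cz P).relIndex (Nz P) = q := by
    rw [hq, Nat.mul_div_cancel_left _ hf0]
  rw [hdiv, hq] at hdouble
  have hqC : (q : ℂ) ≠ 0 := by exact_mod_cast hq0.ne'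
  push_cast at hdouble
  have h3 : (q : ℂ) * (∑ᶠ x ∈ S, (ψ0 : G → ℂ) x - (-(ε : ℂ) * ((Cz P).relIndex (Nz P) : ℂ))) = 0 := by
    linear_combination hdouble
  have h4 := (mul_eq_zero.mp h3).resolve_left hqC
  linear_combination h4

end Cfsg.Agent.Lib.Helper7.BRHPSUMY
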