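/-
helper7: S4503 PART H (planner helper6), leaf BRH-SUMY `sumY_singular`: block orthogonality at `(g, 1)` for a
`p`-singular `g` together with the degree relation gives `∑_{ψ0 ∈ Y} ψ0(g) = -ε`.
-/
import Mathlib
import Cfsg.Prelude.Def_BlockRank
import Cfsg.Agent.Lib.Helper6.BRHDefs
import Cfsg.Agent.Lib.Helper7.DOS4441
import Cfsg.Agent.Lib.Lead.BrLeo2

set_option autoImplicit false

namespace Cfsg.Agent.Lib.Helper7.BRHSUMY

open Cfsg Cfsg.Agent.Lib.Helper8.DOM Cfsg.Agent.Lib.Helper27.DO Cfsg.Agent.CharLib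
open Cfsg.Agent.Lib.Helper6.BRH Cfsg.Agent.Lib.Helper7.DOS4441
open scoped ComplexConjugate

universe u

variable {G : Type u} [Group G] [Finite G] {p : ℕ} [Fact p.Prime] {M : Ideal AlgInt}

/-- SUMY : block orthogonality: the exceptional characters add up to `-ε` on the `p`-singular elements. -/
theorem sumY_singular (hM : IsPModular p M) (X Y : Set (IrrCharacter G)) (v : IrrCharacter G → ℤ)
    (ε : ℤ) (hB : principalBlock M G = X ∪ Y) (hdisj : Disjoint X Y) (hε : ε = 1 ∨ ε = -1)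
    (hYne : Y.Nonempty)
    (hvalX : ∀ η ∈ X, ∀ g : G, p ∣ orderOf g → (η : G → ℂ) g = (v η : ℂ))
    (hYreg : ∀ ψ ∈ Y, ∀ ψ' ∈ Y, ∀ g : G, ¬ p ∣ orderOf g → (ψ : G → ℂ) g = (ψ' : G → ℂ) g)
    (hrel : ∀ ψ ∈ Y, ∀ g : G, ¬ p ∣ orderOf g →
      (ε : ℂ) * (ψ : G → ℂ) g = ∑ᶠ χ ∈ X, (v χ : ℂ) * (χ : G → ℂ) g) :
    ∀ g : G, p ∣ orderOf g → ∑ᶠ ψ0 ∈ Y, (ψ0 : G → ℂ) g = -(ε : ℂ) := by
  classical
  intro g hg
  have hpp : p.Prime := Fact.out
  obtain ⟨ψ1, hψ1⟩ := hYne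
  have h1reg : ¬ p ∣ orderOf (1 : G) := by
    rw [orderOf_one]
    exact fun h => hpp.one_lt.ne' (Nat.dvd_one.mp h)
  -- the `p`-part of `g`
  obtain ⟨c, s, x, -, hgx, -⟩ := exists_ppart_data p g
  have hx1 : x ≠ 1 := by
    intro h1
    obtain ⟨y, hxy, -, -, hy⟩ := hgx
    rw [h1, one_mul] at hxy
    rw [hxy] at hy
    exact hy hg
  have hnc : ¬ IsConj x (1 : G) := by
    rw [isConj_one_left]
    exact hx1
  have horth := block_orthogonality hM g 1 x 1 hgx (isPPart_one_of_regular (p := p) 1 h1reg) hnc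
    (principalBlock M G) (isPBlock_principal (G := G) M)
  rw [inv_one, hB] at horth
  have hfinX : (X ∩ Function.support fun χ : IrrCharacter G =>
      (χ : G → ℂ) g * (χ : G → ℂ) 1).Finite := Set.toFinite _
  have hfinY : (Y ∩ Function.support fun χ : IrrCharacter G =>
      (χ : G → ℂ) g * (χ : G → ℂ) 1).Finite := Set.toFinite _
  rw [finsum_mem_union' hdisj hfinX hfinY] at horth
  -- the `X` part
  have hXpart : ∑ᶠ χ ∈ X, (χ : G → ℂ) g * (χ : G → ℂ) 1 = (ε : ℂ) * (ψ1 : G → ℂ) 1 := by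
    rw [hrel ψ1 hψ1 1 h1reg]
    apply finsum_mem_congr rfl
    intro χ hχ
    rw [hvalX χ hχ g hg]
  -- the `Y` part
  have hYpart : ∑ᶠ χ ∈ Y, (χ : G → ℂ) g * (χ : G → ℂ) 1 =
      (∑ᶠ χ ∈ Y, (χ : G → ℂ) g) * (ψ1 : G → ℂ) 1 := by
    rw [finsum_mem_mul]
    apply finsum_mem_congr rfl
    intro χ hχ
    rw [hYreg χ hχ ψ1 hψ1 1 h1reg]
  rw [hXpart, hYpart] at horth
  have hd : (ψ1 : G → ℂ) 1 ≠ 0 := by
    rw [apply_one_eq]
    exact_mod_cast (charDegree_pos ψ1).ne'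
  have h2 : ((ε : ℂ) + ∑ᶠ χ ∈ Y, (χ : G → ℂ) g) * (ψ1 : G → ℂ) 1 = 0 := by
    rw [add_mul]
    exact horth
  have h3 := (mul_eq_zero.mp h2).resolve_right hd
  linear_combination h3

end Cfsg.Agent.Lib.Helper7.BRHSUMY
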