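import Cfsg.Agent.Lib.Helper7.ChevBlock2
import Cfsg.Prelude.Def_ChevG2

/-! The two seven-dimensional blocks of the adjoint module of `G₂` in characteristic 3 (helper7). -/

set_option autoImplicit false

namespace Cfsg.Agent.Lib.Helper7

open Cfsg Cfsg.Lie Matrix

/-- the coordinates of the ideal spanned by the short root vectors -/
def iI_G2 : Fin 7 → chevG2.Idx :=
  ![.inl ⟨0, by decide⟩, .inr ⟨2, by decide⟩, .inr ⟨3, by decide⟩, .inr ⟨4, by decide⟩,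
    .inr ⟨7, by decide⟩, .inr ⟨8, by decide⟩, .inr ⟨9, by decide⟩]

/-- the coordinates of the quotient, in the corresponding order -/
def iQ_G2 : Fin 7 → chevG2.Idx :=
  ![.inl ⟨1, by decide⟩, .inr ⟨0, by decide⟩, .inr ⟨1, by decide⟩, .inr ⟨5, by decide⟩,
    .inr ⟨6, by decide⟩, .inr ⟨10, by decide⟩, .inr ⟨11, by decide⟩]

theorem bij_G2 : Function.Bijective (Sum.elim iI_G2 iQ_G2) := by decide

/-- the symmetry of the roots of `G₂` exchanging long and short roots -/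
def rho_G2 (r : ℕ) : ℕ := [2, 3, 0, 1, 5, 4, 7, 6, 10, 11, 8, 9].getD r 0

/-- the exponents of the graph automorphism -/
def lam_G2 (r : ℕ) : ℕ := [1, 1, 3, 3, 3, 1, 1, 3, 3, 3, 1, 1].getD r 1

theorem rho_G2_lt : ∀ r < 12, rho_G2 r < 12 := by decide

theorem rho_G2_rho : ∀ r < 12, rho_G2 (rho_G2 r) = r := by decide

theorem lam_G2_mul : ∀ r < 12, lam_G2 r * lam_G2 (rho_G2 r) = 3 := by decide

theorem blockC_G2 : ∀ r : Fin 12, ∀ i j : Fin 7,
    polyEqB 3 4 (polyEntry chevG2 r.val (iQ_G2 i) (iI_G2 j)) [] = true := by decide +kernel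

theorem blockRel_G2 : ∀ r : Fin 12, ∀ i j : Fin 7,
    polyEqB 3 10 (polyEntry chevG2 r.val (iQ_G2 i) (iQ_G2 j))
      (scaleL (lam_G2 r.val) (polyEntry chevG2 (rho_G2 r.val) (iI_G2 i) (iI_G2 j))) = true := by
  decide +kernel

section
variable (F : Type*) [Field F] [CharP F 3]

theorem blkC_x_G2 (r : ℕ) (hr : r < 12) (t : F) : blkC iI_G2 iQ_G2 (chevG2.x F r t) = 0 := by
  ext i j
  show chevG2.x F r t (iQ_G2 i) (iI_G2 j) = 0
  rw [x_apply_eq chevG2 F r hr, evalL_eq_of_polyEqB F 3 4 _ _ (blockC_G2 ⟨r, hr⟩ i j)]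
  rfl

theorem blkD_x_G2 (r : ℕ) (hr : r < 12) (t : F) :
    blkD iQ_G2 (chevG2.x F r t) = blkA iI_G2 (chevG2.x F (rho_G2 r) (t ^ lam_G2 r)) := by
  ext i j
  show chevG2.x F r t (iQ_G2 i) (iQ_G2 j) = chevG2.x F (rho_G2 r) (t ^ lam_G2 r) (iI_G2 i) (iI_G2 j)
  rw [x_apply_eq chevG2 F r hr, x_apply_eq chevG2 F _ (rho_G2_lt r hr),
    evalL_eq_of_polyEqB F 3 10 _ _ (blockRel_G2 ⟨r, hr⟩ i j), evalL_scaleL]

end

end Cfsg.Agent.Lib.Helper7
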