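import Cfsg.Agent.Lib.Helper7.ChevSpecialIso
import Cfsg.Agent.Lib.Helper7.ChevBlockG2
import Cfsg.Agent.Lib.Helper7.ChevSimple

/-! The graph automorphism of `G₂` in characteristic 3 (helper7). -/

set_option autoImplicit false

namespace Cfsg.Agent.Lib.Helper7

open Cfsg Cfsg.Lie Matrix

theorem mem_G2 : chevG2 ∈ [chevG2, chevB2, chevD4, chevF4, chevE6, chevE7, chevE8] := by simp

section
variable (F : Type*) [Field F] [CharP F 3]

theorem two_ne_zero_char3 : (2 : F) ≠ 0 := by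
  intro h
  have h2 : ((2 : ℕ) : F) = 0 := by exact_mod_cast h
  rw [CharP.cast_eq_zero_iff F 3 2] at h2
  omega

theorem isSimpleGroup_G2_char3 : IsSimpleGroup ↥(chevG2.group F) := by
  refine (isSimpleGroup_of_mem chevG2 mem_G2 F (fun _ => ⟨-1, ?_, ?_⟩)).1
  · exact neg_ne_zero.mpr one_ne_zero
  · intro h
    apply two_ne_zero_char3 F
    have : (2 : F) = 1 - (-1) := by ring
    rw [this, h, sub_self]

theorem polyEntry_G2_a : polyEntry chevG2 7 (iI_G2 4) (iI_G2 3) = [(2, -1)] := by decide +kernel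

theorem polyEntry_G2_b : polyEntry chevG2 6 (iQ_G2 4) (iQ_G2 3) = [(2, -1)] := by decide +kernel

theorem psiI_G2_injective : Function.Injective
    (psiI chevG2 mem_G2 F iI_G2 iQ_G2 bij_G2 (blkC_x_G2 F)) := by
  have := isSimpleGroup_G2_char3 F
  rw [injective_iff_map_eq_one]
  intro g hg
  obtain ⟨f, hf⟩ : ∃ f : ↥(chevG2.group F) →* (Matrix (Fin 7) (Fin 7) F)ˣ,
      f = (psiI chevG2 mem_G2 F iI_G2 iQ_G2 bij_G2 (blkC_x_G2 F)).toHomUnits := ⟨_, rfl⟩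
  have hfv : ∀ g, ((f g : (Matrix (Fin 7) (Fin 7) F)ˣ) : Matrix (Fin 7) (Fin 7) F) =
      psiI chevG2 mem_G2 F iI_G2 iQ_G2 bij_G2 (blkC_x_G2 F) g := fun g => by rw [hf]; rfl
  have hgk : g ∈ f.ker := by
    rw [MonoidHom.mem_ker]
    apply Units.ext
    rw [hfv, hg]; rfl
  rcases (MonoidHom.normal_ker f).eq_bot_or_eq_top with h | h
  · rw [h, Subgroup.mem_bot] at hgk
    exact hgk
  · exfalso
    have h1 : xSub chevG2 mem_G2 F 7 1 ∈ f.ker := by rw [h]; exact Subgroup.mem_top _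
    rw [MonoidHom.mem_ker] at h1
    have h2 := congrArg (fun u : (Matrix (Fin 7) (Fin 7) F)ˣ => (u : Matrix (Fin 7) (Fin 7) F) 4 3) h1
    simp only [hfv] at h2
    have h3 : chevG2.x F 7 1 (iI_G2 4) (iI_G2 3) = 0 := h2
    rw [x_apply_eq chevG2 F 7 (by decide), polyEntry_G2_a, evalL_single] at h3
    simp at h3

theorem psiQ_G2_injective : Function.Injective
    (psiQ chevG2 mem_G2 F iI_G2 iQ_G2 bij_G2 (blkC_x_G2 F)) := by
  have := isSimpleGroup_G2_char3 F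
  rw [injective_iff_map_eq_one]
  intro g hg
  obtain ⟨f, hf⟩ : ∃ f : ↥(chevG2.group F) →* (Matrix (Fin 7) (Fin 7) F)ˣ,
      f = (psiQ chevG2 mem_G2 F iI_G2 iQ_G2 bij_G2 (blkC_x_G2 F)).toHomUnits := ⟨_, rfl⟩
  have hfv : ∀ g, ((f g : (Matrix (Fin 7) (Fin 7) F)ˣ) : Matrix (Fin 7) (Fin 7) F) =
      psiQ chevG2 mem_G2 F iI_G2 iQ_G2 bij_G2 (blkC_x_G2 F) g := fun g => by rw [hf]; rfl
  have hgk : g ∈ f.ker := by
    rw [MonoidHom.mem_ker]
    apply Units.ext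
    rw [hfv, hg]; rfl
  rcases (MonoidHom.normal_ker f).eq_bot_or_eq_top with h | h
  · rw [h, Subgroup.mem_bot] at hgk
    exact hgk
  · exfalso
    have h1 : xSub chevG2 mem_G2 F 6 1 ∈ f.ker := by rw [h]; exact Subgroup.mem_top _
    rw [MonoidHom.mem_ker] at h1
    have h2 := congrArg (fun u : (Matrix (Fin 7) (Fin 7) F)ˣ => (u : Matrix (Fin 7) (Fin 7) F) 4 3) h1
    simp only [hfv] at h2
    have h3 : chevG2.x F 6 1 (iQ_G2 4) (iQ_G2 3) = 0 := h2
    rw [x_apply_eq chevG2 F 6 (by decide), polyEntry_G2_b, evalL_single] at h3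
    simp at h3

/-- the graph automorphism of `G₂` over a perfect field of characteristic 3:
`x_r(t) ↦ x_{ρ r}(t ^ λ(r))` -/
theorem exists_graphAut_G2 (hperf : ∀ x : F, ∃ y : F, y ^ 3 = x) :
    ∃ σ : ↥(chevG2.group F) ≃* ↥(chevG2.group F), ∀ r < 12, ∀ t : F,
      σ (xSub chevG2 mem_G2 F r t) = xSub chevG2 mem_G2 F (rho_G2 r) (t ^ lam_G2 r) :=
  exists_specialAut chevG2 mem_G2 F iI_G2 iQ_G2 bij_G2 (blkC_x_G2 F) rho_G2 lam_G2 3 rho_G2_lt rho_G2_rho
    (fun r hr => by rw [Nat.mul_comm]; exact lam_G2_mul r hr) (blkD_x_G2 F) hperf (psiI_G2_injective F)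
    (psiQ_G2_injective F)

end

end Cfsg.Agent.Lib.Helper7
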