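import Cfsg.Agent.Lib.Helper7.G2Tw10

/-! The core of `B¹` in the fixed points of the twisting automorphism of `G₂`, and the order of
the group of fixed points (helper7). -/

set_option autoImplicit false

namespace Cfsg.Agent.Lib.Helper7

open Cfsg Cfsg.Lie Matrix

section
variable {F : Type*} [Field F]
variable {τ : ↥(chevG2.group F) ≃* ↥(chevG2.group F)} {θ : ℕ} (hτ : TauData F τ θ)
include hτ

/-- the core of `B¹` lies in `H` -/
theorem core_le_diag (k : ↥(fixTau F τ)) (hk : k ∈ (fixB F τ).normalCore) :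
    (k : GL chevG2.Idx F) ∈ chevG2.diagonalSubgroup F := by
  have h1 : (k : GL chevG2.Idx F) ∈ chevG2.borelSubgroup F := by
    have := hk 1
    rw [one_mul, inv_one, mul_one] at this
    exact (mem_fixB k).mp this
  have h2 : (n0G2 F)⁻¹ * (k : GL chevG2.Idx F) * n0G2 F ∈ chevG2.borelSubgroup F := by
    have := (mem_fixB _).mp (hk (n0Fix hτ)⁻¹)
    rw [inv_inv] at this
    exact this
  exact borel_inf_conj_n0 hτ _ h1 h2

theorem reeU_001 : reeU θ 0 0 (1 : F) = ordProd chevG2 mem_G2 F l6G2 (c6fn 0 0 0 1 0 1) := by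
  have hθ : θ ≠ 0 := (theta_pos hτ).ne'
  rw [reeU_eq]
  simp only [zero_pow hθ, one_pow, zero_pow (Nat.succ_ne_zero _), zero_add]

/-- the core of `B¹` is trivial -/
theorem fixB_core : (fixB F τ).normalCore = ⊥ := by
  rw [Subgroup.eq_bot_iff_forall]
  intro k hk
  have hkH := core_le_diag hτ k hk
  obtain ⟨u, hu⟩ : ∃ u, u = reeU θ 0 0 (1 : F) := ⟨_, rfl⟩
  have huU : u ∈ chevG2.posUnipotent F := by rw [hu]; exact reeU_mem_posUnipotent θ _ _ _
  have huF : u ∈ fixTau F τ := by rw [hu]; exact reeU_mem_fixTau hτ _ _ _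
  have hc : (⟨u, huF⟩ : ↥(fixTau F τ)) * k * (⟨u, huF⟩ : ↥(fixTau F τ))⁻¹ ∈ (fixB F τ).normalCore :=
    (inferInstance : ((fixB F τ).normalCore).Normal).conj_mem k hk _
  have h2 : u * (k : GL chevG2.Idx F) * u⁻¹ ∈ chevG2.diagonalSubgroup F := core_le_diag hτ _ hc
  have h4 : u * (k : GL chevG2.Idx F) * u⁻¹ * (k : GL chevG2.Idx F)⁻¹ ∈ chevG2.diagonalSubgroup F :=
    Subgroup.mul_mem _ h2 (Subgroup.inv_mem _ hkH)
  have h5 : (k : GL chevG2.Idx F) * u⁻¹ * (k : GL chevG2.Idx F)⁻¹ ∈ chevG2.posUnipotent F := by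
    have hnorm := diagonalSubgroup_le_normalizer_posUnipotent chevG2 mem_G2 F hkH
    rw [Subgroup.mem_set_normalizer_iff] at hnorm
    exact (hnorm _).mp (Subgroup.inv_mem _ huU)
  have h6 : u * (k : GL chevG2.Idx F) * u⁻¹ * (k : GL chevG2.Idx F)⁻¹ ∈ chevG2.posUnipotent F := by
    have : u * (k : GL chevG2.Idx F) * u⁻¹ * (k : GL chevG2.Idx F)⁻¹ =
        u * ((k : GL chevG2.Idx F) * u⁻¹ * (k : GL chevG2.Idx F)⁻¹) := by group
    rw [this]
    exact Subgroup.mul_mem _ huU h5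
  have h7 : u * (k : GL chevG2.Idx F) * u⁻¹ * (k : GL chevG2.Idx F)⁻¹ = 1 := by
    have : u * (k : GL chevG2.Idx F) * u⁻¹ * (k : GL chevG2.Idx F)⁻¹ ∈
        chevG2.posUnipotent F ⊓ chevG2.diagonalSubgroup F := Subgroup.mem_inf.mpr ⟨h6, h4⟩
    rw [posUnipotent_inf_diagonalSubgroup chevG2 mem_G2 F] at this
    exact Subgroup.mem_bot.mp this
  have h8 : (k : GL chevG2.Idx F) * u * (k : GL chevG2.Idx F)⁻¹ = u := by
    have e : (k : GL chevG2.Idx F) * u * (k : GL chevG2.Idx F)⁻¹ =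
        (u * (k : GL chevG2.Idx F) * u⁻¹ * (k : GL chevG2.Idx F)⁻¹)⁻¹ * u := by group
    rw [e, h7, inv_one, one_mul]
  obtain ⟨χ, hχ, hkm⟩ := mem_diagonalSubgroup_char chevG2 mem_G2 F _ hkH
  rw [hu, reeU_001 hτ, diagGL_conj_ordProd chevG2 mem_G2 F _ χ hχ hkm] at h8
  have h9 := ordProd_injA chevG2 mem_G2 F aG2 chainAdd_G2 posFacts_G2 l6G2 goodLA_G2 _ _ h8 11 (by decide)
  have h10 : χ 11 = 1 := by
    have e : c6fn (0 : F) 0 0 1 0 1 11 = 1 := rfl
    rw [e, mul_one] at h9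
    exact h9
  have h11 : χ 0 = 1 := by
    have := hχ.negC 11 (by decide) (by decide)
    rw [h10, inv_one] at this
    exact this
  have h12 : (k : GL chevG2.Idx F) = 1 :=
    fixH_eq_one hτ _ (Subgroup.mem_inf.mpr ⟨hkH, k.2⟩) (by rw [chi0_diag _ _ hkm, h11])
  exact Subtype.ext h12

/-- `B¹ = H¹ U¹` with uniqueness -/
theorem card_fixBorel : Nat.card ↥(chevG2.borelSubgroup F ⊓ fixTau F τ) =
    Nat.card ↥(chevG2.diagonalSubgroup F ⊓ fixTau F τ) * Nat.card ↥(chevG2.posUnipotent F ⊓ fixTau F τ) := by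
  rw [← Nat.card_prod]
  symm
  let f : ↥(chevG2.diagonalSubgroup F ⊓ fixTau F τ) × ↥(chevG2.posUnipotent F ⊓ fixTau F τ) →
      ↥(chevG2.borelSubgroup F ⊓ fixTau F τ) := fun p =>
    ⟨p.1.1 * p.2.1, Subgroup.mem_inf.mpr ⟨Subgroup.mul_mem _
      (diagonal_le_borel chevG2 mem_G2 F (Subgroup.mem_inf.mp p.1.2).1)
      (posUnipotent_le_borel chevG2 mem_G2 F (Subgroup.mem_inf.mp p.2.2).1),
      Subgroup.mul_mem _ (Subgroup.mem_inf.mp p.1.2).2 (Subgroup.mem_inf.mp p.2.2).2⟩⟩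
  have hf : Function.Bijective f := by
    constructor
    · rintro ⟨⟨h, hh⟩, ⟨u, hu⟩⟩ ⟨⟨h', hh'⟩, ⟨u', hu'⟩⟩ e
      have e' : h * u = h' * u' := congrArg Subtype.val e
      have hmem : h'⁻¹ * h ∈ chevG2.posUnipotent F ⊓ chevG2.diagonalSubgroup F := by
        refine Subgroup.mem_inf.mpr ⟨?_, Subgroup.mul_mem _ (Subgroup.inv_mem _ (Subgroup.mem_inf.mp hh').1)
          (Subgroup.mem_inf.mp hh).1⟩
        have : h'⁻¹ * h = u' * u⁻¹ := by
          have : h = h' * u' * u⁻¹ := by rw [← e']; group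
          rw [this]; group
        rw [this]
        exact Subgroup.mul_mem _ (Subgroup.mem_inf.mp hu').1 (Subgroup.inv_mem _ (Subgroup.mem_inf.mp hu).1)
      rw [posUnipotent_inf_diagonalSubgroup chevG2 mem_G2 F, Subgroup.mem_bot] at hmem
      have h1 : h = h' := by
        have := congrArg (fun x => h' * x) hmem
        simpa using this
      subst h1
      have h2 : u = u' := mul_left_cancel e'
      subst h2
      rfl
    · rintro ⟨b, hb⟩
      obtain ⟨h, hh, u, hu, rfl⟩ := fix_borel hτ b hb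
      exact ⟨(⟨h, hh⟩, ⟨u, hu⟩), rfl⟩
  exact Nat.card_congr (Equiv.ofBijective f hf)

/-- the order of the group of fixed points -/
theorem card_fixTau [Finite F] : Nat.card ↥(fixTau F τ) =
    Nat.card ↥(chevG2.borelSubgroup F ⊓ fixTau F τ) +
      Nat.card ↥(chevG2.borelSubgroup F ⊓ fixTau F τ) * Nat.card ↥(chevG2.posUnipotent F ⊓ fixTau F τ) := by
  rw [← Nat.card_prod, ← Nat.card_sum]
  symm
  let f : ↥(chevG2.borelSubgroup F ⊓ fixTau F τ) ⊕
      (↥(chevG2.borelSubgroup F ⊓ fixTau F τ) × ↥(chevG2.posUnipotent F ⊓ fixTau F τ)) → ↥(fixTau F τ) :=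
    Sum.elim (fun b => ⟨b.1, (Subgroup.mem_inf.mp b.2).2⟩)
      (fun p => ⟨p.1.1 * n0G2 F * p.2.1, Subgroup.mul_mem _ (Subgroup.mul_mem _ (Subgroup.mem_inf.mp p.1.2).2
        (n0G2_mem_fixTau hτ)) (Subgroup.mem_inf.mp p.2.2).2⟩)
  have hU := uMinus_n0_eq hτ
  have hf : Function.Bijective f := by
    constructor
    · rintro (⟨b, hb⟩ | ⟨⟨b, hb⟩, ⟨u, hu⟩⟩) (⟨b', hb'⟩ | ⟨⟨b', hb'⟩, ⟨u', hu'⟩⟩) e
      · have e' : b = b' := congrArg Subtype.val e
        subst e'
        rfl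
      · exfalso
        have e' : b = b' * n0G2 F * u' := congrArg Subtype.val e
        have : n0G2 F ∈ chevG2.borelSubgroup F := by
          have : n0G2 F = b'⁻¹ * b * u'⁻¹ := by rw [e']; group
          rw [this]
          exact Subgroup.mul_mem _ (Subgroup.mul_mem _ (Subgroup.inv_mem _ (Subgroup.mem_inf.mp hb').1)
            (Subgroup.mem_inf.mp hb).1) (Subgroup.inv_mem _
              (posUnipotent_le_borel chevG2 mem_G2 F (Subgroup.mem_inf.mp hu').1))
        have h2 : n0G2 F ∈ chevG2.borelSubgroup F ⊓ chevG2.monomialSubgroup F :=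
          Subgroup.mem_inf.mpr ⟨this, n0G2_mem_monomial F⟩
        rw [borel_inf_monomial chevG2 mem_G2 F] at h2
        exact n0G2_not_mem_diagonal h2
      · exfalso
        have e' : b * n0G2 F * u = b' := congrArg Subtype.val e
        have : n0G2 F ∈ chevG2.borelSubgroup F := by
          have : n0G2 F = b⁻¹ * b' * u⁻¹ := by rw [← e']; group
          rw [this]
          exact Subgroup.mul_mem _ (Subgroup.mul_mem _ (Subgroup.inv_mem _ (Subgroup.mem_inf.mp hb).1)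
            (Subgroup.mem_inf.mp hb').1) (Subgroup.inv_mem _
              (posUnipotent_le_borel chevG2 mem_G2 F (Subgroup.mem_inf.mp hu).1))
        have h2 : n0G2 F ∈ chevG2.borelSubgroup F ⊓ chevG2.monomialSubgroup F :=
          Subgroup.mem_inf.mpr ⟨this, n0G2_mem_monomial F⟩
        rw [borel_inf_monomial chevG2 mem_G2 F] at h2
        exact n0G2_not_mem_diagonal h2
      · have e' : b * n0G2 F * u = b' * n0G2 F * u' := congrArg Subtype.val e
        have huM : u ∈ uMinus chevG2 F (n0G2 F) := by rw [hU]; exact (Subgroup.mem_inf.mp hu).1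
        have huM' : u' ∈ uMinus chevG2 F (n0G2 F) := by rw [hU]; exact (Subgroup.mem_inf.mp hu').1
        obtain ⟨h1, h2⟩ := (canon_unique chevG2 mem_G2 F b b' (n0G2 F) (n0G2 F) u u' (Subgroup.mem_inf.mp hb).1
          (Subgroup.mem_inf.mp hb').1 (n0G2_mem_monomial F) (n0G2_mem_monomial F) huM huM' e').2 rfl
        subst h1
        subst h2
        rfl
    · intro g
      rcases fix_cases hτ g.1 g.2 with hB | ⟨b, hb, u, hu, e⟩
      · exact ⟨Sum.inl ⟨g.1, Subgroup.mem_inf.mpr ⟨hB, g.2⟩⟩, rfl⟩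
      · exact ⟨Sum.inr (⟨b, hb⟩, ⟨u, hu⟩), Subtype.ext e.symm⟩
  exact Nat.card_congr (Equiv.ofBijective f hf)

end

end Cfsg.Agent.Lib.Helper7
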