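import Cfsg.Agent.Lib.Helper7.G2Tw7
import Cfsg.Agent.Lib.Helper7.ChevFieldAut

/-! The Ree groups `²G₂(3^(2m+1))`: existence of the twisting automorphism (helper7). -/

set_option autoImplicit false

namespace Cfsg.Agent.Lib.Helper7

open Cfsg Cfsg.Lie Matrix

section
variable {K : Type*} [Field K] [Fintype K] {m : ℕ} (hK : Fintype.card K = 3 ^ (2 * m + 1))
include hK

theorem charP3_of_card : CharP K 3 := by
  obtain ⟨p, hp⟩ := CharP.exists K
  haveI := hp
  obtain ⟨n, hpp, hn⟩ := FiniteField.card K p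
  have h1 : p ∣ 3 ^ (2 * m + 1) := by
    rw [← hK, hn]
    exact dvd_pow_self p n.ne_zero
  have h2 : p = 3 := (Nat.prime_dvd_prime_iff_eq hpp Nat.prime_three).mp (hpp.dvd_of_dvd_pow h1)
  rw [← h2]
  exact hp

theorem pow_card_ree (t : K) : t ^ (3 * 3 ^ m * 3 ^ m) = t := by
  have : 3 * 3 ^ m * 3 ^ m = Fintype.card K := by rw [hK]; ring
  rw [this, FiniteField.pow_card]

theorem perfect_of_card (x : K) : ∃ y : K, y ^ 3 = x := by
  refine ⟨x ^ (3 ^ m * 3 ^ m), ?_⟩
  rw [← pow_mul]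
  have : 3 ^ m * 3 ^ m * 3 = 3 * 3 ^ m * 3 ^ m := by ring
  rw [this]
  exact pow_card_ree hK x

theorem sq_dichotomy_of_card (x : K) (hx : x ≠ 0) : ∃ w : K, x = w ^ 2 ∨ x = -(w ^ 2) := by
  classical
  have h4 : Fintype.card K % 4 = 3 := by
    rw [hK, pow_succ, pow_mul, Nat.mul_mod, Nat.pow_mod]
    norm_num
  have hneg : ¬ IsSquare (-1 : K) := by
    rw [FiniteField.isSquare_neg_one_iff]
    simp [h4]
  by_cases hs : IsSquare x
  · obtain ⟨w, hw⟩ := hs
    exact ⟨w, Or.inl (by rw [hw]; ring)⟩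
  · have h1 : quadraticChar K x = -1 := quadraticChar_neg_one_iff_not_isSquare.mpr hs
    have h2 : quadraticChar K (-1) = -1 := quadraticChar_neg_one_iff_not_isSquare.mpr hneg
    have h3 : quadraticChar K (-x) = 1 := by
      rw [← neg_one_mul x, map_mul, h1, h2]
      norm_num
    obtain ⟨w, hw⟩ := (quadraticChar_one_iff_isSquare (neg_ne_zero.mpr hx)).mp h3
    exact ⟨w, Or.inr (by rw [pow_two, ← hw]; ring)⟩

/-- the twisting automorphism of `G₂(3^(2m+1))` exists -/
theorem exists_tauData : ∃ τ : ↥(chevG2.group K) ≃* ↥(chevG2.group K), TauData K τ (3 ^ m) := by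
  haveI : CharP K 3 := charP3_of_card hK
  haveI : Fact (Nat.Prime 3) := ⟨Nat.prime_three⟩
  obtain ⟨σ, hσ⟩ := exists_graphAut_G2 K (perfect_of_card hK)
  have hbij : Function.Bijective (iterateFrobenius K 3 m) := by
    have hinj : Function.Injective (iterateFrobenius K 3 m) := RingHom.injective _
    exact ⟨hinj, Finite.surjective_of_injective hinj⟩
  let φ : K ≃+* K := RingEquiv.ofBijective (iterateFrobenius K 3 m) hbij
  have hφ : ∀ t : K, φ t = t ^ 3 ^ m := fun t => iterateFrobenius_def 3 m t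
  obtain ⟨α, hα⟩ := field_aut chevG2 φ
  have hα' : ∀ r < 12, ∀ t : K, α (xSub chevG2 mem_G2 K r t) = xSub chevG2 mem_G2 K r (t ^ 3 ^ m) := by
    intro r hr t
    apply Subtype.ext
    apply Units.ext
    rw [hα (xSub chevG2 mem_G2 K r t) r t hr rfl, hφ]
    rfl
  refine ⟨α.trans σ, ⟨?_, ?_, ?_, ?_, ?_⟩⟩
  · intro r hr t
    rw [MulEquiv.trans_apply, hα' r hr, hσ r hr]
    unfold eG2
    rw [pow_mul]
  · exact pow_card_ree hK
  · exact Odd.pow (by decide)
  · intro x y
    exact add_pow_char_pow x y 3 m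
  · have := CharP.cast_eq_zero K 3
    exact_mod_cast this

end

end Cfsg.Agent.Lib.Helper7
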