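import Cfsg.Agent.Lib.Helper7.ChevUp
import Cfsg.Agent.Lib.Helper7.ChevNorm

/-! The Chevalley groups are perfect (with the usual small exceptions): root elements as commutators
(helper7). -/

set_option autoImplicit false

namespace Cfsg.Agent.Lib.Helper7

open Cfsg Cfsg.Lie Matrix

section
variable (D : ChevalleyDatum) (hD : D ∈ [chevG2, chevB2, chevD4, chevF4, chevE6, chevE7, chevE8])
variable (F : Type*) [Field F]
include hD

/-- the derived subgroup of the Chevalley group, inside GL -/
def commK : Subgroup (GL D.Idx F) := ⁅D.group F, D.group F⁆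

omit hD in
theorem comm_mem_commK (g h : GL D.Idx F) (hg : g ∈ D.group F) (hh : h ∈ D.group F) :
    g * h * g⁻¹ * h⁻¹ ∈ commK D F :=
  Subgroup.commutator_mem_commutator hg hh

/-- the word of the commutator formula is a commutator -/
theorem commWord_mem_commK (a b : ℕ) (ha : a < D.nroots) (hb : b < D.nroots) (hba : b ≠ a)
    (hbn : b ≠ D.neg a) (t u : F) : wordGL D hD F (D.commWord F a b t u) ∈ commK D F := by
  have h := comm_formula_GL D hD F a b ha hb hba hbn t u
  have e : wordGL D hD F (D.commWord F a b t u) =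
      (xGL D hD F b u)⁻¹ * (xGL D hD F a t)⁻¹ * (xGL D hD F b u)⁻¹⁻¹ * (xGL D hD F a t)⁻¹⁻¹ := by
    rw [inv_inv, inv_inv, mul_assoc _ (xGL D hD F b u), h]
    group
  rw [e]
  exact comm_mem_commK D F _ _ (Subgroup.inv_mem _ (xGL_mem_group D hD F b u))
    (Subgroup.inv_mem _ (xGL_mem_group D hD F a t))

/-- a root which is the only term of a commutator formula, with coefficient `±1` -/
theorem xGL_mem_commK_of_single (a b r : ℕ) (C : ℤ) (ha : a < D.nroots) (hb : b < D.nroots)
    (hba : b ≠ a) (hbn : b ≠ D.neg a) (hC : C = 1 ∨ C = -1) (h : D.commTerms a b = [(r, C, 1, 1)])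
    (t : F) : xGL D hD F r t ∈ commK D F := by
  have h1 := commWord_mem_commK D hD F a b ha hb hba hbn (-(C : F) * t) 1
  unfold ChevalleyDatum.commWord at h1
  rw [h] at h1
  unfold wordGL at h1
  simp only [List.map_cons, List.map_nil, List.prod_cons, List.prod_nil, mul_one, pow_one, one_pow] at h1
  have e : (C : F) * -(-(C : F) * t) = t := by
    rcases hC with h | h <;> rw [h] <;> push_cast <;> ring
  rwa [e] at h1

/-- a root on which some `h_s(c)` acts non-trivially -/
theorem xGL_mem_commK_of_diag (r s : ℕ) (hr : r < D.nroots) (hs : s < D.nroots) (c : F) (hc : c ≠ 0)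
    (hne : c ^ (carR D s r) ≠ 1) (t : F) : xGL D hD F r t ∈ commK D F := by
  set h := wordGL D hD F (D.hWord s c) with hh
  have hhm : (h : Matrix D.Idx D.Idx F) = diagChar D F (fun v => c ^ carR D s v) := by
    rw [hh, coe_wordGL]
    exact hMat_eq_diagChar D hD F s hs c hc
  have hχ := chainChar_h D hD F s c hc
  have hd : c ^ (carR D s r) - 1 ≠ 0 := sub_ne_zero.mpr hne
  have h1 := diagGL_xGL_comm D hD F h _ hχ hhm r (t / (c ^ (carR D s r) - 1))
  have h2 := comm_mem_commK D F h (xGL D hD F r (t / (c ^ (carR D s r) - 1)))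
    (wordGL_mem_group D hD F _) (xGL_mem_group D hD F r _)
  rw [h1, mul_assoc (xGL D hD F r _), mul_inv_cancel, mul_one, xGL_inv, xGL_mul] at h2
  have e : c ^ carR D s r * (t / (c ^ carR D s r - 1)) + -(t / (c ^ carR D s r - 1)) = t := by
    field_simp
    ring
  rwa [e] at h2

/-- a root which is the second of two terms of a commutator formula, the first being known -/
theorem xGL_mem_commK_of_second (a b v r : ℕ) (C₁ C₂ : ℤ) (i j : ℕ) (ha : a < D.nroots) (hb : b < D.nroots)
    (hba : b ≠ a) (hbn : b ≠ D.neg a) (hC : C₂ = 1 ∨ C₂ = -1)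
    (hij : (i = 2 ∧ j = 1) ∨ (i = 1 ∧ j = 2))
    (h : D.commTerms a b = [(v, C₁, 1, 1), (r, C₂, i, j)])
    (hv : ∀ t : F, xGL D hD F v t ∈ commK D F) (t : F) : xGL D hD F r t ∈ commK D F := by
  have key : ∀ t' u' : F, xGL D hD F r ((C₂ : F) * (-t') ^ i * u' ^ j) ∈ commK D F := by
    intro t' u'
    have h1 := commWord_mem_commK D hD F a b ha hb hba hbn t' u'
    unfold ChevalleyDatum.commWord at h1
    rw [h] at h1
    unfold wordGL at h1
    simp only [List.map_cons, List.map_nil, List.prod_cons, List.prod_nil, mul_one] at h1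
    have h2 := Subgroup.mul_mem _ (Subgroup.inv_mem _ (hv ((C₁ : F) * (-t') ^ 1 * u' ^ 1))) h1
    rwa [← mul_assoc, inv_mul_cancel, one_mul] at h2
  rcases hij with ⟨rfl, rfl⟩ | ⟨rfl, rfl⟩
  · have := key 1 ((C₂ : F) * t)
    have e : (C₂ : F) * (-1) ^ 2 * ((C₂ : F) * t) ^ 1 = t := by
      rcases hC with h | h <;> rw [h] <;> push_cast <;> ring
    rwa [e] at this
  · have := key (-(C₂ : F) * t) 1
    have e : (C₂ : F) * (-(-(C₂ : F) * t)) ^ 1 * 1 ^ 2 = t := by
      rcases hC with h | h <;> rw [h] <;> push_cast <;> ring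
    rwa [e] at this

theorem group_le_commK (h : ∀ r < D.nroots, ∀ t : F, xGL D hD F r t ∈ commK D F) :
    D.group F ≤ commK D F := by
  unfold ChevalleyDatum.group
  rw [Subgroup.closure_le]
  rintro g ⟨r, t, hg⟩
  have hgx : g = xGL D hD F r.val t := Units.ext (by rw [hg, coe_xGL, x_eq_xMat D F r.val r.isLt])
  rw [hgx]
  exact h r.val r.isLt t

omit hD in
theorem commutator_eq_top_of_le (h : D.group F ≤ commK D F) : commutator ↥(D.group F) = ⊤ := by
  apply Subgroup.map_injective (Subgroup.subtype_injective (D.group F))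
  unfold commutator
  rw [Subgroup.map_commutator, ← MonoidHom.range_eq_map, Subgroup.range_subtype]
  apply le_antisymm
  · rw [Subgroup.commutator_le]
    intro g₁ h₁ g₂ h₂
    exact (D.group F).mul_mem ((D.group F).mul_mem ((D.group F).mul_mem h₁ h₂)
      ((D.group F).inv_mem h₁)) ((D.group F).inv_mem h₂)
  · exact h

/-- all roots are sums of two roots with a single-term commutator formula -/
def perf1B (D : ChevalleyDatum) (cert : List (ℕ × ℕ)) : Bool :=
  (List.range D.nroots).all fun r =>
    decide ((cert.getD r (0, 0)).1 < D.nroots) && decide ((cert.getD r (0, 0)).2 < D.nroots) &&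
      (cert.getD r (0, 0)).2 != (cert.getD r (0, 0)).1 &&
      (cert.getD r (0, 0)).2 != D.neg (cert.getD r (0, 0)).1 &&
      (D.commTerms (cert.getD r (0, 0)).1 (cert.getD r (0, 0)).2 == [(r, 1, 1, 1)] ||
        D.commTerms (cert.getD r (0, 0)).1 (cert.getD r (0, 0)).2 == [(r, -1, 1, 1)])

theorem commutator_eq_top_of_perf1B (cert : List (ℕ × ℕ)) (h : perf1B D cert = true) :
    commutator ↥(D.group F) = ⊤ := by
  apply commutator_eq_top_of_le
  apply group_le_commK D hD F
  intro r hr t
  unfold perf1B at h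
  simp only [List.all_eq_true, List.mem_range, Bool.and_eq_true, decide_eq_true_eq, bne_iff_ne,
    Bool.or_eq_true, beq_iff_eq] at h
  obtain ⟨⟨⟨⟨ha, hb⟩, hba⟩, hbn⟩, h1⟩ := h r hr
  rcases h1 with h1 | h1
  · exact xGL_mem_commK_of_single D hD F _ _ r 1 ha hb hba hbn (Or.inl rfl) h1 t
  · exact xGL_mem_commK_of_single D hD F _ _ r (-1) ha hb hba hbn (Or.inr rfl) h1 t

end

end Cfsg.Agent.Lib.Helper7
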