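import Cfsg.Agent.Lib.Helper7.ChevTwistBN0
import Cfsg.Agent.Lib.Helper7.ChevPerf
import Cfsg.Agent.Lib.Helper7.ChevLongCent

/-! Twisted groups: tools for perfectness (helper7). -/

set_option autoImplicit false

namespace Cfsg.Agent.Lib.Helper7

open Cfsg Cfsg.Lie Matrix

section
variable {G : Type*} [Group G]

theorem commutator_self_le (H : Subgroup G) : ⁅H, H⁆ ≤ H := by
  rw [Subgroup.commutator_le]
  intro g₁ h₁ g₂ h₂
  exact H.mul_mem (H.mul_mem (H.mul_mem h₁ h₂) (H.inv_mem h₁)) (H.inv_mem h₂)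

theorem conj_mem_commutator_self (H : Subgroup G) (g x : G) (hg : g ∈ H) (hx : x ∈ ⁅H, H⁆) :
    g * x * g⁻¹ ∈ ⁅H, H⁆ := by
  have h1 : g * x * g⁻¹ * x⁻¹ ∈ ⁅H, H⁆ :=
    Subgroup.commutator_mem_commutator hg (commutator_self_le H hx)
  have : g * x * g⁻¹ = (g * x * g⁻¹ * x⁻¹) * x := by group
  rw [this]
  exact Subgroup.mul_mem _ h1 hx

theorem commutator_eq_top_of_le_self (H : Subgroup G) (h : H ≤ ⁅H, H⁆) : commutator ↥H = ⊤ := by
  apply Subgroup.map_injective (Subgroup.subtype_injective H)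
  unfold commutator
  rw [Subgroup.map_commutator, ← MonoidHom.range_eq_map, Subgroup.range_subtype]
  exact le_antisymm (commutator_self_le H) h

end

section
variable (D : ChevalleyDatum) (hD : D ∈ [chevG2, chevB2, chevD4, chevF4, chevE6, chevE7, chevE8])
variable (K : Type*) [Field K] (φ : K ≃+* K)
variable (G1 : Subgroup (GL D.Idx K))
include hD

/-- conjugation of a root element by a word in the `n_p`, with its sign -/
theorem nWordGL_conj_xGL_sign (L : List ℕ) (hL : ∀ i ∈ L, i < D.rank) (s : ℕ) (hs : s < D.nroots) :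
    ∃ c : ℤ, (c = 1 ∨ c = -1) ∧ ∀ t : K,
      nWordGL D hD K L * xGL D hD K s t * (nWordGL D hD K L)⁻¹ =
        xGL D hD K (reflWord D L s) ((c : K) * t) := by
  induction L with
  | nil =>
    refine ⟨1, Or.inl rfl, fun t => ?_⟩
    have : nWordGL D hD K [] = 1 := by simp [nWordGL]
    rw [this]
    simp [reflWord]
  | cons i L ih =>
    have hi : i < D.rank := hL i List.mem_cons_self
    obtain ⟨c, hc, hct⟩ := ih (fun j hj => hL j (List.mem_cons_of_mem _ hj))
    have hlt : reflWord D L s < D.nroots :=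
      reflWord_lt' D hD L (fun j hj => hL j (List.mem_cons_of_mem _ hj)) s hs
    have hη := (conjFacts_of_mem D hD i hi).ηpm _ hlt
    refine ⟨etaFn D i (reflWord D L s) * c, ?_, fun t => ?_⟩
    · rcases hη with h | h <;> rcases hc with h' | h' <;> rw [h, h'] <;> simp
    · have e : nWordGL D hD K (i :: L) = nFund D hD K i * nWordGL D hD K L := by simp [nWordGL]
      have e2 : nFund D hD K i * nWordGL D hD K L * xGL D hD K s t * (nFund D hD K i * nWordGL D hD K L)⁻¹ =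
          nFund D hD K i * (nWordGL D hD K L * xGL D hD K s t * (nWordGL D hD K L)⁻¹) *
            (nFund D hD K i)⁻¹ := by group
      rw [e, e2, hct t]
      unfold nFund
      rw [nGL_conj_xGL D hD K i hi _ hlt]
      show xGL D hD K (D.reflectRoot i (reflWord D L s)) _ = xGL D hD K (D.reflectRoot i (reflWord D L s)) _
      congr 1
      push_cast
      ring

/-- elements `x_r(t)`, `t` fixed by `φ`, lie in `T` -/
def FixIn (T : Subgroup (GL D.Idx K)) (r : ℕ) : Prop := ∀ t : K, φ t = t → xGL D hD K r t ∈ T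

omit hD in
theorem map_intCast_pm (c : ℤ) (hc : c = 1 ∨ c = -1) (t : K) (ht : φ t = t) : φ ((c : K) * t) = (c : K) * t := by
  rcases hc with h | h <;> rw [h] <;> simp [ht]

/-- `FixIn G¹` is stable under the words `n_L ∈ G¹` -/
theorem FixIn.conj_G1 (L : List ℕ) (hL : ∀ i ∈ L, i < D.rank) (hn : nWordGL D hD K L ∈ G1) (r : ℕ)
    (hr : r < D.nroots) (h : FixIn D hD K φ G1 r) : FixIn D hD K φ G1 (reflWord D L r) := by
  obtain ⟨c, hc, hct⟩ := nWordGL_conj_xGL_sign D hD K L hL r hr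
  intro t ht
  have h1 := h ((c : K) * t) (map_intCast_pm K φ c hc t ht)
  have h2 := hct ((c : K) * t)
  have e : (c : K) * ((c : K) * t) = t := by
    rcases hc with h | h <;> rw [h] <;> simp
  rw [e] at h2
  rw [← h2]
  exact Subgroup.mul_mem _ (Subgroup.mul_mem _ hn h1) (Subgroup.inv_mem _ hn)

/-- `FixIn [G¹,G¹]` is stable under the words `n_L ∈ G¹` -/
theorem FixIn.conj_comm (L : List ℕ) (hL : ∀ i ∈ L, i < D.rank) (hn : nWordGL D hD K L ∈ G1) (r : ℕ)
    (hr : r < D.nroots) (h : FixIn D hD K φ ⁅G1, G1⁆ r) : FixIn D hD K φ ⁅G1, G1⁆ (reflWord D L r) := by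
  obtain ⟨c, hc, hct⟩ := nWordGL_conj_xGL_sign D hD K L hL r hr
  intro t ht
  have h1 := h ((c : K) * t) (map_intCast_pm K φ c hc t ht)
  have h2 := hct ((c : K) * t)
  have e : (c : K) * ((c : K) * t) = t := by
    rcases hc with h | h <;> rw [h] <;> simp
  rw [e] at h2
  rw [← h2]
  exact conj_mem_commutator_self G1 _ _ hn h1

/-- a root which is the only term of a commutator formula of two roots in `FixIn G¹` -/
theorem FixIn.of_comm (a b r : ℕ) (C : ℤ) (ha : a < D.nroots) (hb : b < D.nroots)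
    (hba : b ≠ a) (hbn : b ≠ D.neg a) (hC : C = 1 ∨ C = -1) (h : D.commTerms a b = [(r, C, 1, 1)])
    (hA : FixIn D hD K φ G1 a) (hB : FixIn D hD K φ G1 b) : FixIn D hD K φ ⁅G1, G1⁆ r := by
  intro t ht
  have h0 := comm_formula_GL D hD K a b ha hb hba hbn (-(C : K) * t) 1
  have e : wordGL D hD K (D.commWord K a b (-(C : K) * t) 1) =
      (xGL D hD K b 1)⁻¹ * (xGL D hD K a (-(C : K) * t))⁻¹ * (xGL D hD K b 1)⁻¹⁻¹ *
        (xGL D hD K a (-(C : K) * t))⁻¹⁻¹ := by
    rw [inv_inv, inv_inv, mul_assoc _ (xGL D hD K b 1), h0]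
    group
  have hta : φ (-(C : K) * t) = -(C : K) * t := by
    rcases hC with h | h <;> rw [h] <;> simp [ht]
  have h1 : wordGL D hD K (D.commWord K a b (-(C : K) * t) 1) ∈ ⁅G1, G1⁆ := by
    rw [e]
    exact Subgroup.commutator_mem_commutator (Subgroup.inv_mem _ (hB 1 (map_one φ)))
      (Subgroup.inv_mem _ (hA _ hta))
  unfold ChevalleyDatum.commWord at h1
  rw [h] at h1
  unfold wordGL at h1
  simp only [List.map_cons, List.map_nil, List.prod_cons, List.prod_nil, mul_one, pow_one, one_pow] at h1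
  have e2 : (C : K) * -(-(C : K) * t) = t := by
    rcases hC with h | h <;> rw [h] <;> push_cast <;> ring
  rwa [e2] at h1

/-- the torus element of a simple class -/
theorem hClass_mem (Jidx : List ℕ) (hC : SimpClassFacts D Jidx) (u : ℕ → K)
    (hu : ∀ r ∈ Jidx.map D.simple, u r ≠ 0)
    (h1 : ((Jidx.map D.simple).map fun r => xGL D hD K (D.neg r) (u r)).prod ∈ G1)
    (h2 : ordProd D hD K (Jidx.map D.simple) (fun r => (u r)⁻¹) ∈ G1)
    (h3 : nWordGL D hD K Jidx ∈ G1) :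
    wordGL D hD K (Jidx.flatMap fun i => D.hWord (D.simple i) (-(u (D.simple i))⁻¹)) ∈ G1 := by
  have hs := class_shuffle D hD K Jidx hC u hu
  have e : wordGL D hD K (Jidx.flatMap fun i => D.hWord (D.simple i) (-(u (D.simple i))⁻¹)) =
      ((Jidx.map D.simple).map fun r => wordGL D hD K (D.hWord r (-(u r)⁻¹))).prod := by
    rw [List.map_map]
    clear hs h1 h2 h3 hu hC
    induction Jidx with
    | nil => simp [wordGL]
    | cons i L ih =>
      rw [List.flatMap_cons, wordGL_append, ih]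
      simp
  rw [e]
  obtain ⟨X, hX⟩ : ∃ X, X = ordProd D hD K (Jidx.map D.simple) (fun r => (u r)⁻¹) := ⟨_, rfl⟩
  obtain ⟨Hh, hHh⟩ : ∃ Hh, Hh = ((Jidx.map D.simple).map fun r =>
    wordGL D hD K (D.hWord r (-(u r)⁻¹))).prod := ⟨_, rfl⟩
  obtain ⟨Y, hY⟩ : ∃ Y, Y = ((Jidx.map D.simple).map fun r => xGL D hD K (D.neg r) (u r)).prod := ⟨_, rfl⟩
  rw [← hX, ← hHh, ← hY] at hs
  rw [← hX] at h2
  rw [← hY] at h1
  rw [← hHh]
  have : Hh = X⁻¹ * Y * X⁻¹ * (nWordGL D hD K Jidx)⁻¹ := by rw [hs]; group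
  rw [this]
  exact Subgroup.mul_mem _ (Subgroup.mul_mem _ (Subgroup.mul_mem _ (Subgroup.inv_mem _ h2) h1)
    (Subgroup.inv_mem _ h2)) (Subgroup.inv_mem _ h3)

/-- the action of a product of `h_{p_i}(c_i)` on the root elements -/
theorem hClass_conj (Jidx : List ℕ) (hlt : ∀ i ∈ Jidx, i < D.rank) (c : ℕ → K) (hc : ∀ i, c i ≠ 0)
    (s : ℕ) (t : K) :
    wordGL D hD K (Jidx.flatMap fun i => D.hWord (D.simple i) (c i)) * xGL D hD K s t *
      (wordGL D hD K (Jidx.flatMap fun i => D.hWord (D.simple i) (c i)))⁻¹ =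
      xGL D hD K s (prodChar D K Jidx c s * t) := by
  have hm : ((wordGL D hD K (Jidx.flatMap fun i => D.hWord (D.simple i) (c i)) : GL D.Idx K) :
      Matrix D.Idx D.Idx K) = diagChar D K (prodChar D K Jidx c) := by
    rw [coe_wordGL]
    exact wordMat_flatMap_hWord D hD K c Jidx (fun i hi => ⟨hlt i hi, hc i⟩)
  rw [diagGL_xGL_comm D hD K _ _ (chainChar_prodChar D hD K Jidx hlt c hc) hm s t, mul_assoc, mul_inv_cancel,
    mul_one]

end

section
variable (D : ChevalleyDatum) (hD : D ∈ [chevG2, chevB2, chevD4, chevF4, chevE6, chevE7, chevE8])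
variable (K : Type*) [Field K] (φ : K ≃+* K)
variable (G1 : Subgroup (GL D.Idx K))
variable (h : GL D.Idx K) (hh : h ∈ G1) (χ : ℕ → K)
variable (hconj : ∀ s t, h * xGL D hD K s t * h⁻¹ = xGL D hD K s (χ s * t))
include hD hh hconj

/-- a pair class, on which a torus element of `G¹` acts non-trivially, lies in `[G¹,G¹]` -/
theorem pair_mem_comm (r s : ℕ) (hgen : ∀ t, xGL D hD K r t * xGL D hD K s (φ t) ∈ G1)
    (hcomm : ∀ a b, Commute (xGL D hD K r a) (xGL D hD K s b))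
    (hχ : χ s = φ (χ r)) (hne : χ r ≠ 1) (t : K) :
    xGL D hD K r t * xGL D hD K s (φ t) ∈ ⁅G1, G1⁆ := by
  have hd : χ r - 1 ≠ 0 := sub_ne_zero.mpr hne
  obtain ⟨t0, ht0⟩ : ∃ t0, t0 = t / (χ r - 1) := ⟨_, rfl⟩
  have hg := hgen t0
  have hc := Subgroup.commutator_mem_commutator hh hg
  rw [commutatorElement_def] at hc
  have e1 : h * (xGL D hD K r t0 * xGL D hD K s (φ t0)) * h⁻¹ =
      (h * xGL D hD K r t0 * h⁻¹) * (h * xGL D hD K s (φ t0) * h⁻¹) := by group
  rw [e1, hconj, hconj, _root_.mul_inv_rev, xGL_inv, xGL_inv] at hc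
  have e2 : xGL D hD K r (χ r * t0) * xGL D hD K s (χ s * φ t0) *
      (xGL D hD K s (-φ t0) * xGL D hD K r (-t0)) =
      xGL D hD K r (χ r * t0) * (xGL D hD K s (χ s * φ t0) * xGL D hD K s (-φ t0)) *
        xGL D hD K r (-t0) := by group
  rw [e2, xGL_mul, mul_assoc, ← (hcomm _ _).eq, ← mul_assoc, xGL_mul] at hc
  have e3 : χ r * t0 + -t0 = t := by
    rw [ht0]; field_simp; ring
  have e4 : χ s * φ t0 + -φ t0 = φ t := by
    rw [← e3, hχ]
    simp only [map_add, map_mul, map_neg]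
  rwa [e3, e4] at hc

/-- a triple class, on which a torus element of `G¹` acts non-trivially, lies in `[G¹,G¹]` -/
theorem triple_mem_comm (r s v : ℕ)
    (hgen : ∀ t, xGL D hD K r t * xGL D hD K s (φ t) * xGL D hD K v (φ (φ t)) ∈ G1)
    (hrs : ∀ a b, Commute (xGL D hD K r a) (xGL D hD K s b))
    (hrv : ∀ a b, Commute (xGL D hD K r a) (xGL D hD K v b))
    (hsv : ∀ a b, Commute (xGL D hD K s a) (xGL D hD K v b))
    (hχs : χ s = φ (χ r)) (hχv : χ v = φ (φ (χ r))) (hne : χ r ≠ 1) (t : K) :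
    xGL D hD K r t * xGL D hD K s (φ t) * xGL D hD K v (φ (φ t)) ∈ ⁅G1, G1⁆ := by
  have hd : χ r - 1 ≠ 0 := sub_ne_zero.mpr hne
  obtain ⟨t0, ht0⟩ : ∃ t0, t0 = t / (χ r - 1) := ⟨_, rfl⟩
  have hg := hgen t0
  have hc := Subgroup.commutator_mem_commutator hh hg
  rw [commutatorElement_def] at hc
  have e1 : h * (xGL D hD K r t0 * xGL D hD K s (φ t0) * xGL D hD K v (φ (φ t0))) * h⁻¹ =
      (h * xGL D hD K r t0 * h⁻¹) * (h * xGL D hD K s (φ t0) * h⁻¹) *
        (h * xGL D hD K v (φ (φ t0)) * h⁻¹) := by group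
  rw [e1, hconj, hconj, hconj, _root_.mul_inv_rev, _root_.mul_inv_rev, xGL_inv, xGL_inv, xGL_inv] at hc
  have e2 : xGL D hD K r (χ r * t0) * xGL D hD K s (χ s * φ t0) * xGL D hD K v (χ v * φ (φ t0)) *
      (xGL D hD K v (-φ (φ t0)) * (xGL D hD K s (-φ t0) * xGL D hD K r (-t0))) =
      xGL D hD K r (χ r * t0) * (xGL D hD K s (χ s * φ t0) *
        (xGL D hD K v (χ v * φ (φ t0)) * xGL D hD K v (-φ (φ t0))) * xGL D hD K s (-φ t0)) *
        xGL D hD K r (-t0) := by group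
  rw [e2, xGL_mul, mul_assoc (xGL D hD K s _), ← (hsv _ _).eq, ← mul_assoc (xGL D hD K s _), xGL_mul] at hc
  have e5 : xGL D hD K r (χ r * t0) * (xGL D hD K s (χ s * φ t0 + -φ t0) *
      xGL D hD K v (χ v * φ (φ t0) + -φ (φ t0))) * xGL D hD K r (-t0) =
      (xGL D hD K r (χ r * t0) * xGL D hD K r (-t0)) * (xGL D hD K s (χ s * φ t0 + -φ t0) *
      xGL D hD K v (χ v * φ (φ t0) + -φ (φ t0))) := by
    have c1 : Commute (xGL D hD K r (-t0)) (xGL D hD K s (χ s * φ t0 + -φ t0) *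
        xGL D hD K v (χ v * φ (φ t0) + -φ (φ t0))) := (hrs _ _).mul_right (hrv _ _)
    rw [mul_assoc, ← c1.eq, ← mul_assoc]
  rw [e5, xGL_mul, ← mul_assoc] at hc
  have e3 : χ r * t0 + -t0 = t := by
    rw [ht0]; field_simp; ring
  have e4 : χ s * φ t0 + -φ t0 = φ t := by
    rw [← e3, hχs]
    simp only [map_add, map_mul, map_neg]
  have e6 : χ v * φ (φ t0) + -φ (φ t0) = φ (φ t) := by
    rw [← e3, hχv]
    simp only [map_add, map_mul, map_neg]
  rwa [e3, e4, e6] at hc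

end

end Cfsg.Agent.Lib.Helper7
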