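import Cfsg.Agent.Lib.Helper7.G2Tw11
import Cfsg.Agent.Lib.Helper7.ChevTwistSimple
import Cfsg.Agent.Lib.Helper7.ChevTwistPerf

/-! Perfectness and simplicity of the fixed points of the twisting automorphism of `G₂`, for fields with
more than three elements (helper7). -/

set_option autoImplicit false

namespace Cfsg.Agent.Lib.Helper7

open Cfsg Cfsg.Lie Matrix

theorem neg_G2_negpos : ∀ r, chevG2.IsNegRoot r → chevG2.IsPosRoot (chevG2.neg r) := by
  intro r hr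
  have h1 : r < 12 := hr.1
  revert hr
  revert r
  decide

section
variable {F : Type*} [Field F]
variable {τ : ↥(chevG2.group F) ≃* ↥(chevG2.group F)} {θ : ℕ} (hτ : TauData F τ θ)
include hτ

/-- conjugation by `n₀` maps `V` into `U` -/
theorem conj_n0_mem_posUnipotent (v : GL chevG2.Idx F) (hv : v ∈ chevG2.negUnipotent F) :
    n0G2 F * v * (n0G2 F)⁻¹ ∈ chevG2.posUnipotent F := by
  have h : chevG2.negUnipotent F ≤ (chevG2.posUnipotent F).comap (MulAut.conj (n0G2 F)).toMonoidHom := by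
    unfold ChevalleyDatum.negUnipotent
    rw [Subgroup.closure_le]
    rintro g ⟨r, t, hr, hg⟩
    have hgx : g = xGL chevG2 mem_G2 F r t := Units.ext hg
    show MulAut.conj (n0G2 F) g ∈ chevG2.posUnipotent F
    rw [MulAut.conj_apply, hgx]
    obtain ⟨-, c, -, h⟩ := n0G2_actsAs hτ r hr.1
    rw [h t]
    exact xGL_pos_mem chevG2 mem_G2 F _ (neg_G2_negpos r hr) _
  have := h hv
  rwa [Subgroup.mem_comap, MulEquiv.coe_toMonoidHom, MulAut.conj_apply] at this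

theorem reeU_000 : reeU θ 0 0 (0 : F) = 1 := by
  have hθ : θ ≠ 0 := (theta_pos hτ).ne'
  rw [reeU_eq, ordProd_c6fn]
  simp only [zero_pow hθ, zero_pow (Nat.succ_ne_zero _), zero_add, xGL_zero, mul_one]

/-- a fixed diagonal element with nontrivial characters at the roots 6, 10, 11 centralizes no
nontrivial element of `U¹` -/
theorem centralizer_trivial (h : GL chevG2.Idx F) (χ : ℕ → F) (hχ : ChainChar chevG2 F χ)
    (e : (h : Matrix chevG2.Idx chevG2.Idx F) = diagChar chevG2 F χ)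
    (h6 : χ 6 ≠ 1) (h10 : χ 10 ≠ 1) (h11 : χ 11 ≠ 1)
    (g : GL chevG2.Idx F) (hg : g ∈ chevG2.posUnipotent F ⊓ fixTau F τ) (hc : h * g * h⁻¹ = g) : g = 1 := by
  obtain ⟨t, u, v, rfl⟩ := (posUnipotent_inf_fixTau hτ g).mp hg
  rw [reeU_eq, diagGL_conj_ordProd chevG2 mem_G2 F h χ hχ e] at hc
  have hinj := ordProd_injA chevG2 mem_G2 F aG2 chainAdd_G2 posFacts_G2 l6G2 goodLA_G2 _ _ hc
  have e6 : χ 6 * t = t := hinj 6 (by decide)
  have e10 : χ 10 * u = u := hinj 10 (by decide)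
  have e11 : χ 11 * v = v := hinj 11 (by decide)
  have key : ∀ c x : F, c ≠ 1 → c * x = x → x = 0 := by
    intro c x hc1 hcx
    by_contra hx
    apply hc1
    exact mul_right_cancel₀ hx (by rw [hcx, one_mul])
  rw [key _ _ h6 e6, key _ _ h10 e10, key _ _ h11 e11]
  exact reeU_000 hτ

/-- every element of `U¹` is a commutator with a good element of the torus -/
theorem exists_comm_of_good [Finite F] (h : GL chevG2.Idx F) (hh : h ∈ chevG2.diagonalSubgroup F ⊓ fixTau F τ)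
    (χ : ℕ → F) (hχ : ChainChar chevG2 F χ)
    (e : (h : Matrix chevG2.Idx chevG2.Idx F) = diagChar chevG2 F χ)
    (h6 : χ 6 ≠ 1) (h10 : χ 10 ≠ 1) (h11 : χ 11 ≠ 1)
    (g : GL chevG2.Idx F) (hg : g ∈ chevG2.posUnipotent F ⊓ fixTau F τ) :
    ∃ y ∈ chevG2.posUnipotent F ⊓ fixTau F τ, g = h * y * h⁻¹ * y⁻¹ := by
  have hhH := (Subgroup.mem_inf.mp hh).1
  have hhF := (Subgroup.mem_inf.mp hh).2
  have hconj : ∀ y ∈ chevG2.posUnipotent F ⊓ fixTau F τ, h * y * h⁻¹ ∈ chevG2.posUnipotent F ⊓ fixTau F τ := by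
    intro y hy
    refine Subgroup.mem_inf.mpr ⟨?_, Subgroup.mul_mem _ (Subgroup.mul_mem _ hhF (Subgroup.mem_inf.mp hy).2)
      (Subgroup.inv_mem _ hhF)⟩
    have hnorm := diagonalSubgroup_le_normalizer_posUnipotent chevG2 mem_G2 F hhH
    rw [Subgroup.mem_set_normalizer_iff] at hnorm
    exact (hnorm _).mp (Subgroup.mem_inf.mp hy).1
  let f : ↥(chevG2.posUnipotent F ⊓ fixTau F τ) → ↥(chevG2.posUnipotent F ⊓ fixTau F τ) := fun y =>
    ⟨h * y.1 * h⁻¹ * y.1⁻¹, Subgroup.mul_mem _ (hconj y.1 y.2) (Subgroup.inv_mem _ y.2)⟩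
  have hf : Function.Injective f := by
    intro y y' hyy
    have e1 : h * y.1 * h⁻¹ * y.1⁻¹ = h * y'.1 * h⁻¹ * y'.1⁻¹ := congrArg Subtype.val hyy
    have e2 : h * (y'.1⁻¹ * y.1) * h⁻¹ = y'.1⁻¹ * y.1 := by
      have : h * (y'.1⁻¹ * y.1) * h⁻¹ = (h * y'.1 * h⁻¹)⁻¹ * (h * y.1 * h⁻¹ * y.1⁻¹) * y.1 := by group
      rw [this, e1]
      group
    have e3 := centralizer_trivial hτ h χ hχ e h6 h10 h11 _
      (Subgroup.mul_mem _ (Subgroup.inv_mem _ y'.2) y.2) e2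
    apply Subtype.ext
    have := congrArg (fun x => y'.1 * x) e3
    simpa using this
  obtain ⟨y, hy⟩ := Finite.surjective_of_injective hf ⟨g, hg⟩
  exact ⟨y.1, y.2, (congrArg Subtype.val hy).symm⟩

variable (hsq : ∀ x : F, x ≠ 0 → ∃ w : F, x = w ^ 2 ∨ x = -(w ^ 2))
include hsq

/-- a good element of the torus exists when the field has more than three elements -/
theorem exists_good_H (hcard : ∃ x : F, x ≠ 0 ∧ x ≠ 1 ∧ x ≠ -1) :
    ∃ h ∈ chevG2.diagonalSubgroup F ⊓ fixTau F τ, ∃ χ : ℕ → F, ChainChar chevG2 F χ ∧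
      (h : Matrix chevG2.Idx chevG2.Idx F) = diagChar chevG2 F χ ∧ χ 6 ≠ 1 ∧ χ 10 ≠ 1 ∧ χ 11 ≠ 1 := by
  obtain ⟨x, hx0, hx1, hxm⟩ := hcard
  obtain ⟨h, hh, e0⟩ := exists_H_chi0 hτ hsq x hx0
  have hfix : h ∈ chevG2.diagonalSubgroup F ⊓ fixTau F τ :=
    Subgroup.mem_inf.mpr ⟨(Subgroup.mem_inf.mp hh).1, twistedG2_le_fixTau hτ (Subgroup.mem_inf.mp hh).2⟩
  obtain ⟨χ, hχ, e⟩ := mem_diagonalSubgroup_char chevG2 mem_G2 F h (Subgroup.mem_inf.mp hh).1
  rw [chi0_diag _ _ e] at e0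
  have n11 : χ 0 = (χ 11)⁻¹ := hχ.negC 11 (by decide) (by decide)
  have a8 : χ 8 = χ 6 * χ 7 ^ 1 :=
    hχ.addC 7 (by decide) 6 (by decide) ((8:ℕ),(1:ℕ),(-1:ℤ)) (by decide) (by decide)
  have a10 : χ 10 = χ 6 * χ 7 ^ 3 :=
    hχ.addC 7 (by decide) 6 (by decide) ((10:ℕ),(3:ℕ),(1:ℤ)) (by decide) (by decide)
  have a11 : χ 11 = χ 10 * χ 6 ^ 1 :=
    hχ.addC 6 (by decide) 10 (by decide) ((11:ℕ),(1:ℕ),(1:ℤ)) (by decide) (by decide)
  have f6 : χ 7 = χ 6 ^ eG2 θ 6 := char_fix hτ h hfix χ hχ e 6 (by decide)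
  have f10 : χ 8 = χ 10 ^ eG2 θ 10 := char_fix hτ h hfix χ hχ e 10 (by decide)
  have h11 : χ 11 ≠ 1 := by
    intro h1
    rw [h1, inv_one, e0] at n11
    exact hx1 n11
  have h6 : χ 6 ≠ 1 := by
    intro h1
    rw [h1, one_pow] at f6
    rw [h1, f6, one_pow, one_mul] at a10
    rw [a10, h1, one_pow, one_mul] at a11
    exact h11 a11
  have h10 : χ 10 ≠ 1 := by
    intro h1
    rw [h1, one_pow] at f10
    rw [f10, pow_one] at a8
    rw [h1] at a10
    rw [h1, pow_one, one_mul] at a11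
    have h7 : χ 7 ≠ 0 := hχ.ne0 7 (by decide)
    have hsq7 : χ 7 ^ 2 = 1 := by
      have : χ 6 * χ 7 ^ 3 = (χ 6 * χ 7) * χ 7 ^ 2 := by ring
      rw [this, ← a8, one_mul] at a10
      exact a10.symm
    have h67 : χ 6 = (χ 7)⁻¹ := eq_inv_of_mul_eq_one_left a8.symm
    have hx7 : x = χ 7 := by
      rw [← e0, n11, a11, h67, inv_inv]
    have : (χ 7 - 1) * (χ 7 + 1) = 0 := by ring_nf; rw [hsq7]; ring
    rcases mul_eq_zero.mp this with h | h
    · exact hx1 (by rw [hx7]; exact sub_eq_zero.mp h)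
    · exact hxm (by rw [hx7]; exact eq_neg_of_add_eq_zero_left h)
  exact ⟨h, hfix, χ, hχ, e, h6, h10, h11⟩

/-- the group of fixed points is perfect -/
theorem fixTau_le_commutator [Finite F] (hcard : ∃ x : F, x ≠ 0 ∧ x ≠ 1 ∧ x ≠ -1) :
    fixTau F τ ≤ ⁅fixTau F τ, fixTau F τ⁆ := by
  obtain ⟨h, hh, χ, hχ, e, h6, h10, h11⟩ := exists_good_H hτ hsq hcard
  have hhF := (Subgroup.mem_inf.mp hh).2
  have hU : ∀ g ∈ chevG2.posUnipotent F ⊓ fixTau F τ, g ∈ ⁅fixTau F τ, fixTau F τ⁆ := by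
    intro g hg
    obtain ⟨y, hy, rfl⟩ := exists_comm_of_good hτ h hh χ hχ e h6 h10 h11 g hg
    exact Subgroup.commutator_mem_commutator hhF (Subgroup.mem_inf.mp hy).2
  conv_lhs => rw [← twistedG2_eq_fixTau hτ hsq]
  unfold twistedG2 ChevalleyDatum.genSubgroup
  rw [Subgroup.closure_le]
  rintro g ⟨w, ⟨t, u, v, hw | hw⟩, hg⟩
  · have : g = reeU θ t u v := Units.ext (by rw [hg, hw]; exact (coe_wordGL chevG2 mem_G2 F _).symm)
    rw [this]
    exact hU _ (Subgroup.mem_inf.mpr ⟨reeU_mem_posUnipotent θ t u v, reeU_mem_fixTau hτ t u v⟩)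
  · have : g = reeV θ t u v := Units.ext (by rw [hg, hw]; exact (coe_wordGL chevG2 mem_G2 F _).symm)
    rw [this]
    have hvF := reeV_mem_fixTau hτ t u v
    have hn0 := n0G2_mem_fixTau hτ
    have h1 : n0G2 F * reeV θ t u v * (n0G2 F)⁻¹ ∈ ⁅fixTau F τ, fixTau F τ⁆ :=
      hU _ (Subgroup.mem_inf.mpr ⟨conj_n0_mem_posUnipotent hτ _ (reeV_mem_negUnipotent θ t u v),
        Subgroup.mul_mem _ (Subgroup.mul_mem _ hn0 hvF) (Subgroup.inv_mem _ hn0)⟩)
    have h2 := conj_mem_commutator_self (fixTau F τ) (n0G2 F)⁻¹ _ (Subgroup.inv_mem _ hn0) h1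
    have h3 : (n0G2 F)⁻¹ * (n0G2 F * reeV θ t u v * (n0G2 F)⁻¹) * ((n0G2 F)⁻¹)⁻¹ = reeV θ t u v := by group
    rw [h3] at h2
    exact h2

theorem fixTau_perfect [Finite F] (hcard : ∃ x : F, x ≠ 0 ∧ x ≠ 1 ∧ x ≠ -1) :
    commutator ↥(fixTau F τ) = ⊤ :=
  commutator_eq_top_of_le_self _ (fixTau_le_commutator hτ hsq hcard)

/-- the group of fixed points is simple -/
theorem fixTau_simple [Finite F] (hcard : ∃ x : F, x ≠ 0 ∧ x ≠ 1 ∧ x ≠ -1) :
    IsSimpleGroup ↥(fixTau F τ) ∧ ¬ IsMulCommutative ↥(fixTau F τ) := by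
  obtain ⟨P, hB, hN, hS⟩ := exists_fixBNPair hτ
  have hperf := fixTau_perfect hτ hsq hcard
  have hnt : Nontrivial ↥(fixTau F τ) := by
    by_contra hnt
    rw [not_nontrivial_iff_subsingleton] at hnt
    have hs : n0Fix hτ ∈ P.S := by rw [hS]; exact Set.mem_singleton _
    apply P.conj_ne _ hs
    ext x
    have hx : x = 1 := Subsingleton.elim _ _
    rw [hx]
    constructor
    · intro _; exact P.B.one_mem
    · intro _; exact ⟨1, P.B.one_mem, Subsingleton.elim _ _⟩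
  constructor
  · apply Cfsg.Agent.Lib.Helper3.BN.simple_of_irreducible P ?_ ?_ hperf
    · rw [hB]; exact fixB_core hτ
    · intro J hJ hne hne'
      exfalso
      obtain ⟨s, hs⟩ := hne
      obtain ⟨s', hs'S, hs'J⟩ := hne'
      have h1 : s = n0Fix hτ := by
        have := hJ hs
        rw [hS] at this
        exact this
      have h2 : s' = n0Fix hτ := by
        rw [hS] at hs'S
        exact hs'S
      apply hs'J
      rw [h2, ← h1]
      exact hs
    · rw [hB]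
      exact twisted_borel_isSolvable chevG2 F (fixTau F τ) mem_G2
  · intro hc
    have hbot : commutator ↥(fixTau F τ) = ⊥ := by
      rw [commutator_def, Subgroup.commutator_eq_bot_iff_le_centralizer]
      intro a _
      rw [Subgroup.mem_centralizer_iff]
      intro b _
      exact hc.is_comm.comm b a
    rw [hbot] at hperf
    exact bot_ne_top hperf

end

end Cfsg.Agent.Lib.Helper7
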