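import Cfsg.Agent.Lib.Helper7.G2Tw8
import Cfsg.Agent.Lib.Helper7.G2Tw12

/-! The torus `H¹` of the Ree groups: cyclic, elements of odd order, fixed-point-free action on `U¹`
(helper7). -/

set_option autoImplicit false

namespace Cfsg.Agent.Lib.Helper7

open Cfsg Cfsg.Lie Matrix

/-- in the group of units of a finite field of order `2k+1`, `k` odd, exactly `k` elements have odd order -/
theorem card_odd_order_units (F : Type*) [Field F] [Fintype F] (k : ℕ) (hk : Odd k)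
    (hcard : Fintype.card F - 1 = 2 * k) : Nat.card {x : Fˣ // Odd (orderOf x)} = k := by
  have hc : Nat.card Fˣ = 2 * k := by rw [Nat.card_units, Nat.card_eq_fintype_card, hcard]
  have h1 : Nat.card (powMonoidHom k : Fˣ →* Fˣ).ker = k := by
    rw [IsCyclic.card_powMonoidHom_ker, hc]
    exact Nat.gcd_eq_right (Dvd.intro_left 2 rfl)
  rw [← h1]
  apply Nat.card_congr
  apply Equiv.subtypeEquivRight
  intro x
  rw [MonoidHom.mem_ker, powMonoidHom_apply, ← orderOf_dvd_iff_pow_eq_one]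
  constructor
  · intro hodd
    have h2 : orderOf x ∣ 2 * k := by rw [← hc]; exact orderOf_dvd_natCard x
    exact (Nat.Coprime.dvd_of_dvd_mul_left (Nat.Coprime.symm (Nat.coprime_two_left.mpr hodd)) h2)
  · intro hdvd
    exact Odd.of_dvd_nat hk hdvd

section
variable {F : Type*} [Field F]
variable {τ : ↥(chevG2.group F) ≃* ↥(chevG2.group F)} {θ : ℕ} (hτ : TauData F τ θ)

/-- the corner character as a homomorphism to the units -/
noncomputable def chi0U (F : Type*) [Field F] (τ : ↥(chevG2.group F) ≃* ↥(chevG2.group F)) :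
    ↥(chevG2.diagonalSubgroup F ⊓ fixTau F τ) →* Fˣ :=
  MonoidHom.mk' (fun h => Units.mk0 (chi0 h.1) (chi0_ne_zero h.1 (Subgroup.mem_inf.mp h.2).1))
    (fun a b => Units.ext (chi0_mul a.1 b.1 (Subgroup.mem_inf.mp a.2).1 (Subgroup.mem_inf.mp b.2).1))

theorem chi0U_apply (h : ↥(chevG2.diagonalSubgroup F ⊓ fixTau F τ)) :
    ((chi0U F τ h : Fˣ) : F) = chi0 h.1 := rfl

include hτ

theorem chi0U_injective : Function.Injective (chi0U F τ) := by
  intro h h' e
  have e' : chi0 h.1 = chi0 h'.1 := congrArg Units.val e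
  have hH := (Subgroup.mem_inf.mp h.2).1
  have hH' := (Subgroup.mem_inf.mp h'.2).1
  have h1 : h.1 * h'.1⁻¹ = 1 := by
    apply fixH_eq_one hτ _ (Subgroup.mul_mem _ h.2 (Subgroup.inv_mem _ h'.2))
    rw [chi0_mul _ _ hH (Subgroup.inv_mem _ hH'), chi0_inv _ hH', e']
    exact mul_inv_cancel₀ (chi0_ne_zero h'.1 hH')
  apply Subtype.ext
  have := congrArg (fun x => x * h'.1) h1
  simpa using this

/-- the fixed torus is cyclic -/
theorem fixH_isCyclic [Finite F] : IsCyclic ↥(chevG2.diagonalSubgroup F ⊓ fixTau F τ) :=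
  isCyclic_of_subgroup_isDomain ((Units.coeHom F).comp (chi0U F τ))
    (Units.val_injective.comp (chi0U_injective hτ))

/-- characters of a fixed diagonal element whose corner entry is not `±1` -/
theorem good_of_chi0 (h : GL chevG2.Idx F) (hfix : h ∈ chevG2.diagonalSubgroup F ⊓ fixTau F τ)
    (χ : ℕ → F) (hχ : ChainChar chevG2 F χ) (e : (h : Matrix chevG2.Idx chevG2.Idx F) = diagChar chevG2 F χ)
    (hx1 : χ 0 ≠ 1) (hxm : χ 0 ≠ -1) : χ 6 ≠ 1 ∧ χ 10 ≠ 1 ∧ χ 11 ≠ 1 := by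
  have n11 : χ 0 = (χ 11)⁻¹ := hχ.negC 11 (by decide) (by decide)
  have a8 : χ 8 = χ 6 * χ 7 ^ 1 :=
    hχ.addC 7 (by decide) 6 (by decide) ((8:ℕ),(1:ℕ),(-1:ℤ)) (by decide) (by decide)
  have a10 : χ 10 = χ 6 * χ 7 ^ 3 :=
    hχ.addC 7 (by decide) 6 (by decide) ((10:ℕ),(3:ℕ),(1:ℤ)) (by decide) (by decide)
  have a11 : χ 11 = χ 10 * χ 6 ^ 1 :=
    hχ.addC 6 (by decide) 10 (by decide) ((11:ℕ),(1:ℕ),(1:ℤ)) (by decide) (by decide)
  have f6 : χ 7 = χ 6 ^ eG2 θ 6 := char_fix hτ h hfix χ hχ e 6 (by decide)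
  have f10 : χ 8 = χ 10 ^ eG2 θ 10 := char_fix hτ h hfix χ hχ e 10 (by decide)
  have h11 : χ 11 ≠ 1 := by
    intro h1
    rw [h1, inv_one] at n11
    exact hx1 n11
  have h6 : χ 6 ≠ 1 := by
    intro h1
    rw [h1, one_pow] at f6
    rw [h1, f6, one_pow, one_mul] at a10
    rw [a10, h1, one_pow, one_mul] at a11
    exact h11 a11
  have h10 : χ 10 ≠ 1 := by
    intro h1
    rw [h1, one_pow] at f10
    rw [f10, pow_one] at a8
    rw [h1] at a10
    rw [h1, pow_one, one_mul] at a11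
    have h7 : χ 7 ≠ 0 := hχ.ne0 7 (by decide)
    have hsq7 : χ 7 ^ 2 = 1 := by
      have : χ 6 * χ 7 ^ 3 = (χ 6 * χ 7) * χ 7 ^ 2 := by ring
      rw [this, ← a8, one_mul] at a10
      exact a10.symm
    have h67 : χ 6 = (χ 7)⁻¹ := eq_inv_of_mul_eq_one_left a8.symm
    have hx7 : χ 0 = χ 7 := by
      rw [n11, a11, h67, inv_inv]
    have : (χ 7 - 1) * (χ 7 + 1) = 0 := by ring_nf; rw [hsq7]; ring
    rcases mul_eq_zero.mp this with h | h
    · exact hx1 (by rw [hx7]; exact sub_eq_zero.mp h)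
    · exact hxm (by rw [hx7]; exact eq_neg_of_add_eq_zero_left h)
  exact ⟨h6, h10, h11⟩

/-- nontrivial elements of odd order of the fixed torus centralize no nontrivial element of `U¹` -/
theorem odd_centralizer_trivial (h : GL chevG2.Idx F) (hfix : h ∈ chevG2.diagonalSubgroup F ⊓ fixTau F τ)
    (h1 : h ≠ 1) (hodd : Odd (orderOf h)) (g : GL chevG2.Idx F)
    (hg : g ∈ chevG2.posUnipotent F ⊓ fixTau F τ) (hc : h * g = g * h) : g = 1 := by
  have hH := (Subgroup.mem_inf.mp hfix).1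
  obtain ⟨χ, hχ, e⟩ := mem_diagonalSubgroup_char chevG2 mem_G2 F h hH
  have hx1 : χ 0 ≠ 1 := by
    intro h0
    exact h1 (fixH_eq_one hτ h hfix (by rw [chi0_diag _ _ e, h0]))
  have hxm : χ 0 ≠ -1 := by
    intro h0
    have h2 : h * h = 1 := by
      apply fixH_eq_one hτ _ (Subgroup.mul_mem _ hfix hfix)
      rw [chi0_mul _ _ hH hH, chi0_diag _ _ e, h0]
      ring
    have h3 : orderOf h ∣ 2 := by
      rw [orderOf_dvd_iff_pow_eq_one, pow_two]
      exact h2
    have h4 : orderOf h = 1 := by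
      rcases (Nat.dvd_prime Nat.prime_two).mp h3 with h5 | h5
      · exact h5
      · rw [h5] at hodd
        exact absurd hodd (by decide)
    exact h1 (orderOf_eq_one_iff.mp h4)
  obtain ⟨h6, h10, h11⟩ := good_of_chi0 hτ h hfix χ hχ e hx1 hxm
  apply centralizer_trivial hτ h χ hχ e h6 h10 h11 g hg
  rw [hc, mul_inv_cancel_right]

variable (hsq : ∀ x : F, x ≠ 0 → ∃ w : F, x = w ^ 2 ∨ x = -(w ^ 2))
include hsq

theorem chi0U_surjective : Function.Surjective (chi0U F τ) := by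
  intro x
  obtain ⟨h, hh, e⟩ := exists_H_chi0 hτ hsq (x : F) x.ne_zero
  refine ⟨⟨h, Subgroup.mem_inf.mpr ⟨(Subgroup.mem_inf.mp hh).1,
    twistedG2_le_fixTau hτ (Subgroup.mem_inf.mp hh).2⟩⟩, ?_⟩
  apply Units.ext
  exact e

/-- the fixed torus is isomorphic to the group of units -/
noncomputable def fixH_equiv : ↥(chevG2.diagonalSubgroup F ⊓ fixTau F τ) ≃* Fˣ :=
  MulEquiv.ofBijective (chi0U F τ) ⟨chi0U_injective hτ, chi0U_surjective hτ hsq⟩

end

section
variable {K : Type*} [Field K] [Fintype K] {m : ℕ} (hK : Fintype.card K = 3 ^ (2 * m + 1))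
include hK

theorem ree_torus_isCyclic : IsCyclic ↥(chevG2.diagonalSubgroup K ⊓ twistedG2 K (3 ^ m)) := by
  obtain ⟨τ, hτ⟩ := exists_tauData hK
  have hsq := sq_dichotomy_of_card hK
  rw [twistedG2_eq_fixTau hτ hsq]
  exact fixH_isCyclic hτ

theorem ree_torus_odd :
    2 * Nat.card {h : ↥(chevG2.diagonalSubgroup K ⊓ twistedG2 K (3 ^ m)) // Odd (orderOf h)} =
      3 ^ (2 * m + 1) - 1 ∧
    ∀ h ∈ (chevG2.diagonalSubgroup K ⊓ twistedG2 K (3 ^ m)), h ≠ 1 → Odd (orderOf h) →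
      (chevG2.posUnipotent K ⊓ twistedG2 K (3 ^ m)) ⊓ Subgroup.centralizer {h} = ⊥ := by
  obtain ⟨τ, hτ⟩ := exists_tauData hK
  have hsq := sq_dichotomy_of_card hK
  rw [twistedG2_eq_fixTau hτ hsq]
  constructor
  · -- `q - 1 = 2 k` with `k` odd
    have h4 : 3 ^ (2 * m + 1) % 4 = 3 := by
      rw [pow_succ, pow_mul, Nat.mul_mod, Nat.pow_mod]
      norm_num
    obtain ⟨k, hk⟩ : ∃ k, 3 ^ (2 * m + 1) = 4 * k + 3 := ⟨3 ^ (2 * m + 1) / 4, by omega⟩
    have hodd : Odd (2 * k + 1) := ⟨k, rfl⟩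
    have hcard : Fintype.card K - 1 = 2 * (2 * k + 1) := by rw [hK, hk]; omega
    have h1 := card_odd_order_units K (2 * k + 1) hodd hcard
    have h2 : Nat.card {h : ↥(chevG2.diagonalSubgroup K ⊓ fixTau K τ) // Odd (orderOf h)} =
        Nat.card {x : Kˣ // Odd (orderOf x)} := by
      apply Nat.card_congr
      refine (fixH_equiv hτ hsq).toEquiv.subtypeEquiv ?_
      intro h
      rw [MulEquiv.toEquiv_eq_coe, MulEquiv.coe_toEquiv, MulEquiv.orderOf_eq]
    rw [h2, h1, hk]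
    omega
  · intro h hh h1 hodd
    rw [Subgroup.eq_bot_iff_forall]
    intro g hg
    obtain ⟨hgU, hgC⟩ := Subgroup.mem_inf.mp hg
    rw [Subgroup.mem_centralizer_iff] at hgC
    exact odd_centralizer_trivial hτ h hh h1 hodd g hgU (hgC h (Set.mem_singleton h))

end

end Cfsg.Agent.Lib.Helper7
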