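import Cfsg.Agent.Lib.Helper7.G2Tw8
import Cfsg.Agent.Lib.Helper7.G2Tw12

/-! The Sylow 3-subgroups of the Ree groups intersect trivially (helper7). -/

set_option autoImplicit false

namespace Cfsg.Agent.Lib.Helper7

open Cfsg Cfsg.Lie Matrix

theorem factorization_three (e r : ℕ) (hr : ¬ 3 ∣ r) : (3 ^ e * r).factorization 3 = e := by
  have hr0 : r ≠ 0 := by
    rintro rfl
    exact hr (dvd_zero 3)
  rw [Nat.factorization_mul (pow_ne_zero e (by norm_num)) hr0, Finsupp.add_apply,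
    Nat.Prime.factorization_pow Nat.prime_three, Nat.factorization_eq_zero_of_not_dvd hr]
  simp

theorem sylow_mem_smul {G : Type*} [Group G] [Finite G] {p : ℕ} [Fact p.Prime] (P : Sylow p G) (g x : G) :
    x ∈ ((g • P : Sylow p G) : Subgroup G) ↔ g⁻¹ * x * g ∈ (P : Subgroup G) := by
  rw [Sylow.coe_subgroup_smul, Subgroup.mem_pointwise_smul_iff_inv_smul_mem, MulAut.smul_def,
    MulAut.inv_apply, MulAut.conj_symm_apply]

section
variable {F : Type*} [Field F]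

theorem borel_le_normalizer_posUnipotent :
    chevG2.borelSubgroup F ≤ Subgroup.normalizer (chevG2.posUnipotent F : Set (GL chevG2.Idx F)) := by
  unfold ChevalleyDatum.borelSubgroup
  exact sup_le Subgroup.le_normalizer (diagonalSubgroup_le_normalizer_posUnipotent chevG2 mem_G2 F)

variable {τ : ↥(chevG2.group F) ≃* ↥(chevG2.group F)} {θ : ℕ} (hτ : TauData F τ θ)
include hτ

/-- the trivial intersection property at the level of `GL` -/
theorem TI_aux (g : GL chevG2.Idx F) (hg : g ∈ fixTau F τ) (hgB : g ∉ chevG2.borelSubgroup F)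
    (y : GL chevG2.Idx F) (hy : y ∈ chevG2.posUnipotent F) (hy' : g⁻¹ * y * g ∈ chevG2.posUnipotent F) :
    y = 1 := by
  rcases fix_cases hτ g hg with hB | ⟨b, hb, u, hu, rfl⟩
  · exact absurd hB hgB
  · have hbB := (Subgroup.mem_inf.mp hb).1
    have huU := (Subgroup.mem_inf.mp hu).1
    obtain ⟨y', hy'def⟩ : ∃ y', y' = b⁻¹ * y * b := ⟨_, rfl⟩
    have hy'U : y' ∈ chevG2.posUnipotent F := by
      have hnorm := borel_le_normalizer_posUnipotent (Subgroup.inv_mem _ hbB)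
      rw [Subgroup.mem_set_normalizer_iff] at hnorm
      have := (hnorm y).mp hy
      rw [inv_inv] at this
      rw [hy'def]
      exact this
    have hz : (n0G2 F)⁻¹ * y' * n0G2 F ∈ chevG2.posUnipotent F := by
      have : (n0G2 F)⁻¹ * y' * n0G2 F = u * ((b * n0G2 F * u)⁻¹ * y * (b * n0G2 F * u)) * u⁻¹ := by
        rw [hy'def]; group
      rw [this]
      exact Subgroup.mul_mem _ (Subgroup.mul_mem _ huU hy') (Subgroup.inv_mem _ huU)
    have hV : y' ∈ chevG2.negUnipotent F := by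
      have := conj_n0_mem_negUnipotent hτ _ hz
      have e : n0G2 F * ((n0G2 F)⁻¹ * y' * n0G2 F) * (n0G2 F)⁻¹ = y' := by group
      rwa [e] at this
    have h1 : y' ∈ chevG2.posUnipotent F ⊓ chevG2.negUnipotent F := Subgroup.mem_inf.mpr ⟨hy'U, hV⟩
    rw [posUnipotent_inf_negUnipotent chevG2 mem_G2 F, Subgroup.mem_bot] at h1
    rw [hy'def] at h1
    have := congrArg (fun x => b * x * b⁻¹) h1
    simpa [mul_assoc] using this

/-- `U¹` as a subgroup of the fixed points -/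
def fixU (F : Type*) [Field F] (τ : ↥(chevG2.group F) ≃* ↥(chevG2.group F)) : Subgroup ↥(fixTau F τ) :=
  (chevG2.posUnipotent F ⊓ fixTau F τ).subgroupOf (fixTau F τ)

omit hτ in
theorem mem_fixU (g : ↥(fixTau F τ)) : g ∈ fixU F τ ↔ (g : GL chevG2.Idx F) ∈ chevG2.posUnipotent F := by
  unfold fixU
  rw [Subgroup.mem_subgroupOf, Subgroup.mem_inf]
  exact ⟨fun h => h.1, fun h => ⟨h, g.2⟩⟩

omit hτ in
theorem card_fixU : Nat.card ↥(fixU F τ) = Nat.card ↥(chevG2.posUnipotent F ⊓ fixTau F τ) :=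
  Nat.card_congr (Subgroup.subgroupOfEquivOfLe inf_le_right).toEquiv

/-- Sylow subgroups conjugate to `U¹` intersect trivially -/
theorem sylow_TI [Finite F] {p : ℕ} [Fact p.Prime] (S₀ : Sylow p ↥(fixTau F τ))
    (hS₀ : (S₀ : Subgroup ↥(fixTau F τ)) = fixU F τ) (P Q : Sylow p ↥(fixTau F τ)) (hPQ : P ≠ Q) :
    (P : Subgroup ↥(fixTau F τ)) ⊓ (Q : Subgroup ↥(fixTau F τ)) = ⊥ := by
  obtain ⟨a, rfl⟩ := MulAction.exists_smul_eq ↥(fixTau F τ) S₀ P
  obtain ⟨b, rfl⟩ := MulAction.exists_smul_eq ↥(fixTau F τ) S₀ Q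
  rw [Subgroup.eq_bot_iff_forall]
  intro x hx
  obtain ⟨hxa, hxb⟩ := Subgroup.mem_inf.mp hx
  rw [sylow_mem_smul, hS₀, mem_fixU] at hxa hxb
  by_cases hgB : ((a⁻¹ * b : ↥(fixTau F τ)) : GL chevG2.Idx F) ∈ chevG2.borelSubgroup F
  · exfalso
    apply hPQ
    have hnorm : a⁻¹ * b ∈ Subgroup.normalizer ((S₀ : Subgroup ↥(fixTau F τ)) : Set ↥(fixTau F τ)) := by
      rw [hS₀, Subgroup.mem_set_normalizer_iff]
      intro z
      rw [SetLike.mem_coe, SetLike.mem_coe, mem_fixU, mem_fixU]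
      have hn := borel_le_normalizer_posUnipotent hgB
      rw [Subgroup.mem_set_normalizer_iff] at hn
      exact hn z.1
    have h1 : (a⁻¹ * b) • S₀ = S₀ := Sylow.smul_eq_iff_mem_normalizer.mpr hnorm
    have h2 : b • S₀ = a • ((a⁻¹ * b) • S₀) := by
      rw [← mul_smul, mul_inv_cancel_left]
    rw [h2, h1]
  · have h1 := TI_aux hτ _ (a⁻¹ * b).2 hgB _ hxa (by
      have : ((a⁻¹ * b : ↥(fixTau F τ)) : GL chevG2.Idx F)⁻¹ * ((a⁻¹ * x * a : ↥(fixTau F τ)) : GL chevG2.Idx F) *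
          ((a⁻¹ * b : ↥(fixTau F τ)) : GL chevG2.Idx F) = ((b⁻¹ * x * b : ↥(fixTau F τ)) : GL chevG2.Idx F) := by
        push_cast
        group
      rw [this]
      exact hxb)
    have h2 : a⁻¹ * x * a = 1 := Subtype.ext h1
    have := congrArg (fun z => a * z * a⁻¹) h2
    simpa [mul_assoc] using this

end

section
variable {K : Type*} [Field K] [Fintype K] {m : ℕ} (hK : Fintype.card K = 3 ^ (2 * m + 1))
include hK

theorem ree_sylow3_TI (P Q : Sylow 3 ↥(twistedG2 K (3 ^ m))) (hPQ : P ≠ Q) :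
    (P : Subgroup ↥(twistedG2 K (3 ^ m))) ⊓ (Q : Subgroup ↥(twistedG2 K (3 ^ m))) = ⊥ := by
  obtain ⟨τ, hτ⟩ := exists_tauData hK
  have hsq := sq_dichotomy_of_card hK
  have hG := twistedG2_eq_fixTau hτ hsq
  revert P Q
  rw [hG]
  intro P Q hPQ
  haveI : Fact (Nat.Prime 3) := ⟨Nat.prime_three⟩
  obtain ⟨q, hq⟩ : ∃ q, q = 3 ^ (2 * m + 1) := ⟨_, rfl⟩
  have hq3 : q % 3 = 0 := by
    rw [hq, pow_succ]
    exact Nat.mul_mod_left _ _
  have hqpos : 0 < q := by rw [hq]; positivity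
  have hcardG : Nat.card ↥(fixTau K τ) = 3 ^ (3 * (2 * m + 1)) * ((q - 1) * (q ^ 3 + 1)) := by
    rw [card_fixTau hτ, card_fixBorel hτ, card_fixH hτ hsq, card_posUnipotent_inf_fixTau hτ,
      Nat.card_eq_fintype_card, hK, ← hq]
    have : 3 ^ (3 * (2 * m + 1)) = q ^ 3 := by rw [hq, ← pow_mul, mul_comm]
    rw [this]
    ring
  have hr : ¬ 3 ∣ (q - 1) * (q ^ 3 + 1) := by
    rw [Nat.dvd_iff_mod_eq_zero, Nat.mul_mod]
    have h1 : (q - 1) % 3 = 2 := by omega
    have h2 : (q ^ 3 + 1) % 3 = 1 := by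
      rw [Nat.add_mod, Nat.pow_mod, hq3]
    rw [h1, h2]
    norm_num
  have hcardU : Nat.card ↥(fixU K τ) = 3 ^ (Nat.card ↥(fixTau K τ)).factorization 3 := by
    rw [hcardG, factorization_three _ _ hr, card_fixU, card_posUnipotent_inf_fixTau hτ,
      Nat.card_eq_fintype_card, hK, ← pow_mul, mul_comm]
  exact sylow_TI hτ (Sylow.ofCard (fixU K τ) hcardU) (Sylow.coe_ofCard _ _) P Q hPQ

end

end Cfsg.Agent.Lib.Helper7
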