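import Cfsg.Agent.Lib.Helper7.G2Tw26
import Cfsg.Agent.Lib.Helper7.G2Tw15
import Cfsg.Agent.S1069

/-! Centralizers of involutions and Sylow 2-subgroups of the Ree groups (helper7). -/

set_option autoImplicit false

namespace Cfsg.Agent.Lib.Helper7

open Cfsg Cfsg.Lie Matrix

theorem map_centralizer_subtype {G : Type*} [Group G] (H : Subgroup G) (a : ↥H) :
    (Subgroup.centralizer {a}).map H.subtype = H ⊓ Subgroup.centralizer {(a : G)} := by
  ext g
  constructor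
  · rintro ⟨y, hy, rfl⟩
    refine Subgroup.mem_inf.mpr ⟨y.2, ?_⟩
    rw [Subgroup.mem_centralizer_iff]
    intro h hh
    rw [Set.mem_singleton_iff.mp hh]
    have := Subgroup.mem_centralizer_iff.mp hy a (Set.mem_singleton a)
    exact congrArg Subtype.val this
  · intro hg
    obtain ⟨hgH, hgC⟩ := Subgroup.mem_inf.mp hg
    refine ⟨⟨g, hgH⟩, ?_, rfl⟩
    rw [SetLike.mem_coe, Subgroup.mem_centralizer_iff]
    intro h hh
    rw [Set.mem_singleton_iff.mp hh]
    apply Subtype.ext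
    exact Subgroup.mem_centralizer_iff.mp hgC (a : G) (Set.mem_singleton _)

/-- Sylow 2-subgroups of exponent 2, from a subgroup containing a Sylow 2-subgroup -/
theorem sylow_exp_two_of_subgroup {G : Type*} [Group G] [Finite G] (C : Subgroup G)
    (hC : ∃ r, Odd r ∧ Nat.card C = 8 * r) (hG : ∃ r, Odd r ∧ Nat.card G = 8 * r)
    (hexp : ∀ x ∈ C, (∃ n : ℕ, x ^ (2 ^ n) = 1) → x * x = 1) :
    ∀ S : Sylow 2 G, Nat.card S = 8 ∧ ∀ x ∈ S, x * x = 1 := by
  obtain ⟨r, hr, hGr⟩ := hG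
  obtain ⟨r', hr', hCr⟩ := hC
  intro S
  refine ⟨sylow_two_card r hr hGr S, ?_⟩
  obtain ⟨P₀⟩ : Nonempty (Sylow 2 C) := inferInstance
  have hP8 : Nat.card P₀ = 8 := sylow_two_card r' hr' hCr P₀
  have hQ8 : Nat.card ((P₀ : Subgroup C).map C.subtype) = 8 := by
    rw [Subgroup.card_map_of_injective C.subtype_injective]
    exact hP8
  have hQp : IsPGroup 2 ((P₀ : Subgroup C).map C.subtype) := P₀.isPGroup'.map _
  obtain ⟨S₀, hS₀⟩ := hQp.exists_le_sylow
  have hQS : (P₀ : Subgroup C).map C.subtype = S₀ := by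
    apply Subgroup.eq_of_le_of_card_ge hS₀
    rw [hQ8]
    exact (sylow_two_card r hr hGr S₀).le
  obtain ⟨g, hg⟩ := MulAction.exists_smul_eq G S₀ S
  intro x hx
  have hx' : x ∈ ((g • S₀ : Sylow 2 G) : Subgroup G) := by rw [hg]; exact hx
  rw [sylow_mem_smul, ← hQS] at hx'
  obtain ⟨z, hz, hzx⟩ := hx'
  obtain ⟨n, hn⟩ := P₀.isPGroup' ⟨z, hz⟩
  have hn' : (z : G) ^ (2 ^ n) = 1 := by
    have := congrArg (fun y : ↥(P₀ : Subgroup C) => ((y : C) : G)) hn
    simpa using this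
  have h1 := hexp (z : G) z.2 ⟨n, hn'⟩
  have h2 : (g⁻¹ * x * g) * (g⁻¹ * x * g) = 1 := by
    rw [← hzx]
    exact h1
  have h3 : x * x = g * ((g⁻¹ * x * g) * (g⁻¹ * x * g)) * g⁻¹ := by group
  rw [h3, h2]
  group

section
variable {K : Type*} [Field K] [Fintype K] {m : ℕ} (hK : Fintype.card K = 3 ^ (2 * m + 1))
include hK

theorem not_sq_neg_one (w : K) : w ^ 2 ≠ -1 := by
  classical
  have h4 : Fintype.card K % 4 = 3 := by
    rw [hK, pow_succ, pow_mul, Nat.mul_mod, Nat.pow_mod]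
    norm_num
  have hneg : ¬ IsSquare (-1 : K) := by
    rw [FiniteField.isSquare_neg_one_iff]
    simp [h4]
  intro h
  exact hneg ⟨w, by rw [← h, pow_two]⟩

theorem ree_involution_centralizer (a : ↥(twistedG2 K (3 ^ m)))
    (haH : (a : GL chevG2.Idx K) ∈ chevG2.diagonalSubgroup K) (ha1 : a ≠ 1) (ha2 : a * a = 1) :
    Nonempty (↥(Subgroup.centralizer {a}) ≃*
        Multiplicative (ZMod 2) × Matrix.ProjectiveSpecialLinearGroup (Fin 2) K) ∧
      ∀ S : Sylow 2 ↥(twistedG2 K (3 ^ m)), Nat.card S = 8 ∧ ∀ x ∈ S, x * x = 1 := by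
  obtain ⟨τ, hτ⟩ := exists_tauData hK
  have hsq := sq_dichotomy_of_card hK
  have hneg := not_sq_neg_one hK
  have htw := twistedG2_eq_fixTau hτ hsq
  have haT : (a : GL chevG2.Idx K) ∈ chevG2.diagonalSubgroup K ⊓ fixTau K τ :=
    Subgroup.mem_inf.mpr ⟨haH, by rw [← htw]; exact a.2⟩
  have ha1' : (a : GL chevG2.Idx K) ≠ 1 := fun h => ha1 (Subtype.ext h)
  have ha2' : (a : GL chevG2.Idx K) * (a : GL chevG2.Idx K) = 1 := congrArg Subtype.val ha2
  obtain ⟨e0⟩ := nonempty_cent_equiv hτ (a : GL chevG2.Idx K) haT ha1' ha2' hsq hneg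
  have hmap : (Subgroup.centralizer {a}).map (twistedG2 K (3 ^ m)).subtype =
      fixTau K τ ⊓ Subgroup.centralizer {(a : GL chevG2.Idx K)} := by
    rw [map_centralizer_subtype]
    exact congrArg (fun X => X ⊓ Subgroup.centralizer {(a : GL chevG2.Idx K)}) htw
  have e : ↥(Subgroup.centralizer {a}) ≃*
      Multiplicative (ZMod 2) × Matrix.ProjectiveSpecialLinearGroup (Fin 2) K :=
    ((Subgroup.equivMapOfInjective _ _ (Subgroup.subtype_injective _)).trans
      (MulEquiv.subgroupCongr hmap)).trans e0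
  refine ⟨⟨e⟩, ?_⟩
  -- cardinalities
  have h3 : (3 : K) = 0 := hτ.three
  have h2 : (2 : K) ≠ 0 := by
    intro h
    have : (1 : K) = 0 := by linear_combination h3 - h
    exact one_ne_zero this
  obtain ⟨k, hk⟩ := three_pow_mod_eight m
  have hPSL := Cfsg.Agent.Lib.Helper13.card_PSL2_mul_two (F := K) h2
  rw [hK, hk] at hPSL
  obtain ⟨r', hr', hr'e⟩ := card_arith k
  rw [hr'e] at hPSL
  have hPSL4 : Nat.card (Matrix.ProjectiveSpecialLinearGroup (Fin 2) K) = 4 * r' := by omega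
  have hZ2 : Nat.card (Multiplicative (ZMod 2)) = 2 := by
    rw [Nat.card_eq_fintype_card, Fintype.card_multiplicative, ZMod.card]
  have hC : Nat.card ↥(Subgroup.centralizer {a}) = 8 * r' := by
    rw [Nat.card_congr e.toEquiv, Nat.card_prod, hZ2, hPSL4]
    ring
  have hG := Cfsg.Agent.S1069.result hK
  rw [hk] at hG
  obtain ⟨r, hr, hre⟩ := card_arith' k
  rw [hre] at hG
  apply sylow_exp_two_of_subgroup (Subgroup.centralizer {a}) ⟨r', hr', hC⟩ ⟨r, hr, hG⟩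
  intro x hx ⟨n, hn⟩
  have hn' : (⟨x, hx⟩ : ↥(Subgroup.centralizer {a})) ^ (2 ^ n) = 1 := Subtype.ext (by simpa using hn)
  have he : e ⟨x, hx⟩ ^ (2 ^ n) = 1 := by rw [← map_pow, hn', map_one]
  have hy : (e ⟨x, hx⟩).2 ^ (2 ^ n) = 1 := congrArg Prod.snd he
  have hy4 : (e ⟨x, hx⟩).2 ^ 4 = 1 := by
    rw [← orderOf_dvd_iff_pow_eq_one]
    have hd1 : orderOf (e ⟨x, hx⟩).2 ∣ 2 ^ n := orderOf_dvd_of_pow_eq_one hy
    have hd2 : orderOf (e ⟨x, hx⟩).2 ∣ 4 * r' := by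
      rw [← hPSL4]
      exact orderOf_dvd_natCard _
    obtain ⟨j, -, hj⟩ := (Nat.dvd_prime_pow Nat.prime_two).mp hd1
    rw [hj] at hd2 ⊢
    have hcop : Nat.Coprime (2 ^ j) r' := Nat.Coprime.pow_left j (Nat.coprime_two_left.mpr hr')
    exact hcop.dvd_of_dvd_mul_right hd2
  have h2sq : ¬ IsSquare (2 : K) := by
    rintro ⟨w, hw⟩
    apply hneg w
    rw [pow_two, ← hw]
    linear_combination h3
  have hy2 := Cfsg.Agent.Lib.Helper13.PSL2_sq_eq_one_of_pow_four h2sq _ hy4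
  have hz2 : (e ⟨x, hx⟩).1 * (e ⟨x, hx⟩).1 = 1 := by
    have : ∀ z : Multiplicative (ZMod 2), z * z = 1 := by decide
    exact this _
  have hee : e ⟨x, hx⟩ * e ⟨x, hx⟩ = 1 := by
    apply Prod.ext
    · exact hz2
    · show (e ⟨x, hx⟩).2 * (e ⟨x, hx⟩).2 = 1
      rw [← pow_two]
      exact hy2
  have hxx : (⟨x, hx⟩ : ↥(Subgroup.centralizer {a})) * ⟨x, hx⟩ = 1 := by
    apply e.injective
    rw [map_mul, hee, map_one]
  exact congrArg Subtype.val hxx

end

end Cfsg.Agent.Lib.Helper7
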