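import Cfsg.Agent.Lib.Helper7.G2Tw14

/-! Stabilizers of three points in the action of the Ree groups on the cosets of `B¹` (helper7). -/

set_option autoImplicit false

namespace Cfsg.Agent.Lib.Helper7

open Cfsg Cfsg.Lie Matrix

theorem mem_stab_quot {G : Type*} [Group G] (H : Subgroup G) (g k : G) :
    k ∈ MulAction.stabilizer G (g : G ⧸ H) ↔ g⁻¹ * k * g ∈ H := by
  rw [MulAction.mem_stabilizer_iff, MulAction.Quotient.smul_coe, QuotientGroup.eq]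
  rw [show (k • g)⁻¹ * g = (g⁻¹ * k * g)⁻¹ by simp [smul_eq_mul, mul_assoc]]
  exact inv_mem_iff

section
variable {F : Type*} [Field F]

theorem diagonal_comm (h h' : GL chevG2.Idx F) (hh : h ∈ chevG2.diagonalSubgroup F)
    (hh' : h' ∈ chevG2.diagonalSubgroup F) : h * h' = h' * h := by
  obtain ⟨χ, hχ, e⟩ := mem_diagonalSubgroup_char chevG2 mem_G2 F h hh
  obtain ⟨ψ, hψ, e'⟩ := mem_diagonalSubgroup_char chevG2 mem_G2 F h' hh'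
  apply Units.ext
  rw [Units.val_mul, Units.val_mul, e, e', diagChar_mul, diagChar_mul]
  congr 1
  funext s
  ring

variable {τ : ↥(chevG2.group F) ≃* ↥(chevG2.group F)} {θ : ℕ} (hτ : TauData F τ θ)
include hτ

/-- the key computation for the stabilizer of three points -/
theorem triple_stab_aux (g g' : GL chevG2.Idx F) (hg : g ∈ fixTau F τ) (hg' : g' ∈ fixTau F τ)
    (hgB : g ∉ chevG2.borelSubgroup F) (hgg' : g⁻¹ * g' ∉ chevG2.borelSubgroup F) :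
    ∃ b₁ ∈ chevG2.borelSubgroup F ⊓ fixTau F τ, ∀ k₁ ∈ chevG2.borelSubgroup F ⊓ fixTau F τ,
      g⁻¹ * k₁ * g ∈ chevG2.borelSubgroup F → g'⁻¹ * k₁ * g' ∈ chevG2.borelSubgroup F →
      g' ∉ chevG2.borelSubgroup F →
      b₁⁻¹ * k₁ * b₁ ∈ chevG2.diagonalSubgroup F ⊓ fixTau F τ ∧
        (chi0 (b₁⁻¹ * k₁ * b₁) = 1 ∨ chi0 (b₁⁻¹ * k₁ * b₁) = -1) := by
  rcases fix_cases hτ g hg with hB | ⟨b₁, hb₁, u₁, hu₁, eg⟩
  · exact absurd hB hgB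
  refine ⟨b₁, hb₁, ?_⟩
  intro k₁ hk₁ hk1g hk1g' hg'B
  have hb₁B := (Subgroup.mem_inf.mp hb₁).1
  have hb₁F := (Subgroup.mem_inf.mp hb₁).2
  have hu₁U := (Subgroup.mem_inf.mp hu₁).1
  have hu₁B := posUnipotent_le_borel chevG2 mem_G2 F hu₁U
  obtain ⟨k₂, hk₂def⟩ : ∃ k₂, k₂ = b₁⁻¹ * k₁ * b₁ := ⟨_, rfl⟩
  rw [← hk₂def]
  have hk₂B : k₂ ∈ chevG2.borelSubgroup F := by
    rw [hk₂def]
    exact Subgroup.mul_mem _ (Subgroup.mul_mem _ (Subgroup.inv_mem _ hb₁B) (Subgroup.mem_inf.mp hk₁).1) hb₁B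
  have hk₂F : k₂ ∈ fixTau F τ := by
    rw [hk₂def]
    exact Subgroup.mul_mem _ (Subgroup.mul_mem _ (Subgroup.inv_mem _ hb₁F) (Subgroup.mem_inf.mp hk₁).2) hb₁F
  have hk₂n : (n0G2 F)⁻¹ * k₂ * n0G2 F ∈ chevG2.borelSubgroup F := by
    have : (n0G2 F)⁻¹ * k₂ * n0G2 F = u₁ * (g⁻¹ * k₁ * g) * u₁⁻¹ := by
      rw [hk₂def, eg]; group
    rw [this]
    exact Subgroup.mul_mem _ (Subgroup.mul_mem _ hu₁B hk1g) (Subgroup.inv_mem _ hu₁B)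
  have hk₂H : k₂ ∈ chevG2.diagonalSubgroup F := borel_inf_conj_n0 hτ k₂ hk₂B hk₂n
  refine ⟨Subgroup.mem_inf.mpr ⟨hk₂H, hk₂F⟩, ?_⟩
  -- the third point
  obtain ⟨g'', hg''def⟩ : ∃ g'', g'' = b₁⁻¹ * g' := ⟨_, rfl⟩
  have hg''F : g'' ∈ fixTau F τ := by
    rw [hg''def]; exact Subgroup.mul_mem _ (Subgroup.inv_mem _ hb₁F) hg'
  have hg''B : g'' ∉ chevG2.borelSubgroup F := by
    intro h
    apply hg'B
    have : g' = b₁ * g'' := by rw [hg''def]; group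
    rw [this]
    exact Subgroup.mul_mem _ hb₁B h
  rcases fix_cases hτ g'' hg''F with hB | ⟨b₂, hb₂, u₂, hu₂, eg''⟩
  · exact absurd hB hg''B
  obtain ⟨h₂, hh₂, u₃, hu₃, rfl⟩ := fix_borel hτ b₂ hb₂
  have hh₂H := (Subgroup.mem_inf.mp hh₂).1
  have hu₂U := (Subgroup.mem_inf.mp hu₂).1
  have hu₂B := posUnipotent_le_borel chevG2 mem_G2 F hu₂U
  have hu₃U := (Subgroup.mem_inf.mp hu₃).1
  have hu₃B := posUnipotent_le_borel chevG2 mem_G2 F hu₃U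
  have eg' : g' = b₁ * (h₂ * u₃ * n0G2 F * u₂) := by rw [← eg'', hg''def]; group
  have hu₃ne : u₃ ≠ 1 := by
    intro h1
    apply hgg'
    have : g⁻¹ * g' = u₁⁻¹ * ((n0G2 F)⁻¹ * h₂ * ((n0G2 F)⁻¹)⁻¹) * u₂ := by
      rw [eg, eg', h1]; group
    rw [this]
    exact Subgroup.mul_mem _ (Subgroup.mul_mem _ (Subgroup.inv_mem _ hu₁B)
      (diagonal_le_borel chevG2 mem_G2 F (conj_diagonal_mem _ _
        (Subgroup.inv_mem _ (n0G2_mem_monomial F)) hh₂H))) hu₂B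
  have hcomm : h₂⁻¹ * k₂ * h₂ = k₂ := by
    rw [mul_assoc, diagonal_comm k₂ h₂ hk₂H hh₂H, inv_mul_cancel_left]
  have hk₃B : u₃⁻¹ * k₂ * u₃ ∈ chevG2.borelSubgroup F :=
    Subgroup.mul_mem _ (Subgroup.mul_mem _ (Subgroup.inv_mem _ hu₃B) hk₂B) hu₃B
  have hk3 : (n0G2 F)⁻¹ * (u₃⁻¹ * k₂ * u₃) * n0G2 F ∈ chevG2.borelSubgroup F := by
    have e : (n0G2 F)⁻¹ * (u₃⁻¹ * k₂ * u₃) * n0G2 F = u₂ * (g'⁻¹ * k₁ * g') * u₂⁻¹ := by
      have : u₃⁻¹ * k₂ * u₃ = u₃⁻¹ * (h₂⁻¹ * k₂ * h₂) * u₃ := by rw [hcomm]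
      rw [this, hk₂def, eg']
      group
    rw [e]
    exact Subgroup.mul_mem _ (Subgroup.mul_mem _ hu₂B hk1g') (Subgroup.inv_mem _ hu₂B)
  have hk₃H : u₃⁻¹ * k₂ * u₃ ∈ chevG2.diagonalSubgroup F := borel_inf_conj_n0 hτ _ hk₃B hk3
  have hc : k₂ * u₃ * k₂⁻¹ = u₃ := by
    have h4 : k₂⁻¹ * (u₃⁻¹ * k₂ * u₃) ∈ chevG2.diagonalSubgroup F :=
      Subgroup.mul_mem _ (Subgroup.inv_mem _ hk₂H) hk₃H
    have h5 : k₂⁻¹ * u₃⁻¹ * k₂ ∈ chevG2.posUnipotent F := by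
      have hnorm := diagonalSubgroup_le_normalizer_posUnipotent chevG2 mem_G2 F (Subgroup.inv_mem _ hk₂H)
      rw [Subgroup.mem_set_normalizer_iff] at hnorm
      have := (hnorm _).mp (Subgroup.inv_mem _ hu₃U)
      rwa [inv_inv] at this
    have h6 : k₂⁻¹ * (u₃⁻¹ * k₂ * u₃) ∈ chevG2.posUnipotent F := by
      have : k₂⁻¹ * (u₃⁻¹ * k₂ * u₃) = (k₂⁻¹ * u₃⁻¹ * k₂) * u₃ := by group
      rw [this]
      exact Subgroup.mul_mem _ h5 hu₃U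
    have h7 : k₂⁻¹ * (u₃⁻¹ * k₂ * u₃) = 1 := by
      have : k₂⁻¹ * (u₃⁻¹ * k₂ * u₃) ∈ chevG2.posUnipotent F ⊓ chevG2.diagonalSubgroup F :=
        Subgroup.mem_inf.mpr ⟨h6, h4⟩
      rw [posUnipotent_inf_diagonalSubgroup chevG2 mem_G2 F] at this
      exact Subgroup.mem_bot.mp this
    have h8 : u₃⁻¹ * k₂ * u₃ = k₂ := by
      have := congrArg (fun x => k₂ * x) h7
      simpa [mul_assoc] using this
    calc k₂ * u₃ * k₂⁻¹ = u₃ * (u₃⁻¹ * k₂ * u₃) * k₂⁻¹ := by group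
      _ = u₃ := by rw [h8, mul_inv_cancel_right]
  by_contra hcon
  push Not at hcon
  obtain ⟨χ, hχ, e⟩ := mem_diagonalSubgroup_char chevG2 mem_G2 F k₂ hk₂H
  rw [chi0_diag _ _ e] at hcon
  obtain ⟨h6, h10, h11⟩ := good_of_chi0 hτ k₂ (Subgroup.mem_inf.mpr ⟨hk₂H, hk₂F⟩) χ hχ e hcon.1 hcon.2
  exact hu₃ne (centralizer_trivial hτ k₂ χ hχ e h6 h10 h11 u₃ hu₃ hc)

/-- the stabilizer of three points has order at most two -/
theorem triple_stab_le [Finite F] (x y z : ↥(fixTau F τ) ⧸ fixB F τ) (hxy : x ≠ y) (hxz : x ≠ z)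
    (hyz : y ≠ z) :
    Nat.card ↥(MulAction.stabilizer ↥(fixTau F τ) x ⊓ MulAction.stabilizer ↥(fixTau F τ) y ⊓
      MulAction.stabilizer ↥(fixTau F τ) z) ≤ 2 := by
  classical
  obtain ⟨a, rfl⟩ := QuotientGroup.mk_surjective x
  obtain ⟨b, rfl⟩ := QuotientGroup.mk_surjective y
  obtain ⟨c, rfl⟩ := QuotientGroup.mk_surjective z
  have hab : ((a⁻¹ * b : ↥(fixTau F τ)) : GL chevG2.Idx F) ∉ chevG2.borelSubgroup F := by
    intro h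
    exact hxy (QuotientGroup.eq.mpr ((mem_fixB _).mpr h))
  have hac : ((a⁻¹ * c : ↥(fixTau F τ)) : GL chevG2.Idx F) ∉ chevG2.borelSubgroup F := by
    intro h
    exact hxz (QuotientGroup.eq.mpr ((mem_fixB _).mpr h))
  have hbc : ((a⁻¹ * b : ↥(fixTau F τ)) : GL chevG2.Idx F)⁻¹ * ((a⁻¹ * c : ↥(fixTau F τ)) : GL chevG2.Idx F) ∉
      chevG2.borelSubgroup F := by
    intro h
    apply hyz
    apply QuotientGroup.eq.mpr
    rw [mem_fixB]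
    have : ((b⁻¹ * c : ↥(fixTau F τ)) : GL chevG2.Idx F) =
        ((a⁻¹ * b : ↥(fixTau F τ)) : GL chevG2.Idx F)⁻¹ * ((a⁻¹ * c : ↥(fixTau F τ)) : GL chevG2.Idx F) := by
      push_cast; group
    rw [this]
    exact h
  obtain ⟨b₁, hb₁, key⟩ := triple_stab_aux hτ _ _ (a⁻¹ * b).2 (a⁻¹ * c).2 hab hbc
  have hS : ∀ k : ↥(MulAction.stabilizer ↥(fixTau F τ) (a : ↥(fixTau F τ) ⧸ fixB F τ) ⊓
      MulAction.stabilizer ↥(fixTau F τ) (b : ↥(fixTau F τ) ⧸ fixB F τ) ⊓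
      MulAction.stabilizer ↥(fixTau F τ) (c : ↥(fixTau F τ) ⧸ fixB F τ)),
      b₁⁻¹ * ((a⁻¹ * k.1 * a : ↥(fixTau F τ)) : GL chevG2.Idx F) * b₁ ∈
        chevG2.diagonalSubgroup F ⊓ fixTau F τ ∧
      (chi0 (b₁⁻¹ * ((a⁻¹ * k.1 * a : ↥(fixTau F τ)) : GL chevG2.Idx F) * b₁) = 1 ∨
        chi0 (b₁⁻¹ * ((a⁻¹ * k.1 * a : ↥(fixTau F τ)) : GL chevG2.Idx F) * b₁) = -1) := by
    rintro ⟨k, hk⟩
    obtain ⟨hk12, hk3⟩ := Subgroup.mem_inf.mp hk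
    obtain ⟨hk1, hk2⟩ := Subgroup.mem_inf.mp hk12
    rw [mem_stab_quot, mem_fixB] at hk1 hk2 hk3
    apply key _ (Subgroup.mem_inf.mpr ⟨hk1, (a⁻¹ * k * a).2⟩) _ _ hac
    · have : ((a⁻¹ * b : ↥(fixTau F τ)) : GL chevG2.Idx F)⁻¹ * ((a⁻¹ * k * a : ↥(fixTau F τ)) : GL chevG2.Idx F) *
          ((a⁻¹ * b : ↥(fixTau F τ)) : GL chevG2.Idx F) = ((b⁻¹ * k * b : ↥(fixTau F τ)) : GL chevG2.Idx F) := by
        push_cast; group
      rw [this]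
      exact hk2
    · have : ((a⁻¹ * c : ↥(fixTau F τ)) : GL chevG2.Idx F)⁻¹ * ((a⁻¹ * k * a : ↥(fixTau F τ)) : GL chevG2.Idx F) *
          ((a⁻¹ * c : ↥(fixTau F τ)) : GL chevG2.Idx F) = ((c⁻¹ * k * c : ↥(fixTau F τ)) : GL chevG2.Idx F) := by
        push_cast; group
      rw [this]
      exact hk3
  let f : ↥(MulAction.stabilizer ↥(fixTau F τ) (a : ↥(fixTau F τ) ⧸ fixB F τ) ⊓
      MulAction.stabilizer ↥(fixTau F τ) (b : ↥(fixTau F τ) ⧸ fixB F τ) ⊓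
      MulAction.stabilizer ↥(fixTau F τ) (c : ↥(fixTau F τ) ⧸ fixB F τ)) → ↥({1, -1} : Finset F) := fun k =>
    ⟨chi0 (b₁⁻¹ * ((a⁻¹ * k.1 * a : ↥(fixTau F τ)) : GL chevG2.Idx F) * b₁), by
      rw [Finset.mem_insert, Finset.mem_singleton]
      exact (hS k).2⟩
  have hf : Function.Injective f := by
    intro k k' e
    have e' : chi0 (b₁⁻¹ * ((a⁻¹ * k.1 * a : ↥(fixTau F τ)) : GL chevG2.Idx F) * b₁) =
        chi0 (b₁⁻¹ * ((a⁻¹ * k'.1 * a : ↥(fixTau F τ)) : GL chevG2.Idx F) * b₁) := congrArg Subtype.val e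
    have h1 := chi0U_injective hτ (a₁ := ⟨_, (hS k).1⟩) (a₂ := ⟨_, (hS k').1⟩) (Units.ext e')
    have h2 : b₁⁻¹ * ((a⁻¹ * k.1 * a : ↥(fixTau F τ)) : GL chevG2.Idx F) * b₁ =
        b₁⁻¹ * ((a⁻¹ * k'.1 * a : ↥(fixTau F τ)) : GL chevG2.Idx F) * b₁ := congrArg Subtype.val h1
    have h3 : (a⁻¹ * k.1 * a : ↥(fixTau F τ)) = a⁻¹ * k'.1 * a := by
      apply Subtype.ext
      exact mul_left_cancel (mul_right_cancel h2)
    apply Subtype.ext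
    exact mul_left_cancel (mul_right_cancel h3)
  have h1 := Nat.card_le_card_of_injective f hf
  have h2 : Nat.card ↥({1, -1} : Finset F) = ({1, -1} : Finset F).card := by
    rw [Nat.card_eq_fintype_card, Fintype.card_coe]
  rw [h2] at h1
  exact le_trans h1 Finset.card_le_two

end

end Cfsg.Agent.Lib.Helper7
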