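import Cfsg.Agent.Lib.Helper7.G2Tw20
import Cfsg.Agent.Lib.Helper7.G2Tw14

/-! Subgroups of the Ree group containing the torus and a generic element of `U¹` contain `U¹`
(helper7). -/

set_option autoImplicit false

namespace Cfsg.Agent.Lib.Helper7

open Cfsg Cfsg.Lie Matrix

section
variable {F : Type*} [Field F]
variable {τ : ↥(chevG2.group F) ≃* ↥(chevG2.group F)} {θ : ℕ} (hτ : TauData F τ θ)
include hτ

theorem pow_nine (y : F) : y ^ (9 * θ * θ) = y ^ 3 := by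
  have : 9 * θ * θ = (3 * θ * θ) * 3 := by ring
  rw [this, pow_mul, hτ.pow]

/-- characters of a fixed diagonal element in terms of the character at the long simple root -/
theorem torus_chars (h : GL chevG2.Idx F) (hfix : h ∈ chevG2.diagonalSubgroup F ⊓ fixTau F τ)
    (χ : ℕ → F) (hχ : ChainChar chevG2 F χ) (e : (h : Matrix chevG2.Idx chevG2.Idx F) = diagChar chevG2 F χ) :
    χ 10 = χ 6 ^ (3 * θ + 1) ∧ χ 11 = χ 6 ^ (3 * θ + 2) ∧ χ 0 = (χ 11)⁻¹ := by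
  have n11 : χ 0 = (χ 11)⁻¹ := hχ.negC 11 (by decide) (by decide)
  have a10 : χ 10 = χ 6 * χ 7 ^ 3 :=
    hχ.addC 7 (by decide) 6 (by decide) ((10:ℕ),(3:ℕ),(1:ℤ)) (by decide) (by decide)
  have a11 : χ 11 = χ 10 * χ 6 ^ 1 :=
    hχ.addC 6 (by decide) 10 (by decide) ((11:ℕ),(1:ℕ),(1:ℤ)) (by decide) (by decide)
  have f6 : χ 7 = χ 6 ^ eG2 θ 6 := char_fix hτ h hfix χ hχ e 6 (by decide)
  have e6 : eG2 θ 6 = θ := by
    unfold eG2
    rw [show lam_G2 6 = 1 by decide, mul_one]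
  rw [e6] at f6
  have h10 : χ 10 = χ 6 ^ (3 * θ + 1) := by
    rw [a10, f6, ← pow_mul, pow_succ, mul_comm θ 3, mul_comm]
  refine ⟨h10, ?_, n11⟩
  rw [a11, h10, pow_one, ← pow_succ]

/-- a fixed diagonal element acting trivially on the long simple root subgroup is trivial -/
theorem chi6_eq_one (h : GL chevG2.Idx F) (hfix : h ∈ chevG2.diagonalSubgroup F ⊓ fixTau F τ)
    (χ : ℕ → F) (hχ : ChainChar chevG2 F χ) (e : (h : Matrix chevG2.Idx chevG2.Idx F) = diagChar chevG2 F χ)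
    (h6 : χ 6 = 1) : h = 1 := by
  obtain ⟨-, h11, n11⟩ := torus_chars hτ h hfix χ hχ e
  apply fixH_eq_one hτ h hfix
  rw [chi0_diag _ _ e, n11, h11, h6, one_pow, inv_one]

theorem root_unity_trivial (r : F) (h : r ^ (3 * θ + 2) = 1) : r = 1 := by
  have h1 : r ^ (3 * θ) * r ^ 2 = 1 := by rw [← pow_add]; exact h
  have h2 : r ^ 3 * (r ^ (3 * θ)) ^ 2 = 1 := by
    have := congrArg (fun x => x ^ (3 * θ)) h1
    simp only [one_pow, mul_pow] at this
    rw [← pow_mul, show 3 * θ * (3 * θ) = 9 * θ * θ by ring, pow_nine hτ, ← pow_mul, mul_comm 2,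
      pow_mul] at this
    exact this
  calc r = r * (r ^ 3 * (r ^ (3 * θ)) ^ 2) := by rw [h2, mul_one]
    _ = (r ^ (3 * θ) * r ^ 2) ^ 2 := by ring
    _ = 1 := by rw [h1, one_pow]

theorem sq_param (w : F) (hw : w ≠ 0) : (w ^ (3 * θ - 1)) ^ (3 * θ + 1) = w ^ 2 := by
  obtain ⟨k, hk⟩ : ∃ k, 3 * θ = k + 1 := ⟨3 * θ - 1, by have := theta_pos hτ; omega⟩
  have e1 : 3 * θ - 1 = k := by omega
  rw [e1, hk, ← pow_mul]
  have e2 : w ^ (k * (k + 1 + 1)) * w = w ^ 2 * w := by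
    rw [← pow_succ, ← pow_succ, show k * (k + 1 + 1) + 1 = (k + 1) * (k + 1) by ring, ← hk,
      show 3 * θ * (3 * θ) = 9 * θ * θ by ring, pow_nine hτ]
  exact mul_right_cancel₀ hw e2

variable (hsq : ∀ x : F, x ≠ 0 → ∃ w : F, x = w ^ 2 ∨ x = -(w ^ 2))
include hsq

/-- the torus acts on the long simple root subgroup through all of `Fˣ` -/
theorem exists_torus_chi6 (c : F) (hc : c ≠ 0) :
    ∃ h ∈ chevG2.diagonalSubgroup F ⊓ fixTau F τ, ∃ χ : ℕ → F, ChainChar chevG2 F χ ∧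
      (h : Matrix chevG2.Idx chevG2.Idx F) = diagChar chevG2 F χ ∧ χ 6 = c := by
  have hc2 : c ^ (3 * θ + 2) ≠ 0 := pow_ne_zero _ hc
  obtain ⟨h, hh, e0⟩ := exists_H_chi0 hτ hsq (c ^ (3 * θ + 2))⁻¹ (inv_ne_zero hc2)
  have hfix : h ∈ chevG2.diagonalSubgroup F ⊓ fixTau F τ :=
    Subgroup.mem_inf.mpr ⟨(Subgroup.mem_inf.mp hh).1, twistedG2_le_fixTau hτ (Subgroup.mem_inf.mp hh).2⟩
  obtain ⟨χ, hχ, e⟩ := mem_diagonalSubgroup_char chevG2 mem_G2 F h (Subgroup.mem_inf.mp hfix).1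
  refine ⟨h, hfix, χ, hχ, e, ?_⟩
  obtain ⟨-, h11, n11⟩ := torus_chars hτ h hfix χ hχ e
  rw [chi0_diag _ _ e, n11, h11] at e0
  have e1 : χ 6 ^ (3 * θ + 2) = c ^ (3 * θ + 2) := inv_injective e0
  have hr1 : (χ 6 / c) ^ (3 * θ + 2) = 1 := by rw [div_pow, e1, div_self hc2]
  have := root_unity_trivial hτ _ hr1
  exact (div_eq_one_iff_eq hc).mp this

/-- the torus acts on the highest root subgroup through all of `Fˣ` -/
theorem exists_torus_chi11 (c : F) (hc : c ≠ 0) :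
    ∃ h ∈ chevG2.diagonalSubgroup F ⊓ fixTau F τ, ∃ χ : ℕ → F, ChainChar chevG2 F χ ∧
      (h : Matrix chevG2.Idx chevG2.Idx F) = diagChar chevG2 F χ ∧ χ 11 = c := by
  obtain ⟨h, hh, e0⟩ := exists_H_chi0 hτ hsq c⁻¹ (inv_ne_zero hc)
  have hfix : h ∈ chevG2.diagonalSubgroup F ⊓ fixTau F τ :=
    Subgroup.mem_inf.mpr ⟨(Subgroup.mem_inf.mp hh).1, twistedG2_le_fixTau hτ (Subgroup.mem_inf.mp hh).2⟩
  obtain ⟨χ, hχ, e⟩ := mem_diagonalSubgroup_char chevG2 mem_G2 F h (Subgroup.mem_inf.mp hfix).1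
  refine ⟨h, hfix, χ, hχ, e, ?_⟩
  obtain ⟨-, -, n11⟩ := torus_chars hτ h hfix χ hχ e
  rw [chi0_diag _ _ e, n11] at e0
  exact inv_injective e0

variable (M : Subgroup (GL chevG2.Idx F)) (hTM : chevG2.diagonalSubgroup F ⊓ fixTau F τ ≤ M)
include hTM

omit hsq in
theorem conj_mem_of_torus (h : GL chevG2.Idx F) (hh : h ∈ chevG2.diagonalSubgroup F ⊓ fixTau F τ)
    (χ : ℕ → F) (hχ : ChainChar chevG2 F χ)
    (e : (h : Matrix chevG2.Idx chevG2.Idx F) = diagChar chevG2 F χ) (t u v : F)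
    (hx : reeU θ t u v ∈ M) : reeU θ (χ 6 * t) (χ 10 * u) (χ 11 * v) ∈ M := by
  rw [← reeU_conj hτ h hh χ hχ e]
  exact M.mul_mem (M.mul_mem (hTM hh) hx) (M.inv_mem (hTM hh))

/-- level 3: the centre of `U¹` -/
theorem level_three (w₀ : F) (hw₀ : w₀ ≠ 0) (h0 : reeU θ 0 0 w₀ ∈ M) (v : F) : reeU θ 0 0 v ∈ M := by
  by_cases hv : v = 0
  · rw [hv, reeU_000 hτ]
    exact M.one_mem
  · obtain ⟨h, hh, χ, hχ, e, h11⟩ := exists_torus_chi11 hτ hsq (v / w₀) (div_ne_zero hv hw₀)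
    have := conj_mem_of_torus hτ M hTM h hh χ hχ e 0 0 w₀ h0
    rw [mul_zero, mul_zero, h11, div_mul_cancel₀ v hw₀] at this
    exact this

/-- level 2: the derived subgroup of `U¹` -/
theorem level_two (h3 : ∀ v : F, reeU θ 0 0 v ∈ M) (d₀ w : F) (hd₀ : d₀ ≠ 0) (h0 : reeU θ 0 d₀ w ∈ M)
    (u v : F) : reeU θ 0 u v ∈ M := by
  have hθ : θ ≠ 0 := (theta_pos hτ).ne'
  have key : ∀ u : F, ∃ v' : F, reeU θ 0 u v' ∈ M := by
    intro u
    by_cases hu : u = 0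
    · exact ⟨0, by rw [hu]; exact h3 0⟩
    · obtain ⟨s, hs | hs⟩ := hsq (u / d₀) (div_ne_zero hu hd₀)
      · have hs0 : s ≠ 0 := by
          rintro rfl
          rw [zero_pow (by norm_num)] at hs
          exact div_ne_zero hu hd₀ hs
        obtain ⟨h, hh, χ, hχ, e, h6⟩ := exists_torus_chi6 hτ hsq (s ^ (3 * θ - 1)) (pow_ne_zero _ hs0)
        obtain ⟨h10, -, -⟩ := torus_chars hτ h hh χ hχ e
        have := conj_mem_of_torus hτ M hTM h hh χ hχ e 0 d₀ w h0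
        rw [mul_zero, h10, h6, sq_param hτ s hs0, ← hs, div_mul_cancel₀ u hd₀] at this
        exact ⟨_, this⟩
      · have hs0 : s ≠ 0 := by
          rintro rfl
          rw [zero_pow (by norm_num), neg_zero] at hs
          exact div_ne_zero hu hd₀ hs
        obtain ⟨h, hh, χ, hχ, e, h6⟩ := exists_torus_chi6 hτ hsq (s ^ (3 * θ - 1)) (pow_ne_zero _ hs0)
        obtain ⟨h10, -, -⟩ := torus_chars hτ h hh χ hχ e
        have h1 := conj_mem_of_torus hτ M hTM h hh χ hχ e 0 d₀ w h0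
        rw [mul_zero, h10, h6, sq_param hτ s hs0] at h1
        have h2 := M.inv_mem h1
        have e2 : (reeU θ 0 (s ^ 2 * d₀) (χ 11 * w))⁻¹ = reeU θ 0 u (-(χ 11 * w)) := by
          apply inv_eq_of_mul_eq_one_right
          rw [reeU_mul hτ, ← reeU_000 hτ]
          have hu' : u = -(s ^ 2) * d₀ := by rw [← hs, div_mul_cancel₀ u hd₀]
          congr 1
          · ring
          · rw [hu', zero_pow hθ]; ring
          · rw [zero_pow hθ]; ring
        rw [e2] at h2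
        exact ⟨_, h2⟩
  obtain ⟨v', hv'⟩ := key u
  have e : reeU θ 0 u v = reeU θ 0 u v' * reeU θ 0 0 (v - v') := by
    rw [reeU_mul hτ]
    congr 1
    · ring
    · rw [zero_pow hθ]; ring
    · rw [zero_pow hθ]; ring
  rw [e]
  exact M.mul_mem hv' (h3 _)

end

end Cfsg.Agent.Lib.Helper7
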