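import Cfsg.Agent.Lib.Helper7.G2Tw8
import Cfsg.Agent.Lib.Helper7.G2Tw12

/-! The Ree groups `²G₂(3^(2m+1))`, `m ≥ 1`, are perfect and simple (helper7). -/

set_option autoImplicit false

namespace Cfsg.Agent.Lib.Helper7

open Cfsg Cfsg.Lie Matrix

section
variable {K : Type*} [Field K] [Fintype K] {m : ℕ} (hK : Fintype.card K = 3 ^ (2 * m + 1))
include hK

theorem exists_ne_of_card (hm : 1 ≤ m) : ∃ x : K, x ≠ 0 ∧ x ≠ 1 ∧ x ≠ -1 := by
  classical
  by_contra hcon
  push Not at hcon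
  have hsub : (Finset.univ : Finset K) ⊆ {0, 1, -1} := by
    intro x _
    simp only [Finset.mem_insert, Finset.mem_singleton]
    by_cases h0 : x = 0
    · exact Or.inl h0
    · by_cases h1 : x = 1
      · exact Or.inr (Or.inl h1)
      · exact Or.inr (Or.inr (hcon x h0 h1))
  have h1 : Fintype.card K ≤ 3 := by
    rw [← Finset.card_univ]
    exact le_trans (Finset.card_le_card hsub) Finset.card_le_three
  have h2 : 3 ^ 3 ≤ 3 ^ (2 * m + 1) := Nat.pow_le_pow_right (by norm_num) (by omega)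
  rw [hK] at h1
  omega

theorem ree_perfect (hm : 1 ≤ m) : commutator ↥(twistedG2 K (3 ^ m)) = ⊤ := by
  obtain ⟨τ, hτ⟩ := exists_tauData hK
  have hsq := sq_dichotomy_of_card hK
  rw [twistedG2_eq_fixTau hτ hsq]
  exact fixTau_perfect hτ hsq (exists_ne_of_card hK hm)

theorem ree_simple (hm : 1 ≤ m) :
    IsSimpleGroup ↥(twistedG2 K (3 ^ m)) ∧ ¬ IsMulCommutative ↥(twistedG2 K (3 ^ m)) := by
  obtain ⟨τ, hτ⟩ := exists_tauData hK
  have hsq := sq_dichotomy_of_card hK
  rw [twistedG2_eq_fixTau hτ hsq]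
  exact fixTau_simple hτ hsq (exists_ne_of_card hK hm)

end

end Cfsg.Agent.Lib.Helper7
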