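import Mathlib
import Cfsg.Agent.Lib.Helper13.KleinSelfCentralizing

/-! Subgroups of order 8 and exponent 2 of `Z₂ × P` where `|P| = 4 r` with `r` odd: they are `Z₂ × V` for a
Klein four-subgroup `V` of `P`; centralizer, normalizer, conjugacy of the involutions of `V` (helper7). -/

set_option autoImplicit false

namespace Cfsg.Agent.Lib.Helper7.ReeSyl

open Cfsg.Agent.Lib.Helper13

local notation "Z2" => Multiplicative (ZMod 2)

theorem card_Z2 : Nat.card Z2 = 2 := by
  rw [Nat.card_eq_fintype_card, Fintype.card_multiplicative, ZMod.card]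

section prod
variable {P : Type*} [Group P]

/-- a subgroup of order 8 and exponent 2 of `Z₂ × P`, `|P| = 4 r` with `r` odd, is `Z₂ × V` for a Klein
four-subgroup `V` of `P` -/
theorem exists_klein_of_card_eight [Finite P] (r : ℕ) (hr : Odd r) (hP : Nat.card P = 4 * r)
    (T : Subgroup (Z2 × P)) (hT : Nat.card T = 8) (hexp : ∀ t ∈ T, t * t = 1) :
    ∃ V : Subgroup P, IsKleinFour V ∧ ∀ y : Z2 × P, y ∈ T ↔ y.2 ∈ V := by
  classical
  have : Fact (Nat.Prime 2) := ⟨Nat.prime_two⟩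
  obtain ⟨V, hV⟩ : ∃ V : Subgroup P, V = T.map (MonoidHom.snd Z2 P) := ⟨_, rfl⟩
  have hmemV : ∀ t ∈ T, t.2 ∈ V := by
    intro t ht
    rw [hV]
    exact ⟨t, ht, rfl⟩
  have hVexp : ∀ v ∈ V, v * v = 1 := by
    intro v hv
    rw [hV] at hv
    obtain ⟨t, ht, rfl⟩ := hv
    exact congrArg Prod.snd (hexp t ht)
  have hVp : IsPGroup 2 V := by
    intro v
    refine ⟨1, Subtype.ext ?_⟩
    rw [pow_one, Subgroup.coe_pow, pow_two]
    exact hVexp v v.2
  obtain ⟨k, hk⟩ := IsPGroup.iff_card.mp hVp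
  have hdvd : Nat.card V ∣ 4 * r := hP ▸ Subgroup.card_subgroup_dvd_card V
  have hcop : Nat.Coprime (2 ^ k) r := Nat.Coprime.pow_left k (Nat.coprime_two_left.mpr hr)
  have hdvd4 : 2 ^ k ∣ 4 := by
    rw [hk] at hdvd
    exact hcop.dvd_of_dvd_mul_right hdvd
  let f : T → Z2 × V := fun t => ((t : Z2 × P).1, ⟨(t : Z2 × P).2, hmemV t t.2⟩)
  have hf : Function.Injective f := by
    intro t t' h
    have h1 := congrArg Prod.fst h
    have h2 := congrArg (fun x : Z2 × V => (x.2 : P)) h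
    exact Subtype.ext (Prod.ext h1 h2)
  have hle : Nat.card T ≤ Nat.card (Z2 × V) := Nat.card_le_card_of_injective f hf
  rw [Nat.card_prod, card_Z2, hT, hk] at hle
  have hk4 : 2 ^ k = 4 := by
    have := Nat.le_of_dvd (by norm_num) hdvd4
    omega
  have hV4 : Nat.card V = 4 := by rw [hk, hk4]
  have hbij : Function.Bijective f := by
    rw [Nat.bijective_iff_injective_and_card]
    refine ⟨hf, ?_⟩
    rw [Nat.card_prod, card_Z2, hT, hV4]
  refine ⟨V, ⟨hV4, ?_⟩, ?_⟩
  · have h1 : Monoid.exponent V ∣ 2 := Monoid.exponent_dvd_of_forall_pow_eq_one (fun v => Subtype.ext (by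
      rw [Subgroup.coe_pow, pow_two]; exact hVexp v v.2))
    rcases (Nat.dvd_prime Nat.prime_two).mp h1 with h | h
    · exfalso
      rw [Monoid.exp_eq_one_iff] at h
      have : Nat.card V ≤ 1 := Finite.card_le_one_iff_subsingleton.mpr h
      omega
    · exact h
  · intro y
    constructor
    · intro hy
      exact hmemV y hy
    · intro hy
      obtain ⟨t, ht⟩ := hbij.2 (y.1, ⟨y.2, hy⟩)
      have h1 := congrArg Prod.fst ht
      have h2 := congrArg (fun x : Z2 × V => (x.2 : P)) ht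
      have : (t : Z2 × P) = y := Prod.ext h1 h2
      rw [← this]
      exact t.2

/-- the centralizer of `Z₂ × V` for a self-centralizing `V` -/
theorem mem_of_centralizes_prod (V : Subgroup P) (hVC : Subgroup.centralizer (V : Set P) = V)
    (T : Subgroup (Z2 × P)) (hTV : ∀ y : Z2 × P, y ∈ T ↔ y.2 ∈ V) (y : Z2 × P)
    (hy : ∀ t ∈ T, t * y = y * t) : y ∈ T := by
  rw [hTV, ← hVC, Subgroup.mem_centralizer_iff]
  intro v hv
  have h1 : ((1 : Z2), v) ∈ T := (hTV _).mpr hv
  exact congrArg Prod.snd (hy _ h1)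

/-- the normalizer of `Z₂ × V` -/
theorem mem_normalizer_prod (V : Subgroup P) (T : Subgroup (Z2 × P))
    (hTV : ∀ y : Z2 × P, y ∈ T ↔ y.2 ∈ V) (y : Z2 × P) :
    y ∈ Subgroup.normalizer (T : Set (Z2 × P)) ↔ y.2 ∈ Subgroup.normalizer (V : Set P) := by
  rw [Subgroup.mem_normalizer_iff, Subgroup.mem_normalizer_iff]
  constructor
  · intro h p
    have := h ((1 : Z2), p)
    rw [hTV, hTV] at this
    exact this
  · intro h t
    rw [hTV, hTV]
    exact h t.2

theorem card_normalizer_prod [Finite P] (V : Subgroup P) (T : Subgroup (Z2 × P))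
    (hTV : ∀ y : Z2 × P, y ∈ T ↔ y.2 ∈ V) (n : ℕ)
    (hN : Nat.card (Subgroup.normalizer (V : Set P)) = n) :
    Nat.card (Subgroup.normalizer (T : Set (Z2 × P))) = 2 * n := by
  have e : ↥(Subgroup.normalizer (T : Set (Z2 × P))) ≃ Z2 × ↥(Subgroup.normalizer (V : Set P)) :=
    { toFun := fun y => (y.1.1, ⟨y.1.2, (mem_normalizer_prod V T hTV y.1).mp y.2⟩)
      invFun := fun p => ⟨(p.1, p.2.1), (mem_normalizer_prod V T hTV _).mpr p.2.2⟩
      left_inv := fun y => rfl
      right_inv := fun p => rfl }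
  rw [Nat.card_congr e, Nat.card_prod, card_Z2, hN]

/-- the involutions of a self-centralizing Klein four-group whose normalizer has order divisible by 3 are
conjugate under the normalizer -/
theorem klein_conj [Finite P] (V : Subgroup P) (hV : IsKleinFour V)
    (hVC : Subgroup.centralizer (V : Set P) = V)
    (hN : 3 ∣ Nat.card (Subgroup.normalizer (V : Set P)))
    (v v' : P) (hv : v ∈ V) (hv1 : v ≠ 1) (hv' : v' ∈ V) (hv'1 : v' ≠ 1) :
    ∃ c ∈ Subgroup.normalizer (V : Set P), c * v * c⁻¹ = v' := by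
  classical
  have : Fact (Nat.Prime 3) := ⟨Nat.prime_three⟩
  obtain ⟨c0, hc0⟩ := exists_prime_orderOf_dvd_card' 3 hN
  obtain ⟨c, hc⟩ : ∃ c : P, c = c0.1 := ⟨_, rfl⟩
  have hcN : c ∈ Subgroup.normalizer (V : Set P) := by rw [hc]; exact c0.2
  have hoc : orderOf c = 3 := by rw [hc, Subgroup.orderOf_coe, hc0]
  have hc3 : c * c * c = 1 := by
    have := pow_orderOf_eq_one c
    rw [hoc, pow_succ, pow_succ, pow_one] at this
    exact this
  have hc2 : c * c ≠ 1 := by
    intro h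
    have := orderOf_dvd_of_pow_eq_one (show c ^ 2 = 1 by rw [pow_two]; exact h)
    rw [hoc] at this
    omega
  have key := klein_no_fixed_point V hV hVC c hcN hc3 hc2
  obtain ⟨v₁, hv₁⟩ : ∃ v₁, v₁ = c * v * c⁻¹ := ⟨_, rfl⟩
  obtain ⟨v₂, hv₂⟩ : ∃ v₂, v₂ = c * v₁ * c⁻¹ := ⟨_, rfl⟩
  have hv₁V : v₁ ∈ V := by rw [hv₁]; exact conj_mem_of_mem_normalizer V c v hcN hv
  have hv₂V : v₂ ∈ V := by rw [hv₂]; exact conj_mem_of_mem_normalizer V c v₁ hcN hv₁V
  have hv₁1 : v₁ ≠ 1 := by
    intro h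
    apply hv1
    have e : v = c⁻¹ * v₁ * c := by rw [hv₁]; group
    rw [e, h]; group
  have h01 : v₁ ≠ v := by rw [hv₁]; exact key v hv hv1
  have h12 : v₂ ≠ v₁ := by rw [hv₂]; exact key v₁ hv₁V hv₁1
  have h20 : v₂ ≠ v := by
    intro h
    apply h01
    have e : c * v₂ * c⁻¹ = v := by
      rw [hv₂, hv₁]
      have : c * (c * (c * v * c⁻¹) * c⁻¹) * c⁻¹ = (c * c * c) * v * (c * c * c)⁻¹ := by group
      rw [this, hc3]; group
    rw [h] at e
    rw [hv₁]
    exact e
  obtain ⟨w, hw, hw1, hwv, hall⟩ := klein_enumerate V hV v hv hv1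
  have e2 : (c * c) * v * (c * c)⁻¹ = v₂ := by rw [hv₂, hv₁]; group
  rcases hall v' hv' with h | h | h | h
  · exact absurd h hv'1
  · exact ⟨1, Subgroup.one_mem _, by rw [h]; group⟩
  · rcases hall v₁ hv₁V with h1 | h1 | h1 | h1
    · exact absurd h1 hv₁1
    · exact absurd h1 h01
    · exact ⟨c, hcN, by rw [h, ← h1, hv₁]⟩
    · rcases hall v₂ hv₂V with h2 | h2 | h2 | h2
      · exfalso
        apply hv₁1
        have e : v₁ = c⁻¹ * v₂ * c := by rw [hv₂]; group
        rw [e, h2]; group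
      · exact absurd h2 h20
      · exact ⟨c * c, Subgroup.mul_mem _ hcN hcN, by rw [h, ← h2]; exact e2⟩
      · exact absurd (h2.trans h1.symm) h12
  · rcases hall v₁ hv₁V with h1 | h1 | h1 | h1
    · exact absurd h1 hv₁1
    · exact absurd h1 h01
    · rcases hall v₂ hv₂V with h2 | h2 | h2 | h2
      · exfalso
        apply hv₁1
        have e : v₁ = c⁻¹ * v₂ * c := by rw [hv₂]; group
        rw [e, h2]; group
      · exact absurd h2 h20
      · exact absurd (h2.trans h1.symm) h12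
      · exact ⟨c * c, Subgroup.mul_mem _ hcN hcN, by rw [h, ← h2]; exact e2⟩
    · exact ⟨c, hcN, by rw [h, ← h1, hv₁]⟩

end prod

end Cfsg.Agent.Lib.Helper7.ReeSyl
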