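import Mathlib
import Cfsg.Agent.Lib.Helper7.ReeSyl1
import Cfsg.Agent.Lib.Helper11.Extremal
import Cfsg.Agent.Lib.Helper17.WeaklyClosed

/-! A finite group `G = O²(G)` with elementary abelian Sylow 2-subgroups of order 8 and an involution whose
centralizer is `Z₂ × P`, where `|P| = 4 r` with `r` odd and the Klein four-subgroups of `P` are
self-centralizing with normalizer of order 12: a Sylow 2-subgroup `S` has `C(S) = S`, `|N(S)| = 168`
(helper7). -/

set_option autoImplicit false

namespace Cfsg.Agent.Lib.Helper7.ReeSyl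

open Cfsg.Agent.Lib.Helper13

local notation "Z2" => Multiplicative (ZMod 2)

theorem card_eq_mul_of_fibers3 {A B : Type*} [Finite A] [Finite B] (φ : A → B) (n : ℕ)
    (h : ∀ b, Nat.card {a // φ a = b} = n) : Nat.card A = n * Nat.card B := by
  classical
  have : Fintype B := Fintype.ofFinite B
  rw [← Nat.card_congr (Equiv.sigmaFiberEquiv φ), Nat.card_sigma,
    Finset.sum_congr rfl (fun b _ => h b), Finset.sum_const, Finset.card_univ, smul_eq_mul,
    Nat.card_eq_fintype_card, mul_comm]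

section main
variable {G : Type*} [Group G] [Finite G] {P : Type*} [Group P] [Finite P]

theorem sylow_of_mem (r : ℕ) (hr : Odd r) (hP : Nat.card P = 4 * r)
    (hKC : ∀ V : Subgroup P, IsKleinFour V → Subgroup.centralizer (V : Set P) = V)
    (hKN : ∀ V : Subgroup P, IsKleinFour V → Nat.card (Subgroup.normalizer (V : Set P)) = 12)
    (hres : Cfsg.pResidual 2 G = ⊤)
    (hsyl : ∀ S : Sylow 2 G, Nat.card S = 8 ∧ ∀ x ∈ S, x * x = 1)
    (a : G) (ha1 : a ≠ 1)
    (e : ↥(Subgroup.centralizer ({a} : Set G)) ≃* Z2 × P)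
    (S : Sylow 2 G) (haS : a ∈ S) :
    Subgroup.centralizer ((S : Subgroup G) : Set G) = S ∧
      Nat.card (Subgroup.normalizer ((S : Subgroup G) : Set G)) = 168 := by
  classical
  obtain ⟨hS8, hSexp⟩ := hsyl S
  have hSab : ∀ x ∈ S, ∀ y ∈ S, x * y = y * x := by
    intro x hx y hy
    have h1 := hSexp x hx
    have h2 := hSexp y hy
    have h3 := hSexp (x * y) (Subgroup.mul_mem _ hx hy)
    have hxi : x⁻¹ = x := inv_eq_of_mul_eq_one_left h1
    have hyi : y⁻¹ = y := inv_eq_of_mul_eq_one_left h2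
    have hxyi : (x * y)⁻¹ = x * y := inv_eq_of_mul_eq_one_left h3
    calc x * y = (x * y)⁻¹ := hxyi.symm
      _ = y⁻¹ * x⁻¹ := mul_inv_rev x y
      _ = y * x := by rw [hxi, hyi]
  have hSC : ∀ s ∈ S, s ∈ Subgroup.centralizer ({a} : Set G) := by
    intro s hs
    rw [Subgroup.mem_centralizer_singleton_iff]
    exact hSab s hs a haS
  have hSC' : (S : Subgroup G) ≤ Subgroup.centralizer ({a} : Set G) := hSC
  obtain ⟨T, hTdef⟩ : ∃ T : Subgroup (Z2 × P),
      T = ((S : Subgroup G).subgroupOf (Subgroup.centralizer ({a} : Set G))).map e.toMonoidHom := ⟨_, rfl⟩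
  have hmemT : ∀ c : ↥(Subgroup.centralizer ({a} : Set G)), e c ∈ T ↔ (c : G) ∈ S := by
    intro c
    rw [hTdef]
    constructor
    · rintro ⟨c', hc', h⟩
      have : c' = c := e.injective h
      rw [← this]
      exact Subgroup.mem_subgroupOf.mp hc'
    · intro h
      exact ⟨c, Subgroup.mem_subgroupOf.mpr h, rfl⟩
  have hT8 : Nat.card T = 8 := by
    rw [hTdef, ← hS8, Subgroup.card_map_of_injective (show Function.Injective e.toMonoidHom from e.injective)]
    exact Nat.card_congr (Subgroup.subgroupOfEquivOfLe hSC').toEquiv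
  have hTexp : ∀ t ∈ T, t * t = 1 := by
    intro t ht
    obtain ⟨c, rfl⟩ := e.surjective t
    have hcS := (hmemT c).mp ht
    have : c * c = 1 := Subtype.ext (hSexp c hcS)
    rw [← map_mul, this, map_one]
  obtain ⟨V, hV, hTV⟩ := exists_klein_of_card_eight r hr hP T hT8 hTexp
  have hVC := hKC V hV
  have hVN := hKN V hV
  have hT24 : Nat.card (Subgroup.normalizer (T : Set (Z2 × P))) = 24 := by
    rw [card_normalizer_prod V T hTV 12 hVN]
  -- the centralizer
  have hcent : Subgroup.centralizer ((S : Subgroup G) : Set G) = S := by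
    apply le_antisymm
    · intro x hx
      rw [Subgroup.mem_centralizer_iff] at hx
      have hxC : x ∈ Subgroup.centralizer ({a} : Set G) := by
        rw [Subgroup.mem_centralizer_singleton_iff]
        exact (hx a haS).symm
      have hmem : e ⟨x, hxC⟩ ∈ T := by
        apply mem_of_centralizes_prod V hVC T hTV
        intro t ht
        obtain ⟨c, rfl⟩ := e.surjective t
        have hcS := (hmemT c).mp ht
        have : c * ⟨x, hxC⟩ = ⟨x, hxC⟩ * c := Subtype.ext (hx c hcS)
        rw [← map_mul, ← map_mul, this]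
      exact (hmemT ⟨x, hxC⟩).mp hmem
    · intro s hs
      rw [Subgroup.mem_centralizer_iff]
      intro h hh
      exact hSab h hh s hs
  refine ⟨hcent, ?_⟩
  -- normalizer elements in the centralizer of `a`
  have hnorm : ∀ c : ↥(Subgroup.centralizer ({a} : Set G)),
      (c : G) ∈ Subgroup.normalizer ((S : Subgroup G) : Set G) ↔
        e c ∈ Subgroup.normalizer (T : Set (Z2 × P)) := by
    intro c
    rw [Subgroup.mem_normalizer_iff, Subgroup.mem_normalizer_iff]
    constructor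
    · intro h t
      obtain ⟨d, rfl⟩ := e.surjective t
      rw [← map_inv, ← map_mul, ← map_mul, hmemT, hmemT]
      exact h d
    · intro h g
      constructor
      · intro hg
        have hgC := hSC g hg
        have := (h (e ⟨g, hgC⟩)).mp ((hmemT _).mpr hg)
        rw [← map_inv, ← map_mul, ← map_mul, hmemT] at this
        exact this
      · intro hg
        have h1 := hSC _ hg
        have hgC : g ∈ Subgroup.centralizer ({a} : Set G) := by
          have : g = (c : G)⁻¹ * ((c : G) * g * (c : G)⁻¹) * (c : G) := by group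
          rw [this]
          exact Subgroup.mul_mem _ (Subgroup.mul_mem _ (Subgroup.inv_mem _ c.2) h1) c.2
        have := (h (e ⟨g, hgC⟩)).mpr (by
          rw [← map_inv, ← map_mul, ← map_mul, hmemT]; exact hg)
        exact (hmemT _).mp this
  -- the hyperplane of `S`
  let ψ : ↥(S : Subgroup G) →* Z2 :=
    (MonoidHom.fst Z2 P).comp (e.toMonoidHom.comp (Subgroup.inclusion hSC'))
  have hψ : ∀ s : ↥(S : Subgroup G), ψ s = (e ⟨s.1, hSC s.1 s.2⟩).1 := fun s => rfl
  have hψsurj : Function.Surjective ψ := by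
    intro z
    have hmem : ((z, 1) : Z2 × P) ∈ T := (hTV _).mpr (Subgroup.one_mem _)
    obtain ⟨c, hc⟩ := e.surjective ((z, 1) : Z2 × P)
    have hcS : (c : G) ∈ S := (hmemT c).mp (by rw [hc]; exact hmem)
    refine ⟨⟨c, hcS⟩, ?_⟩
    rw [hψ]
    have : (⟨(c : G), hSC _ hcS⟩ : ↥(Subgroup.centralizer ({a} : Set G))) = c := Subtype.ext rfl
    rw [this, hc]
  have hMidx : ψ.ker.index = 2 := by
    rw [Subgroup.index_ker, MonoidHom.range_eq_top.mpr hψsurj, Subgroup.card_top, card_Z2]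
  have hMco : IsCoatom ψ.ker := by
    refine ⟨?_, ?_⟩
    · intro h
      rw [h, Subgroup.index_top] at hMidx
      omega
    · intro K hK
      have h1 := Subgroup.relIndex_mul_index hK.le
      rw [hMidx] at h1
      have hKi : K.index = 1 ∨ K.index = 2 :=
        (Nat.dvd_prime Nat.prime_two).mp ⟨_, h1.symm.trans (mul_comm _ _)⟩
      rcases hKi with h | h
      · exact Subgroup.index_eq_one.mp h
      · exfalso
        rw [h] at h1
        have h2 : ψ.ker.relIndex K = 1 := by omega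
        have h3 := Subgroup.relIndex_eq_one.mp h2
        exact absurd (le_antisymm h3 hK.le) (ne_of_gt hK)
  -- a fixed involution of the hyperplane
  have : Nontrivial V := Finite.one_lt_card_iff_nontrivial.mp (by rw [hV.card_four]; norm_num)
  obtain ⟨v₀', hv₀'⟩ := exists_ne (1 : V)
  obtain ⟨v₀, hv₀⟩ : ∃ v₀ : P, v₀ = v₀'.1 := ⟨_, rfl⟩
  have hv₀V : v₀ ∈ V := by rw [hv₀]; exact v₀'.2
  have hv₀1 : v₀ ≠ 1 := by
    intro h
    apply hv₀'
    apply Subtype.ext
    rw [← hv₀, h]
    rfl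
  obtain ⟨s₀, hs₀⟩ : ∃ s₀ : ↥(Subgroup.centralizer ({a} : Set G)), s₀ = e.symm ((1 : Z2), v₀) := ⟨_, rfl⟩
  have hes₀ : e s₀ = ((1 : Z2), v₀) := by rw [hs₀, MulEquiv.apply_symm_apply]
  have h3N : 3 ∣ Nat.card (Subgroup.normalizer (V : Set P)) := by rw [hVN]; norm_num
  -- involutions of the hyperplane are conjugate to `s₀`
  have hA : ∀ y (hy : y ∈ (S : Subgroup G)), y ≠ 1 → ψ ⟨y, hy⟩ = 1 → ∃ g : G, g * y * g⁻¹ = s₀ := by
    intro y hy hy1 hψy
    rw [hψ] at hψy
    obtain ⟨vy, hvy⟩ : ∃ vy : P, vy = (e ⟨y, hSC y hy⟩).2 := ⟨_, rfl⟩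
    have hey : e ⟨y, hSC y hy⟩ = ((1 : Z2), vy) := Prod.ext hψy hvy.symm
    have hvyV : vy ∈ V := by
      have := (hmemT ⟨y, hSC y hy⟩).mpr hy
      rw [hTV, hey] at this
      exact this
    have hvy1 : vy ≠ 1 := by
      intro h
      apply hy1
      rw [h] at hey
      have : (⟨y, hSC y hy⟩ : ↥(Subgroup.centralizer ({a} : Set G))) = 1 := by
        apply e.injective
        rw [hey, map_one]
        rfl
      exact congrArg Subtype.val this
    obtain ⟨c, -, hc⟩ := klein_conj V hV hVC h3N vy v₀ hvyV hvy1 hv₀V hv₀1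
    refine ⟨(e.symm ((1 : Z2), c) : ↥(Subgroup.centralizer ({a} : Set G))), ?_⟩
    have : e.symm ((1 : Z2), c) * ⟨y, hSC y hy⟩ * (e.symm ((1 : Z2), c))⁻¹ = s₀ := by
      apply e.injective
      rw [map_mul, map_mul, map_inv, MulEquiv.apply_symm_apply, hey, hes₀]
      exact Prod.ext (by simp) hc
    exact congrArg Subtype.val this
  -- all involutions of `S` are conjugate to `s₀`
  have hclass : ∀ y ∈ (S : Subgroup G), y ≠ 1 → ∃ g : G, g * y * g⁻¹ = s₀ := by
    intro y hy hy1
    by_cases hψy : ψ ⟨y, hy⟩ = 1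
    · exact hA y hy hy1 hψy
    · have : Fact (Nat.Prime 2) := ⟨Nat.prime_two⟩
      have hoy : orderOf y = 2 := orderOf_eq_prime (by rw [pow_two]; exact hSexp y hy) hy1
      obtain ⟨g, ⟨hgS, hgM⟩, -⟩ := Cfsg.Agent.Lib.Helper11.exists_extremal_conj_coatom S ψ.ker hMco
        hres y hoy hy (by rw [MonoidHom.mem_ker]; exact hψy)
      have hg1 : g * y * g⁻¹ ≠ 1 := by
        intro h
        apply hy1
        have e1 : y = g⁻¹ * (g * y * g⁻¹) * g := by group
        rw [e1, h]; group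
      obtain ⟨g', hg'⟩ := hA _ hgS hg1 (MonoidHom.mem_ker.mp hgM)
      refine ⟨g' * g, ?_⟩
      rw [← hg']
      group
  -- transitivity of the normalizer
  have hconj : ∀ t ∈ (S : Subgroup G), t ≠ 1 →
      ∃ n ∈ Subgroup.normalizer ((S : Subgroup G) : Set G), n * a * n⁻¹ = t := by
    intro t ht ht1
    have : Fact (Nat.Prime 2) := ⟨Nat.prime_two⟩
    obtain ⟨g₁, hg₁⟩ := hclass a haS ha1
    obtain ⟨g₂, hg₂⟩ := hclass t ht ht1
    have hgt : (g₂⁻¹ * g₁) * a * (g₂⁻¹ * g₁)⁻¹ = t := by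
      have e1 : (g₂⁻¹ * g₁) * a * (g₂⁻¹ * g₁)⁻¹ = g₂⁻¹ * (g₁ * a * g₁⁻¹) * g₂ := by group
      rw [e1, hg₁, ← hg₂]; group
    have hwc : ∀ h : G, (S : Subgroup G).map (MulAut.conj h).toMonoidHom ≤ (S : Subgroup G) →
        (S : Subgroup G).map (MulAut.conj h).toMonoidHom = S := by
      intro h hle
      apply Subgroup.eq_of_le_of_card_ge hle
      rw [Subgroup.card_map_of_injective (show Function.Injective (MulAut.conj h).toMonoidHom from
        (MulAut.conj h).injective)]
    obtain ⟨n, hn, hna⟩ := Cfsg.Agent.Lib.Helper17.fusion_of_weaklyClosed_abelian S (le_refl _) hSab hwc haS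
      (g₂⁻¹ * g₁) (by rw [hgt]; exact ht)
    exact ⟨n, hn, by rw [hna, hgt]⟩
  -- counting
  have hB7 : Nat.card {s : G // s ∈ (S : Subgroup G) ∧ s ≠ 1} = 7 := by
    have e1 : {s : G // s ∈ (S : Subgroup G) ∧ s ≠ 1} ≃ {x : ↥(S : Subgroup G) // ¬ (x = 1)} :=
      { toFun := fun s => ⟨⟨s.1, s.2.1⟩, fun h => s.2.2 (congrArg Subtype.val h)⟩
        invFun := fun x => ⟨x.1.1, x.1.2, fun h => x.2 (Subtype.ext h)⟩
        left_inv := fun s => rfl
        right_inv := fun x => rfl }
    rw [Nat.card_congr e1]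
    have : Fintype ↥(S : Subgroup G) := Fintype.ofFinite _
    rw [Nat.card_eq_fintype_card, Fintype.card_subtype_compl, Fintype.card_subtype_eq,
      ← Nat.card_eq_fintype_card, hS8]
  have hconj_mem : ∀ n ∈ Subgroup.normalizer ((S : Subgroup G) : Set G),
      n * a * n⁻¹ ∈ (S : Subgroup G) ∧ n * a * n⁻¹ ≠ 1 := by
    intro n hn
    refine ⟨(Subgroup.mem_normalizer_iff.mp hn a).mp haS, ?_⟩
    intro h
    apply ha1
    have e1 : a = n⁻¹ * (n * a * n⁻¹) * n := by group
    rw [e1, h]; group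
  let φ : ↥(Subgroup.normalizer ((S : Subgroup G) : Set G)) → {s : G // s ∈ (S : Subgroup G) ∧ s ≠ 1} :=
    fun n => ⟨n.1 * a * n.1⁻¹, hconj_mem n.1 n.2⟩
  have hfib : ∀ b, Nat.card {n // φ n = b} = 24 := by
    intro b
    obtain ⟨n₀, hn₀N, hn₀⟩ := hconj b.1 b.2.1 b.2.2
    rw [← hT24]
    symm
    apply Nat.card_congr
    have hmk : ∀ y : ↥(Subgroup.normalizer (T : Set (Z2 × P))),
        n₀ * ((e.symm y.1 : ↥(Subgroup.centralizer ({a} : Set G))) : G) ∈
          Subgroup.normalizer ((S : Subgroup G) : Set G) := by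
      intro y
      apply Subgroup.mul_mem _ hn₀N
      rw [hnorm, MulEquiv.apply_symm_apply]
      exact y.2
    have hcomm : ∀ c : ↥(Subgroup.centralizer ({a} : Set G)), (c : G) * a * (c : G)⁻¹ = a := by
      intro c
      have := Subgroup.mem_centralizer_singleton_iff.mp c.2
      rw [this]; group
    refine Equiv.ofBijective (fun y => ⟨⟨_, hmk y⟩, ?_⟩) ⟨?_, ?_⟩
    · apply Subtype.ext
      show n₀ * ((e.symm y.1 : ↥(Subgroup.centralizer ({a} : Set G))) : G) * a *
        (n₀ * ((e.symm y.1 : ↥(Subgroup.centralizer ({a} : Set G))) : G))⁻¹ = b.1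
      rw [← hn₀]
      have := hcomm (e.symm y.1)
      calc n₀ * ((e.symm y.1 : ↥(Subgroup.centralizer ({a} : Set G))) : G) * a *
            (n₀ * ((e.symm y.1 : ↥(Subgroup.centralizer ({a} : Set G))) : G))⁻¹
          = n₀ * (((e.symm y.1 : ↥(Subgroup.centralizer ({a} : Set G))) : G) * a *
              ((e.symm y.1 : ↥(Subgroup.centralizer ({a} : Set G))) : G)⁻¹) * n₀⁻¹ := by group
        _ = n₀ * a * n₀⁻¹ := by rw [this]
    · intro y y' h
      have h1 : n₀ * ((e.symm y.1 : ↥(Subgroup.centralizer ({a} : Set G))) : G) =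
          n₀ * ((e.symm y'.1 : ↥(Subgroup.centralizer ({a} : Set G))) : G) :=
        congrArg (fun z => ((z.1 : ↥(Subgroup.normalizer ((S : Subgroup G) : Set G))) : G)) h
      have h2 := mul_left_cancel h1
      have h3 : e.symm y.1 = e.symm y'.1 := Subtype.ext h2
      exact Subtype.ext (e.symm.injective h3)
    · rintro ⟨⟨n, hnN⟩, hn⟩
      have hn' : n * a * n⁻¹ = b.1 := congrArg Subtype.val hn
      have hcC : n₀⁻¹ * n ∈ Subgroup.centralizer ({a} : Set G) := by
        rw [Subgroup.mem_centralizer_singleton_iff]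
        have e1 : n₀⁻¹ * n * a = n₀⁻¹ * (n * a * n⁻¹) * n := by group
        rw [e1, hn', ← hn₀]; group
      have hcN : n₀⁻¹ * n ∈ Subgroup.normalizer ((S : Subgroup G) : Set G) :=
        Subgroup.mul_mem _ (Subgroup.inv_mem _ hn₀N) hnN
      refine ⟨⟨e ⟨n₀⁻¹ * n, hcC⟩, (hnorm ⟨n₀⁻¹ * n, hcC⟩).mp hcN⟩, ?_⟩
      apply Subtype.ext
      apply Subtype.ext
      show n₀ * ((e.symm (e ⟨n₀⁻¹ * n, hcC⟩) : ↥(Subgroup.centralizer ({a} : Set G))) : G) = n
      rw [MulEquiv.symm_apply_apply]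
      show n₀ * (n₀⁻¹ * n) = n
      group
  rw [card_eq_mul_of_fibers3 φ 24 hfib, hB7]

end main

end Cfsg.Agent.Lib.Helper7.ReeSyl
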