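import Mathlib
import Cfsg.Agent.Lib.Helper7.ReeSyl2
import Cfsg.Agent.Lib.Helper7.G2Tw27
import Cfsg.Agent.Lib.Helper7.G2Tw13
import Cfsg.Agent.Lib.Helper13.SL2SylowTwoNorm2
import Cfsg.Agent.Lib.Helper13.PSL2KleinNorm
import Cfsg.Agent.Lib.Helper11.TwoGroupE8
import Cfsg.Agent.Lib.Helper25.IndexTwoCount
import Cfsg.Agent.S1152

/-! The Sylow 2-subgroups of the Ree groups `²G₂(q)`, `q > 3`: `C(S) = S` and `|N(S)| = 168` (helper7). -/

set_option autoImplicit false

namespace Cfsg.Agent.Lib.Helper7.ReeSyl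

open Cfsg Cfsg.Lie Matrix Cfsg.Agent.Lib.Helper7

local notation "Z2" => Multiplicative (ZMod 2)

theorem centralizer_map_equiv {G N : Type*} [Group G] [Group N] (H : Subgroup G) (f : G ≃* N) :
    Subgroup.centralizer ((H.map f.toMonoidHom : Subgroup N) : Set N) =
      (Subgroup.centralizer (H : Set G)).map f.toMonoidHom := by
  ext x
  rw [Subgroup.mem_centralizer_iff, Subgroup.mem_map_equiv, Subgroup.mem_centralizer_iff]
  constructor
  · intro h y hy
    have h1 := h (f y) ⟨y, hy, rfl⟩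
    apply f.injective
    rw [map_mul, map_mul, MulEquiv.apply_symm_apply]
    exact h1
  · rintro h _ ⟨y, hy, rfl⟩
    have h1 := congrArg f (h y hy)
    rw [map_mul, map_mul, MulEquiv.apply_symm_apply] at h1
    exact h1

section general
variable {G : Type*} [Group G] [Finite G] {P : Type*} [Group P] [Finite P]

theorem sylow_general (r : ℕ) (hr : Odd r) (hP : Nat.card P = 4 * r)
    (hKC : ∀ V : Subgroup P, IsKleinFour V → Subgroup.centralizer (V : Set P) = V)
    (hKN : ∀ V : Subgroup P, IsKleinFour V → Nat.card (Subgroup.normalizer (V : Set P)) = 12)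
    (hres : Cfsg.pResidual 2 G = ⊤)
    (hsyl : ∀ S : Sylow 2 G, Nat.card S = 8 ∧ ∀ x ∈ S, x * x = 1)
    (a : G) (ha1 : a ≠ 1) (ha2 : a * a = 1)
    (e : ↥(Subgroup.centralizer ({a} : Set G)) ≃* Z2 × P)
    (S : Sylow 2 G) :
    Subgroup.centralizer ((S : Subgroup G) : Set G) = S ∧
      Nat.card (Subgroup.normalizer ((S : Subgroup G) : Set G)) = 168 := by
  have : Fact (Nat.Prime 2) := ⟨Nat.prime_two⟩
  have hp : IsPGroup 2 (Subgroup.zpowers a) := by
    apply IsPGroup.of_card (n := 1)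
    rw [Nat.card_zpowers, orderOf_eq_prime (by rw [pow_two]; exact ha2) ha1, pow_one]
  obtain ⟨Sa, hSa⟩ := hp.exists_le_sylow
  have haSa : a ∈ Sa := hSa (Subgroup.mem_zpowers a)
  obtain ⟨h1, h2⟩ := sylow_of_mem r hr hP hKC hKN hres hsyl a ha1 e Sa haSa
  obtain ⟨g, hg⟩ := MulAction.exists_smul_eq G Sa S
  have hS : (S : Subgroup G) = (Sa : Subgroup G).map (MulAut.conj g).toMonoidHom := by
    rw [← hg, Sylow.smul_def, Sylow.pointwise_smul_def, Subgroup.pointwise_smul_def]
    rfl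
  constructor
  · rw [hS, centralizer_map_equiv, h1]
  · rw [hS, ← Subgroup.map_equiv_normalizer_eq,
      Subgroup.card_map_of_injective (show Function.Injective (MulAut.conj g).toMonoidHom from
        (MulAut.conj g).injective), h2]

end general

section ree
variable {K : Type*} [Field K] [Fintype K] {m : ℕ} (hK : Fintype.card K = 3 ^ (2 * m + 1))
include hK

/-- an involution of the torus `H¹` -/
theorem exists_torus_involution : ∃ a : ↥(twistedG2 K (3 ^ m)),
    (a : GL chevG2.Idx K) ∈ chevG2.diagonalSubgroup K ∧ a ≠ 1 ∧ a * a = 1 := by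
  obtain ⟨τ, hτ⟩ := exists_tauData hK
  have hsq := sq_dichotomy_of_card hK
  have htw := twistedG2_eq_fixTau hτ hsq
  have h3 : (3 : K) = 0 := hτ.three
  have h2 : (2 : K) ≠ 0 := by
    intro h
    have : (1 : K) = 0 := by linear_combination h3 - h
    exact one_ne_zero this
  obtain ⟨h, hh, e0⟩ := exists_H_chi0 hτ hsq (-1 : K) (neg_ne_zero.mpr one_ne_zero)
  obtain ⟨hhH, hhG⟩ := Subgroup.mem_inf.mp hh
  refine ⟨⟨h, hhG⟩, hhH, ?_, ?_⟩
  · intro h1
    have h1' : h = 1 := congrArg Subtype.val h1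
    rw [h1', chi0_one] at e0
    apply h2
    linear_combination e0
  · apply Subtype.ext
    show h * h = 1
    have hfix : h * h ∈ chevG2.diagonalSubgroup K ⊓ fixTau K τ := by
      refine Subgroup.mem_inf.mpr ⟨Subgroup.mul_mem _ hhH hhH, ?_⟩
      rw [← htw]
      exact Subgroup.mul_mem _ hhG hhG
    apply fixH_eq_one hτ _ hfix
    rw [chi0_mul _ _ hhH hhH, e0]
    ring

theorem ree_sylow_two (hm : 1 ≤ m) (S : Sylow 2 ↥(twistedG2 K (3 ^ m))) :
    Subgroup.centralizer ((S : Subgroup ↥(twistedG2 K (3 ^ m))) : Set ↥(twistedG2 K (3 ^ m))) = S ∧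
      Nat.card (Subgroup.normalizer
        ((S : Subgroup ↥(twistedG2 K (3 ^ m))) : Set ↥(twistedG2 K (3 ^ m)))) = 168 := by
  classical
  obtain ⟨a, haH, ha1, ha2⟩ := exists_torus_involution hK
  obtain ⟨⟨e⟩, hsyl⟩ := Cfsg.Agent.S1152.result hK a haH ha1 ha2
  obtain ⟨τ, hτ⟩ := exists_tauData hK
  have h3 : (3 : K) = 0 := hτ.three
  have h2 : (2 : K) ≠ 0 := by
    intro h
    have : (1 : K) = 0 := by linear_combination h3 - h
    exact one_ne_zero this
  have hodd : Odd (Fintype.card K) := by rw [hK]; exact Odd.pow (by decide)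
  obtain ⟨k, hk⟩ := three_pow_mod_eight m
  have hq : Fintype.card K % 8 = 3 ∨ Fintype.card K % 8 = 5 := Or.inl (by rw [hK, hk]; omega)
  have hPSL := Cfsg.Agent.Lib.Helper13.card_PSL2_mul_two (F := K) h2
  rw [hK, hk] at hPSL
  obtain ⟨r', hr', hr'e⟩ := card_arith k
  rw [hr'e] at hPSL
  have hPSL4 : Nat.card (Matrix.ProjectiveSpecialLinearGroup (Fin 2) K) = 4 * r' := by omega
  have hperf := ree_perfect hK hm
  have hres : Cfsg.pResidual 2 ↥(twistedG2 K (3 ^ m)) = ⊤ := by
    apply Cfsg.Agent.Lib.Helper11.pResidual_two_eq_top_of_no_index_two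
    intro H hH
    have hle := Cfsg.Agent.Lib.Helper25.IndexTwo.commutator_le_of_index_two hH
    rw [hperf, top_le_iff] at hle
    rw [hle, Subgroup.index_top] at hH
    omega
  exact sylow_general r' hr' hPSL4
    (fun V hV => Cfsg.Agent.Lib.Helper13.centralizer_kleinFour_PSL2 h2 V hV)
    (fun V hV => Cfsg.Agent.Lib.Helper13.card_normalizer_kleinFour_of_three_five hodd hq V hV)
    hres hsyl a ha1 ha2 e S

end ree

end Cfsg.Agent.Lib.Helper7.ReeSyl
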