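import Cfsg.Agent.Lib.Helper7.G2Tw17

/-! The multiplication law of `U¹` and the torus action on it, for the Ree groups (helper7). -/

set_option autoImplicit false

namespace Cfsg.Agent.Lib.Helper7

open Cfsg Cfsg.Lie Matrix

section
variable (F : Type*) [Field F] (h3 : (3 : F) = 0)
include h3

/-- the product of two normal forms of `U` in characteristic 3 -/
theorem mul_G2 (α β c1 c2 c3 c4 α' β' d1 d2 d3 d4 : F) :
    (xGL chevG2 mem_G2 F 7 α * xGL chevG2 mem_G2 F 6 β * (xGL chevG2 mem_G2 F 8 c1 *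
      xGL chevG2 mem_G2 F 9 c2 * xGL chevG2 mem_G2 F 10 c3 * xGL chevG2 mem_G2 F 11 c4)) *
    (xGL chevG2 mem_G2 F 7 α' * xGL chevG2 mem_G2 F 6 β' * (xGL chevG2 mem_G2 F 8 d1 *
      xGL chevG2 mem_G2 F 9 d2 * xGL chevG2 mem_G2 F 10 d3 * xGL chevG2 mem_G2 F 11 d4)) =
    xGL chevG2 mem_G2 F 7 (α + α') * xGL chevG2 mem_G2 F 6 (β + β') *
      (xGL chevG2 mem_G2 F 8 (α' * β + c1 + d1) *
      xGL chevG2 mem_G2 F 9 (α' ^ 2 * β + (c2 - α' * c1) + d2) *
      xGL chevG2 mem_G2 F 10 (-(α' ^ 3 * β) + c3 + d3) *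
      xGL chevG2 mem_G2 F 11 ((-(α' ^ 3 * β ^ 2) - β' * (-(α' ^ 3 * β))) + (c4 - β' * c3) + d4)) := by
  have hT := commTerms_G2_high
  have hM := commTerms_G2_more
  have h3' : (((3 : ℤ)) : F) = 0 := by exact_mod_cast h3
  have := nf6_mul (xGL chevG2 mem_G2 F 7) (xGL chevG2 mem_G2 F 6) (xGL chevG2 mem_G2 F 8)
    (xGL chevG2 mem_G2 F 9) (xGL chevG2 mem_G2 F 10) (xGL chevG2 mem_G2 F 11)
    (xGL_mul chevG2 mem_G2 F 7) (xGL_mul chevG2 mem_G2 F 6)
    (xGL_mul chevG2 mem_G2 F 8) (xGL_mul chevG2 mem_G2 F 9) (xGL_mul chevG2 mem_G2 F 10)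
    (xGL_mul chevG2 mem_G2 F 11)
    (xGL_comm_of_single F 8 9 11 3 1 1 (by decide) (by decide) (by decide) (by decide) hT.1 h3')
    (xGL_comm_of_nil chevG2 mem_G2 F 8 10 (by decide) (by decide) (by decide) (by decide) hT.2.1)
    (xGL_comm_of_nil chevG2 mem_G2 F 8 11 (by decide) (by decide) (by decide) (by decide) hT.2.2.1)
    (xGL_comm_of_nil chevG2 mem_G2 F 9 10 (by decide) (by decide) (by decide) (by decide) hT.2.2.2.1)
    (xGL_comm_of_nil chevG2 mem_G2 F 9 11 (by decide) (by decide) (by decide) (by decide) hT.2.2.2.2.1)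
    (xGL_comm_of_nil chevG2 mem_G2 F 10 11 (by decide) (by decide) (by decide) (by decide) hT.2.2.2.2.2.1)
    (by
      intro s u
      have := comm_formula_GL chevG2 mem_G2 F 7 8 (by decide) (by decide) (by decide) (by decide) s u
      unfold ChevalleyDatum.commWord at this
      rw [hM.1] at this
      rw [this]
      simp only [List.map_cons, List.map_nil, wordGL, List.prod_cons, List.prod_nil, mul_one]
      have e1 : ((-2 : ℤ) : F) * (-s) ^ 1 * u ^ 1 = -(s * u) := by
        push_cast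
        linear_combination (s * u) * h3
      have e2 : ((-3 : ℤ) : F) * (-s) ^ 2 * u ^ 1 = 0 := by
        push_cast
        linear_combination (-(s ^ 2 * u)) * h3
      have e3 : ((3 : ℤ) : F) * (-s) ^ 1 * u ^ 2 = 0 := by
        push_cast
        linear_combination (-(s * u ^ 2)) * h3
      rw [e1, e2, e3, xGL_zero, xGL_zero, mul_one, mul_one])
    (fun s u => (xGL_comm_of_single F 7 9 10 3 1 1 (by decide) (by decide) (by decide) (by decide) hM.2.1 h3'
      s u).symm)
    (fun s u => (xGL_comm_of_nil chevG2 mem_G2 F 7 10 (by decide) (by decide) (by decide) (by decide)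
      hM.2.2.1 s u).symm)
    (fun s u => (xGL_comm_of_nil chevG2 mem_G2 F 7 11 (by decide) (by decide) (by decide) (by decide)
      hM.2.2.2.1 s u).symm)
    (by
      intro t u
      have := comm_formula_GL chevG2 mem_G2 F 6 10 (by decide) (by decide) (by decide) (by decide) t u
      unfold ChevalleyDatum.commWord at this
      rw [hM.2.2.2.2.2.2.1] at this
      rw [this]
      simp only [List.map_cons, List.map_nil, wordGL, List.prod_cons, List.prod_nil, mul_one]
      have e1 : ((1 : ℤ) : F) * (-t) ^ 1 * u ^ 1 = -(t * u) := by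
        push_cast
        ring
      rw [e1])
    (fun t u => (xGL_comm_of_nil chevG2 mem_G2 F 6 8 (by decide) (by decide) (by decide) (by decide)
      hM.2.2.2.2.1 t u).symm)
    (fun t u => (xGL_comm_of_nil chevG2 mem_G2 F 6 9 (by decide) (by decide) (by decide) (by decide)
      hM.2.2.2.2.2.1 t u).symm)
    (fun t u => (xGL_comm_of_nil chevG2 mem_G2 F 6 11 (by decide) (by decide) (by decide) (by decide)
      hM.2.2.2.2.2.2.2 t u).symm)
    (by
      intro s t
      have := comm_formula_GL chevG2 mem_G2 F 7 6 (by decide) (by decide) (by decide) (by decide) s t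
      unfold ChevalleyDatum.commWord at this
      rw [hT.2.2.2.2.2.2] at this
      rw [this]
      unfold uH4
      simp only [List.map_cons, List.map_nil, wordGL, List.prod_cons, List.prod_nil, mul_one, mul_assoc]
      congr 3
      · congr 1; push_cast; ring
      · congr 1
        · congr 1; push_cast; ring
        · congr 1
          · congr 1; push_cast; ring
          · congr 1; push_cast; ring)
    α β c1 c2 c3 c4 α' β' d1 d2 d3 d4
  unfold nf6 uH4 at this
  exact this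

end

section
variable {F : Type*} [Field F]
variable {τ : ↥(chevG2.group F) ≃* ↥(chevG2.group F)} {θ : ℕ} (hτ : TauData F τ θ)
include hτ

/-- the multiplication law of `U¹` -/
theorem reeU_mul (t u v t' u' v' : F) : reeU θ t u v * reeU θ t' u' v' =
    reeU θ (t + t') (u + u' - (t' ^ θ) ^ 3 * t)
      (v + v' - t' * u + (t' ^ θ) ^ 3 * t * t' - (t' ^ θ) ^ 3 * t ^ 2) := by
  have hmem : reeU θ t u v * reeU θ t' u' v' ∈ chevG2.posUnipotent F ⊓ fixTau F τ :=
    Subgroup.mul_mem _ (Subgroup.mem_inf.mpr ⟨reeU_mem_posUnipotent θ t u v, reeU_mem_fixTau hτ t u v⟩)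
      (Subgroup.mem_inf.mpr ⟨reeU_mem_posUnipotent θ t' u' v', reeU_mem_fixTau hτ t' u' v'⟩)
  obtain ⟨t'', u'', v'', e⟩ := (posUnipotent_inf_fixTau hτ _).mp hmem
  rw [e]
  have e2 := e
  rw [reeU_eq, reeU_eq, reeU_eq, ordProd_c6fn, ordProd_c6fn, mul_G2 F hτ.three, ← ordProd_c6fn] at e2
  obtain ⟨-, h2, -, -, h5, h6⟩ := c6_inj _ _ _ _ _ _ _ _ _ _ _ _ e2
  rw [← h2, ← h5, ← h6]
  congr 1 <;> ring

/-- the action of the torus on `U¹` -/
theorem reeU_conj (h : GL chevG2.Idx F) (hh : h ∈ chevG2.diagonalSubgroup F ⊓ fixTau F τ)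
    (χ : ℕ → F) (hχ : ChainChar chevG2 F χ)
    (e : (h : Matrix chevG2.Idx chevG2.Idx F) = diagChar chevG2 F χ) (t u v : F) :
    h * reeU θ t u v * h⁻¹ = reeU θ (χ 6 * t) (χ 10 * u) (χ 11 * v) := by
  have hhH := (Subgroup.mem_inf.mp hh).1
  have hhF := (Subgroup.mem_inf.mp hh).2
  have hmem : h * reeU θ t u v * h⁻¹ ∈ chevG2.posUnipotent F ⊓ fixTau F τ := by
    refine Subgroup.mem_inf.mpr ⟨?_, Subgroup.mul_mem _ (Subgroup.mul_mem _ hhF (reeU_mem_fixTau hτ t u v))
      (Subgroup.inv_mem _ hhF)⟩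
    have hnorm := diagonalSubgroup_le_normalizer_posUnipotent chevG2 mem_G2 F hhH
    rw [Subgroup.mem_set_normalizer_iff] at hnorm
    exact (hnorm _).mp (reeU_mem_posUnipotent θ t u v)
  obtain ⟨t'', u'', v'', e1⟩ := (posUnipotent_inf_fixTau hτ _).mp hmem
  rw [e1]
  have e2 := e1
  rw [reeU_eq, reeU_eq, diagGL_conj_ordProd chevG2 mem_G2 F h χ hχ e] at e2
  have hinj := ordProd_injA chevG2 mem_G2 F aG2 chainAdd_G2 posFacts_G2 l6G2 goodLA_G2 _ _ e2
  have e6 : χ 6 * t = t'' := hinj 6 (by decide)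
  have e10 : χ 10 * u = u'' := hinj 10 (by decide)
  have e11 : χ 11 * v = v'' := hinj 11 (by decide)
  rw [e6, e10, e11]

end

end Cfsg.Agent.Lib.Helper7
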