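import Cfsg.Agent.Lib.Helper27.ReeCentJ

/-! The number of elements of even order of the Ree groups `²G₂(q)` (helper7; work package H of the Ree
cluster of helper13). -/

set_option autoImplicit false

namespace Cfsg.Agent.Lib.Helper7.ReeEven

open Cfsg Cfsg.Lie Matrix Cfsg.Agent.Lib.Helper7 Cfsg.Agent.Lib.Helper27.ReeCent

section Abstract

/-- counting by fibres of constant size -/
theorem card_eq_mul_of_fibers {α β : Type*} [Finite α] [Finite β] (f : α → β) (n : ℕ)
    (h : ∀ b : β, Nat.card {a : α // f a = b} = n) : Nat.card α = Nat.card β * n := by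
  have := Fintype.ofFinite β
  rw [← Nat.card_congr (Equiv.sigmaFiberEquiv f), Nat.card_sigma]
  simp only [h, Finset.sum_const, Finset.card_univ, smul_eq_mul, Nat.card_eq_fintype_card]

variable {G : Type*} [Group G]

/-- the involution of the cyclic group generated by an element of even order -/
noncomputable def invOf (x : G) : G := x ^ (orderOf x / 2)

theorem invOf_map {H : Type*} [Group H] (φ : G ≃* H) (x : G) : invOf (φ x) = φ (invOf x) := by
  unfold invOf
  rw [MulEquiv.orderOf_eq, map_pow]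

theorem orderOf_invOf [Finite G] (x : G) (hx : Even (orderOf x)) : orderOf (invOf x) = 2 := by
  have hpos : 0 < orderOf x := orderOf_pos x
  obtain ⟨k, hk⟩ := hx
  have hk0 : k ≠ 0 := by omega
  have hdiv : orderOf x / 2 = k := by omega
  unfold invOf
  rw [hdiv, orderOf_pow_of_dvd hk0 ⟨2, by omega⟩, hk, ← two_mul, Nat.mul_div_cancel _ (Nat.pos_of_ne_zero hk0)]

theorem invOf_comm (x : G) : invOf x * x = x * invOf x := by
  unfold invOf
  rw [← pow_succ, ← pow_succ']

/-- the fibres of `invOf` over conjugate involutions have the same size -/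
theorem card_fib_conj (g t : G) :
    Nat.card {x : G // Even (orderOf x) ∧ invOf x = g * t * g⁻¹} =
      Nat.card {x : G // Even (orderOf x) ∧ invOf x = t} := by
  apply Nat.card_congr
  refine Equiv.subtypeEquiv (MulAut.conj g⁻¹).toEquiv (fun x => ?_)
  have h1 : orderOf ((MulAut.conj g⁻¹) x) = orderOf x := MulEquiv.orderOf_eq _ x
  have h2 : invOf ((MulAut.conj g⁻¹) x) = (MulAut.conj g⁻¹) (invOf x) := invOf_map _ x
  show _ ↔ Even (orderOf ((MulAut.conj g⁻¹) x)) ∧ invOf ((MulAut.conj g⁻¹) x) = t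
  rw [h1, h2]
  constructor
  · rintro ⟨he, hi⟩
    refine ⟨he, ?_⟩
    rw [hi, MulAut.conj_apply]
    group
  · rintro ⟨he, hi⟩
    refine ⟨he, ?_⟩
    rw [← hi, MulAut.conj_apply]
    group

/-- the number of involutions when all involutions are conjugate -/
theorem card_invol_mul [Finite G] (t₀ : G) (ht₀ : orderOf t₀ = 2)
    (hconj : ∀ t : G, orderOf t = 2 → ∃ g : G, t = g * t₀ * g⁻¹) :
    Nat.card G = Nat.card {t : G // orderOf t = 2} *
      Nat.card ↥(Subgroup.centralizer ({t₀} : Set G)) := by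
  have hord : ∀ g : G, orderOf (g * t₀ * g⁻¹) = 2 := by
    intro g
    rw [orderOf_conj', ht₀]
  apply card_eq_mul_of_fibers (fun g : G => (⟨g * t₀ * g⁻¹, hord g⟩ : {t : G // orderOf t = 2}))
  intro t
  obtain ⟨g₀, hg₀⟩ := hconj t.1 t.2
  apply Nat.card_congr
  refine Equiv.subtypeEquiv (Equiv.mulLeft g₀⁻¹) (fun g => ?_)
  rw [Subtype.ext_iff, mem_cent_singleton]
  show g * t₀ * g⁻¹ = t.1 ↔ (g₀⁻¹ * g) * t₀ = t₀ * (g₀⁻¹ * g)
  rw [hg₀]
  constructor
  · intro h
    have : t₀ = g₀⁻¹ * (g * t₀ * g⁻¹) * g₀ := by rw [h]; group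
    calc g₀⁻¹ * g * t₀ = (g₀⁻¹ * (g * t₀ * g⁻¹) * g₀) * (g₀⁻¹ * g) := by group
      _ = t₀ * (g₀⁻¹ * g) := by rw [← this]
  · intro h
    calc g * t₀ * g⁻¹ = g₀ * ((g₀⁻¹ * g) * t₀) * g⁻¹ := by group
      _ = g₀ * (t₀ * (g₀⁻¹ * g)) * g⁻¹ := by rw [h]
      _ = g₀ * t₀ * g₀⁻¹ := by group

section Prod
variable {L : Type*} [Group L]

theorem sigma_cases (ε : Multiplicative (ZMod 2)) : ε = 1 ∨ ε = Multiplicative.ofAdd 1 := by
  revert ε
  decide

theorem sigma_ne_one : (Multiplicative.ofAdd (1 : ZMod 2)) ≠ 1 := by decide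

theorem sigma_sq : (Multiplicative.ofAdd (1 : ZMod 2)) ^ 2 = 1 := by decide

theorem sigma_pow (k : ℕ) : (Multiplicative.ofAdd (1 : ZMod 2)) ^ k =
    if Even k then 1 else Multiplicative.ofAdd 1 := by
  rcases Nat.even_or_odd k with h | h
  · rw [if_pos h]
    obtain ⟨j, rfl⟩ := h
    rw [← two_mul, pow_mul, sigma_sq, one_pow]
  · rw [if_neg (Nat.not_even_iff_odd.mpr h)]
    obtain ⟨j, rfl⟩ := h
    rw [pow_succ, pow_mul, sigma_sq, one_pow, one_mul]

theorem orderOf_sigma : orderOf (Multiplicative.ofAdd (1 : ZMod 2)) = 2 := by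
  have : Fact (Nat.Prime 2) := ⟨Nat.prime_two⟩
  exact orderOf_eq_prime sigma_sq sigma_ne_one

/-- the elements of `Z₂ × L` whose cyclic group contains the involution `(σ, 1)` -/
theorem prod_char [Finite L] (y : Multiplicative (ZMod 2) × L) :
    (Even (orderOf y) ∧ invOf y = (Multiplicative.ofAdd 1, 1)) ↔
      (y.1 = Multiplicative.ofAdd 1 ∧ Odd (orderOf y.2)) := by
  constructor
  · rintro ⟨-, hi⟩
    unfold invOf at hi
    have h1 : y.1 ^ (orderOf y / 2) = Multiplicative.ofAdd 1 := by
      have := congrArg Prod.fst hi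
      simpa using this
    have h2 : y.2 ^ (orderOf y / 2) = 1 := by
      have := congrArg Prod.snd hi
      simpa using this
    have hy1 : y.1 = Multiplicative.ofAdd 1 := by
      rcases sigma_cases y.1 with h | h
      · rw [h, one_pow] at h1
        exact absurd h1.symm sigma_ne_one
      · exact h
    refine ⟨hy1, ?_⟩
    rw [hy1, sigma_pow] at h1
    have hodd : Odd (orderOf y / 2) := by
      by_contra hne
      rw [if_pos (Nat.not_odd_iff_even.mp hne)] at h1
      exact sigma_ne_one h1.symm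
    exact Odd.of_dvd_nat hodd (orderOf_dvd_of_pow_eq_one h2)
  · rintro ⟨hy1, hodd⟩
    have ho : orderOf y = 2 * orderOf y.2 := by
      rw [Prod.orderOf, hy1, orderOf_sigma]
      exact Nat.Coprime.lcm_eq_mul (Nat.coprime_two_left.mpr hodd)
    refine ⟨⟨orderOf y.2, by rw [ho, two_mul]⟩, ?_⟩
    unfold invOf
    rw [ho, Nat.mul_div_cancel_left _ two_pos]
    apply Prod.ext
    · show y.1 ^ orderOf y.2 = Multiplicative.ofAdd 1
      rw [hy1, sigma_pow, if_neg (Nat.not_even_iff_odd.mpr hodd)]
    · show y.2 ^ orderOf y.2 = 1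
      exact pow_orderOf_eq_one y.2

theorem card_prod_fib [Finite L] :
    Nat.card {y : Multiplicative (ZMod 2) × L // Even (orderOf y) ∧ invOf y = (Multiplicative.ofAdd 1, 1)} =
      Nat.card {l : L // Odd (orderOf l)} := by
  apply Nat.card_congr
  refine (Equiv.subtypeEquivRight (fun y => prod_char y)).trans ?_
  exact
    { toFun := fun y => ⟨y.1.2, y.2.2⟩
      invFun := fun l => ⟨(Multiplicative.ofAdd 1, l.1), rfl, l.2⟩
      left_inv := by
        rintro ⟨⟨a, b⟩, h1, h2⟩
        simp only at h1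
        subst h1
        rfl
      right_inv := fun l => rfl }

end Prod

/-- the number of elements of even order of a finite group with one class of involutions whose centralizers
are `Z₂ × L`, `Z(L) = 1` -/
theorem card_even_eq [Finite G] {L : Type*} [Group L] [Finite L] (hL : Subgroup.center L = ⊥)
    (t₀ : G) (ht₀ : orderOf t₀ = 2)
    (hconj : ∀ t : G, orderOf t = 2 → ∃ g : G, t = g * t₀ * g⁻¹)
    (e : ↥(Subgroup.centralizer ({t₀} : Set G)) ≃* Multiplicative (ZMod 2) × L) :
    Nat.card {x : G // Even (orderOf x)} =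
      Nat.card {t : G // orderOf t = 2} * Nat.card {l : L // Odd (orderOf l)} := by
  have ht₀mem : t₀ ∈ Subgroup.centralizer ({t₀} : Set G) := by
    rw [mem_cent_singleton]
  obtain ⟨t₀', ht₀'⟩ : ∃ t₀' : ↥(Subgroup.centralizer ({t₀} : Set G)), t₀' = ⟨t₀, ht₀mem⟩ := ⟨_, rfl⟩
  -- the image of `t₀` under `e`
  have hcentral : ∀ c : ↥(Subgroup.centralizer ({t₀} : Set G)), c * t₀' = t₀' * c := by
    intro c
    apply Subtype.ext
    rw [ht₀']
    exact (mem_cent_singleton t₀ c.1).mp c.2
  have het₀ : e t₀' = (Multiplicative.ofAdd 1, 1) := by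
    have hc : ∀ y : Multiplicative (ZMod 2) × L, y * e t₀' = e t₀' * y := by
      intro y
      obtain ⟨c, rfl⟩ := e.surjective y
      rw [← map_mul, ← map_mul, hcentral]
    have h2 : (e t₀').2 = 1 := by
      have hmem : (e t₀').2 ∈ Subgroup.center L := by
        rw [Subgroup.mem_center_iff]
        intro l
        have := congrArg Prod.snd (hc (1, l))
        simpa using this
      rw [hL, Subgroup.mem_bot] at hmem
      exact hmem
    have hne : e t₀' ≠ 1 := by
      intro h
      have : t₀' = 1 := e.injective (by rw [h, map_one])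
      rw [ht₀'] at this
      have h1 : t₀ = 1 := congrArg Subtype.val this
      rw [h1, orderOf_one] at ht₀
      omega
    rcases sigma_cases (e t₀').1 with h1 | h1
    · exact absurd (Prod.ext h1 h2) hne
    · exact Prod.ext h1 h2
  -- the fibre over `t₀`
  have hfib0 : Nat.card {x : G // Even (orderOf x) ∧ invOf x = t₀} = Nat.card {l : L // Odd (orderOf l)} := by
    rw [← card_prod_fib]
    have hcoe : ∀ c : ↥(Subgroup.centralizer ({t₀} : Set G)),
        (Even (orderOf (c : G)) ∧ invOf (c : G) = t₀) ↔ (Even (orderOf c) ∧ invOf c = t₀') := by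
      intro c
      have h1 : invOf (c : G) = ((invOf c : ↥(Subgroup.centralizer ({t₀} : Set G))) : G) := by
        unfold invOf
        rw [Subgroup.orderOf_coe, Subgroup.coe_pow]
      rw [Subgroup.orderOf_coe, h1, Subtype.ext_iff, ht₀']
    have hmem : ∀ x : G, (Even (orderOf x) ∧ invOf x = t₀) ↔
        (x ∈ Subgroup.centralizer ({t₀} : Set G) ∧ (Even (orderOf x) ∧ invOf x = t₀)) := by
      intro x
      constructor
      · intro h
        refine ⟨?_, h⟩
        rw [mem_cent_singleton]
        have hc := invOf_comm x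
        rw [h.2] at hc
        exact hc.symm
      · intro h
        exact h.2
    have e1 : {x : G // Even (orderOf x) ∧ invOf x = t₀} ≃
        {c : ↥(Subgroup.centralizer ({t₀} : Set G)) // Even (orderOf c) ∧ invOf c = t₀'} :=
      ((Equiv.subtypeEquivRight hmem).trans
        (Equiv.subtypeSubtypeEquivSubtypeInter (fun x : G => x ∈ Subgroup.centralizer ({t₀} : Set G))
          (fun x : G => Even (orderOf x) ∧ invOf x = t₀)).symm).trans (Equiv.subtypeEquivRight hcoe)
    have e2 : {c : ↥(Subgroup.centralizer ({t₀} : Set G)) // Even (orderOf c) ∧ invOf c = t₀'} ≃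
        {y : Multiplicative (ZMod 2) × L // Even (orderOf y) ∧ invOf y = (Multiplicative.ofAdd 1, 1)} := by
      refine Equiv.subtypeEquiv e.toEquiv (fun c => ?_)
      show _ ↔ Even (orderOf (e c)) ∧ invOf (e c) = (Multiplicative.ofAdd 1, 1)
      rw [MulEquiv.orderOf_eq, invOf_map, ← het₀]
      constructor
      · rintro ⟨h1, h2⟩
        exact ⟨h1, by rw [h2]⟩
      · rintro ⟨h1, h2⟩
        exact ⟨h1, e.injective h2⟩
    exact Nat.card_congr (e1.trans e2)
  -- all fibres
  have hfib : ∀ t : {t : G // orderOf t = 2},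
      Nat.card {x : {x : G // Even (orderOf x)} //
        (⟨invOf x.1, orderOf_invOf x.1 x.2⟩ : {t : G // orderOf t = 2}) = t} =
        Nat.card {l : L // Odd (orderOf l)} := by
    intro t
    obtain ⟨g, hg⟩ := hconj t.1 t.2
    rw [← hfib0, ← card_fib_conj g t₀, ← hg]
    apply Nat.card_congr
    refine (Equiv.subtypeEquivRight (fun x => ?_)).trans
      (Equiv.subtypeSubtypeEquivSubtypeInter (fun x : G => Even (orderOf x)) (fun x : G => invOf x = t.1))
    rw [Subtype.ext_iff]
  exact card_eq_mul_of_fibers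
    (fun x : {x : G // Even (orderOf x)} => (⟨invOf x.1, orderOf_invOf x.1 x.2⟩ : {t : G // orderOf t = 2}))
    _ hfib

/-- the centre of a finite simple group whose order is not a prime is trivial -/
theorem center_eq_bot_of_simple' [Finite G] [IsSimpleGroup G] (h : ¬ (Nat.card G).Prime) :
    Subgroup.center G = ⊥ := by
  rcases Subgroup.Normal.eq_bot_or_eq_top (inferInstance : (Subgroup.center G).Normal) with h1 | h1
  · exact h1
  · exfalso
    apply h
    let _ : CommGroup G := Group.commGroupOfCenterEqTop h1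
    exact IsSimpleGroup.prime_card

end Abstract

section Ree

variable {K : Type*} [Field K] [Fintype K] {m : ℕ}

/-- the number of elements of even order of `²G₂(q)` -/
theorem card_even_elements (hK : Fintype.card K = 3 ^ (2 * m + 1)) (hm : 1 ≤ m) :
    Nat.card {g : ↥(twistedG2 K (3 ^ m)) // Even (orderOf g)} =
      (3 ^ (2 * m + 1)) ^ 2 * ((3 ^ (2 * m + 1)) ^ 2 - 3 ^ (2 * m + 1) + 1) *
        Nat.card {x : Matrix.ProjectiveSpecialLinearGroup (Fin 2) K // Odd (orderOf x)} := by
  have hp2 : Fact (Nat.Prime 2) := ⟨Nat.prime_two⟩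
  obtain ⟨a₀, ha₀H, ha₀1, ha₀2⟩ := ReeSyl.exists_torus_involution hK
  obtain ⟨⟨e⟩, -⟩ := Cfsg.Agent.S1152.result hK a₀ ha₀H ha₀1 ha₀2
  have ho : orderOf a₀ = 2 := orderOf_eq_prime (by rw [pow_two]; exact ha₀2) ha₀1
  have hconj : ∀ t : ↥(twistedG2 K (3 ^ m)), orderOf t = 2 → ∃ g : ↥(twistedG2 K (3 ^ m)), t = g * a₀ * g⁻¹ := by
    intro t ht
    have ht1 : t ≠ 1 := by
      rintro rfl
      rw [orderOf_one] at ht
      omega
    have ht2 : t * t = 1 := by
      have := pow_orderOf_eq_one t
      rwa [ht, pow_two] at this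
    exact ree_involution_conj hK hm a₀ t ha₀1 ha₀2 ht1 ht2
  obtain ⟨q, hq⟩ : ∃ q, q = 3 ^ (2 * m + 1) := ⟨_, rfl⟩
  have hq27 : 27 ∣ q := by
    rw [hq]
    have : 2 * m + 1 = 3 + (2 * m - 2) := by omega
    rw [this, pow_add]
    exact Dvd.intro _ rfl
  have hcardC := ree_card_cent_involution hK hm a₀ ha₀1 ha₀2
  rw [← hq] at hcardC ⊢
  -- the order of `PSL₂(K)`
  have hcardL : 2 * Nat.card (Matrix.ProjectiveSpecialLinearGroup (Fin 2) K) = q * (q ^ 2 - 1) := by
    rw [← hcardC, Nat.card_congr e.toEquiv, Nat.card_prod]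
    congr 1
    rw [Nat.card_eq_fintype_card, Fintype.card_multiplicative, ZMod.card]
  have hK4 : 4 ≤ Nat.card K := by
    rw [Nat.card_eq_fintype_card, hK, ← hq]
    have := Nat.le_of_dvd (by rw [hq]; positivity) hq27
    omega
  have hsimple : IsSimpleGroup (Matrix.ProjectiveSpecialLinearGroup (Fin 2) K) :=
    Matrix.ProjectiveSpecialLinearGroup.rank_two_simple hK4
  have hnp : ¬ (Nat.card (Matrix.ProjectiveSpecialLinearGroup (Fin 2) K)).Prime := by
    intro hp
    have h27 : 27 ∣ 2 * Nat.card (Matrix.ProjectiveSpecialLinearGroup (Fin 2) K) := by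
      rw [hcardL]
      exact Dvd.dvd.mul_right hq27 _
    have h27' : 27 ∣ Nat.card (Matrix.ProjectiveSpecialLinearGroup (Fin 2) K) :=
      Nat.Coprime.dvd_of_dvd_mul_left (by norm_num) h27
    have h3 : 3 ∣ Nat.card (Matrix.ProjectiveSpecialLinearGroup (Fin 2) K) := dvd_trans (by norm_num) h27'
    rcases (Nat.dvd_prime hp).mp h3 with h | h
    · omega
    · rw [← h] at h27'
      omega
  have hL := center_eq_bot_of_simple' hnp
  have key := card_even_eq hL a₀ ho hconj e
  have hI := card_invol_mul a₀ ho hconj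
  rw [hcardC, Cfsg.Agent.S1069.result hK, ← hq] at hI
  rw [key]
  congr 1
  -- the number of involutions
  have hq1 : 27 ≤ q := Nat.le_of_dvd (by rw [hq]; positivity) hq27
  have hpos : 0 < q * (q ^ 2 - 1) := by
    apply Nat.mul_pos (by omega)
    have : 1 < q ^ 2 := by nlinarith
    omega
  apply Nat.eq_of_mul_eq_mul_right hpos
  rw [← hI]
  have h1 : 1 ≤ q ^ 2 := by nlinarith
  have h2 : q ≤ q ^ 2 := by nlinarith
  have h3 : 1 ≤ q := by omega
  zify [h1, h2, h3]
  ring

end Ree

end Cfsg.Agent.Lib.Helper7.ReeEven
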