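import Cfsg.Agent.Lib.Helper7.G2Tw18

/-! A triple of points with stabilizer of order two in the Ree groups (helper7). -/

set_option autoImplicit false

namespace Cfsg.Agent.Lib.Helper7

open Cfsg Cfsg.Lie Matrix

section
variable {F : Type*} [Field F]
variable {τ : ↥(chevG2.group F) ≃* ↥(chevG2.group F)} {θ : ℕ} (hτ : TauData F τ θ)
include hτ

theorem n0G2_not_mem_borel : n0G2 F ∉ chevG2.borelSubgroup F := by
  intro h
  have h2 : n0G2 F ∈ chevG2.borelSubgroup F ⊓ chevG2.monomialSubgroup F :=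
    Subgroup.mem_inf.mpr ⟨h, n0G2_mem_monomial F⟩
  rw [borel_inf_monomial chevG2 mem_G2 F] at h2
  exact n0G2_not_mem_diagonal h2

theorem neg_one_ne_one_char3 : (-1 : F) ≠ 1 := by
  intro h
  have h3 := hτ.three
  have : (1 : F) = 0 := by linear_combination h3 + h
  exact one_ne_zero this

/-- the involution of the torus centralizes `x₈(1) x₁₀(1)` -/
theorem exists_torus_involution : ∃ h ∈ chevG2.diagonalSubgroup F ⊓ fixTau F τ, h ≠ 1 ∧
    h * (xGL chevG2 mem_G2 F 8 1 * xGL chevG2 mem_G2 F 10 1) =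
      (xGL chevG2 mem_G2 F 8 1 * xGL chevG2 mem_G2 F 10 1) * h := by
  obtain ⟨h, hh, e0⟩ := exists_H_neg_one hτ
  have hH := (Subgroup.mem_inf.mp hh).1
  have hfix : h ∈ chevG2.diagonalSubgroup F ⊓ fixTau F τ :=
    Subgroup.mem_inf.mpr ⟨hH, twistedG2_le_fixTau hτ (Subgroup.mem_inf.mp hh).2⟩
  refine ⟨h, hfix, ?_, ?_⟩
  · intro h1
    rw [h1, chi0_one] at e0
    exact neg_one_ne_one_char3 hτ e0.symm
  obtain ⟨χ, hχ, e⟩ := mem_diagonalSubgroup_char chevG2 mem_G2 F h hH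
  have h2 : h * h = 1 := by
    apply fixH_eq_one hτ _ (Subgroup.mul_mem _ hfix hfix)
    rw [chi0_mul _ _ hH hH, e0]
    ring
  have hm : diagChar chevG2 F (fun s => χ s * χ s) = 1 := by
    rw [← diagChar_mul, ← e, ← Units.val_mul, h2, Units.val_one]
  have hsqχ : ∀ r (hr : r < 12), χ r * χ r = 1 := by
    intro r hr
    unfold diagChar at hm
    rw [← Matrix.diagonal_one] at hm
    have := congrFun (Matrix.diagonal_injective hm) (Sum.inr ⟨r, hr⟩)
    simpa using this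
  have c6 : χ 6 = 1 ∨ χ 6 = -1 := by
    have : (χ 6 - 1) * (χ 6 + 1) = 0 := by
      have := hsqχ 6 (by decide)
      linear_combination this
    rcases mul_eq_zero.mp this with h | h
    · exact Or.inl (sub_eq_zero.mp h)
    · exact Or.inr (eq_neg_of_add_eq_zero_left h)
  have f6 : χ 7 = χ 6 ^ eG2 θ 6 := char_fix hτ h hfix χ hχ e 6 (by decide)
  have hodd : Odd (eG2 θ 6) := hτ.odd_e 6 (by decide)
  have c7 : χ 7 = χ 6 := by
    rcases c6 with h | h
    · rw [f6, h, one_pow]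
    · rw [f6, h, hodd.neg_one_pow]
  have a8 : χ 8 = χ 6 * χ 7 ^ 1 :=
    hχ.addC 7 (by decide) 6 (by decide) ((8:ℕ),(1:ℕ),(-1:ℤ)) (by decide) (by decide)
  have a10 : χ 10 = χ 6 * χ 7 ^ 3 :=
    hχ.addC 7 (by decide) 6 (by decide) ((10:ℕ),(3:ℕ),(1:ℤ)) (by decide) (by decide)
  have s6 := hsqχ 6 (by decide)
  have c8 : χ 8 = 1 := by rw [a8, c7, pow_one, s6]
  have c10 : χ 10 = 1 := by
    rw [a10, c7]
    have : χ 6 * χ 6 ^ 3 = (χ 6 * χ 6) ^ 2 := by ring
    rw [this, s6, one_pow]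
  rw [← mul_assoc, diagGL_xGL_comm chevG2 mem_G2 F h χ hχ e, mul_assoc,
    diagGL_xGL_comm chevG2 mem_G2 F h χ hχ e, c8, c10, one_mul, mul_assoc]

/-- three points whose common stabilizer has order two -/
theorem exists_triple_stab_eq [Finite F] : ∃ x y z : ↥(fixTau F τ) ⧸ fixB F τ, x ≠ y ∧ x ≠ z ∧ y ≠ z ∧
    Nat.card ↥(MulAction.stabilizer ↥(fixTau F τ) x ⊓ MulAction.stabilizer ↥(fixTau F τ) y ⊓
      MulAction.stabilizer ↥(fixTau F τ) z) = 2 := by
  have hθ : θ ≠ 0 := (theta_pos hτ).ne'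
  obtain ⟨h, hfix, hne, hcomm⟩ := exists_torus_involution hτ
  have hH := (Subgroup.mem_inf.mp hfix).1
  have hu1 : xGL chevG2 mem_G2 F 8 1 * xGL chevG2 mem_G2 F 10 1 = reeU θ 0 1 0 := by
    rw [reeU_eq, ordProd_c6fn]
    simp only [zero_pow hθ, one_pow, zero_pow (Nat.succ_ne_zero _), zero_add, xGL_zero, one_mul, mul_one,
      add_zero]
  obtain ⟨u, hu⟩ : ∃ u, u = xGL chevG2 mem_G2 F 8 1 * xGL chevG2 mem_G2 F 10 (1 : F) := ⟨_, rfl⟩
  rw [← hu] at hcomm
  have huU : u ∈ chevG2.posUnipotent F := by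
    rw [hu, hu1]; exact reeU_mem_posUnipotent θ _ _ _
  have huF : u ∈ fixTau F τ := by
    rw [hu, hu1]; exact reeU_mem_fixTau hτ _ _ _
  have huB := posUnipotent_le_borel chevG2 mem_G2 F huU
  have hune : u ≠ 1 := by
    intro h4
    rw [hu] at h4
    have h5 : xGL chevG2 mem_G2 F 8 (1 : F) = xGL chevG2 mem_G2 F 10 (-1) := by
      rw [← xGL_inv]
      exact eq_inv_of_mul_eq_one_left h4
    have := xGL_root_inj chevG2 mem_G2 F 8 10 (by decide) (by decide) _ _ one_ne_zero h5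
    omega
  have hn0B := n0G2_not_mem_borel hτ
  have hsqB : n0G2 F * n0G2 F ∈ chevG2.borelSubgroup F :=
    diagonal_le_borel chevG2 mem_G2 F (n0G2_sq_mem hτ)
  refine ⟨((1 : ↥(fixTau F τ)) : ↥(fixTau F τ) ⧸ fixB F τ), ((n0Fix hτ : ↥(fixTau F τ)) : ↥(fixTau F τ) ⧸ fixB F τ),
    (((⟨u, huF⟩ : ↥(fixTau F τ)) * n0Fix hτ : ↥(fixTau F τ)) : ↥(fixTau F τ) ⧸ fixB F τ), ?_, ?_, ?_, ?_⟩
  · intro h1
    have := (mem_fixB _).mp (QuotientGroup.eq.mp h1)
    apply hn0B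
    have e : (((1 : ↥(fixTau F τ))⁻¹ * n0Fix hτ : ↥(fixTau F τ)) : GL chevG2.Idx F) = n0G2 F := by
      push_cast; rw [inv_one, one_mul]; rfl
    rwa [e] at this
  · intro h1
    have := (mem_fixB _).mp (QuotientGroup.eq.mp h1)
    apply hn0B
    have e : (((1 : ↥(fixTau F τ))⁻¹ * ((⟨u, huF⟩ : ↥(fixTau F τ)) * n0Fix hτ) : ↥(fixTau F τ)) : GL chevG2.Idx F) =
        u * n0G2 F := by
      push_cast; rw [inv_one, one_mul]; rfl
    rw [e] at this
    have e2 : n0G2 F = u⁻¹ * (u * n0G2 F) := by group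
    rw [e2]
    exact Subgroup.mul_mem _ (Subgroup.inv_mem _ huB) this
  · intro h1
    have := (mem_fixB _).mp (QuotientGroup.eq.mp h1)
    have e : (((n0Fix hτ)⁻¹ * ((⟨u, huF⟩ : ↥(fixTau F τ)) * n0Fix hτ) : ↥(fixTau F τ)) : GL chevG2.Idx F) =
        (n0G2 F)⁻¹ * (u * n0G2 F) := by
      push_cast; rfl
    rw [e] at this
    have h2 : n0G2 F * u * (n0G2 F)⁻¹ ∈ chevG2.borelSubgroup F := by
      have e2 : n0G2 F * u * (n0G2 F)⁻¹ =
          (n0G2 F * n0G2 F) * ((n0G2 F)⁻¹ * (u * n0G2 F)) * (n0G2 F * n0G2 F)⁻¹ := by group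
      rw [e2]
      exact Subgroup.mul_mem _ (Subgroup.mul_mem _ hsqB this) (Subgroup.inv_mem _ hsqB)
    have h3 : n0G2 F * u * (n0G2 F)⁻¹ ∈ chevG2.borelSubgroup F ⊓ chevG2.negUnipotent F :=
      Subgroup.mem_inf.mpr ⟨h2, conj_n0_mem_negUnipotent hτ u huU⟩
    rw [borel_inf_negUnipotent chevG2 mem_G2 F, Subgroup.mem_bot] at h3
    apply hune
    have := congrArg (fun x => (n0G2 F)⁻¹ * x * n0G2 F) h3
    simpa [mul_assoc] using this
  · apply le_antisymm
    · apply triple_stab_le hτ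
      · intro h1
        have := (mem_fixB _).mp (QuotientGroup.eq.mp h1)
        apply hn0B
        have e : (((1 : ↥(fixTau F τ))⁻¹ * n0Fix hτ : ↥(fixTau F τ)) : GL chevG2.Idx F) = n0G2 F := by
          push_cast; rw [inv_one, one_mul]; rfl
        rwa [e] at this
      · intro h1
        have := (mem_fixB _).mp (QuotientGroup.eq.mp h1)
        apply hn0B
        have e : (((1 : ↥(fixTau F τ))⁻¹ * ((⟨u, huF⟩ : ↥(fixTau F τ)) * n0Fix hτ) : ↥(fixTau F τ)) :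
            GL chevG2.Idx F) = u * n0G2 F := by
          push_cast; rw [inv_one, one_mul]; rfl
        rw [e] at this
        have e2 : n0G2 F = u⁻¹ * (u * n0G2 F) := by group
        rw [e2]
        exact Subgroup.mul_mem _ (Subgroup.inv_mem _ huB) this
      · intro h1
        have := (mem_fixB _).mp (QuotientGroup.eq.mp h1)
        have e : (((n0Fix hτ)⁻¹ * ((⟨u, huF⟩ : ↥(fixTau F τ)) * n0Fix hτ) : ↥(fixTau F τ)) : GL chevG2.Idx F) =
            (n0G2 F)⁻¹ * (u * n0G2 F) := by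
          push_cast; rfl
        rw [e] at this
        have h2 : n0G2 F * u * (n0G2 F)⁻¹ ∈ chevG2.borelSubgroup F := by
          have e2 : n0G2 F * u * (n0G2 F)⁻¹ =
              (n0G2 F * n0G2 F) * ((n0G2 F)⁻¹ * (u * n0G2 F)) * (n0G2 F * n0G2 F)⁻¹ := by group
          rw [e2]
          exact Subgroup.mul_mem _ (Subgroup.mul_mem _ hsqB this) (Subgroup.inv_mem _ hsqB)
        have h3 : n0G2 F * u * (n0G2 F)⁻¹ ∈ chevG2.borelSubgroup F ⊓ chevG2.negUnipotent F :=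
          Subgroup.mem_inf.mpr ⟨h2, conj_n0_mem_negUnipotent hτ u huU⟩
        rw [borel_inf_negUnipotent chevG2 mem_G2 F, Subgroup.mem_bot] at h3
        apply hune
        have := congrArg (fun x => (n0G2 F)⁻¹ * x * n0G2 F) h3
        simpa [mul_assoc] using this
    · rw [Nat.succ_le_iff, Subgroup.one_lt_card_iff_ne_bot]
      intro hbot
      have hmem : (⟨h, (Subgroup.mem_inf.mp hfix).2⟩ : ↥(fixTau F τ)) ∈
          MulAction.stabilizer ↥(fixTau F τ) ((1 : ↥(fixTau F τ)) : ↥(fixTau F τ) ⧸ fixB F τ) ⊓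
          MulAction.stabilizer ↥(fixTau F τ) ((n0Fix hτ : ↥(fixTau F τ)) : ↥(fixTau F τ) ⧸ fixB F τ) ⊓
          MulAction.stabilizer ↥(fixTau F τ)
            (((⟨u, huF⟩ : ↥(fixTau F τ)) * n0Fix hτ : ↥(fixTau F τ)) : ↥(fixTau F τ) ⧸ fixB F τ) := by
        have hconj : (n0G2 F)⁻¹ * h * n0G2 F ∈ chevG2.borelSubgroup F := by
          have := conj_diagonal_mem _ _ (Subgroup.inv_mem _ (n0G2_mem_monomial F)) hH
          rw [inv_inv] at this
          exact diagonal_le_borel chevG2 mem_G2 F this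
        refine Subgroup.mem_inf.mpr ⟨Subgroup.mem_inf.mpr ⟨?_, ?_⟩, ?_⟩
        · rw [mem_stab_quot, mem_fixB]
          have e : (((1 : ↥(fixTau F τ))⁻¹ * ⟨h, (Subgroup.mem_inf.mp hfix).2⟩ * 1 : ↥(fixTau F τ)) :
              GL chevG2.Idx F) = h := by
            push_cast; rw [inv_one, one_mul, mul_one]
          rw [e]
          exact diagonal_le_borel chevG2 mem_G2 F hH
        · rw [mem_stab_quot, mem_fixB]
          exact hconj
        · rw [mem_stab_quot, mem_fixB]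
          have e : ((((⟨u, huF⟩ : ↥(fixTau F τ)) * n0Fix hτ)⁻¹ * ⟨h, (Subgroup.mem_inf.mp hfix).2⟩ *
              ((⟨u, huF⟩ : ↥(fixTau F τ)) * n0Fix hτ) : ↥(fixTau F τ)) : GL chevG2.Idx F) =
              (n0G2 F)⁻¹ * h * n0G2 F := by
            have e1 : ((((⟨u, huF⟩ : ↥(fixTau F τ)) * n0Fix hτ)⁻¹ * ⟨h, (Subgroup.mem_inf.mp hfix).2⟩ *
              ((⟨u, huF⟩ : ↥(fixTau F τ)) * n0Fix hτ) : ↥(fixTau F τ)) : GL chevG2.Idx F) =
              (u * n0G2 F)⁻¹ * h * (u * n0G2 F) := by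
              push_cast; rfl
            rw [e1]
            calc (u * n0G2 F)⁻¹ * h * (u * n0G2 F) = (n0G2 F)⁻¹ * u⁻¹ * (h * u) * n0G2 F := by group
              _ = (n0G2 F)⁻¹ * u⁻¹ * (u * h) * n0G2 F := by rw [hcomm]
              _ = _ := by group
          rw [e]
          exact hconj
      rw [hbot, Subgroup.mem_bot] at hmem
      exact hne (congrArg Subtype.val hmem)

end

section
variable {K : Type*} [Field K] [Fintype K] {m : ℕ} (hK : Fintype.card K = 3 ^ (2 * m + 1))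
include hK

theorem ree_triple_stab :
    (∀ x y z : ↥(twistedG2 K (3 ^ m)) ⧸ ((chevG2.borelSubgroup K ⊓ twistedG2 K (3 ^ m))).subgroupOf (twistedG2 K (3 ^ m)),
      x ≠ y → x ≠ z → y ≠ z →
        Nat.card ↥(MulAction.stabilizer ↥(twistedG2 K (3 ^ m)) x ⊓ MulAction.stabilizer ↥(twistedG2 K (3 ^ m)) y ⊓
          MulAction.stabilizer ↥(twistedG2 K (3 ^ m)) z) ≤ 2) ∧
      ∃ x y z : ↥(twistedG2 K (3 ^ m)) ⧸ ((chevG2.borelSubgroup K ⊓ twistedG2 K (3 ^ m))).subgroupOf (twistedG2 K (3 ^ m)),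
        x ≠ y ∧ x ≠ z ∧ y ≠ z ∧
        Nat.card ↥(MulAction.stabilizer ↥(twistedG2 K (3 ^ m)) x ⊓ MulAction.stabilizer ↥(twistedG2 K (3 ^ m)) y ⊓
          MulAction.stabilizer ↥(twistedG2 K (3 ^ m)) z) = 2 := by
  obtain ⟨τ, hτ⟩ := exists_tauData hK
  have hsq := sq_dichotomy_of_card hK
  rw [twistedG2_eq_fixTau hτ hsq]
  exact ⟨fun x y z hxy hxz hyz => triple_stab_le hτ x y z hxy hxz hyz, exists_triple_stab_eq hτ⟩

end

end Cfsg.Agent.Lib.Helper7
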