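import Cfsg.Agent.Lib.Helper7.G2Tw21
import Cfsg.Agent.Lib.Helper7.G2Tw13

/-! The Ree groups are generated by two elements (helper7). -/

set_option autoImplicit false

namespace Cfsg.Agent.Lib.Helper7

open Cfsg Cfsg.Lie Matrix

theorem closure_pair_subtype {G : Type*} [Group G] (H : Subgroup G) (a b : G) (ha : a ∈ H) (hb : b ∈ H)
    (h : H ≤ Subgroup.closure {a, b}) :
    Subgroup.closure ({⟨a, ha⟩, ⟨b, hb⟩} : Set ↥H) = ⊤ := by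
  rw [eq_top_iff]
  intro y _
  have hy : (y : G) ∈ Subgroup.closure {a, b} := h y.2
  have hmap : (Subgroup.closure ({⟨a, ha⟩, ⟨b, hb⟩} : Set ↥H)).map H.subtype = Subgroup.closure {a, b} := by
    rw [MonoidHom.map_closure]
    congr 1
    rw [Set.image_pair]
    rfl
  rw [← hmap] at hy
  obtain ⟨y', hy', e⟩ := hy
  have : y' = y := Subtype.ext e
  rwa [this] at hy'

section
variable {F : Type*} [Field F]
variable {τ : ↥(chevG2.group F) ≃* ↥(chevG2.group F)} {θ : ℕ} (hτ : TauData F τ θ)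
include hτ

theorem exists_not_fixed (hc : ∃ x : F, x ≠ 0 ∧ x ≠ 1 ∧ x ≠ -1) : ∃ c : F, c ≠ 0 ∧ (c ^ θ) ^ 3 ≠ c := by
  obtain ⟨x, hx0, hx1, hxm⟩ := hc
  by_contra hcon
  push Not at hcon
  have h1 : (x ^ θ) ^ 3 = x := hcon x hx0
  have h2 : ((x ^ θ) ^ θ) ^ 3 = x ^ θ := hcon (x ^ θ) (pow_ne_zero _ hx0)
  have h3 : ((x ^ θ) ^ θ) ^ 3 = x := by
    rw [← pow_mul, ← pow_mul, show θ * (θ * 3) = 3 * θ * θ by ring, hτ.pow]
  have h4 : x ^ θ = x := by rw [← h2, h3]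
  rw [h4] at h1
  have h5 : x * (x - 1) * (x + 1) = 0 := by linear_combination h1
  rcases mul_eq_zero.mp h5 with h6 | h6
  · rcases mul_eq_zero.mp h6 with h7 | h7
    · exact hx0 h7
    · exact hx1 (sub_eq_zero.mp h7)
  · exact hxm (eq_neg_of_add_eq_zero_left h6)

variable (hsq : ∀ x : F, x ≠ 0 → ∃ w : F, x = w ^ 2 ∨ x = -(w ^ 2))
include hsq

/-- a subgroup containing the torus and an element of `U¹` with nonzero first coordinate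
contains `U¹` -/
theorem unipotent_le (hc : ∃ x : F, x ≠ 0 ∧ x ≠ 1 ∧ x ≠ -1)
    (M : Subgroup (GL chevG2.Idx F)) (hTM : chevG2.diagonalSubgroup F ⊓ fixTau F τ ≤ M)
    (t₀ u₀ v₀ : F) (ht₀ : t₀ ≠ 0) (hx : reeU θ t₀ u₀ v₀ ∈ M) :
    chevG2.posUnipotent F ⊓ fixTau F τ ≤ M := by
  have hθ : θ ≠ 0 := (theta_pos hτ).ne'
  -- level 3
  have hcube : reeU θ t₀ u₀ v₀ ^ 3 = reeU θ 0 0 (-((t₀ ^ θ) ^ 3 * t₀ ^ 2)) := by
    rw [pow_succ, pow_two, reeU_mul hτ, reeU_mul hτ]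
    congr 1
    · linear_combination t₀ * hτ.three
    · linear_combination (u₀ - (t₀ ^ θ) ^ 3 * t₀) * hτ.three
    · linear_combination (v₀ - t₀ * u₀) * hτ.three
  have hw₀ : -((t₀ ^ θ) ^ 3 * t₀ ^ 2) ≠ 0 :=
    neg_ne_zero.mpr (mul_ne_zero (pow_ne_zero _ (pow_ne_zero _ ht₀)) (pow_ne_zero _ ht₀))
  have h3 : ∀ v : F, reeU θ 0 0 v ∈ M :=
    level_three hτ hsq M hTM _ hw₀ (by rw [← hcube]; exact M.pow_mem hx 3)
  -- level 2
  obtain ⟨c, hc0, hcc⟩ := exists_not_fixed hτ hc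
  obtain ⟨h, hh, χ, hχ, e, h6⟩ := exists_torus_chi6 hτ hsq c hc0
  have hy := conj_mem_of_torus hτ M hTM h hh χ hχ e t₀ u₀ v₀ hx
  rw [h6] at hy
  have hcomm : ∀ t u v t' u' v' : F, ∃ w : F,
      reeU θ 0 ((t ^ θ) ^ 3 * t' - (t' ^ θ) ^ 3 * t) w =
        reeU θ t u v * reeU θ t' u' v' * (reeU θ t' u' v' * reeU θ t u v)⁻¹ := by
    intro t u v t' u' v'
    refine ⟨(v + v' - t' * u + (t' ^ θ) ^ 3 * t * t' - (t' ^ θ) ^ 3 * t ^ 2) -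
      (v' + v - t * u' + (t ^ θ) ^ 3 * t' * t - (t ^ θ) ^ 3 * t' ^ 2) +
      (t' + t) * ((t ^ θ) ^ 3 * t' - (t' ^ θ) ^ 3 * t), ?_⟩
    apply eq_mul_inv_of_mul_eq
    rw [reeU_mul hτ t' u' v' t u v, reeU_mul hτ t u v t' u' v', reeU_mul hτ]
    congr 1 <;> ring
  obtain ⟨w, hw⟩ := hcomm t₀ u₀ v₀ (c * t₀) (χ 10 * u₀) (χ 11 * v₀)
  have hd : (t₀ ^ θ) ^ 3 * (c * t₀) - ((c * t₀) ^ θ) ^ 3 * t₀ ≠ 0 := by
    have : (t₀ ^ θ) ^ 3 * (c * t₀) - ((c * t₀) ^ θ) ^ 3 * t₀ = (t₀ ^ θ) ^ 3 * t₀ * (c - (c ^ θ) ^ 3) := by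
      rw [mul_pow, mul_pow]; ring
    rw [this]
    exact mul_ne_zero (mul_ne_zero (pow_ne_zero _ (pow_ne_zero _ ht₀)) ht₀)
      (sub_ne_zero.mpr (Ne.symm hcc))
  have hz : reeU θ 0 ((t₀ ^ θ) ^ 3 * (c * t₀) - ((c * t₀) ^ θ) ^ 3 * t₀) w ∈ M := by
    rw [hw]
    exact M.mul_mem (M.mul_mem hx hy) (M.inv_mem (M.mul_mem hy hx))
  have h2 : ∀ u v : F, reeU θ 0 u v ∈ M := level_two hτ hsq M hTM h3 _ w hd hz
  -- level 1
  have key : ∀ t : F, ∃ u' v' : F, reeU θ t u' v' ∈ M := by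
    intro t
    by_cases ht : t = 0
    · exact ⟨0, 0, by rw [ht]; exact h3 0⟩
    · obtain ⟨k, hk, χ', hχ', e', h6'⟩ := exists_torus_chi6 hτ hsq (t / t₀) (div_ne_zero ht ht₀)
      have := conj_mem_of_torus hτ M hTM k hk χ' hχ' e' t₀ u₀ v₀ hx
      rw [h6', div_mul_cancel₀ t ht₀] at this
      exact ⟨_, _, this⟩
  intro g hg
  obtain ⟨t, u, v, rfl⟩ := (posUnipotent_inf_fixTau hτ g).mp hg
  obtain ⟨u', v', huv⟩ := key t
  have e1 : reeU θ t u v = reeU θ 0 (u - u') (v - v' + t * (u - u')) * reeU θ t u' v' := by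
    rw [reeU_mul hτ]
    congr 1 <;> ring
  rw [e1]
  exact M.mul_mem (h2 _ _) huv

/-- the fixed points of the twisting automorphism are generated by two elements -/
theorem fixTau_two_generated [Finite F] (hc : ∃ x : F, x ≠ 0 ∧ x ≠ 1 ∧ x ≠ -1) :
    ∃ a b : GL chevG2.Idx F, a ∈ fixTau F τ ∧ b ∈ fixTau F τ ∧ fixTau F τ ≤ Subgroup.closure {a, b} := by
  have hθ : θ ≠ 0 := (theta_pos hτ).ne'
  haveI := fixH_isCyclic hτ
  obtain ⟨h₁, hgen⟩ := IsCyclic.exists_generator (α := ↥(chevG2.diagonalSubgroup F ⊓ fixTau F τ))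
  have hn0 := n0G2_mem_fixTau hτ
  have hu1 : reeU θ 1 0 0 ∈ fixTau F τ := reeU_mem_fixTau hτ 1 0 0
  have hh1F : h₁.1 ∈ fixTau F τ := (Subgroup.mem_inf.mp h₁.2).2
  refine ⟨h₁.1, reeU θ 1 0 0 * n0G2 F, hh1F, Subgroup.mul_mem _ hu1 hn0, ?_⟩
  set L := Subgroup.closure ({h₁.1, reeU θ 1 0 0 * n0G2 F} : Set (GL chevG2.Idx F)) with hL
  have hhL : h₁.1 ∈ L := Subgroup.subset_closure (Set.mem_insert _ _)
  have hgL : reeU θ 1 0 0 * n0G2 F ∈ L :=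
    Subgroup.subset_closure (Set.mem_insert_of_mem _ (Set.mem_singleton _))
  have hTL : chevG2.diagonalSubgroup F ⊓ fixTau F τ ≤ L := by
    intro k hk
    obtain ⟨n, hn⟩ := Subgroup.mem_zpowers_iff.mp (hgen ⟨k, hk⟩)
    have : k = h₁.1 ^ n := by
      have := congrArg Subtype.val hn
      rw [Subgroup.coe_zpow] at this
      exact this.symm
    rw [this]
    exact L.zpow_mem hhL n
  -- the torus is not trivial
  have hne : h₁.1 ≠ 1 := by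
    intro h1
    obtain ⟨x, hx0, hx1, -⟩ := hc
    obtain ⟨k, hk, ek⟩ := exists_H_chi0 hτ hsq x hx0
    have hkfix : k ∈ chevG2.diagonalSubgroup F ⊓ fixTau F τ :=
      Subgroup.mem_inf.mpr ⟨(Subgroup.mem_inf.mp hk).1, twistedG2_le_fixTau hτ (Subgroup.mem_inf.mp hk).2⟩
    obtain ⟨n, hn⟩ := Subgroup.mem_zpowers_iff.mp (hgen ⟨k, hkfix⟩)
    have : k = h₁.1 ^ n := by
      have := congrArg Subtype.val hn
      rw [Subgroup.coe_zpow] at this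
      exact this.symm
    rw [h1, _root_.one_zpow] at this
    rw [this, chi0_one] at ek
    exact hx1 ek.symm
  -- the conjugate of the generator
  have hh' : n0G2 F * h₁.1 * (n0G2 F)⁻¹ ∈ chevG2.diagonalSubgroup F ⊓ fixTau F τ :=
    Subgroup.mem_inf.mpr ⟨conj_diagonal_mem (n0G2 F) h₁.1 (n0G2_mem_monomial F) (Subgroup.mem_inf.mp h₁.2).1,
      Subgroup.mul_mem _ (Subgroup.mul_mem _ hn0 hh1F) (Subgroup.inv_mem _ hn0)⟩
  have hk : (n0G2 F * h₁.1 * (n0G2 F)⁻¹)⁻¹ ∈ chevG2.diagonalSubgroup F ⊓ fixTau F τ :=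
    Subgroup.inv_mem _ hh'
  obtain ⟨χ, hχ, e⟩ := mem_diagonalSubgroup_char chevG2 mem_G2 F _ (Subgroup.mem_inf.mp hk).1
  have h6 : χ 6 ≠ 1 := by
    intro h6
    have h1 := chi6_eq_one hτ _ hk χ hχ e h6
    apply hne
    have h2 : n0G2 F * h₁.1 * (n0G2 F)⁻¹ = 1 := inv_eq_one.mp h1
    have : h₁.1 = (n0G2 F)⁻¹ * (n0G2 F * h₁.1 * (n0G2 F)⁻¹) * n0G2 F := by group
    rw [this, h2]
    group
  have hconj := reeU_conj hτ _ hk χ hχ e 1 0 0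
  rw [mul_one, mul_zero, mul_zero] at hconj
  -- the element `z`
  have hzL : reeU θ (χ 6) 0 0 * (reeU θ 1 0 0)⁻¹ ∈ L := by
    have h1 : reeU θ (χ 6) 0 0 * (reeU θ 1 0 0)⁻¹ = (n0G2 F * h₁.1 * (n0G2 F)⁻¹)⁻¹ *
        ((reeU θ 1 0 0 * n0G2 F) * h₁.1 * (reeU θ 1 0 0 * n0G2 F)⁻¹) := by
      rw [← hconj]
      group
    rw [h1]
    exact L.mul_mem (L.inv_mem (hTL hh')) (L.mul_mem (L.mul_mem hgL hhL) (L.inv_mem hgL))
  have hzU : reeU θ (χ 6) 0 0 * (reeU θ 1 0 0)⁻¹ ∈ chevG2.posUnipotent F ⊓ fixTau F τ :=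
    Subgroup.mul_mem _ (Subgroup.mem_inf.mpr ⟨reeU_mem_posUnipotent θ _ _ _, reeU_mem_fixTau hτ _ _ _⟩)
      (Subgroup.inv_mem _ (Subgroup.mem_inf.mpr ⟨reeU_mem_posUnipotent θ _ _ _, hu1⟩))
  obtain ⟨a, b, d, ez⟩ := (posUnipotent_inf_fixTau hτ _).mp hzU
  have ha : a ≠ 0 := by
    intro ha
    have h1 : reeU θ a b d * reeU θ 1 0 0 = reeU θ (χ 6) 0 0 := by rw [← ez]; group
    rw [reeU_mul hτ] at h1
    have h2 := (reeU_inj θ _ _ _ _ _ _ h1).1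
    rw [ha, zero_add] at h2
    exact h6 h2.symm
  rw [ez] at hzL
  have hUL := unipotent_le hτ hsq hc L hTL a b d ha hzL
  have hu1L : reeU θ 1 0 0 ∈ L :=
    hUL (Subgroup.mem_inf.mpr ⟨reeU_mem_posUnipotent θ _ _ _, hu1⟩)
  have hn0L : n0G2 F ∈ L := by
    have : n0G2 F = (reeU θ 1 0 0)⁻¹ * (reeU θ 1 0 0 * n0G2 F) := by group
    rw [this]
    exact L.mul_mem (L.inv_mem hu1L) hgL
  have hBL : ∀ b ∈ chevG2.borelSubgroup F ⊓ fixTau F τ, b ∈ L := by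
    intro b hb
    obtain ⟨k, hk, u, hu, rfl⟩ := fix_borel hτ b hb
    exact L.mul_mem (hTL hk) (hUL hu)
  intro y hy
  rcases fix_cases hτ y hy with hB | ⟨b, hb, u, hu, rfl⟩
  · exact hBL y (Subgroup.mem_inf.mpr ⟨hB, hy⟩)
  · exact L.mul_mem (L.mul_mem (hBL b hb) hn0L) (hUL hu)

end

section
variable {K : Type*} [Field K] [Fintype K] {m : ℕ} (hK : Fintype.card K = 3 ^ (2 * m + 1))
include hK

theorem ree_two_generated (hm : 1 ≤ m) :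
    ∃ a b : ↥(twistedG2 K (3 ^ m)), Subgroup.closure ({a, b} : Set ↥(twistedG2 K (3 ^ m))) = ⊤ := by
  obtain ⟨τ, hτ⟩ := exists_tauData hK
  have hsq := sq_dichotomy_of_card hK
  obtain ⟨a, b, ha, hb, hab⟩ := fixTau_two_generated hτ hsq (exists_ne_of_card hK hm)
  rw [← twistedG2_eq_fixTau hτ hsq] at ha hb hab
  exact ⟨⟨a, ha⟩, ⟨b, hb⟩, closure_pair_subtype _ a b ha hb hab⟩

end

end Cfsg.Agent.Lib.Helper7
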