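import Mathlib
import Cfsg.Agent.Lib.Helper14.SylA.Defs

/-!
S2221 leaf W1 (helper14 market): the sign of an element of `D ≀ᵣ C2` acting on `Λ × C2`.
-/

set_option autoImplicit false
open scoped commutatorElement

namespace Cfsg.Agent.Lib.Helper7.SylALeaf

open Cfsg.Agent.Lib.Helper14.SylA RegularWreathProduct

theorem sylA_sign_mulLeft (ε : C2) :
    Equiv.Perm.sign (Equiv.mulLeft ε : Equiv.Perm C2) = if ε = 1 then 1 else -1 := by
  revert ε
  decide

theorem sylA_prod_C2 {M : Type*} [CommMonoid M] (f : C2 → M) :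
    ∏ q : C2, f q = f 1 * f (Multiplicative.ofAdd (1 : ZMod 2)) := by
  have h : (Finset.univ : Finset C2) = {1, Multiplicative.ofAdd (1 : ZMod 2)} := by decide
  rw [h, Finset.prod_pair (by decide)]

/-- W1: the sign of an element of the wreath product. -/
theorem sgnOf_wreath {D Λ : Type} [Group D] [MulAction D Λ] [Fintype Λ] [DecidableEq Λ]
    (w : D ≀ᵣ C2) :
    sgnOf (D ≀ᵣ C2) (Λ × C2) w =
      sgnOf D Λ (w.left 1) * sgnOf D Λ (w.left (Multiplicative.ofAdd 1)) *
        (if w.right = 1 then 1 else (-1) ^ Fintype.card Λ) := by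
  have hperm : (MulAction.toPerm w : Equiv.Perm (Λ × C2)) =
      (Equiv.prodCongrLeft (fun q : C2 => (MulAction.toPerm (w.left q) : Equiv.Perm Λ))) *
        (Equiv.prodCongrRight (fun _ : Λ => (Equiv.mulLeft w.right : Equiv.Perm C2))) := by
    ext ⟨a, q⟩ <;> rfl
  rw [sgnOf_apply, hperm, map_mul, Equiv.Perm.sign_prodCongrLeft, Equiv.Perm.sign_prodCongrRight,
    sylA_prod_C2, Finset.prod_const, Finset.card_univ, sylA_sign_mulLeft, sgnOf_apply, sgnOf_apply]
  congr 1
  split_ifs with h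
  · rw [one_pow]
  · rfl

end Cfsg.Agent.Lib.Helper7.SylALeaf
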