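import Mathlib

/-!
# Triangular Gaussian data (S1632: theta series of an even unimodular lattice)

`GData n` is a positive definite quadratic form on `ℝ^n` written in Lagrange (LDLᵀ) form
`Q x = ∑ₖ cₖ (xₖ + ∑_{j>k} u_{kj} x_j)²`, stored recursively: `cons c u rest` is
`Q x = c (x₀ + u · x')² + rest.Q x'` with `x' = (x₁,…,xₙ)`.
`Qd` is the dual (inverse) form, `grad` the map `x ↦ A x` (`A` the Gram matrix), `P = ∏ cₖ = det A`.
-/

set_option autoImplicit false

noncomputable section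

namespace Cfsg.Agent.Lib.Helper7.Theta

/-- Triangular Gaussian data of rank `n`. -/
inductive GData : ℕ → Type
  | nil : GData 0
  | cons {n : ℕ} (c : ℝ) (u : Fin n → ℝ) (rest : GData n) : GData (n + 1)

namespace GData

/-- all pivots positive -/
def Pos : {n : ℕ} → GData n → Prop
  | _, nil => True
  | _, cons c _ r => 0 < c ∧ r.Pos

/-- product of the pivots (the determinant of the Gram matrix) -/
def P : {n : ℕ} → GData n → ℝ
  | _, nil => 1
  | _, cons c _ r => c * r.P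

/-- the quadratic form -/
def Q : {n : ℕ} → GData n → (Fin n → ℝ) → ℝ
  | _, nil, _ => 0
  | _, cons c u r, x =>
      c * (x 0 + ∑ j, u j * x (Fin.succ j)) ^ 2 + r.Q (fun j => x (Fin.succ j))

/-- the dual quadratic form (Gram matrix `A⁻¹`) -/
def Qd : {n : ℕ} → GData n → (Fin n → ℝ) → ℝ
  | _, nil, _ => 0
  | _, cons c u r, ξ =>
      (ξ 0) ^ 2 / c + r.Qd (fun j => ξ (Fin.succ j) - ξ 0 * u j)

/-- the linear map `x ↦ A x`, `A` the Gram matrix of `Q` -/
def grad : {n : ℕ} → GData n → (Fin n → ℝ) → (Fin n → ℝ)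
  | _, nil, _ => fun _ => 0
  | _, cons c u r, x =>
      Fin.cons (c * (x 0 + ∑ j, u j * x (Fin.succ j)))
        (fun j => c * (x 0 + ∑ j, u j * x (Fin.succ j)) * u j
          + r.grad (fun j => x (Fin.succ j)) j)

@[simp] lemma Q_nil (x : Fin 0 → ℝ) : nil.Q x = 0 := rfl
@[simp] lemma Qd_nil (x : Fin 0 → ℝ) : nil.Qd x = 0 := rfl
@[simp] lemma P_nil : nil.P = 1 := rfl
@[simp] lemma Pos_nil : nil.Pos := trivial

lemma Q_cons {n : ℕ} (c : ℝ) (u : Fin n → ℝ) (r : GData n) (x : Fin (n + 1) → ℝ) :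
    (cons c u r).Q x =
      c * (x 0 + ∑ j, u j * x (Fin.succ j)) ^ 2 + r.Q (fun j => x (Fin.succ j)) := rfl

lemma Qd_cons {n : ℕ} (c : ℝ) (u : Fin n → ℝ) (r : GData n) (ξ : Fin (n + 1) → ℝ) :
    (cons c u r).Qd ξ = (ξ 0) ^ 2 / c + r.Qd (fun j => ξ (Fin.succ j) - ξ 0 * u j) := rfl

lemma P_cons {n : ℕ} (c : ℝ) (u : Fin n → ℝ) (r : GData n) :
    (cons c u r).P = c * r.P := rfl

lemma Pos_cons {n : ℕ} (c : ℝ) (u : Fin n → ℝ) (r : GData n) :
    (cons c u r).Pos ↔ 0 < c ∧ r.Pos := Iff.rfl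

lemma grad_cons_zero {n : ℕ} (c : ℝ) (u : Fin n → ℝ) (r : GData n) (x : Fin (n + 1) → ℝ) :
    (cons c u r).grad x 0 = c * (x 0 + ∑ j, u j * x (Fin.succ j)) := rfl

lemma grad_cons_succ {n : ℕ} (c : ℝ) (u : Fin n → ℝ) (r : GData n) (x : Fin (n + 1) → ℝ)
    (j : Fin n) :
    (cons c u r).grad x (Fin.succ j) =
      c * (x 0 + ∑ j, u j * x (Fin.succ j)) * u j + r.grad (fun j => x (Fin.succ j)) j := by
  simp [grad]

lemma P_pos : {n : ℕ} → (d : GData n) → d.Pos → 0 < d.P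
  | _, nil, _ => by simp
  | _, cons c u r, h => by
      rw [P_cons]; exact mul_pos h.1 (P_pos r h.2)

end GData

open Complex in
/-- the term of the theta series of the data `d` with real character `z` -/
def thetaTerm {n : ℕ} (d : GData n) (z : Fin n → ℝ) (τ : ℂ) (x : Fin n → ℤ) : ℂ :=
  cexp (Real.pi * I * τ * ((d.Q (fun i => (x i : ℝ)) : ℝ) : ℂ)
    + 2 * Real.pi * I * ((∑ i, (x i : ℝ) * z i : ℝ) : ℂ))

open Complex in
/-- the term of the dual theta series -/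
def dualTerm {n : ℕ} (d : GData n) (z : Fin n → ℝ) (τ : ℂ) (y : Fin n → ℤ) : ℂ :=
  cexp (-(Real.pi * I) * ((d.Qd (fun i => (y i : ℝ) - z i) : ℝ) : ℂ) / τ)

end Cfsg.Agent.Lib.Helper7.Theta

end
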