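import Cfsg.Agent.Lib.Helper7.ThetaInv
import Cfsg.Agent.Lib.Helper26.ThetaA1
import Cfsg.Agent.Lib.Helper12.ThetaA2

/-!
# S1632 leaf A3, hypothesis-free: `theta_inversion` exactly as in `notes/S1632_leaves.lean`
(`ThetaInv.theta_inversion` with the landed leaves A1 (helper26) and A2 (helper12) plugged in).
-/

set_option autoImplicit false

noncomputable section

namespace Cfsg.Agent.Lib.Helper7.ThetaA3

open Complex Cfsg.Agent.Lib.Helper7.Theta
open scoped Real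

theorem theta_inversion {n : ℕ} (d : GData n) (hd : d.Pos) (z : Fin n → ℝ) (τ : ℂ)
    (hτ : 0 < τ.im) :
    Summable (thetaTerm d z τ) ∧ Summable (dualTerm d z τ) ∧
    ∑' x, thetaTerm d z τ x =
      (1 / (Real.sqrt d.P : ℂ)) * (1 / (-I * τ) ^ (1 / 2 : ℂ)) ^ n * ∑' y, dualTerm d z τ y :=
  Cfsg.Agent.Lib.Helper7.ThetaInv.theta_inversion
    (fun c hc s z τ hτ => Cfsg.Agent.Lib.Helper26.ThetaA1.one_dim c hc s z τ hτ)
    (fun d z τ x => Cfsg.Agent.Lib.Helper12.ThetaA2.norm_thetaTerm d z τ x)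
    (fun d z τ y => Cfsg.Agent.Lib.Helper12.ThetaA2.norm_dualTerm d z τ y)
    (fun d hd t ht => Cfsg.Agent.Lib.Helper12.ThetaA2.summable_exp_Q d hd t ht)
    (fun d hd t ht => Cfsg.Agent.Lib.Helper12.ThetaA2.summable_exp_Qd d hd t ht)
    d hd z τ hτ

end Cfsg.Agent.Lib.Helper7.ThetaA3

end
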