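import Mathlib

/-!
# Vocabulary for the market DHB (rank-3 S-rings over the dihedral group, character-free route)

`T = {r i | i ∈ X} ∪ {sr j | j ∈ Y} ⊆ DihedralGroup n`, `1 ∉ T`, `T = T⁻¹`, and the number of
`(t₁, t₂) ∈ T × T` with `t₁ t₂ = g` is `k / l / m` for `g = 1 / g ∈ T / otherwise`.
-/

set_option autoImplicit false

namespace Cfsg.Agent.Lib.Helper7.DHB

open Finset

/-- `rep S T i = #{(a, b) ∈ S × T : a + b = i}`. -/
def rep {n : ℕ} (S T : Finset (ZMod n)) (i : ZMod n) : ℕ :=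
  ((S ×ˢ T).filter (fun q => q.1 + q.2 = i)).card

/-- `dif S T i = #{(a, b) ∈ S × T : b - a = i}`. -/
def dif {n : ℕ} (S T : Finset (ZMod n)) (i : ZMod n) : ℕ :=
  ((S ×ˢ T).filter (fun q => q.2 - q.1 = i)).card

/-- The rank-3 dihedral data: `X = -X ∌ 0` and the two structure equations. -/
structure Hyp (n : ℕ) (X Y : Finset (ZMod n)) (k l m : ℕ) : Prop where
  zero_notMem : (0 : ZMod n) ∉ X
  neg_mem : ∀ i ∈ X, -i ∈ X
  E1 : ∀ i : ZMod n, rep X X i + dif Y Y i = if i = 0 then k else if i ∈ X then l else m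
  E2 : ∀ j : ZMod n, 2 * rep X Y j = if j ∈ Y then l else m

/-- the rotation part of the complementary basic set -/
def Xc {n : ℕ} [NeZero n] (X : Finset (ZMod n)) : Finset (ZMod n) := (Xᶜ).erase 0

/-- `S` is invariant under translation by `P = {t | p • t = 0}`. -/
def PInv {n : ℕ} (p : ℕ) (S : Finset (ZMod n)) : Prop :=
  ∀ i ∈ S, ∀ t : ZMod n, p • t = 0 → i + t ∈ S

/-- `S ∖ P` is invariant under translation by `P = {t | p • t = 0}`. -/
def PInvOff {n : ℕ} (p : ℕ) (S : Finset (ZMod n)) : Prop :=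
  ∀ i ∈ S, p • i ≠ 0 → ∀ t : ZMod n, p • t = 0 → i + t ∈ S

/-- `S` contains a point outside `p • ZMod n`. -/
def NotInMul {n : ℕ} (p : ℕ) (S : Finset (ZMod n)) : Prop :=
  ∃ i ∈ S, ¬ ∃ t : ZMod n, i = p • t

/-- the `0/1` element of the group algebra `R[ZMod n]` attached to `S`. -/
noncomputable def ind (R : Type*) [Semiring R] {n : ℕ} (S : Finset (ZMod n)) :
    AddMonoidAlgebra R (ZMod n) :=
  ∑ i ∈ S, AddMonoidAlgebra.single i 1

end Cfsg.Agent.Lib.Helper7.DHB
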