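import Mathlib
import Cfsg.Agent.Lib.Helper7.DHBDefs

/-!
# DHB-ALG: `E1`, `E2` as identities in the group algebra `AddMonoidAlgebra R (ZMod n)`
-/

set_option autoImplicit false
set_option linter.unusedSectionVars false

namespace Cfsg.Agent.Lib.Helper7.DHBALG

open Finset Cfsg.Agent.Lib.Helper7.DHB

variable {n : ℕ} [NeZero n] {X Y : Finset (ZMod n)} {k l m : ℕ}

section coeff

variable {R : Type*} [CommRing R]

/-- coefficients of the `0/1` element -/
theorem coeff_ind (S : Finset (ZMod n)) (i : ZMod n) :
    (ind R S).coeff i = if i ∈ S then 1 else 0 := by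
  unfold ind
  rw [AddMonoidAlgebra.coeff_sum, Finsupp.finsetSum_apply]
  simp only [AddMonoidAlgebra.coeff_single, Finsupp.single_apply]
  rw [Finset.sum_ite_eq' S i]

/-- coefficients of a product of two `0/1` elements -/
theorem coeff_ind_mul_ind (S T : Finset (ZMod n)) (i : ZMod n) :
    (ind R S * ind R T).coeff i = (rep S T i : R) := by
  unfold ind rep
  rw [Finset.sum_mul_sum]
  simp only [AddMonoidAlgebra.single_mul_single, mul_one]
  rw [AddMonoidAlgebra.coeff_sum, Finsupp.finsetSum_apply]
  simp only [AddMonoidAlgebra.coeff_sum, Finsupp.finsetSum_apply, AddMonoidAlgebra.coeff_single,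
    Finsupp.single_apply]
  rw [← Finset.sum_product', Finset.card_filter]
  push_cast
  rfl

theorem rep_image_neg (Y : Finset (ZMod n)) (i : ZMod n) :
    rep Y (Y.image Neg.neg) i = dif Y Y i := by
  unfold rep dif
  apply Finset.card_bij (fun q _ => (-q.2, q.1))
  · intro q hq
    rw [Finset.mem_filter, Finset.mem_product, Finset.mem_image] at hq
    obtain ⟨⟨h1, b, hb, hb2⟩, h3⟩ := hq
    rw [Finset.mem_filter, Finset.mem_product]
    refine ⟨⟨?_, h1⟩, ?_⟩
    · rw [← hb2, neg_neg]; exact hb
    · simp only [sub_neg_eq_add]; exact h3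
  · intro q _ q' _ h
    simp only [Prod.mk.injEq, neg_inj] at h
    exact Prod.ext h.2 h.1
  · intro q hq
    rw [Finset.mem_filter, Finset.mem_product] at hq
    refine ⟨(q.2, -q.1), ?_, ?_⟩
    · rw [Finset.mem_filter, Finset.mem_product, Finset.mem_image]
      refine ⟨⟨hq.1.2, q.1, hq.1.1, rfl⟩, ?_⟩
      simp only
      rw [← sub_eq_add_neg]; exact hq.2
    · simp

theorem single_mul_ind_univ (i : ZMod n) :
    AddMonoidAlgebra.single i (1 : R) * ind R (univ : Finset (ZMod n)) = ind R univ := by
  unfold ind
  rw [Finset.mul_sum]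
  simp only [AddMonoidAlgebra.single_mul_single, mul_one]
  exact Fintype.sum_equiv (Equiv.addLeft i) _ _ (fun j => rfl)

/-- `ind S * A = |S| • A` for the sum `A` of all group elements. -/
theorem ind_mul_univ (S : Finset (ZMod n)) :
    ind R S * ind R (univ : Finset (ZMod n)) = (S.card : R) • ind R univ := by
  conv_lhs => rw [ind, Finset.sum_mul]
  simp only [single_mul_ind_univ]
  rw [Finset.sum_const, ← Nat.cast_smul_eq_nsmul R]

end coeff

/-- **ALG**: `E1`, `E2` as identities in the group algebra over any commutative ring. -/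
theorem alg (R : Type*) [CommRing R] (h : Hyp n X Y k l m) :
    ind R X * ind R X + ind R Y * ind R (Y.image Neg.neg) =
        ((k : R) - m) • (1 : AddMonoidAlgebra R (ZMod n)) + ((l : R) - m) • ind R X + (m : R) • ind R univ ∧
    2 * (ind R X * ind R Y) = ((l : R) - m) • ind R Y + (m : R) • ind R univ := by
  constructor
  · apply AddMonoidAlgebra.ext
    ext i
    simp only [AddMonoidAlgebra.coeff_add, Finsupp.add_apply, AddMonoidAlgebra.coeff_smul,
      Finsupp.smul_apply, coeff_ind_mul_ind, coeff_ind, rep_image_neg, smul_eq_mul,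
      AddMonoidAlgebra.one_def, AddMonoidAlgebra.coeff_single, Finsupp.single_apply, Finset.mem_univ,
      if_true]
    have hE := h.E1 i
    have hE' : ((rep X X i + dif Y Y i : ℕ) : R) =
        ((if i = 0 then k else if i ∈ X then l else m : ℕ) : R) := by
      rw [hE]
    push_cast at hE'
    rw [hE']
    by_cases hi0 : i = 0
    · subst hi0
      simp [h.zero_notMem]
    · by_cases hiX : i ∈ X
      · simp [hi0, hiX, Ne.symm hi0]
      · simp [hi0, hiX, Ne.symm hi0]
  · apply AddMonoidAlgebra.ext
    ext j
    have h2 : (2 : AddMonoidAlgebra R (ZMod n)) * (ind R X * ind R Y) =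
        ind R X * ind R Y + ind R X * ind R Y := by ring
    rw [h2]
    simp only [AddMonoidAlgebra.coeff_add, Finsupp.add_apply, AddMonoidAlgebra.coeff_smul,
      Finsupp.smul_apply, coeff_ind_mul_ind, coeff_ind, smul_eq_mul, Finset.mem_univ, if_true]
    have hE := h.E2 j
    have hE' : ((2 * rep X Y j : ℕ) : R) = ((if j ∈ Y then l else m : ℕ) : R) := by rw [hE]
    push_cast at hE'
    by_cases hj : j ∈ Y
    · simp only [hj, if_true] at hE' ⊢
      linear_combination hE'
    · simp only [hj, if_false] at hE' ⊢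
      linear_combination hE'

end Cfsg.Agent.Lib.Helper7.DHBALG
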