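import Mathlib
import Cfsg.Agent.Lib.Helper7.DHBDefs
import Cfsg.Agent.Lib.Helper7.DHBALG
import Cfsg.Agent.Lib.Helper20.DHBPAR

/-!
# Lemma 2S (helper4's `notes/S3572_helper4_close.md`, E4) in `ZMod n` coordinates

`Xh = -Xh` non-empty inside a proper subgroup `B` of `ZMod n`, `Y` non-empty, and
`σ² = d' + λ H` for `σ = xh + y b`, i.e. `rep Xh Xh i + dif Y Y i = λ` for `i ≠ 0` and `2 rep Xh Y j = λ` for all `j`.
Then `n = 2` or `n = 8`.
-/

set_option autoImplicit false
set_option linter.unusedSectionVars false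

namespace Cfsg.Agent.Lib.Helper7.DHB2S

open Finset Cfsg.Agent.Lib.Helper7.DHB Cfsg.Agent.Lib.Helper7.DHBALG Cfsg.Agent.Lib.Helper20.DHBPAR

variable {n : ℕ} [NeZero n] {Xh Y : Finset (ZMod n)} {lam : ℕ}

/-- coefficients of `ind S * f`. -/
theorem coeff_ind_mul {R : Type*} [CommRing R] (S : Finset (ZMod n))
    (f : AddMonoidAlgebra R (ZMod n)) (i : ZMod n) :
    (ind R S * f).coeff i = ∑ a ∈ S, f.coeff (-a + i) := by
  unfold ind
  rw [Finset.sum_mul, AddMonoidAlgebra.coeff_sum, Finsupp.finsetSum_apply]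
  apply Finset.sum_congr rfl
  intro a _
  rw [AddMonoidAlgebra.coeff_single_mul_apply, one_mul]

/-- `2 ∑_{a ∈ Xh} dif Y Y (-a + i) = λ |Y|` for every `i`. -/
theorem sum_dif_shift (hE2 : ∀ j : ZMod n, 2 * rep Xh Y j = lam) (i : ZMod n) :
    2 * ∑ a ∈ Xh, dif Y Y (-a + i) = lam * Y.card := by
  have hI : (2 : AddMonoidAlgebra ℤ (ZMod n)) * (ind ℤ Xh * ind ℤ Y) = (lam : ℤ) • ind ℤ univ := by
    apply AddMonoidAlgebra.ext
    ext j
    have h2 : (2 : AddMonoidAlgebra ℤ (ZMod n)) * (ind ℤ Xh * ind ℤ Y) =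
        ind ℤ Xh * ind ℤ Y + ind ℤ Xh * ind ℤ Y := by ring
    rw [h2]
    simp only [AddMonoidAlgebra.coeff_add, Finsupp.add_apply, AddMonoidAlgebra.coeff_smul,
      Finsupp.smul_apply, coeff_ind_mul_ind, coeff_ind, smul_eq_mul, Finset.mem_univ, if_true, mul_one]
    have := hE2 j
    have h' : ((2 * rep Xh Y j : ℕ) : ℤ) = (lam : ℤ) := by rw [this]
    push_cast at h'
    linarith
  have hysA := ind_mul_univ (R := ℤ) (Y.image Neg.neg)
  rw [Finset.card_image_of_injective _ neg_injective] at hysA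
  have hE : (2 : AddMonoidAlgebra ℤ (ZMod n)) * (ind ℤ Xh * (ind ℤ Y * ind ℤ (Y.image Neg.neg))) =
      ((lam : ℤ) * (Y.card : ℤ)) • ind ℤ univ := by
    have : (2 : AddMonoidAlgebra ℤ (ZMod n)) * (ind ℤ Xh * (ind ℤ Y * ind ℤ (Y.image Neg.neg))) =
        ind ℤ (Y.image Neg.neg) * ((2 : AddMonoidAlgebra ℤ (ZMod n)) * (ind ℤ Xh * ind ℤ Y)) := by ring
    rw [this, hI, mul_smul_comm, hysA, smul_smul]
  have hcoef : (ind ℤ Xh * (ind ℤ Y * ind ℤ (Y.image Neg.neg))).coeff i =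
      ∑ a ∈ Xh, (dif Y Y (-a + i) : ℤ) := by
    rw [coeff_ind_mul]
    apply Finset.sum_congr rfl
    intro a _
    rw [coeff_ind_mul_ind, rep_image_neg]
  have hc := congrArg (fun f => f.coeff i) hE
  have h2 : (2 : AddMonoidAlgebra ℤ (ZMod n)) * (ind ℤ Xh * (ind ℤ Y * ind ℤ (Y.image Neg.neg))) =
      ind ℤ Xh * (ind ℤ Y * ind ℤ (Y.image Neg.neg)) +
        ind ℤ Xh * (ind ℤ Y * ind ℤ (Y.image Neg.neg)) := by ring
  simp only [h2, AddMonoidAlgebra.coeff_add, Finsupp.add_apply, hcoef,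
    AddMonoidAlgebra.coeff_smul, Finsupp.smul_apply, coeff_ind, smul_eq_mul,
    Finset.mem_univ, if_true, mul_one] at hc
  have : ((2 * ∑ a ∈ Xh, dif Y Y (-a + i) : ℕ) : ℤ) = ((lam * Y.card : ℕ) : ℤ) := by
    push_cast
    linarith
  exact_mod_cast this

/-- **Lemma 2S**. -/
theorem two_s (hneg : ∀ i ∈ Xh, -i ∈ Xh) (B : AddSubgroup (ZMod n)) (hB : B ≠ ⊤)
    (hXB : ∀ i ∈ Xh, i ∈ B) (hXh : Xh.Nonempty) (hY : Y.Nonempty)
    (hE1 : ∀ i : ZMod n, i ≠ 0 → rep Xh Xh i + dif Y Y i = lam)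
    (hE2 : ∀ j : ZMod n, 2 * rep Xh Y j = lam) : n = 2 ∨ n = 8 := by
  classical
  have hl : 0 < Xh.card := Finset.card_pos.mpr hXh
  have hv : 0 < Y.card := Finset.card_pos.mpr hY
  have hn : 0 < n := Nat.pos_of_ne_zero (NeZero.ne n)
  -- F1 : 2 l v = n λ
  have F1 : 2 * (Xh.card * Y.card) = n * lam := by
    rw [← sum_rep Xh Y, Finset.mul_sum]
    rw [Finset.sum_congr rfl (fun j _ => hE2 j), Finset.sum_const, Finset.card_univ, ZMod.card,
      smul_eq_mul]
  have hlam : 0 < lam := by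
    rcases Nat.eq_zero_or_pos lam with h0 | h0
    · rw [h0, mul_zero] at F1
      have : 0 < 2 * (Xh.card * Y.card) := by positivity
      omega
    · exact h0
  -- a point outside B
  obtain ⟨i₀, hi₀⟩ : ∃ i₀ : ZMod n, i₀ ∉ B := by
    by_contra hcon
    push Not at hcon
    exact hB (by rw [eq_top_iff]; intro x _; exact hcon x)
  have hrep0 : ∀ a ∈ Xh, rep Xh Xh (-a + i₀) = 0 ∧ -a + i₀ ≠ 0 := by
    intro a ha
    constructor
    · unfold rep
      rw [Finset.card_eq_zero, Finset.filter_eq_empty_iff]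
      intro q hq hsum
      rw [Finset.mem_product] at hq
      apply hi₀
      have : i₀ = a + (q.1 + q.2) := by rw [hsum]; abel
      rw [this]
      exact B.add_mem (hXB a ha) (B.add_mem (hXB _ hq.1) (hXB _ hq.2))
    · intro h0
      apply hi₀
      have : i₀ = a := by
        have := congrArg (fun t => a + t) h0
        simpa using this
      rw [this]
      exact hXB a ha
  -- F4 : 2 l λ = λ v
  have F4 : 2 * (Xh.card * lam) = lam * Y.card := by
    rw [← sum_dif_shift hE2 i₀]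
    congr 1
    rw [← smul_eq_mul, ← Finset.sum_const]
    apply Finset.sum_congr rfl
    intro a ha
    have h1 := hE1 (-a + i₀) (hrep0 a ha).2
    rw [(hrep0 a ha).1, zero_add] at h1
    exact h1.symm
  have hv2 : Y.card = 2 * Xh.card := by
    have : lam * (2 * Xh.card) = lam * Y.card := by rw [← F4]; ring
    exact (Nat.eq_of_mul_eq_mul_left hlam this).symm
  -- triple count
  have htrip : ∀ i : ZMod n, ∑ a ∈ Xh, (rep Xh Xh (-a + i) + dif Y Y (-a + i)) =
      if i ∈ Xh then (Xh.card - 1) * lam + (Xh.card + Y.card) else Xh.card * lam := by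
    intro i
    by_cases hi : i ∈ Xh
    · rw [if_pos hi, ← Finset.add_sum_erase Xh _ hi]
      have h0 : rep Xh Xh (-i + i) + dif Y Y (-i + i) = Xh.card + Y.card := by
        rw [neg_add_cancel, rep_self_zero hneg, dif_self_zero]
      rw [h0, add_comm]
      congr 1
      rw [Finset.sum_congr rfl (fun a ha => hE1 (-a + i) (by
        intro h0
        have : i = a := by
          have := congrArg (fun t => a + t) h0
          simpa using this
        exact (Finset.mem_erase.mp ha).1 this.symm)), Finset.sum_const, Finset.card_erase_of_mem hi,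
        smul_eq_mul]
    · rw [if_neg hi, Finset.sum_congr rfl (fun a ha => hE1 (-a + i) (by
        intro h0
        have : i = a := by
          have := congrArg (fun t => a + t) h0
          simpa using this
        exact hi (this ▸ ha))), Finset.sum_const, smul_eq_mul]
  -- t(i) = number of triples
  have htsum : ∑ i : ZMod n, ∑ a ∈ Xh, rep Xh Xh (-a + i) = Xh.card ^ 3 := by
    rw [Finset.sum_comm]
    have : ∀ a ∈ Xh, ∑ i : ZMod n, rep Xh Xh (-a + i) = Xh.card * Xh.card := by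
      intro a _
      rw [← sum_rep Xh Xh]
      exact Fintype.sum_equiv (Equiv.addLeft (-a)) _ _ (fun i => rfl)
    rw [Finset.sum_congr rfl this, Finset.sum_const, smul_eq_mul]
    ring
  -- pointwise: 2 t(i) + λ v = 2 * (htrip value)
  have hpt : ∀ i : ZMod n, 2 * ∑ a ∈ Xh, rep Xh Xh (-a + i) + lam * Y.card =
      2 * (if i ∈ Xh then (Xh.card - 1) * lam + (Xh.card + Y.card) else Xh.card * lam) := by
    intro i
    rw [← htrip i, Finset.sum_add_distrib, mul_add, sum_dif_shift hE2 i]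
  -- t(i) as integer
  have hti : ∀ i : ZMod n, ((∑ a ∈ Xh, rep Xh Xh (-a + i) : ℕ) : ℤ) =
      if i ∈ Xh then ((Xh.card : ℤ) + Y.card - lam) else 0 := by
    intro i
    have h := hpt i
    have h' : ((2 * ∑ a ∈ Xh, rep Xh Xh (-a + i) + lam * Y.card : ℕ) : ℤ) =
        ((2 * (if i ∈ Xh then (Xh.card - 1) * lam + (Xh.card + Y.card) else Xh.card * lam) : ℕ) : ℤ) := by
      rw [h]
    have F4' : (2 : ℤ) * ((Xh.card : ℤ) * lam) = (lam : ℤ) * Y.card := by exact_mod_cast F4
    by_cases hi : i ∈ Xh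
    · rw [if_pos hi] at h' ⊢
      have hl1 : ((Xh.card - 1 : ℕ) : ℤ) = (Xh.card : ℤ) - 1 := by
        rw [Nat.cast_sub hl]; simp
      push_cast at h' ⊢
      rw [hl1] at h'
      linarith
    · rw [if_neg hi] at h' ⊢
      push_cast at h' ⊢
      linarith
  have hsumZ : ((Xh.card : ℤ)) ^ 3 = (Xh.card : ℤ) * ((Xh.card : ℤ) + Y.card - lam) := by
    have h1 : ((∑ i : ZMod n, ∑ a ∈ Xh, rep Xh Xh (-a + i) : ℕ) : ℤ) = ((Xh.card ^ 3 : ℕ) : ℤ) := by
      rw [htsum]
    rw [Nat.cast_sum, Finset.sum_congr rfl (fun i _ => hti i)] at h1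
    rw [Finset.sum_ite_mem, Finset.univ_inter, Finset.sum_const, nsmul_eq_mul] at h1
    push_cast at h1
    linarith
  -- arithmetic
  have hlZ : (0 : ℤ) < Xh.card := by exact_mod_cast hl
  have hsq : ((Xh.card : ℤ)) ^ 2 = (Xh.card : ℤ) + Y.card - lam := by
    have : (Xh.card : ℤ) * ((Xh.card : ℤ)) ^ 2 = (Xh.card : ℤ) * ((Xh.card : ℤ) + Y.card - lam) := by
      rw [← hsumZ]; ring
    exact mul_left_cancel₀ (ne_of_gt hlZ) this
  have hvZ : (Y.card : ℤ) = 2 * Xh.card := by exact_mod_cast hv2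
  have F1Z : (2 : ℤ) * ((Xh.card : ℤ) * Y.card) = (n : ℤ) * lam := by exact_mod_cast F1
  have hlamZ : (lam : ℤ) = 3 * Xh.card - (Xh.card : ℤ) ^ 2 := by rw [hsq, hvZ]; ring
  have hkey : (n : ℤ) * (3 - Xh.card) = 4 * Xh.card := by
    have : (Xh.card : ℤ) * ((n : ℤ) * (3 - Xh.card)) = (Xh.card : ℤ) * (4 * Xh.card) := by
      rw [hvZ] at F1Z
      rw [hlamZ] at F1Z
      linarith
    exact mul_left_cancel₀ (ne_of_gt hlZ) this
  have hnZ : (0 : ℤ) < n := by exact_mod_cast hn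
  have hl3 : (Xh.card : ℤ) < 3 := by
    by_contra hcon
    push Not at hcon
    have : (n : ℤ) * (3 - Xh.card) ≤ 0 := mul_nonpos_of_nonneg_of_nonpos hnZ.le (by linarith)
    linarith
  have hcases : Xh.card = 1 ∨ Xh.card = 2 := by omega
  rcases hcases with h1 | h2
  · left
    rw [h1] at hkey
    push_cast at hkey
    omega
  · right
    rw [h2] at hkey
    push_cast at hkey
    omega

end Cfsg.Agent.Lib.Helper7.DHB2S
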