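import Mathlib
import Cfsg.Agent.Lib.Helper7.DHBDefs
import Cfsg.Agent.Lib.Helper7.DHBALG

/-!
# DHB-FROB: the `p`-th power of `M = !![x, y; y*, x]` computed in two ways
-/

set_option autoImplicit false
set_option linter.unusedSectionVars false

namespace Cfsg.Agent.Lib.Helper7.DHBFROB

open Finset Matrix Cfsg.Agent.Lib.Helper7.DHB Cfsg.Agent.Lib.Helper7.DHBALG

section matrix

variable {Λ : Type*} [CommRing Λ]

/-- `N = !![0, y; ys, 0]`, `N² = (y ys) • 1`. -/
theorem N_sq (y ys : Λ) :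
    (!![0, y; ys, 0] : Matrix (Fin 2) (Fin 2) Λ) ^ 2 = (y * ys) • (1 : Matrix (Fin 2) (Fin 2) Λ) := by
  ext i j
  fin_cases i <;> fin_cases j <;> simp [pow_two, Matrix.mul_apply, Fin.sum_univ_two, mul_comm]

theorem N_pow_odd (y ys : Λ) (q : ℕ) :
    (!![0, y; ys, 0] : Matrix (Fin 2) (Fin 2) Λ) ^ (2 * q + 1) =
      (y * ys) ^ q • (!![0, y; ys, 0] : Matrix (Fin 2) (Fin 2) Λ) := by
  rw [pow_succ, pow_mul, N_sq, smul_pow, one_pow, smul_mul_assoc, one_mul]

/-- In characteristic `p` (odd): `M^p = x^p I + (y ys)^((p-1)/2) N`. -/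
theorem M_pow_p {p : ℕ} [Fact p.Prime] [CharP Λ p] (hp2 : p ≠ 2) (x y ys : Λ) :
    (!![x, y; ys, x] : Matrix (Fin 2) (Fin 2) Λ) ^ p =
      (x ^ p) • (1 : Matrix (Fin 2) (Fin 2) Λ) +
        (y * ys) ^ ((p - 1) / 2) • (!![0, y; ys, 0] : Matrix (Fin 2) (Fin 2) Λ) := by
  have hp : p.Prime := Fact.out
  have hodd : p = 2 * ((p - 1) / 2) + 1 := by
    have h2 := hp.two_le
    rcases Nat.even_or_odd p with he | ho
    · exfalso
      have := (hp.eq_one_or_self_of_dvd 2 (even_iff_two_dvd.1 he))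
      omega
    · obtain ⟨r, hr⟩ := ho
      omega
  have hM : (!![x, y; ys, x] : Matrix (Fin 2) (Fin 2) Λ) =
      x • (1 : Matrix (Fin 2) (Fin 2) Λ) + !![0, y; ys, 0] := by
    ext i j
    fin_cases i <;> fin_cases j <;> simp
  have hchar : CharP (Matrix (Fin 2) (Fin 2) Λ) p := Matrix.charP p
  have hcomm : Commute (x • (1 : Matrix (Fin 2) (Fin 2) Λ))
      (!![0, y; ys, 0] : Matrix (Fin 2) (Fin 2) Λ) :=
    (Commute.one_left _).smul_left x
  rw [hM, add_pow_char_of_commute p hcomm, smul_pow, one_pow]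
  congr 1
  conv_lhs => rw [hodd]
  rw [N_pow_odd]

/-- the first row of `M^j` stays in `span {1, x, A} × span {y, A}`. -/
theorem row_span {F : Type*} [Field F] [Algebra F Λ] (x y ys A : Λ) (e1 e2 e3 a c : F)
    (hE1 : x * x + y * ys = e1 • (1 : Λ) + e2 • x + e3 • A)
    (hE2 : 2 * (x * y) = e2 • y + e3 • A)
    (hxA : x * A = a • A) (hyA : y * A = c • A) (hysA : ys * A = c • A) (j : ℕ) :
    ∃ α β γ : F,
      ((!![x, y; ys, x] : Matrix (Fin 2) (Fin 2) Λ) ^ j) 0 0 = α • (1 : Λ) + β • x + γ • A ∧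
      ((!![x, y; ys, x] : Matrix (Fin 2) (Fin 2) Λ) ^ j) 0 1 = β • y + γ • A := by
  induction j with
  | zero =>
    refine ⟨1, 0, 0, ?_, ?_⟩ <;> simp
  | succ j ih =>
    obtain ⟨α, β, γ, h00, h01⟩ := ih
    refine ⟨β * e1, α + β * e2, β * e3 + γ * (a + c), ?_, ?_⟩
    · rw [pow_succ, Matrix.mul_apply, Fin.sum_univ_two, h00, h01]
      simp only [Matrix.of_apply, Matrix.cons_val', Matrix.cons_val_zero, Matrix.cons_val_one,
        Matrix.empty_val', Matrix.cons_val_fin_one]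
      simp only [Algebra.smul_def] at hE1 hE2 hxA hyA hysA ⊢
      simp only [map_add, map_mul]
      linear_combination (algebraMap F Λ β) * hE1 + (algebraMap F Λ γ) * hxA +
        (algebraMap F Λ γ) * hysA
    · rw [pow_succ, Matrix.mul_apply, Fin.sum_univ_two, h00, h01]
      simp only [Matrix.of_apply, Matrix.cons_val', Matrix.cons_val_zero, Matrix.cons_val_one,
        Matrix.empty_val', Matrix.cons_val_fin_one]
      simp only [Algebra.smul_def] at hE1 hE2 hxA hyA hysA ⊢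
      simp only [map_add, map_mul]
      linear_combination (algebraMap F Λ β) * hE2 + (algebraMap F Λ γ) * hxA +
        (algebraMap F Λ γ) * hyA

end matrix

variable {n : ℕ} [NeZero n] {X Y : Finset (ZMod n)} {k l m : ℕ}

theorem charP_alg {p : ℕ} [Fact p.Prime] : CharP (AddMonoidAlgebra (ZMod p) (ZMod n)) p := by
  apply charP_of_injective_algebraMap (R := ZMod p)
  intro a b hab
  rw [AddMonoidAlgebra.coe_algebraMap] at hab
  simpa [AddMonoidAlgebra.single_inj] using hab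

/-- Frobenius on a `0/1` element. -/
theorem ind_pow_p {p : ℕ} [Fact p.Prime] (S : Finset (ZMod n)) :
    (ind (ZMod p) S) ^ p = ∑ i ∈ S, AddMonoidAlgebra.single (p • i) (1 : ZMod p) := by
  have := charP_alg (n := n) (p := p)
  unfold ind
  rw [sum_pow_char]
  simp [AddMonoidAlgebra.single_pow]

/-- **FROB**. -/
theorem frob {p : ℕ} [Fact p.Prime] (hp2 : p ≠ 2) (h : Hyp n X Y k l m) :
    ∃ α β γ : ZMod p,
      (∑ i ∈ X, AddMonoidAlgebra.single (p • i) (1 : ZMod p)) =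
        α • (1 : AddMonoidAlgebra (ZMod p) (ZMod n)) + β • ind (ZMod p) X + γ • ind (ZMod p) univ ∧
      (ind (ZMod p) Y * ind (ZMod p) (Y.image Neg.neg)) ^ ((p - 1) / 2) * ind (ZMod p) Y =
        β • ind (ZMod p) Y + γ • ind (ZMod p) univ := by
  have hchar := charP_alg (n := n) (p := p)
  obtain ⟨hE1, hE2⟩ := alg (ZMod p) h
  have hxA := ind_mul_univ (R := ZMod p) X
  have hyA := ind_mul_univ (R := ZMod p) Y
  have hysA := ind_mul_univ (R := ZMod p) (Y.image Neg.neg)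
  rw [Finset.card_image_of_injective _ neg_injective] at hysA
  obtain ⟨α, β, γ, h00, h01⟩ := row_span (ind (ZMod p) X) (ind (ZMod p) Y)
    (ind (ZMod p) (Y.image Neg.neg)) (ind (ZMod p) univ) ((k : ZMod p) - m) ((l : ZMod p) - m)
    (m : ZMod p) (X.card : ZMod p) (Y.card : ZMod p) hE1 hE2 hxA hyA hysA p
  rw [M_pow_p hp2] at h00 h01
  refine ⟨α, β, γ, ?_, ?_⟩
  · rw [← ind_pow_p, ← h00]
    simp
  · rw [← h01]
    simp

end Cfsg.Agent.Lib.Helper7.DHBFROB
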