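import Mathlib
import Cfsg.Agent.Lib.Helper7.DHBDefs
import Cfsg.Agent.Lib.Helper7.DHBALG
import Cfsg.Agent.Lib.Helper7.DHBFROB

/-!
# DHB-SCHUR: Schur's argument for the rotation part
-/

set_option autoImplicit false
set_option linter.unusedSectionVars false

namespace Cfsg.Agent.Lib.Helper7.DHBSCHUR

open Finset Cfsg.Agent.Lib.Helper7.DHB Cfsg.Agent.Lib.Helper7.DHBALG Cfsg.Agent.Lib.Helper7.DHBFROB

variable {n : ℕ} [NeZero n] {X Y : Finset (ZMod n)} {k l m : ℕ}

/-- coefficient of the Frobenius image of a `0/1` element -/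
theorem coeff_frob {p : ℕ} (S : Finset (ZMod n)) (u : ZMod n) :
    (∑ i ∈ S, AddMonoidAlgebra.single (p • i) (1 : ZMod p)).coeff u =
      ((S.filter (fun i => p • i = u)).card : ZMod p) := by
  rw [AddMonoidAlgebra.coeff_sum, Finsupp.finsetSum_apply]
  simp only [AddMonoidAlgebra.coeff_single, Finsupp.single_apply]
  rw [Finset.card_filter]
  push_cast
  rfl

/-- coefficient of `α • 1 + β • ind S + γ • ind univ` -/
theorem coeff_comb {p : ℕ} (α β γ : ZMod p) (S : Finset (ZMod n)) (u : ZMod n) :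
    (α • (1 : AddMonoidAlgebra (ZMod p) (ZMod n)) + β • ind (ZMod p) S +
      γ • ind (ZMod p) univ).coeff u =
      (if u = 0 then α else 0) + (if u ∈ S then β else 0) + γ := by
  simp only [AddMonoidAlgebra.coeff_add, Finsupp.add_apply, AddMonoidAlgebra.coeff_smul,
    Finsupp.smul_apply, coeff_ind, smul_eq_mul, AddMonoidAlgebra.one_def,
    AddMonoidAlgebra.coeff_single, Finsupp.single_apply, Finset.mem_univ, if_true, mul_one,
    mul_ite, mul_zero]
  congr 2
  by_cases hu : u = 0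
  · subst hu; simp
  · simp [hu, Ne.symm hu]

/-- the common part of SCHUR and DIV: outside `p • ZMod n` both colours occur, so `β = γ = 0`. -/
theorem beta_gamma_zero {p : ℕ} (α β γ : ZMod p)
    (h1 : (∑ i ∈ X, AddMonoidAlgebra.single (p • i) (1 : ZMod p)) =
        α • (1 : AddMonoidAlgebra (ZMod p) (ZMod n)) + β • ind (ZMod p) X + γ • ind (ZMod p) univ)
    (hX : NotInMul p X) (hX' : NotInMul p (Xc X)) : β = 0 ∧ γ = 0 := by
  obtain ⟨i₁, hi₁X, hi₁⟩ := hX
  obtain ⟨i₂, hi₂X, hi₂⟩ := hX'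
  have hz : ∀ u : ZMod n, (¬ ∃ t : ZMod n, u = p • t) →
      ((X.filter (fun i => p • i = u)).card : ZMod p) = 0 := by
    intro u hu
    have : X.filter (fun i => p • i = u) = ∅ := by
      rw [Finset.filter_eq_empty_iff]
      intro i _ hi
      exact hu ⟨i, hi.symm⟩
    rw [this]
    simp
  have hne0 : ∀ u : ZMod n, (¬ ∃ t : ZMod n, u = p • t) → u ≠ 0 := by
    rintro u hu rfl
    exact hu ⟨0, by simp⟩
  have e1 := congrArg (fun f => f.coeff i₁) h1
  have e2 := congrArg (fun f => f.coeff i₂) h1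
  simp only [coeff_frob, coeff_comb, hz i₁ hi₁, hz i₂ hi₂, if_neg (hne0 i₁ hi₁),
    if_neg (hne0 i₂ hi₂), if_pos hi₁X] at e1 e2
  have hi₂' : i₂ ∉ X := by
    unfold Xc at hi₂X
    rw [Finset.mem_erase, Finset.mem_compl] at hi₂X
    exact hi₂X.2
  rw [if_neg hi₂'] at e2
  have hγ : γ = 0 := by
    rw [zero_add, zero_add] at e2
    exact e2.symm
  refine ⟨?_, hγ⟩
  rw [hγ, zero_add, add_zero] at e1
  exact e1.symm

/-- **SCHUR**. -/
theorem schur {p : ℕ} [Fact p.Prime] (hp2 : p ≠ 2) (hpn : p ∣ n) (h : Hyp n X Y k l m)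
    (hX : NotInMul p X) (hX' : NotInMul p (Xc X)) : PInvOff p X := by
  have hp : p.Prime := Fact.out
  obtain ⟨α, β, γ, h1, -⟩ := frob (p := p) hp2 h
  obtain ⟨hβ, hγ⟩ := beta_gamma_zero α β γ h1 hX hX'
  intro i₀ hi₀ hpi₀ t ht
  have e := congrArg (fun f => f.coeff (p • i₀)) h1
  simp only [coeff_frob, coeff_comb, hβ, hγ, if_neg hpi₀, ite_self, add_zero] at e
  have hdvd : p ∣ (X.filter (fun i => p • i = p • i₀)).card :=
    (ZMod.natCast_eq_zero_iff _ _).1 e
  have hpos : 0 < (X.filter (fun i => p • i = p • i₀)).card :=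
    Finset.card_pos.2 ⟨i₀, Finset.mem_filter.2 ⟨hi₀, rfl⟩⟩
  have hge : p ≤ (X.filter (fun i => p • i = p • i₀)).card := Nat.le_of_dvd hpos hdvd
  have hP : (univ.filter (fun a : ZMod n => p • a = 0)).card ≤ p :=
    IsAddCyclic.card_nsmul_eq_zero_le hp.pos
  have hsub : X.filter (fun i => p • i = p • i₀) ⊆
      (univ.filter (fun a : ZMod n => p • a = 0)).image (fun a => i₀ + a) := by
    intro i hi
    rw [Finset.mem_filter] at hi
    rw [Finset.mem_image]
    refine ⟨i - i₀, ?_, by abel⟩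
    rw [Finset.mem_filter]
    refine ⟨Finset.mem_univ _, ?_⟩
    rw [smul_sub, hi.2, sub_self]
  have hcard_img : ((univ.filter (fun a : ZMod n => p • a = 0)).image (fun a => i₀ + a)).card ≤ p :=
    Finset.card_image_le.trans hP
  have heq := Finset.eq_of_subset_of_card_le hsub (hcard_img.trans hge)
  have hmem : i₀ + t ∈ (univ.filter (fun a : ZMod n => p • a = 0)).image (fun a => i₀ + a) :=
    Finset.mem_image_of_mem _ (Finset.mem_filter.2 ⟨Finset.mem_univ _, ht⟩)
  rw [← heq] at hmem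
  exact (Finset.mem_filter.1 hmem).1

end Cfsg.Agent.Lib.Helper7.DHBSCHUR
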