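import Mathlib
import Cfsg.Agent.Lib.Helper7.DHBDefs
import Cfsg.Agent.Lib.Helper7.DHBALG
import Cfsg.Agent.Lib.Helper7.DHBFROB
import Cfsg.Agent.Lib.Helper7.DHBSCHUR

/-!
# DHB-DIV (step F): if `l = m` then `p ∣ k - l`
-/

set_option autoImplicit false
set_option linter.unusedSectionVars false
set_option linter.unusedVariables false

namespace Cfsg.Agent.Lib.Helper7.DHBDIV

open Finset Cfsg.Agent.Lib.Helper7.DHB Cfsg.Agent.Lib.Helper7.DHBALG Cfsg.Agent.Lib.Helper7.DHBFROB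
  Cfsg.Agent.Lib.Helper7.DHBSCHUR

/-- abstract form of the recursion `w^j y = κ^j y + c_j A`. -/
theorem pow_mul_eq {F Λ : Type*} [Field F] [CommRing Λ] [Algebra F Λ] (x y ys A : Λ)
    (κ μ a c half : F) (hhalf : half * 2 = 1)
    (hE1 : x * x + y * ys = κ • (1 : Λ) + μ • A)
    (hE2 : 2 * (x * y) = μ • A)
    (hxA : x * A = a • A) (hyA : y * A = c • A) (hysA : ys * A = c • A) (j : ℕ) :
    ∃ cj : F, (y * ys) ^ j * y = (κ ^ j) • y + cj • A := by
  have hxy : x * y = (half * μ) • A := by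
    have : (half * 2 : F) • (x * y) = half • (2 * (x * y)) := by
      rw [mul_smul]
      congr 1
      rw [two_smul, two_mul]
    rw [hhalf, one_smul] at this
    rw [this, hE2, smul_smul]
  induction j with
  | zero => exact ⟨0, by simp⟩
  | succ j ih =>
    obtain ⟨cj, hcj⟩ := ih
    refine ⟨κ ^ j * (μ * c - half * μ * a) + cj * (c * c), ?_⟩
    rw [pow_succ]
    simp only [Algebra.smul_def] at hE1 hxA hyA hysA hxy hcj ⊢
    simp only [map_add, map_mul, map_sub, map_pow] at hxy hcj ⊢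
    have hwy : y * (y * ys) = algebraMap F Λ κ * y +
        (algebraMap F Λ μ * algebraMap F Λ c -
          algebraMap F Λ half * algebraMap F Λ μ * algebraMap F Λ a) * A := by
      linear_combination y * hE1 + (algebraMap F Λ μ) * hyA - x * hxy -
        (algebraMap F Λ half * algebraMap F Λ μ) * hxA
    have hwA : A * (y * ys) = algebraMap F Λ c * algebraMap F Λ c * A := by
      linear_combination ys * hyA + (algebraMap F Λ c) * hysA
    linear_combination (y * ys) * hcj + (algebraMap F Λ κ) ^ j * hwy + (algebraMap F Λ cj) * hwA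

variable {n : ℕ} [NeZero n] {X Y : Finset (ZMod n)} {k l m : ℕ}

/-- **DIV**. -/
theorem dvd_sub {p : ℕ} [Fact p.Prime] (hp2 : p ≠ 2) (hpn : p ∣ n) (h : Hyp n X Y k l m) (hlm : l = m)
    (hX : NotInMul p X) (hX' : NotInMul p (Xc X)) (hY : Y.Nonempty) (hY' : (Yᶜ).Nonempty) :
    (p : ℤ) ∣ (k : ℤ) - l := by
  subst hlm
  have hp : p.Prime := Fact.out
  obtain ⟨α, β, γ, h1, h2⟩ := frob (p := p) hp2 h
  obtain ⟨hβ, hγ⟩ := beta_gamma_zero α β γ h1 hX hX'
  rw [hβ, hγ, zero_smul, zero_smul, add_zero] at h2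
  obtain ⟨hE1, hE2⟩ := alg (ZMod p) h
  rw [sub_self, zero_smul, add_zero] at hE1
  rw [sub_self, zero_smul, zero_add] at hE2
  have hxA := ind_mul_univ (R := ZMod p) X
  have hyA := ind_mul_univ (R := ZMod p) Y
  have hysA := ind_mul_univ (R := ZMod p) (Y.image Neg.neg)
  rw [Finset.card_image_of_injective _ neg_injective] at hysA
  have h2ne : (2 : ZMod p) ≠ 0 := by
    intro h0
    have : ((2 : ℕ) : ZMod p) = 0 := by exact_mod_cast h0
    rw [ZMod.natCast_eq_zero_iff] at this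
    have := (Nat.prime_dvd_prime_iff_eq hp Nat.prime_two).1 this
    exact hp2 this
  obtain ⟨cq, hcq⟩ := pow_mul_eq (ind (ZMod p) X) (ind (ZMod p) Y) (ind (ZMod p) (Y.image Neg.neg))
    (ind (ZMod p) univ) ((k : ZMod p) - l) (l : ZMod p) (X.card : ZMod p) (Y.card : ZMod p)
    ((2 : ZMod p)⁻¹) (inv_mul_cancel₀ h2ne) hE1 hE2 hxA hyA hysA ((p - 1) / 2)
  rw [h2] at hcq
  obtain ⟨j₁, hj₁⟩ := hY
  obtain ⟨j₀, hj₀⟩ := hY'
  rw [Finset.mem_compl] at hj₀
  have e0 := congrArg (fun f => f.coeff j₀) hcq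
  have e1 := congrArg (fun f => f.coeff j₁) hcq
  simp only [AddMonoidAlgebra.coeff_add, Finsupp.add_apply, AddMonoidAlgebra.coeff_smul,
    Finsupp.smul_apply, coeff_ind, smul_eq_mul, Finset.mem_univ, if_true, if_neg hj₀, if_pos hj₁,
    mul_zero, mul_one, zero_add] at e0 e1
  have hz : (0 : AddMonoidAlgebra (ZMod p) (ZMod n)).coeff = 0 := rfl
  rw [hz, Finsupp.zero_apply] at e0 e1
  rw [← e0, add_zero] at e1
  have hq0 : (p - 1) / 2 ≠ 0 := by
    have := hp.two_le
    have : 3 ≤ p := by omega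
    omega
  have hκ : ((k : ZMod p) - l) = 0 := (pow_eq_zero_iff hq0).1 e1.symm
  have : ((k - l : ℤ) : ZMod p) = 0 := by
    push_cast
    exact hκ
  exact (ZMod.intCast_zmod_eq_zero_iff_dvd _ _).1 this

end Cfsg.Agent.Lib.Helper7.DHBDIV
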