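import Mathlib
import Cfsg.Agent.Lib.Helper7.DHBDefs
import Cfsg.Agent.Lib.Helper7.DHBALG
import Cfsg.Agent.Lib.Helper7.DHBDIV

/-!
# DHB-DIV, second form (for the general-rank Wielandt theorem S3572, Lemma G(p))

`dvd_sub_of_pow_zero`: in a reversible difference set `Hyp n X Y k l l` over the dihedral group, if
`(y y*)^((p-1)/2) y = 0` in `F_p[ZMod n]` (the `b`-part of `τ^p` vanishes mod `p`), then `p ∣ k - l`.
Same proof as `DHBDIV.dvd_sub`, with the vanishing as a hypothesis (no `NotInMul`, no `p ∣ n` needed).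
-/

set_option autoImplicit false
set_option linter.unusedSectionVars false

namespace Cfsg.Agent.Lib.Helper7.DHBDIV2

open Finset Cfsg.Agent.Lib.Helper7.DHB Cfsg.Agent.Lib.Helper7.DHBALG Cfsg.Agent.Lib.Helper7.DHBDIV

variable {n : ℕ} [NeZero n] {X Y : Finset (ZMod n)} {k l m : ℕ}

/-- **DIV'**: `l = m`, `Y ≠ ∅`, `Y ≠ univ`, and `(y y*)^((p-1)/2) y = 0` over `ZMod p` give `p ∣ k - l`. -/
theorem dvd_sub_of_pow_zero {p : ℕ} [Fact p.Prime] (hp2 : p ≠ 2) (h : Hyp n X Y k l m) (hlm : l = m)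
    (hY : Y.Nonempty) (hY' : (Yᶜ).Nonempty)
    (h2 : (ind (ZMod p) Y * ind (ZMod p) (Y.image Neg.neg)) ^ ((p - 1) / 2) * ind (ZMod p) Y = 0) :
    (p : ℤ) ∣ (k : ℤ) - l := by
  subst hlm
  have hp : p.Prime := Fact.out
  obtain ⟨hE1, hE2⟩ := alg (ZMod p) h
  rw [sub_self, zero_smul, add_zero] at hE1
  rw [sub_self, zero_smul, zero_add] at hE2
  have hxA := ind_mul_univ (R := ZMod p) X
  have hyA := ind_mul_univ (R := ZMod p) Y
  have hysA := ind_mul_univ (R := ZMod p) (Y.image Neg.neg)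
  rw [Finset.card_image_of_injective _ neg_injective] at hysA
  have h2ne : (2 : ZMod p) ≠ 0 := by
    intro h0
    have : ((2 : ℕ) : ZMod p) = 0 := by exact_mod_cast h0
    rw [ZMod.natCast_eq_zero_iff] at this
    have := (Nat.prime_dvd_prime_iff_eq hp Nat.prime_two).1 this
    exact hp2 this
  obtain ⟨cq, hcq⟩ := pow_mul_eq (ind (ZMod p) X) (ind (ZMod p) Y) (ind (ZMod p) (Y.image Neg.neg))
    (ind (ZMod p) univ) ((k : ZMod p) - l) (l : ZMod p) (X.card : ZMod p) (Y.card : ZMod p)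
    ((2 : ZMod p)⁻¹) (inv_mul_cancel₀ h2ne) hE1 hE2 hxA hyA hysA ((p - 1) / 2)
  rw [h2] at hcq
  obtain ⟨j₁, hj₁⟩ := hY
  obtain ⟨j₀, hj₀⟩ := hY'
  rw [Finset.mem_compl] at hj₀
  have e0 := congrArg (fun f => f.coeff j₀) hcq
  have e1 := congrArg (fun f => f.coeff j₁) hcq
  simp only [AddMonoidAlgebra.coeff_add, Finsupp.add_apply, AddMonoidAlgebra.coeff_smul,
    Finsupp.smul_apply, coeff_ind, smul_eq_mul, Finset.mem_univ, if_true, if_neg hj₀, if_pos hj₁,
    mul_zero, mul_one, zero_add] at e0 e1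
  have hz : (0 : AddMonoidAlgebra (ZMod p) (ZMod n)).coeff = 0 := rfl
  rw [hz, Finsupp.zero_apply] at e0 e1
  rw [← e0, add_zero] at e1
  have hq0 : (p - 1) / 2 ≠ 0 := by
    have := hp.two_le
    have : 3 ≤ p := by omega
    omega
  have hκ : ((k : ZMod p) - l) = 0 := (pow_eq_zero_iff hq0).1 e1.symm
  have : ((k - l : ℤ) : ZMod p) = 0 := by
    push_cast
    exact hκ
  exact (ZMod.intCast_zmod_eq_zero_iff_dvd _ _).1 this

end Cfsg.Agent.Lib.Helper7.DHBDIV2
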