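import Mathlib
import Cfsg.Agent.Lib.Helper7.DHBDefs
import Cfsg.Agent.Lib.Helper7.DHBDIV2
import Cfsg.Agent.Lib.Helper29.DHBFIN

/-!
# Lemma G(p) of `notes/S3572_helper21_partial.md` in `ZMod n` coordinates

A reversible difference set `T = X ∪ Y b` in the dihedral group (`Hyp n X Y k l l`: `|T ∩ hT| = l` for all `h ≠ 1`)
with `X` invariant under the subgroup `P` of order `p` (`p` an odd prime dividing `n`), `X, Y, Yᶜ` non-empty, and
`(y y*)^((p-1)/2) y = 0` in `F_p[ZMod n]` (the `b`-part of `τ^p` vanishes mod `p`) does not exist.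
-/

set_option autoImplicit false
set_option linter.unusedSectionVars false

namespace Cfsg.Agent.Lib.Helper7.DHBGP

open Finset Cfsg.Agent.Lib.Helper7.DHB

variable {n : ℕ} [NeZero n] {X Y : Finset (ZMod n)} {k l : ℕ}

/-- **G(p), abstract form**. -/
theorem gp {p : ℕ} (hp : p.Prime) (hp3 : 3 ≤ p) (hpn : p ∣ n) (h : Hyp n X Y k l l)
    (hXinv : PInv p X) (hX : X.Nonempty) (hY : Y.Nonempty) (hY' : (Yᶜ).Nonempty)
    (h2 : (ind (ZMod p) Y * ind (ZMod p) (Y.image Neg.neg)) ^ ((p - 1) / 2) * ind (ZMod p) Y = 0) :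
    False := by
  haveI : Fact p.Prime := ⟨hp⟩
  have hp2 : p ≠ 2 := by omega
  exact Cfsg.Agent.Lib.Helper29.DHBFIN.fin_contra hp hp3 hpn h rfl hXinv hX hY hY'
    (Cfsg.Agent.Lib.Helper7.DHBDIV2.dvd_sub_of_pow_zero hp2 h rfl hY hY' h2)

end Cfsg.Agent.Lib.Helper7.DHBGP
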