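import Mathlib
import Cfsg.Agent.Lib.Helper7.DHBDefs

/-!
# DHB-SQ (step C), counting version

If `X ∖ P` and `Y` are `P`-invariant then `X ∩ P = ∅` or `X ⊇ P ∖ 0`.
Exact counting: `p ∣ m`, `p ∣ |X ∖ P|`, `p ∣ |Y|`, and `E1` at `z ∈ P ∖ 0 ∖ X` reads
`rep X_P X_P z + |X ∖ P| + |Y| = m`, so `rep X_P X_P z = 0`; then `X_P ∪ 0` is closed under addition.
-/

set_option autoImplicit false
set_option linter.unusedSectionVars false
set_option linter.unusedVariables false

namespace Cfsg.Agent.Lib.Helper7.DHBSQ

open Finset Cfsg.Agent.Lib.Helper7.DHB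

variable {n : ℕ} [NeZero n]

/-- `P = {t | p • t = 0}` has exactly `p` elements when `p ∣ n`. -/
theorem card_P {p : ℕ} (hp : p.Prime) (hpn : p ∣ n) :
    (univ.filter (fun t : ZMod n => p • t = 0)).card = p := by
  apply le_antisymm (IsAddCyclic.card_nsmul_eq_zero_le hp.pos)
  have : Fact p.Prime := ⟨hp⟩
  have hcard : p ∣ Fintype.card (ZMod n) := by rwa [ZMod.card]
  obtain ⟨t₀, ht₀⟩ := exists_prime_addOrderOf_dvd_card p hcard
  have hinj : Set.InjOn (fun j : ℕ => j • t₀) (Finset.range p : Set ℕ) := by
    have := nsmul_injOn_Iio_addOrderOf (x := t₀)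
    rw [ht₀] at this
    intro a ha b hb hab
    exact this (by simpa using ha) (by simpa using hb) hab
  calc p = (Finset.range p).card := (Finset.card_range p).symm
    _ = ((Finset.range p).image (fun j : ℕ => j • t₀)).card :=
        (Finset.card_image_of_injOn hinj).symm
    _ ≤ _ := by
      apply Finset.card_le_card
      intro x hx
      rw [Finset.mem_image] at hx
      obtain ⟨j, _, rfl⟩ := hx
      rw [Finset.mem_filter]
      refine ⟨Finset.mem_univ _, ?_⟩
      rw [smul_comm, ← ht₀, addOrderOf_nsmul_eq_zero, smul_zero]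

/-- **D1**: a `P`-invariant set has cardinality divisible by `p`. -/
theorem dvd_card_of_pinv {p : ℕ} (hp : p.Prime) (hpn : p ∣ n) {S : Finset (ZMod n)}
    (hS : PInv p S) : p ∣ S.card := by
  rw [Finset.card_eq_sum_card_image (fun a : ZMod n => p • a) S]
  apply Finset.dvd_sum
  intro v hv
  rw [Finset.mem_image] at hv
  obtain ⟨a₀, ha₀, rfl⟩ := hv
  have : S.filter (fun a => p • a = p • a₀) =
      (univ.filter (fun t : ZMod n => p • t = 0)).image (fun t => a₀ + t) := by
    ext a
    rw [Finset.mem_filter, Finset.mem_image]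
    constructor
    · rintro ⟨_, ha⟩
      refine ⟨a - a₀, ?_, by abel⟩
      rw [Finset.mem_filter]
      exact ⟨Finset.mem_univ _, by rw [smul_sub, ha, sub_self]⟩
    · rintro ⟨t, ht, rfl⟩
      rw [Finset.mem_filter] at ht
      exact ⟨hS a₀ ha₀ t ht.2, by rw [smul_add, ht.2, add_zero]⟩
  rw [this, Finset.card_image_of_injective _ (add_right_injective a₀), card_P hp hpn]

theorem rep_eq_card (S T : Finset (ZMod n)) (u : ZMod n) :
    rep S T u = (S.filter (fun a => u - a ∈ T)).card := by
  unfold rep
  apply Finset.card_bij (fun q _ => q.1)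
  · intro q hq
    rw [Finset.mem_filter, Finset.mem_product] at hq
    rw [Finset.mem_filter]
    refine ⟨hq.1.1, ?_⟩
    rw [← hq.2, add_sub_cancel_left]
    exact hq.1.2
  · intro q hq q' hq' h
    rw [Finset.mem_filter] at hq hq'
    apply Prod.ext h
    have h1 := hq.2
    have h2 := hq'.2
    rw [h] at h1
    exact add_left_cancel (h1.trans h2.symm)
  · intro a ha
    rw [Finset.mem_filter] at ha
    refine ⟨(a, u - a), ?_, rfl⟩
    rw [Finset.mem_filter, Finset.mem_product]
    exact ⟨⟨ha.1, ha.2⟩, by simp⟩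

theorem dif_eq_card (S T : Finset (ZMod n)) (z : ZMod n) :
    dif S T z = (S.filter (fun a => a + z ∈ T)).card := by
  unfold dif
  apply Finset.card_bij (fun q _ => q.1)
  · intro q hq
    rw [Finset.mem_filter, Finset.mem_product] at hq
    rw [Finset.mem_filter]
    refine ⟨hq.1.1, ?_⟩
    rw [← hq.2, add_sub_cancel]
    exact hq.1.2
  · intro q hq q' hq' h
    rw [Finset.mem_filter] at hq hq'
    apply Prod.ext h
    have h1 := hq.2
    have h2 := hq'.2
    rw [h] at h1
    exact sub_left_injective (h1.trans h2.symm)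
  · intro a ha
    rw [Finset.mem_filter] at ha
    refine ⟨(a, a + z), ?_, rfl⟩
    rw [Finset.mem_filter, Finset.mem_product]
    exact ⟨⟨ha.1, ha.2⟩, by simp⟩

/-- splitting a filtered count along a predicate -/
theorem card_filter_split (S : Finset (ZMod n)) (q r : ZMod n → Prop) [DecidablePred q]
    [DecidablePred r] :
    (S.filter r).card = ((S.filter q).filter r).card + ((S.filter (fun a => ¬ q a)).filter r).card := by
  rw [Finset.filter_filter, Finset.filter_filter]
  rw [← Finset.card_union_of_disjoint]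
  · congr 1
    ext a
    simp only [Finset.mem_filter, Finset.mem_union]
    tauto
  · rw [Finset.disjoint_left]
    intro a ha hb
    simp only [Finset.mem_filter] at ha hb
    exact hb.2.1 ha.2.1

variable {X Y : Finset (ZMod n)} {k l m : ℕ}

/-- **SQ**. -/
theorem sq {p : ℕ} [Fact p.Prime] (hp2 : p ≠ 2) (hpn : p ∣ n) (h : Hyp n X Y k l m)
    (hXinv : PInvOff p X) (hYinv : PInv p Y) (hY : Y.Nonempty) (hY' : (Yᶜ).Nonempty) :
    (∀ t : ZMod n, p • t = 0 → t ∉ X) ∨ (∀ t : ZMod n, p • t = 0 → t ≠ 0 → t ∈ X) := by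
  have hp : p.Prime := Fact.out
  by_contra hcon
  push Not at hcon
  obtain ⟨⟨s, hsP, hsX⟩, ⟨z₀, hz₀P, hz₀0, hz₀X⟩⟩ := hcon
  -- notation
  obtain ⟨XP, hXP⟩ : ∃ XP : Finset (ZMod n), XP = X.filter (fun t => p • t = 0) := ⟨_, rfl⟩
  obtain ⟨Xo, hXo⟩ : ∃ Xo : Finset (ZMod n), Xo = X.filter (fun t => ¬ p • t = 0) := ⟨_, rfl⟩
  have memXP : ∀ a, a ∈ XP ↔ a ∈ X ∧ p • a = 0 := by
    intro a; rw [hXP, Finset.mem_filter]
  have memXo : ∀ a, a ∈ Xo ↔ a ∈ X ∧ ¬ p • a = 0 := by
    intro a; rw [hXo, Finset.mem_filter]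
  have hXoinv : PInv p Xo := by
    intro i hi t ht
    rw [memXo] at hi ⊢
    refine ⟨hXinv i hi.1 hi.2 t ht, ?_⟩
    rw [smul_add, ht, add_zero]
    exact hi.2
  have hYneg : ∀ j ∈ Y, ∀ t : ZMod n, p • t = 0 → j - t ∈ Y := by
    intro j hj t ht
    have := hYinv j hj (-t) (by rw [smul_neg, ht, neg_zero])
    rwa [← sub_eq_add_neg] at this
  -- p ∣ m
  have hpm : p ∣ m := by
    obtain ⟨u, hu⟩ := hY'
    rw [Finset.mem_compl] at hu
    have hE2 := h.E2 u
    rw [if_neg hu] at hE2
    have hrep : rep X Y u = (Xo.filter (fun a => u - a ∈ Y)).card := by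
      rw [rep_eq_card, card_filter_split X (fun t => p • t = 0) (fun a => u - a ∈ Y), ← hXP, ← hXo]
      have : XP.filter (fun a => u - a ∈ Y) = ∅ := by
        rw [Finset.filter_eq_empty_iff]
        intro a ha hua
        rw [memXP] at ha
        apply hu
        have := hYinv _ hua a ha.2
        rwa [sub_add_cancel] at this
      rw [this, Finset.card_empty, zero_add]
    have hinv : PInv p (Xo.filter (fun a => u - a ∈ Y)) := by
      intro i hi t ht
      rw [Finset.mem_filter] at hi ⊢
      refine ⟨hXoinv i hi.1 t ht, ?_⟩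
      have := hYneg _ hi.2 t ht
      rwa [sub_sub] at this
    have := dvd_card_of_pinv hp hpn hinv
    rw [← hrep] at this
    rw [← hE2]
    exact Dvd.dvd.mul_left this 2
  have hpXo : p ∣ Xo.card := dvd_card_of_pinv hp hpn hXoinv
  have hpY : p ∣ Y.card := dvd_card_of_pinv hp hpn hYinv
  -- the key vanishing
  have hvan : ∀ z : ZMod n, p • z = 0 → z ≠ 0 → z ∉ X → rep XP XP z = 0 := by
    intro z hzP hz0 hzX
    have hE1 := h.E1 z
    rw [if_neg hz0, if_neg hzX] at hE1
    have hdif : dif Y Y z = Y.card := by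
      rw [dif_eq_card]
      congr 1
      rw [Finset.filter_eq_self]
      intro a ha
      exact hYinv a ha z hzP
    have hrep : rep X X z = rep XP XP z + Xo.card := by
      rw [rep_eq_card, card_filter_split X (fun t => p • t = 0) (fun a => z - a ∈ X), ← hXP, ← hXo]
      congr 1
      · rw [rep_eq_card]
        congr 1
        apply Finset.filter_congr
        intro a ha
        rw [memXP] at ha
        rw [memXP]
        constructor
        · intro hza
          exact ⟨hza, by rw [smul_sub, hzP, ha.2, sub_zero]⟩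
        · exact fun hza => hza.1
      · congr 1
        rw [Finset.filter_eq_self]
        intro a ha
        have hneg : -a ∈ Xo := by
          rw [memXo] at ha ⊢
          exact ⟨h.neg_mem a ha.1, by rw [smul_neg, neg_eq_zero]; exact ha.2⟩
        have := hXoinv _ hneg z hzP
        rw [memXo] at this
        have h2 := this.1
        rwa [neg_add_eq_sub] at h2
    rw [hrep, hdif] at hE1
    have hdvd : p ∣ rep XP XP z := by
      have h1 : p ∣ rep XP XP z + Xo.card + Y.card := by rw [hE1]; exact hpm
      have h2 : p ∣ rep XP XP z + Xo.card := (Nat.dvd_add_iff_left hpY).2 h1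
      exact (Nat.dvd_add_iff_left hpXo).2 h2
    have hle : rep XP XP z ≤ XP.card := by
      rw [rep_eq_card]
      exact Finset.card_filter_le _ _
    have hXPle : XP.card < p := by
      have hsub : XP ⊆ (univ.filter (fun t : ZMod n => p • t = 0)).erase 0 := by
        intro a ha
        rw [memXP] at ha
        rw [Finset.mem_erase, Finset.mem_filter]
        exact ⟨fun h0 => h.zero_notMem (h0 ▸ ha.1), Finset.mem_univ _, ha.2⟩
      have := Finset.card_le_card hsub
      rw [Finset.card_erase_of_mem (by simp), card_P hp hpn] at this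
      have := hp.two_le
      omega
    exact Nat.eq_zero_of_dvd_of_lt hdvd (lt_of_le_of_lt hle hXPle)
  -- closure: all multiples j • s, 1 ≤ j < p, lie in XP
  have hs0 : s ≠ 0 := fun h0 => h.zero_notMem (h0 ▸ hsX)
  have hord : addOrderOf s = p := addOrderOf_eq_prime hsP hs0
  have hmul : ∀ j : ℕ, 1 ≤ j → j < p → j • s ∈ XP := by
    intro j hj1
    induction j, hj1 using Nat.le_induction with
    | base =>
      intro _
      rw [one_smul, memXP]
      exact ⟨hsX, hsP⟩
    | succ j hj ih =>
      intro hjp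
      have hjs := ih (by omega)
      have hP' : p • ((j + 1) • s) = 0 := by rw [smul_comm, hsP, smul_zero]
      have hne : (j + 1) • s ≠ 0 := by
        intro h0
        have := addOrderOf_dvd_of_nsmul_eq_zero h0
        rw [hord] at this
        have := Nat.le_of_dvd (by omega) this
        omega
      rw [memXP]
      refine ⟨?_, hP'⟩
      by_contra hnX
      have h0 := hvan _ hP' hne hnX
      rw [rep_eq_card, Finset.card_eq_zero, Finset.filter_eq_empty_iff] at h0
      apply h0 hjs
      have : (j + 1) • s - j • s = s := by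
        rw [succ_nsmul]; abel
      rw [this, memXP]
      exact ⟨hsX, hsP⟩
  -- every element of P is a multiple of s
  have hinj : Set.InjOn (fun j : ℕ => j • s) (Finset.range p : Set ℕ) := by
    have := nsmul_injOn_Iio_addOrderOf (x := s)
    rw [hord] at this
    intro a ha b hb hab
    exact this (by simpa using ha) (by simpa using hb) hab
  have himg : (Finset.range p).image (fun j : ℕ => j • s) =
      univ.filter (fun t : ZMod n => p • t = 0) := by
    apply Finset.eq_of_subset_of_card_le
    · intro x hx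
      rw [Finset.mem_image] at hx
      obtain ⟨j, _, rfl⟩ := hx
      rw [Finset.mem_filter]
      exact ⟨Finset.mem_univ _, by rw [smul_comm, hsP, smul_zero]⟩
    · rw [card_P hp hpn, Finset.card_image_of_injOn hinj, Finset.card_range]
  have hz₀mem : z₀ ∈ (Finset.range p).image (fun j : ℕ => j • s) := by
    rw [himg, Finset.mem_filter]
    exact ⟨Finset.mem_univ _, hz₀P⟩
  rw [Finset.mem_image] at hz₀mem
  obtain ⟨j, hj, rfl⟩ := hz₀mem
  rw [Finset.mem_range] at hj
  have hj1 : 1 ≤ j := by
    rcases Nat.eq_zero_or_pos j with h0 | h0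
    · subst h0
      exact absurd (zero_smul ℕ s) hz₀0
    · exact h0
  exact hz₀X ((memXP _).1 (hmul j hj1 hj)).1

end Cfsg.Agent.Lib.Helper7.DHBSQ
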