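import Mathlib
import Cfsg.Agent.Lib.Helper14.SylA.Defs

/-!
S2221 leaf W5 (helper14 market): level one, `C2` acting on itself.
-/

set_option autoImplicit false
open scoped commutatorElement

namespace Cfsg.Agent.Lib.Helper7.SylALeaf

open Cfsg.Agent.Lib.Helper14.SylA RegularWreathProduct

theorem sylA_card_C2 : Fintype.card C2 = 2 := by
  rw [Fintype.card_multiplicative, ZMod.card]

theorem sylA_sgn_gen : sgnOf C2 C2 (Multiplicative.ofAdd (1 : ZMod 2)) = -1 := by
  rw [sgnOf_apply]
  have h : (MulAction.toPerm (Multiplicative.ofAdd (1 : ZMod 2)) : Equiv.Perm C2) =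
      Equiv.swap (1 : C2) (Multiplicative.ofAdd (1 : ZMod 2)) := by
    ext x
    revert x
    decide
  rw [h, Equiv.Perm.sign_swap]
  decide

/-- W5: level one: `C2` acting on itself. -/
theorem isLevel_one : IsLevel 1 C2 C2 where
  faithful := inferInstance
  cardX := by rw [sylA_card_C2]; norm_num
  cardW := by rw [Nat.card_eq_fintype_card, sylA_card_C2]; norm_num
  center := by
    have h : Subgroup.center C2 = ⊤ := CommGroup.center_eq_top
    rw [h, Subgroup.card_top, Nat.card_eq_fintype_card, sylA_card_C2]
  center_even := by intro h; omega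
  sgn_surj := by
    intro u
    rcases Int.units_eq_one_or u with h | h
    · exact ⟨1, by rw [map_one, h]⟩
    · exact ⟨Multiplicative.ofAdd (1 : ZMod 2), by rw [sylA_sgn_gen, h]⟩
  ci := by
    intro A B _ _
    left
    have h : Subgroup.center C2 = ⊤ := CommGroup.center_eq_top
    rw [h]
    exact le_top
  center_ker := by intro h; omega

end Cfsg.Agent.Lib.Helper7.SylALeaf
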