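import Mathlib
import Cfsg.Agent.Lib.Helper14.SylA.Defs

/-!
S2221 leaves G1 / G1' (helper14 market): decomposability is an isomorphism invariant.
-/

set_option autoImplicit false
open scoped commutatorElement

namespace Cfsg.Agent.Lib.Helper7.SylALeaf

open Cfsg.Agent.Lib.Helper14.SylA RegularWreathProduct

/-- one direction, for an injective hom with prescribed range -/
theorem sylA_decompIn_of_hom {G H : Type*} [Group G] [Group H] (P : Subgroup G) (Q : Subgroup H)
    (φ : ↥P →* H) (hinj : Function.Injective φ) (hrange : φ.range = Q) (h : DecompIn P) :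
    DecompIn Q := by
  obtain ⟨S₁, S₂, h1, h2, hS₁, hS₂, hcomm, hinf, hsup⟩ := h
  refine ⟨(S₁.subgroupOf P).map φ, (S₂.subgroupOf P).map φ, ?_, ?_, ?_, ?_, ?_, ?_, ?_⟩
  · intro hb
    rw [(Subgroup.map_eq_bot_iff_of_injective _ hinj), Subgroup.subgroupOf_eq_bot] at hb
    exact h1 (le_bot_iff.mp (hb le_rfl hS₁))
  · intro hb
    rw [(Subgroup.map_eq_bot_iff_of_injective _ hinj), Subgroup.subgroupOf_eq_bot] at hb
    exact h2 (le_bot_iff.mp (hb le_rfl hS₂))
  · rw [← hrange]
    rintro _ ⟨a, _, rfl⟩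
    exact ⟨a, rfl⟩
  · rw [← hrange]
    rintro _ ⟨a, _, rfl⟩
    exact ⟨a, rfl⟩
  · rintro _ ⟨a, ha, rfl⟩ _ ⟨b, hb, rfl⟩
    rw [← map_mul, ← map_mul]
    congr 1
    apply Subtype.ext
    exact hcomm (a : G) (Subgroup.mem_subgroupOf.mp ha) (b : G) (Subgroup.mem_subgroupOf.mp hb)
  · rw [eq_bot_iff]
    rintro x ⟨⟨a, ha, rfl⟩, ⟨b, hb, hab⟩⟩
    have hab' : b = a := hinj hab
    subst hab'
    have hmem : (b : G) ∈ S₁ ⊓ S₂ :=
      ⟨Subgroup.mem_subgroupOf.mp ha, Subgroup.mem_subgroupOf.mp hb⟩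
    rw [hinf, Subgroup.mem_bot] at hmem
    have hb1 : b = 1 := Subtype.ext hmem
    rw [hb1, map_one]
    exact Subgroup.mem_bot.mpr rfl
  · rw [← Subgroup.map_sup, ← Subgroup.subgroupOf_sup hS₁ hS₂, hsup, Subgroup.subgroupOf_self,
      ← MonoidHom.range_eq_map, hrange]

/-- G1: decomposability is an isomorphism invariant. -/
theorem decompIn_congr {G H : Type*} [Group G] [Group H] (P : Subgroup G) (Q : Subgroup H)
    (e : ↥P ≃* ↥Q) : DecompIn P ↔ DecompIn Q := by
  constructor
  · refine sylA_decompIn_of_hom P Q (Q.subtype.comp e.toMonoidHom) ?_ ?_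
    · exact (Subgroup.subtype_injective Q).comp e.injective
    · rw [MonoidHom.range_comp]
      have : e.toMonoidHom.range = ⊤ := MonoidHom.range_eq_top.mpr e.surjective
      rw [this, ← MonoidHom.range_eq_map, Subgroup.range_subtype]
  · refine sylA_decompIn_of_hom Q P (P.subtype.comp e.symm.toMonoidHom) ?_ ?_
    · exact (Subgroup.subtype_injective P).comp e.symm.injective
    · rw [MonoidHom.range_comp]
      have : e.symm.toMonoidHom.range = ⊤ := MonoidHom.range_eq_top.mpr e.symm.surjective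
      rw [this, ← MonoidHom.range_eq_map, Subgroup.range_subtype]

/-- G1': version against a whole group. -/
theorem decompIn_congr_top {G H : Type*} [Group G] [Group H] (P : Subgroup G)
    (e : ↥P ≃* H) : DecompIn P ↔ DecompIn (⊤ : Subgroup H) :=
  decompIn_congr P (⊤ : Subgroup H) (e.trans Subgroup.topEquiv.symm)

end Cfsg.Agent.Lib.Helper7.SylALeaf
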