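import Mathlib
import Cfsg.Agent.Lib.Helper14.SylA.Defs
import Cfsg.Agent.Lib.Helper7.SylAG1

/-!
S2221 leaf SMALL (helper14 market): the Sylow 2-subgroups of `A_4`, `A_5` are four-groups, hence
decomposable.
-/

set_option autoImplicit false
open scoped commutatorElement

namespace Cfsg.Agent.Lib.Helper7.SylALeaf

open Cfsg.Agent.Lib.Helper14.SylA RegularWreathProduct

/-- a group of order four and exponent two is decomposable -/
theorem sylA_decompIn_top_of_card_four (K : Type*) [Group K] (hcard : Nat.card K = 4)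
    (hexp : ∀ x : K, x ^ 2 = 1) : DecompIn (⊤ : Subgroup K) := by
  classical
  have : Finite K := Nat.finite_of_card_ne_zero (by rw [hcard]; norm_num)
  have : Nontrivial K := Finite.one_lt_card_iff_nontrivial.mp (by rw [hcard]; norm_num)
  obtain ⟨a, ha⟩ := exists_ne (1 : K)
  have hinv : ∀ x : K, x⁻¹ = x := fun x => by
    have h := hexp x
    rw [pow_two] at h
    exact inv_eq_of_mul_eq_one_right h
  have hcomm : ∀ x y : K, x * y = y * x := fun x y => by
    have h := hinv (x * y)
    rw [mul_inv_rev, hinv x, hinv y] at h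
    exact h.symm
  have hz : ∀ (c x : K), x ∈ Subgroup.zpowers c → x = 1 ∨ x = c := by
    intro c x hx
    obtain ⟨k, rfl⟩ := Subgroup.mem_zpowers_iff.mp hx
    have hk : k = k % 2 + 2 * (k / 2) := (Int.emod_add_mul_ediv k 2).symm
    rw [hk, zpow_add, zpow_mul, zpow_ofNat, hexp c, one_zpow, mul_one]
    rcases Int.emod_two_eq_zero_or_one k with h | h
    · left; rw [h, zpow_zero]
    · right; rw [h, zpow_one]
  have horda : orderOf a = 2 := orderOf_eq_prime (hexp a) ha
  have hcarda : Nat.card (Subgroup.zpowers a) = 2 := by rw [Nat.card_zpowers, horda]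
  have hnetop : Subgroup.zpowers a ≠ ⊤ := by
    intro h
    have h1 := Subgroup.card_top (G := K)
    rw [← h, hcarda, hcard] at h1
    norm_num at h1
  obtain ⟨b, hb⟩ : ∃ b : K, b ∉ Subgroup.zpowers a := by
    by_contra hcon
    push Not at hcon
    exact hnetop (eq_top_iff.mpr (fun x _ => hcon x))
  have hb1 : b ≠ 1 := fun h => hb (h ▸ Subgroup.one_mem _)
  have hba : b ≠ a := fun h => hb (h ▸ Subgroup.mem_zpowers a)
  refine ⟨Subgroup.zpowers a, Subgroup.zpowers b, Subgroup.zpowers_ne_bot.mpr ha,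
    Subgroup.zpowers_ne_bot.mpr hb1, le_top, le_top, fun x _ y _ => hcomm x y, ?_, ?_⟩
  · rw [eq_bot_iff]
    rintro x ⟨hxa, hxb⟩
    rw [Subgroup.mem_bot]
    rcases hz a x hxa with h | h
    · exact h
    · rcases hz b x hxb with h' | h'
      · exact h'
      · exact absurd (h'.symm.trans h) hba
  · have hle : Subgroup.zpowers a ≤ Subgroup.zpowers a ⊔ Subgroup.zpowers b := le_sup_left
    have hd1 : Nat.card (Subgroup.zpowers a) ∣
        Nat.card ↥(Subgroup.zpowers a ⊔ Subgroup.zpowers b) := Subgroup.card_dvd_of_le hle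
    have hd2 : Nat.card ↥(Subgroup.zpowers a ⊔ Subgroup.zpowers b) ∣ Nat.card K :=
      Subgroup.card_subgroup_dvd_card _
    rw [hcarda] at hd1
    rw [hcard] at hd2
    have hne2 : Nat.card ↥(Subgroup.zpowers a ⊔ Subgroup.zpowers b) ≠ 2 := by
      intro h
      have heq : Subgroup.zpowers a = Subgroup.zpowers a ⊔ Subgroup.zpowers b :=
        Subgroup.eq_of_le_of_card_ge hle (by rw [h, hcarda])
      apply hb
      rw [heq]
      exact (le_sup_right : Subgroup.zpowers b ≤ _) (Subgroup.mem_zpowers b)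
    have h4 : Nat.card ↥(Subgroup.zpowers a ⊔ Subgroup.zpowers b) = 4 := by
      have hle4 : Nat.card ↥(Subgroup.zpowers a ⊔ Subgroup.zpowers b) ≤ 4 :=
        Nat.le_of_dvd (by norm_num) hd2
      obtain ⟨c, hc⟩ := hd1
      interval_cases hh : Nat.card ↥(Subgroup.zpowers a ⊔ Subgroup.zpowers b) <;> omega
    exact Subgroup.eq_top_of_card_eq _ (by rw [h4, hcard])

theorem sylA_fact12 : (12 : ℕ).factorization 2 = 2 := by
  rw [Nat.factorization_def _ Nat.prime_two]
  have : (12 : ℕ) = 2 ^ 2 * 3 := by norm_num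
  rw [this, padicValNat.mul (by norm_num) (by norm_num), padicValNat.prime_pow]
  norm_num

theorem sylA_fact60 : (60 : ℕ).factorization 2 = 2 := by
  rw [Nat.factorization_def _ Nat.prime_two]
  have : (60 : ℕ) = 2 ^ 2 * 15 := by norm_num
  rw [this, padicValNat.mul (by norm_num) (by norm_num), padicValNat.prime_pow]
  norm_num

theorem sylA_exp4 : ∀ σ : Equiv.Perm (Fin 4), Equiv.Perm.sign σ = 1 → σ ^ 4 = 1 → σ ^ 2 = 1 := by
  decide +kernel

theorem sylA_exp5 : ∀ σ : Equiv.Perm (Fin 5), Equiv.Perm.sign σ = 1 → σ ^ 4 = 1 → σ ^ 2 = 1 := by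
  decide +kernel

theorem sylA_card_alt (n : ℕ) (hn : 2 ≤ n) :
    2 * Nat.card ↥(alternatingGroup (Fin n)) = n.factorial := by
  have : Nontrivial (Fin n) := Fin.nontrivial_iff_two_le.mpr hn
  rw [Nat.card_eq_fintype_card, two_mul_card_alternatingGroup, Fintype.card_perm, Fintype.card_fin]

/-- SMALL: the Sylow 2-subgroups of `A_4`, `A_5` are four-groups. -/
theorem decompIn_small (n : ℕ) (hn : n = 4 ∨ n = 5) (P : Sylow 2 ↥(alternatingGroup (Fin n))) :
    DecompIn (P : Subgroup ↥(alternatingGroup (Fin n))) := by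
  have hcardP : Nat.card (P : Subgroup ↥(alternatingGroup (Fin n))) = 4 := by
    rw [Sylow.card_eq_multiplicity]
    rcases hn with rfl | rfl
    · have h := sylA_card_alt 4 (by norm_num)
      have h12 : Nat.card ↥(alternatingGroup (Fin 4)) = 12 := by
        have : Nat.factorial 4 = 24 := by decide
        omega
      rw [h12, sylA_fact12]; norm_num
    · have h := sylA_card_alt 5 (by norm_num)
      have h60 : Nat.card ↥(alternatingGroup (Fin 5)) = 60 := by
        have : Nat.factorial 5 = 120 := by decide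
        omega
      rw [h60, sylA_fact60]; norm_num
  have hexp : ∀ x : ↥(P : Subgroup ↥(alternatingGroup (Fin n))), x ^ 2 = 1 := by
    intro x
    have h4 : x ^ 4 = 1 := by
      rw [← hcardP]
      exact pow_card_eq_one'
    have hx4 : ((x : ↥(alternatingGroup (Fin n))) : Equiv.Perm (Fin n)) ^ 4 = 1 := by
      have := congrArg (fun y : ↥(P : Subgroup ↥(alternatingGroup (Fin n))) =>
        ((y : ↥(alternatingGroup (Fin n))) : Equiv.Perm (Fin n))) h4
      simpa using this
    have hsign : Equiv.Perm.sign ((x : ↥(alternatingGroup (Fin n))) : Equiv.Perm (Fin n)) = 1 :=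
      Equiv.Perm.mem_alternatingGroup.mp (x : ↥(alternatingGroup (Fin n))).2
    have hx2 : ((x : ↥(alternatingGroup (Fin n))) : Equiv.Perm (Fin n)) ^ 2 = 1 := by
      rcases hn with rfl | rfl
      · exact sylA_exp4 _ hsign hx4
      · exact sylA_exp5 _ hsign hx4
    apply Subtype.ext
    apply Subtype.ext
    simpa using hx2
  exact (decompIn_congr_top (P : Subgroup ↥(alternatingGroup (Fin n))) (MulEquiv.refl _)).mpr
    (sylA_decompIn_top_of_card_four _ hcardP hexp)

end Cfsg.Agent.Lib.Helper7.SylALeaf
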