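import Cfsg.Agent.Lib.Helper7.ChevWeylChainF4
import Cfsg.Agent.Lib.Helper7.ChevHCardFin

/-! `|F₄(q)|` (helper7). -/

set_option autoImplicit false

namespace Cfsg.Agent.Lib.Helper7

open Cfsg Cfsg.Lie Matrix

theorem card_group_F4 (F : Type*) [Field F] [Fintype F] :
    Nat.card ↥(chevF4.group F) = Fintype.card F ^ 24 * (Fintype.card F ^ 2 - 1) * (Fintype.card F ^ 6 - 1) *
      (Fintype.card F ^ 8 - 1) * (Fintype.card F ^ 12 - 1) := by
  rw [card_group_of_chain chevF4 (by simp) F weylChain_F4 weylChainOKB_F4 weylHist_F4 chainHistOKB_F4,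
    card_diagonal_F4]
  have hn : chevF4.nroots / 2 = 24 := rfl
  rw [hn]
  obtain ⟨q, hq⟩ : ∃ q, q = Fintype.card F := ⟨_, rfl⟩
  rw [← hq]
  have h1 : 1 ≤ q := by rw [hq]; exact Fintype.card_pos
  have h2 : 1 ≤ q ^ 2 := Nat.one_le_pow _ _ h1
  have h6 : 1 ≤ q ^ 6 := Nat.one_le_pow _ _ h1
  have h8 : 1 ≤ q ^ 8 := Nat.one_le_pow _ _ h1
  have h12 : 1 ≤ q ^ 12 := Nat.one_le_pow _ _ h1
  simp only [weylHist_F4, histPoly, Finset.sum_range_succ, Finset.sum_range_zero, List.getD_cons_zero,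
    List.getD_cons_succ]
  zify [h1, h2, h6, h8, h12]
  ring

end Cfsg.Agent.Lib.Helper7
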