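import Cfsg.Agent.Lib.Helper7.ChevWeylChainE6
import Cfsg.Agent.Lib.Helper7.ChevHCardFin

/-! `|E6(q)|` (helper7). -/

set_option autoImplicit false
set_option maxHeartbeats 4000000
set_option maxRecDepth 100000

namespace Cfsg.Agent.Lib.Helper7

open Cfsg Cfsg.Lie Matrix

theorem card_group_E6 (F : Type*) [Field F] [Fintype F] :
    Nat.gcd 3 (Fintype.card F - 1) * Nat.card ↥(chevE6.group F) = Fintype.card F ^ 36 * (Fintype.card F ^ 2 - 1) * (Fintype.card F ^ 5 - 1) * (Fintype.card F ^ 6 - 1) * (Fintype.card F ^ 8 - 1) * (Fintype.card F ^ 9 - 1) * (Fintype.card F ^ 12 - 1) := by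
  rw [card_group_of_chain chevE6 (by simp) F weylChain_E6 weylChainOKB_E6 weylHist_E6 chainHistOKB_E6]
  have hn : chevE6.nroots / 2 = 36 := rfl
  rw [hn]
  have hH := card_diagonal_E6 F
  obtain ⟨q, hq⟩ : ∃ q, q = Fintype.card F := ⟨_, rfl⟩
  rw [← hq] at hH ⊢
  have h1 : 1 ≤ q := by rw [hq]; exact Fintype.card_pos
  have h2 : 1 ≤ q ^ 2 := Nat.one_le_pow _ _ h1
  have h5 : 1 ≤ q ^ 5 := Nat.one_le_pow _ _ h1
  have h6 : 1 ≤ q ^ 6 := Nat.one_le_pow _ _ h1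
  have h8 : 1 ≤ q ^ 8 := Nat.one_le_pow _ _ h1
  have h9 : 1 ≤ q ^ 9 := Nat.one_le_pow _ _ h1
  have h12 : 1 ≤ q ^ 12 := Nat.one_le_pow _ _ h1
  obtain ⟨S, hS⟩ : ∃ S, S = histPoly q weylHist_E6 := ⟨_, rfl⟩
  rw [← hS]
  have key : (q - 1) ^ 6 * S = (q ^ 2 - 1) * (q ^ 5 - 1) * (q ^ 6 - 1) * (q ^ 8 - 1) * (q ^ 9 - 1) * (q ^ 12 - 1) := by
    rw [hS]
    simp only [weylHist_E6, histPoly, Finset.sum_range_succ, Finset.sum_range_zero, List.getD_cons_zero,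
      List.getD_cons_succ]
    zify [h1, h2, h5, h6, h8, h9, h12]
    ring
  calc Nat.gcd 3 (q - 1) * (q ^ 36 * Nat.card (chevE6.diagonalSubgroup F) * S)
      = q ^ 36 * (Nat.gcd 3 (q - 1) * Nat.card (chevE6.diagonalSubgroup F) * S) := by ring
    _ = q ^ 36 * ((q - 1) ^ 6 * S) := by rw [hH]
    _ = q ^ 36 * (q ^ 2 - 1) * (q ^ 5 - 1) * (q ^ 6 - 1) * (q ^ 8 - 1) * (q ^ 9 - 1) * (q ^ 12 - 1) := by rw [key]; ring

end Cfsg.Agent.Lib.Helper7
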