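import Cfsg.Agent.Lib.Helper7.ChevWeylChainE7
import Cfsg.Agent.Lib.Helper7.ChevHCardFin

/-! `|E7(q)|` (helper7). -/

set_option autoImplicit false
set_option maxHeartbeats 4000000
set_option maxRecDepth 100000

namespace Cfsg.Agent.Lib.Helper7

open Cfsg Cfsg.Lie Matrix

theorem card_group_E7 (F : Type*) [Field F] [Fintype F] :
    Nat.gcd 2 (Fintype.card F - 1) * Nat.card ↥(chevE7.group F) = Fintype.card F ^ 63 * (Fintype.card F ^ 2 - 1) * (Fintype.card F ^ 6 - 1) * (Fintype.card F ^ 8 - 1) * (Fintype.card F ^ 10 - 1) * (Fintype.card F ^ 12 - 1) * (Fintype.card F ^ 14 - 1) * (Fintype.card F ^ 18 - 1) := by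
  rw [card_group_of_chain chevE7 (by simp) F weylChain_E7 weylChainOKB_E7 weylHist_E7 chainHistOKB_E7]
  have hn : chevE7.nroots / 2 = 63 := rfl
  rw [hn]
  have hH := card_diagonal_E7 F
  obtain ⟨q, hq⟩ : ∃ q, q = Fintype.card F := ⟨_, rfl⟩
  rw [← hq] at hH ⊢
  have h1 : 1 ≤ q := by rw [hq]; exact Fintype.card_pos
  have h2 : 1 ≤ q ^ 2 := Nat.one_le_pow _ _ h1
  have h6 : 1 ≤ q ^ 6 := Nat.one_le_pow _ _ h1
  have h8 : 1 ≤ q ^ 8 := Nat.one_le_pow _ _ h1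
  have h10 : 1 ≤ q ^ 10 := Nat.one_le_pow _ _ h1
  have h12 : 1 ≤ q ^ 12 := Nat.one_le_pow _ _ h1
  have h14 : 1 ≤ q ^ 14 := Nat.one_le_pow _ _ h1
  have h18 : 1 ≤ q ^ 18 := Nat.one_le_pow _ _ h1
  obtain ⟨S, hS⟩ : ∃ S, S = histPoly q weylHist_E7 := ⟨_, rfl⟩
  rw [← hS]
  have key : (q - 1) ^ 7 * S = (q ^ 2 - 1) * (q ^ 6 - 1) * (q ^ 8 - 1) * (q ^ 10 - 1) * (q ^ 12 - 1) * (q ^ 14 - 1) * (q ^ 18 - 1) := by
    rw [hS]
    simp only [weylHist_E7, histPoly, Finset.sum_range_succ, Finset.sum_range_zero, List.getD_cons_zero,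
      List.getD_cons_succ]
    zify [h1, h2, h6, h8, h10, h12, h14, h18]
    ring
  calc Nat.gcd 2 (q - 1) * (q ^ 63 * Nat.card (chevE7.diagonalSubgroup F) * S)
      = q ^ 63 * (Nat.gcd 2 (q - 1) * Nat.card (chevE7.diagonalSubgroup F) * S) := by ring
    _ = q ^ 63 * ((q - 1) ^ 7 * S) := by rw [hH]
    _ = q ^ 63 * (q ^ 2 - 1) * (q ^ 6 - 1) * (q ^ 8 - 1) * (q ^ 10 - 1) * (q ^ 12 - 1) * (q ^ 14 - 1) * (q ^ 18 - 1) := by rw [key]; ring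

end Cfsg.Agent.Lib.Helper7
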