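import Cfsg.Agent.Lib.Helper7.ChevCoxeter4
import Cfsg.Agent.Lib.Helper7.ChevWeylChainF4

/-! The Weyl group of type F4 is the Coxeter group of type F4 (helper7). -/

set_option autoImplicit false
set_option maxRecDepth 100000

namespace Cfsg.Agent.Lib.Helper7

open Cfsg Cfsg.Lie

def coxMt_F4 : List (List ℕ) := [[1, 3, 2, 2], [3, 1, 4, 2], [2, 4, 1, 3], [2, 2, 3, 1]]

theorem coxOKB_F4 : coxOKB weylChain_F4.refls chevF4.nroots chevF4.rank coxMt_F4 = true := by
  decide +kernel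

theorem cexOKB_F4 : wordOrderOKB weylChain_F4.refls chevF4.nroots (List.range 4) 12 [6, 4] = true := by
  decide +kernel

theorem coxM_F4 : ∀ i j : Fin 4, CoxeterMatrix.F₄.M i j = (coxMt_F4.getD i.val []).getD j.val 0 := by
  intro i j
  fin_cases i <;> fin_cases j <;> rfl

theorem mem_F4 : chevF4 ∈ [chevG2, chevB2, chevD4, chevF4, chevE6, chevE7, chevE8] := by simp

theorem refls_F4 : weylChain_F4.refls =
    (List.range chevF4.rank).map fun i => (List.range chevF4.nroots).map (chevF4.reflectRoot i) :=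
  refls_of_weylChainOKB chevF4 weylChain_F4 weylChainOKB_F4

theorem orderOf_sbI_F4 (F : Type*) [Field F] (i j : Fin 4) :
    orderOf (sbI chevF4 mem_F4 F i.val * sbI chevF4 mem_F4 F j.val) = CoxeterMatrix.F₄ i j := by
  show _ = CoxeterMatrix.F₄.M i j
  rw [coxM_F4 i j]
  exact orderOf_sbI_mul chevF4 mem_F4 F _ refls_F4 coxMt_F4 coxOKB_F4 i.val j.val i.isLt j.isLt

theorem card_cox_F4 : Nat.card CoxeterMatrix.F₄.Group = 1152 := by
  rw [card_coxGroup chevF4 mem_F4 ℚ 4 rfl CoxeterMatrix.F₄ (orderOf_sbI_F4 ℚ) weylChain_F4 weylChainOKB_F4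
    weylHist_F4 chainHistOKB_F4]
  simp [histPoly, weylHist_F4, Finset.sum_range_succ]

theorem coxeterElt_F4 : orderOf ((List.finRange 4).map CoxeterMatrix.F₄.simple).prod = 12 :=
  orderOf_coxeterElt chevF4 mem_F4 ℚ 4 rfl CoxeterMatrix.F₄ (orderOf_sbI_F4 ℚ) _ refls_F4 12 [6, 4]
    (by
      intro p hp hd
      have hle : p ≤ 12 := Nat.le_of_dvd (by norm_num) hd
      interval_cases p <;> simp_all (config := {decide := true})) cexOKB_F4

theorem mono_hom_F4 (F : Type*) [Field F] :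
    ∃ φ : ↥(chevF4.monomialSubgroup F) →* CoxeterMatrix.F₄.Group, Function.Surjective φ ∧
      φ.ker = (chevF4.diagonalSubgroup F).subgroupOf (chevF4.monomialSubgroup F) ∧
      ∀ (i : Fin 4) (g : ↥(chevF4.monomialSubgroup F)),
        ((g : GL chevF4.Idx F) : Matrix chevF4.Idx chevF4.Idx F) = chevF4.nMat F (chevF4.simple i) 1 →
          φ g = CoxeterMatrix.F₄.simple i :=
  exists_mono_hom chevF4 mem_F4 F 4 rfl CoxeterMatrix.F₄ (orderOf_sbI_F4 F)

end Cfsg.Agent.Lib.Helper7
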