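import Cfsg.Agent.Lib.Helper7.BNCount
import Cfsg.Agent.Lib.Helper3.Dihedral

/-! Counting in a finite group with a (B,N)-pair whose Weyl group is dihedral of order 12, with possibly
different parameters for the two generators (helper7). -/

set_option autoImplicit false

namespace Cfsg.Agent.Lib.Helper7

open Cfsg Cfsg.Agent.Lib.Helper3.BN Cfsg.Agent.Lib.Helper3.WordLen

section
variable {W : Type*} [Group W] {S : Set W}

/-- the word length is a function `f` with `f 1 = 0`, `f (x w) ≤ f w + 1`, realised by words -/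
theorem len_eq_of_table (hS : ∀ s ∈ S, s * s = 1) (hgen : Subgroup.closure S = ⊤) (f : W → ℕ)
    (h1 : f 1 = 0) (hstep : ∀ x ∈ S, ∀ w, f (x * w) ≤ f w + 1)
    (hword : ∀ w, ∃ L, IsWord S L ∧ L.prod = w ∧ L.length ≤ f w) (w : W) : len S w = f w := by
  apply le_antisymm
  · obtain ⟨L, hL, hw, hlen⟩ := hword w
    have := len_le_of_word hL
    rw [hw] at this
    exact le_trans this hlen
  · obtain ⟨L, hL, hw, hlen⟩ := exists_reduced hS hgen w
    rw [← hlen, ← hw]
    clear hlen hw
    induction L with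
    | nil => simp [h1]
    | cons x L ih =>
      rw [isWord_cons] at hL
      rw [List.prod_cons, List.length_cons]
      exact le_trans (hstep x hL.1 _) (Nat.succ_le_succ (ih hL.2))

end

def d6a : DihedralGroup 6 → ℕ
  | .r i => [0, 1, 2, 3, 2, 1].getD i.val 0
  | .sr i => [1, 0, 1, 2, 3, 2].getD i.val 0

def d6b : DihedralGroup 6 → ℕ
  | .r i => [0, 1, 2, 3, 2, 1].getD i.val 0
  | .sr i => [0, 1, 2, 3, 2, 1].getD i.val 0

def d6len : DihedralGroup 6 → ℕ
  | .r i => [0, 2, 4, 6, 4, 2].getD i.val 0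
  | .sr i => [1, 1, 3, 5, 5, 3].getD i.val 0

theorem d6_univ : (Finset.univ : Finset (DihedralGroup 6)) =
    {.r 0, .r 1, .r 2, .r 3, .r 4, .r 5, .sr 0, .sr 1, .sr 2, .sr 3, .sr 4, .sr 5} := by decide

theorem d6_sum (a b : ℕ) : ∑ d : DihedralGroup 6, a ^ (d6a d) * b ^ (d6b d) =
    (1 + a) * (1 + b) * (1 + a * b + a ^ 2 * b ^ 2) := by
  rw [d6_univ]
  repeat rw [Finset.sum_insert (by decide)]
  rw [Finset.sum_singleton]
  simp only [d6a, d6b]
  have e0 : (0 : ZMod 6).val = 0 := rfl
  have e1 : (1 : ZMod 6).val = 1 := rfl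
  have e2 : (2 : ZMod 6).val = 2 := rfl
  have e3 : (3 : ZMod 6).val = 3 := rfl
  have e4 : (4 : ZMod 6).val = 4 := rfl
  have e5 : (5 : ZMod 6).val = 5 := rfl
  rw [e0, e1, e2, e3, e4, e5]
  simp only [List.getD_cons_zero, List.getD_cons_succ]
  ring

theorem d6_step : ∀ d : DihedralGroup 6,
    d6len (.sr 0 * d) ≤ d6len d + 1 ∧ d6len (.sr 1 * d) ≤ d6len d + 1 := by
  decide

theorem d6_desc : ∀ d : DihedralGroup 6, d6len d ≠ 0 →
    (d6len (.sr 0 * d) + 1 = d6len d ∧ d6a d = d6a (.sr 0 * d) + 1 ∧ d6b d = d6b (.sr 0 * d)) ∨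
    (d6len (.sr 1 * d) + 1 = d6len d ∧ d6a d = d6a (.sr 1 * d) ∧ d6b d = d6b (.sr 1 * d) + 1) := by
  decide

theorem d6_zero : ∀ d : DihedralGroup 6, d6len d = 0 → d = 1 := by decide

def d6alt : ℕ → Bool → List (DihedralGroup 6)
  | 0, _ => []
  | k + 1, c => (if c then .sr 0 else .sr 1) :: d6alt k (!c)

def d6words : List (List (DihedralGroup 6)) := (List.range 7).flatMap fun k => [d6alt k true, d6alt k false]

theorem d6_word : ∀ d : DihedralGroup 6, ∃ L ∈ d6words, L.prod = d ∧ L.length ≤ d6len d := by decide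

theorem d6_letters : ∀ L ∈ d6words, ∀ x ∈ L, x = .sr 0 ∨ x = .sr 1 := by decide

section
variable {G : Type*} [Group G] (P : Cfsg.BNPair G) (e : DihedralGroup 6 ≃* W P)
variable (s t : G) (hs : s ∈ P.S) (ht : t ∈ P.S) (hes : e (.sr 0) = sb P s hs) (het : e (.sr 1) = sb P t ht)
variable (hS : ∀ x ∈ Sbar P, x = sb P s hs ∨ x = sb P t ht)
include hes het hS

local notation "ℓ" => len (Sbar P)

/-- the length function of a dihedral Weyl group of order 12 -/
theorem len_dihedral6 (d : DihedralGroup 6) : ℓ (e d) = d6len d := by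
  have h := len_eq_of_table (Sbar_sq P) (Sbar_closure P) (fun w => d6len (e.symm w))
    (by rw [map_one]; rfl)
    (by
      intro x hx w
      show d6len (e.symm (x * w)) ≤ d6len (e.symm w) + 1
      rw [map_mul]
      rcases hS x hx with rfl | rfl
      · rw [← hes, MulEquiv.symm_apply_apply]; exact (d6_step _).1
      · rw [← het, MulEquiv.symm_apply_apply]; exact (d6_step _).2)
    (by
      intro w
      obtain ⟨L, hL, hw, hlen⟩ := d6_word (e.symm w)
      refine ⟨L.map e, ?_, ?_, ?_⟩
      · intro x hx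
        rw [List.mem_map] at hx
        obtain ⟨y, hy, rfl⟩ := hx
        rcases d6_letters L hL y hy with rfl | rfl
        · rw [hes]; exact sb_mem P hs
        · rw [het]; exact sb_mem P ht
      · rw [← map_list_prod, hw, MulEquiv.apply_symm_apply]
      · rw [List.length_map]; exact hlen) (e d)
  rw [h]
  show d6len (e.symm (e d)) = d6len d
  rw [MulEquiv.symm_apply_apply]

variable [Finite G] (a b : ℕ) (ha : Nat.card (C P (sb P s hs)) = a * Nat.card P.B)
  (hb : Nat.card (C P (sb P t ht)) = b * Nat.card P.B)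
include ha hb

theorem card_C_dihedral6 : ∀ (k : ℕ) (d : DihedralGroup 6), d6len d = k →
    Nat.card (C P (e d)) = a ^ (d6a d) * b ^ (d6b d) * Nat.card P.B := by
  have hl := len_dihedral6 P e s t hs ht hes het hS
  have hBpos : 0 < Nat.card P.B := Nat.card_pos
  intro k
  induction k with
  | zero =>
    intro d hd
    rw [d6_zero d hd, map_one, C_one]
    show Nat.card P.B = a ^ 0 * b ^ 0 * Nat.card P.B
    rw [pow_zero, pow_zero, one_mul, one_mul]
  | succ k ih =>
    intro d hd
    rcases d6_desc d (by rw [hd]; exact Nat.succ_ne_zero k) with ⟨h1, h2, h3⟩ | ⟨h1, h2, h3⟩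
    · have hw : sb P s hs * e (.sr 0 * d) = e d := by
        rw [map_mul, hes, sb_mul_cancel]
      have hlt : ℓ (e (.sr 0 * d)) < ℓ (sb P s hs * e (.sr 0 * d)) := by
        rw [hw, hl, hl]; omega
      have hc := card_C_mul P hs hlt
      rw [hw, ha, ih (.sr 0 * d) (by omega)] at hc
      have : Nat.card (C P (e d)) * Nat.card P.B =
          (a ^ (d6a d) * b ^ (d6b d) * Nat.card P.B) * Nat.card P.B := by
        rw [hc, h2, h3]; ring
      exact Nat.eq_of_mul_eq_mul_right hBpos this
    · have hw : sb P t ht * e (.sr 1 * d) = e d := by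
        rw [map_mul, het, sb_mul_cancel]
      have hlt : ℓ (e (.sr 1 * d)) < ℓ (sb P t ht * e (.sr 1 * d)) := by
        rw [hw, hl, hl]; omega
      have hc := card_C_mul P ht hlt
      rw [hw, hb, ih (.sr 1 * d) (by omega)] at hc
      have : Nat.card (C P (e d)) * Nat.card P.B =
          (a ^ (d6a d) * b ^ (d6b d) * Nat.card P.B) * Nat.card P.B := by
        rw [hc, h2, h3]; ring
      exact Nat.eq_of_mul_eq_mul_right hBpos this

/-- the order of a finite group with a `(B,N)`-pair of type `G₂` with parameters `a`, `b` -/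
theorem card_of_dihedral6 :
    Nat.card G = Nat.card P.B * ((1 + a) * (1 + b) * (1 + a * b + a ^ 2 * b ^ 2)) := by
  classical
  letI : Fintype (W P) := Fintype.ofEquiv _ e.toEquiv
  rw [card_eq_sum_cells P, ← Equiv.sum_comp e.toEquiv, ← d6_sum, Finset.mul_sum]
  apply Finset.sum_congr rfl
  intro d _
  have := card_C_dihedral6 P e s t hs ht hes het hS a b ha hb _ d rfl
  rw [mul_comm]
  exact this

end

end Cfsg.Agent.Lib.Helper7
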