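import Cfsg.Agent.Lib.Helper7.ChevTwistBN9

/-! Twisted groups: existence of the `(B,N)`-pair of the group generated by `twWords` (helper7). -/

set_option autoImplicit false

namespace Cfsg.Agent.Lib.Helper7

open Cfsg Cfsg.Lie Matrix

section
variable (D : ChevalleyDatum) (hD : D ∈ [chevG2, chevB2, chevD4, chevF4, chevE6, chevE7, chevE8])
variable (pv pv' ρ ρ' : List ℕ) (ε : List ℤ) (w : List ℤ) (cls : List (List ℕ)) (m : ℕ)
variable (L1 : List ℕ) (L2 : List (ℕ × ℕ)) (L3 : List (ℕ × ℕ × ℕ)) (simpIdx simpCls : List (List ℕ))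
variable (cert : List (List ℕ × ℕ))
variable (hT : TwistTab D pv pv' ρ ρ' ε w cls m L1 L2 L3 simpIdx simpCls cert)
variable (hT2 : TwistTab2 D L1 L2 L3 simpIdx simpCls)
variable (K : Type*) [Field K] (φ : K ≃+* K)
include hD hT hT2

/-- each rank one group `X_J` is nontrivial -/
theorem clsX_ne_bot (hφ : ∀ a, φ^[m] a = a) (J : Fin simpIdx.length) :
    ∃ x ∈ clsX D _ _ _ _ _ (graphFacts_of_graphOKB D pv pv' ρ ρ' ε hT.graph) K φ simpIdx J, x ≠ 1 := by
  have hG := graphFacts_of_graphOKB D pv pv' ρ ρ' ε hT.graph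
  obtain ⟨hTw, hpos⟩ := twistFacts_of_twistOKB D ρ ρ' w cls hT.twist
  have hA := chainAdd_linF D hD w
  have hO : PosFacts D (linF D w) := ⟨hpos, hT.prim⟩
  have hgen := genFacts_of_twGenOKB D ρ ε L1 L2 L3 hT.gen
  have hF := twistGroupFacts_of_tab D hD pv pv' ρ ρ' ε w cls m L1 L2 L3 simpIdx simpCls cert hT K φ hφ
  have hB := twistBNFacts_of_tab2 D L1 L2 L3 simpIdx simpCls hT2
  have hJS : (simpIdx.get J).map D.simple ∈ simpCls := by
    rw [hB.cls_eq]; exact List.mem_map_of_mem (List.get_mem simpIdx J)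
  have hC := hB.facts _ (List.get_mem simpIdx J)
  have hScls := hF.simple_cls _ hJS
  have hss := List.all_eq_true.mp hT.ssh _ hJS
  simp only [Bool.and_eq_true] at hss
  obtain ⟨hne, hε⟩ := eps_one_of_simpShape hgen (simpShape_of_simpShapeB L1 L2 L3 _ hss.1)
  have hSlt := simple_class_lt D hD _ hC
  -- the element with all parameters `1`
  have hcompat : ∀ r ∈ (simpIdx.get J).map D.simple,
      (fun _ : ℕ => (1 : K)) r = twistFn (fun r => ρ'.getD r 0) (fun r => ε.getD r 0) K φ (fun _ => 1) r := by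
    intro r hr
    have hmem := rhoInv_mem_of_perm D _ _ _ _ _ hG _ hSlt (hTw.perm _ hScls) r hr
    unfold twistFn
    rw [map_one, mul_one]
    have h1 : ε.getD (ρ'.getD r 0) 0 = 1 := hε _ hmem
    show (1 : K) = ((ε.getD (ρ'.getD r 0) 0 : ℤ) : K)
    rw [h1]; simp
  have hxG := hF.simple_mem _ hJS (fun _ => 1) hcompat
  refine ⟨ordProd D hD K ((simpIdx.get J).map D.simple) (fun _ => 1), ?_, ?_⟩
  · unfold clsX
    rw [Subgroup.mem_inf]
    exact ⟨ordProd_mem D hD K _ _, hF.le_fix hxG⟩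
  · intro h1
    have h0 : ordProd D hD K ((simpIdx.get J).map D.simple) (fun _ => (0 : K)) = 1 :=
      ordProd_eq_one D hD K _ _ (fun _ _ => rfl)
    rw [← h0] at h1
    have := ordProd_class_inj D hD _ _ K (linF D w) hA hO cls hTw _ hScls _ _ h1
    obtain ⟨r, hr⟩ := List.exists_mem_of_ne_nil _ hne
    exact one_ne_zero (this r hr)

/-- the `(B,N)`-pair of the twisted group generated by `twWords` -/
theorem exists_twistedBNPair (hφ : ∀ a, φ^[m] a = a) :
    ∃ P : Cfsg.BNPair ↥(D.genSubgroup K (twWords K φ L1 L2 L3)),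
      P.B = (D.borelSubgroup K ⊓ D.genSubgroup K (twWords K φ L1 L2 L3)).subgroupOf
        (D.genSubgroup K (twWords K φ L1 L2 L3)) ∧
      P.N = (D.monomialSubgroup K ⊓ D.genSubgroup K (twWords K φ L1 L2 L3)).subgroupOf
        (D.genSubgroup K (twWords K φ L1 L2 L3)) ∧
      P.S = twS D hD K (D.genSubgroup K (twWords K φ L1 L2 L3)) simpIdx := by
  have hG := graphFacts_of_graphOKB D pv pv' ρ ρ' ε hT.graph
  obtain ⟨hTw, hpos⟩ := twistFacts_of_twistOKB D ρ ρ' w cls hT.twist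
  have hA := chainAdd_linF D hD w
  have hO : PosFacts D (linF D w) := ⟨hpos, hT.prim⟩
  have hF := twistGroupFacts_of_tab D hD pv pv' ρ ρ' ε w cls m L1 L2 L3 simpIdx simpCls cert hT K φ hφ
  have hB := twistBNFacts_of_tab2 D L1 L2 L3 simpIdx simpCls hT2
  have hsh : ∀ S ∈ cls, ClassShape (fun r => ρ'.getD r 0) (fun r => ε.getD r 0) m S := by
    intro S hS
    exact classShape_of_classShapeB ρ' ε m S (List.all_eq_true.mp hT.shape S hS)
  exact ⟨twistedBNPair D hD _ _ _ _ _ hG K φ (linF D w) hA hO cls hTw _ simpIdx simpCls hF m hsh hB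
    (tw_inv_of_tab2 D L1 L2 L3 simpIdx simpCls hT2)
    (twGroup_le_closure D hD pv pv' ρ ρ' ε w cls m L1 L2 L3 simpIdx simpCls cert hT hT2 K φ hφ)
    (clsX_ne_bot D hD pv pv' ρ ρ' ε w cls m L1 L2 L3 simpIdx simpCls cert hT hT2 K φ hφ)
    (tw_inj_of_tab2 D L1 L2 L3 simpIdx simpCls hT2), rfl, rfl, rfl⟩

end

end Cfsg.Agent.Lib.Helper7
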