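import Cfsg.Agent.Lib.Helper7.BNCoxeter
import Cfsg.Agent.Lib.Helper7.ChevTwistBN10

/-! Twisted groups: `N¹/H¹` is the Coxeter group of the twisted type (helper7). -/

set_option autoImplicit false

namespace Cfsg.Agent.Lib.Helper7

open Cfsg Cfsg.Lie Matrix
open Cfsg.Agent.Lib.Helper3.BN Cfsg.Agent.Lib.Helper3.WordLen

theorem prod_map_flatten_replicate {α G : Type*} [Group G] (f : α → G) (L : List α) :
    ∀ k, (((List.replicate k L).flatten).map f).prod = ((L.map f).prod) ^ k
  | 0 => by simp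
  | k + 1 => by
    rw [List.replicate_succ, List.flatten_cons, List.map_append, List.prod_append,
      prod_map_flatten_replicate f L k, pow_succ']

/-- table check: `w_a w_b` has order `Mt[a][b]` on the roots -/
def twCoxOKB (D : ChevalleyDatum) (simpIdx : List (List ℕ)) (Mt : List (List ℕ)) : Bool :=
  (List.range simpIdx.length).all fun a => (List.range simpIdx.length).all fun b =>
    decide (0 < (Mt.getD a []).getD b 0) &&
    ((List.range D.nroots).all fun r =>
      reflWord D (List.replicate ((Mt.getD a []).getD b 0) (simpIdx.getD a [] ++ simpIdx.getD b [])).flatten r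
        == r) &&
    (List.range ((Mt.getD a []).getD b 0)).all fun k => k == 0 ||
      (List.range D.nroots).any fun r =>
        reflWord D (List.replicate k (simpIdx.getD a [] ++ simpIdx.getD b [])).flatten r != r

section
variable (D : ChevalleyDatum) (hD : D ∈ [chevG2, chevB2, chevD4, chevF4, chevE6, chevE7, chevE8])
variable (K : Type*) [Field K]
variable (G1 : Subgroup (GL D.Idx K)) (simpIdx : List (List ℕ))
variable (P : Cfsg.BNPair ↥G1)
variable (hPB : P.B = (D.borelSubgroup K ⊓ G1).subgroupOf G1)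
variable (hPN : P.N = (D.monomialSubgroup K ⊓ G1).subgroupOf G1)
variable (hPS : P.S = twS D hD K G1 simpIdx)
variable (hmem : ∀ J : Fin simpIdx.length, clsRep D hD K simpIdx J ∈ G1)
variable (hlt : ∀ J ∈ simpIdx, ∀ i ∈ J, i < D.rank)

/-- the class representative `n_J` as an element of `G¹` -/
noncomputable def twEl (J : Fin simpIdx.length) : ↥G1 := ⟨clsRep D hD K simpIdx J, hmem J⟩

include hPS in
theorem twEl_mem_S (J : Fin simpIdx.length) : twEl D hD K G1 simpIdx hmem J ∈ P.S := by
  rw [hPS]; exact ⟨J, rfl⟩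

/-- the image of `n_J` in the Weyl group `N¹/H¹` -/
noncomputable def twSb (J : Fin simpIdx.length) : W P :=
  mkW P (twEl D hD K G1 simpIdx hmem J) (P.subset (twEl_mem_S D hD K G1 simpIdx P hPS hmem J))

theorem twSb_mem (J : Fin simpIdx.length) : twSb D hD K G1 simpIdx P hPS hmem J ∈ Sbar P :=
  mkW_mem_Sbar P (twEl_mem_S D hD K G1 simpIdx P hPS hmem J)

theorem twSb_surj (t : W P) (ht : t ∈ Sbar P) : ∃ J, t = twSb D hD K G1 simpIdx P hPS hmem J := by
  obtain ⟨s, hs, rfl⟩ := ht
  have hs' := hs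
  rw [hPS] at hs'
  obtain ⟨J, hJ⟩ := hs'
  refine ⟨J, ?_⟩
  have : s = twEl D hD K G1 simpIdx hmem J := Subtype.ext hJ
  subst this
  rfl

/-- the word in the fundamental reflections of a word in the classes -/
def flatW (Ls : List (Fin simpIdx.length)) : List ℕ := Ls.flatMap fun J => simpIdx.get J

include hPN hlt in
/-- products of the `s_J` are the images of the corresponding `n_w` -/
theorem prod_twSb (Ls : List (Fin simpIdx.length)) :
    ∃ (h : nWordGL D hD K (flatW simpIdx Ls) ∈ G1) (hN : (⟨_, h⟩ : ↥G1) ∈ P.N),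
      (Ls.map (twSb D hD K G1 simpIdx P hPS hmem)).prod = mkW P ⟨_, h⟩ hN := by
  induction Ls with
  | nil =>
    have e : nWordGL D hD K (flatW simpIdx ([] : List (Fin simpIdx.length))) = 1 := by
      simp [flatW, nWordGL]
    refine ⟨by rw [e]; exact Subgroup.one_mem _, ?_, ?_⟩
    · have : (⟨nWordGL D hD K (flatW simpIdx ([] : List (Fin simpIdx.length))),
          by rw [e]; exact Subgroup.one_mem _⟩ : ↥G1) = 1 := Subtype.ext e
      rw [this]; exact P.N.one_mem
    · have : (⟨nWordGL D hD K (flatW simpIdx ([] : List (Fin simpIdx.length))),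
          by rw [e]; exact Subgroup.one_mem _⟩ : ↥G1) = 1 := Subtype.ext e
      simp only [List.map_nil, List.prod_nil]
      symm
      rw [mkW_eq_one_iff, this]
      exact P.B.one_mem
  | cons J Ls ih =>
    obtain ⟨h, hN, ih⟩ := ih
    have e : nWordGL D hD K (flatW simpIdx (J :: Ls)) =
        clsRep D hD K simpIdx J * nWordGL D hD K (flatW simpIdx Ls) := by
      show nWordGL D hD K (simpIdx.get J ++ flatW simpIdx Ls) = _
      rw [nWordGL_append]; rfl
    have hG : nWordGL D hD K (flatW simpIdx (J :: Ls)) ∈ G1 := by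
      rw [e]; exact Subgroup.mul_mem _ (hmem J) h
    have e2 : (⟨_, hG⟩ : ↥G1) = twEl D hD K G1 simpIdx hmem J * ⟨_, h⟩ := Subtype.ext e
    have hJN := P.subset (twEl_mem_S D hD K G1 simpIdx P hPS hmem J)
    refine ⟨hG, by rw [e2]; exact P.N.mul_mem hJN hN, ?_⟩
    rw [List.map_cons, List.prod_cons, ih]
    unfold twSb
    rw [← mkW_mul P hJN hN]
    congr 1
    exact e2.symm

include hPB hPN hlt in
/-- a word in the `s_J` is trivial iff it acts trivially on the roots -/
theorem twWord_eq_one_iff (Ls : List (Fin simpIdx.length)) :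
    (Ls.map (twSb D hD K G1 simpIdx P hPS hmem)).prod = 1 ↔
      ∀ r < D.nroots, reflWord D (flatW simpIdx Ls) r = r := by
  obtain ⟨h, hN, he⟩ := prod_twSb D hD K G1 simpIdx P hPN hPS hmem hlt Ls
  have hL : ∀ i ∈ flatW simpIdx Ls, i < D.rank := by
    intro i hi
    unfold flatW at hi
    rw [List.mem_flatMap] at hi
    obtain ⟨J, _, hiJ⟩ := hi
    exact hlt _ (List.get_mem simpIdx J) i hiJ
  have hact := actsAs_nWordGL D hD K _ hL
  have hmono := nWordGL_mem_monomial D hD K _ hL
  rw [he, mkW_eq_one_iff, hPB, Subgroup.mem_subgroupOf]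
  constructor
  · intro hB
    have hB' : nWordGL D hD K (flatW simpIdx Ls) ∈ D.borelSubgroup K := (Subgroup.mem_inf.mp hB).1
    have hH : nWordGL D hD K (flatW simpIdx Ls) ∈ D.diagonalSubgroup K := by
      rw [← borel_inf_monomial D hD K]
      exact Subgroup.mem_inf.mpr ⟨hB', hmono⟩
    intro r hr
    exact ActsAs.unique D hD K hact (actsAs_diag D hD K _ hH) r hr
  · intro hid
    have hH := mem_diagonal_of_actsAs_id D hD K _ hmono _ hact hid
    exact Subgroup.mem_inf.mpr ⟨diagonal_le_borel D hD K hH, h⟩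

include hPB hPN hlt in
/-- the orders of the products of two generators, from the table check -/
theorem orderOf_twSb_mul (Mt : List (List ℕ)) (hMt : twCoxOKB D simpIdx Mt = true)
    (a b : Fin simpIdx.length) :
    orderOf (twSb D hD K G1 simpIdx P hPS hmem a * twSb D hD K G1 simpIdx P hPS hmem b) =
      (Mt.getD a.val []).getD b.val 0 := by
  unfold twCoxOKB at hMt
  simp only [Bool.and_eq_true, List.all_eq_true, List.mem_range, decide_eq_true_eq, beq_iff_eq,
    Bool.or_eq_true, bne_iff_ne, List.any_eq_true] at hMt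
  obtain ⟨⟨hpos, hm⟩, hk⟩ := hMt a.val a.isLt b.val b.isLt
  have hga : simpIdx.getD a.val [] = simpIdx.get a := by
    rw [List.getD_eq_getElem _ _ a.isLt]; rfl
  have hgb : simpIdx.getD b.val [] = simpIdx.get b := by
    rw [List.getD_eq_getElem _ _ b.isLt]; rfl
  rw [hga, hgb] at hm hk
  have hflat : ∀ k, flatW simpIdx (List.replicate k [a, b]).flatten =
      (List.replicate k (simpIdx.get a ++ simpIdx.get b)).flatten := by
    intro k
    induction k with
    | zero => rfl
    | succ k ih =>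
      rw [List.replicate_succ, List.flatten_cons, List.replicate_succ, List.flatten_cons, ← ih]
      simp [flatW]
  have hpow : ∀ k, (twSb D hD K G1 simpIdx P hPS hmem a * twSb D hD K G1 simpIdx P hPS hmem b) ^ k =
      (((List.replicate k [a, b]).flatten).map (twSb D hD K G1 simpIdx P hPS hmem)).prod := by
    intro k
    rw [prod_map_flatten_replicate]
    simp
  rw [orderOf_eq_iff hpos]
  constructor
  · rw [hpow, twWord_eq_one_iff D hD K G1 simpIdx P hPB hPN hPS hmem hlt, hflat]
    exact hm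
  · intro k hkm hk0
    rw [hpow, Ne, twWord_eq_one_iff D hD K G1 simpIdx P hPB hPN hPS hmem hlt, hflat]
    rcases hk k hkm with h0 | ⟨r, hr, hne⟩
    · omega
    · intro hall
      exact hne (hall r hr)

include hD hPB hPN hPS hmem hlt in
/-- `N ∩ G¹ → W(M)` with kernel `H ∩ G¹` -/
theorem exists_twisted_mono_hom (l : ℕ) (M : CoxeterMatrix (Fin l)) (π : Fin l → Fin simpIdx.length)
    (hπ : Function.Surjective π) (Mt : List (List ℕ)) (hMt : twCoxOKB D simpIdx Mt = true)
    (hM : ∀ i j : Fin l, (Mt.getD (π i).val []).getD (π j).val 0 = M i j) :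
    ∃ φ : ↥(D.monomialSubgroup K ⊓ G1) →* M.Group, Function.Surjective φ ∧
      φ.ker = (D.diagonalSubgroup K ⊓ G1).subgroupOf (D.monomialSubgroup K ⊓ G1) := by
  have hs : ∀ i, twSb D hD K G1 simpIdx P hPS hmem (π i) ∈ Sbar P :=
    fun i => twSb_mem D hD K G1 simpIdx P hPS hmem (π i)
  have hsurj : ∀ t ∈ Sbar P, ∃ i, t = twSb D hD K G1 simpIdx P hPS hmem (π i) := by
    intro t ht
    obtain ⟨J, rfl⟩ := twSb_surj D hD K G1 simpIdx P hPS hmem t ht
    obtain ⟨i, rfl⟩ := hπ J
    exact ⟨i, rfl⟩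
  have hord : ∀ i j : Fin l, orderOf (twSb D hD K G1 simpIdx P hPS hmem (π i) *
      twSb D hD K G1 simpIdx P hPS hmem (π j)) = M i j := by
    intro i j
    rw [orderOf_twSb_mul D hD K G1 simpIdx P hPB hPN hPS hmem hlt Mt hMt, hM]
  obtain ⟨e, he⟩ : ∃ e : W P ≃* M.Group, e = bnWeylCoxEquiv P l M _ hs hsurj hord := ⟨_, rfl⟩
  have hNmem : ∀ n : ↥(D.monomialSubgroup K ⊓ G1),
      (⟨n.1, (Subgroup.mem_inf.mp n.2).2⟩ : ↥G1) ∈ P.N := by
    intro n
    rw [hPN, Subgroup.mem_subgroupOf]
    exact n.2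
  obtain ⟨toW, htoW⟩ : ∃ toW : ↥(D.monomialSubgroup K ⊓ G1) →* W P,
      ∀ n, toW n = mkW P ⟨n.1, (Subgroup.mem_inf.mp n.2).2⟩ (hNmem n) :=
    ⟨{ toFun := fun n => mkW P ⟨n.1, (Subgroup.mem_inf.mp n.2).2⟩ (hNmem n)
       map_one' := rfl
       map_mul' := fun _ _ => rfl }, fun _ => rfl⟩
  have htoW_surj : Function.Surjective toW := by
    intro w
    obtain ⟨n, hn, rfl⟩ := mkW_surj P w
    have hn' := hn
    rw [hPN, Subgroup.mem_subgroupOf] at hn'
    exact ⟨⟨n.1, hn'⟩, by rw [htoW]⟩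
  have htoW_ker : toW.ker = (D.diagonalSubgroup K ⊓ G1).subgroupOf (D.monomialSubgroup K ⊓ G1) := by
    ext n
    rw [MonoidHom.mem_ker, htoW, mkW_eq_one_iff, hPB, Subgroup.mem_subgroupOf, Subgroup.mem_subgroupOf]
    show n.1 ∈ D.borelSubgroup K ⊓ G1 ↔ n.1 ∈ D.diagonalSubgroup K ⊓ G1
    rw [Subgroup.mem_inf, Subgroup.mem_inf, ← borel_inf_monomial D hD K, Subgroup.mem_inf]
    have hn := Subgroup.mem_inf.mp n.2
    exact ⟨fun h => ⟨⟨h.1, hn.1⟩, h.2⟩, fun h => ⟨h.1.1, h.2⟩⟩
  refine ⟨e.toMonoidHom.comp toW, e.surjective.comp htoW_surj, ?_⟩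
  rw [← htoW_ker]
  ext n
  rw [MonoidHom.mem_ker, MonoidHom.mem_ker, MonoidHom.comp_apply]
  exact e.map_eq_one_iff

end

end Cfsg.Agent.Lib.Helper7
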