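import Cfsg.Agent.Lib.Helper7.ChevTwistCount
import Cfsg.Agent.Lib.Helper7.ChevTwistWeyl
import Cfsg.Agent.Lib.Helper7.BNDihedral

/-! Twisted groups: the orders of `B ∩ G¹` and of the cells `B¹ n_J B¹` from the tables, and the transfer
to the `(B,N)`-pair (helper7). -/

set_option autoImplicit false

namespace Cfsg.Agent.Lib.Helper7

open Cfsg Cfsg.Lie Matrix Cfsg.Agent.Lib.Helper3.BN

/-- a group generated by two involutions whose product has order `6` is dihedral of order `12` -/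
theorem exists_dihedral6_equiv {W : Type*} [Group W] (s t : W) (hs : s * s = 1) (ht : t * t = 1)
    (hord : orderOf (s * t) = 6) (hgen : Subgroup.closure {s, t} = ⊤) :
    ∃ e : DihedralGroup 6 ≃* W, e (.sr 0) = s ∧ e (.sr 1) = t := by
  have hx : (s * t) ^ 6 = 1 := by rw [← hord]; exact pow_orderOf_eq_one _
  have hsi : s⁻¹ = s := inv_eq_of_mul_eq_one_left hs
  have hti : t⁻¹ = t := inv_eq_of_mul_eq_one_left ht
  have hsx : s * (s * t) * s = (s * t)⁻¹ := by
    rw [_root_.mul_inv_rev, hsi, hti, ← mul_assoc, hs, one_mul]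
  have hnot : s ∉ Subgroup.zpowers (s * t) := by
    intro hmem
    obtain ⟨k, hk⟩ := Subgroup.mem_zpowers_iff.mp hmem
    have hcomm : Commute s (s * t) := by
      have := (Commute.refl (s * t)).zpow_left k
      rw [hk] at this
      exact this
    have h1 : s * (s * t) * s = s * t := by
      rw [hcomm.eq, mul_assoc, hs, mul_one]
    rw [hsx] at h1
    have h2 : (s * t) ^ 2 = 1 := by
      rw [pow_two]
      nth_rewrite 1 [← h1]
      exact inv_mul_cancel _
    have := orderOf_dvd_of_pow_eq_one h2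
    rw [hord] at this
    omega
  have hinj := Cfsg.Agent.Lib.Helper3.dihLift_injective (s * t) s hx hs hsx hord hnot
  have hrange := Cfsg.Agent.Lib.Helper3.dihLift_range (s * t) s hx hs hsx
  have hsurj : Function.Surjective (Cfsg.Agent.Lib.Helper3.dihLift (s * t) s hx hs hsx) := by
    rw [← MonoidHom.range_eq_top, hrange, eq_top_iff, ← hgen, Subgroup.closure_le]
    rintro y (rfl | rfl)
    · exact Subgroup.subset_closure (by simp)
    · have : s * (s * y) ∈ Subgroup.closure {s * y, s} :=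
        Subgroup.mul_mem _ (Subgroup.subset_closure (by simp)) (Subgroup.subset_closure (by simp))
      rwa [← mul_assoc, hs, one_mul] at this
  refine ⟨MulEquiv.ofBijective _ ⟨hinj, hsurj⟩, ?_, ?_⟩
  · exact Cfsg.Agent.Lib.Helper3.dihLift_sr_zero _ _ hx hs hsx
  · show Cfsg.Agent.Lib.Helper3.dihLift (s * t) s hx hs hsx (.sr 1) = t
    rw [Cfsg.Agent.Lib.Helper3.dihLift_sr, Cfsg.Agent.Lib.Helper3.dihPow_one, ← mul_assoc, hs, one_mul]

section
variable (D : ChevalleyDatum) (hD : D ∈ [chevG2, chevB2, chevD4, chevF4, chevE6, chevE7, chevE8])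
variable (pv pv' ρ ρ' : List ℕ) (ε : List ℤ) (w : List ℤ) (cls : List (List ℕ)) (m : ℕ)
variable (L1 : List ℕ) (L2 : List (ℕ × ℕ)) (L3 : List (ℕ × ℕ × ℕ)) (simpIdx simpCls : List (List ℕ))
variable (cert : List (List ℕ × ℕ))
variable (hT : TwistTab D pv pv' ρ ρ' ε w cls m L1 L2 L3 simpIdx simpCls cert)
variable (hT2 : TwistTab2 D L1 L2 L3 simpIdx simpCls)
variable (K : Type*) [Field K] (φ : K ≃+* K)
include hD hT hT2

omit hT2 in
/-- `|B ∩ G¹| = |H ∩ G¹| q^N` -/
theorem card_borel_twGroup (q : ℕ) (hK : Nat.card K = q ^ m) (hfix : Nat.card {a : K // φ a = a} = q)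
    (hφ : ∀ a, φ^[m] a = a) :
    Nat.card ↥(D.borelSubgroup K ⊓ D.genSubgroup K (twWords K φ L1 L2 L3)) =
      Nat.card ↥(D.diagonalSubgroup K ⊓ D.genSubgroup K (twWords K φ L1 L2 L3)) * q ^ cls.flatten.length := by
  have hG := graphFacts_of_graphOKB D pv pv' ρ ρ' ε hT.graph
  obtain ⟨hTw, hpos⟩ := twistFacts_of_twistOKB D ρ ρ' w cls hT.twist
  have hA := chainAdd_linF D hD w
  have hO : PosFacts D (linF D w) := ⟨hpos, hT.prim⟩
  have hF := twistGroupFacts_of_tab D hD pv pv' ρ ρ' ε w cls m L1 L2 L3 simpIdx simpCls cert hT K φ hφ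
  have hsh : ∀ S ∈ cls, ClassShape (fun r => ρ'.getD r 0) (fun r => ε.getD r 0) m S := by
    intro S hS
    exact classShape_of_classShapeB ρ' ε m S (List.all_eq_true.mp hT.shape S hS)
  rw [card_borel_inf_twisted D hD _ _ _ _ _ hG K φ (linF D w) hA hO cls hTw _ simpIdx simpCls hF cert hT.cert,
    card_posUnipotent_inf_fixSigma D hD _ _ _ _ _ hG K φ (linF D w) hA hO cls hTw m q hK hfix hφ hsh]

/-- `|B¹ n_J B¹| = |B¹| q^{|J|}` -/
theorem card_cell_twGroup (q : ℕ) (hK : Nat.card K = q ^ m) (hfix : Nat.card {a : K // φ a = a} = q)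
    (hφ : ∀ a, φ^[m] a = a) (J : Fin simpIdx.length) :
    Nat.card {g : GL D.Idx K // ∃ b ∈ D.borelSubgroup K ⊓ D.genSubgroup K (twWords K φ L1 L2 L3),
      ∃ b' ∈ D.borelSubgroup K ⊓ D.genSubgroup K (twWords K φ L1 L2 L3),
      g = b * clsRep D hD K simpIdx J * b'} =
      Nat.card ↥(D.borelSubgroup K ⊓ D.genSubgroup K (twWords K φ L1 L2 L3)) * q ^ (simpIdx.get J).length := by
  have hG := graphFacts_of_graphOKB D pv pv' ρ ρ' ε hT.graph
  obtain ⟨hTw, hpos⟩ := twistFacts_of_twistOKB D ρ ρ' w cls hT.twist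
  have hA := chainAdd_linF D hD w
  have hO : PosFacts D (linF D w) := ⟨hpos, hT.prim⟩
  have hF := twistGroupFacts_of_tab D hD pv pv' ρ ρ' ε w cls m L1 L2 L3 simpIdx simpCls cert hT K φ hφ
  have hB := twistBNFacts_of_tab2 D L1 L2 L3 simpIdx simpCls hT2
  have hJS : (simpIdx.get J).map D.simple ∈ simpCls := by
    rw [hB.cls_eq]; exact List.mem_map_of_mem (List.get_mem simpIdx J)
  have hC := hB.facts _ (List.get_mem simpIdx J)
  have hScls := hF.simple_cls _ hJS
  have hsh := classShape_of_classShapeB ρ' ε m _ (List.all_eq_true.mp hT.shape _ hScls)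
  have h1 := card_cell_class D hD _ _ _ _ _ hG K φ (linF D w) hA hO cls hTw _ simpIdx simpCls hF
    (simpIdx.get J) hC (List.get_mem simpIdx J) hJS
  have h2 := card_class_fixed D hD _ _ _ _ _ hG K φ (linF D w) hA hO cls hTw _ simpIdx simpCls hF
    m q hK hfix hφ _ hJS hsh
  rw [List.length_map] at h2
  rw [← h2]
  exact h1

end

section
variable (D : ChevalleyDatum) (hD : D ∈ [chevG2, chevB2, chevD4, chevF4, chevE6, chevE7, chevE8])
variable (K : Type*) [Field K]
variable (G1 : Subgroup (GL D.Idx K)) (simpIdx : List (List ℕ))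
variable (P : Cfsg.BNPair ↥G1)
variable (hPB : P.B = (D.borelSubgroup K ⊓ G1).subgroupOf G1)
variable (hPS : P.S = twS D hD K G1 simpIdx)
variable (hmem : ∀ J : Fin simpIdx.length, clsRep D hD K simpIdx J ∈ G1)

include hPB in
omit hD in
theorem card_B_eq : Nat.card P.B = Nat.card ↥(D.borelSubgroup K ⊓ G1) := by
  rw [hPB]
  exact Nat.card_congr (Subgroup.subgroupOfEquivOfLe inf_le_right).toEquiv

include hPB in
/-- the cell of `s_J` in `G¹` and in `GL` -/
theorem card_C_twSb (J : Fin simpIdx.length) :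
    Nat.card (C P (twSb D hD K G1 simpIdx P hPS hmem J)) =
      Nat.card {g : GL D.Idx K // ∃ b ∈ D.borelSubgroup K ⊓ G1, ∃ b' ∈ D.borelSubgroup K ⊓ G1,
        g = b * clsRep D hD K simpIdx J * b'} := by
  unfold twSb
  rw [C_mk]
  apply Nat.card_congr
  have hB : ∀ b : ↥G1, b ∈ P.B ↔ (b : GL D.Idx K) ∈ D.borelSubgroup K ⊓ G1 := by
    intro b
    rw [hPB, Subgroup.mem_subgroupOf]
  refine Equiv.ofBijective (fun g => ⟨((g : ↥G1) : GL D.Idx K), ?_⟩) ⟨?_, ?_⟩
  · obtain ⟨b, hb, b', hb', he⟩ := (mem_dc P).mp g.2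
    refine ⟨b, (hB b).mp hb, b', (hB b').mp hb', ?_⟩
    rw [he]
    rfl
  · intro g g' h
    have h0 := Subtype.ext_iff.mp h
    exact Subtype.ext (Subtype.ext h0)
  · rintro ⟨g, b, hb, b', hb', rfl⟩
    have hbG : b ∈ G1 := (Subgroup.mem_inf.mp hb).2
    have hbG' : b' ∈ G1 := (Subgroup.mem_inf.mp hb').2
    refine ⟨⟨⟨b, hbG⟩ * twEl D hD K G1 simpIdx hmem J * ⟨b', hbG'⟩, ?_⟩, rfl⟩
    exact (mem_dc P).mpr ⟨_, (hB _).mpr hb, _, (hB _).mpr hb', rfl⟩

end

end Cfsg.Agent.Lib.Helper7
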