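import Cfsg.Agent.Lib.Helper7.ChevWeylChain2

/-! A faster form of the chain check: lookups in a list by arithmetic on its packed form (helper7). -/

set_option autoImplicit false

namespace Cfsg.Agent.Lib.Helper7

open Cfsg Cfsg.Lie

/-- force the evaluation of a number before using it -/
def withNat {α : Type} (m : ℕ) (k : ℕ → α) : α := Nat.casesOn m (k 0) (fun m' => k (m' + 1))

theorem withNat_eq {α : Type} (m : ℕ) (k : ℕ → α) : withNat m k = k m := by
  cases m <;> rfl

/-- composition by lookups in the packed form -/
def compF (p q : List ℕ) : List ℕ := withNat (packL p) fun P => q.map fun x => P / 256 ^ x % 256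

theorem compF_eq (p q : List ℕ) (hp : ∀ a ∈ p, a < 256) : compF p q = comp p q := by
  unfold compF comp
  rw [withNat_eq]
  apply List.map_congr_left
  intro x _
  exact packL_access p hp x

/-- composition, by the fast path when it applies -/
def compG (p q : List ℕ) : List ℕ := bif p.all (fun a => decide (a < 256)) then compF p q else comp p q

theorem compG_eq : compG = comp := by
  funext p q
  unfold compG
  cases h : p.all (fun a => decide (a < 256))
  · rfl
  · rw [cond_true]
    apply compF_eq
    intro a ha
    rw [List.all_eq_true] at h
    exact of_decide_eq_true (h a ha)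

/-- `levelOKB` with the composition as a parameter -/
def levelOKBg (cmp : List ℕ → List ℕ → List ℕ) (n : ℕ) (refls : List (List ℕ)) (L : ChainLevel)
    (later : List ChainLevel) : Bool :=
  decide (0 < L.elems.length) && (L.elems.getD 0 [] == List.range n) && (L.dep.getD 0 0 == 0) &&
  decide (L.test < n) && decide ((L.elems.map fun d => d.getD L.test 0).Nodup) &&
  ((headGens later).all fun i => L.gens.contains i) &&
  (later.all fun L' => L'.elems.all fun d => d.getD L.test 0 == L.test) &&
  (List.range L.elems.length).all fun e =>
    ((L.elems.getD e []).all fun x => decide (x < n)) &&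
    (cmp (L.invs.getD e []) (L.elems.getD e []) == List.range n) &&
    (e == 0 || L.gens.any fun i =>
      ((L.act.getD e []).getD i (2, 0)).1 == 0 &&
      L.dep.getD ((L.act.getD e []).getD i (2, 0)).2 0 + 1 == L.dep.getD e 0) &&
    L.gens.all fun i =>
      (((L.act.getD e []).getD i (2, 0)).1 == 0 &&
        decide (((L.act.getD e []).getD i (2, 0)).2 < L.elems.length) &&
        (L.elems.getD ((L.act.getD e []).getD i (2, 0)).2 [] == cmp (refls.getD i []) (L.elems.getD e [])) &&
        (L.dep.getD ((L.act.getD e []).getD i (2, 0)).2 0 == L.dep.getD e 0 + 1 ||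
          L.dep.getD ((L.act.getD e []).getD i (2, 0)).2 0 + 1 == L.dep.getD e 0)) ||
      (((L.act.getD e []).getD i (2, 0)).1 == 1 &&
        (headGens later).contains ((L.act.getD e []).getD i (2, 0)).2 &&
        (cmp (refls.getD i []) (L.elems.getD e []) ==
          cmp (L.elems.getD e []) (refls.getD ((L.act.getD e []).getD i (2, 0)).2 [])))

theorem levelOKBg_comp (n : ℕ) (refls : List (List ℕ)) (L : ChainLevel) (later : List ChainLevel) :
    levelOKBg comp n refls L later = levelOKB n refls L later := rfl

/-- `chainOKB` with the composition as a parameter -/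
def chainOKBg (cmp : List ℕ → List ℕ → List ℕ) (n : ℕ) (refls : List (List ℕ)) : List ChainLevel → Bool
  | [] => true
  | L :: Ls => levelOKBg cmp n refls L Ls && chainOKBg cmp n refls Ls

theorem chainOKBg_comp (n : ℕ) (refls : List (List ℕ)) :
    ∀ Ls : List ChainLevel, chainOKBg comp n refls Ls = chainOKB n refls Ls
  | [] => rfl
  | L :: Ls => by
    show (levelOKBg comp n refls L Ls && chainOKBg comp n refls Ls) =
      (levelOKB n refls L Ls && chainOKB n refls Ls)
    rw [levelOKBg_comp, chainOKBg_comp n refls Ls]

/-- the fast check of a chain against a datum -/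
def weylChainOKBF (D : ChevalleyDatum) (C : WeylChain) : Bool :=
  (C.refls == (List.range D.rank).map fun i => (List.range D.nroots).map (D.reflectRoot i)) &&
  ((List.range D.rank).all fun i => (headGens C.levels).contains i) &&
  ((headGens C.levels).all fun i => decide (i < D.rank)) &&
  chainOKBg compG D.nroots C.refls C.levels

theorem weylChainOKB_of_F (D : ChevalleyDatum) (C : WeylChain) (h : weylChainOKBF D C = true) :
    weylChainOKB D C = true := by
  unfold weylChainOKBF at h
  rw [compG_eq, chainOKBg_comp] at h
  exact h

end Cfsg.Agent.Lib.Helper7

namespace Cfsg.Agent.Lib.Helper7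

/-- the list of the `n` lowest base-256 digits -/
def unpackL (n P : ℕ) : List ℕ := (List.range n).map fun x => P / 256 ^ x % 256

/-- a level with its lists packed into numbers -/
structure PackedLevel where
  /-- the representatives, packed -/
  elems : List ℕ
  /-- their inverses, packed -/
  invs : List ℕ
  /-- their lengths -/
  dep : List ℕ
  /-- the test root -/
  test : ℕ
  /-- the reflections acting on this level -/
  gens : List ℕ
  /-- the transitions, `256 * kind + value` -/
  act : List (List ℕ)

/-- unpack a level -/
def PackedLevel.unpack (n : ℕ) (L : PackedLevel) : ChainLevel where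
  elems := L.elems.map (unpackL n)
  invs := L.invs.map (unpackL n)
  dep := L.dep
  test := L.test
  gens := L.gens
  act := L.act.map fun row => row.map fun c => (c / 256, c % 256)

/-- a chain from packed data -/
def mkChain (n : ℕ) (refls : List ℕ) (levels : List PackedLevel) : WeylChain where
  refls := refls.map (unpackL n)
  levels := levels.map (PackedLevel.unpack n)

end Cfsg.Agent.Lib.Helper7
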