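import Cfsg.Agent.Lib.Helper7.Matsumoto
import Cfsg.Agent.Lib.Helper7.ChevWeylChainFast
import Cfsg.Agent.Lib.Helper3.BNParabolic

/-! The Weyl group `N/H` of a Chevalley group is the Coxeter group of its type (helper7). -/

set_option autoImplicit false

namespace Cfsg.Agent.Lib.Helper7

open Cfsg Cfsg.Lie Matrix
open Cfsg.Agent.Lib.Helper3.BN Cfsg.Agent.Lib.Helper3.WordLen

theorem altW_map {W M : Type*} [Group W] [Group M] (f : W → M) (a b : W) :
    ∀ k, (altW a b k).map f = altW (f a) (f b) k
  | 0 => rfl
  | k + 1 => by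
    show f a :: (altW b a k).map f = f a :: altW (f b) (f a) k
    rw [altW_map f b a k]

theorem altW_prod_mul_inv {G : Type*} [Group G] : ∀ (k : ℕ) (x y : G), x * x = 1 → y * y = 1 →
    (altW x y k).prod * ((altW y x k).prod)⁻¹ = (x * y) ^ k
  | 0, x, y, _, _ => by simp [altW]
  | k + 1, x, y, hx, hy => by
    have ih := altW_prod_mul_inv k y x hy hx
    have hyinv : y⁻¹ = y := inv_eq_of_mul_eq_one_left hy
    have hxinv : x⁻¹ = x := inv_eq_of_mul_eq_one_left hx
    have e1 : (altW x y (k + 1)).prod = x * (altW y x k).prod := List.prod_cons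
    have e2 : (altW y x (k + 1)).prod = y * (altW x y k).prod := List.prod_cons
    rw [e1, e2, _root_.mul_inv_rev, hyinv]
    have e3 : x * (altW y x k).prod * ((altW x y k).prod⁻¹ * y) =
        x * ((altW y x k).prod * (altW x y k).prod⁻¹) * y := by group
    rw [e3, ih]
    have e4 : x * (y * x) ^ k * x⁻¹ = (x * y) ^ k := by
      rw [← conj_pow]
      congr 1
      group
    have e5 : (x * y) ^ (k + 1) = x * (y * x) ^ k * y := by
      rw [pow_succ, ← e4, hxinv]
      calc x * (y * x) ^ k * x * (x * y) = x * (y * x) ^ k * (x * x) * y := by group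
        _ = x * (y * x) ^ k * y := by rw [hx, mul_one]
    rw [e5]

theorem altW_prod_eq_iff {G : Type*} [Group G] (k : ℕ) (x y : G) (hx : x * x = 1) (hy : y * y = 1) :
    (altW x y k).prod = (altW y x k).prod ↔ (x * y) ^ k = 1 := by
  rw [← altW_prod_mul_inv k x y hx hy, mul_inv_eq_one]

/-- the permutation of a word in the reflections, from their lists -/
def wordPerm (refls : List (List ℕ)) (n : ℕ) : List ℕ → List ℕ
  | [] => List.range n
  | i :: L => compG (refls.getD i []) (wordPerm refls n L)

/-- the word `(i j)^k` -/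
def repW (i j : ℕ) : ℕ → List ℕ
  | 0 => []
  | k + 1 => i :: j :: repW i j k

/-- table check: `s_i s_j` has order `Mt[i][j]` -/
def coxOKB (refls : List (List ℕ)) (n l : ℕ) (Mt : List (List ℕ)) : Bool :=
  (List.range l).all fun i => (List.range l).all fun j =>
    decide (0 < (Mt.getD i []).getD j 0) &&
    (wordPerm refls n (repW i j ((Mt.getD i []).getD j 0)) == List.range n) &&
    (List.range ((Mt.getD i []).getD j 0)).all fun k =>
      k == 0 || wordPerm refls n (repW i j k) != List.range n

section
variable (D : ChevalleyDatum) (hD : D ∈ [chevG2, chevB2, chevD4, chevF4, chevE6, chevE7, chevE8])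
variable (F : Type*) [Field F]
include hD

omit hD in
theorem reflWord_lt (hD : D ∈ [chevG2, chevB2, chevD4, chevF4, chevE6, chevE7, chevE8]) :
    ∀ (L : List ℕ), (∀ i ∈ L, i < D.rank) → ∀ x < D.nroots, reflWord D L x < D.nroots
  | [], _, x, hx => hx
  | i :: L, hL, x, hx => by
    show D.reflectRoot i (reflWord D L x) < D.nroots
    exact (conjFacts_of_mem D hD i (hL i List.mem_cons_self)).wlt _
      (reflWord_lt hD L (fun j hj => hL j (List.mem_cons_of_mem _ hj)) x hx)

theorem wordPerm_eq (refls : List (List ℕ))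
    (hrefl : refls = (List.range D.rank).map fun i => (List.range D.nroots).map (D.reflectRoot i)) :
    ∀ (L : List ℕ), (∀ i ∈ L, i < D.rank) →
      wordPerm refls D.nroots L = (List.range D.nroots).map (reflWord D L)
  | [], _ => by
    show List.range D.nroots = (List.range D.nroots).map id
    rw [List.map_id]
  | i :: L, hL => by
    have hi : i < D.rank := hL i List.mem_cons_self
    have hL' : ∀ j ∈ L, j < D.rank := fun j hj => hL j (List.mem_cons_of_mem _ hj)
    show compG (refls.getD i []) (wordPerm refls D.nroots L) = _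
    rw [compG_eq, wordPerm_eq refls hrefl L hL']
    unfold comp
    rw [List.map_map]
    apply List.map_congr_left
    intro x hx
    have hlt := reflWord_lt D hD L hL' x (List.mem_range.mp hx)
    show (refls.getD i []).getD (reflWord D L x) 0 = D.reflectRoot i (reflWord D L x)
    rw [hrefl]
    simp [List.getD_eq_getElem?_getD, hi, hlt]

/-- the fundamental reflection `n_i` as an element of the group (`1` for `i` out of range) -/
noncomputable def fundEl (i : ℕ) : ↥(D.group F) :=
  if h : i < D.rank then ⟨nFund D hD F i, monomial_le_group D hD F (nFund_mem_monomial D hD F i h)⟩ else 1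

theorem fundEl_coe (i : ℕ) (hi : i < D.rank) : (fundEl D hD F i : GL D.Idx F) = nFund D hD F i := by
  unfold fundEl; rw [dif_pos hi]

theorem fundEl_mem_S (i : ℕ) (hi : i < D.rank) : fundEl D hD F i ∈ (chevBNPair D hD F).S := by
  refine ⟨i, hi, ?_⟩
  rw [fundEl_coe D hD F i hi]
  unfold nFund
  rw [coe_wordGL]; rfl

theorem fundEl_mem_N (i : ℕ) : fundEl D hD F i ∈ (chevBNPair D hD F).N := by
  by_cases hi : i < D.rank
  · exact (chevBNPair D hD F).subset (fundEl_mem_S D hD F i hi)
  · unfold fundEl; rw [dif_neg hi]; exact Subgroup.one_mem _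

/-- the image of `n_i` in the Weyl group -/
noncomputable def sbI (i : ℕ) : W (chevBNPair D hD F) :=
  mkW (chevBNPair D hD F) (fundEl D hD F i) (fundEl_mem_N D hD F i)

theorem sbI_eq_sb (i : ℕ) (hi : i < D.rank) :
    sbI D hD F i = sb (chevBNPair D hD F) (fundEl D hD F i) (fundEl_mem_S D hD F i hi) := rfl

theorem sbI_mem (i : ℕ) (hi : i < D.rank) : sbI D hD F i ∈ Sbar (chevBNPair D hD F) := by
  rw [sbI_eq_sb D hD F i hi]; exact sb_mem _ _

theorem mem_Sbar_iff (t : W (chevBNPair D hD F)) :
    t ∈ Sbar (chevBNPair D hD F) ↔ ∃ i < D.rank, t = sbI D hD F i := by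
  constructor
  · intro ht
    obtain ⟨s, hs, rfl⟩ := exists_sb_of_mem (chevBNPair D hD F) ht
    have hsf : s ∈ fundSet D F := hs
    obtain ⟨i, hi, hsm⟩ := hsf
    refine ⟨i, hi, ?_⟩
    have hsn := coe_eq_nFund_of_mem_fundSet D hD F s i hsm
    have : s = fundEl D hD F i := Subtype.ext (by rw [hsn, fundEl_coe D hD F i hi])
    subst this
    rfl
  · rintro ⟨i, hi, rfl⟩
    exact sbI_mem D hD F i hi

theorem wRel_word : ∀ (L : List ℕ), (∀ i ∈ L, i < D.rank) →
    WRel D hD F ((L.map (sbI D hD F)).prod) ((List.range D.nroots).map (reflWord D L))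
  | [], _ => by
    show WRel D hD F 1 ((List.range D.nroots).map id)
    rw [List.map_id]; exact wRel_one D hD F
  | i :: L, hL => by
    have hi : i < D.rank := hL i List.mem_cons_self
    have ih := wRel_word L (fun j hj => hL j (List.mem_cons_of_mem _ hj))
    rw [List.map_cons, List.prod_cons, sbI_eq_sb D hD F i hi]
    have := wRel_mul D hD F _ _ ih (fundEl D hD F i) (fundEl_mem_S D hD F i hi) i hi
      (fundEl_coe D hD F i hi)
    rw [List.map_map] at this
    exact this

theorem word_eq_one_iff (refls : List (List ℕ))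
    (hrefl : refls = (List.range D.rank).map fun i => (List.range D.nroots).map (D.reflectRoot i))
    (L : List ℕ) (hL : ∀ i ∈ L, i < D.rank) :
    (L.map (sbI D hD F)).prod = 1 ↔ wordPerm refls D.nroots L = List.range D.nroots := by
  have h1 := wRel_word D hD F L hL
  rw [← wordPerm_eq D hD refls hrefl L hL] at h1
  constructor
  · intro h
    rw [h] at h1
    exact wRel_unique D hD F 1 _ _ h1 (wRel_one D hD F)
  · intro h
    rw [h] at h1
    exact wRel_inj D hD F _ _ _ h1 (wRel_one D hD F)

omit hD in
theorem repW_prod {G : Type*} [Group G] (f : ℕ → G) (i j : ℕ) :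
    ∀ k, ((repW i j k).map f).prod = (f i * f j) ^ k
  | 0 => by simp [repW]
  | k + 1 => by
    show (f i :: f j :: (repW i j k).map f).prod = _
    rw [List.prod_cons, List.prod_cons, repW_prod f i j k, pow_succ', mul_assoc]

omit hD in
theorem repW_lt (i j : ℕ) (l : ℕ) (hi : i < l) (hj : j < l) : ∀ k, ∀ x ∈ repW i j k, x < l
  | 0, x, hx => by simp [repW] at hx
  | k + 1, x, hx => by
    have : x = i ∨ x = j ∨ x ∈ repW i j k := by simpa [repW] using hx
    rcases this with rfl | rfl | h
    · exact hi
    · exact hj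
    · exact repW_lt i j l hi hj k x h

/-- the orders of the products of two fundamental reflections, from the table check -/
theorem orderOf_sbI_mul (refls : List (List ℕ))
    (hrefl : refls = (List.range D.rank).map fun i => (List.range D.nroots).map (D.reflectRoot i))
    (Mt : List (List ℕ)) (h : coxOKB refls D.nroots D.rank Mt = true) (i j : ℕ) (hi : i < D.rank)
    (hj : j < D.rank) : orderOf (sbI D hD F i * sbI D hD F j) = (Mt.getD i []).getD j 0 := by
  unfold coxOKB at h
  simp only [Bool.and_eq_true, List.all_eq_true, List.mem_range, decide_eq_true_eq, beq_iff_eq,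
    Bool.or_eq_true, bne_iff_ne] at h
  obtain ⟨⟨hpos, hm⟩, hk⟩ := h i hi j hj
  rw [orderOf_eq_iff hpos]
  constructor
  · rw [← repW_prod (sbI D hD F) i j, word_eq_one_iff D hD F refls hrefl _ (repW_lt i j _ hi hj _)]
    exact hm
  · intro k hkm hk0
    rw [← repW_prod (sbI D hD F) i j, Ne, word_eq_one_iff D hD F refls hrefl _ (repW_lt i j _ hi hj _)]
    rcases hk k hkm with h0 | h0
    · omega
    · exact h0

end

end Cfsg.Agent.Lib.Helper7
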