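import Cfsg.Agent.Lib.Helper7.ChevWeylEnum
import Cfsg.Agent.Lib.Helper7.BNCount
import Cfsg.Agent.Lib.Helper7.ChevCoxeter

/-! Counting a finite group with a `(B,N)`-pair whose Weyl group is identified with the Weyl group of a
Chevalley group with a verified enumeration, with weighted cells (helper7). -/

set_option autoImplicit false

namespace Cfsg.Agent.Lib.Helper7

open Cfsg Cfsg.Lie Matrix
open Cfsg.Agent.Lib.Helper3.BN Cfsg.Agent.Lib.Helper3.WordLen

/-- transport of the word length along an isomorphism -/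
theorem len_mulEquiv {W W' : Type*} [Group W] [Group W'] (e : W ≃* W') (S : Set W) (S' : Set W')
    (h1 : ∀ s ∈ S, e s ∈ S') (h2 : ∀ s' ∈ S', e.symm s' ∈ S) (w : W) : len S' (e w) = len S w := by
  unfold len
  congr 1
  ext k
  constructor
  · rintro ⟨L, hL, hp, hl⟩
    refine ⟨L.map e.symm, ?_, ?_, by rw [List.length_map, hl]⟩
    · intro x hx
      rw [List.mem_map] at hx
      obtain ⟨y, hy, rfl⟩ := hx
      exact h2 y (hL y hy)
    · rw [← map_list_prod, hp, MulEquiv.symm_apply_apply]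
  · rintro ⟨L, hL, hp, hl⟩
    refine ⟨L.map e, ?_, ?_, by rw [List.length_map, hl]⟩
    · intro x hx
      rw [List.mem_map] at hx
      obtain ⟨y, hy, rfl⟩ := hx
      exact h1 y (hL y hy)
    · rw [← map_list_prod, hp]

section
variable {G : Type*} [Group G] [Finite G] (P : Cfsg.BNPair G)
variable (D : ChevalleyDatum) (hD : D ∈ [chevG2, chevB2, chevD4, chevF4, chevE6, chevE7, chevE8])
variable (F : Type*) [Field F] {I : Type} (S : Finset I) (perm : I → List ℕ) (dep : I → ℕ) (e0 : I)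
variable (hT : WeylEnum D S perm dep e0)
variable (ι : W P ≃* W (chevBNPair D hD F))
variable (g : Fin D.rank → G) (hg : ∀ i, g i ∈ P.S)
  (hι : ∀ i : Fin D.rank, ι (sb P (g i) (hg i)) = sbI D hD F i.val)
  (hall : ∀ x ∈ Sbar P, ∃ i, x = sb P (g i) (hg i))
variable (wgt : ℕ → ℕ) (wt : I → ℕ) (hwt0 : wt e0 = 0)
  (hwt : ∀ e ∈ S, e ≠ e0 → ∃ i < D.rank, ∃ e' ∈ S, perm e' = (perm e).map (D.reflectRoot i) ∧
    dep e' + 1 = dep e ∧ wt e = wt e' + wgt i)
variable (a : ℕ) (hC : ∀ i : Fin D.rank, Nat.card (C P (sb P (g i) (hg i))) = a ^ wgt i.val * Nat.card P.B)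
include hT hι

omit [Finite G] in
theorem tw_idx_mul (w : W P) (i : Fin D.rank) (e' : I) (he' : e' ∈ S)
    (hp : perm e' = (perm (enumIdx D hD F S perm dep e0 hT (ι w))).map (D.reflectRoot i.val)) :
    enumIdx D hD F S perm dep e0 hT (ι (sb P (g i) (hg i) * w)) = e' := by
  rw [map_mul, hι i, sbI_eq_sb D hD F i.val i.isLt]
  exact enumIdx_mul D hD F S perm dep e0 hT (ι w) _ (fundEl_mem_S D hD F i.val i.isLt) i.val i.isLt
    (fundEl_coe D hD F i.val i.isLt) e' he' hp

include hall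

omit [Finite G] in
theorem tw_len_eq_dep (w : W P) :
    len (Sbar P) w = dep (enumIdx D hD F S perm dep e0 hT (ι w)) := by
  rw [← enum_len_eq_dep D hD F S perm dep e0 hT (ι w)]
  symm
  apply len_mulEquiv ι
  · intro s hs
    obtain ⟨i, rfl⟩ := hall s hs
    rw [hι i]
    exact sbI_mem D hD F i.val i.isLt
  · intro s' hs'
    obtain ⟨i, hi, rfl⟩ := (mem_Sbar_iff D hD F s').mp hs'
    rw [← hι ⟨i, hi⟩, MulEquiv.symm_apply_apply]
    exact sb_mem P (hg ⟨i, hi⟩)

include hwt0 hwt hC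

theorem tw_card_C : ∀ (k : ℕ) (w : W P), dep (enumIdx D hD F S perm dep e0 hT (ι w)) = k →
    Nat.card (C P w) = a ^ wt (enumIdx D hD F S perm dep e0 hT (ι w)) * Nat.card P.B := by
  have hBpos : 0 < Nat.card P.B := Nat.card_pos
  intro k
  induction k with
  | zero =>
    intro w hw
    have hid : enumIdx D hD F S perm dep e0 hT (ι w) = e0 := by
      by_contra hne
      obtain ⟨i, -, e', -, -, hd, -⟩ := hwt _ (enumIdx_mem D hD F S perm dep e0 hT (ι w)) hne
      omega
    have hw1 : w = 1 := by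
      have hid' := hid.trans (enumIdx_one D hD F S perm dep e0 hT).symm
      have := enumIdx_inj D hD F S perm dep e0 hT _ _ hid'
      rw [← map_one ι] at this
      exact ι.injective this
    rw [hid, hwt0, pow_zero, one_mul, hw1, C_one]
    rfl
  | succ k ih =>
    intro w hw
    have hmem := enumIdx_mem D hD F S perm dep e0 hT (ι w)
    have hne : enumIdx D hD F S perm dep e0 hT (ι w) ≠ e0 := by
      intro hid
      rw [hid, hT.idDep] at hw
      omega
    obtain ⟨i, hi, e', he', hp, hd, hw2⟩ := hwt _ hmem hne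
    obtain ⟨w', hw'⟩ : ∃ w', w' = sb P (g ⟨i, hi⟩) (hg ⟨i, hi⟩) * w := ⟨_, rfl⟩
    have hidx : enumIdx D hD F S perm dep e0 hT (ι w') = e' := by
      rw [hw']
      exact tw_idx_mul P D hD F S perm dep e0 hT ι g hg hι w ⟨i, hi⟩ e' he' hp
    have hdep' : dep (enumIdx D hD F S perm dep e0 hT (ι w')) = k := by rw [hidx]; omega
    have hww : w = sb P (g ⟨i, hi⟩) (hg ⟨i, hi⟩) * w' := by
      rw [hw', sb_mul_cancel]
    have h1 := ih w' hdep'
    have hl : len (Sbar P) w' < len (Sbar P) (sb P (g ⟨i, hi⟩) (hg ⟨i, hi⟩) * w') := by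
      rw [← hww, tw_len_eq_dep P D hD F S perm dep e0 hT ι g hg hι hall w',
        tw_len_eq_dep P D hD F S perm dep e0 hT ι g hg hι hall w, hdep', hw]
      omega
    have h2 := card_C_mul P (hg ⟨i, hi⟩) hl
    rw [← hww, hC ⟨i, hi⟩, h1, hidx] at h2
    rw [hw2]
    apply Nat.eq_of_mul_eq_mul_right hBpos
    rw [h2, pow_add]
    ring

/-- `|G| = |B| Σ_e a^{wt e}` -/
theorem tw_card_group : Nat.card G = Nat.card P.B * ∑ e ∈ S, a ^ wt e := by
  classical
  have hfinW : Finite (W (chevBNPair D hD F)) := enum_finite_W D hD F S perm dep e0 hT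
  have : Finite (W P) := Finite.of_equiv _ ι.symm.toEquiv
  have : Fintype (W P) := Fintype.ofFinite _
  rw [card_eq_sum_cells P, Finset.mul_sum]
  apply Finset.sum_nbij (fun w => enumIdx D hD F S perm dep e0 hT (ι w))
  · intro w _
    exact enumIdx_mem D hD F S perm dep e0 hT (ι w)
  · intro w _ w' _ h
    exact ι.injective (enumIdx_inj D hD F S perm dep e0 hT _ _ h)
  · intro e he
    obtain ⟨w, hw⟩ := enumIdx_surj D hD F S perm dep e0 hT _ e (Finset.mem_coe.mp he) rfl
    exact ⟨ι.symm w, Finset.mem_coe.mpr (Finset.mem_univ _), by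
      show enumIdx D hD F S perm dep e0 hT (ι (ι.symm w)) = e
      rw [MulEquiv.apply_symm_apply, hw]⟩
  · intro w _
    rw [tw_card_C P D hD F S perm dep e0 hT ι g hg hι hall wgt wt hwt0 hwt a hC _ w rfl, mul_comm]

end

end Cfsg.Agent.Lib.Helper7
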