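import Cfsg.Agent.Lib.Helper7.ChevTwistTorusE6c

/-! The order of the torus `H ∩ ²E₆(q)`: the kernel of the parametrization and the count (helper7). -/

set_option autoImplicit false
set_option maxRecDepth 100000

namespace Cfsg.Agent.Lib.Helper7

open Cfsg Cfsg.Lie Matrix

theorem e6_kernel_algebra {K : Type*} [Field K] (c0 c1 c2 c3 c4 c5 : K) (h0 : c0 ≠ 0) (h1 : c1 ≠ 0)
    (h5 : c5 ≠ 0) (E0 : c0 ^ 2 = c2) (E1 : c1 ^ 2 = c3) (E2 : c2 ^ 2 = c0 * c3)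
    (E3 : c3 ^ 2 = c1 * c2 * c4) (E4 : c4 ^ 2 = c3 * c5) (E5 : c5 ^ 2 = c4) :
    c1 = 1 ∧ c0 ^ 3 = 1 ∧ c5 = c0 ^ 2 := by
  subst E0 E1 E5
  have h03 : c0 ^ 3 = c1 ^ 2 := mul_left_cancel₀ h0 (by linear_combination E2)
  have h53 : c5 ^ 3 = c1 ^ 2 := mul_left_cancel₀ h5 (by linear_combination E4)
  have h13 : c1 ^ 3 = c0 ^ 2 * c5 ^ 2 := mul_left_cancel₀ h1 (by linear_combination E3)
  have h18 : c1 ^ 8 * c1 = c1 ^ 8 * 1 := by
    calc c1 ^ 8 * c1 = (c1 ^ 3) ^ 3 := by ring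
      _ = (c0 ^ 2 * c5 ^ 2) ^ 3 := by rw [h13]
      _ = (c0 ^ 3) ^ 2 * (c5 ^ 3) ^ 2 := by ring
      _ = (c1 ^ 2) ^ 2 * (c1 ^ 2) ^ 2 := by rw [h03, h53]
      _ = c1 ^ 8 * 1 := by ring
  have hc1 : c1 = 1 := mul_left_cancel₀ (pow_ne_zero 8 h1) h18
  rw [hc1, one_pow] at h03 h53 h13
  refine ⟨hc1, h03, ?_⟩
  calc c5 = (c0 ^ 2 * c5 ^ 2) * c5 := by rw [← h13]; ring
    _ = c0 ^ 2 * c5 ^ 3 := by ring
    _ = c0 ^ 2 := by rw [h53, mul_one]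

section
variable (K : Type*) [Field K] (φ : K ≃+* K)

theorem mem_ker_psiE6_iff (p : ParE6 K φ) :
    p ∈ (psiE6 K φ).ker ↔ (((p.1 : Kˣ) : K) = 1 ∧ ((p.2.1 : Kˣ) : K) = 1 ∧ (p.2.2.1 : K) ^ 3 = 1 ∧
      φ (p.2.2.1 : K) = (p.2.2.1 : K) ^ 2 ∧ (p.2.2.2 : K) = (p.2.2.1 : K) ^ 2) := by
  rw [MonoidHom.mem_ker, psiE6_apply,
    hC_E6_eq_one_iff K (cE6 K φ p) (fun i _ => cE6_ne_zero K φ p i)]
  have v0 : cE6 K φ p 0 = (p.2.2.1 : K) := by simp [cE6]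
  have v1 : cE6 K φ p 1 = ((p.1 : Kˣ) : K) := by simp [cE6]
  have v2 : cE6 K φ p 2 = (p.2.2.2 : K) := by simp [cE6]
  have v3 : cE6 K φ p 3 = ((p.2.1 : Kˣ) : K) := by simp [cE6]
  have v4 : cE6 K φ p 4 = φ (p.2.2.2 : K) := by simp [cE6]
  have v5 : cE6 K φ p 5 = φ (p.2.2.1 : K) := by simp [cE6]
  rw [v0, v1, v2, v3, v4, v5]
  obtain ⟨l0, hl0⟩ : ∃ x : K, x = (p.2.2.1 : K) := ⟨_, rfl⟩
  obtain ⟨l2, hl2⟩ : ∃ x : K, x = (p.2.2.2 : K) := ⟨_, rfl⟩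
  obtain ⟨m1, hm1⟩ : ∃ x : K, x = ((p.1 : Kˣ) : K) := ⟨_, rfl⟩
  obtain ⟨m3, hm3⟩ : ∃ x : K, x = ((p.2.1 : Kˣ) : K) := ⟨_, rfl⟩
  have hl00 : l0 ≠ 0 := by rw [hl0]; exact Units.ne_zero _
  have hm10 : m1 ≠ 0 := by rw [hm1]; exact Units.ne_zero _
  rw [← hl0, ← hl2, ← hm1, ← hm3]
  constructor
  · rintro ⟨E0, E1, E2, E3, E4, E5⟩
    obtain ⟨a1, a2, a3⟩ := e6_kernel_algebra l0 m1 l2 m3 (φ l2) (φ l0) hl00 hm10
      ((map_ne_zero φ).mpr hl00) E0 E1 E2 E3 E4 E5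
    refine ⟨a1, ?_, a2, a3, E0.symm⟩
    rw [← E1, a1, one_pow]
  · rintro ⟨a1, a3, a2, a4, a5⟩
    rw [a1, a3, a5, map_pow, a4]
    have h4 : l0 ^ 4 = l0 := by linear_combination l0 * a2
    refine ⟨rfl, by ring, ?_, ?_, ?_, by ring⟩
    · linear_combination h4
    · linear_combination (-(l0 ^ 3) - 1) * a2
    · linear_combination (l0 ^ 5 + l0 ^ 2) * a2

/-- the cube roots of unity inverted by `φ` -/
abbrev RootsE6 := {z : Kˣ // (z : K) ^ 3 = 1 ∧ φ (z : K) = (z : K) ^ 2}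

/-- the kernel of the parametrization -/
noncomputable def kerEquivE6 : ↥(psiE6 K φ).ker ≃ RootsE6 K φ where
  toFun p := ⟨p.1.2.2.1, ((mem_ker_psiE6_iff K φ p.1).mp p.2).2.2.1, ((mem_ker_psiE6_iff K φ p.1).mp p.2).2.2.2.1⟩
  invFun z := ⟨((1 : ↥(fixUE6 K φ)), (1 : ↥(fixUE6 K φ)), z.1, z.1 ^ 2), (mem_ker_psiE6_iff K φ _).mpr
    ⟨rfl, rfl, z.2.1, z.2.2, by simp⟩⟩
  left_inv p := by
    obtain ⟨a1, a3, -, -, a5⟩ := (mem_ker_psiE6_iff K φ p.1).mp p.2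
    apply Subtype.ext
    apply Prod.ext
    · exact Subtype.ext (Units.ext a1.symm)
    apply Prod.ext
    · exact Subtype.ext (Units.ext a3.symm)
    apply Prod.ext
    · rfl
    · apply Units.ext
      show ((p.1.2.2.1 ^ 2 : Kˣ) : K) = _
      rw [Units.val_pow_eq_pow_val, a5]
  right_inv z := rfl

end

section
variable (K : Type*) [Field K] [Fintype K] (φ : K ≃+* K)

theorem card_rootsE6 (q : ℕ) (hq : 0 < q) (hK : Fintype.card K = q ^ 2) (hφ : ∀ a, φ a = a ^ q) :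
    Nat.card (RootsE6 K φ) = Nat.gcd 3 (q + 1) := by
  have hcard : Nat.card Kˣ = q ^ 2 - 1 := by
    classical
    rw [Nat.card_eq_fintype_card, Fintype.card_units, hK]
  have hker := IsCyclic.card_powMonoidHom_ker Kˣ (Nat.gcd 3 (q + 1))
  have hdvd : Nat.gcd 3 (q + 1) ∣ q ^ 2 - 1 := by
    have h1 : q ^ 2 - 1 = (q + 1) * (q - 1) := by
      obtain ⟨n, rfl⟩ : ∃ n, q = n + 1 := ⟨q - 1, by omega⟩
      rw [Nat.add_sub_cancel]
      apply Nat.sub_eq_of_eq_add; ring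
    rw [h1]
    exact Dvd.dvd.mul_right (Nat.gcd_dvd_right 3 (q + 1)) _
  rw [hcard, Nat.gcd_eq_right hdvd] at hker
  rw [← hker]
  apply Nat.card_congr
  have hiff : ∀ z : Kˣ, ((z : K) ^ 3 = 1 ∧ φ (z : K) = (z : K) ^ 2) ↔
      z ∈ (powMonoidHom (Nat.gcd 3 (q + 1)) : Kˣ →* Kˣ).ker := by
    intro z
    rw [MonoidHom.mem_ker, powMonoidHom_apply]
    constructor
    · rintro ⟨h3, h2⟩
      have h3' : z ^ 3 = 1 := Units.ext (by rw [Units.val_pow_eq_pow_val, h3]; rfl)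
      have hq1 : z ^ (q + 1) = 1 := by
        apply Units.ext
        rw [Units.val_pow_eq_pow_val, pow_succ, ← hφ, h2, ← pow_succ, h3]; rfl
      exact pow_gcd_eq_one.mpr ⟨h3', hq1⟩
    · intro hg
      obtain ⟨h3', hq1⟩ := pow_gcd_eq_one.mp hg
      have h3 : (z : K) ^ 3 = 1 := by
        rw [← Units.val_pow_eq_pow_val, h3']; rfl
      refine ⟨h3, ?_⟩
      have hq1' : (z : K) ^ q * (z : K) = 1 := by
        rw [← pow_succ, ← Units.val_pow_eq_pow_val, hq1]; rfl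
      rw [hφ]
      apply mul_right_cancel₀ (Units.ne_zero z)
      rw [hq1', ← pow_succ, h3]
  exact
    { toFun := fun z => ⟨z.1, (hiff z.1).mp z.2⟩
      invFun := fun z => ⟨z.1, (hiff z.1).mpr z.2⟩
      left_inv := fun z => rfl
      right_inv := fun z => rfl }

/-- the order of `H₀` for `²E₆(q)` -/
theorem card_twTorus_E6 (q : ℕ) (hq : 0 < q) (hK : Fintype.card K = q ^ 2) (hφ : ∀ a, φ a = a ^ q)
    (hφ2 : ∀ a, φ (φ a) = a) (hfix : Nat.card {a : K // φ a = a} = q) :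
    Nat.gcd 3 (q + 1) * Nat.card ↥(twTorus chevE6 chevE6_mem K (fun j => grPv_E6_1.getD j 0) φ) =
      (q - 1) ^ 4 * (q + 1) ^ 2 := by
  rw [← range_psiE6 K φ hφ2, ← card_rootsE6 K φ q hq hK hφ, ← Nat.card_congr (kerEquivE6 K φ),
    ← Subgroup.index_ker, Subgroup.card_mul_index]
  have hcard : Nat.card Kˣ = q ^ 2 - 1 := by
    classical
    rw [Nat.card_eq_fintype_card, Fintype.card_units, hK]
  rw [Nat.card_prod, Nat.card_prod, Nat.card_prod, card_fixUE6 K φ q hfix, hcard]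
  have h1 : q ^ 2 - 1 = (q + 1) * (q - 1) := by
    obtain ⟨n, rfl⟩ : ∃ n, q = n + 1 := ⟨q - 1, by omega⟩
    rw [Nat.add_sub_cancel]
    apply Nat.sub_eq_of_eq_add; ring
  rw [h1]; ring

end

end Cfsg.Agent.Lib.Helper7
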