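import Cfsg.Agent.Lib.Helper7.ChevTwistWeyl
import Cfsg.Agent.Lib.Helper7.ChevTwistE6
import Cfsg.Agent.Lib.Helper7.ChevTwistD4

/-! Twisted groups `²E₆(q)`, `³D₄(q)`: `N¹/H¹` is the Coxeter group of type `F₄`, `G₂` (helper7). -/

set_option autoImplicit false
set_option maxRecDepth 100000

namespace Cfsg.Agent.Lib.Helper7

open Cfsg Cfsg.Lie Matrix

def twCoxMt_E6 : List (List ℕ) := [[1, 3, 2, 2], [3, 1, 2, 4], [2, 2, 1, 3], [2, 4, 3, 1]]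

def twCoxMt_D4 : List (List ℕ) := [[1, 6], [6, 1]]

theorem twCoxOKB_E6 : twCoxOKB chevE6 twSimpIdx_E6 twCoxMt_E6 = true := by decide +kernel

theorem twCoxOKB_D4 : twCoxOKB chevD4 twSimpIdx_D4 twCoxMt_D4 = true := by decide +kernel

/-- the nodes of the Coxeter diagram `F₄` as classes of `E₆` -/
def twPi_E6 : Fin 4 → Fin twSimpIdx_E6.length :=
  ![⟨0, by decide⟩, ⟨1, by decide⟩, ⟨3, by decide⟩, ⟨2, by decide⟩]

/-- the nodes of the Coxeter diagram `G₂` as classes of `D₄` -/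
def twPi_D4 : Fin 2 → Fin twSimpIdx_D4.length := ![⟨0, by decide⟩, ⟨1, by decide⟩]

theorem twPi_E6_surj : Function.Surjective twPi_E6 := by decide

theorem twPi_D4_surj : Function.Surjective twPi_D4 := by decide

theorem twCoxM_E6 : ∀ i j : Fin 4,
    (twCoxMt_E6.getD (twPi_E6 i).val []).getD (twPi_E6 j).val 0 = CoxeterMatrix.F₄ i j := by
  intro i j
  fin_cases i <;> fin_cases j <;> rfl

theorem twCoxM_D4 : ∀ i j : Fin 2,
    (twCoxMt_D4.getD (twPi_D4 i).val []).getD (twPi_D4 j).val 0 = CoxeterMatrix.G₂ i j := by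
  intro i j
  fin_cases i <;> fin_cases j <;> rfl

section
variable (K : Type*) [Field K] (φ : K ≃+* K)

/-- `N¹/H¹ ≅ W(F₄)` for `²E₆(q)` -/
theorem twE6_mono_hom (hφ : ∀ a, φ^[2] a = a) :
    ∃ f : ↥(chevE6.monomialSubgroup K ⊓ chevE6.genSubgroup K (twWords K φ [e6p2, e6m2, e6p4, e6m4]
      [(e6p1, e6p6), (e6m1, e6m6), (e6p3, e6p5), (e6m3, e6m5)] [])) →* CoxeterMatrix.F₄.Group,
      Function.Surjective f ∧
      f.ker = (chevE6.diagonalSubgroup K ⊓ chevE6.genSubgroup K (twWords K φ [e6p2, e6m2, e6p4, e6m4]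
      [(e6p1, e6p6), (e6m1, e6m6), (e6p3, e6p5), (e6m3, e6m5)] [])).subgroupOf
        (chevE6.monomialSubgroup K ⊓ chevE6.genSubgroup K (twWords K φ [e6p2, e6m2, e6p4, e6m4]
      [(e6p1, e6p6), (e6m1, e6m6), (e6p3, e6p5), (e6m3, e6m5)] [])) := by
  obtain ⟨P, hPB, hPN, hPS⟩ := exists_twistedBNPair chevE6 chevE6_mem
    _ _ _ _ _ _ _ _ _ _ _ _ _ _ twistTab_E6 twistTab2_E6 K φ hφ
  exact exists_twisted_mono_hom chevE6 chevE6_mem K _ twSimpIdx_E6 P hPB hPN hPS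
    (fun J => nWordGL_mem_twE6 K φ _ (List.get_mem _ J))
    (fun J hJ => (simpClassFacts_E6 J hJ).lt) 4 CoxeterMatrix.F₄ twPi_E6 twPi_E6_surj twCoxMt_E6
    twCoxOKB_E6 twCoxM_E6

/-- `N¹/H¹ ≅ W(G₂)` for `³D₄(q)` -/
theorem twD4_mono_hom (hφ : ∀ a, φ^[3] a = a) :
    ∃ f : ↥(chevD4.monomialSubgroup K ⊓ chevD4.genSubgroup K (twWords K φ [d4p2, d4m2] []
      [(d4p1, d4p3, d4p4), (d4m1, d4m3, d4m4)])) →* CoxeterMatrix.G₂.Group,
      Function.Surjective f ∧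
      f.ker = (chevD4.diagonalSubgroup K ⊓ chevD4.genSubgroup K (twWords K φ [d4p2, d4m2] []
      [(d4p1, d4p3, d4p4), (d4m1, d4m3, d4m4)])).subgroupOf
        (chevD4.monomialSubgroup K ⊓ chevD4.genSubgroup K (twWords K φ [d4p2, d4m2] []
      [(d4p1, d4p3, d4p4), (d4m1, d4m3, d4m4)])) := by
  obtain ⟨P, hPB, hPN, hPS⟩ := exists_twistedBNPair chevD4 chevD4_mem
    _ _ _ _ _ _ _ _ _ _ _ _ _ _ twistTab_D4 twistTab2_D4 K φ hφ
  exact exists_twisted_mono_hom chevD4 chevD4_mem K _ twSimpIdx_D4 P hPB hPN hPS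
    (fun J => nWordGL_mem_twD4 K φ _ (List.get_mem _ J))
    (fun J hJ => (simpClassFacts_D4 J hJ).lt) 2 CoxeterMatrix.G₂ twPi_D4 twPi_D4_surj twCoxMt_D4
    twCoxOKB_D4 twCoxM_D4

end

end Cfsg.Agent.Lib.Helper7
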