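import Cfsg.Agent.Lib.Helper7.ChevWeylChainWt
import Cfsg.Agent.Lib.Helper7.ChevTwistOrderGen
import Cfsg.Agent.Lib.Helper7.ChevWeylChainF4
import Cfsg.Agent.Lib.Helper7.ChevTwistTorusE6d
import Cfsg.Agent.Lib.Helper7.ChevTwistCount2
import Cfsg.Agent.Lib.Helper7.ChevTwistWeylTab
import Cfsg.Agent.Lib.Helper7.ChevCoxeterTabF4

/-! The order of `²E₆(q)` (helper7). -/

set_option autoImplicit false
set_option maxRecDepth 100000

namespace Cfsg.Agent.Lib.Helper7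

open Cfsg Cfsg.Lie Matrix Cfsg.Agent.Lib.Helper3.BN

/-- the weights of the elements of the levels of the chain of `W(F₄)`, for the weights `1, 1, 2, 2` of the
nodes -/
def chainWts_F4E6 : List (List ℕ) :=
  [[0, 1, 2, 4, 5, 6, 6, 7, 8, 9, 10, 10, 11, 11, 12, 13, 14, 15, 15, 16, 17, 19, 20, 21],
   [0, 2, 4, 5, 7, 9], [0, 2, 3, 5], [0, 1]]

theorem chainWtOKB_F4E6 :
    chainWtOKB weylChain_F4.refls [1, 1, 2, 2] weylChain_F4.levels chainWts_F4E6 = true := by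
  decide +kernel

/-- the histograms of the weights of the levels -/
def chainWtHist_F4E6 : List (ℕ × List ℕ) :=
  [(22, [1, 1, 1, 0, 1, 1, 2, 1, 1, 1, 2, 2, 1, 1, 1, 2, 1, 1, 0, 1, 1, 1]),
   (10, [1, 0, 1, 0, 1, 1, 0, 1, 0, 1]), (6, [1, 0, 1, 1, 0, 1]), (2, [1, 1])]

theorem chainWtHistOKB_F4E6 :
    chainWtHistOKB weylChain_F4.levels chainWts_F4E6 chainWtHist_F4E6 = true := by
  decide +kernel

theorem e6_order_arith (q : ℕ) (hq : 1 ≤ q) :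
    (q - 1) ^ 4 * (q + 1) ^ 2 * q ^ 36 * histPoly q chainWtHist_F4E6 =
      q ^ 36 * (q ^ 2 - 1) * (q ^ 5 + 1) * (q ^ 6 - 1) * (q ^ 8 - 1) * (q ^ 9 + 1) * (q ^ 12 - 1) := by
  have h2 : 1 ≤ q ^ 2 := Nat.one_le_pow _ _ hq
  have h6 : 1 ≤ q ^ 6 := Nat.one_le_pow _ _ hq
  have h8 : 1 ≤ q ^ 8 := Nat.one_le_pow _ _ hq
  have h12 : 1 ≤ q ^ 12 := Nat.one_le_pow _ _ hq
  simp only [chainWtHist_F4E6, histPoly, Finset.sum_range_succ, Finset.sum_range_zero,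
    List.getD_cons_zero, List.getD_cons_succ]
  zify [hq, h2, h6, h8, h12]
  ring

theorem twPi_E6_len :
    ∀ i : Fin 4, (twSimpIdx_E6.get (twPi_E6 i)).length = [1, 1, 2, 2].getD i.val 0 := by
  decide

section
variable (K : Type*) [Field K] (φ : K ≃+* K)

local notation "G1E6" => chevE6.genSubgroup K (twWords K φ [e6p2, e6m2, e6p4, e6m4]
  [(e6p1, e6p6), (e6m1, e6m6), (e6p3, e6p5), (e6m3, e6m5)] [])

/-- `gcd(3, q+1) |²E₆(q)| = q³⁶ (q² - 1)(q⁵ + 1)(q⁶ - 1)(q⁸ - 1)(q⁹ + 1)(q¹² - 1)` -/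
theorem card_twE6 [Fintype K] (q : ℕ) (hq : 1 ≤ q) (hK : Fintype.card K = q ^ 2) (hφq : ∀ a, φ a = a ^ q)
    (hφ : ∀ a, φ^[2] a = a) (hfix : Nat.card {a : K // φ a = a} = q) :
    Nat.gcd 3 (q + 1) * Nat.card ↥G1E6 =
      q ^ 36 * (q ^ 2 - 1) * (q ^ 5 + 1) * (q ^ 6 - 1) * (q ^ 8 - 1) * (q ^ 9 + 1) * (q ^ 12 - 1) := by
  have hKc : Nat.card K = q ^ 2 := by rw [Nat.card_eq_fintype_card, hK]
  obtain ⟨P, hPB, hPN, hPS⟩ := exists_twistedBNPair chevE6 chevE6_mem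
    _ _ _ _ _ _ _ _ _ _ _ _ _ _ twistTab_E6 twistTab2_E6 K φ hφ
  have hmem : ∀ J : Fin twSimpIdx_E6.length, clsRep chevE6 chevE6_mem K twSimpIdx_E6 J ∈ G1E6 :=
    fun J => nWordGL_mem_twE6 K φ _ (List.get_mem _ J)
  have hlt : ∀ J ∈ twSimpIdx_E6, ∀ i ∈ J, i < chevE6.rank := fun J hJ => (simpClassFacts_E6 J hJ).lt
  have hs : ∀ i : Fin 4, twSb chevE6 chevE6_mem K _ twSimpIdx_E6 P hPS hmem (twPi_E6 i) ∈ Sbar P :=
    fun i => twSb_mem chevE6 chevE6_mem K _ twSimpIdx_E6 P hPS hmem (twPi_E6 i)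
  have hsurj : ∀ t ∈ Sbar P, ∃ i : Fin 4,
      t = twSb chevE6 chevE6_mem K _ twSimpIdx_E6 P hPS hmem (twPi_E6 i) := by
    intro t ht
    obtain ⟨J, rfl⟩ := twSb_surj chevE6 chevE6_mem K _ twSimpIdx_E6 P hPS hmem t ht
    obtain ⟨i, rfl⟩ := twPi_E6_surj J
    exact ⟨i, rfl⟩
  have hord : ∀ i j : Fin 4, orderOf (twSb chevE6 chevE6_mem K _ twSimpIdx_E6 P hPS hmem (twPi_E6 i) *
      twSb chevE6 chevE6_mem K _ twSimpIdx_E6 P hPS hmem (twPi_E6 j)) = CoxeterMatrix.F₄ i j := by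
    intro i j
    rw [orderOf_twSb_mul chevE6 chevE6_mem K _ twSimpIdx_E6 P hPB hPN hPS hmem hlt twCoxMt_E6 twCoxOKB_E6,
      twCoxM_E6]
  obtain ⟨e1, he1⟩ : ∃ e : W P ≃* CoxeterMatrix.F₄.Group, ∀ i : Fin 4,
      e (twSb chevE6 chevE6_mem K _ twSimpIdx_E6 P hPS hmem (twPi_E6 i)) = CoxeterMatrix.F₄.simple i :=
    ⟨bnWeylCoxEquiv P 4 _ _ hs hsurj hord, bnWeylCoxEquiv_gen P 4 _ _ hs hsurj hord⟩
  obtain ⟨e2, he2⟩ : ∃ e : W (chevBNPair chevF4 mem_F4 K) ≃* CoxeterMatrix.F₄.Group, ∀ i : Fin 4,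
      e (sbI chevF4 mem_F4 K i.val) = CoxeterMatrix.F₄.simple i :=
    ⟨weylCoxEquiv chevF4 mem_F4 K 4 rfl _ (orderOf_sbI_F4 K),
      weylCoxEquiv_sbI chevF4 mem_F4 K 4 rfl _ (orderOf_sbI_F4 K)⟩
  have hfinG : Finite ↥G1E6 := by
    have : Finite (GL chevE6.Idx K) := by
      have : Finite (Matrix chevE6.Idx chevE6.Idx K) := inferInstance
      exact Finite.of_injective (fun g : GL chevE6.Idx K => (g : Matrix chevE6.Idx chevE6.Idx K))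
        Units.val_injective
    infer_instance
  have hE := weylEnum_of_chain chevF4 weylChain_F4 weylChainOKB_F4
  obtain ⟨hwt0, hwt⟩ := enum_wt_of_chain chevF4 weylChain_F4 weylChainOKB_F4 [1, 1, 2, 2]
    chainWts_F4E6 chainWtOKB_F4E6
  have hB := card_B_eq chevE6 K _ P hPB
  have hBH := card_borel_twGroup chevE6 chevE6_mem _ _ _ _ _ _ _ _ _ _ _ _ _ _ twistTab_E6 K φ q hKc hfix hφ
  have hcell := fun J => card_cell_twGroup chevE6 chevE6_mem _ _ _ _ _ _ _ _ _ _ _ _ _ _ twistTab_E6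
    twistTab2_E6 K φ q hKc hfix hφ J
  have hC := fun J => card_C_twSb chevE6 chevE6_mem K _ twSimpIdx_E6 P hPB hPS hmem J
  have hfin := tw_card_group P chevF4 mem_F4 K (nfFin weylChain_F4.levels)
    (nfPerm chevF4.nroots weylChain_F4.levels) (nfDep weylChain_F4.levels) (nfZero weylChain_F4.levels)
    hE (e1.trans e2.symm)
    (fun i : Fin 4 => twEl chevE6 chevE6_mem K _ twSimpIdx_E6 hmem (twPi_E6 i))
    (fun i => twEl_mem_S chevE6 chevE6_mem K _ twSimpIdx_E6 P hPS hmem (twPi_E6 i))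
    (by
      intro (i : Fin 4)
      show e2.symm (e1 (twSb chevE6 chevE6_mem K _ twSimpIdx_E6 P hPS hmem (twPi_E6 i))) = _
      rw [he1, MulEquiv.symm_apply_eq, he2])
    (by
      intro x hx
      obtain ⟨i, rfl⟩ := hsurj x hx
      exact ⟨i, rfl⟩)
    (fun i => [1, 1, 2, 2].getD i 0) (nfWt weylChain_F4.levels chainWts_F4E6) hwt0 hwt q
    (by
      intro (i : Fin 4)
      have h1 := hC (twPi_E6 i)
      rw [hcell (twPi_E6 i), ← hB, twPi_E6_len i] at h1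
      rw [mul_comm]
      exact h1)
  rw [hfin, hB, hBH, twCls_E6_length, sum_nfFin_wt q weylChain_F4.refls [1, 1, 2, 2] _ _ chainWtOKB_F4E6,
    chainWtPoly_eq_histPoly q _ _ _ chainWtHistOKB_F4E6]
  have hH := card_twTorus_E6 K φ q hq hK hφq (fun a => hφ a) hfix
  rw [← diag_inf_twE6_eq K φ hφ] at hH
  rw [← e6_order_arith q hq, ← hH]
  ring

end

end Cfsg.Agent.Lib.Helper7
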