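import Cfsg.Agent.Lib.Helper7.ChevTwistCore
import Cfsg.Agent.Lib.Helper7.ChevTwistPerf

/-! Twisted groups: the torus `H ∩ G¹` (helper7). -/

set_option autoImplicit false

namespace Cfsg.Agent.Lib.Helper7

open Cfsg Cfsg.Lie Matrix

section
variable (D : ChevalleyDatum) (hD : D ∈ [chevG2, chevB2, chevD4, chevF4, chevE6, chevE7, chevE8])
variable (pv pv' ρ ρ' : ℕ → ℕ) (ε : ℕ → ℤ) (hG : GraphFacts D pv pv' ρ ρ' ε)
variable (K : Type*) [Field K] (φ : K ≃+* K)
include hD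

/-- the character of a `σ`-fixed diagonal element is compatible with `ρ` and `φ` -/
theorem fixed_diag_char (h : GL D.Idx K) (hh : h ∈ fixSigma D pv pv' ρ ρ' ε hG K φ) (χ : ℕ → K)
    (hχ : ChainChar D K χ) (hm : (h : Matrix D.Idx D.Idx K) = diagChar D K χ) (r : ℕ) (hr : r < D.nroots) :
    χ (ρ r) = φ (χ r) := by
  have hρr := hG.ρlt r hr
  rw [mem_fixSigma] at hh
  have e1 := diagGL_xGL_comm D hD K h χ hχ hm r 1
  have e2 := congrArg (sigmaGL D pv pv' ρ ρ' ε hG K φ) e1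
  rw [map_mul, map_mul, hh, sigmaGL_xGL D hD pv pv' ρ ρ' ε hG K φ r hr,
    sigmaGL_xGL D hD pv pv' ρ ρ' ε hG K φ r hr] at e2
  have e3 := diagGL_xGL_comm D hD K h χ hχ hm (ρ r) (((ε r : ℤ) : K) * φ 1)
  rw [e3] at e2
  have e4 := mul_right_cancel e2
  have e5 := xGL_param_inj D hD K (ρ r) hρr _ _ e4
  rw [map_one, mul_one, map_mul, map_one, mul_one, mul_comm] at e5
  exact mul_left_cancel₀ (eps_cast_ne_zero D pv pv' ρ ρ' ε hG K r hr) e5

/-- a `σ`-fixed diagonal element is determined by the values of its character on a set of fundamental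
roots meeting every `ρ`-orbit -/
theorem fixed_diag_eq_one (A R : List (List ℤ)) (hR : rootCoefOKB D A R = true)
    (h : GL D.Idx K) (hH : h ∈ D.diagonalSubgroup K) (hh : h ∈ fixSigma D pv pv' ρ ρ' ε hG K φ)
    (χ : ℕ → K) (hχ : ChainChar D K χ) (hm : (h : Matrix D.Idx D.Idx K) = diagChar D K χ)
    (reps : List ℕ) (hreps : ∀ i < D.rank, ∃ j ∈ reps, j < D.rank ∧
      (D.simple i = D.simple j ∨ D.simple i = ρ (D.simple j) ∨ D.simple i = ρ (ρ (D.simple j))))
    (h1 : ∀ j ∈ reps, χ (D.simple j) = 1) : h = 1 := by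
  apply diagonal_eq_one_of_simple D hD K A R hR h hH χ hm
  intro i hi
  obtain ⟨j, hj, hjr, hc⟩ := hreps i hi
  have hjlt := (fundFacts_of_mem D hD j hjr).hp
  have hf := fixed_diag_char D hD pv pv' ρ ρ' ε hG K φ h hh χ hχ hm
  rcases hc with hc | hc | hc
  · rw [hc]; exact h1 j hj
  · rw [hc, hf _ hjlt, h1 j hj, map_one]
  · rw [hc, hf _ (hG.ρlt _ hjlt), hf _ hjlt, h1 j hj, map_one, map_one]

end

end Cfsg.Agent.Lib.Helper7
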