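import Cfsg.Agent.Lib.Helper7.ChevTwistHD4
import Cfsg.Agent.Lib.Helper7.ChevTwistH

/-! The torus `H ∩ ³D₄(q)` has `(q-1)(q³-1)` elements: the count (helper7). -/

set_option autoImplicit false
set_option maxRecDepth 100000

namespace Cfsg.Agent.Lib.Helper7

open Cfsg Cfsg.Lie Matrix

theorem d4_torus_arith (q : ℕ) : (q - 1) * (q ^ 3 - 1) = (q - 1) ^ 2 * (q ^ 2 + q + 1) := by
  rcases q with _ | n
  · simp
  · have h1 : (n + 1) ^ 3 - 1 = n * ((n + 1) ^ 2 + (n + 1) + 1) := by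
      apply Nat.sub_eq_of_eq_add; ring
    rw [h1, Nat.add_sub_cancel]; ring

section
variable (K : Type*) [Field K] (φ : K ≃+* K)

local notation "G1D4" => chevD4.genSubgroup K (twWords K φ [d4p2, d4m2] []
  [(d4p1, d4p3, d4p4), (d4m1, d4m3, d4m4)])

theorem card_diag_inf_twD4 [Fintype K] (q : ℕ) (hK : Fintype.card K = q ^ 3) (hφ : ∀ a, φ^[3] a = a)
    (hfix : Nat.card {a : K // φ a = a} = q) :
    Nat.card ↥(chevD4.diagonalSubgroup K ⊓ G1D4) = (q - 1) ^ 2 * (q ^ 2 + q + 1) := by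
  classical
  have hφ3 : ∀ a, φ (φ (φ a)) = a := fun a => hφ a
  have hG := graphFacts_of_graphOKB chevD4 grPv_D4_1 grPvInv_D4_1 grRho_D4_1 grRhoInv_D4_1 grEps_D4_1
    twistTab_D4.graph
  have hle := (twistGroupFacts_of_tab chevD4 chevD4_mem _ _ _ _ _ _ _ _ _ _ _ _ _ _ twistTab_D4 K φ hφ).le_fix
  have hβ : Nat.card ({a : K // φ a = a ∧ a ≠ 0} × {b : K // b ≠ 0}) = (q - 1) ^ 2 * (q ^ 2 + q + 1) := by
    rw [Nat.card_prod, card_fixed_ne_zero K φ q hfix, card_ne_zero_subtype, hK, d4_torus_arith]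
  rw [← hβ]
  apply le_antisymm
  · -- `H ∩ G¹ → β` by the values of the character at `p₂`, `p₁`
    have hchar : ∀ h : ↥(chevD4.diagonalSubgroup K ⊓ G1D4), ∃ χ : ℕ → K, ChainChar chevD4 K χ ∧
        ((h : GL chevD4.Idx K) : Matrix chevD4.Idx chevD4.Idx K) = diagChar chevD4 K χ :=
      fun h => mem_diagonalSubgroup_char chevD4 chevD4_mem K h.1 h.2.1
    choose χ hχ hm using hchar
    have h14 : ∀ h, φ (χ h 14) = χ h 14 := fun h => by
      have h1 : χ h (grRho_D4_1.getD 14 0) = φ (χ h 14) :=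
        fixed_diag_char chevD4 chevD4_mem _ _ _ _ _ hG K φ h.1 (hle h.2.2) (χ h) (hχ h) (hm h) 14 (by decide)
      have e : grRho_D4_1.getD 14 0 = 14 := by decide
      rw [e] at h1
      exact h1.symm
    apply Nat.card_le_card_of_injective (fun h =>
      ((⟨χ h 14, h14 h, (hχ h).ne0 14 (by decide)⟩ : {a : K // φ a = a ∧ a ≠ 0}),
        (⟨χ h 18, (hχ h).ne0 18 (by decide)⟩ : {b : K // b ≠ 0})))
    intro h h' hhh
    simp only [Prod.mk.injEq, Subtype.mk.injEq] at hhh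
    obtain ⟨e14, e18⟩ := hhh
    have hk : (h : GL chevD4.Idx K) * (h' : GL chevD4.Idx K)⁻¹ = 1 := by
      apply fixed_diag_eq_one chevD4 chevD4_mem _ _ _ _ _ hG K φ hcA_D4 hcR_D4 rootCoefOKB_D4 _
        (Subgroup.mul_mem _ h.2.1 (Subgroup.inv_mem _ h'.2.1))
        (Subgroup.mul_mem _ (hle h.2.2) (Subgroup.inv_mem _ (hle h'.2.2)))
        (fun s => χ h s * (χ h' s)⁻¹) ((hχ h).mul (hχ h').inv)
        (by
          rw [Units.val_mul, hm h, coe_inv_of_diagChar chevD4 K _ (χ h') (hχ h').ne0 (hm h'), diagChar_mul])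
        [1, 0] (by decide)
      intro j hj
      simp only [List.mem_cons, List.not_mem_nil, or_false] at hj
      rcases hj with rfl | rfl
      · have e : chevD4.simple 1 = 14 := by decide
        rw [e, e14]
        exact mul_inv_cancel₀ ((hχ h').ne0 14 (by decide))
      · have e : chevD4.simple 0 = 18 := by decide
        rw [e, e18]
        exact mul_inv_cancel₀ ((hχ h').ne0 18 (by decide))
    exact Subtype.ext (mul_inv_eq_one.mp hk)
  · apply Nat.card_le_card_of_injective (fun p : {a : K // φ a = a ∧ a ≠ 0} × {b : K // b ≠ 0} =>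
      (⟨tD4 K φ p.1.1 p.2.1, tD4_mem_H K φ _ _ p.1.2.2 p.2.2, tD4_mem_G1 K φ _ _ p.1.2.2 p.1.2.1 p.2.2⟩ :
        ↥(chevD4.diagonalSubgroup K ⊓ G1D4)))
    intro p p' hpp
    have := Subtype.mk.inj hpp
    obtain ⟨e1, e2⟩ := tD4_injective K φ hφ3 _ _ _ _ p.1.2.2 p.2.2 p'.1.2.2 p'.2.2 p.1.2.1 p'.1.2.1 this
    exact Prod.ext (Subtype.ext e1) (Subtype.ext e2)

end

end Cfsg.Agent.Lib.Helper7
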