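import Cfsg.Agent.Lib.Helper7.ChevTwistCount2
import Cfsg.Agent.Lib.Helper7.ChevTwistWeylTab
import Cfsg.Agent.Lib.Helper7.ChevTwistHD4b

/-! The order of `³D₄(q)` (helper7). -/

set_option autoImplicit false
set_option maxRecDepth 100000

namespace Cfsg.Agent.Lib.Helper7

open Cfsg Cfsg.Lie Matrix Cfsg.Agent.Lib.Helper3.BN

theorem d4_order_arith (q : ℕ) :
    (q - 1) ^ 2 * (q ^ 2 + q + 1) * q ^ 12 * ((1 + q ^ 1) * (1 + q ^ 3) * (1 + q ^ 1 * q ^ 3 + (q ^ 1) ^ 2 * (q ^ 3) ^ 2)) =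
      q ^ 12 * (q ^ 2 - 1) * (q ^ 6 - 1) * (q ^ 8 + q ^ 4 + 1) := by
  rcases q with _ | n
  · simp
  · have h1 : (n + 1) ^ 2 - 1 = n * (n + 2) := by
      apply Nat.sub_eq_of_eq_add; ring
    have h2 : (n + 1) ^ 6 - 1 = n * ((n + 1) ^ 2 + (n + 1) + 1) * ((n + 1) ^ 3 + 1) := by
      apply Nat.sub_eq_of_eq_add; ring
    rw [h1, h2, Nat.add_sub_cancel]; ring

section
variable (K : Type*) [Field K] (φ : K ≃+* K)

local notation "G1D4" => chevD4.genSubgroup K (twWords K φ [d4p2, d4m2] []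
  [(d4p1, d4p3, d4p4), (d4m1, d4m3, d4m4)])

/-- `|³D₄(q)| = q¹² (q² - 1)(q⁶ - 1)(q⁸ + q⁴ + 1)` -/
theorem card_twD4 [Fintype K] (q : ℕ) (hK : Fintype.card K = q ^ 3) (hφ : ∀ a, φ^[3] a = a)
    (hfix : Nat.card {a : K // φ a = a} = q) :
    Nat.card ↥G1D4 = q ^ 12 * (q ^ 2 - 1) * (q ^ 6 - 1) * (q ^ 8 + q ^ 4 + 1) := by
  have hKc : Nat.card K = q ^ 3 := by rw [Nat.card_eq_fintype_card, hK]
  obtain ⟨P, hPB, hPN, hPS⟩ := exists_twistedBNPair chevD4 chevD4_mem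
    _ _ _ _ _ _ _ _ _ _ _ _ _ _ twistTab_D4 twistTab2_D4 K φ hφ
  have hmem : ∀ J : Fin twSimpIdx_D4.length, clsRep chevD4 chevD4_mem K twSimpIdx_D4 J ∈ G1D4 :=
    fun J => nWordGL_mem_twD4 K φ _ (List.get_mem _ J)
  have hlt : ∀ J ∈ twSimpIdx_D4, ∀ i ∈ J, i < chevD4.rank := fun J hJ => (simpClassFacts_D4 J hJ).lt
  obtain ⟨J0, hJ0⟩ : ∃ J : Fin twSimpIdx_D4.length, J = ⟨0, by decide⟩ := ⟨_, rfl⟩
  obtain ⟨J1, hJ1⟩ : ∃ J : Fin twSimpIdx_D4.length, J = ⟨1, by decide⟩ := ⟨_, rfl⟩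
  obtain ⟨s, hs⟩ : ∃ s, s = twSb chevD4 chevD4_mem K _ twSimpIdx_D4 P hPS hmem J0 := ⟨_, rfl⟩
  obtain ⟨t, ht⟩ : ∃ t, t = twSb chevD4 chevD4_mem K _ twSimpIdx_D4 P hPS hmem J1 := ⟨_, rfl⟩
  have hsS : s ∈ Sbar P := by rw [hs]; exact twSb_mem _ _ _ _ _ _ _ _ _
  have htS : t ∈ Sbar P := by rw [ht]; exact twSb_mem _ _ _ _ _ _ _ _ _
  have hSall : ∀ x ∈ Sbar P, x = s ∨ x = t := by
    intro x hx
    obtain ⟨J, rfl⟩ := twSb_surj chevD4 chevD4_mem K _ twSimpIdx_D4 P hPS hmem x hx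
    have hJ : J = J0 ∨ J = J1 := by
      rw [hJ0, hJ1]
      have : ∀ J : Fin twSimpIdx_D4.length, J = ⟨0, by decide⟩ ∨ J = ⟨1, by decide⟩ := by decide
      exact this J
    rcases hJ with rfl | rfl
    · left; exact hs.symm
    · right; exact ht.symm
  have hord : orderOf (s * t) = 6 := by
    rw [hs, ht, orderOf_twSb_mul chevD4 chevD4_mem K _ twSimpIdx_D4 P hPB hPN hPS hmem hlt twCoxMt_D4 twCoxOKB_D4,
      hJ0, hJ1]
    rfl
  have hgen : Subgroup.closure {s, t} = ⊤ := by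
    rw [eq_top_iff, ← Sbar_closure P]
    apply Subgroup.closure_mono
    intro x hx
    rcases hSall x hx with rfl | rfl
    · simp
    · simp
  obtain ⟨e, hes, het⟩ := exists_dihedral6_equiv s t (Sbar_sq P s hsS) (Sbar_sq P t htS) hord hgen
  have hB := card_B_eq chevD4 K _ P hPB
  have hBH := card_borel_twGroup chevD4 chevD4_mem _ _ _ _ _ _ _ _ _ _ _ _ _ _ twistTab_D4 K φ q hKc hfix hφ
  have hcell := fun J => card_cell_twGroup chevD4 chevD4_mem _ _ _ _ _ _ _ _ _ _ _ _ _ _ twistTab_D4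
    twistTab2_D4 K φ q hKc hfix hφ J
  have hC := fun J => card_C_twSb chevD4 chevD4_mem K _ twSimpIdx_D4 P hPB hPS hmem J
  have ha : Nat.card (C P (sb P _ (twEl_mem_S chevD4 chevD4_mem K _ twSimpIdx_D4 P hPS hmem J0))) =
      q ^ 1 * Nat.card P.B := by
    have h1 := hC J0
    rw [hcell J0, ← hB] at h1
    rw [mul_comm]
    have hl : (twSimpIdx_D4.get J0).length = 1 := by rw [hJ0]; rfl
    rw [hl] at h1
    exact h1
  have hb : Nat.card (C P (sb P _ (twEl_mem_S chevD4 chevD4_mem K _ twSimpIdx_D4 P hPS hmem J1))) =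
      q ^ 3 * Nat.card P.B := by
    have h1 := hC J1
    rw [hcell J1, ← hB] at h1
    rw [mul_comm]
    have hl : (twSimpIdx_D4.get J1).length = 3 := by rw [hJ1]; rfl
    rw [hl] at h1
    exact h1
  have hfin := card_of_dihedral6 P e _ _ (twEl_mem_S chevD4 chevD4_mem K _ twSimpIdx_D4 P hPS hmem J0)
    (twEl_mem_S chevD4 chevD4_mem K _ twSimpIdx_D4 P hPS hmem J1) (by rw [hes, hs]; rfl) (by rw [het, ht]; rfl)
    (by
      intro x hx
      rcases hSall x hx with rfl | rfl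
      · left; rw [hs]; rfl
      · right; rw [ht]; rfl) (q ^ 1) (q ^ 3) ha hb
  rw [hfin, hB, hBH, card_diag_inf_twD4 K φ q hK hφ hfix, twCls_D4_length]
  exact d4_order_arith q

end

end Cfsg.Agent.Lib.Helper7
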