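import Mathlib
import Cfsg.Prelude.Def_ClassicalGeometry
import Cfsg.Prelude.Def_GeometricClasses
import Cfsg.Agent.Lib.Helper13.DkGen
import Cfsg.Agent.Lib.Helper20.Om7S.Wrap
import Cfsg.Agent.Lib.Helper20.Om7S.KDefs

/-!
S5813 (omega7, planner helper20), subfield block, leaf K2 `k2_dual`, by helper7: the dual pair of a totally singular pair
`(u, v)` inside a totally singular plane `⟨x, y⟩` with non-zero minor.
-/

set_option linter.dupNamespace false
set_option linter.ambiguousOpen false

namespace Cfsg.Agent.Lib.Helper20.Om7S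

set_option autoImplicit false
set_option linter.unusedSectionVars false
set_option linter.unusedVariables false

open Cfsg Matrix QuadraticMap Module Cfsg.Agent.Lib.Helper25.Siegel Cfsg.Agent.Lib.Helper19.OSub
open _root_.Cfsg _root_.Cfsg.Agent.Lib.Helper25.Siegel
open Cfsg.Agent.Lib.Helper26.OSubLeaf
open S7

namespace Cfsg.Agent.Lib.Helper7.Om7SLeaf

variable {ι : Type} [Fintype ι] [DecidableEq ι] {F : Type*} [Field F] [Fintype F]
  {F₀ : Subfield F} {Q : QuadraticForm F (ι → F)} {M : Subgroup (GL ι F)}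

/-- `Q` of a combination of two orthogonal singular vectors -/
lemma q_comb7 {x y : ι → F} (hQx : Q x = 0) (hQy : Q y = 0) (hxy : polar Q x y = 0) (a b : F) :
    Q (a • x + b • y) = 0 := by
  rw [Cfsg.Agent.Lib.Helper25.MaxTS.Q_add, QuadraticMap.map_smul, QuadraticMap.map_smul, hQx, hQy,
    polar_smul_left, polar_smul_right, hxy]
  simp

/-- the polar form of two combinations of two orthogonal singular vectors -/
lemma polar_comb7 {x y : ι → F} (hQx : Q x = 0) (hQy : Q y = 0) (hxy : polar Q x y = 0)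
    (a b a' b' : F) : polar Q (a • x + b • y) (a' • x + b' • y) = 0 := by
  have hyx : polar Q y x = 0 := by rw [polar_comm, hxy]
  simp only [polar_add_left, polar_add_right, polar_smul_left, polar_smul_right, polar_self_sing hQx,
    polar_self_sing hQy, hxy, hyx, smul_zero, add_zero]

/-- the root element of two combinations: `(a x + b y) ∧ (a' x + b' y) = (a b' - b a') x ∧ y` -/
lemma rt_comb7 {x y : ι → F} (hQx : Q x = 0) (hQy : Q y = 0) (hxy : polar Q x y = 0)
    (a b a' b' c : F) :
    rt Q (a • x + b • y) (a' • x + b' • y) c = rt Q x y (c * (a * b' - b * a')) := by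
  have hyx : polar Q y x = 0 := by rw [polar_comm, hxy]
  apply gl_ext
  intro z
  rw [mv_rt (q_comb7 hQx hQy hxy a b) (q_comb7 hQx hQy hxy a' b') (polar_comb7 hQx hQy hxy a b a' b'),
    mv_rt hQx hQy hxy]
  simp only [polar_add_left, polar_smul_left, smul_eq_mul]
  module

/-- K2: if the minor `δ = B(u,x) B(v,y) - B(u,y) B(v,x)` of two totally singular pairs is nonzero, the plane `⟨x, y⟩`
contains the dual pair `u' = δ⁻¹ (B(v,y) x - B(v,x) y)`, `v' = δ⁻¹ (B(u,x) y - B(u,y) x)` and
`x ∧ y = δ u' ∧ v'` -/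
theorem k2_dual {u v x y : ι → F} (hQu : Q u = 0) (hQv : Q v = 0) (huv : polar Q u v = 0)
    (hQx : Q x = 0) (hQy : Q y = 0) (hxy : polar Q x y = 0) (hδ : minor Q x y u v ≠ 0) :
    ∃ u' v' : ι → F, Quad Q u v u' v' ∧ ∀ c : F, rt Q x y c = rt Q u' v' (c * minor Q x y u v) := by
  obtain ⟨δ, hδdef⟩ : ∃ δ : F, δ = minor Q x y u v := ⟨_, rfl⟩
  rw [← hδdef] at hδ ⊢
  have hδ' : polar Q u x * polar Q v y - polar Q u y * polar Q v x = δ := by rw [hδdef]; rfl
  refine ⟨(δ⁻¹ * polar Q v y) • x + (-(δ⁻¹ * polar Q v x)) • y,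
    (-(δ⁻¹ * polar Q u y)) • x + (δ⁻¹ * polar Q u x) • y, ?_, ?_⟩
  · refine ⟨hQu, hQv, q_comb7 hQx hQy hxy _ _, q_comb7 hQx hQy hxy _ _, huv,
      polar_comb7 hQx hQy hxy _ _ _ _, ?_, ?_, ?_, ?_⟩
    · simp only [polar_add_right, polar_smul_right, smul_eq_mul]
      field_simp
      linear_combination hδ'
    · simp only [polar_add_right, polar_smul_right, smul_eq_mul]
      field_simp
      linear_combination hδ'
    · simp only [polar_add_right, polar_smul_right, smul_eq_mul]
      ring
    · simp only [polar_add_right, polar_smul_right, smul_eq_mul]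
      ring
  · intro c
    rw [rt_comb7 hQx hQy hxy]
    congr 1
    field_simp
    linear_combination (-c) * hδ'

end Cfsg.Agent.Lib.Helper7.Om7SLeaf

end Cfsg.Agent.Lib.Helper20.Om7S
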