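/-
S4539 market (planner helper27), leaves LAT `exists_basic`, LIN `gram_of_sandwich`,
DET `dvd_det_of_rank_one`: pure linear algebra over `ℤ`.
-/
import Mathlib

set_option autoImplicit false

namespace Cfsg.Agent.Lib.Helper7.MajSubLAT

/-- (LAT) basic set from the range of `N`. -/
theorem exists_basic {n : Type*} [Fintype n] [DecidableEq n] (N : Matrix n n ℤ)
    (hsymm : N.transpose = N) (c : ℤ) (hc : c ≠ 0) (hsq : N * N = c • N) :
    ∃ (r : ℕ) (D : Matrix n (Fin r) ℤ) (E : Matrix (Fin r) n ℤ) (C' : Matrix (Fin r) (Fin r) ℤ),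
      E * D = 1 ∧ N = D * C' * D.transpose ∧ C'.transpose = C' ∧
        (D.transpose * D) * C' = c • (1 : Matrix (Fin r) (Fin r) ℤ) ∧ N.trace = c * (r : ℤ) := by
  classical
  set Λ : Submodule ℤ (n → ℤ) := LinearMap.range N.mulVecLin with hΛ
  obtain ⟨r, b⟩ := Submodule.basisOfPid (Pi.basisFun ℤ n) Λ
  set β : Matrix (Fin r) n ℤ := Matrix.of fun j i => (b j : n → ℤ) i with hβ
  have hli : LinearIndependent ℤ (fun k => (b k : n → ℤ)) :=
    b.linearIndependent.map' Λ.subtype (Submodule.ker_subtype Λ)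
  have hind : ∀ X : Matrix (Fin r) (Fin r) ℤ, X * β = 0 → X = 0 := by
    intro X hX
    ext j k
    have h0 : ∑ k, X j k • (b k : n → ℤ) = 0 := by
      funext i
      have := congrFun (congrFun hX j) i
      simp only [Matrix.mul_apply, hβ, Matrix.of_apply, Matrix.zero_apply] at this
      simpa [Finset.sum_apply, Pi.smul_apply, smul_eq_mul] using this
    exact Fintype.linearIndependent_iff.mp hli (X j) h0 k
  -- D
  have hmem : ∀ ζ : n, N.mulVec (Pi.single ζ 1) ∈ Λ := fun ζ =>
    ⟨Pi.single ζ 1, by simp⟩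
  set D : Matrix n (Fin r) ℤ := Matrix.of fun ζ j => b.repr ⟨_, hmem ζ⟩ j with hD
  have hDβ : D * β = N := by
    ext ζ i
    have h1 := b.sum_repr ⟨_, hmem ζ⟩
    have h2 := congrArg (fun x : Λ => (x : n → ℤ) i) h1
    simp only [Submodule.coe_sum, Submodule.coe_smul, Finset.sum_apply, Pi.smul_apply,
      smul_eq_mul] at h2
    simp only [Matrix.mul_apply, hD, hβ, Matrix.of_apply]
    rw [h2, Matrix.mulVec_single_one, Matrix.col_apply]
    have := congrFun (congrFun hsymm ζ) i
    simpa [Matrix.transpose_apply] using this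
  -- E
  have hex : ∀ j : Fin r, ∃ v : n → ℤ, N.mulVec v = (b j : n → ℤ) := by
    intro j
    obtain ⟨v, hv⟩ := (b j).2
    exact ⟨v, by simpa [Matrix.mulVecLin_apply] using hv⟩
  choose Ef hEf using hex
  set E : Matrix (Fin r) n ℤ := Matrix.of Ef with hE
  have hEN : E * N = β := by
    ext j i
    have h1 := congrFun (hEf j) i
    simp only [Matrix.mulVec, dotProduct] at h1
    simp only [Matrix.mul_apply, hE, hβ, Matrix.of_apply]
    rw [← h1]
    refine Finset.sum_congr rfl fun ζ _ => ?_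
    have := congrFun (congrFun hsymm ζ) i
    simp only [Matrix.transpose_apply] at this
    rw [← this, mul_comm]
  have hED : E * D = 1 := by
    have h1 : (E * D - 1) * β = 0 := by
      rw [Matrix.sub_mul, Matrix.mul_assoc, hDβ, hEN, Matrix.one_mul, sub_self]
    exact sub_eq_zero.mp (hind _ h1)
  have hβD : β * D = c • (1 : Matrix (Fin r) (Fin r) ℤ) := by
    have h1 : (β * D - c • (1 : Matrix (Fin r) (Fin r) ℤ)) * β = 0 := by
      rw [Matrix.sub_mul, Matrix.smul_mul, Matrix.one_mul, Matrix.mul_assoc, hDβ]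
      nth_rewrite 1 [← hEN]
      rw [Matrix.mul_assoc, hsq, Matrix.mul_smul, hEN, sub_self]
    exact sub_eq_zero.mp (hind _ h1)
  set C' : Matrix (Fin r) (Fin r) ℤ := E * β.transpose with hC'
  have hβ2 : C' * D.transpose = β := by
    rw [hC', Matrix.mul_assoc, ← Matrix.transpose_mul, hDβ, hsymm, hEN]
  have hC'symm : C'.transpose = C' := by
    have h1 : β.transpose = D * C'.transpose := by
      rw [← hβ2, Matrix.transpose_mul, Matrix.transpose_transpose]
    calc C'.transpose = (E * D) * C'.transpose := by rw [hED, Matrix.one_mul]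
      _ = E * β.transpose := by rw [Matrix.mul_assoc, ← h1]
      _ = C' := rfl
  refine ⟨r, D, E, C', hED, ?_, hC'symm, ?_, ?_⟩
  · rw [Matrix.mul_assoc, hβ2, hDβ]
  · have h1 : C' * D.transpose * D = c • (1 : Matrix (Fin r) (Fin r) ℤ) := by
      rw [hβ2, hβD]
    have h2 := congrArg Matrix.transpose h1
    rw [Matrix.transpose_mul, Matrix.transpose_mul, Matrix.transpose_transpose, hC'symm,
      Matrix.transpose_smul, Matrix.transpose_one, ← Matrix.mul_assoc] at h2
    exact h2
  · rw [← hDβ, Matrix.trace_mul_comm, hβD, Matrix.trace_smul, Matrix.trace_one, Fintype.card_fin,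
      smul_eq_mul]

/-- (LIN) from `D C' G C' Dᵀ = c D C' Dᵀ` to `G = Dᵀ D`. -/
theorem gram_of_sandwich {n : Type*} [Fintype n] [DecidableEq n] {r : ℕ} (D : Matrix n (Fin r) ℤ)
    (E : Matrix (Fin r) n ℤ) (C' : Matrix (Fin r) (Fin r) ℤ) (c : ℤ) (hc : c ≠ 0)
    (hED : E * D = 1) (hCC' : (D.transpose * D) * C' = c • (1 : Matrix (Fin r) (Fin r) ℤ))
    (hC'symm : C'.transpose = C') (Gm : Matrix (Fin r) (Fin r) ℂ)
    (h : (D * C').map (Int.cast : ℤ → ℂ) * Gm * (C' * D.transpose).map (Int.cast : ℤ → ℂ) =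
      (c : ℂ) • (D * C' * D.transpose).map (Int.cast : ℤ → ℂ)) :
    Gm = (D.transpose * D).map (Int.cast : ℤ → ℂ) := by
  classical
  have hcc : (c : ℂ) ≠ 0 := by exact_mod_cast hc
  set f : ℤ →+* ℂ := Int.castRingHom ℂ with hf
  have hfc : (Int.cast : ℤ → ℂ) = f := rfl
  rw [hfc] at h ⊢
  set Dc : Matrix n (Fin r) ℂ := D.map f with hDc
  set Ec : Matrix (Fin r) n ℂ := E.map f with hEc
  set Cc : Matrix (Fin r) (Fin r) ℂ := C'.map f with hCc
  have hone : ∀ {m : Type} [DecidableEq m], (1 : Matrix m m ℤ).map f = 1 := fun {m} _ =>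
    Matrix.map_one f (map_zero f) (map_one f)
  have hEDc : Ec * Dc = 1 := by
    rw [hEc, hDc, ← Matrix.map_mul, hED, hone]
  have hDEc : Dc.transpose * Ec.transpose = 1 := by
    rw [← Matrix.transpose_mul, hEDc, Matrix.transpose_one]
  set A : Matrix (Fin r) (Fin r) ℂ := (D.transpose * D).map f with hA
  have hACc : A * Cc = (c : ℂ) • (1 : Matrix (Fin r) (Fin r) ℂ) := by
    rw [hA, hCc, ← Matrix.map_mul, hCC', Matrix.map_smul' f c 1 (fun a b => map_mul f a b), hone]
    rfl
  have hCcA : Cc * A = (c : ℂ) • (1 : Matrix (Fin r) (Fin r) ℂ) := by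
    have h1 : C' * (D.transpose * D) = c • (1 : Matrix (Fin r) (Fin r) ℤ) := by
      have h2 := congrArg Matrix.transpose hCC'
      rw [Matrix.transpose_mul, Matrix.transpose_mul, Matrix.transpose_transpose, hC'symm,
        Matrix.transpose_smul, Matrix.transpose_one] at h2
      exact h2
    rw [hA, hCc, ← Matrix.map_mul, h1, Matrix.map_smul' f c 1 (fun a b => map_mul f a b), hone]
    rfl
  -- strip `D`
  have h1 : Cc * Gm * Cc = (c : ℂ) • Cc := by
    have h2 : (D * C').map f = Dc * Cc := by rw [Matrix.map_mul]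
    have h3 : (C' * D.transpose).map f = Cc * Dc.transpose := by
      rw [Matrix.map_mul, Matrix.transpose_map]
    have h4 : (D * C' * D.transpose).map f = Dc * Cc * Dc.transpose := by
      rw [Matrix.map_mul, Matrix.map_mul, Matrix.transpose_map]
    rw [h2, h3, h4] at h
    have h5 := congrArg (fun X => Ec * X * Ec.transpose) h
    calc Cc * Gm * Cc = (Ec * Dc) * Cc * Gm * Cc * (Dc.transpose * Ec.transpose) := by
          rw [hEDc, hDEc, Matrix.one_mul, Matrix.mul_one]
      _ = Ec * (Dc * Cc * Gm * (Cc * Dc.transpose)) * Ec.transpose := by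
          simp only [Matrix.mul_assoc]
      _ = Ec * ((c : ℂ) • (Dc * Cc * Dc.transpose)) * Ec.transpose := h5
      _ = (c : ℂ) • ((Ec * Dc) * Cc * (Dc.transpose * Ec.transpose)) := by
          simp only [Matrix.mul_smul, Matrix.smul_mul, Matrix.mul_assoc]
      _ = (c : ℂ) • Cc := by rw [hEDc, hDEc, Matrix.one_mul, Matrix.mul_one]
  -- strip `C'`
  have h6 : (c : ℂ) • ((c : ℂ) • Gm) = (c : ℂ) • ((c : ℂ) • A) := by
    calc (c : ℂ) • ((c : ℂ) • Gm) = (A * Cc) * Gm * (Cc * A) := by
          rw [hACc, hCcA]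
          simp only [Matrix.mul_smul, Matrix.smul_mul, Matrix.one_mul, Matrix.mul_one]
      _ = A * (Cc * Gm * Cc) * A := by simp only [Matrix.mul_assoc]
      _ = (c : ℂ) • (A * Cc * A) := by
          rw [h1]; simp only [Matrix.mul_smul, Matrix.smul_mul, Matrix.mul_assoc]
      _ = (c : ℂ) • ((c : ℂ) • A) := by
          rw [hACc]; simp only [Matrix.smul_mul, Matrix.one_mul]
  exact smul_right_injective _ hcc (smul_right_injective _ hcc h6)

/-- (DET) multiplicity one: `C' = E N Eᵀ` has rank at most one modulo `p`. -/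
theorem dvd_det_of_rank_one {n : Type*} [Fintype n] [DecidableEq n] (N : Matrix n n ℤ)
    (D : Matrix n (Fin 2) ℤ) (E : Matrix (Fin 2) n ℤ) (C' : Matrix (Fin 2) (Fin 2) ℤ)
    (hED : E * D = 1) (hN : N = D * C' * D.transpose) (q : ℤ) (κ τ : n → ℤ)
    (h : ∀ i j, q ∣ N i j - κ i * τ j) : q ∣ C'.det := by
  classical
  have hC : C' = E * N * E.transpose := by
    rw [hN]
    calc C' = (E * D) * C' * (E * D).transpose := by
          rw [hED, Matrix.transpose_one, Matrix.one_mul, Matrix.mul_one]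
      _ = E * (D * C' * D.transpose) * E.transpose := by
          rw [Matrix.transpose_mul]; simp only [Matrix.mul_assoc]
  choose M hM using h
  have hNeq : N = Matrix.vecMulVec κ τ + q • Matrix.of M := by
    ext i j
    simp only [Matrix.add_apply, Matrix.vecMulVec_apply, Matrix.smul_apply, Matrix.of_apply,
      smul_eq_mul]
    linarith [hM i j]
  set u : Fin 2 → ℤ := E.mulVec κ with hu
  set v : Fin 2 → ℤ := Matrix.vecMul τ E.transpose with hv
  set W : Matrix (Fin 2) (Fin 2) ℤ := E * Matrix.of M * E.transpose with hW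
  have hC2 : C' = Matrix.vecMulVec u v + q • W := by
    rw [hC, hNeq, Matrix.mul_add, Matrix.add_mul, Matrix.mul_vecMulVec, Matrix.vecMulVec_mul,
      Matrix.mul_smul, Matrix.smul_mul]
  have hab : ∀ a b, C' a b = u a * v b + q * W a b := by
    intro a b
    rw [hC2]
    simp only [Matrix.add_apply, Matrix.vecMulVec_apply, Matrix.smul_apply, smul_eq_mul]
  rw [Matrix.det_fin_two, hab 0 0, hab 1 1, hab 0 1, hab 1 0]
  exact ⟨u 0 * v 0 * W 1 1 + W 0 0 * (u 1 * v 1) + q * W 0 0 * W 1 1
      - (u 0 * v 1 * W 1 0 + W 0 1 * (u 1 * v 0) + q * W 0 1 * W 1 0), by ring⟩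

end Cfsg.Agent.Lib.Helper7.MajSubLAT
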