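import Mathlib
import Cfsg.Agent.Lib.Helper16.OOEndDefs

/-!
# S2344 Part III leaf EB (planner helper16): the orbit lemma `reach_std`

Every non-zero vector of `V'` reaches the standard vector `-Q'(z) e_i - f_i` by the moves
`actL, actR, actS, actN`.
-/

set_option autoImplicit false

namespace Cfsg.Agent.Lib.Helper7.OOEndEB

open Matrix Cfsg.Agent.Lib.Helper16.OOEnd

variable {F : Type*} [Field F] {m : ℕ}

/-! ### the quadratic form is invariant -/

theorem Qp_mk (z₀ : F) (x y : Fin m → F) : Qp (mk z₀ x y) = z₀ ^ 2 + x ⬝ᵥ y := rfl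

theorem Qp_actL (g : SpecialLinearGroup (Fin m) F) (z : Ix m → F) : Qp (actL g z) = Qp z := by
  rw [actL, Qp_mk, Qp_eq]
  congr 1
  have h : ((g⁻¹ : SpecialLinearGroup (Fin m) F) : Matrix (Fin m) (Fin m) F) *
      (g : Matrix (Fin m) (Fin m) F) = 1 := congrArg Subtype.val (inv_mul_cancel g)
  rw [dotProduct_mulVec, vecMul_transpose, mulVec_mulVec, h, one_mulVec]

theorem Qp_actR (R : Matrix (Fin m) (Fin m) F) (z : Ix m → F) : Qp (actR R z) = Qp z := by
  rw [actR, Qp_mk, Qp_eq]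
  congr 1
  rw [add_dotProduct, sub_mulVec, sub_dotProduct]
  have h : (Rᵀ *ᵥ cy z) ⬝ᵥ cy z = (R *ᵥ cy z) ⬝ᵥ cy z := by
    rw [dotProduct_comm, dotProduct_mulVec, vecMul_transpose]
  rw [h, sub_self, add_zero]

theorem Qp_actS (c : Fin m → F) (z : Ix m → F) : Qp (actS c z) = Qp z := by
  rw [actS, Qp_mk, Qp_eq, add_dotProduct, smul_dotProduct, smul_eq_mul]
  ring

theorem Qp_actN (a : Fin m) (t : F) (z : Ix m → F) : Qp (actN a t z) = Qp z := by
  rw [actN, Qp_mk, Qp_eq, dotProduct_add, dotProduct_single]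
  ring

theorem Qp_step {z z' : Ix m → F} (h : Step z z') : Qp z' = Qp z := by
  cases h with
  | L g z => exact Qp_actL g z
  | R R z => exact Qp_actR R z
  | S c z => exact Qp_actS c z
  | N a t z => exact Qp_actN a t z

theorem Qp_reach' {z z' : Ix m → F} (h : Reach z z') : Qp z' = Qp z := by
  induction h with
  | refl => rfl
  | tail _ hs ih => rw [Qp_step hs, ih]

/-! ### rank-one unipotent elements of `SL` -/

/-- `1 + v uᵀ` for `u ⬝ᵥ v = 0`. -/
def rk1 (u v : Fin m → F) (h : u ⬝ᵥ v = 0) : SpecialLinearGroup (Fin m) F :=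
  ⟨1 + vecMulVec v u, by
    rw [vecMulVec_eq Unit, det_one_add_replicateCol_mul_replicateRow, h, add_zero]⟩

theorem rk1_mul (u v : Fin m → F) (h : u ⬝ᵥ v = 0) (h' : (-u) ⬝ᵥ v = 0) :
    rk1 (-u) v h' * rk1 u v h = 1 := by
  apply Subtype.ext
  change (1 + vecMulVec v (-u)) * (1 + vecMulVec v u) = (1 : Matrix (Fin m) (Fin m) F)
  rw [add_mul, mul_add, mul_add, one_mul, one_mul, mul_one, vecMulVec_mul_vecMulVec, h',
    zero_smul, vecMulVec_zero, add_zero, vecMulVec_neg, add_neg_cancel_right]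

theorem rk1_inv (u v : Fin m → F) (h : u ⬝ᵥ v = 0) (h' : (-u) ⬝ᵥ v = 0) :
    (rk1 (-u) v h')⁻¹ = rk1 u v h :=
  inv_eq_of_mul_eq_one_right (rk1_mul u v h h')

/-- the `L`-move of `(rk1 (-u) v)`: `cy ↦ cy + (v ⬝ᵥ cy) • u`. -/
theorem cy_actL_rk1 (u v : Fin m → F) (h : u ⬝ᵥ v = 0) (h' : (-u) ⬝ᵥ v = 0) (z : Ix m → F) :
    cy (actL (rk1 (-u) v h') z) = cy z + (v ⬝ᵥ cy z) • u := by
  rw [actL, cy_mk, rk1_inv u v h h']
  change (1 + vecMulVec v u)ᵀ *ᵥ cy z = _
  rw [transpose_add, transpose_one, transpose_vecMulVec, add_mulVec, one_mulVec,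
    vecMulVec_mulVec, op_smul_eq_smul]

/-- the generic `L`-step. -/
theorem exists_reach_L (u v : Fin m → F) (h : u ⬝ᵥ v = 0) (z : Ix m → F) :
    ∃ z', Reach z z' ∧ cy z' = cy z + (v ⬝ᵥ cy z) • u := by
  have h' : (-u) ⬝ᵥ v = 0 := by rw [neg_dotProduct, h, neg_zero]
  exact ⟨_, Relation.ReflTransGen.single (Step.L _ z), cy_actL_rk1 u v h h' z⟩

/-! ### step 1: make `cy ≠ 0` -/

theorem exists_reach_cy_ne_zero [Fintype F] (hm : 2 ≤ m) (h2 : (2 : F) ≠ 0)
    (hq : 3 ≤ Fintype.card F) (z : Ix m → F) (hz : z ≠ 0) :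
    ∃ z', Reach z z' ∧ cy z' ≠ 0 := by
  classical
  by_cases hy : cy z = 0
  · -- find `a, t` with `2 * c0 z * t - t ^ 2 * cx z a ≠ 0`
    obtain ⟨a, t, hat⟩ : ∃ (a : Fin m) (t : F), 2 * c0 z * t - t ^ 2 * cx z a ≠ 0 := by
      by_cases hx : cx z = 0
      · have h0 : c0 z ≠ 0 := by
          intro h0
          apply hz
          apply ext_coords
          · simpa [c0] using h0
          · rw [hx]; rfl
          · rw [hy]; rfl
        refine ⟨⟨0, by omega⟩, 1, ?_⟩
        rw [hx]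
        simp only [Pi.zero_apply, mul_zero, sub_zero, mul_one]
        exact mul_ne_zero h2 h0
      · obtain ⟨a, ha⟩ : ∃ a, cx z a ≠ 0 := by
          by_contra hne
          push Not at hne
          exact hx (funext hne)
        -- `t ∉ {0, 2 * c0 z / cx z a}`
        have hcard : ({0, 2 * c0 z / cx z a} : Finset F).card < (Finset.univ : Finset F).card := by
          calc ({0, 2 * c0 z / cx z a} : Finset F).card ≤ 2 := Finset.card_le_two
            _ < Fintype.card F := by omega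
            _ = (Finset.univ : Finset F).card := Finset.card_univ.symm
        obtain ⟨t, -, ht⟩ := Finset.exists_mem_notMem_of_card_lt_card hcard
        rw [Finset.mem_insert, Finset.mem_singleton, not_or] at ht
        refine ⟨a, t, ?_⟩
        have : 2 * c0 z * t - t ^ 2 * cx z a = t * (2 * c0 z - t * cx z a) := by ring
        rw [this]
        refine mul_ne_zero ht.1 ?_
        intro h
        apply ht.2
        rw [eq_div_iff ha]
        rw [sub_eq_zero] at h
        exact h.symm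
    refine ⟨actN a t z, Relation.ReflTransGen.single (Step.N a t z), ?_⟩
    rw [actN, cy_mk, hy, zero_add]
    intro h
    have := congrFun h a
    rw [Pi.single_eq_same, Pi.zero_apply] at this
    exact hat this
  · exact ⟨z, Relation.ReflTransGen.refl, hy⟩

/-! ### step 2: make `cy = -δ_i` -/

theorem exists_reach_cy_single (hm : 2 ≤ m) (i : Fin m) (z : Ix m → F) (hy : cy z ≠ 0) :
    ∃ z', Reach z z' ∧ cy z' = Pi.single i (-1) := by
  classical
  have : Nontrivial (Fin m) := Fin.nontrivial_iff_two_le.mpr hm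
  -- B0 : some coordinate `j ≠ i` is non-zero
  obtain ⟨z₁, hr₁, j, hji, hj⟩ : ∃ z₁, Reach z z₁ ∧ ∃ j, j ≠ i ∧ cy z₁ j ≠ 0 := by
    by_cases hex : ∃ j, j ≠ i ∧ cy z j ≠ 0
    · exact ⟨z, Relation.ReflTransGen.refl, hex⟩
    · push Not at hex
      have hi : cy z i ≠ 0 := by
        intro hi
        apply hy
        funext k
        by_cases hk : k = i
        · rw [hk, hi]; rfl
        · exact hex k hk
      obtain ⟨j, hji⟩ := exists_ne i
      have h0 : (Pi.single j (1 : F) : Fin m → F) ⬝ᵥ Pi.single i (cy z i)⁻¹ = 0 := by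
        rw [single_dotProduct, Pi.single_eq_of_ne hji, mul_zero]
      obtain ⟨z₁, hr, hz₁⟩ := exists_reach_L _ _ h0 z
      refine ⟨z₁, hr, j, hji, ?_⟩
      rw [hz₁, single_dotProduct, inv_mul_cancel₀ hi, one_smul, Pi.add_apply, hex j hji, zero_add,
        Pi.single_eq_same]
      exact one_ne_zero
  -- B1 : make the `i`-th coordinate `-1`
  obtain ⟨z₂, hr₂, hz₂⟩ : ∃ z₂, Reach z₁ z₂ ∧ cy z₂ i = -1 := by
    have h0 : (Pi.single i (-1 - cy z₁ i) : Fin m → F) ⬝ᵥ Pi.single j (cy z₁ j)⁻¹ = 0 := by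
      rw [single_dotProduct, Pi.single_eq_of_ne hji.symm, mul_zero]
    obtain ⟨z₂, hr, hz₂⟩ := exists_reach_L _ _ h0 z₁
    refine ⟨z₂, hr, ?_⟩
    rw [hz₂, single_dotProduct, inv_mul_cancel₀ hj, one_smul, Pi.add_apply, Pi.single_eq_same]
    ring
  -- B2 : clear the other coordinates
  have h0 : ((Pi.single i (-1) : Fin m → F) - cy z₂) ⬝ᵥ Pi.single i (-1) = 0 := by
    rw [dotProduct_single, Pi.sub_apply, Pi.single_eq_same, hz₂]
    ring
  obtain ⟨z₃, hr₃, hz₃⟩ := exists_reach_L _ _ h0 z₂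
  refine ⟨z₃, (hr₁.trans hr₂).trans hr₃, ?_⟩
  rw [hz₃, single_dotProduct, hz₂]
  simp

/-! ### steps 3, 4 -/

theorem exists_reach_std_of_cy (i : Fin m) (z : Ix m → F) (hy : cy z = Pi.single i (-1)) :
    ∃ b, Reach z (std i b) := by
  classical
  set x' : Fin m → F := Function.update (cx z) i 0 with hx'
  set R : Matrix (Fin m) (Fin m) F := vecMulVec x' (Pi.single i 1) with hR
  set c : Fin m → F := Pi.single i (-(c0 z)) with hc
  refine ⟨cx z i - c0 z ^ 2, ?_⟩
  have hstep : Reach z (actS c (actR R z)) :=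
    (Relation.ReflTransGen.single (Step.R R z)).tail (Step.S c _)
  have heq : actS c (actR R z) = std i (cx z i - c0 z ^ 2) := by
    have hR1 : (R - Rᵀ) *ᵥ cy z = -x' := by
      rw [sub_mulVec, hR, transpose_vecMulVec, vecMulVec_mulVec, vecMulVec_mulVec, hy,
        single_dotProduct, dotProduct_single, Pi.single_eq_same, hx', Function.update_self]
      simp
    have hcx : cx (actR R z) = Pi.single i (cx z i) := by
      rw [actR, cx_mk, hR1]
      funext k
      by_cases hk : k = i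
      · subst hk; simp [hx']
      · simp [hx', hk]
    have hcy : cy (actR R z) = Pi.single i (-1) := by rw [actR, cy_mk, hy]
    have hc0 : c0 (actR R z) = c0 z := by rw [actR, c0_mk]
    rw [actS, hcx, hcy, hc0, std, hc, single_dotProduct, Pi.single_eq_same]
    congr 1
    · ring
    · funext k
      by_cases hk : k = i
      · subst hk; simp; ring
      · simp [hk]
  rw [← heq]
  exact hstep

theorem Qp_std (i : Fin m) (b : F) : Qp (std i b : Ix m → F) = -b := by
  classical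
  rw [std, Qp_mk, single_dotProduct, Pi.single_eq_same]
  ring

/-- LEAF EB. -/
theorem reach_std [Fintype F] (hm : 2 ≤ m) (h2 : (2 : F) ≠ 0) (hq : 3 ≤ Fintype.card F) (i : Fin m)
    (z : Ix m → F) (hz : z ≠ 0) : Reach z (std i (-Qp z)) := by
  obtain ⟨z₁, hr₁, hy₁⟩ := exists_reach_cy_ne_zero hm h2 hq z hz
  obtain ⟨z₂, hr₂, hy₂⟩ := exists_reach_cy_single hm i z₁ hy₁
  obtain ⟨b, hr₃⟩ := exists_reach_std_of_cy i z₂ hy₂
  have hr : Reach z (std i b) := (hr₁.trans hr₂).trans hr₃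
  have hQ := Qp_reach' hr
  rw [Qp_std] at hQ
  rw [← hQ, neg_neg]
  exact hr

end Cfsg.Agent.Lib.Helper7.OOEndEB
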