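import Mathlib
import Cfsg.Agent.Lib.Helper16.OOEndDefs

/-!
# S2344 Part III leaf EN (planner helper16): the number of vectors in a square class of norms

`(q-1)/2 * (q^(2m) - q^m) ≤ #{w : V' | Q'(w) ∈ c (Fˣ)²}` for `c ≠ 0`, `q` odd.
-/

set_option autoImplicit false
set_option linter.unusedVariables false

namespace Cfsg.Agent.Lib.Helper7.OOEndEN

open Matrix Cfsg.Agent.Lib.Helper16.OOEnd

variable {F : Type*} [Field F] [Fintype F] {m : ℕ}

/-! ### hyperplane count -/

/-- number of solutions `y` of `x ⬝ᵥ y = b`. -/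
noncomputable def hyp (x : Fin m → F) (b : F) : ℕ :=
  by classical exact ∑ y : Fin m → F, if x ⬝ᵥ y = b then 1 else 0

theorem hyp_eq_zero_fibre (x : Fin m → F) (hx : x ≠ 0) (b : F) : hyp x b = hyp x 0 := by
  classical
  obtain ⟨j, hj⟩ : ∃ j, x j ≠ 0 := by
    by_contra hne
    push Not at hne
    exact hx (funext hne)
  set y₀ : Fin m → F := Pi.single j (b / x j) with hy₀
  have h₀ : x ⬝ᵥ y₀ = b := by
    rw [hy₀, dotProduct_single, mul_div_cancel₀ _ hj]
  unfold hyp
  rw [← Equiv.sum_comp (Equiv.addRight y₀)]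
  refine Finset.sum_congr rfl fun y _ => ?_
  simp only [Equiv.coe_addRight, dotProduct_add, h₀]
  by_cases h : x ⬝ᵥ y = 0
  · simp [h]
  · have : x ⬝ᵥ y + b ≠ b := by
      intro h'; apply h; exact add_eq_right.mp h'
    simp [h, this]

theorem sum_hyp (x : Fin m → F) : ∑ b : F, hyp x b = Fintype.card F ^ m := by
  classical
  unfold hyp
  rw [Finset.sum_comm]
  simp only [Finset.sum_ite_eq, Finset.mem_univ, if_true, Finset.sum_const, Finset.card_univ,
    smul_eq_mul, mul_one]
  rw [Fintype.card_fun, Fintype.card_fin]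

theorem hyp_eq (x : Fin (m + 1) → F) (hx : x ≠ 0) (b : F) : hyp x b = Fintype.card F ^ m := by
  have h1 := sum_hyp x
  have h2 : ∑ b : F, hyp x b = Fintype.card F * hyp x 0 := by
    rw [Finset.sum_congr rfl (fun b _ => hyp_eq_zero_fibre x hx b), Finset.sum_const,
      Finset.card_univ, smul_eq_mul]
  rw [h2, pow_succ, mul_comm] at h1
  rw [hyp_eq_zero_fibre x hx b]
  exact Nat.eq_of_mul_eq_mul_right Fintype.card_pos h1

/-! ### the number of vectors of a given norm -/

/-- coordinates of `V'`. -/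
def coordEquiv (F : Type*) [Field F] (m : ℕ) : (Ix m → F) ≃ F × (Fin m → F) × (Fin m → F) where
  toFun w := (c0 w, cx w, cy w)
  invFun p := mk p.1 p.2.1 p.2.2
  left_inv w := mk_eta w
  right_inv _ := rfl

/-- number of `w` with `Qp w = a`. -/
noncomputable def cnt (m : ℕ) (a : F) : ℕ :=
  by classical exact ∑ w : Ix m → F, if Qp w = a then 1 else 0

theorem cnt_eq (m : ℕ) (a : F) :
    cnt m a = ∑ w₀ : F, ∑ x : Fin m → F, hyp x (a - w₀ ^ 2) := by
  classical
  unfold cnt hyp
  rw [← Equiv.sum_comp (coordEquiv F m).symm, Fintype.sum_prod_type]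
  refine Finset.sum_congr rfl fun w₀ _ => ?_
  rw [Fintype.sum_prod_type]
  refine Finset.sum_congr rfl fun x _ => ?_
  refine Finset.sum_congr rfl fun y _ => ?_
  have : Qp ((coordEquiv F m).symm (w₀, x, y)) = w₀ ^ 2 + x ⬝ᵥ y := rfl
  rw [this]
  by_cases h : x ⬝ᵥ y = a - w₀ ^ 2
  · have h' : w₀ ^ 2 + x ⬝ᵥ y = a := by rw [h]; ring
    rw [if_pos h', if_pos h]
  · have h' : w₀ ^ 2 + x ⬝ᵥ y ≠ a := by
      intro h'; apply h; rw [← h']; ring
    simp [h, h']

theorem le_cnt (m : ℕ) (a : F) :
    Fintype.card F ^ (2 * m) - Fintype.card F ^ m ≤ cnt m a := by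
  classical
  rcases m with _ | k
  · simp
  · rw [cnt_eq]
    set q := Fintype.card F with hq
    have hq0 : 0 < q := Fintype.card_pos
    have hinner : ∀ b : F, (q ^ (k + 1) - 1) * q ^ k ≤ ∑ x : Fin (k + 1) → F, hyp x b := by
      intro b
      calc (q ^ (k + 1) - 1) * q ^ k
          = ∑ x ∈ (Finset.univ : Finset (Fin (k + 1) → F)).filter (· ≠ 0), q ^ k := by
            rw [Finset.sum_const, smul_eq_mul, Finset.filter_ne', Finset.card_erase_of_mem
              (Finset.mem_univ _), Finset.card_univ, Fintype.card_fun, Fintype.card_fin]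
        _ = ∑ x ∈ (Finset.univ : Finset (Fin (k + 1) → F)).filter (· ≠ 0), hyp x b := by
            refine Finset.sum_congr rfl fun x hx => ?_
            rw [Finset.mem_filter] at hx
            exact (hyp_eq x hx.2 b).symm
        _ ≤ ∑ x : Fin (k + 1) → F, hyp x b :=
            Finset.sum_le_sum_of_subset (Finset.filter_subset _ _)
    calc q ^ (2 * (k + 1)) - q ^ (k + 1) = q * ((q ^ (k + 1) - 1) * q ^ k) := by
          have h1 : q ^ (2 * (k + 1)) = q ^ (k + 1) * q ^ (k + 1) := by rw [two_mul, pow_add]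
          rw [h1, ← Nat.mul_sub_one, pow_succ]
          ring
      _ = ∑ _w₀ : F, (q ^ (k + 1) - 1) * q ^ k := by
          rw [Finset.sum_const, Finset.card_univ, smul_eq_mul]
      _ ≤ ∑ w₀ : F, ∑ x : Fin (k + 1) → F, hyp x (a - w₀ ^ 2) :=
          Finset.sum_le_sum fun w₀ _ => hinner _

theorem cnt_eq_card (m : ℕ) (a : F) [DecidableEq F] :
    cnt m a = ((Finset.univ : Finset (Ix m → F)).filter (fun w => Qp w = a)).card := by
  classical
  unfold cnt
  rw [Finset.card_filter]
  refine Finset.sum_congr rfl fun w _ => ?_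
  by_cases h : Qp w = a
  · rw [if_pos h, if_pos h]
  · rw [if_neg h, if_neg h]

/-- LEAF EN. -/
theorem card_sq_class [DecidableEq F] (h2 : (2 : F) ≠ 0) (c : F) (hc : c ≠ 0) :
    (Fintype.card F - 1) / 2 * (Fintype.card F ^ (2 * m) - Fintype.card F ^ m) ≤
      Fintype.card {w : Ix m → F // ∃ s : Fˣ, Qp w = (s : F) ^ 2 * c} := by
  classical
  set A : Finset F := (Finset.univ : Finset Fˣ).image (fun s : Fˣ => (s : F) ^ 2 * c) with hA
  have hAcard : (Fintype.card F - 1) / 2 ≤ A.card := by
    have h := Finset.card_le_mul_card_image (f := fun s : Fˣ => (s : F) ^ 2 * c) Finset.univ 2 ?_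
    · rw [Finset.card_univ, Fintype.card_units] at h
      rw [hA]; omega
    · intro a ha
      obtain ⟨s, -, rfl⟩ := Finset.mem_image.mp ha
      refine (Finset.card_le_card (?_ : _ ⊆ ({s, -s} : Finset Fˣ))).trans Finset.card_le_two
      intro t ht
      rw [Finset.mem_filter] at ht
      have hsq : (t : F) ^ 2 = (s : F) ^ 2 := mul_right_cancel₀ hc ht.2
      rw [sq_eq_sq_iff_eq_or_eq_neg] at hsq
      rw [Finset.mem_insert, Finset.mem_singleton]
      rcases hsq with h | h
      · left; exact Units.ext h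
      · right; exact Units.ext (by simpa using h)
  set S : Finset (Ix m → F) := Finset.univ.filter (fun w => Qp w ∈ A) with hS
  have hcard : Fintype.card {w : Ix m → F // ∃ s : Fˣ, Qp w = (s : F) ^ 2 * c} = S.card := by
    apply Fintype.card_of_subtype
    intro w
    rw [hS, Finset.mem_filter, hA, Finset.mem_image]
    constructor
    · rintro ⟨-, s, -, hs⟩; exact ⟨s, hs.symm⟩
    · rintro ⟨s, hs⟩; exact ⟨Finset.mem_univ _, s, Finset.mem_univ _, hs.symm⟩
  rw [hcard]
  have hfib : S.card = ∑ a ∈ A, (S.filter (fun w => Qp w = a)).card :=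
    Finset.card_eq_sum_card_fiberwise (fun w hw => (Finset.mem_filter.mp hw).2)
  rw [hfib]
  calc (Fintype.card F - 1) / 2 * (Fintype.card F ^ (2 * m) - Fintype.card F ^ m)
      ≤ A.card * (Fintype.card F ^ (2 * m) - Fintype.card F ^ m) :=
        Nat.mul_le_mul_right _ hAcard
    _ = ∑ _a ∈ A, (Fintype.card F ^ (2 * m) - Fintype.card F ^ m) := by
        rw [Finset.sum_const, smul_eq_mul]
    _ ≤ ∑ a ∈ A, (S.filter (fun w => Qp w = a)).card := by
        refine Finset.sum_le_sum fun a ha => ?_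
        have hSa : S.filter (fun w => Qp w = a) =
            (Finset.univ : Finset (Ix m → F)).filter (fun w => Qp w = a) := by
          ext w
          simp only [hS, Finset.mem_filter, Finset.mem_univ, true_and]
          constructor
          · exact fun h => h.2
          · intro h; exact ⟨h ▸ ha, h⟩
        rw [hSa, ← cnt_eq_card]
        exact le_cnt m a

end Cfsg.Agent.Lib.Helper7.OOEndEN
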