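import Cfsg.Agent.Lib.Helper7.SLMinC0p
import Cfsg.Agent.Lib.Helper13.SLMinW

/-! S2332 sub-leaf C2-M2 (helper7): the `hM2` input of the abstract stage lemma for stage 1
(`stage1_hM2`), via the Weyl element of rows 2, 3 inside `emb (SL)`.

Group level (any field): `emb_T`, the Weyl element `weyl a b = x_ab(1) x_ba(-1) x_ab(1)` in the
`T v f` calculus of helper27, and `weyl_conj`. -/

set_option autoImplicit false

namespace Cfsg.Agent.Lib.Helper7.SLMin

open Matrix Module Cfsg.Agent.Lib.Helper16.SLMin Cfsg.Agent.Lib.Helper27.MinDeg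
  Cfsg.Agent.Lib.Helper13.SLMin

section embT
variable {F : Type*} [Field F] {ι' : Type*} [Fintype ι'] [DecidableEq ι']

theorem elim_dot_elim (v f : ι' → F) :
    (Sum.elim (0 : Unit → F) f) ⬝ᵥ (Sum.elim (0 : Unit → F) v) = f ⬝ᵥ v := by
  rw [sumElim_dotProduct_sumElim, dotProduct_zero, zero_add]

/-- the block embedding of a transvection is a transvection -/
theorem emb_T {v f : ι' → F} (h : f ⬝ᵥ v = 0) :
    emb (T v f) = T (Sum.elim (0 : Unit → F) v) (Sum.elim (0 : Unit → F) f) := by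
  have h' : (Sum.elim (0 : Unit → F) f) ⬝ᵥ (Sum.elim (0 : Unit → F) v) = 0 := by
    rw [elim_dot_elim, h]
  apply sl_ext
  rw [emb_coe, T_coe h, T_coe h']
  ext i j
  rcases i with i | i <;> rcases j with j | j
  · simp [vecMulVec_apply]
  · simp [vecMulVec_apply]
  · simp [vecMulVec_apply]
  · simp [vecMulVec_apply, Matrix.one_apply]

theorem elim_zero_single_inl {κ : Type*} [DecidableEq κ] (c : F) :
    (Sum.elim (0 : Unit → F) (Pi.single (Sum.inl ()) c : Unit ⊕ κ → F) : Unit ⊕ (Unit ⊕ κ) → F)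
      = Pi.single (Sum.inr (Sum.inl ())) c := by
  funext i
  rcases i with i | i | i
  · simp
  · simp
  · simp

end embT

section weyl
variable {ι : Type*} [Fintype ι] [DecidableEq ι] {F : Type*} [Field F]

theorem single_dot_single {a b : ι} (hab : a ≠ b) :
    (Pi.single b (1 : F) : ι → F) ⬝ᵥ (Pi.single a (1 : F) : ι → F) = 0 := by
  rw [single_dotProduct, one_mul, Pi.single_eq_of_ne hab.symm]

theorem single_dot_self (a : ι) :
    (Pi.single a (1 : F) : ι → F) ⬝ᵥ (Pi.single a (1 : F) : ι → F) = 1 := by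
  rw [single_dotProduct, one_mul, Pi.single_eq_same]

/-- the Weyl element `x_ab(1) x_ba(-1) x_ab(1)` -/
noncomputable def weyl (a b : ι) : SpecialLinearGroup ι F :=
  T (Pi.single a 1) (Pi.single b 1) * T (-(Pi.single b 1)) (Pi.single a 1)
    * T (Pi.single a 1) (Pi.single b 1)

theorem weyl_def (a b : ι) :
    (weyl a b : SpecialLinearGroup ι F) = T (Pi.single a 1) (Pi.single b 1)
      * T (-(Pi.single b 1)) (Pi.single a 1) * T (Pi.single a 1) (Pi.single b 1) := rfl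

theorem weyl_mulVec {a b : ι} (hab : a ≠ b) :
    ((weyl a b : SpecialLinearGroup ι F) : Matrix ι ι F) *ᵥ (Pi.single a (1 : F) : ι → F)
      = -(Pi.single b (1 : F) : ι → F) := by
  have h1 : (Pi.single b (1 : F) : ι → F) ⬝ᵥ (Pi.single a (1 : F) : ι → F) = 0 :=
    single_dot_single hab
  have h2 : (Pi.single a (1 : F) : ι → F) ⬝ᵥ (-(Pi.single b (1 : F) : ι → F)) = 0 := by
    rw [dotProduct_neg, single_dot_single hab.symm, neg_zero]
  have hC : ((T (Pi.single a 1) (Pi.single b 1) : SpecialLinearGroup ι F) : Matrix ι ι F)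
      *ᵥ (Pi.single a (1 : F) : ι → F) = Pi.single a 1 := by
    rw [T_mulVec h1, h1, zero_smul, add_zero]
  have hB : ((T (-(Pi.single b 1)) (Pi.single a 1) : SpecialLinearGroup ι F) : Matrix ι ι F)
      *ᵥ (Pi.single a (1 : F) : ι → F) = Pi.single a 1 - Pi.single b 1 := by
    rw [T_mulVec h2, single_dot_self, one_smul, sub_eq_add_neg]
  have hA : ((T (Pi.single a 1) (Pi.single b 1) : SpecialLinearGroup ι F) : Matrix ι ι F)
      *ᵥ ((Pi.single a (1 : F) : ι → F) - Pi.single b 1) = -(Pi.single b (1 : F) : ι → F) := by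
    rw [T_mulVec h1, dotProduct_sub, h1, single_dot_self, zero_sub, neg_smul, one_smul]
    abel
  rw [weyl_def, Matrix.SpecialLinearGroup.coe_mul, Matrix.SpecialLinearGroup.coe_mul, ← mulVec_mulVec,
    ← mulVec_mulVec, hC, hB, hA]

theorem vecMul_weyl {a b : ι} (hab : a ≠ b) (f : ι → F) (hfa : f a = 0) (hfb : f b = 0) :
    f ᵥ* ((weyl a b : SpecialLinearGroup ι F) : Matrix ι ι F) = f := by
  have h1 : (Pi.single b (1 : F) : ι → F) ⬝ᵥ (Pi.single a (1 : F) : ι → F) = 0 :=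
    single_dot_single hab
  have h2 : (Pi.single a (1 : F) : ι → F) ⬝ᵥ (-(Pi.single b (1 : F) : ι → F)) = 0 := by
    rw [dotProduct_neg, single_dot_single hab.symm, neg_zero]
  have ha : f ⬝ᵥ (Pi.single a (1 : F) : ι → F) = 0 := by
    rw [dotProduct_single, mul_one, hfa]
  have hb : f ⬝ᵥ (-(Pi.single b (1 : F) : ι → F)) = 0 := by
    rw [dotProduct_neg, dotProduct_single, mul_one, hfb, neg_zero]
  have hA : f ᵥ* ((T (Pi.single a 1) (Pi.single b 1) : SpecialLinearGroup ι F) : Matrix ι ι F) = f := by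
    rw [vecMul_T h1, ha, zero_smul, add_zero]
  have hB : f ᵥ* ((T (-(Pi.single b 1)) (Pi.single a 1) : SpecialLinearGroup ι F) : Matrix ι ι F) = f := by
    rw [vecMul_T h2, hb, zero_smul, add_zero]
  rw [weyl_def, Matrix.SpecialLinearGroup.coe_mul, Matrix.SpecialLinearGroup.coe_mul, ← vecMul_vecMul,
    ← vecMul_vecMul, hA, hB, hA]

theorem vecMul_weyl_inv {a b : ι} (hab : a ≠ b) (f : ι → F) (hfa : f a = 0) (hfb : f b = 0) :
    f ᵥ* (((weyl a b : SpecialLinearGroup ι F)⁻¹ : SpecialLinearGroup ι F) : Matrix ι ι F) = f := by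
  have h := vecMul_weyl (F := F) hab f hfa hfb
  calc f ᵥ* (((weyl a b : SpecialLinearGroup ι F)⁻¹ : SpecialLinearGroup ι F) : Matrix ι ι F)
      = (f ᵥ* ((weyl a b : SpecialLinearGroup ι F) : Matrix ι ι F)) ᵥ*
          (((weyl a b : SpecialLinearGroup ι F)⁻¹ : SpecialLinearGroup ι F) : Matrix ι ι F) := by rw [h]
    _ = f := by rw [vecMul_vecMul, coe_mul_coe_inv, vecMul_one]

/-- the Weyl element moves the root group `T e_a f` (`f` supported off `a, b`) to `T e_b (-f)` -/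
theorem weyl_conj {a b : ι} (hab : a ≠ b) (f : ι → F) (hfa : f a = 0) (hfb : f b = 0) :
    (weyl a b : SpecialLinearGroup ι F) * T (Pi.single a 1) f * (weyl a b)⁻¹
      = T (Pi.single b 1) (-f) := by
  rw [conj_T, weyl_mulVec hab, vecMul_weyl_inv hab f hfa hfb]
  have : (-(Pi.single b (1 : F) : ι → F)) = (-1 : F) • (Pi.single b (1 : F) : ι → F) := by
    rw [neg_smul, one_smul]
  rw [this, T_smul, neg_smul, one_smul]

end weyl

section C2
variable {F : Type*} [Field F] [Fintype F] [DecidableEq F] {M : Type*} [AddCommGroup M]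
  [Module ℂ M] [FiniteDimensional ℂ M] {J : Type*} [Fintype J] [DecidableEq J]

/-- `ra v` in the transvection calculus -/
theorem ra_eq_T (v : J → F) :
    (ra v : SpecialLinearGroup (Unit ⊕ (Unit ⊕ J)) F)
      = T (Pi.single (Sum.inl ()) 1) (Sum.elim (0 : Unit → F) (Sum.elim (0 : Unit → F) v)) := by
  unfold ra
  rw [rad_eq_T]

/-- `rb w` in the transvection calculus -/
theorem rb_eq_T (w : J → F) :
    (rb w : SpecialLinearGroup (Unit ⊕ (Unit ⊕ J)) F)
      = T (Pi.single (Sum.inr (Sum.inl ())) 1) (Sum.elim (0 : Unit → F) (Sum.elim (0 : Unit → F) w)) := by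
  unfold rb
  rw [rad_eq_T, emb_T (rad_dot w), elim_zero_single_inl]

/-- the Weyl element of rows 1, 2 of `SL (Unit ⊕ (Unit ⊕ J))` swaps `ra` and `rb` (up to sign) -/
theorem weyl_ra (v : J → F) :
    (weyl (Sum.inl ()) (Sum.inr (Sum.inl ())) : SpecialLinearGroup (Unit ⊕ (Unit ⊕ J)) F) * ra v
      * (weyl (Sum.inl ()) (Sum.inr (Sum.inl ())))⁻¹ = rb (-v) := by
  rw [ra_eq_T, rb_eq_T, weyl_conj (by simp) _ (by simp) (by simp)]
  congr 1
  funext i
  rcases i with i | i | i <;> simp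

theorem rad_add' {ι' : Type*} [Fintype ι'] [DecidableEq ι'] (r s : ι' → F) :
    (rad (r + s) : SpecialLinearGroup (Unit ⊕ ι') F) = rad r * rad s := rad_add r s

theorem rx_add (s t : Unit → F) :
    (rx (s + t) : SpecialLinearGroup (Unit ⊕ (Unit ⊕ J)) F) = rx s * rx t := by
  unfold rx
  rw [← rad_add]
  congr 1
  funext i
  rcases i with i | i <;> simp

theorem rb_add (r s : J → F) :
    (rb (r + s) : SpecialLinearGroup (Unit ⊕ (Unit ⊕ J)) F) = rb r * rb s := by
  unfold rb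
  rw [rad_add, map_mul]

theorem rx_ra_comm (t : Unit → F) (v : J → F) :
    (rx t : SpecialLinearGroup (Unit ⊕ (Unit ⊕ J)) F) * ra v = ra v * rx t := by
  unfold rx ra
  rw [← rad_add, ← rad_add, add_comm]

variable (ρ : Representation ℂ (SpecialLinearGroup (Unit ⊕ (Unit ⊕ (Unit ⊕ J))) F) M)

/-- `emb g` stabilises the fixed space of the radical -/
theorem map_emb_wt_rad_zero {ι' : Type*} [Fintype ι'] [DecidableEq ι']
    (σ : Representation ℂ (SpecialLinearGroup (Unit ⊕ ι') F) M) (g : SpecialLinearGroup ι' F) :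
    Submodule.map (σ (emb g)) (wt σ (rad (F := F) (ι' := ι')) 0)
      = wt σ (rad (F := F) (ι' := ι')) 0 := by
  apply map_wt_of_conj σ rad rad (emb g)
    (fun r => r ᵥ* ((g⁻¹ : SpecialLinearGroup ι' F) : Matrix ι' ι' F))
  · intro r
    refine ⟨r ᵥ* (g : Matrix ι' ι' F), ?_⟩
    show (r ᵥ* (g : Matrix ι' ι' F)) ᵥ* ((g⁻¹ : SpecialLinearGroup ι' F) : Matrix ι' ι' F) = r
    rw [vecMul_vecMul, coe_mul_coe_inv, vecMul_one]
  · intro r
    exact emb_rad g r
  · intro r
    rw [zero_dotProduct, zero_dotProduct]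

/-- **C2-M2**: the `hM2` input of the abstract stage lemma for stage 1. -/
theorem stage1_hM2
    (hm1 : ∀ u : Unit ⊕ (Unit ⊕ J) → F, u ≠ 0 →
      finrank ℂ ↥(wt ρ (rad (F := F) (ι' := Unit ⊕ (Unit ⊕ J))) u) = 1)
    (h0 : ∀ w : Unit ⊕ J → F, w ≠ 0 →
      finrank ℂ ↥(wt ρ (rad (F := F) (ι' := Unit ⊕ (Unit ⊕ J))) 0 ⊓
        wt ρ (rb (F := F) (J := Unit ⊕ J)) w) = 1) :
    ∀ w : J → F, w ≠ 0 →
      finrank ℂ ↥(wt ρ (rad (F := F) (ι' := Unit ⊕ (Unit ⊕ J))) 0 ⊓
        wt ρ (fun w : J → F => emb (rb (F := F) (J := J) w)) w) = Fintype.card F := by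
  intro w hw
  have _ := hm1
  set N₀ := wt ρ (rad (F := F) (ι' := Unit ⊕ (Unit ⊕ J))) 0 with hN₀
  set x : (Unit → F) → SpecialLinearGroup (Unit ⊕ (Unit ⊕ (Unit ⊕ J))) F :=
    fun t => emb (rx (F := F) (J := J) t) with hx
  set α : (J → F) → SpecialLinearGroup (Unit ⊕ (Unit ⊕ (Unit ⊕ J))) F :=
    fun v => emb (ra (F := F) (J := J) v) with hα
  set β : (J → F) → SpecialLinearGroup (Unit ⊕ (Unit ⊕ (Unit ⊕ J))) F :=
    fun w => emb (rb (F := F) (J := J) w) with hβ
  -- the Weyl element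
  set g : SpecialLinearGroup (Unit ⊕ (Unit ⊕ J)) F := weyl (Sum.inl ()) (Sum.inr (Sum.inl ())) with hg
  have hsN : Submodule.map (ρ (emb g)) N₀ = N₀ := map_emb_wt_rad_zero ρ g
  have hsα : Submodule.map (ρ (emb g)) (wt ρ α (-w)) = wt ρ β w := by
    apply map_wt_of_conj ρ α β (emb g) (fun r => -r)
    · intro r
      exact ⟨-r, neg_neg r⟩
    · intro r
      show emb g * emb (ra r) * (emb g)⁻¹ = emb (rb (-r))
      rw [← map_inv, ← map_mul, ← map_mul, weyl_ra]
    · intro r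
      rw [neg_dotProduct, dotProduct_neg]
  have hstep1 : finrank ℂ ↥(N₀ ⊓ wt ρ β w) = finrank ℂ ↥(N₀ ⊓ wt ρ α (-w)) := by
    rw [← finrank_map_rho ρ (emb g) (N₀ ⊓ wt ρ α (-w)), map_rho_inf, hsN, hsα]
  rw [hstep1]
  have hv : (-w) ≠ 0 := neg_ne_zero.mpr hw
  -- decompose along `x`
  have hxadd : ∀ r s, x (r + s) = x r * x s := by
    intro r s
    show emb (rx (r + s)) = emb (rx r) * emb (rx s)
    rw [rx_add, map_mul]
  have hinv : ∀ t : Unit → F, ∀ m ∈ N₀ ⊓ wt ρ α (-w), ρ (x t) m ∈ N₀ ⊓ wt ρ α (-w) := by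
    intro t m hm
    refine ⟨?_, ?_⟩
    · have h1 : Submodule.map (ρ (emb (rx t))) N₀ = N₀ := map_emb_wt_rad_zero ρ (rx t)
      rw [← h1]
      exact Submodule.mem_map_of_mem hm.1
    · intro r
      have hc : α r * x t = x t * α r := by
        show emb (ra r) * emb (rx t) = emb (rx t) * emb (ra r)
        rw [← map_mul, ← map_mul, rx_ra_comm]
      have h2' : ρ (α r) * ρ (x t) = ρ (x t) * ρ (α r) := by
        rw [← map_mul ρ (α r) (x t), hc, map_mul]
      have h2 : ρ (α r) (ρ (x t) m) = ρ (x t) (ρ (α r) m) := by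
        show (ρ (α r) * ρ (x t)) m = (ρ (x t) * ρ (α r)) m
        rw [h2']
      rw [h2, hm.2 r, map_smul]
  rw [finrank_eq_sum_inf_wt ρ x hxadd (N₀ ⊓ wt ρ α (-w)) hinv]
  have hone : ∀ a : Unit → F, finrank ℂ ↥((N₀ ⊓ wt ρ α (-w)) ⊓ wt ρ x a) = 1 := by
    intro a
    have hrbadd : ∀ r s : Unit ⊕ J → F, (rb (F := F) (J := Unit ⊕ J) (r + s)) = rb r * rb s :=
      fun r s => rb_add r s
    have h6 := wt_sum_elim ρ (rb (F := F) (J := Unit ⊕ J)) hrbadd a (-w)
    have hne : (Sum.elim a (-w) : Unit ⊕ J → F) ≠ 0 := by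
      intro h0'
      apply hv
      funext j
      have := congrFun h0' (Sum.inr j)
      simpa using this
    have h7 := h0 (Sum.elim a (-w)) hne
    rw [h6] at h7
    have heq : (N₀ ⊓ wt ρ α (-w)) ⊓ wt ρ x a
        = N₀ ⊓ (wt ρ (fun r : Unit → F => rb (F := F) (J := Unit ⊕ J) (Sum.elim r 0)) a ⊓
            wt ρ (fun r : J → F => rb (F := F) (J := Unit ⊕ J) (Sum.elim 0 r)) (-w)) := by
      rw [inf_assoc]
      congr 1
      rw [inf_comm]
      rfl
    rw [heq]
    exact h7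
  rw [Finset.sum_congr rfl (fun a _ => hone a), Finset.sum_const, Finset.card_univ, smul_eq_mul,
    mul_one]
  exact Fintype.card_congr (Equiv.funUnique Unit F)

end C2

end Cfsg.Agent.Lib.Helper7.SLMin
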