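import Cfsg.Agent.Lib.Helper7.SLTvClass

/-! S2332 leaf CLS over a general index type (helper7): for `ι : Type` finite with `3 ≤ |ι|` and a
transvection `t : SL ι F`, `[SL ι F : C(t)] * (q - 1) = (q^|ι| - 1)(q^(|ι|-1) - 1)`. -/

set_option autoImplicit false

namespace Cfsg.Agent.Lib.Helper7.SLTvClass

open Matrix

/-- the index of a centralizer is invariant under group isomorphisms -/
theorem index_centralizer_mulEquiv {G H : Type*} [Group G] [Group H] (φ : G ≃* H) (t : G) :
    (Subgroup.centralizer ({t} : Set G)).index = (Subgroup.centralizer ({φ t} : Set H)).index := by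
  rw [index_centralizer_eq_card_isConj, index_centralizer_eq_card_isConj]
  apply Nat.card_congr
  exact
    { toFun := fun x => ⟨φ x.1, φ.toMonoidHom.map_isConj x.2⟩
      invFun := fun y => ⟨φ.symm y.1, by
        have := φ.symm.toMonoidHom.map_isConj y.2
        simpa using this⟩
      left_inv := fun x => Subtype.ext (φ.symm_apply_apply _)
      right_inv := fun y => Subtype.ext (φ.apply_symm_apply _) }

section
variable {F : Type*} [Field F] {ι κ : Type} [Fintype ι] [DecidableEq ι] [Fintype κ] [DecidableEq κ]

/-- reindexing `SL ι F ≃* SL κ F` along `e : ι ≃ κ` -/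
def slReindex (e : ι ≃ κ) : Matrix.SpecialLinearGroup ι F ≃* Matrix.SpecialLinearGroup κ F where
  toFun A := ⟨Matrix.reindex e e (A : Matrix ι ι F), by rw [Matrix.det_reindex_self]; exact A.2⟩
  invFun B := ⟨Matrix.reindex e.symm e.symm (B : Matrix κ κ F), by rw [Matrix.det_reindex_self]; exact B.2⟩
  left_inv A := by
    apply Subtype.ext
    ext i j
    simp [Matrix.reindex_apply, Matrix.submatrix_apply]
  right_inv B := by
    apply Subtype.ext
    ext i j
    simp [Matrix.reindex_apply, Matrix.submatrix_apply]
  map_mul' A B := by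
    apply Subtype.ext
    show Matrix.reindex e e ((A : Matrix ι ι F) * (B : Matrix ι ι F))
      = Matrix.reindex e e (A : Matrix ι ι F) * Matrix.reindex e e (B : Matrix ι ι F)
    simp only [Matrix.reindex_apply]
    rw [Matrix.submatrix_mul_equiv]

theorem slReindex_coe (e : ι ≃ κ) (A : Matrix.SpecialLinearGroup ι F) :
    ((slReindex e A : Matrix.SpecialLinearGroup κ F) : Matrix κ κ F) = Matrix.reindex e e (A : Matrix ι ι F) := rfl

/-- reindexing preserves transvections -/
theorem isTransvection_reindex (e : ι ≃ κ) (t : Matrix ι ι F) (ht : Cfsg.IsTransvection t) :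
    Cfsg.IsTransvection (Matrix.reindex e e t) := by
  obtain ⟨hr, hs⟩ := ht
  have hsub : Matrix.reindex e e t - 1 = Matrix.reindex e e (t - 1) := by
    ext i j
    simp [Matrix.reindex_apply, Matrix.submatrix_apply, Matrix.one_apply]
  refine ⟨?_, ?_⟩
  · rw [hsub, Matrix.rank_reindex, hr]
  · rw [hsub]
    simp only [Matrix.reindex_apply]
    rw [Matrix.submatrix_mul_equiv, hs]
    simp

end

section
variable {F : Type*} [Field F] [Fintype F] {ι : Type} [Fintype ι] [DecidableEq ι]

/-- **class size of a transvection over a general index type** (product form) -/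
theorem index_centralizer_mul_idx (hn : 3 ≤ Fintype.card ι) (t : Matrix.SpecialLinearGroup ι F)
    (ht : Cfsg.IsTransvection (t : Matrix ι ι F)) :
    (Subgroup.centralizer ({t} : Set (Matrix.SpecialLinearGroup ι F))).index * (Fintype.card F - 1)
      = (Fintype.card F ^ Fintype.card ι - 1) * (Fintype.card F ^ (Fintype.card ι - 1) - 1) := by
  rw [index_centralizer_mulEquiv (slReindex (F := F) (Fintype.equivFin ι)) t]
  exact index_centralizer_mul hn _ (isTransvection_reindex (Fintype.equivFin ι) _ ht)

/-- **class size of a transvection over a general index type** (quotient form) -/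
theorem index_centralizer_idx (hn : 3 ≤ Fintype.card ι) (t : Matrix.SpecialLinearGroup ι F)
    (ht : Cfsg.IsTransvection (t : Matrix ι ι F)) :
    (Subgroup.centralizer ({t} : Set (Matrix.SpecialLinearGroup ι F))).index
      = (Fintype.card F ^ Fintype.card ι - 1) * (Fintype.card F ^ (Fintype.card ι - 1) - 1)
        / (Fintype.card F - 1) := by
  have h := index_centralizer_mul_idx hn t ht
  have hq1 : 1 < Fintype.card F := Fintype.one_lt_card
  rw [← h, Nat.mul_div_cancel _ (by omega)]

end

section
variable {F : Type*} [Field F] {ι : Type} [Fintype ι] [DecidableEq ι]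

/-- a nonzero matrix has positive rank (general index type) -/
theorem rank_pos_of_ne_zero_idx (A : Matrix ι ι F) (hA : A ≠ 0) : 0 < A.rank := by
  rcases Nat.eq_zero_or_pos A.rank with h0 | hpos
  · exfalso
    apply hA
    unfold Matrix.rank at h0
    have hbot : LinearMap.range A.mulVecLin = ⊥ := Submodule.finrank_eq_zero.mp h0
    have hz : A.mulVecLin = 0 := LinearMap.range_eq_bot.mp hbot
    ext i j
    have h1 := congrFun (congrArg (fun f => f (Pi.single j 1)) hz) i
    simpa using h1
  · exact hpos

/-- `1 + c • v φᵀ` with `φ ⬝ᵥ v = 0`, `c ≠ 0`, `v ≠ 0`, `φ ≠ 0` is a transvection (general index type;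
this is helper25's `SLRoot.tvMat v φ c` by `rfl`) -/
theorem isTransvection_one_add_smul_vecMulVec_idx (v φ : ι → F) (c : F) (h : φ ⬝ᵥ v = 0)
    (hc : c ≠ 0) (hv : v ≠ 0) (hφ : φ ≠ 0) :
    Cfsg.IsTransvection (1 + c • Matrix.vecMulVec v φ) := by
  have hsub : (1 + c • Matrix.vecMulVec v φ) - 1 = c • Matrix.vecMulVec v φ := by
    rw [add_sub_cancel_left]
  unfold Cfsg.IsTransvection
  rw [hsub]
  refine ⟨?_, ?_⟩
  · apply le_antisymm
    · have h1 : c • Matrix.vecMulVec v φ = Matrix.vecMulVec (c • v) φ := by
        ext i j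
        simp [Matrix.vecMulVec_apply, mul_assoc]
      rw [h1]
      exact Matrix.rank_vecMulVec_le _ _
    · apply rank_pos_of_ne_zero_idx
      intro h0
      obtain ⟨i, hi⟩ := Function.ne_iff.mp hv
      obtain ⟨j, hj⟩ := Function.ne_iff.mp hφ
      have := congrFun (congrFun h0 i) j
      simp only [Matrix.smul_apply, Matrix.vecMulVec_apply, smul_eq_mul, Matrix.zero_apply,
        mul_eq_zero] at this
      rcases this with h | h | h
      · exact hc h
      · exact hi h
      · exact hj h
  · ext i j
    simp only [Matrix.mul_apply, Matrix.smul_apply, Matrix.vecMulVec_apply, smul_eq_mul, Matrix.zero_apply]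
    have : ∀ x : ι, c * (v i * φ x) * (c * (v x * φ j)) = (c * c * v i * φ j) * (φ x * v x) := by
      intro x; ring
    rw [Finset.sum_congr rfl (fun x _ => this x), ← Finset.mul_sum]
    have hd : ∑ x : ι, φ x * v x = φ ⬝ᵥ v := rfl
    rw [hd, h, mul_zero]

end

end Cfsg.Agent.Lib.Helper7.SLTvClass
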