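import Mathlib
import Cfsg.Agent.Lib.Helper20.UTNDefs
import Cfsg.Agent.Lib.Helper20.UTS
import Cfsg.Agent.Lib.Helper5.SUMax
import Cfsg.Agent.Lib.Helper23.UTNNG

/-!
helper7 for helper20's S5670 (N) market (`notes/S5670_N_leaves.lean`): the leaf
N0 `exists_R2U` (exact signature), on helper23's NG2 `exists_su_map` and NG3 `kel_mem_GS`.
-/

set_option autoImplicit false
set_option linter.unusedSectionVars false
set_option linter.unusedVariables false

namespace Cfsg.Agent.Lib.Helper7.UTNLeaf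
open Matrix
open Cfsg.Agent.Lib.Helper25.Tens Cfsg.Agent.Lib.Helper25.TensLeaf Cfsg.Agent.Lib.Helper25.TensLeaves
open Cfsg.Agent.Lib.Helper20.UT Cfsg.Agent.Lib.Helper20.UTLeaf Cfsg.Agent.Lib.Helper20.UTN
open scoped Kronecker

variable {F : Type*} [Field F] [Fintype F] {a b q : ℕ} {M : Subgroup (GL (Idx a b) F)}

/-- N0 normalisation. -/
theorem exists_R2U (hc : MCtx a b q M) (hR : R1U q M) :
    ∃ y : Fin b → F, y ≠ 0 ∧ hv q y y = 0 ∧ R2U q M y := by
  have hF := hc.hF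
  obtain ⟨h, hhM, hhK, y, y', hy0, hy'0, hy, hy', hmap⟩ := hR
  obtain ⟨β, hβ, hβdet, hβy⟩ := Cfsg.Agent.Lib.Helper23.UTNLeaf.exists_su_map hF
    (by have := hc.hb; omega) hy'0 hy0 hy' hy
  have hk : (kel (1 : GL (Fin a) F) β : GL (Idx a b) F) ∈ KG a b F ⊓ GS a b q F := by
    apply Cfsg.Agent.Lib.Helper23.UTNLeaf.kel_mem_GS hF 1 β
    · intro u v
      rw [mv_one, mv_one]
    · exact hβ
    · rw [hβdet, Units.val_one, Matrix.det_one, one_pow, one_pow, one_mul]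
  have hkM : (kel (1 : GL (Fin a) F) β : GL (Idx a b) F) ∈ M := hc.le hk
  refine ⟨y, hy0, hy, kel (1 : GL (Fin a) F) β * h, M.mul_mem hkM hhM, ?_, ?_⟩
  · intro hcon
    apply hhK
    have h1 : h = (kel (1 : GL (Fin a) F) β : GL (Idx a b) F)⁻¹ *
        (kel (1 : GL (Fin a) F) β * h) := by group
    rw [h1]
    exact (KG a b F).mul_mem ((KG a b F).inv_mem hk.1) hcon
  · intro x
    obtain ⟨x', hx'⟩ := hmap x
    refine ⟨x', ?_⟩
    rw [mv_mul, hx']
    have h2 : mv (kel (1 : GL (Fin a) F) β : GL (Idx a b) F) (pt x' y') =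
        pt (mv (1 : GL (Fin a) F) x') (mv β y') := kel_mulVec_pt 1 β x' y'
    rw [h2, mv_one, hβy]

end Cfsg.Agent.Lib.Helper7.UTNLeaf
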