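import Mathlib
import Cfsg.Agent.Lib.Helper20.UTNDefs
import Cfsg.Agent.Lib.Helper20.UTS
import Cfsg.Agent.Lib.Helper5.SUMax

/-!
helper7 for helper20's S5670 (N) market (`notes/S5670_N_leaves.lean`): the leaf
N1a `exists_stab_matrix` (exact signature).
-/

set_option autoImplicit false
set_option linter.unusedSectionVars false
set_option linter.unusedVariables false

namespace Cfsg.Agent.Lib.Helper7.UTNLeaf
open Matrix
open Cfsg.Agent.Lib.Helper25.Tens Cfsg.Agent.Lib.Helper25.TensLeaf Cfsg.Agent.Lib.Helper25.TensLeaves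
open Cfsg.Agent.Lib.Helper20.UT Cfsg.Agent.Lib.Helper20.UTLeaf Cfsg.Agent.Lib.Helper20.UTN
open scoped Kronecker

variable {F : Type*} [Field F] [Fintype F] {a b q : ℕ} {M : Subgroup (GL (Idx a b) F)}

/-- N1a the matrix of the action on `A ⊗ y`. -/
theorem exists_stab_matrix {h : GL (Idx a b) F} {y : Fin b → F} (hy0 : y ≠ 0)
    (hmap : ∀ x : Fin a → F, ∃ x' : Fin a → F, mv h (pt x y) = pt x' y) :
    ∃ H : GL (Fin a) F, ∀ x : Fin a → F, mv h (pt x y) = pt (mv H x) y := by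
  classical
  obtain ⟨l, hl⟩ := Function.ne_iff.mp hy0
  have hl' : y l ≠ 0 := hl
  set η₀ : Fin b → F := Pi.single l (y l)⁻¹ with hη₀
  have hη₀y : η₀ ⬝ᵥ y = 1 := by
    rw [hη₀, single_dotProduct, inv_mul_cancel₀ hl']
  set φ : (Fin a → F) →ₗ[F] (Fin a → F) :=
    (ctR η₀).comp ((Matrix.toLin' (h : Matrix (Idx a b) (Idx a b) F)).comp (ptL y)) with hφ
  have hφx : ∀ x, mv h (pt x y) = pt (φ x) y := by
    intro x
    obtain ⟨x', hx'⟩ := hmap x
    have : φ x = x' := by
      change ct η₀ ((h : Matrix (Idx a b) (Idx a b) F) *ᵥ pt x y) = x'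
      have h1 : (h : Matrix (Idx a b) (Idx a b) F) *ᵥ pt x y = pt x' y := hx'
      rw [h1, ct_pt, hη₀y, one_smul]
    rw [this, hx']
  have hinj : Function.Injective φ := by
    rw [← LinearMap.ker_eq_bot, LinearMap.ker_eq_bot']
    intro x hx
    have h1 := hφx x
    rw [hx, pt_zero_left, mv_eq_zero_iff, pt_eq_zero_iff] at h1
    rcases h1 with h | h
    · exact h
    · exact absurd h hy0
  have hmul : ∀ x, LinearMap.toMatrix' φ *ᵥ x = φ x := fun x => LinearMap.toMatrix'_mulVec φ x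
  have hunit : IsUnit (LinearMap.toMatrix' φ) := by
    rw [← Matrix.mulVec_injective_iff_isUnit]
    intro x x' hxx'
    apply hinj
    have : LinearMap.toMatrix' φ *ᵥ x = LinearMap.toMatrix' φ *ᵥ x' := hxx'
    rwa [hmul, hmul] at this
  refine ⟨hunit.unit, fun x => ?_⟩
  rw [hφx x]
  unfold mv
  rw [IsUnit.unit_spec, hmul]

end Cfsg.Agent.Lib.Helper7.UTNLeaf
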