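import Mathlib
import Cfsg.Agent.Lib.Helper20.UTNDefs
import Cfsg.Agent.Lib.Helper20.UTS
import Cfsg.Agent.Lib.Helper5.SUMax

/-!
helper7 for helper20's S5670 (N) market (`notes/S5670_N_leaves.lean`): the leaf
N3i `mem_KG_of_pure` (exact signature).
-/

set_option autoImplicit false
set_option linter.unusedSectionVars false
set_option linter.unusedVariables false

namespace Cfsg.Agent.Lib.Helper7.UTNLeaf
open Matrix
open Cfsg.Agent.Lib.Helper25.Tens Cfsg.Agent.Lib.Helper25.TensLeaf Cfsg.Agent.Lib.Helper25.TensLeaves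
open Cfsg.Agent.Lib.Helper20.UT Cfsg.Agent.Lib.Helper20.UTLeaf Cfsg.Agent.Lib.Helper20.UTN
open scoped Kronecker

variable {F : Type*} [Field F] [Fintype F] {a b q : ℕ} {M : Subgroup (GL (Idx a b) F)}

/-- N3i -/
theorem mem_KG_of_pure {u : GL (Idx a b) F} (ha : 1 ≤ a)
    (h : ∀ z : Fin b → F, ∃ z'' : Fin b → F, ∀ x : Fin a → F, mv u (pt x z) = pt x z'') :
    u ∈ KG a b F := by
  classical
  choose f hf using h
  set β₀ : Matrix (Fin b) (Fin b) F := Matrix.of (fun k l => f (Pi.single l 1) k) with hβ₀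
  have hmat : (u : Matrix (Idx a b) (Idx a b) F) = (1 : Matrix (Fin a) (Fin a) F) ⊗ₖ β₀ := by
    ext p ⟨i, l⟩
    have h1 := congrFun (hf (Pi.single l 1) (Pi.single i 1)) p
    unfold mv at h1
    rw [mulVec_pt_single] at h1
    have h2 : (u : Matrix (Idx a b) (Idx a b) F) p (i, l) =
        pt (Pi.single i (1 : F)) (f (Pi.single l 1)) p := h1
    rw [h2]
    simp only [pt, Matrix.kroneckerMap_apply, Matrix.one_apply, hβ₀, Matrix.of_apply,
      Pi.single_apply]
  have hdet : IsUnit β₀.det := by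
    have h1 : IsUnit (u : Matrix (Idx a b) (Idx a b) F).det := by
      have := (Matrix.isUnit_iff_isUnit_det _).1 (Units.isUnit u)
      exact this
    rw [hmat, Matrix.det_kronecker, Matrix.det_one, one_pow, one_mul, Fintype.card_fin] at h1
    exact (isUnit_pow_iff (by omega)).1 h1
  refine (mem_KG_iff u).2 ⟨1, Matrix.GeneralLinearGroup.mk'' β₀ hdet, ?_⟩
  rw [hmat]
  rfl

end Cfsg.Agent.Lib.Helper7.UTNLeaf
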