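/-
helper7: S0720 (Wielandt, degree `2p`; planner helper19), leaf W2P-BLK `relIndex_mul_card`:
the defect-one theorem (DO-FULL at the principal block, as in `Cfsg/Agent/S4441.lean`) applied to a class function
`π = 1 + χ₁ + ∑_T χ` vanishing on the `p`-singular elements gives `|N_G(P) : C_G(P)| · |T| = p - 1`.

Argument.  `S = {1, χ₁} ∪ T`, `π = ∑_S χ`.
 (A) for every block `B` the `B`-part `∑_{S ∩ B} χ` vanishes on the `p`-singular elements (weak block orthogonality);
 (B) `∑_{x∈P} χ(x) ∈ p ℕ` and `∑_{x∈P} π(x) = π(1) = 2p` give `∑_{x∈P} χ(x) = 0` for `χ ∈ T`;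
 (C) summing (A) for `B₀` over `P#`: `∑_{T ∩ B₀} χ(1) = p - 1 = ∑_T χ(1)`, so `T ⊆ B₀ = X ∪ Y`;
 (D) `χ ∈ T ∩ X` would have degree `p - 1`, impossible as `|T| ≥ 2`: `T ⊆ Y`;
 (E) `ψ' ∈ Y` has `⟨π, ψ'⟩ = ⟨π, ψ⟩ = 1` (`ψ ∈ T`), so `ψ' ∈ S`; `ψ' = χ₁` and `ψ' = 1` are impossible by degrees / `|Y| ≤ p - 1`;
 so `T = Y`, `|T| = (p - 1)/f`, `f ∣ p - 1`.
-/
import Mathlib
import Cfsg.Agent.Lib.Helper19.W2PDefs
import Cfsg.Agent.Lib.Lead.PermChar
import Cfsg.Agent.Lib.Helper6.Knoerr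
import Cfsg.Agent.Lib.Helper6.BRHDefs
import Cfsg.Agent.Lib.Helper7.DOS4441
import Cfsg.Agent.Lib.Helper8.DOMFinal
import Cfsg.Agent.Lib.Helper8.DOFULL
import Cfsg.Agent.Lib.Helper9.DODEG
import Cfsg.Agent.Lib.Helper26.DODEFP
import Cfsg.Agent.Lib.Lead.CharOrtho
import Cfsg.Agent.S0907

set_option autoImplicit false

namespace Cfsg.Agent.Lib.Helper7.W2PBLK

open Cfsg Cfsg.Agent.CharLib Cfsg.Agent.Lib.Helper8.DOM Cfsg.Agent.Lib.Helper27.DO
open Cfsg.Agent.Lib.Helper7.DOS4441 Cfsg.Agent.Lib.Helper9.DODEG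
open scoped ComplexConjugate

universe u

variable {G : Type u} [Group G] [Fintype G]

/-- multiplicities of the irreducible characters in a multiplicity-free sum -/
theorem classInner_sum_irr (S : Finset (IrrCharacter G)) (π : G → ℂ)
    (hdec : ∀ g, π g = ∑ χ ∈ S, (χ : G → ℂ) g) (ψ : IrrCharacter G) :
    classInner π (ψ : G → ℂ) = if ψ ∈ S then 1 else 0 := by
  classical
  have hπ : π = ∑ χ ∈ S, (χ : G → ℂ) := by
    funext g
    rw [hdec, Finset.sum_apply]
  rw [hπ, Cfsg.Agent.CharLib.classInner_sum_left]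
  simp only [classInner_irr']
  rw [Finset.sum_ite_eq']

/-- (A) the part of `π` in a block vanishes on the `p`-singular elements -/
theorem blockPart_singular {p : ℕ} [Fact p.Prime] {M : Ideal AlgInt} (hM : IsPModular p M)
    (π : G → ℂ) (hπ0 : ∀ g, p ∣ orderOf g → π g = 0)
    (S : Finset (IrrCharacter G)) (hdec : ∀ g, π g = ∑ χ ∈ S, (χ : G → ℂ) g)
    (B : Set (IrrCharacter G)) [DecidablePred (fun χ => χ ∈ B)] (hB : IsPBlock M B) (x : G)
    (hx : p ∣ orderOf x) :
    ∑ χ ∈ S.filter (fun χ => χ ∈ B), (χ : G → ℂ) x = 0 := by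
  classical
  set Bf : Finset (IrrCharacter G) := (Set.toFinite B).toFinset with hBf
  have hmem : ∀ χ, χ ∈ Bf ↔ χ ∈ B := fun χ => Set.Finite.mem_toFinset _
  have h1 : ∑ χ ∈ S.filter (fun χ => χ ∈ B), (χ : G → ℂ) x
      = ∑ χ ∈ Bf, classInner π (χ : G → ℂ) * (χ : G → ℂ) x := by
    have h2 : S.filter (fun χ => χ ∈ B) = Bf.filter (fun χ => χ ∈ S) := by
      ext χ
      simp only [Finset.mem_filter, hmem]
      exact and_comm
    rw [h2, Finset.sum_filter]
    apply Finset.sum_congr rfl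
    intro χ _
    rw [classInner_sum_irr S π hdec]
    split_ifs <;> simp
  rw [h1]
  unfold classInner
  have h3 : ∀ χ ∈ Bf, ((Nat.card G : ℂ)⁻¹ * ∑ g : G, π g * conj ((χ : G → ℂ) g)) * (χ : G → ℂ) x
      = (Nat.card G : ℂ)⁻¹ * ∑ g : G, π g * (conj ((χ : G → ℂ) g) * (χ : G → ℂ) x) := by
    intro χ _
    rw [mul_assoc, Finset.sum_mul]
    congr 1
    apply Finset.sum_congr rfl
    intro g _
    ring
  rw [Finset.sum_congr rfl h3, ← Finset.mul_sum, Finset.sum_comm]
  have h4 : ∀ g : G, ∑ χ ∈ Bf, π g * (conj ((χ : G → ℂ) g) * (χ : G → ℂ) x) = 0 := by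
    intro g
    rw [← Finset.mul_sum]
    by_cases hg : p ∣ orderOf g
    · rw [hπ0 g hg, zero_mul]
    · have h5 := Cfsg.Agent.S0907.result p M hM B hB g x hg hx
      rw [finsum_mem_eq_finite_toFinset_sum _ (Set.toFinite B)] at h5
      have h6 : ∑ χ ∈ Bf, conj ((χ : G → ℂ) g) * (χ : G → ℂ) x =
          conj (∑ χ ∈ Bf, (χ : G → ℂ) g * conj ((χ : G → ℂ) x)) := by
        rw [map_sum]
        apply Finset.sum_congr rfl
        intro χ _
        rw [map_mul, Complex.conj_conj]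
      rw [h6, h5, map_zero, mul_zero]
  rw [Finset.sum_congr rfl (fun g _ => h4 g), Finset.sum_const_zero, mul_zero]

/-- W2P-BLK: the defect-one theorem on the principal block gives `|N:C| · t = p - 1`. -/
theorem relIndex_mul_card {p : ℕ} [Fact p.Prime] (hodd : p ≠ 2) (P : Subgroup G)
    (hP : Nat.card P = p) (hSyl : ¬ p ∣ P.index) (π : G → ℂ)
    (hπ0 : ∀ g : G, p ∣ orderOf g → π g = 0)
    (hπpow : ∀ (g : G) (k : ℕ), k.Coprime (Nat.card G) → π (g ^ k) = π g)
    (hπ1 : π 1 = 2 * p)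
    (χ₁ : IrrCharacter G) (hdeg : (χ₁ : G → ℂ) 1 = p)
    (hχ₁ : ∀ x ∈ P, x ≠ 1 → (χ₁ : G → ℂ) x = 0)
    (T : Finset (IrrCharacter G)) (htriv : trivIrr G ∉ T) (hχ₁T : χ₁ ∉ T)
    (hdec : ∀ g : G, π g = 1 + (χ₁ : G → ℂ) g + ∑ χ ∈ T, (χ : G → ℂ) g) (ht : 2 ≤ T.card) :
    (Subgroup.centralizer (P : Set G)).relIndex (Subgroup.normalizer (P : Set G)) * T.card =
      p - 1 := by
  classical
  letI : Fintype (IrrCharacter G) := Fintype.ofFinite _
  have hpp : p.Prime := Fact.out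
  have hp1 : 1 ≤ p := hpp.one_lt.le
  obtain ⟨M, hM⟩ := Cfsg.Agent.Lib.Helper6.exists_isPModular p
  haveI : M.IsMaximal := hM.2.1
  have h1reg : ¬ p ∣ orderOf (1 : G) := by
    rw [orderOf_one]
    exact fun h => hpp.one_lt.ne' (Nat.dvd_one.mp h)
  -- degrees
  have hone : ∀ χ : IrrCharacter G, (χ : G → ℂ) 1 = (charDegree (χ : G → ℂ) : ℂ) :=
    Cfsg.Agent.Lib.Helper6.BRH.apply_one_eq
  have hpos : ∀ χ : IrrCharacter G, 0 < charDegree (χ : G → ℂ) :=
    Cfsg.Agent.Lib.Helper6.BRH.charDegree_pos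
  -- (a) the multiplicity-free form
  have htχ : trivIrr G ≠ χ₁ := by
    intro h
    have h1 : (χ₁ : G → ℂ) 1 = 1 := by
      rw [← h]
      rfl
    rw [hdeg] at h1
    have : p = 1 := by exact_mod_cast h1
    exact hpp.one_lt.ne' this
  set S : Finset (IrrCharacter G) := insert (trivIrr G) (insert χ₁ T) with hS
  have hχ₁S : χ₁ ∉ T := hχ₁T
  have htS : trivIrr G ∉ insert χ₁ T := by
    rw [Finset.mem_insert]
    rintro (h | h)
    · exact htχ h
    · exact htriv h
  have hdecS : ∀ g, π g = ∑ χ ∈ S, (χ : G → ℂ) g := by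
    intro g
    rw [hS, Finset.sum_insert htS, Finset.sum_insert hχ₁T, hdec g, add_assoc]
    rfl
  -- (b) the degrees of `T` add up to `p - 1`
  have hdegT : ∑ χ ∈ T, charDegree (χ : G → ℂ) = p - 1 := by
    have h1 := hdec 1
    rw [hπ1, hdeg] at h1
    have h2 : ((∑ χ ∈ T, charDegree (χ : G → ℂ) : ℕ) : ℂ) = ((p - 1 : ℕ) : ℂ) := by
      rw [Nat.cast_sub hp1]
      push_cast
      rw [← Finset.sum_congr rfl (fun χ _ => hone χ)]
      linear_combination -h1
    exact_mod_cast h2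
  -- elements of `P#` are `p`-singular
  have hsing : ∀ x ∈ P, x ≠ 1 → p ∣ orderOf x := by
    intro x hx hx1
    have h1 : orderOf (⟨x, hx⟩ : P) ∣ p := by
      rw [← hP]
      exact orderOf_dvd_natCard _
    rw [Subgroup.orderOf_mk] at h1
    rcases (Nat.dvd_prime hpp).mp h1 with h | h
    · exact absurd (orderOf_eq_one_iff.mp h) hx1
    · rw [h]
  -- the finset `P` and `P#`
  have h1Pf : (1 : G) ∈ Pf P := mem_Pf.mpr P.one_mem
  have hcardPf : (Pf P).card = p := by rw [card_Pf, hP]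
  have hcardPs : ((Pf P).erase 1).card = p - 1 := by
    rw [Finset.card_erase_of_mem h1Pf, hcardPf]
  have hmemPs : ∀ x, x ∈ (Pf P).erase 1 ↔ x ∈ P ∧ x ≠ 1 := by
    intro x
    rw [Finset.mem_erase, mem_Pf]
    exact and_comm
  have hsplit : ∀ f : G → ℂ, ∑ x ∈ Pf P, f x = f 1 + ∑ x ∈ (Pf P).erase 1, f x :=
    fun f => (Finset.add_sum_erase (Pf P) f h1Pf).symm
  -- (c) `∑_{x ∈ P} χ(x) = 0` for `χ ∈ T`
  have hPT : ∀ χ ∈ T, ∑ x ∈ Pf P, (χ : G → ℂ) x = 0 := by
    choose m hm using fun χ : IrrCharacter G => exists_sum_eq (P := P) hP χ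
    have h1 : ∑ x ∈ Pf P, π x = 2 * (p : ℂ) := by
      rw [hsplit, hπ1]
      have : ∑ x ∈ (Pf P).erase 1, π x = 0 := by
        apply Finset.sum_eq_zero
        intro x hx
        obtain ⟨hxP, hx1⟩ := (hmemPs x).mp hx
        exact hπ0 x (hsing x hxP hx1)
      rw [this, add_zero]
    have h2 : ∑ x ∈ Pf P, π x =
        (p : ℂ) + (p : ℂ) + ∑ χ ∈ T, (p : ℂ) * (m χ : ℂ) := by
      rw [Finset.sum_congr rfl (fun x _ => hdec x), Finset.sum_add_distrib,
        Finset.sum_add_distrib, Finset.sum_comm, Finset.sum_congr rfl (fun χ _ => hm χ)]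
      congr 1
      congr 1
      · rw [Finset.sum_const, hcardPf]
        simp
      · rw [hsplit, hdeg]
        have : ∑ x ∈ (Pf P).erase 1, (χ₁ : G → ℂ) x = 0 := by
          apply Finset.sum_eq_zero
          intro x hx
          obtain ⟨hxP, hx1⟩ := (hmemPs x).mp hx
          exact hχ₁ x hxP hx1
        rw [this, add_zero]
    have h3 : ((∑ χ ∈ T, p * m χ : ℕ) : ℂ) = 0 := by
      push_cast
      have h12 := h2.symm.trans h1
      linear_combination h12
    have h4 : ∑ χ ∈ T, p * m χ = 0 := by exact_mod_cast h3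
    intro χ hχ
    have h5 := (Finset.sum_eq_zero_iff.mp h4) χ hχ
    have h6 : m χ = 0 := by
      rcases Nat.mul_eq_zero.mp h5 with h | h
      · exact absurd h hpp.ne_zero
      · exact h
    rw [hm χ, h6]
    simp
  -- `∑_{x ∈ P#} χ(x) = - χ(1)` for `χ ∈ T`
  have hPsT : ∀ χ ∈ T, ∑ x ∈ (Pf P).erase 1, (χ : G → ℂ) x = -(charDegree (χ : G → ℂ) : ℂ) := by
    intro χ hχ
    have h1 := hPT χ hχ
    rw [hsplit, hone] at h1
    linear_combination h1
  -- (d) `T` lies in the principal block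
  have htB : trivIrr G ∈ principalBlock M G := trivIrr_mem_principal M hM
  have hTB : ∀ χ ∈ T, χ ∈ principalBlock M G := by
    have hA : ∀ x ∈ (Pf P).erase 1,
        ∑ χ ∈ S.filter (fun χ => χ ∈ principalBlock M G), (χ : G → ℂ) x = 0 := by
      intro x hx
      obtain ⟨hxP, hx1⟩ := (hmemPs x).mp hx
      exact blockPart_singular hM π hπ0 S hdecS (principalBlock M G) (isPBlock_principal M) x
        (hsing x hxP hx1)
    have hA2 : ∑ χ ∈ S.filter (fun χ => χ ∈ principalBlock M G),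
        ∑ x ∈ (Pf P).erase 1, (χ : G → ℂ) x = 0 := by
      rw [Finset.sum_comm]
      exact Finset.sum_eq_zero hA
    rw [Finset.sum_filter, hS, Finset.sum_insert htS, Finset.sum_insert hχ₁T, if_pos htB] at hA2
    have h1 : ∑ x ∈ (Pf P).erase 1, ((trivIrr G : IrrCharacter G) : G → ℂ) x = ((p - 1 : ℕ) : ℂ) := by
      have : ∀ x ∈ (Pf P).erase 1, ((trivIrr G : IrrCharacter G) : G → ℂ) x = 1 := fun _ _ => rfl
      rw [Finset.sum_congr rfl this, Finset.sum_const, hcardPs]
      simp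
    have h2 : ∑ x ∈ (Pf P).erase 1, (χ₁ : G → ℂ) x = 0 := by
      apply Finset.sum_eq_zero
      intro x hx
      obtain ⟨hxP, hx1⟩ := (hmemPs x).mp hx
      exact hχ₁ x hxP hx1
    rw [h1, h2] at hA2
    have h3 : ∑ χ ∈ T, (if χ ∈ principalBlock M G then
        ∑ x ∈ (Pf P).erase 1, (χ : G → ℂ) x else 0) =
        -((∑ χ ∈ T.filter (fun χ => χ ∈ principalBlock M G), charDegree (χ : G → ℂ) : ℕ) : ℂ) := by
      rw [Finset.sum_filter]
      push_cast
      rw [← Finset.sum_neg_distrib]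
      apply Finset.sum_congr rfl
      intro χ hχ
      split_ifs
      · exact hPsT χ hχ
      · simp
    rw [h3] at hA2
    have h4 : ((∑ χ ∈ T.filter (fun χ => χ ∈ principalBlock M G), charDegree (χ : G → ℂ) : ℕ) : ℂ)
        = ((p - 1 : ℕ) : ℂ) := by
      have : (if χ₁ ∈ principalBlock M G then (0 : ℂ) else 0) = 0 := by split_ifs <;> rfl
      rw [this] at hA2
      linear_combination -hA2
    have h5 : ∑ χ ∈ T.filter (fun χ => χ ∈ principalBlock M G), charDegree (χ : G → ℂ) = p - 1 := by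
      exact_mod_cast h4
    have h6 := Finset.sum_filter_add_sum_filter_not T (fun χ => χ ∈ principalBlock M G)
      (fun χ => charDegree (χ : G → ℂ))
    rw [h5, hdegT] at h6
    have h7 : ∑ χ ∈ T.filter (fun χ => ¬ χ ∈ principalBlock M G), charDegree (χ : G → ℂ) = 0 := by
      omega
    intro χ hχ
    by_contra hn
    have h8 := (Finset.sum_eq_zero_iff.mp h7) χ (Finset.mem_filter.mpr ⟨hχ, hn⟩)
    exact (hpos χ).ne' h8
  -- (e) the defect-one structure of the principal block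
  have hidx : ¬ p ∣ P.relIndex (Nz P) :=
    fun h => hSyl (dvd_trans h (Subgroup.relIndex_dvd_index_of_le Subgroup.le_normalizer))
  have hfinal := Cfsg.Agent.Lib.Helper8.DOMFinal.card_conjClasses_le_sum_blockRank M hM P hP hidx
  have hdvd : p ∣ Nat.card G := by
    rw [← hP]
    exact Subgroup.card_subgroup_dvd_card P
  have hd := blockDefect_principal_pos M hM hdvd
  have hB := isPBlock_principal (G := G) M
  have hBP := Cfsg.Agent.Lib.Helper26.DODEFP.isDefectGroup_of_pos hM P hP hSyl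
    (principalBlock M G) hB hd
  obtain ⟨x0, hx0⟩ := exists_gen P hP
  obtain ⟨hfd, -, X, Y, v, ε, hXY, hdisj, hcX, hcY, hsX, hsε, hYreg, hrel, -, -, hvX, -, hgal⟩ :=
    Cfsg.Agent.Lib.Helper8.DOFULL.struct_full_of hM P hP hSyl hfinal (principalBlock M G) hB hBP
      (triv P) (pTriv_triv P) (isInducedBlock_triv M hM P hP x0 hx0) (Nz P) (isInertia_triv P)
  -- (f) `T ∩ X = ∅`
  have hTX : ∀ χ ∈ T, χ ∉ X := by
    intro χ hχ hχX
    have hval : ∀ x ∈ (Pf P).erase 1, (χ : G → ℂ) x = (v χ : ℂ) := by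
      intro x hx
      obtain ⟨hxP, hx1⟩ := (hmemPs x).mp hx
      have := hvX χ hχX x hxP hx1 1 (Subgroup.one_mem _) h1reg
      rw [mul_one, thetaSum_triv P 1 (Subgroup.one_mem _), mul_one] at this
      exact this
    have h1 := hPsT χ hχ
    rw [Finset.sum_congr rfl hval, Finset.sum_const, hcardPs, nsmul_eq_mul] at h1
    have h2 : ((p - 1 : ℕ) : ℤ) * v χ = -(charDegree (χ : G → ℂ) : ℤ) := by
      have : (((p - 1 : ℕ) : ℤ) * v χ : ℂ) = ((-(charDegree (χ : G → ℂ) : ℤ) : ℤ) : ℂ) := by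
        push_cast
        push_cast at h1
        exact h1
      exact_mod_cast this
    have h3 : charDegree (χ : G → ℂ) = p - 1 := by
      have hposχ := hpos χ
      rcases hsX χ hχX with h | h
      · rw [h] at h2
        have : (0 : ℤ) ≤ ((p - 1 : ℕ) : ℤ) := Int.natCast_nonneg _
        omega
      · rw [h] at h2
        omega
    -- another member of `T`
    have h4 : 0 < (T.erase χ).card := by
      rw [Finset.card_erase_of_mem hχ]
      omega
    obtain ⟨χ', hχ'⟩ := Finset.card_pos.mp h4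
    have h5 := Finset.add_sum_erase T (fun χ => charDegree (χ : G → ℂ)) hχ
    have h6 : charDegree (χ' : G → ℂ) ≤ ∑ x ∈ T.erase χ, charDegree (x : G → ℂ) :=
      Finset.single_le_sum (f := fun χ : IrrCharacter G => charDegree (χ : G → ℂ))
        (fun _ _ => Nat.zero_le _) hχ'
    have h7 := hpos χ'
    rw [hdegT] at h5
    omega
  have hTY : ∀ χ ∈ T, χ ∈ Y := by
    intro χ hχ
    have h1 := hTB χ hχ
    rw [hXY] at h1
    rcases h1 with h | h
    · exact absurd h (hTX χ hχ)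
    · exact h
  -- (h) `Y ⊆ T`
  have hTne : T.Nonempty := Finset.card_pos.mp (by omega)
  obtain ⟨ψ, hψT⟩ := hTne
  have hψY := hTY ψ hψT
  have hψS : ψ ∈ S := by
    rw [hS]
    exact Finset.mem_insert_of_mem (Finset.mem_insert_of_mem hψT)
  have hYfin : Y.Finite := Set.toFinite Y
  have hcardYle : Nat.card Y ≤ p - 1 := by
    rw [hcY]
    exact Nat.div_le_self _ _
  have hYT : ∀ ψ' ∈ Y, ψ' ∈ T := by
    intro ψ' hψ'
    have h1 : classInner π (ψ' : G → ℂ) = classInner π (ψ : G → ℂ) := by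
      unfold classInner
      congr 1
      apply Finset.sum_congr rfl
      intro g _
      by_cases hg : p ∣ orderOf g
      · rw [hπ0 g hg, zero_mul, zero_mul]
      · rw [hYreg ψ' hψ' ψ hψY g hg]
    rw [classInner_sum_irr S π hdecS, classInner_sum_irr S π hdecS, if_pos hψS] at h1
    have h2 : ψ' ∈ S := by
      by_contra hn
      rw [if_neg hn] at h1
      exact zero_ne_one h1
    rw [hS, Finset.mem_insert, Finset.mem_insert] at h2
    rcases h2 with h | h | h
    · -- `ψ' = 1`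
      exfalso
      rw [h] at hψ'
      have hlin : ∀ χ ∈ T, charDegree (χ : G → ℂ) = 1 := by
        intro χ hχ
        have h3 := hYreg χ (hTY χ hχ) (trivIrr G) hψ' 1 h1reg
        rw [hone] at h3
        have h4 : ((trivIrr G : IrrCharacter G) : G → ℂ) 1 = 1 := rfl
        rw [h4] at h3
        exact_mod_cast h3
      have hcardT : T.card = p - 1 := by
        rw [← hdegT, Finset.sum_congr rfl hlin, Finset.sum_const, smul_eq_mul, mul_one]
      have hsub : insert (trivIrr G) T ⊆ hYfin.toFinset := by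
        intro χ hχ
        rw [Set.Finite.mem_toFinset]
        rcases Finset.mem_insert.mp hχ with h5 | h5
        · rw [h5]
          exact hψ'
        · exact hTY χ h5
      have h6 := Finset.card_le_card hsub
      rw [Finset.card_insert_of_notMem htriv, hcardT,
        ← Nat.card_eq_card_finite_toFinset hYfin] at h6
      have := hpp.one_lt
      omega
    · -- `ψ' = χ₁`
      exfalso
      rw [h] at hψ'
      have h3 := hYreg ψ hψY χ₁ hψ' 1 h1reg
      rw [hone, hdeg] at h3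
      have h4 : charDegree (ψ : G → ℂ) = p := by exact_mod_cast h3
      have h5 : charDegree (ψ : G → ℂ) ≤ ∑ χ ∈ T, charDegree (χ : G → ℂ) :=
        Finset.single_le_sum (f := fun χ : IrrCharacter G => charDegree (χ : G → ℂ))
          (fun _ _ => Nat.zero_le _) hψT
      rw [hdegT, h4] at h5
      have := hpp.one_lt
      omega
    · exact h
  -- (i) conclusion
  have hTeq : T = hYfin.toFinset := by
    ext χ
    rw [Set.Finite.mem_toFinset]
    exact ⟨hTY χ, hYT χ⟩
  have hcardT : T.card = (p - 1) / (Cz P).relIndex (Nz P) := by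
    rw [hTeq, ← Nat.card_eq_card_finite_toFinset hYfin, hcY]
  show (Cz P).relIndex (Nz P) * T.card = p - 1
  rw [hcardT]
  exact Nat.mul_div_cancel' hfd

end Cfsg.Agent.Lib.Helper7.W2PBLK
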