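/-
S4705 (BS market, planner helper6), leaf BS-PERF (frozen statement in notes/S4705_leaves.lean):
`G / Z(G)` is perfect if every linear character of `G` trivial on `Z(G)` is trivial.
-/
import Mathlib
import Cfsg.Prelude.Def_BlockRank
import Cfsg.Agent.Lib.Helper6.BRHDefs
import Cfsg.Agent.Lib.Helper6.BSDefs
import Cfsg.Agent.Lib.Helper23.BRVIDefs
import Cfsg.Agent.Lib.Helper29.ROSEP
import Cfsg.Agent.Lib.Helper24.NormalDegrees

set_option autoImplicit false

namespace Cfsg.Agent.Lib.Helper7.BSPERF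

open Cfsg Cfsg.Agent.Lib.Helper8.DOM Cfsg.Agent.Lib.Helper27.DO Cfsg.Agent.CharLib
open Cfsg.Agent.Lib.Helper6.BRH Cfsg.Agent.Lib.Helper23.BRVI Cfsg.Agent.Lib.Helper6.BS
open scoped ComplexConjugate

universe u

variable {G : Type u} [Group G] [Finite G] {p : ℕ} [Fact p.Prime] {M : Ideal AlgInt}

/-- **BS-PERF** -/
theorem quot_perfect
    (hlin : ∀ lam : IrrCharacter G, (lam : G → ℂ) 1 = 1 → lam ∈ cset (trivIrr G) → lam = trivIrr G) :
    commutator (G ⧸ Subgroup.center G) = ⊤ := by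
  by_contra hne
  obtain ⟨xb, hxb⟩ : ∃ x : G ⧸ Subgroup.center G, x ∉ commutator (G ⧸ Subgroup.center G) := by
    by_contra hall
    push_neg at hall
    exact hne (eq_top_iff.mpr (fun x _ => hall x))
  obtain ⟨μ, hμ1, hμx⟩ := Cfsg.Agent.Lib.Helper29.RO.exists_linear_ne_one xb hxb
  obtain ⟨χ, hχ⟩ := Cfsg.Agent.Lib.Helper24.exists_inflation (Subgroup.center G) μ
  obtain ⟨x, rfl⟩ := QuotientGroup.mk_surjective xb
  have hχ1 : (χ : G → ℂ) 1 = 1 := by
    rw [hχ 1]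
    exact hμ1
  have hmem : χ ∈ cset (trivIrr G) := by
    intro z hz
    have h1 : ((trivIrr G : IrrCharacter G) : G → ℂ) 1 = 1 := rfl
    have h2 : ((trivIrr G : IrrCharacter G) : G → ℂ) z = 1 := rfl
    rw [h1, h2, hχ1, hχ z]
    have hz1 : ((z : G) : G ⧸ Subgroup.center G) = 1 := (QuotientGroup.eq_one_iff z).mpr hz
    rw [hz1]
    change (μ : G ⧸ Subgroup.center G → ℂ) 1 * 1 = 1 * 1
    rw [hμ1]
  have htriv := hlin χ hχ1 hmem
  apply hμx
  rw [← hχ x, htriv]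
  rfl

end Cfsg.Agent.Lib.Helper7.BSPERF
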