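/-
helper7: BR core market "BRC" (planner helper24; S0999 + S4701), leaf BRC-SUMDEG `sum_out_sq` + `sum_degree`:
split `Irr G = {1} ⊔ typeA ⊔ typeB ⊔ Y ⊔ (X ∪ Y)ᶜ` in `hA.sum_aP_sq` resp. in `∑_χ χ(1)`.
-/
import Mathlib
import Cfsg.Prelude.Def_BlockRank
import Cfsg.Prelude.Def_Perm
import Cfsg.Agent.Lib.Helper24.BRCDefs

set_option autoImplicit false

namespace Cfsg.Agent.Lib.Helper7.BRCSUMDEG

open Cfsg Cfsg.Agent.Lib.Helper8.DOM Cfsg.Agent.Lib.Helper27.DO Cfsg.Agent.CharLib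
open Cfsg.Agent.Lib.Helper6.BRH Cfsg.Agent.Lib.Helper24.BRC
open scoped ComplexConjugate

universe u

/-- a `finsum` over a set of a finite type as a sum of `ite`s -/
theorem finsum_mem_eq_sum_ite {α : Type*} [Fintype α] (S : Set α) [DecidablePred (· ∈ S)] (F : α → ℕ) :
    ∑ᶠ a ∈ S, F a = ∑ a, if a ∈ S then F a else 0 := by
  rw [finsum_mem_def, finsum_eq_sum_of_fintype]
  apply Finset.sum_congr rfl
  intro a _
  rw [Set.indicator_apply]

/-- a constant `finsum` over a set of a finite type -/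
theorem finsum_mem_const_nat {α : Type*} [Finite α] (S : Set α) (c : ℕ) :
    ∑ᶠ _a ∈ S, c = Nat.card S * c := by
  have hfin : S.Finite := Set.toFinite S
  rw [finsum_mem_eq_finite_toFinset_sum _ hfin, Finset.sum_const, smul_eq_mul,
    ← Nat.card_eq_card_finite_toFinset hfin]

variable {G : Type u} [Group G] [Finite G] {p : ℕ} [Fact p.Prime]

variable {P : Subgroup G} {n w : ℕ} {X Y : Set (IrrCharacter G)} {v : IrrCharacter G → ℤ} {ε : ℤ}

/-- the sign of the trivial character is `+1` -/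
theorem v_triv (hB : B0 p P X Y v ε) (hP : Nat.card P = p) : v (trivIrr G) = 1 := by
  have hpp : p.Prime := Fact.out
  have hdvd : p ∣ Nat.card G := by
    rw [← hP]
    exact Subgroup.card_subgroup_dvd_card P
  obtain ⟨g, hg⟩ := exists_prime_orderOf_dvd_card' (G := G) p hdvd
  have h1 := hB.valX (trivIrr G) hB.trivX g (by rw [hg])
  have h2 : ((trivIrr G : IrrCharacter G) : G → ℂ) g = 1 := rfl
  rw [h2] at h1
  exact_mod_cast h1.symm

/-- the splitting `Irr G = {1} ⊔ typeA ⊔ typeB ⊔ Y ⊔ (X ∪ Y)ᶜ` -/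
theorem sum_split [Fintype (IrrCharacter G)] (hB : B0 p P X Y v ε) (hP : Nat.card P = p)
    (F : IrrCharacter G → ℕ) :
    ∑ χ : IrrCharacter G, F χ = F (trivIrr G) + (∑ᶠ χ ∈ typeA X v, F χ) + (∑ᶠ χ ∈ typeB X v, F χ) +
      (∑ᶠ χ ∈ Y, F χ) + ∑ᶠ χ ∈ ((X ∪ Y)ᶜ : Set (IrrCharacter G)), F χ := by
  classical
  have hv1 := v_triv hB hP
  rw [finsum_mem_eq_sum_ite, finsum_mem_eq_sum_ite, finsum_mem_eq_sum_ite, finsum_mem_eq_sum_ite]
  have h0 : F (trivIrr G) = ∑ χ : IrrCharacter G, if χ = trivIrr G then F χ else 0 := by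
    rw [Finset.sum_ite_eq' Finset.univ (trivIrr G) F, if_pos (Finset.mem_univ _)]
  rw [h0, ← Finset.sum_add_distrib, ← Finset.sum_add_distrib, ← Finset.sum_add_distrib,
    ← Finset.sum_add_distrib]
  apply Finset.sum_congr rfl
  intro χ _
  by_cases hX : χ ∈ X
  · have hY : χ ∉ Y := fun h => (Set.disjoint_left.mp hB.disj) hX h
    have hc : χ ∉ ((X ∪ Y)ᶜ : Set (IrrCharacter G)) := fun h => h (Or.inl hX)
    by_cases ht : χ = trivIrr G
    · have hA : χ ∉ typeA X v := fun h => h.2.1 ht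
      have hBm : χ ∉ typeB X v := by
        intro h
        have := h.2
        rw [ht, hv1] at this
        norm_num at this
      rw [if_pos ht, if_neg hA, if_neg hBm, if_neg hY, if_neg hc]
      ring
    · rcases hB.sgnX χ hX with h1 | h1
      · have hA : χ ∈ typeA X v := ⟨hX, ht, h1⟩
        have hBm : χ ∉ typeB X v := by
          intro h
          have := h.2
          rw [h1] at this
          norm_num at this
        rw [if_neg ht, if_pos hA, if_neg hBm, if_neg hY, if_neg hc]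
        ring
      · have hA : χ ∉ typeA X v := by
          intro h
          have := h.2.2
          rw [h1] at this
          norm_num at this
        have hBm : χ ∈ typeB X v := ⟨hX, h1⟩
        rw [if_neg ht, if_neg hA, if_pos hBm, if_neg hY, if_neg hc]
        ring
  · have ht : χ ≠ trivIrr G := fun h => hX (h ▸ hB.trivX)
    have hA : χ ∉ typeA X v := fun h => hX h.1
    have hBm : χ ∉ typeB X v := fun h => hX h.1
    by_cases hY : χ ∈ Y
    · have hc : χ ∉ ((X ∪ Y)ᶜ : Set (IrrCharacter G)) := fun h => h (Or.inr hY)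
      rw [if_neg ht, if_neg hA, if_neg hBm, if_pos hY, if_neg hc]
      ring
    · have hc : χ ∈ ((X ∪ Y)ᶜ : Set (IrrCharacter G)) := by
        intro h
        rcases h with h | h
        · exact hX h
        · exact hY h
      rw [if_neg ht, if_neg hA, if_neg hBm, if_neg hY, if_pos hc]
      ring

/-- **BRC-SUMDEG** (a).  Split `Irr G = {1} ⊔ typeA ⊔ typeB ⊔ Y ⊔ (X ∪ Y)ᶜ` in `hA.sum_aP_sq`. -/
theorem sum_out_sq (hS : Special p P n w X Y v ε) (hA : StepA p P n w X Y v ε) :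
    (∑ᶠ χ ∈ ((X ∪ Y)ᶜ : Set (IrrCharacter G)), (aP P χ) ^ 2) + 1 +
      Nat.card (typeA X v) * (n + 1) ^ 2 + tI p P * w ^ 2 = fI P * (n + 1) := by
  classical
  letI : Fintype (IrrCharacter G) := Fintype.ofFinite _
  have hB := hS.bx.b0
  have h := hA.sum_aP_sq
  rw [finsum_eq_sum_of_fintype, sum_split hB hS.hP (fun χ => (aP P χ) ^ 2)] at h
  have h1 : ∑ᶠ χ ∈ typeA X v, (aP P χ) ^ 2 = Nat.card (typeA X v) * (n + 1) ^ 2 := by
    rw [finsum_mem_congr rfl (fun χ hχ => by rw [hA.aP_A χ hχ]), finsum_mem_const_nat]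
  have h2 : ∑ᶠ χ ∈ typeB X v, (aP P χ) ^ 2 = 0 := by
    rw [finsum_mem_congr rfl (fun χ hχ => by rw [hA.aP_B χ hχ]), finsum_mem_const_nat]
    simp
  have h3 : ∑ᶠ χ ∈ Y, (aP P χ) ^ 2 = tI p P * w ^ 2 := by
    rw [finsum_mem_congr rfl (fun χ hχ => by rw [hA.aP_Y χ hχ]), finsum_mem_const_nat, hB.cardY]
  rw [h1, h2, h3, hA.aP_triv] at h
  rw [← h]
  ring

/-- **BRC-SUMDEG** (b). -/
theorem sum_degree (hS : Special p P n w X Y v ε) (hA : StepA p P n w X Y v ε) :
    ∑ᶠ χ : IrrCharacter G, charDegree (χ : G → ℂ) =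
      1 + Nat.card (typeA X v) * (1 + n * p) + Nat.card (typeB X v) * (p - 1) +
        (∑ᶠ ψ ∈ Y, charDegree (ψ : G → ℂ)) +
        p * ∑ᶠ χ ∈ ((X ∪ Y)ᶜ : Set (IrrCharacter G)), aP P χ := by
  classical
  letI : Fintype (IrrCharacter G) := Fintype.ofFinite _
  have hB := hS.bx.b0
  have hv1 := v_triv hB hS.hP
  rw [finsum_eq_sum_of_fintype, sum_split hB hS.hP (fun χ => charDegree (χ : G → ℂ))]
  have h0 : charDegree ((trivIrr G : IrrCharacter G) : G → ℂ) = 1 := by
    apply charDegree_eq_of_apply_one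
    show ((trivIrr G : IrrCharacter G) : G → ℂ) 1 = ((1 : ℕ) : ℂ)
    rw [Nat.cast_one]
    rfl
  have h1 : ∑ᶠ χ ∈ typeA X v, charDegree (χ : G → ℂ) = Nat.card (typeA X v) * (1 + n * p) := by
    have : ∀ χ ∈ typeA X v, charDegree (χ : G → ℂ) = 1 + n * p := by
      rintro χ ⟨hX, hne, hv⟩
      rcases hS.typ χ hX hne with h | h
      · exact h.2
      · exfalso
        have := h.1
        rw [hv] at this
        norm_num at this
    rw [finsum_mem_congr rfl this, finsum_mem_const_nat]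
  have h2 : ∑ᶠ χ ∈ typeB X v, charDegree (χ : G → ℂ) = Nat.card (typeB X v) * (p - 1) := by
    have : ∀ χ ∈ typeB X v, charDegree (χ : G → ℂ) = p - 1 := by
      rintro χ ⟨hX, hv⟩
      have hne : χ ≠ trivIrr G := by
        intro h
        rw [h, hv1] at hv
        norm_num at hv
      rcases hS.typ χ hX hne with h | h
      · exfalso
        have := h.1
        rw [hv] at this
        norm_num at this
      · exact h.2
    rw [finsum_mem_congr rfl this, finsum_mem_const_nat]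
  have h3 : ∑ᶠ χ ∈ ((X ∪ Y)ᶜ : Set (IrrCharacter G)), charDegree (χ : G → ℂ) =
      p * ∑ᶠ χ ∈ ((X ∪ Y)ᶜ : Set (IrrCharacter G)), aP P χ := by
    have h4 : ∀ χ ∈ ((X ∪ Y)ᶜ : Set (IrrCharacter G)), charDegree (χ : G → ℂ) = p * aP P χ :=
      fun χ hχ => hA.aP_out χ hχ
    rw [finsum_mem_congr rfl h4, mul_finsum_mem]
  rw [h0, h1, h2, h3]

end Cfsg.Agent.Lib.Helper7.BRCSUMDEG
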