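/-
helper7: BR core market "BRC" (planner helper24; S0999 + S4701), leaf BRC-VCONG `X_facts`:
for a non-trivial non-exceptional character `η` of `B_0`: `η(1) ≡ v η (mod p)` (from `∑_{x∈P} η(x) = η(1) + (p-1) v η ∈ p ℕ`),
`η(1) ≠ 1` (perfect group), `η(1)² < |G|`.
-/
import Mathlib
import Cfsg.Prelude.Def_BlockRank
import Cfsg.Prelude.Def_Perm
import Cfsg.Agent.Lib.Helper24.BRCDefs
import Cfsg.Agent.Lib.Helper24.IrrFacts
import Cfsg.Agent.Lib.Helper5.BRWLIN
import Cfsg.Agent.Lib.Helper7.BRCYSQ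

set_option autoImplicit false

namespace Cfsg.Agent.Lib.Helper7.BRCVCONG

open Cfsg Cfsg.Agent.Lib.Helper8.DOM Cfsg.Agent.Lib.Helper27.DO Cfsg.Agent.CharLib
open Cfsg.Agent.Lib.Helper6.BRH Cfsg.Agent.Lib.Helper24.BRC
open scoped ComplexConjugate

universe u

variable {G : Type u} [Group G] [Finite G] {p : ℕ} [Fact p.Prime]

variable {P : Subgroup G} {n w : ℕ} {X Y : Set (IrrCharacter G)} {v : IrrCharacter G → ℤ} {ε : ℤ}

/-- **BRC-VCONG**.  `p · aP η = η(1) + (p - 1) v η`, `∑_χ χ(1)² = |G|`, and a perfect group has no linear character except `1`. -/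
theorem X_facts (hB : B0 p P X Y v ε) (hP : Nat.card P = p) (hperf : commutator G = ⊤) :
    ∀ η ∈ X, η ≠ trivIrr G →
      ((charDegree (η : G → ℂ) : ℤ) ≡ v η [ZMOD p]) ∧ charDegree (η : G → ℂ) ≠ 1 ∧
      (charDegree (η : G → ℂ)) ^ 2 < Nat.card G := by
  classical
  letI : Fintype (IrrCharacter G) := Fintype.ofFinite _
  letI : Fintype P := Fintype.ofFinite P
  have hpp : p.Prime := Fact.out
  intro η hη hne
  refine ⟨?_, ?_, ?_⟩
  · -- the congruence
    obtain ⟨m, hm⟩ := Cfsg.Agent.Lib.Helper24.irr_sum_subgroup η P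
    have hval : ∀ z : P, z ≠ 1 → (η : G → ℂ) (z : G) = (v η : ℂ) := by
      intro z hz
      apply hB.valX η hη
      have h1 : orderOf z ∣ p := hP ▸ orderOf_dvd_natCard z
      rw [Subgroup.orderOf_coe]
      rcases (Nat.dvd_prime hpp).mp h1 with h | h
      · exact absurd (orderOf_eq_one_iff.mp h) hz
      · rw [h]
    have hsplit : ∑ z : P, (η : G → ℂ) (z : G) =
        (η : G → ℂ) 1 + ∑ z ∈ (Finset.univ.erase (1 : P)), (η : G → ℂ) (z : G) := by
      rw [← Finset.add_sum_erase Finset.univ (fun z : P => (η : G → ℂ) (z : G)) (Finset.mem_univ 1)]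
      rfl
    have hrest : ∑ z ∈ (Finset.univ.erase (1 : P)), (η : G → ℂ) (z : G) =
        ((p - 1 : ℕ) : ℂ) * (v η : ℂ) := by
      rw [Finset.sum_congr rfl (fun z hz => hval z (Finset.ne_of_mem_erase hz)), Finset.sum_const,
        Finset.card_erase_of_mem (Finset.mem_univ _), Finset.card_univ, ← Nat.card_eq_fintype_card,
        hP, nsmul_eq_mul]
    rw [hsplit, hrest, apply_one_eq, hP] at hm
    have h2 : (charDegree (η : G → ℂ) : ℤ) + ((p - 1 : ℕ) : ℤ) * v η = (p : ℤ) * (m : ℤ) := by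
      have : (((charDegree (η : G → ℂ) : ℤ) + ((p - 1 : ℕ) : ℤ) * v η : ℤ) : ℂ) =
          (((p : ℤ) * (m : ℤ) : ℤ) : ℂ) := by
        push_cast
        push_cast at hm
        exact hm
      exact_mod_cast this
    rw [Nat.cast_sub hpp.one_lt.le] at h2
    apply Int.ModEq.symm
    rw [Int.modEq_iff_dvd]
    refine ⟨(m : ℤ) - v η, ?_⟩
    push_cast at h2
    linear_combination h2
  · intro h1
    exact hne (Cfsg.Agent.Lib.Helper5.BRWLIN.eq_triv_of_degree_one hperf η h1)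
  · have hsub : ∑ χ ∈ ({trivIrr G, η} : Finset (IrrCharacter G)), (charDegree (χ : G → ℂ)) ^ 2 ≤
        ∑ χ : IrrCharacter G, (charDegree (χ : G → ℂ)) ^ 2 :=
      Finset.sum_le_sum_of_subset (Finset.subset_univ _)
    rw [Cfsg.Agent.Lib.Helper7.BRCYSQ.sum_sq_degree, Finset.sum_pair (Ne.symm hne)] at hsub
    have h2 : 0 < (charDegree ((trivIrr G : IrrCharacter G) : G → ℂ)) ^ 2 :=
      pow_pos (charDegree_pos _) 2
    omega

end Cfsg.Agent.Lib.Helper7.BRCVCONG
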