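/-
helper7: S4700 + S0996 wrapper market "BRW" (planner helper27), leaf BRW-SPOS `exists_typeB`:
in the special case some non-exceptional character of the principal block has sign `-1`.
Otherwise `ε ψ(1) = 1 + (f-1)(1+np) > 0`, so `ε = 1`; OMEGAS with `c = -f` gives `ψ(1) ∣ f(1+np)`, and `2 ψ(1) > f(1+np)`:
`ψ(1) = f(1+np)`, i.e. `n p = 0`.
-/
import Mathlib
import Cfsg.Prelude.Def_BlockRank
import Cfsg.Prelude.Def_CaseTheorems
import Cfsg.Agent.Lib.Helper6.BRHDefs
import Cfsg.Agent.Lib.Helper27.BRWDefs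
import Cfsg.Agent.Lib.Helper23.BRWOMEGAS

set_option autoImplicit false

namespace Cfsg.Agent.Lib.Helper7.BRWSPOS

open Cfsg Cfsg.Agent.Lib.Helper8.DOM Cfsg.Agent.Lib.Helper27.DO Cfsg.Agent.CharLib
open Cfsg.Agent.Lib.Helper6.BRH Cfsg.Agent.Lib.Helper27.BRW
open scoped ComplexConjugate

universe u

variable {G : Type u} [Group G] [Finite G] {p : ℕ} [Fact p.Prime]

/-- SPOS : in the special case there is a character of type B. -/
theorem exists_typeB (P : Subgroup G) (hP : Nat.card P = p) (hSyl : ¬ p ∣ P.index) (n : ℕ) (hn : 1 ≤ n)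
    (hidx : (Nz P).index = 1 + n * p) (hf2 : 2 ≤ (Cz P).relIndex (Nz P))
    (X Y : Set (IrrCharacter G)) (v : IrrCharacter G → ℤ) (ε : ℤ) (d : B0 p P X Y v ε)
    (htyp : ∀ η ∈ X, η ≠ trivIrr G →
      (v η = 1 ∧ charDegree (η : G → ℂ) = 1 + n * p) ∨ (v η = -1 ∧ charDegree (η : G → ℂ) = p - 1)) :
    ∃ η ∈ X, v η = -1 := by
  classical
  by_contra hcon
  push Not at hcon
  have hpp : p.Prime := Fact.out
  set f := (Cz P).relIndex (Nz P) with hf
  set m := 1 + n * p with hm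
  have hm3 : 3 ≤ m := by
    have h1 : 1 * 2 ≤ n * p := Nat.mul_le_mul hn hpp.two_le
    omega
  have hvX : ∀ η ∈ X, v η = 1 := by
    intro η hη
    rcases d.sgnX η hη with h | h
    · exact h
    · exact absurd h (hcon η hη)
  have hdegX : ∀ η ∈ X, η ≠ trivIrr G → charDegree (η : G → ℂ) = m := by
    intro η hη hne
    rcases htyp η hη hne with h | h
    · exact h.2
    · exact absurd h.1 (hcon η hη)
  have hdegtriv : charDegree ((trivIrr G : IrrCharacter G) : G → ℂ) = 1 := by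
    apply charDegree_eq_of_apply_one
    show ((trivIrr G : IrrCharacter G) : G → ℂ) 1 = ((1 : ℕ) : ℂ)
    rw [Nat.cast_one]
    rfl
  -- `Y` is non-empty
  have hYpos : 0 < Nat.card Y := by
    rw [d.cardY]
    apply Nat.div_pos
    · exact Nat.le_of_dvd (Nat.sub_pos_of_lt hpp.one_lt) d.dvd
    · omega
  have : Nonempty Y := (Nat.card_pos_iff.mp hYpos).1
  obtain ⟨ψ0, hψ0⟩ := Set.nonempty_coe_sort.mp this
  set D := charDegree (ψ0 : G → ℂ) with hD
  -- the degree relation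
  have hXfin : X.Finite := Set.toFinite X
  have hX' : X = insert (trivIrr G) (X \ {trivIrr G}) := by
    rw [Set.insert_diff_singleton, Set.insert_eq_of_mem d.trivX]
  have hcardX' : (X \ {trivIrr G}).ncard = f - 1 := by
    rw [Set.ncard_diff_singleton_of_mem d.trivX, ← _root_.Nat.card_coe_set_eq, d.cardX]
  have hsum : ∑ᶠ η ∈ X, v η * (charDegree (η : G → ℂ) : ℤ) = 1 + ((f - 1 : ℕ) : ℤ) * (m : ℤ) := by
    rw [hX', finsum_mem_insert _ (by simp) (hXfin.subset Set.diff_subset)]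
    rw [hvX _ d.trivX, hdegtriv]
    have h1 : ∀ η ∈ X \ {trivIrr G}, v η * (charDegree (η : G → ℂ) : ℤ) = (m : ℤ) := by
      rintro η ⟨hη, hne⟩
      rw [hvX η hη, hdegX η hη hne, one_mul]
    rw [finsum_mem_congr rfl h1,
      finsum_mem_eq_finite_toFinset_sum _ (hXfin.subset Set.diff_subset), Finset.sum_const,
      ← Set.ncard_eq_toFinset_card _ (hXfin.subset Set.diff_subset), hcardX', nsmul_eq_mul]
    push_cast
    ring
  have hrel := d.degY ψ0 hψ0
  rw [hsum] at hrel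
  have hDpos : 0 < D := charDegree_pos ψ0
  have hε : ε = 1 := by
    rcases d.sgn with h | h
    · exact h
    · exfalso
      rw [h] at hrel
      have h1 : (0 : ℤ) ≤ ((f - 1 : ℕ) : ℤ) * (m : ℤ) := by positivity
      have h2 : (0 : ℤ) < (D : ℤ) := by exact_mod_cast hDpos
      linarith
  rw [hε, one_mul] at hrel
  have hDeq : D = 1 + (f - 1) * m := by exact_mod_cast hrel
  -- OMEGAS
  have hps := d.psumY ψ0 hψ0
  have hps' : ∑ᶠ x ∈ {x : G | x ∈ P ∧ x ≠ 1}, (ψ0 : G → ℂ) x = ((-(f : ℤ) : ℤ) : ℂ) := by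
    rw [hps, hε]
    push_cast
    ring
  have hdvd := Cfsg.Agent.Lib.Helper23.BRWOMEGAS.degree_dvd_psum P hP ψ0 (-(f : ℤ)) hps'
  rw [hidx] at hdvd
  have hdvdN : D ∣ f * m := by
    have h1 : (D : ℤ) ∣ ((f * m : ℕ) : ℤ) := by
      have := (dvd_neg (a := (D : ℤ))).mpr hdvd
      have h2 : -(-(f : ℤ) * ((1 + n * p : ℕ) : ℤ)) = ((f * m : ℕ) : ℤ) := by
        rw [hm]
        push_cast
        ring
      rwa [h2] at this
    exact_mod_cast h1
  obtain ⟨k, hk⟩ := hdvdN
  -- arithmetic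
  obtain ⟨g, hg⟩ : ∃ g, f = g + 1 := ⟨f - 1, by omega⟩
  have hg1 : 1 ≤ g := by omega
  rw [hg] at hDeq hk
  simp only [Nat.add_sub_cancel] at hDeq
  set a := g * m with ha
  have ham : m ≤ a := by
    rw [ha]
    exact Nat.le_mul_of_pos_left m hg1
  have hk' : a + m = D * k := by
    rw [← hk, ha]
    ring
  rw [hDeq] at hk'
  rcases Nat.lt_or_ge k 2 with h | h
  · interval_cases k
    · omega
    · omega
  · have h1 : (1 + a) * 2 ≤ (1 + a) * k := Nat.mul_le_mul_left _ h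
    omega

end Cfsg.Agent.Lib.Helper7.BRWSPOS
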