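import Mathlib
import Cfsg.Prelude.Def_Characters
import Cfsg.Agent.Lib.Helper24.BSWDefs

/-!
# S3282 leaf M6c (`unique_sylow_of_central`), planner helper24, prover helper7
-/

set_option autoImplicit false
open Cfsg Cfsg.Agent.Lib.Helper24.BSW

namespace Cfsg.Agent.Lib.Helper7.BSWM6c

/-- **M6c** (pure group theory, Burnside transfer). -/
theorem unique_sylow_of_central {L : Type*} [Group L] [Finite L] (p : ℕ) [Fact p.Prime]
    (hL : ∀ r : ℕ, r.Prime → r ≠ p → ∀ [Fact r.Prime] (R : Sylow r L),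
      Subgroup.normalizer ((R : Subgroup L) : Set L) ≤ Subgroup.centralizer ((R : Subgroup L) : Set L))
    (P Q : Sylow p L) : P = Q := by
  classical
  -- the intersection of the normal complements
  let N : Subgroup L := ⨅ (r : ℕ) (hr : r.Prime) (hrp : r ≠ p) (R : Sylow r L),
    (haveI : Fact r.Prime := ⟨hr⟩; (MonoidHom.transferSylow R (hL r hr hrp R)).ker)
  have hmemN : ∀ g : L, g ∈ N ↔ ∀ (r : ℕ) (hr : r.Prime) (hrp : r ≠ p) (R : Sylow r L),
      g ∈ (haveI : Fact r.Prime := ⟨hr⟩; (MonoidHom.transferSylow R (hL r hr hrp R)).ker) := by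
    intro g
    simp only [N, Subgroup.mem_iInf]
  have hNp : IsPGroup p N := by
    intro g
    have hord : ∀ r : ℕ, r.Prime → r ∣ orderOf (g : L) → r = p := by
      intro r hr hdvd
      by_contra hrp
      haveI : Fact r.Prime := ⟨hr⟩
      obtain ⟨R⟩ : Nonempty (Sylow r L) := inferInstance
      have hgK : (g : L) ∈ (MonoidHom.transferSylow R (hL r hr hrp R)).ker :=
        (hmemN g).mp g.2 r hr hrp R
      have h1 : orderOf (g : L) ∣ Nat.card (MonoidHom.transferSylow R (hL r hr hrp R)).ker := by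
        have h2 := orderOf_dvd_natCard (⟨g, hgK⟩ : (MonoidHom.transferSylow R (hL r hr hrp R)).ker)
        rwa [Subgroup.orderOf_mk] at h2
      exact MonoidHom.not_dvd_card_ker_transferSylow R (hL r hr hrp R) (hdvd.trans h1)
    refine ⟨(orderOf (g : L)).primeFactorsList.length, ?_⟩
    have h2 : orderOf (g : L) = p ^ (orderOf (g : L)).primeFactorsList.length :=
      Nat.eq_prime_pow_of_unique_prime_dvd (orderOf_pos (g : L)).ne' (fun hd hdvd => hord _ hd hdvd)
    apply Subtype.ext
    rw [Subgroup.coe_pow, ← h2, pow_orderOf_eq_one]; rfl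
  have hle : ∀ P : Sylow p L, (P : Subgroup L) ≤ N := by
    intro P x hx
    rw [hmemN]
    intro r hr hrp R
    haveI : Fact r.Prime := ⟨hr⟩
    rw [MonoidHom.mem_ker]
    obtain ⟨k, hk⟩ := P.isPGroup' ⟨x, hx⟩
    have hxk : x ^ (p ^ k) = 1 := by
      have := congrArg Subtype.val hk
      simpa using this
    have h1 : (MonoidHom.transferSylow R (hL r hr hrp R) x) ^ (p ^ k) = 1 := by
      rw [← map_pow, hxk, map_one]
    obtain ⟨j, hj⟩ := R.isPGroup' (MonoidHom.transferSylow R (hL r hr hrp R) x)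
    have hcop : Nat.Coprime (p ^ k) (r ^ j) :=
      Nat.Coprime.pow _ _ ((Nat.coprime_primes Fact.out hr).mpr (Ne.symm hrp))
    exact orderOf_eq_one_iff.mp (Nat.eq_one_of_dvd_coprimes hcop (orderOf_dvd_of_pow_eq_one h1)
      (orderOf_dvd_of_pow_eq_one hj))
  have hP : N = (P : Subgroup L) := P.is_maximal' hNp (hle P)
  have hQ : N = (Q : Subgroup L) := Q.is_maximal' hNp (hle Q)
  exact Sylow.ext (hP.symm.trans hQ)

end Cfsg.Agent.Lib.Helper7.BSWM6c
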