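import Mathlib
import Cfsg.Prelude.Def_Characters
import Cfsg.Agent.Lib.Helper24.BSWDefs

/-!
# S3282 leaf M6d (`sylow_TI_of_local`), planner helper24, prover helper7
-/

set_option autoImplicit false
open Cfsg Cfsg.Agent.Lib.Helper24.BSW

namespace Cfsg.Agent.Lib.Helper7.BSWM6d

/-- in a Sylow subgroup, normalizers grow -/
theorem exists_mem_normalizer_not_mem {G : Type*} [Group G] [Finite G] {p : ℕ} [Fact p.Prime]
    (S : Sylow p G) (D : Subgroup G) (hle : D ≤ (S : Subgroup G)) (hne : D ≠ (S : Subgroup G)) :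
    ∃ s ∈ (S : Subgroup G), s ∈ Subgroup.normalizer (D : Set G) ∧ s ∉ D := by
  have hnil : Group.IsNilpotent (S : Subgroup G) := S.2.isNilpotent
  have hNC := Group.normalizerCondition_of_isNilpotent (G := (S : Subgroup G))
  have hlt' : D.subgroupOf (S : Subgroup G) < ⊤ := by
    rw [lt_top_iff_ne_top, Ne, Subgroup.subgroupOf_eq_top]
    intro h
    exact hne (le_antisymm hle h)
  obtain ⟨s, hs, hsD⟩ := SetLike.exists_of_lt (hNC _ hlt')
  refine ⟨s, s.2, ?_, fun h => hsD (Subgroup.mem_subgroupOf.mpr h)⟩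
  apply Subgroup.mem_normalizer_fintype
  intro d hd
  have hdS : d ∈ (S : Subgroup G) := hle hd
  have := ((Subgroup.mem_normalizer_iff.mp hs) ⟨d, hdS⟩).mp (Subgroup.mem_subgroupOf.mpr hd)
  exact Subgroup.mem_subgroupOf.mp this

theorem sylow_TI_aux {G : Type*} [Group G] [Finite G] (p : ℕ) [Fact p.Prime]
    (hloc : ∀ I : Subgroup G, IsPGroup p I → I ≠ ⊥ →
      ∀ P Q : Sylow p ↥(Subgroup.normalizer (I : Set G)), P = Q) :
    ∀ d : ℕ, ∀ P Q : Sylow p G, P ≠ Q →
      Nat.card G - Nat.card ↥((P : Subgroup G) ⊓ (Q : Subgroup G)) = d →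
      (P : Subgroup G) ⊓ (Q : Subgroup G) = ⊥ := by
  intro d
  induction d using Nat.strong_induction_on with
  | _ d ih =>
    intro P Q hPQ hd
    by_contra hne
    have hIp : IsPGroup p ↥((P : Subgroup G) ⊓ (Q : Subgroup G)) := P.isPGroup'.to_le inf_le_left
    have hIP : (P : Subgroup G) ⊓ (Q : Subgroup G) ≠ (P : Subgroup G) := by
      intro h
      have hle : (P : Subgroup G) ≤ (Q : Subgroup G) := by rw [← h]; exact inf_le_right
      exact hPQ (Sylow.ext (P.is_maximal' Q.isPGroup' hle).symm)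
    have hIQ : (P : Subgroup G) ⊓ (Q : Subgroup G) ≠ (Q : Subgroup G) := by
      intro h
      have hle : (Q : Subgroup G) ≤ (P : Subgroup G) := by rw [← h]; exact inf_le_left
      exact hPQ (Sylow.ext (Q.is_maximal' P.isPGroup' hle))
    obtain ⟨a, haP, haN, haI⟩ := exists_mem_normalizer_not_mem P _ inf_le_left hIP
    obtain ⟨b, hbQ, hbN, hbI⟩ := exists_mem_normalizer_not_mem Q _ inf_le_right hIQ
    have hA : IsPGroup p ↥((P : Subgroup G).subgroupOf
        (Subgroup.normalizer (((P : Subgroup G) ⊓ (Q : Subgroup G) : Subgroup G) : Set G))) :=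
      P.isPGroup'.comap_subtype
    have hB : IsPGroup p ↥((Q : Subgroup G).subgroupOf
        (Subgroup.normalizer (((P : Subgroup G) ⊓ (Q : Subgroup G) : Subgroup G) : Set G))) :=
      Q.isPGroup'.comap_subtype
    obtain ⟨PA, hPA⟩ := hA.exists_le_sylow
    obtain ⟨PB, hPB⟩ := hB.exists_le_sylow
    have hAB : PA = PB := hloc _ hIp hne PA PB
    subst hAB
    have hP0 : IsPGroup p ↥((PA : Subgroup _).map
        (Subgroup.normalizer (((P : Subgroup G) ⊓ (Q : Subgroup G) : Subgroup G) : Set G)).subtype) :=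
      PA.isPGroup'.map _
    obtain ⟨S, hS⟩ := hP0.exists_le_sylow
    have haS : a ∈ (S : Subgroup G) :=
      hS (Subgroup.mem_map.mpr ⟨⟨a, haN⟩, hPA (Subgroup.mem_subgroupOf.mpr haP), rfl⟩)
    have hbS : b ∈ (S : Subgroup G) :=
      hS (Subgroup.mem_map.mpr ⟨⟨b, hbN⟩, hPB (Subgroup.mem_subgroupOf.mpr hbQ), rfl⟩)
    have hIS : (P : Subgroup G) ⊓ (Q : Subgroup G) ≤ (S : Subgroup G) := fun i hi =>
      hS (Subgroup.mem_map.mpr ⟨⟨i, Subgroup.le_normalizer hi⟩,
        hPA (Subgroup.mem_subgroupOf.mpr (inf_le_left (a := (P : Subgroup G)) hi)), rfl⟩)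
    -- a general step
    have step : ∀ T : Sylow p G, S ≠ T → (P : Subgroup G) ⊓ (Q : Subgroup G) ≤ (T : Subgroup G) →
        ∀ c : G, c ∈ (S : Subgroup G) → c ∈ (T : Subgroup G) →
          c ∉ (P : Subgroup G) ⊓ (Q : Subgroup G) → False := by
      intro T hST hIT c hcS hcT hcI
      have hle : (P : Subgroup G) ⊓ (Q : Subgroup G) ≤ (S : Subgroup G) ⊓ (T : Subgroup G) :=
        le_inf hIS hIT
      have hcard : Nat.card ↥((P : Subgroup G) ⊓ (Q : Subgroup G)) <
          Nat.card ↥((S : Subgroup G) ⊓ (T : Subgroup G)) := by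
        rcases (Subgroup.card_le_of_le hle).lt_or_eq with h | h
        · exact h
        · exfalso
          have heq := Subgroup.eq_of_le_of_card_ge hle h.ge
          exact hcI (heq ▸ (Subgroup.mem_inf.mpr ⟨hcS, hcT⟩))
      have hle2 : Nat.card ↥((S : Subgroup G) ⊓ (T : Subgroup G)) ≤ Nat.card G :=
        Subgroup.card_le_card_group _
      have hlt : Nat.card G - Nat.card ↥((S : Subgroup G) ⊓ (T : Subgroup G)) < d := by
        rw [← hd]; omega
      have h0 := ih _ hlt S T hST rfl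
      apply hne
      rw [eq_bot_iff, ← h0]
      exact hle
    by_cases hSP : S = P
    · have hSQ : S ≠ Q := by rw [hSP]; exact hPQ
      exact step Q hSQ inf_le_right b hbS hbQ hbI
    · exact step P hSP inf_le_left a haS haP haI

/-- **M6d** (pure group theory, maximal intersections). -/
theorem sylow_TI_of_local {G : Type*} [Group G] [Finite G] (p : ℕ) [Fact p.Prime]
    (hloc : ∀ I : Subgroup G, IsPGroup p I → I ≠ ⊥ →
      ∀ P Q : Sylow p ↥(Subgroup.normalizer (I : Set G)), P = Q)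
    (P Q : Sylow p G) (hPQ : P ≠ Q) : (P : Subgroup G) ⊓ (Q : Subgroup G) = ⊥ :=
  sylow_TI_aux p hloc _ P Q hPQ rfl

end Cfsg.Agent.Lib.Helper7.BSWM6d
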