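import Mathlib
import Cfsg.Agent.Lib.Helper17.ClassGraph2

/-!
S4321 market, leaf **A** `mem_sylow_of_ind_pow`: a `p`-element whose class size is a power of `p` lies in every Sylow
`p`-subgroup.
-/

set_option autoImplicit false

namespace Cfsg.Agent.Lib.Helper7.PSGA

open Cfsg.Agent.Lib.Helper17.ClassGraph

/-- **A** -/
theorem mem_sylow_of_ind_pow {K : Type*} [Group K] [Finite K] (p : ℕ) [Fact p.Prime] (v : K)
    (hv : ∃ j : ℕ, orderOf v = p ^ j) (hind : ∀ b : ℕ, b.Prime → b ∣ ind v → b = p) (P : Sylow p K) :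
    v ∈ P := by
  have hpp : p.Prime := Fact.out
  obtain ⟨j, hj⟩ := hv
  have hpg : IsPGroup p (Subgroup.zpowers v) := by
    apply IsPGroup.of_card (n := j)
    rw [Nat.card_zpowers, hj]
  obtain ⟨Q, hQ⟩ := hpg.exists_le_sylow
  have hvQ : v ∈ Q := hQ (Subgroup.mem_zpowers v)
  obtain ⟨g, hg⟩ := MulAction.exists_smul_eq K Q P
  have hpow : ind v = p ^ (ind v).primeFactorsList.length :=
    Nat.eq_prime_pow_of_unique_prime_dvd (ind_pos v).ne' (fun {d} hd hdv => hind d hd hdv)
  have hcop : Nat.Coprime (Subgroup.centralizer ({v} : Set K)).index (Q : Subgroup K).index := by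
    show Nat.Coprime (ind v) _
    rw [hpow]
    exact Nat.Coprime.pow_left _ ((Nat.Prime.coprime_iff_not_dvd hpp).mpr Q.not_dvd_index)
  obtain ⟨c, hc, a, ha, hca⟩ := Cfsg.Agent.Lib.Helper4.forall_mul_of_coprime_index _ _ hcop g
  have hcv : c * v = v * c := mem_centralizer_singleton.mp hc
  have h1 : g⁻¹ * v * g ∈ Q := by
    have e : g⁻¹ * v * g = a⁻¹ * v * a := by
      rw [hca]
      have : (c * a)⁻¹ * v * (c * a) = a⁻¹ * (c⁻¹ * (v * c)) * a := by group
      rw [this, ← hcv]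
      group
    rw [e]
    exact (Q : Subgroup K).mul_mem ((Q : Subgroup K).mul_mem ((Q : Subgroup K).inv_mem ha) hvQ) ha
  have h2 : v ∈ ((g • Q : Sylow p K) : Subgroup K) := by
    rw [Sylow.smul_def, Sylow.pointwise_smul_def, Subgroup.mem_pointwise_smul_iff_inv_smul_mem]
    have h3 : (MulAut.conj g)⁻¹ • v = g⁻¹ * v * g := by
      rw [MulAut.smul_def, MulAut.conj_inv_apply]
    rw [h3]
    exact h1
  rw [hg] at h2
  exact h2

end Cfsg.Agent.Lib.Helper7.PSGA
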