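import Mathlib
import Cfsg.Agent.Lib.Helper13.SzSubA

/-!
S4321 market, leaf **E2** `cover_endgame`: if a normal Sylow `p`-subgroup `P` with complement `H₀` is covered by its centre and
the `P`-conjugates of `C_P(H₀)`, and `z ∈ Z(P)` is not central in `G`, then `P` is abelian.
-/

set_option autoImplicit false

namespace Cfsg.Agent.Lib.Helper7.PSGE2

open scoped Pointwise

/-- a group which is the set-theoretic union of two subgroups equals one of them -/
theorem forall_mem_or_forall_mem {K : Type*} [Group K] (A B : Subgroup K) (h : ∀ k : K, k ∈ A ∨ k ∈ B) :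
    (∀ k : K, k ∈ A) ∨ (∀ k : K, k ∈ B) := by
  by_contra hcon
  push Not at hcon
  obtain ⟨⟨x, hx⟩, ⟨y, hy⟩⟩ := hcon
  have hxB : x ∈ B := (h x).resolve_left hx
  have hyA : y ∈ A := (h y).resolve_right hy
  rcases h (y * x) with h1 | h1
  · apply hx
    have : x = y⁻¹ * (y * x) := by group
    rw [this]
    exact A.mul_mem (A.inv_mem hyA) h1
  · apply hy
    have : y = (y * x) * x⁻¹ := by group
    rw [this]
    exact B.mul_mem h1 (B.inv_mem hxB)

/-- **E2** -/
theorem cover_endgame {G : Type*} [Group G] [Finite G] (p : ℕ) [Fact p.Prime] (P : Sylow p G)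
    (hN : (P : Subgroup G).Normal) (H₀ : Subgroup G) (hH₀ : Subgroup.IsComplement' (P : Subgroup G) H₀)
    {z : G} (hzP : z ∈ P) (hzZ : ∀ u ∈ P, Commute u z) (hzc : z ∉ Subgroup.center G)
    (hcov : ∀ u ∈ P, (∀ v ∈ P, Commute v u) ∨ ∃ a ∈ P, a⁻¹ * u * a ∈ Subgroup.centralizer (H₀ : Set G)) :
    ∀ u ∈ P, ∀ v ∈ P, Commute v u := by
  classical
  set C' : Subgroup ↥(P : Subgroup G) := (Subgroup.centralizer (H₀ : Set G)).subgroupOf (P : Subgroup G) with hC'
  set Z' : Subgroup ↥(P : Subgroup G) := Subgroup.center ↥(P : Subgroup G) with hZ'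
  have hmemZ : ∀ k : ↥(P : Subgroup G), (∀ v ∈ P, Commute v (k : G)) → k ∈ Z' := by
    intro k hk
    rw [hZ', Subgroup.mem_center_iff]
    intro g
    apply Subtype.ext
    simp only [Subgroup.coe_mul]
    exact (hk g.1 g.2).eq
  have hmemC : ∀ k : ↥(P : Subgroup G), k ∈ C' ↔ (k : G) ∈ Subgroup.centralizer (H₀ : Set G) := by
    intro k
    rw [hC', Subgroup.mem_subgroupOf]
  -- step 1: C' ⊔ Z' = ⊤
  have htop : C' ⊔ Z' = ⊤ := by
    by_contra hne
    obtain ⟨g, hg⟩ := Cfsg.Agent.Lib.Helper13.SzSub.exists_not_mem_conj (G := ↥(P : Subgroup G)) hne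
    rcases hcov g.1 g.2 with h1 | ⟨a, ha, h2⟩
    · apply hg 1
      have : (1 : ↥(P : Subgroup G)) * g * 1⁻¹ = g := by group
      rw [this]
      exact (le_sup_right : Z' ≤ C' ⊔ Z') (hmemZ g h1)
    · apply hg (⟨a, ha⟩ : ↥(P : Subgroup G))⁻¹
      apply (le_sup_left : C' ≤ C' ⊔ Z')
      rw [hmemC]
      simpa using h2
  -- step 2: every element is in C' or Z'
  have hunion : ∀ k : ↥(P : Subgroup G), k ∈ C' ∨ k ∈ Z' := by
    intro k
    rcases hcov k.1 k.2 with h1 | ⟨a, ha, h2⟩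
    · exact Or.inr (hmemZ k h1)
    · left
      have hmem : (⟨a, ha⟩ : ↥(P : Subgroup G)) ∈ C' ⊔ Z' := by rw [htop]; exact Subgroup.mem_top _
      have hset := Subgroup.mul_normal C' Z'
      have hmem' : (⟨a, ha⟩ : ↥(P : Subgroup G)) ∈
          (C' : Set ↥(P : Subgroup G)) * (Z' : Set ↥(P : Subgroup G)) := by
        rw [← hset]; exact hmem
      obtain ⟨c, hc, w, hw, hcw⟩ := Set.mem_mul.mp hmem'
      have hw' : ∀ g : ↥(P : Subgroup G), g * w = w * g := by
        intro g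
        exact (Subgroup.mem_center_iff.mp hw g)
      -- a⁻¹ k a = w⁻¹ (c⁻¹ k c) w = c⁻¹ k c
      have e1 : (⟨a, ha⟩ : ↥(P : Subgroup G))⁻¹ * k * ⟨a, ha⟩ ∈ C' := by
        rw [hmemC]
        simpa using h2
      rw [← hcw] at e1
      have e2 : (c * w)⁻¹ * k * (c * w) = c⁻¹ * k * c := by
        have h3 : (c * w)⁻¹ * k * (c * w) = w⁻¹ * ((c⁻¹ * k * c) * w) := by group
        rw [h3, hw' (c⁻¹ * k * c)]
        group
      rw [e2] at e1
      have e3 : k = c * (c⁻¹ * k * c) * c⁻¹ := by group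
      rw [e3]
      exact C'.mul_mem (C'.mul_mem hc e1) (C'.inv_mem hc)
  rcases forall_mem_or_forall_mem C' Z' hunion with hall | hall
  · -- H₀ centralises P ∋ z: z central
    exfalso
    apply hzc
    rw [Subgroup.mem_center_iff]
    intro g
    obtain ⟨⟨a, h⟩, hah⟩ := hH₀.2 g
    simp only at hah
    have hza : Commute (a : G) z := hzZ a.1 a.2
    have hzC : z ∈ Subgroup.centralizer (H₀ : Set G) := (hmemC ⟨z, hzP⟩).mp (hall ⟨z, hzP⟩)
    have hzh : (h : G) * z = z * h := (Subgroup.mem_centralizer_iff.mp hzC (h : G) h.2)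
    rw [← hah, mul_assoc, hzh, ← mul_assoc, hza.eq, mul_assoc]
  · intro u hu v hv
    have h1 := hall ⟨u, hu⟩
    rw [hZ', Subgroup.mem_center_iff] at h1
    have h2 := h1 ⟨v, hv⟩
    exact congrArg Subtype.val h2

end Cfsg.Agent.Lib.Helper7.PSGE2
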