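import Cfsg.Agent.Lib.Helper7.ChevStringCheck

/-! The elements `n_p(t)`, `h_p(t)` for a fundamental root `p`: table check and matrix descriptions (helper7). -/

set_option autoImplicit false

namespace Cfsg.Agent.Lib.Helper7

open Cfsg Cfsg.Lie Matrix

section cols
variable (D : ChevalleyDatum) (F : Type*) [Field F] (r rb : Fin D.nroots)

theorem nMat_eq_triple (hrb : rb.val = D.negIdx.getD r.val 0) (t : F) :
    D.nMat F r.val t = D.xMat F r t * D.xMat F rb (-t⁻¹) * D.xMat F r t := by
  unfold ChevalleyDatum.nMat ChevalleyDatum.nWord ChevalleyDatum.wordMat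
  have h1 : D.neg r.val = rb.val := hrb.symm
  simp only [List.map_cons, List.map_nil, List.prod_cons, List.prod_nil, mul_one, h1]
  rw [x_eq_xMat D F r.val r.isLt, x_eq_xMat D F rb.val rb.isLt, Matrix.mul_assoc]

theorem single_inl_eq_wvec (j : Fin D.rank) :
    (Pi.single (Sum.inl j) 1 : D.Idx → F) = wvec D F r rb (Pi.single j 1) 0 0 := by
  funext row
  rcases row with i | s
  · show _ = (Pi.single j 1 : Fin D.rank → F) i
    by_cases h : i = j
    · subst h; simp
    · have : (Sum.inl i : D.Idx) ≠ Sum.inl j := fun hh => h (Sum.inl.inj hh)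
      simp [Pi.single_apply, h, this]
  · show _ = if s = r then (0:F) else if s = rb then 0 else 0
    simp [Pi.single_apply]

theorem single_r_eq_wvec (hne : r ≠ rb) :
    (Pi.single (Sum.inr r) 1 : D.Idx → F) = wvec D F r rb 0 1 0 := by
  funext row
  rcases row with i | s
  · show _ = (0 : F)
    simp [Pi.single_apply]
  · show _ = if s = r then (1:F) else if s = rb then 0 else 0
    by_cases h : s = r
    · subst h; simp
    · have : (Sum.inr s : D.Idx) ≠ Sum.inr r := fun hh => h (Sum.inr.inj hh)
      simp [Pi.single_apply, h, this]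

theorem single_rb_eq_wvec (hne : r ≠ rb) :
    (Pi.single (Sum.inr rb) 1 : D.Idx → F) = wvec D F r rb 0 0 1 := by
  funext row
  rcases row with i | s
  · show _ = (0 : F)
    simp [Pi.single_apply]
  · show _ = if s = r then (0:F) else if s = rb then 1 else 0
    by_cases h : s = rb
    · have : ¬ s = r := fun hh => hne (hh.symm.trans h)
      subst h; simp [this]
    · have : (Sum.inr s : D.Idx) ≠ Sum.inr rb := fun hh => h (Sum.inr.inj hh)
      simp [Pi.single_apply, h, this]

theorem nTriple_col_inl (h : RankOne D r rb) (t : F) (ht : t ≠ 0) (j : Fin D.rank) (row : D.Idx) :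
    (D.xMat F r t * D.xMat F rb (-t⁻¹) * D.xMat F r t) row (Sum.inl j) =
      wvec D F r rb (fun i => (if i = j then 1 else 0) - carF D F r.val j * corF D F r.val i) 0 0 row := by
  have h1 := congrFun (nTriple_mulVec_wvec D F r rb h t ht (Pi.single j 1) 0 0) row
  rw [← single_inl_eq_wvec, Matrix.mulVec_single_one] at h1
  rw [show (D.xMat F r t * D.xMat F rb (-t⁻¹) * D.xMat F r t) row (Sum.inl j) =
    (D.xMat F r t * D.xMat F rb (-t⁻¹) * D.xMat F r t).col (Sum.inl j) row from rfl, h1]
  congr 1
  · funext i
    simp [Pi.single_apply]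
  · ring
  · ring

theorem nTriple_col_r (h : RankOne D r rb) (t : F) (ht : t ≠ 0) (row : D.Idx) :
    (D.xMat F r t * D.xMat F rb (-t⁻¹) * D.xMat F r t) row (Sum.inr r) =
      wvec D F r rb 0 0 (-(t ^ 2)⁻¹) row := by
  have h1 := congrFun (nTriple_mulVec_wvec D F r rb h t ht 0 1 0) row
  rw [← single_r_eq_wvec D F r rb h.hne, Matrix.mulVec_single_one] at h1
  rw [show (D.xMat F r t * D.xMat F rb (-t⁻¹) * D.xMat F r t) row (Sum.inr r) =
    (D.xMat F r t * D.xMat F rb (-t⁻¹) * D.xMat F r t).col (Sum.inr r) row from rfl, h1]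
  congr 1
  · funext i; simp
  · ring
  · ring

theorem nTriple_col_rb (h : RankOne D r rb) (t : F) (ht : t ≠ 0) (row : D.Idx) :
    (D.xMat F r t * D.xMat F rb (-t⁻¹) * D.xMat F r t) row (Sum.inr rb) =
      wvec D F r rb 0 (-(t ^ 2)) 0 row := by
  have h1 := congrFun (nTriple_mulVec_wvec D F r rb h t ht 0 0 1) row
  rw [← single_rb_eq_wvec D F r rb h.hne, Matrix.mulVec_single_one] at h1
  rw [show (D.xMat F r t * D.xMat F rb (-t⁻¹) * D.xMat F r t) row (Sum.inr rb) =
    (D.xMat F r t * D.xMat F rb (-t⁻¹) * D.xMat F r t).col (Sum.inr rb) row from rfl, h1]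
  congr 1
  · funext i; simp
  · ring
  · ring

end cols

theorem strW_lt_of_strCheck (D : ChevalleyDatum) (r rb s : ℕ) (hs : strCheck D r rb s = true) :
    strW D r rb s < D.nroots ∧ strW D r rb s ≠ r ∧ strW D r rb s ≠ rb := by
  unfold strCheck at hs
  simp only [Bool.and_eq_true, List.all_eq_true, decide_eq_true_eq, bne_iff_ne] at hs
  obtain ⟨⟨⟨_, hall⟩, _⟩, _⟩ := hs
  have hlen : (strList D r rb s).length = strJ D rb s + 1 + strJw D r s := by
    unfold strList strJ strJw
    simp only [List.length_append, List.length_reverse, List.length_map, List.length_cons]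
    ring
  have hjw : strJw D r s < (strList D r rb s).length := by omega
  have hmem : strW D r rb s ∈ strList D r rb s := by
    unfold strW
    rw [List.getD_eq_getElem _ _ hjw]
    exact List.getElem_mem _
  obtain ⟨⟨h1, h2⟩, h3⟩ := hall _ hmem
  exact ⟨h1, h2, h3⟩

/-- the sign function of `n_p`, `p` the `i`-th fundamental root -/
def etaFn (D : ChevalleyDatum) (i s : ℕ) : ℤ :=
  if s = D.simple i ∨ s = D.neg (D.simple i) then -1 else strEta D (D.simple i) (D.neg (D.simple i)) s

/-- memo table of `etaFn` -/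
def etaTab (D : ChevalleyDatum) (i : ℕ) : List ℤ := (List.range D.nroots).map (etaFn D i)

theorem etaTab_getD (D : ChevalleyDatum) (i s : ℕ) (hs : s < D.nroots) :
    (etaTab D i).getD s 0 = etaFn D i s := by
  unfold etaTab
  rw [List.getD_eq_getElem _ _ (by simpa using hs)]
  simp

/-- rank one conditions for the `i`-th fundamental root, as a Boolean -/
def rankOneB (D : ChevalleyDatum) (i : ℕ) : Bool :=
  decide (D.simple i < D.nroots) && decide (D.neg (D.simple i) < D.nroots) &&
  D.simple i != D.neg (D.simple i) && D.neg (D.neg (D.simple i)) == D.simple i &&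
  (List.range D.rank).all (fun k =>
    (D.coroot.getD (D.neg (D.simple i)) #[]).getD k 0 == - (D.coroot.getD (D.simple i) #[]).getD k 0 &&
    (D.cartanSR.getD k #[]).getD (D.neg (D.simple i)) 0 == - (D.cartanSR.getD k #[]).getD (D.simple i) 0 &&
    (D.coroot.getD (D.simple i) #[]).getD k 0 == (if k = i then 1 else 0)) &&
  sumOKB D (D.simple i) &&
  D.cartan i (D.simple i) == 2 && D.cartan i (D.neg (D.simple i)) == -2

/-- conditions on a root `s ≠ ±p` -/
def genOKB (D : ChevalleyDatum) (i s : ℕ) : Bool :=
  strCheck D (D.simple i) (D.neg (D.simple i)) s &&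
  strW D (D.simple i) (D.neg (D.simple i)) s == D.reflectRoot i s &&
  ((strJw D (D.simple i) s : ℤ) - (strJ D (D.neg (D.simple i)) s : ℤ) == - D.cartan i s) &&
  D.reflectRoot i (D.reflectRoot i s) == s &&
  D.cartan i (D.reflectRoot i s) == - D.cartan i s &&
  decide (D.neg s < D.nroots) && D.neg s != D.simple i && D.neg s != D.neg (D.simple i)

/-- conditions on the signs, for all roots -/
def etaOKB (D : ChevalleyDatum) (i s : ℕ) : Bool :=
  (etaFn D i s == 1 || etaFn D i s == -1) &&
  etaFn D i s * (etaTab D i).getD (D.reflectRoot i s) 0 == (-1) ^ (D.cartan i s).natAbs &&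
  etaFn D i s * (etaTab D i).getD (D.neg s) 0 == 1

def fundOKB (D : ChevalleyDatum) (i : ℕ) : Bool :=
  rankOneB D i &&
  (List.range D.nroots).all (fun s =>
    (s == D.simple i || s == D.neg (D.simple i) || genOKB D i s) && etaOKB D i s)


/-- semantic content of `fundOKB` -/
structure FundFacts (D : ChevalleyDatum) (i : ℕ) : Prop where
  hp : D.simple i < D.nroots
  hpb : D.neg (D.simple i) < D.nroots
  rank1 : RankOne D ⟨D.simple i, hp⟩ ⟨D.neg (D.simple i), hpb⟩
  corUnit : ∀ k < D.rank, (D.coroot.getD (D.simple i) #[]).getD k 0 = if k = i then 1 else 0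
  carP : D.cartan i (D.simple i) = 2
  carPb : D.cartan i (D.neg (D.simple i)) = -2
  gen : ∀ s < D.nroots, s ≠ D.simple i → s ≠ D.neg (D.simple i) → genOKB D i s = true
  eta : ∀ s < D.nroots, etaOKB D i s = true

theorem fundFacts_of_fundOKB (D : ChevalleyDatum) (i : ℕ) (h : fundOKB D i = true) : FundFacts D i := by
  unfold fundOKB at h
  rw [Bool.and_eq_true, List.all_eq_true] at h
  obtain ⟨h1, h2⟩ := h
  unfold rankOneB at h1
  simp only [Bool.and_eq_true, List.all_eq_true, decide_eq_true_eq, bne_iff_ne, beq_iff_eq, List.mem_range] at h1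
  obtain ⟨⟨⟨⟨⟨⟨⟨hp, hpb⟩, hne⟩, hnn⟩, hk⟩, hsum⟩, hc1⟩, hc2⟩ := h1
  refine ⟨hp, hpb, ⟨?_, rfl, ?_, ?_, ?_, ?_⟩, ?_, hc1, hc2, ?_, ?_⟩
  · intro hh; exact hne (congrArg Fin.val hh)
  · exact hnn.symm
  · intro k hk'; exact (hk k hk').1.1
  · intro k hk'; exact (hk k hk').1.2
  · rw [sum_range_eq_list]
    unfold sumOKB at hsum
    exact beq_iff_eq.mp hsum
  · intro k hk'; exact (hk k hk').2
  · intro s hs hs1 hs2
    have := (Bool.and_eq_true _ _).mp (h2 s (List.mem_range.mpr hs))
    have h3 := this.1
    simp only [Bool.or_eq_true, beq_iff_eq] at h3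
    rcases h3 with (h3 | h3) | h3
    · exact absurd h3 hs1
    · exact absurd h3 hs2
    · exact h3
  · intro s hs
    exact ((Bool.and_eq_true _ _).mp (h2 s (List.mem_range.mpr hs))).2



theorem reflectRoot_simple (D : ChevalleyDatum) (i : ℕ) : D.reflectRoot i (D.simple i) = D.neg (D.simple i) := by
  unfold ChevalleyDatum.reflectRoot
  simp

theorem reflectRoot_neg_simple (D : ChevalleyDatum) (i : ℕ) (hne : D.simple i ≠ D.neg (D.simple i)) :
    D.reflectRoot i (D.neg (D.simple i)) = D.simple i := by
  unfold ChevalleyDatum.reflectRoot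
  simp [hne.symm]

theorem genOKB_facts (D : ChevalleyDatum) (i s : ℕ) (h : genOKB D i s = true) :
    strCheck D (D.simple i) (D.neg (D.simple i)) s = true ∧
    strW D (D.simple i) (D.neg (D.simple i)) s = D.reflectRoot i s ∧
    ((strJw D (D.simple i) s : ℤ) - (strJ D (D.neg (D.simple i)) s : ℤ) = - D.cartan i s) ∧
    D.reflectRoot i (D.reflectRoot i s) = s ∧
    D.cartan i (D.reflectRoot i s) = - D.cartan i s ∧
    D.neg s < D.nroots ∧ D.neg s ≠ D.simple i ∧ D.neg s ≠ D.neg (D.simple i) := by
  unfold genOKB at h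
  simp only [Bool.and_eq_true, decide_eq_true_eq, bne_iff_ne, beq_iff_eq] at h
  obtain ⟨⟨⟨⟨⟨⟨⟨h1, h2⟩, h3⟩, h4⟩, h5⟩, h6⟩, h7⟩, h8⟩ := h
  exact ⟨h1, h2, h3, h4, h5, h6, h7, h8⟩

theorem eta_props (D : ChevalleyDatum) (i : ℕ) (hF : FundFacts D i) :
    (∀ s < D.nroots, etaFn D i s = 1 ∨ etaFn D i s = -1) ∧ etaFn D i (D.simple i) = -1 ∧
      etaFn D i (D.neg (D.simple i)) = -1 ∧
      (∀ s < D.nroots, etaFn D i s * etaFn D i (D.reflectRoot i s) = (-1) ^ (D.cartan i s).natAbs ∧
        etaFn D i s * etaFn D i (D.neg s) = 1) := by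
  have hne : D.simple i ≠ D.neg (D.simple i) := fun h => hF.rank1.hne (Fin.ext h)
  refine ⟨?_, ?_, ?_, ?_⟩
  · intro s hs
    have := hF.eta s hs
    unfold etaOKB at this
    simp only [Bool.and_eq_true, Bool.or_eq_true, beq_iff_eq] at this
    exact this.1.1
  · unfold etaFn; simp
  · unfold etaFn; simp
  · intro s hs
    have := hF.eta s hs
    unfold etaOKB at this
    simp only [Bool.and_eq_true, Bool.or_eq_true, beq_iff_eq] at this
    obtain ⟨⟨_, h2⟩, h3⟩ := this
    have hrefl : D.reflectRoot i s < D.nroots := by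
      by_cases h1 : s = D.simple i
      · rw [h1, reflectRoot_simple]; exact hF.hpb
      · by_cases h2' : s = D.neg (D.simple i)
        · rw [h2', reflectRoot_neg_simple D i hne]; exact hF.hp
        · obtain ⟨g1, g2, -⟩ := genOKB_facts D i s (hF.gen s hs h1 h2')
          rw [← g2]; exact (strW_lt_of_strCheck D _ _ s g1).1
    have hneg : D.neg s < D.nroots := by
      by_cases h1 : s = D.simple i
      · rw [h1]; exact hF.hpb
      · by_cases h2' : s = D.neg (D.simple i)
        · rw [h2']
          have : D.neg (D.neg (D.simple i)) = D.simple i := hF.rank1.hr.symm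
          rw [this]; exact hF.hp
        · exact (genOKB_facts D i s (hF.gen s hs h1 h2')).2.2.2.2.2.1
    rw [etaTab_getD D i _ hrefl] at h2
    rw [etaTab_getD D i _ hneg] at h3
    exact ⟨h2, h3⟩



theorem nMat_fund (D : ChevalleyDatum) (i : ℕ) (hF : FundFacts D i) (F : Type*) [Field F] :
    D.nMat F (D.simple i) 1 = Matrix.of (fun (row col : D.Idx) =>
        Sum.elim
          (fun j' : Fin D.rank => Sum.elim
            (fun j : Fin D.rank => (if j' = j then (1 : F) else 0) - (if (j' : ℕ) = i then ((D.cartan j (D.simple i) : ℤ) : F) else 0))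
            (fun _ => (0 : F)) col)
          (fun s' : Fin D.nroots => Sum.elim
            (fun _ => (0 : F))
            (fun s : Fin D.nroots => if (s' : ℕ) = D.reflectRoot i s then ((etaFn D i s : ℤ) : F) else 0) col)
          row) := by
  have hne : D.simple i ≠ D.neg (D.simple i) := fun h => hF.rank1.hne (Fin.ext h)
  have h1 : (1 : F) ≠ 0 := one_ne_zero
  have hN := nMat_eq_triple D F ⟨D.simple i, hF.hp⟩ ⟨D.neg (D.simple i), hF.hpb⟩ rfl (1 : F)
  change D.nMat F (D.simple i) 1 = _ at hN
  rw [hN]
  ext row col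
  simp only [Matrix.of_apply]
  rcases col with j | s
  · rw [nTriple_col_inl D F _ _ hF.rank1 1 h1 j row]
    rcases row with j' | s'
    · simp only [Sum.elim_inl]
      show (if j' = j then (1:F) else 0) - carF D F (D.simple i) j * corF D F (D.simple i) j' = _
      unfold carF corF
      rw [hF.corUnit j'.val j'.isLt]
      by_cases hj : j'.val = i
      · simp only [hj, if_true, Int.cast_one, mul_one]
        rfl
      · simp only [hj, if_false, Int.cast_zero, mul_zero]
    · simp only [Sum.elim_inr, Sum.elim_inl]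
      show (if s' = _ then (0:F) else if s' = _ then 0 else 0) = 0
      simp
  · by_cases hs1 : s.val = D.simple i
    · have hs : s = ⟨D.simple i, hF.hp⟩ := Fin.ext hs1
      subst hs
      rw [nTriple_col_r D F _ _ hF.rank1 1 h1 row]
      rcases row with j' | s'
      · rfl
      · simp only [Sum.elim_inr]
        show (if s' = _ then (0:F) else if s' = _ then -(1 ^ 2)⁻¹ else 0) = _
        rw [reflectRoot_simple]
        have he : etaFn D i (D.simple i) = -1 := by unfold etaFn; simp
        rw [he]
        by_cases h2 : s' = ⟨D.neg (D.simple i), hF.hpb⟩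
        · have h3 : ¬ s' = ⟨D.simple i, hF.hp⟩ := by
            rw [h2]; intro hh; exact hne (congrArg Fin.val hh).symm
          have h4 : s'.val = D.neg (D.simple i) := congrArg Fin.val h2
          simp [h2, h4, hne.symm]
        · have h4 : ¬ s'.val = D.neg (D.simple i) := fun hh => h2 (Fin.ext hh)
          simp [h2, h4]
    · by_cases hs2 : s.val = D.neg (D.simple i)
      · have hs : s = ⟨D.neg (D.simple i), hF.hpb⟩ := Fin.ext hs2
        subst hs
        rw [nTriple_col_rb D F _ _ hF.rank1 1 h1 row]
        rcases row with j' | s'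
        · rfl
        · simp only [Sum.elim_inr]
          show (if s' = _ then -(1 ^ 2 : F) else if s' = _ then 0 else 0) = _
          rw [reflectRoot_neg_simple D i hne]
          have he : etaFn D i (D.neg (D.simple i)) = -1 := by unfold etaFn; simp
          rw [he]
          by_cases h2 : s' = ⟨D.simple i, hF.hp⟩
          · have h4 : s'.val = D.simple i := congrArg Fin.val h2
            simp [h2, h4]
          · have h4 : ¬ s'.val = D.simple i := fun hh => h2 (Fin.ext hh)
            simp [h2, h4]
      · obtain ⟨g1, g2, -⟩ := genOKB_facts D i s.val (hF.gen s.val s.isLt hs1 hs2)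
        obtain ⟨hw, hcol⟩ := strCheck_col D F ⟨D.simple i, hF.hp⟩ ⟨D.neg (D.simple i), hF.hpb⟩ hF.rank1 s g1 1 h1
        rw [hcol row]
        have he : etaFn D i s.val = strEta D (D.simple i) (D.neg (D.simple i)) s.val := by
          unfold etaFn; simp [hs1, hs2]
        rcases row with j' | s'
        · simp
        · simp only [Sum.elim_inr, _root_.one_zpow, mul_one, he, ← g2]
          by_cases h2 : s'.val = strW D (D.simple i) (D.neg (D.simple i)) s.val
          · have : (Sum.inr s' : D.Idx) = Sum.inr ⟨strW D (D.simple i) (D.neg (D.simple i)) s.val, hw⟩ := by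
              rw [Sum.inr.injEq]; exact Fin.ext h2
            rw [if_pos this, if_pos h2]
          · have : ¬ (Sum.inr s' : D.Idx) = Sum.inr ⟨strW D (D.simple i) (D.neg (D.simple i)) s.val, hw⟩ := by
              intro hh; exact h2 (congrArg Fin.val (Sum.inr.inj hh))
            rw [if_neg this, if_neg h2]



theorem wordMat_append (D : ChevalleyDatum) (F : Type*) [Field F] (w1 w2 : List (ℕ × F)) :
    D.wordMat F (w1 ++ w2) = D.wordMat F w1 * D.wordMat F w2 := by
  unfold ChevalleyDatum.wordMat
  rw [List.map_append, List.prod_append]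

theorem hMat_eq (D : ChevalleyDatum) (F : Type*) [Field F] (r : ℕ) (t : F) :
    D.hMat F r t = D.nMat F r t * D.nMat F r (-1) := by
  unfold ChevalleyDatum.hMat ChevalleyDatum.hWord ChevalleyDatum.nMat
  rw [wordMat_append]

theorem neg_one_zpow_eq (F : Type*) [Field F] (n : ℤ) : ((-1 : F)) ^ n = (((-1 : ℤ) ^ n.natAbs : ℤ) : F) := by
  rw [Int.cast_pow, Int.cast_neg, Int.cast_one]
  rcases Int.even_or_odd n with he | ho
  · rw [he.neg_one_zpow, (Int.natAbs_even.mpr he).neg_one_pow]
  · rw [ho.neg_one_zpow, (Int.natAbs_odd.mpr ho).neg_one_pow]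

theorem hMat_fund (D : ChevalleyDatum) (i : ℕ) (hF : FundFacts D i) (F : Type*) [Field F] (c : F) (hc : c ≠ 0) :
    D.hMat F (D.simple i) c =
      Matrix.diagonal (Sum.elim (fun _ => (1 : F)) (fun s : Fin D.nroots => c ^ (D.cartan i s))) := by
  have hne : D.simple i ≠ D.neg (D.simple i) := fun h => hF.rank1.hne (Fin.ext h)
  have h1 : (-1 : F) ≠ 0 := neg_ne_zero.mpr one_ne_zero
  have hN1 := nMat_eq_triple D F ⟨D.simple i, hF.hp⟩ ⟨D.neg (D.simple i), hF.hpb⟩ rfl c
  have hN2 := nMat_eq_triple D F ⟨D.simple i, hF.hp⟩ ⟨D.neg (D.simple i), hF.hpb⟩ rfl (-1 : F)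
  change D.nMat F (D.simple i) c = _ at hN1
  change D.nMat F (D.simple i) (-1) = _ at hN2
  rw [hMat_eq, hN1, hN2]
  set r : Fin D.nroots := ⟨D.simple i, hF.hp⟩ with hr
  set rb : Fin D.nroots := ⟨D.neg (D.simple i), hF.hpb⟩ with hrb
  set Nc := D.xMat F r c * D.xMat F rb (-c⁻¹) * D.xMat F r c with hNc
  set N1 := D.xMat F r (-1) * D.xMat F rb (-(-1 : F)⁻¹) * D.xMat F r (-1) with hN1'
  have h2 := sum_car_cor D F r rb hF.rank1
  ext row col
  have hmv : (Nc * N1) row col = (Nc.mulVec (fun κ => N1 κ col)) row := by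
    rw [Matrix.mul_apply]; rfl
  rw [hmv]
  rcases col with j | s
  · have e1 : (fun κ => N1 κ (Sum.inl j)) =
        wvec D F r rb (fun k => (if k = j then 1 else 0) - carF D F r.val j * corF D F r.val k) 0 0 := by
      funext κ; exact nTriple_col_inl D F r rb hF.rank1 (-1) h1 j κ
    rw [e1, nTriple_mulVec_wvec D F r rb hF.rank1 c hc]
    have e2 : ∑ k, carF D F r.val k * ((if k = j then 1 else 0) - carF D F r.val j * corF D F r.val k)
        = - carF D F r.val j := by
      have : ∀ k, carF D F r.val k * ((if k = j then 1 else 0) - carF D F r.val j * corF D F r.val k)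
          = carF D F r.val k * (if k = j then 1 else 0) - carF D F r.val j * (carF D F r.val k * corF D F r.val k) :=
        fun k => by ring
      rw [Finset.sum_congr rfl (fun k _ => this k), Finset.sum_sub_distrib, sum_mul_ite, ← Finset.mul_sum, h2]
      ring
    rw [e2]
    rcases row with j' | s'
    · show (if j' = j then (1:F) else 0) - carF D F r.val j * corF D F r.val j' - -carF D F r.val j * corF D F r.val j' = _
      rw [Matrix.diagonal_apply]
      by_cases hjj : j' = j
      · subst hjj; simp
      · have : ¬ (Sum.inl j' : D.Idx) = Sum.inl j := fun hh => hjj (Sum.inl.inj hh)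
        simp [hjj, this]
    · show (if s' = r then -(c ^ 2) * 0 else if s' = rb then -(c ^ 2)⁻¹ * 0 else (0:F)) = _
      rw [Matrix.diagonal_apply]
      simp
  · by_cases hs1 : s.val = D.simple i
    · have hs : s = r := Fin.ext hs1
      subst hs
      have e1 : (fun κ => N1 κ (Sum.inr r)) = wvec D F r rb 0 0 (-(((-1 : F)) ^ 2)⁻¹) := by
        funext κ; exact nTriple_col_r D F r rb hF.rank1 (-1) h1 κ
      rw [e1, nTriple_mulVec_wvec D F r rb hF.rank1 c hc]
      rcases row with j' | s'
      · show (0 : F) - (∑ k, carF D F r.val k * (0 : Fin D.rank → F) k) * corF D F r.val j' = _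
        rw [Matrix.diagonal_apply]
        simp
      · show (if s' = r then -(c ^ 2) * -(((-1 : F)) ^ 2)⁻¹ else if s' = rb then -(c ^ 2)⁻¹ * 0 else (0:F)) = _
        rw [Matrix.diagonal_apply]
        by_cases h3 : s' = r
        · rw [h3]
          simp only [if_true, Sum.elim_inr]
          have : D.cartan i r.val = 2 := hF.carP
          rw [this]
          norm_num
        · have : ¬ (Sum.inr s' : D.Idx) = Sum.inr r := fun hh => h3 (Sum.inr.inj hh)
          simp [h3, this]
    · by_cases hs2 : s.val = D.neg (D.simple i)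
      · have hs : s = rb := Fin.ext hs2
        subst hs
        have e1 : (fun κ => N1 κ (Sum.inr rb)) = wvec D F r rb 0 (-(((-1 : F)) ^ 2)) 0 := by
          funext κ; exact nTriple_col_rb D F r rb hF.rank1 (-1) h1 κ
        rw [e1, nTriple_mulVec_wvec D F r rb hF.rank1 c hc]
        rcases row with j' | s'
        · show (0 : F) - (∑ k, carF D F r.val k * (0 : Fin D.rank → F) k) * corF D F r.val j' = _
          rw [Matrix.diagonal_apply]
          simp
        · show (if s' = r then -(c ^ 2) * 0 else if s' = rb then -(c ^ 2)⁻¹ * -(((-1 : F)) ^ 2) else (0:F)) = _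
          rw [Matrix.diagonal_apply]
          by_cases h3 : s' = rb
          · have h4 : ¬ rb = r := fun hh => hF.rank1.hne hh.symm
            rw [h3]
            simp only [h4, if_false, if_true, Sum.elim_inr]
            have : D.cartan i rb.val = -2 := hF.carPb
            rw [this]
            rw [_root_.zpow_neg]
            norm_num
          · have : ¬ (Sum.inr s' : D.Idx) = Sum.inr rb := fun hh => h3 (Sum.inr.inj hh)
            by_cases h4 : s' = r
            · have h5 : ¬ (Sum.inr r : D.Idx) = Sum.inr rb := fun hh => hF.rank1.hne (Sum.inr.inj hh)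
              rw [h4]
              simp [h5]
            · simp [h3, h4, this]
      · -- generic column
        obtain ⟨g1, g2, g3, g4, g5, -⟩ := genOKB_facts D i s.val (hF.gen s.val s.isLt hs1 hs2)
        obtain ⟨hw, hcol⟩ := strCheck_col D F r rb hF.rank1 s g1 (-1) h1
        obtain ⟨hw1, hw2, hw3⟩ := strW_lt_of_strCheck D _ _ s.val g1
        set w : Fin D.nroots := ⟨strW D r.val rb.val s.val, hw⟩ with hwdef
        have hwv : w.val = D.reflectRoot i s.val := g2
        obtain ⟨k1, k2, k3, -⟩ := genOKB_facts D i w.val (hF.gen w.val w.isLt hw2 hw3)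
        obtain ⟨hw', hcol'⟩ := strCheck_col D F r rb hF.rank1 w k1 c hc
        have hww : (⟨strW D r.val rb.val w.val, hw'⟩ : Fin D.nroots) = s := by
          apply Fin.ext
          show strW D r.val rb.val w.val = s.val
          rw [show strW D r.val rb.val w.val = D.reflectRoot i w.val from k2, hwv, g4]
        rw [hww] at hcol'
        have e1 : (fun κ => N1 κ (Sum.inr s)) = fun κ => if κ = Sum.inr w then
            ((strEta D r.val rb.val s.val : ℤ) : F) *
              (-1) ^ ((strJw D r.val s.val : ℤ) - (strJ D rb.val s.val : ℤ)) else 0 := by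
          funext κ; exact hcol κ
        have hcol'' : Nc row (Sum.inr w) = _ := hcol' row
        rw [e1, Matrix.mulVec, dotProduct, sum_mul_ite, hcol'']
        -- signs
        obtain ⟨-, -, -, hprop⟩ := eta_props D i hF
        have hη := (hprop s.val s.isLt).1
        have he : etaFn D i s.val = strEta D r.val rb.val s.val := by
          unfold etaFn; rw [if_neg (by push Not; exact ⟨hs1, hs2⟩)]
        have he' : etaFn D i w.val = strEta D r.val rb.val w.val := by
          unfold etaFn; rw [if_neg (by push Not; exact ⟨hw2, hw3⟩)]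
        rw [← hwv, he, he'] at hη
        have hexp1 : ((strJw D r.val s.val : ℤ) - (strJ D rb.val s.val : ℤ)) = - D.cartan i s.val := g3
        have hexp2 : ((strJw D r.val w.val : ℤ) - (strJ D rb.val w.val : ℤ)) = D.cartan i s.val := by
          rw [show ((strJw D r.val w.val : ℤ) - (strJ D rb.val w.val : ℤ)) = - D.cartan i w.val from k3, hwv, g5, neg_neg]
        rw [hexp1, hexp2, Matrix.diagonal_apply]
        by_cases hrow : row = Sum.inr s
        · rw [if_pos hrow, if_pos hrow]
          subst hrow
          simp only [Sum.elim_inr]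
          rw [neg_one_zpow_eq F, Int.natAbs_neg]
          have : ((strEta D r.val rb.val w.val : ℤ) : F) * c ^ D.cartan i s.val *
              (((strEta D r.val rb.val s.val : ℤ) : F) * (((-1 : ℤ) ^ (D.cartan i s.val).natAbs : ℤ) : F))
              = (((strEta D r.val rb.val s.val * strEta D r.val rb.val w.val) * (-1) ^ (D.cartan i s.val).natAbs : ℤ) : F)
                * c ^ D.cartan i s.val := by
            push_cast; ring
          rw [this, hη, ← pow_add, ← two_mul, pow_mul]
          simp
        · rw [if_neg hrow, if_neg hrow, zero_mul]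

end Cfsg.Agent.Lib.Helper7
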