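import Cfsg.Agent.Lib.Helper7.BNCount
import Cfsg.Agent.Lib.Helper7.ChevCanon2

/-! The rank one cells `B n_p B` of a finite Chevalley group have `q |B|` elements (helper7). -/

set_option autoImplicit false

namespace Cfsg.Agent.Lib.Helper7

open Cfsg Cfsg.Lie Matrix
open Cfsg.Agent.Lib.Helper3.BN Cfsg.Agent.Lib.Helper3.WordLen
open scoped Pointwise

section
variable (D : ChevalleyDatum) (hD : D ∈ [chevG2, chevB2, chevD4, chevF4, chevE6, chevE7, chevE8])
variable (F : Type*) [Field F]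
include hD

/-- every element of `B` is `x_p(t) c` with `n_p⁻¹ c n_p ∈ B` -/
theorem borel_decomp_fund (i : ℕ) (hi : i < D.rank) (b : GL D.Idx F) (hb : b ∈ D.borelSubgroup F) :
    ∃ (t : F) (c : GL D.Idx F), (nFund D hD F i)⁻¹ * c * nFund D hD F i ∈ D.borelSubgroup F ∧
      b = xGL D hD F (D.simple i) t * c := by
  have hb' : b ∈ ((D.borelSubgroup F : Subgroup (GL D.Idx F)) : Set (GL D.Idx F)) := hb
  rw [borel_eq_mul D hD F] at hb'
  obtain ⟨h, hh, u, hu, rfl⟩ := Set.mem_mul.mp hb'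
  have hu' : u ∈ ((D.rootSubgroup F (D.simple i) ⊔ upSubgroup D F i : Subgroup (GL D.Idx F)) :
      Set (GL D.Idx F)) := by
    rw [sup_comm, up_sup_rootSubgroup D hD F i hi]; exact hu
  rw [Subgroup.coe_mul_of_left_le_normalizer_right _ _
    (le_trans le_sup_left (rootSubgroup_le_normalizer_up D hD F i hi))] at hu'
  obtain ⟨x, hx, u', hu'', rfl⟩ := Set.mem_mul.mp hu'
  obtain ⟨t, rfl⟩ := (mem_rootSubgroup_iff D hD F _ x).mp hx
  obtain ⟨χ, hχ, hhm⟩ := mem_diagonalSubgroup_char D hD F h hh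
  obtain ⟨N, hN⟩ : ∃ N : GL D.Idx F, N = nFund D hD F i := ⟨_, rfl⟩
  rw [← hN]
  have hnN : N⁻¹ ∈ D.monomialSubgroup F := by
    rw [hN]; exact Subgroup.inv_mem _ (nFund_mem_monomial D hD F i hi)
  have h1 : N⁻¹ * h * N⁻¹⁻¹ ∈ D.diagonalSubgroup F := by
    have := monomialSubgroup_le_normalizer_diagonal D hD F hnN
    rw [Subgroup.mem_set_normalizer_iff] at this
    exact (this h).mp hh
  have h2 : N⁻¹ * u' * N⁻¹⁻¹ ∈ upSubgroup D F i := by
    have := Subgroup.inv_mem _ (nFund_mem_normalizer_up D hD F i hi)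
    rw [← hN, Subgroup.mem_set_normalizer_iff] at this
    exact (this u').mp hu''
  refine ⟨χ (D.simple i) * t, h * u', ?_, ?_⟩
  · have e : N⁻¹ * (h * u') * N = (N⁻¹ * h * N⁻¹⁻¹) * (N⁻¹ * u' * N⁻¹⁻¹) := by group
    rw [e]
    exact Subgroup.mul_mem _ (diagonal_le_borel D hD F h1)
      (posUnipotent_le_borel D hD F (up_le_posUnipotent D hD F i h2))
  · rw [← mul_assoc, ← mul_assoc, diagGL_xGL_comm D hD F h χ hχ hhm]

/-- `n_p⁻¹ x_p(t) n_p ∈ B` only for `t = 0` -/
theorem eq_zero_of_conj_mem_borel (i : ℕ) (hi : i < D.rank) (t : F)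
    (h : (nFund D hD F i)⁻¹ * xGL D hD F (D.simple i) t * nFund D hD F i ∈ D.borelSubgroup F) : t = 0 := by
  have hF := fundFacts_of_mem D hD i hi
  have hC := conjFacts_of_mem D hD i hi
  have hkey : (nFund D hD F i)⁻¹ * xGL D hD F (D.simple i) t * nFund D hD F i =
      xGL D hD F (D.neg (D.simple i)) (((etaFn D i (D.neg (D.simple i)) : ℤ) : F) * t) := by
    have h3 := nFund_conj_xGL D hD F i hi _ hF.hpb (((etaFn D i (D.neg (D.simple i)) : ℤ) : F) * t)
    rw [reflectRoot_neg_simple D i (Ne.symm (negOK_of_mem D hD _ hF.hp).2), ← mul_assoc,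
      eta_sq D hD F i hi _ hF.hpb, one_mul] at h3
    rw [← h3]
    group
  rw [hkey] at h
  have hV := xGL_neg_mem D hD F _ (upFacts_of_mem D hD i hi).negSimple
    (((etaFn D i (D.neg (D.simple i)) : ℤ) : F) * t)
  have h1 : xGL D hD F (D.neg (D.simple i)) (((etaFn D i (D.neg (D.simple i)) : ℤ) : F) * t) = 1 := by
    have : _ ∈ D.borelSubgroup F ⊓ D.negUnipotent F := Subgroup.mem_inf.mpr ⟨h, hV⟩
    rw [borel_inf_negUnipotent D hD F] at this
    exact Subgroup.mem_bot.mp this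
  have h2 : D.x F (D.neg (D.simple i)) (((etaFn D i (D.neg (D.simple i)) : ℤ) : F) * t) = 1 := by
    rw [← coe_xGL D hD F, h1]; rfl
  have hN' := negOK_of_mem D hD _ hF.hpb
  have h0 := eq_zero_of_x_eq_one D F _ hF.hpb hN'.1 hN'.2 _ h2
  rcases hC.ηpm _ hF.hpb with h | h <;> rw [h] at h0 <;> simpa using h0

/-- `|B n_p B| = q |B|` -/
theorem card_C_fund [Fintype F] (s : ↥(D.group F)) (hs : s ∈ (chevBNPair D hD F).S) :
    Nat.card (C (chevBNPair D hD F) (sb (chevBNPair D hD F) s hs)) =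
      Fintype.card F * Nat.card (chevBNPair D hD F).B := by
  obtain ⟨P, hP⟩ : ∃ P, P = chevBNPair D hD F := ⟨_, rfl⟩
  have hs' : s ∈ P.S := by rw [hP]; exact hs
  have hgoal : Nat.card (C P (sb P s hs')) = Fintype.card F * Nat.card P.B := by
    have hPB : ∀ g : ↥(D.group F), g ∈ P.B ↔ (g : GL D.Idx F) ∈ D.borelSubgroup F := by
      rw [hP]; exact mem_B_iff D hD F
    have hsf : s ∈ fundSet D F := hs
    obtain ⟨i, hi, hsm⟩ := hsf
    have hsn := coe_eq_nFund_of_mem_fundSet D hD F s i hsm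
    have hF := fundFacts_of_mem D hD i hi
    have hxB : ∀ t : F, xGL D hD F (D.simple i) t ∈ D.borelSubgroup F := fun t =>
      posUnipotent_le_borel D hD F (xGL_pos_mem D hD F _ ((parFacts_of_mem D hD).simplePos i hi) t)
    let X : F → ↥(D.group F) := fun t => ⟨xGL D hD F (D.simple i) t, borel_le_group D hD F (hxB t)⟩
    have hXB : ∀ t, X t ∈ P.B := fun t => (hPB _).mpr (hxB t)
    let φ : F × P.B → C P (sb P s hs') := fun p =>
      ⟨X p.1 * s * (p.2 : ↥(D.group F)), by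
        rw [sb, C_mk, mem_dc]
        exact ⟨X p.1, hXB p.1, p.2, p.2.2, rfl⟩⟩
    have hinj : Function.Injective φ := by
      rintro ⟨t, b⟩ ⟨t', b'⟩ h
      have h1 : X t * s * (b : ↥(D.group F)) = X t' * s * (b' : ↥(D.group F)) := congrArg Subtype.val h
      have h2 : s⁻¹ * ((X t')⁻¹ * X t) * s = (b' : ↥(D.group F)) * (b : ↥(D.group F))⁻¹ := by
        have : X t = X t' * s * (b' : ↥(D.group F)) * (b : ↥(D.group F))⁻¹ * s⁻¹ := by
          rw [← h1]; group
        rw [this]; group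
      have h3 : s⁻¹ * ((X t')⁻¹ * X t) * s ∈ P.B := by
        rw [h2]; exact P.B.mul_mem b'.2 (P.B.inv_mem b.2)
      rw [hPB] at h3
      have h4 : ((s⁻¹ * ((X t')⁻¹ * X t) * s : ↥(D.group F)) : GL D.Idx F) =
          (nFund D hD F i)⁻¹ * xGL D hD F (D.simple i) (t - t') * nFund D hD F i := by
        show (s : GL D.Idx F)⁻¹ * ((xGL D hD F (D.simple i) t')⁻¹ * xGL D hD F (D.simple i) t) *
          (s : GL D.Idx F) = _
        rw [hsn, xGL_inv, xGL_mul]
        congr 3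
        ring
      rw [h4] at h3
      have h5 := eq_zero_of_conj_mem_borel D hD F i hi _ h3
      have htt : t = t' := sub_eq_zero.mp h5
      subst htt
      have hbb : (b : ↥(D.group F)) = b' := mul_left_cancel h1
      exact Prod.ext rfl (Subtype.ext hbb)
    have hsurj : Function.Surjective φ := by
      rintro ⟨g, hg⟩
      rw [sb, C_mk, mem_dc] at hg
      obtain ⟨b₁, hb₁, b₂, hb₂, rfl⟩ := hg
      obtain ⟨t, c, hc, he⟩ := borel_decomp_fund D hD F i hi _ ((hPB b₁).mp hb₁)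
      have hcG : (nFund D hD F i)⁻¹ * c * nFund D hD F i ∈ D.group F := borel_le_group D hD F hc
      refine ⟨(t, ⟨⟨(nFund D hD F i)⁻¹ * c * nFund D hD F i, hcG⟩ * b₂, ?_⟩), ?_⟩
      · exact P.B.mul_mem ((hPB _).mpr hc) hb₂
      · apply Subtype.ext
        apply Subtype.ext
        show xGL D hD F (D.simple i) t * (s : GL D.Idx F) *
          ((nFund D hD F i)⁻¹ * c * nFund D hD F i * (b₂ : GL D.Idx F)) =
          (b₁ : GL D.Idx F) * (s : GL D.Idx F) * (b₂ : GL D.Idx F)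
        rw [he, hsn]; group
    have hcard := Nat.card_congr (Equiv.ofBijective φ ⟨hinj, hsurj⟩)
    rw [Nat.card_prod, Nat.card_eq_fintype_card] at hcard
    exact hcard.symm
  subst hP
  exact hgoal

end

end Cfsg.Agent.Lib.Helper7
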