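import Cfsg.Agent.Lib.Helper7.ChevBasic

/-! Block-triangular matrices, and the entries of the root elements as polynomials (helper7). -/

set_option autoImplicit false

namespace Cfsg.Agent.Lib.Helper7

open Cfsg Cfsg.Lie Matrix

section blocks
variable {n : Type*} [Fintype n] [DecidableEq n] {k : ℕ} {R : Type*} [CommRing R]
variable (ιI ιQ : Fin k → n)

/-- the diagonal block on the first set of coordinates -/
def blkA (M : Matrix n n R) : Matrix (Fin k) (Fin k) R := M.submatrix ιI ιI

/-- the diagonal block on the second set of coordinates -/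
def blkD (M : Matrix n n R) : Matrix (Fin k) (Fin k) R := M.submatrix ιQ ιQ

/-- the lower left block -/
def blkC (M : Matrix n n R) : Matrix (Fin k) (Fin k) R := M.submatrix ιQ ιI

variable (hbij : Function.Bijective (Sum.elim ιI ιQ))
include hbij

theorem sum_split (f : n → R) : ∑ x, f x = ∑ i, f (ιI i) + ∑ i, f (ιQ i) := by
  rw [← (Equiv.ofBijective _ hbij).sum_comp, Fintype.sum_sum_type]
  rfl

theorem blkC_mul (M M' : Matrix n n R) (h : blkC ιI ιQ M = 0) (h' : blkC ιI ιQ M' = 0) :
    blkC ιI ιQ (M * M') = 0 := by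
  ext i j
  show (M * M') (ιQ i) (ιI j) = 0
  rw [Matrix.mul_apply, sum_split ιI ιQ hbij]
  have h1 : ∀ l, M (ιQ i) (ιI l) = 0 := fun l => congrFun (congrFun h i) l
  have h2 : ∀ l, M' (ιQ l) (ιI j) = 0 := fun l => congrFun (congrFun h' l) j
  simp [h1, h2]

theorem blkA_mul (M M' : Matrix n n R) (h' : blkC ιI ιQ M' = 0) :
    blkA ιI (M * M') = blkA ιI M * blkA ιI M' := by
  ext i j
  show (M * M') (ιI i) (ιI j) = _
  rw [Matrix.mul_apply, sum_split ιI ιQ hbij, Matrix.mul_apply]
  have h2 : ∀ l, M' (ιQ l) (ιI j) = 0 := fun l => congrFun (congrFun h' l) j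
  simp [h2, blkA]

theorem blkD_mul (M M' : Matrix n n R) (h : blkC ιI ιQ M = 0) :
    blkD ιQ (M * M') = blkD ιQ M * blkD ιQ M' := by
  ext i j
  show (M * M') (ιQ i) (ιQ j) = _
  rw [Matrix.mul_apply, sum_split ιI ιQ hbij, Matrix.mul_apply]
  have h1 : ∀ l, M (ιQ i) (ιI l) = 0 := fun l => congrFun (congrFun h i) l
  simp [h1, blkD]

omit hbij in
theorem blkA_one (hinj : Function.Injective ιI) : blkA ιI (1 : Matrix n n R) = 1 := by
  ext i j
  show (1 : Matrix n n R) (ιI i) (ιI j) = _
  rw [Matrix.one_apply, Matrix.one_apply]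
  simp [hinj.eq_iff]

omit hbij in
theorem blkD_one (hinj : Function.Injective ιQ) : blkD ιQ (1 : Matrix n n R) = 1 :=
  blkA_one ιQ hinj

theorem blkC_one : blkC ιI ιQ (1 : Matrix n n R) = 0 := by
  ext i j
  show (1 : Matrix n n R) (ιQ i) (ιI j) = 0
  rw [Matrix.one_apply, if_neg]
  intro h
  have := hbij.1 (a₁ := Sum.inr i) (a₂ := Sum.inl j) h
  cases this

theorem injI : Function.Injective ιI := by
  intro a b h
  have := hbij.1 (a₁ := Sum.inl a) (a₂ := Sum.inl b) h
  exact Sum.inl.inj this

theorem injQ : Function.Injective ιQ := by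
  intro a b h
  have := hbij.1 (a₁ := Sum.inr a) (a₂ := Sum.inr b) h
  exact Sum.inr.inj this

end blocks

section poly

/-- the entries of `x_r(t)` as polynomials in `t`: lists of pairs (exponent, coefficient) -/
def polyEntry (D : ChevalleyDatum) (r : ℕ) : D.Idx → D.Idx → List (ℕ × ℤ)
  | Sum.inl i', Sum.inl i => if i' = i then [(0, 1)] else []
  | Sum.inr u, Sum.inl i => if u.val = r then [(1, -((D.cartanSR.getD i.val #[]).getD r 0))] else []
  | Sum.inl i, Sum.inr s =>
    if s.val = r then []
    else if s.val = D.negIdx.getD r 0 then [(1, (D.coroot.getD r #[]).getD i.val 0)]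
    else []
  | Sum.inr u, Sum.inr s =>
    if s.val = r then (if u.val = r then [(0, 1)] else [])
    else if s.val = D.negIdx.getD r 0 then
      (if u = s then [(0, 1)] else if u.val = r then [(2, -1)] else [])
    else (if u = s then [(0, 1)] else []) ++ D.chainCoeff r s.val u.val

/-- evaluation of a polynomial given as a list -/
def evalL (F : Type*) [Field F] (L : List (ℕ × ℤ)) (t : F) : F :=
  (L.map fun km => ((km.2 : ℤ) : F) * t ^ km.1).sum

theorem evalL_nil (F : Type*) [Field F] (t : F) : evalL F [] t = 0 := rfl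

theorem evalL_append (F : Type*) [Field F] (L L' : List (ℕ × ℤ)) (t : F) :
    evalL F (L ++ L') t = evalL F L t + evalL F L' t := by
  simp [evalL]

theorem evalL_single (F : Type*) [Field F] (k : ℕ) (c : ℤ) (t : F) :
    evalL F [(k, c)] t = (c : F) * t ^ k := by
  simp [evalL]

theorem xMat_apply_eq (D : ChevalleyDatum) (F : Type*) [Field F] (r : Fin D.nroots) (t : F)
    (row col : D.Idx) : D.xMat F r t row col = evalL F (polyEntry D r.val row col) t := by
  unfold ChevalleyDatum.xMat
  rw [Matrix.of_apply]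
  rcases col with i | s
  · rcases row with i' | u
    · simp only [polyEntry]
      split_ifs <;> simp [evalL_single, evalL_nil]
    · simp only [polyEntry, Fin.ext_iff]
      split_ifs <;> simp [evalL_single, evalL_nil]
  · rcases row with i | u
    · simp only [polyEntry, Fin.ext_iff]
      split_ifs <;> simp [evalL_single, evalL_nil]
    · simp only [polyEntry, Fin.ext_iff]
      split_ifs <;> simp [evalL_single, evalL_nil, evalL_append, evalL]

theorem x_apply_eq (D : ChevalleyDatum) (F : Type*) [Field F] (r : ℕ) (hr : r < D.nroots) (t : F)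
    (row col : D.Idx) : D.x F r t row col = evalL F (polyEntry D r row col) t := by
  rw [x_eq_xMat D F r hr, xMat_apply_eq]

end poly

end Cfsg.Agent.Lib.Helper7
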