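import Mathlib
import Cfsg.Agent.Lib.Helper29.SpAschTools
import Cfsg.Agent.Lib.Helper20.AschTS
import Cfsg.Agent.Lib.Helper29.AschKF2
import Cfsg.Agent.Lib.Helper27.AschKF3
import Cfsg.Agent.Lib.Helper7.AschForms

/-!
S5662 (Aschbacher for `Sp_2m(F)`), market FQ (planner helper29): leaves (F1) `sub_normalized`, (F2) `adjM_pow`, (F4) `selfadj_zero`,
(F7) `pow_card_of_dvd`, (F9a) `scalar_of_pow_card`, (F9c) `conj_eq_or_eq_adj`, by helper7.
-/

set_option autoImplicit false
set_option linter.unusedSectionVars false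
set_option linter.unusedVariables false

namespace Cfsg.Agent.Lib.Helper7.SpAschLeaf
open Matrix Cfsg Cfsg.Geo Cfsg.Agent.Lib.Helper20.Asch Cfsg.Agent.Lib.Helper29.SpAsch
open scoped Kronecker

variable {F : Type*} [Field F] [Fintype F] {n m : ℕ} {J : Matrix (Fin n) (Fin n) F}
  {H N : Subgroup (GL (Fin n) F)}

/-- (F1) the subalgebra `{k ∈ K | k ^ j = k}` of a normalised subalgebra is normalised. -/
theorem sub_normalized (K K' : Subalgebra F (Matrix (Fin n) (Fin n) F)) (j : ℕ)
    (hmem : ∀ k : Matrix (Fin n) (Fin n) F, k ∈ K' ↔ k ∈ K ∧ k ^ j = k)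
    (hH : H ≤ subalgebraNormalizer K) : H ≤ subalgebraNormalizer K' := by
  intro g hg k
  have h1 : k ∈ K ↔ (g : Matrix (Fin n) (Fin n) F) * k *
      ((g⁻¹ : GL (Fin n) F) : Matrix (Fin n) (Fin n) F) ∈ K := hH hg k
  rw [hmem, hmem, ← h1, Cfsg.Agent.Lib.Helper27.AschKF3.conj_pow_mat]
  constructor
  · rintro ⟨hk, hp⟩
    exact ⟨hk, by rw [hp]⟩
  · rintro ⟨hk, hp⟩
    exact ⟨hk, Cfsg.Agent.Lib.Helper27.AschKF3.conj_inj_mat g _ _ hp⟩

/-- (F2) the adjoint of a power. -/
theorem adjM_pow (hd : J.det ≠ 0) (T : Matrix (Fin n) (Fin n) F) (j : ℕ) :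
    adjM J (T ^ j) = adjM J T ^ j := by
  induction j with
  | zero => rw [pow_zero, pow_zero, adjM_one hd]
  | succ j ih => rw [pow_succ, adjM_mul hd, ih, pow_succ']

/-- a field subalgebra has no zero divisors -/
lemma field_eq_zero_or {r : ℕ} (K : Subalgebra F (Matrix (Fin n) (Fin n) F))
    (hK : IsFieldSubalgebra r K) {x y : Matrix (Fin n) (Fin n) F} (hx : x ∈ K) (hy : y ∈ K)
    (hxy : x * y = 0) : x = 0 ∨ y = 0 := by
  by_cases hx0 : x = 0
  · exact Or.inl hx0
  · right
    obtain ⟨z, hz, hxz⟩ := hK.inv x hx hx0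
    have h1 : z * x = 1 := by rw [hK.comm z hz x hx]; exact hxz
    calc y = (z * x) * y := by rw [h1, one_mul]
      _ = z * (x * y) := by rw [mul_assoc]
      _ = 0 := by rw [hxy, mul_zero]

/-- (F4) a self-adjoint field subalgebra: `f(k v, v) = 0`. -/
theorem selfadj_zero (hJ : IsAltGram J) {r : ℕ} (K : Subalgebra F (Matrix (Fin n) (Fin n) F))
    (hK : IsFieldSubalgebra r K) (hsa : ∀ k ∈ K, adjM J k = k) :
    ∀ k ∈ K, ∀ v : Fin n → F, bfm J (k *ᵥ v) v = 0 := by
  intro k hk v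
  by_cases h2 : (2 : F) = 0
  · -- squaring is injective on the finite field `K`, hence surjective
    have hinj : Function.Injective (fun x : K => x * x) := by
      intro x y hxy
      have hxy' : x.1 * x.1 = y.1 * y.1 := congrArg Subtype.val hxy
      have hc : x.1 * y.1 = y.1 * x.1 := hK.comm x.1 x.2 y.1 y.2
      have h2' : (2 : Matrix (Fin n) (Fin n) F) = 0 := by
        have : ((2 : F) • (1 : Matrix (Fin n) (Fin n) F)) = 0 := by rw [h2, zero_smul]
        rw [← this, two_smul]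
        norm_num
      have hsq : (x.1 - y.1) * (x.1 - y.1) = 0 := by
        have : (x.1 - y.1) * (x.1 - y.1) = x.1 * x.1 - 2 * (x.1 * y.1) + y.1 * y.1 := by
          rw [sub_mul, mul_sub, mul_sub, ← hc]
          noncomm_ring
        rw [this, h2', zero_mul, sub_zero, hxy']
        have : y.1 * y.1 + y.1 * y.1 = 2 * (y.1 * y.1) := by rw [two_mul]
        rw [this, h2', zero_mul]
      have hmem : x.1 - y.1 ∈ K := K.sub_mem x.2 y.2
      rcases field_eq_zero_or K hK hmem hmem hsq with h | h <;>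
        exact Subtype.ext (sub_eq_zero.1 h)
    have hsurj : Function.Surjective (fun x : K => x * x) := Finite.injective_iff_surjective.1 hinj
    obtain ⟨l, hl⟩ := hsurj ⟨k, hk⟩
    have hl' : l.1 * l.1 = k := congrArg Subtype.val hl
    rw [← hl', ← Matrix.mulVec_mulVec, bfm_adjM hJ.det, hsa l.1 l.2]
    exact bfm_self hJ _
  · have h1 : bfm J (k *ᵥ v) v = bfm J v (k *ᵥ v) := by
      rw [bfm_adjM hJ.det, hsa k hk]
    have h3 : bfm J v (k *ᵥ v) = - bfm J (k *ᵥ v) v := bfm_skew hJ _ _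
    have h4 : (2 : F) * bfm J (k *ᵥ v) v = 0 := by
      rw [two_mul]
      nth_rewrite 1 [h1]
      rw [h3, neg_add_cancel]
    rcases mul_eq_zero.1 h4 with h | h
    · exact absurd h h2
    · exact h

/-- (F7) `k ^ (q ^ r) = k` and `r ∣ d₀` give `k ^ (q ^ d₀) = k`. -/
theorem pow_card_of_dvd {r d₀ : ℕ} (hr : r ∣ d₀) (q : ℕ) (k : Matrix (Fin n) (Fin n) F)
    (hk : k ^ (q ^ r) = k) : k ^ (q ^ d₀) = k := by
  obtain ⟨c, rfl⟩ := hr
  induction c with
  | zero => rw [mul_zero, pow_zero, pow_one]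
  | succ c ih => rw [mul_add, mul_one, pow_add, pow_mul, ih, hk]

/-- in an extension of the finite field `F`, the solutions of `x ^ |F| = x` are the elements of `F` -/
lemma mem_range_of_pow_card {E : Type*} [Field E] [Algebra F E] (x : E)
    (hx : x ^ Fintype.card F = x) : ∃ c : F, algebraMap F E c = x := by
  classical
  have hq : 1 < Fintype.card F := Fintype.one_lt_card
  have hp0 : (Polynomial.X ^ Fintype.card F - Polynomial.X : Polynomial E) ≠ 0 :=
    FiniteField.X_pow_card_sub_X_ne_zero E hq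
  have hdeg : (Polynomial.X ^ Fintype.card F - Polynomial.X : Polynomial E).natDegree =
      Fintype.card F := FiniteField.X_pow_card_sub_X_natDegree_eq E hq
  have hroot : ∀ y : E, y ^ Fintype.card F = y →
      y ∈ (Polynomial.X ^ Fintype.card F - Polynomial.X : Polynomial E).roots.toFinset := by
    intro y hy
    rw [Multiset.mem_toFinset, Polynomial.mem_roots hp0]
    simp [Polynomial.IsRoot, hy]
  have himg : Finset.image (algebraMap F E) Finset.univ ⊆
      (Polynomial.X ^ Fintype.card F - Polynomial.X : Polynomial E).roots.toFinset := by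
    intro y hy
    obtain ⟨c, _, rfl⟩ := Finset.mem_image.1 hy
    apply hroot
    rw [← map_pow, FiniteField.pow_card]
  have hcard : (Finset.image (algebraMap F E) Finset.univ).card = Fintype.card F := by
    rw [Finset.card_image_of_injective _ (algebraMap F E).injective, Finset.card_univ]
  have hle : (Polynomial.X ^ Fintype.card F - Polynomial.X : Polynomial E).roots.toFinset.card ≤
      Fintype.card F := by
    calc (Polynomial.X ^ Fintype.card F - Polynomial.X : Polynomial E).roots.toFinset.card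
        ≤ Multiset.card (Polynomial.X ^ Fintype.card F - Polynomial.X : Polynomial E).roots :=
          Multiset.toFinset_card_le _
      _ ≤ (Polynomial.X ^ Fintype.card F - Polynomial.X : Polynomial E).natDegree :=
          Polynomial.card_roots' _
      _ = Fintype.card F := hdeg
  have heq := Finset.eq_of_subset_of_card_le himg (by rw [hcard]; exact hle)
  have h1 := hroot x hx
  rw [← heq] at h1
  obtain ⟨c, _, hc⟩ := Finset.mem_image.1 h1
  exact ⟨c, hc⟩

/-- (F9a) in a field subalgebra the solutions of `k ^ q = k`, `q = |F|`, are the scalars. -/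
theorem scalar_of_pow_card {d : ℕ} (K : Subalgebra F (Matrix (Fin n) (Fin n) F))
    (hK : IsFieldSubalgebra d K) (k : Matrix (Fin n) (Fin n) F) (hk : k ∈ K)
    (hpow : k ^ Fintype.card F = k) : ∃ c : F, k = c • (1 : Matrix (Fin n) (Fin n) F) := by
  rcases Nat.eq_zero_or_pos d with hd | hd
  · -- `K` is trivial, so `1 = 0`
    have h0 : Module.finrank F K = 0 := by rw [hK.finrank_eq, hd]
    have hss : Subsingleton K := Module.finrank_zero_iff.1 h0
    have h10 : (1 : K) = 0 := Subsingleton.elim _ _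
    have h10' : (1 : Matrix (Fin n) (Fin n) F) = 0 := congrArg Subtype.val h10
    refine ⟨0, ?_⟩
    rw [zero_smul, ← mul_one k, h10', mul_zero]
  · obtain ⟨E, iE, iA, ρ, hinj, hrange, hfr⟩ :=
      Cfsg.Agent.Lib.Helper27.AschKF3.exists_model d hd K hK
    have hkr : k ∈ ρ.range := by rw [hrange]; exact hk
    obtain ⟨x, rfl⟩ := hkr
    have hx : x ^ Fintype.card F = x := by
      apply hinj
      rw [map_pow]
      exact hpow
    obtain ⟨c, rfl⟩ := mem_range_of_pow_card x hx
    refine ⟨c, ?_⟩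
    have h1 : ρ (algebraMap F E c) = algebraMap F (Matrix (Fin n) (Fin n) F) c := ρ.commutes c
    have h2 : algebraMap F (Matrix (Fin n) (Fin n) F) c = c • (1 : Matrix (Fin n) (Fin n) F) :=
      Algebra.algebraMap_eq_smul_one c
    exact h1.trans h2

/-- (F9c) a conjugate of `k₀` inside the quadratic field `K` is `k₀` or its adjoint `k₀^q`. -/
theorem conj_eq_or_eq_adj (hJ : IsAltGram J) (K : Subalgebra F (Matrix (Fin n) (Fin n) F))
    (hK : IsFieldSubalgebra 2 K) (hfrob : ∀ k ∈ K, adjM J k = k ^ Fintype.card F)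
    (hsc : ∀ k ∈ K, k ^ Fintype.card F = k → ∃ c : F, k = c • (1 : Matrix (Fin n) (Fin n) F))
    (k₀ : Matrix (Fin n) (Fin n) F) (hk₀ : k₀ ∈ K) (g : GL (Fin n) F) (hg : g ∈ subalgebraNormalizer K) :
    ((g⁻¹ : GL (Fin n) F) : Matrix (Fin n) (Fin n) F) * k₀ * (g : Matrix (Fin n) (Fin n) F) = k₀ ∨
    ((g⁻¹ : GL (Fin n) F) : Matrix (Fin n) (Fin n) F) * k₀ * (g : Matrix (Fin n) (Fin n) F) = adjM J k₀ := by
  set k' : Matrix (Fin n) (Fin n) F :=
    ((g⁻¹ : GL (Fin n) F) : Matrix (Fin n) (Fin n) F) * k₀ * (g : Matrix (Fin n) (Fin n) F) with hk'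
  have hgi : ((g⁻¹ : GL (Fin n) F) : Matrix (Fin n) (Fin n) F) * (g : Matrix (Fin n) (Fin n) F) = 1 := by
    rw [← Units.val_mul, inv_mul_cancel, Units.val_one]
  have hk'K : k' ∈ K := by
    have h1 := (subalgebraNormalizer K).inv_mem hg k₀
    rw [inv_inv] at h1
    exact h1.1 hk₀
  have ha : adjM J k₀ ∈ K := by rw [hfrob k₀ hk₀]; exact K.pow_mem hk₀ _
  -- trace and norm are scalars
  have hs : (k₀ + adjM J k₀) ^ Fintype.card F = k₀ + adjM J k₀ := by
    rw [← hfrob _ (K.add_mem hk₀ ha), adjM_add, adjM_adjM hJ, add_comm]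
  have hp : (k₀ * adjM J k₀) ^ Fintype.card F = k₀ * adjM J k₀ := by
    rw [← hfrob _ (K.mul_mem hk₀ ha), adjM_mul hJ.det, adjM_adjM hJ]
  obtain ⟨a, hsa⟩ := hsc _ (K.add_mem hk₀ ha) hs
  obtain ⟨b, hpb⟩ := hsc _ (K.mul_mem hk₀ ha) hp
  -- the quadratic relation
  have hq0 : k₀ * k₀ - (a • (1 : Matrix (Fin n) (Fin n) F)) * k₀ + b • (1 : Matrix (Fin n) (Fin n) F) = 0 := by
    rw [← hsa, ← hpb, add_mul, hK.comm _ ha _ hk₀]
    abel
  have hq' : k' * k' - (a • (1 : Matrix (Fin n) (Fin n) F)) * k' + b • (1 : Matrix (Fin n) (Fin n) F) = 0 := by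
    have h1 := congrArg (fun T => ((g⁻¹ : GL (Fin n) F) : Matrix (Fin n) (Fin n) F) * T *
      (g : Matrix (Fin n) (Fin n) F)) hq0
    simp only [mul_zero, zero_mul] at h1
    rw [← h1, hk']
    have e1 : ((g⁻¹ : GL (Fin n) F) : Matrix (Fin n) (Fin n) F) * k₀ * (g : Matrix (Fin n) (Fin n) F) *
        (((g⁻¹ : GL (Fin n) F) : Matrix (Fin n) (Fin n) F) * k₀ * (g : Matrix (Fin n) (Fin n) F)) =
        ((g⁻¹ : GL (Fin n) F) : Matrix (Fin n) (Fin n) F) * (k₀ * k₀) * (g : Matrix (Fin n) (Fin n) F) := by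
      have hgi' : (g : Matrix (Fin n) (Fin n) F) * ((g⁻¹ : GL (Fin n) F) : Matrix (Fin n) (Fin n) F) = 1 := by
        rw [← Units.val_mul, mul_inv_cancel, Units.val_one]
      calc ((g⁻¹ : GL (Fin n) F) : Matrix (Fin n) (Fin n) F) * k₀ * (g : Matrix (Fin n) (Fin n) F) *
          (((g⁻¹ : GL (Fin n) F) : Matrix (Fin n) (Fin n) F) * k₀ * (g : Matrix (Fin n) (Fin n) F))
          = ((g⁻¹ : GL (Fin n) F) : Matrix (Fin n) (Fin n) F) * k₀ *
            ((g : Matrix (Fin n) (Fin n) F) * ((g⁻¹ : GL (Fin n) F) : Matrix (Fin n) (Fin n) F)) * k₀ *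
            (g : Matrix (Fin n) (Fin n) F) := by simp only [mul_assoc]
        _ = _ := by rw [hgi', mul_one]; simp only [mul_assoc]
    rw [e1]
    simp only [mul_add, add_mul, mul_sub, sub_mul, Matrix.smul_mul, Matrix.mul_smul, one_mul, mul_one,
      hgi]
  -- factorisation
  have hfac : (k' - k₀) * (k' - adjM J k₀) = 0 := by
    have e : (k' - k₀) * (k' - adjM J k₀) =
        k' * k' - (k₀ + adjM J k₀) * k' + k₀ * adjM J k₀ := by
      rw [sub_mul, mul_sub, mul_sub, add_mul, hK.comm _ hk'K _ ha]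
      abel
    rw [e, hsa, hpb]
    exact hq'
  rcases field_eq_zero_or K hK (K.sub_mem hk'K hk₀) (K.sub_mem hk'K ha) hfac with h | h
  · exact Or.inl (sub_eq_zero.1 h)
  · exact Or.inr (sub_eq_zero.1 h)

end Cfsg.Agent.Lib.Helper7.SpAschLeaf
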