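import Mathlib
import Cfsg.Prelude.Def_GeometricClasses
import Cfsg.Agent.Lib.Helper20.AschDefs
import Cfsg.Agent.Lib.Helper29.SpAschDefs
import Cfsg.Agent.Lib.Helper29.SpAschTools
import Cfsg.Agent.Lib.Helper18.OAschDefs
import Cfsg.Agent.Lib.Helper18.OAschG
import Cfsg.Agent.Lib.Helper7.SpAschF

/-!
S5673 (Aschbacher for `Ω_{2m+1}(q)`, planner helper18), packet O-FLD (the field case): leaves `zcen_adj`, `selfadj_of_odd`,
`mem_of_commute_full_field`, `pm_one_of_selfadj_isom`, `normalizer_sub`, `isSelfAdjointFor_of_adj`, by helper7.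
By-products: `adjM_adjM_symm`, `adjM_injective_symm`, `field_mulVec_surjective`.
-/

set_option autoImplicit false
set_option linter.unusedSectionVars false
set_option linter.unusedVariables false

namespace Cfsg.Agent.Lib.Helper7.OAschLeaf
open Matrix Cfsg Cfsg.Geo Cfsg.Agent.Lib.Helper20.Asch Cfsg.Agent.Lib.Helper29.SpAsch Cfsg.Agent.Lib.Helper18.OAsch

variable {F : Type*} [Field F] [Fintype F] {n : ℕ} {G : Matrix (Fin n) (Fin n) F} {H N : Subgroup (GL (Fin n) F)}

/-- for a symmetric invertible Gram matrix the adjoint is an involution -/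
lemma adjM_adjM_symm (hs : Gᵀ = G) (hd : G.det ≠ 0) (T : Matrix (Fin n) (Fin n) F) :
    adjM G (adjM G T) = T := by
  unfold adjM
  rw [Matrix.transpose_mul, Matrix.transpose_mul, Matrix.transpose_transpose,
    Matrix.transpose_nonsing_inv, hs]
  calc G⁻¹ * (G * (T * G⁻¹)) * G = (G⁻¹ * G) * T * (G⁻¹ * G) := by simp only [mul_assoc]
    _ = T := by rw [J_inv_mul hd, one_mul, mul_one]

lemma adjM_injective_symm (hs : Gᵀ = G) (hd : G.det ≠ 0) : Function.Injective (adjM G) := by
  intro S T h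
  rw [← adjM_adjM_symm hs hd S, ← adjM_adjM_symm hs hd T, h]

/-- FLD1 -/
theorem zcen_adj (hs : Gᵀ = G) (hd : G.det ≠ 0) (hNI : N ≤ isoG G) {T : Matrix (Fin n) (Fin n) F} (hT : T ∈ ZCen N) :
    adjM G T ∈ ZCen N := by
  rw [mem_ZCen] at hT ⊢
  refine ⟨adjM_mem_Cen hd hNI hT.1, ?_⟩
  intro S hS
  have h1 := hT.2 (adjM G S) (adjM_mem_Cen hd hNI hS)
  have h2 := congrArg (adjM G) h1
  rw [adjM_mul hd, adjM_mul hd, adjM_adjM_symm hs hd] at h2
  exact h2.symm

/-- FLD2 -/
theorem selfadj_of_odd (hs : Gᵀ = G) (hd : G.det ≠ 0) (h2 : (2 : F) ≠ 0) (K : Subalgebra F (Matrix (Fin n) (Fin n) F))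
    (d : ℕ) (hK : IsFieldSubalgebra d K) (hodd : Odd d) (hadj : ∀ T ∈ K, adjM G T ∈ K) :
    ∀ T ∈ K, adjM G T = T := by
  intro a ha
  by_contra hne
  -- the anti-symmetric element
  set b : Matrix (Fin n) (Fin n) F := a - adjM G a with hb
  have hbK : b ∈ K := K.sub_mem ha (hadj a ha)
  have hb0 : b ≠ 0 := by
    intro h0
    apply hne
    rw [hb, sub_eq_zero] at h0
    exact h0.symm
  have hbadj : adjM G b = -b := by
    rw [hb, adjM_sub, adjM_adjM_symm hs hd, neg_sub]
  obtain ⟨y, hyK, hby⟩ := hK.inv b hbK hb0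
  -- the adjoint as a linear map on `K`
  let φ : K →ₗ[F] K :=
    { toFun := fun T => ⟨adjM G T.1, hadj T.1 T.2⟩
      map_add' := by
        intro S T
        apply Subtype.ext
        simp only [Subalgebra.coe_add]
        exact adjM_add S.1 T.1
      map_smul' := by
        intro c T
        apply Subtype.ext
        simp only [Subalgebra.coe_smul, RingHom.id_apply]
        exact adjM_smul c T.1 }
  let θ : K →ₗ[F] K := LinearMap.mulLeft F (⟨b, hbK⟩ : K)
  let θ' : K →ₗ[F] K := LinearMap.mulLeft F (⟨y, hyK⟩ : K)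
  have hφφ : φ * φ = 1 := by
    apply LinearMap.ext
    intro T
    apply Subtype.ext
    change adjM G (adjM G T.1) = T.1
    exact adjM_adjM_symm hs hd T.1
  have hθθ : θ * θ' = 1 := by
    apply LinearMap.ext
    intro T
    apply Subtype.ext
    change b * (y * T.1) = T.1
    rw [← mul_assoc, hby, one_mul]
  have hanti : φ * θ = (-1 : F) • (θ * φ) := by
    apply LinearMap.ext
    intro T
    apply Subtype.ext
    change adjM G (b * T.1) = (-1 : F) • (b * adjM G T.1)
    rw [adjM_mul hd, hbadj, hK.comm b hbK _ (hadj T.1 T.2)]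
    simp
  have hdet := congrArg LinearMap.det hanti
  rw [LinearMap.det_smul, map_mul, map_mul, hK.finrank_eq, hodd.neg_one_pow] at hdet
  have hφ1 : LinearMap.det φ * LinearMap.det φ = 1 := by
    rw [← map_mul, hφφ, map_one]
  have hθ1 : LinearMap.det θ * LinearMap.det θ' = 1 := by
    rw [← map_mul, hθθ, map_one]
  have hφ0 : LinearMap.det φ ≠ 0 := left_ne_zero_of_mul_eq_one hφ1
  have hθ0 : LinearMap.det θ ≠ 0 := left_ne_zero_of_mul_eq_one hθ1
  have h3 : (2 : F) * (LinearMap.det φ * LinearMap.det θ) = 0 := by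
    have : LinearMap.det φ * LinearMap.det θ + LinearMap.det φ * LinearMap.det θ = 0 := by
      nth_rewrite 1 [hdet]
      ring
    rw [two_mul]
    exact this
  rcases mul_eq_zero.mp h3 with h | h
  · exact h2 h
  · rcases mul_eq_zero.mp h with h | h
    · exact hφ0 h
    · exact hθ0 h

/-- for a field subalgebra `K` of full degree `n`, every vector is `k v` for any fixed `v ≠ 0` -/
lemma field_mulVec_surjective (K : Subalgebra F (Matrix (Fin n) (Fin n) F)) (hK : IsFieldSubalgebra n K)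
    {v : Fin n → F} (hv : v ≠ 0) (w : Fin n → F) : ∃ k ∈ K, k *ᵥ v = w := by
  let ev : K →ₗ[F] (Fin n → F) :=
    { toFun := fun k => k.1 *ᵥ v
      map_add' := by
        intro S T
        simp only [Subalgebra.coe_add]
        exact Matrix.add_mulVec _ _ _
      map_smul' := by
        intro c T
        simp only [Subalgebra.coe_smul, RingHom.id_apply]
        exact Matrix.smul_mulVec c _ _ }
  have hinj : Function.Injective ev := by
    rw [← LinearMap.ker_eq_bot, LinearMap.ker_eq_bot']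
    intro k hk
    by_contra hk0
    have hk0' : k.1 ≠ 0 := fun h => hk0 (Subtype.ext h)
    obtain ⟨y, hyK, hky⟩ := hK.inv k.1 k.2 hk0'
    have hyk : y * k.1 = 1 := by rw [hK.comm y hyK k.1 k.2]; exact hky
    apply hv
    have hk' : k.1 *ᵥ v = 0 := hk
    calc v = (y * k.1) *ᵥ v := by rw [hyk, Matrix.one_mulVec]
      _ = y *ᵥ (k.1 *ᵥ v) := by rw [Matrix.mulVec_mulVec]
      _ = 0 := by rw [hk', Matrix.mulVec_zero]
  have hfin : Module.finrank F K = Module.finrank F (Fin n → F) := by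
    rw [hK.finrank_eq, Module.finrank_fin_fun]
  have : FiniteDimensional F K := FiniteDimensional.finiteDimensional_submodule (Subalgebra.toSubmodule K)
  have hsurj : Function.Surjective ev :=
    (LinearMap.injective_iff_surjective_of_finrank_eq_finrank hfin).mp hinj
  obtain ⟨k, hk⟩ := hsurj w
  exact ⟨k.1, k.2, hk⟩

/-- FLD3 -/
theorem mem_of_commute_full_field (hn : 0 < n) (K : Subalgebra F (Matrix (Fin n) (Fin n) F)) (hK : IsFieldSubalgebra n K)
    (T : Matrix (Fin n) (Fin n) F) (hT : ∀ S ∈ K, T * S = S * T) : T ∈ K := by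
  set v : Fin n → F := Pi.single ⟨0, hn⟩ 1 with hv
  have hv0 : v ≠ 0 := by
    intro h
    have := congrFun h ⟨0, hn⟩
    rw [hv, Pi.single_eq_same, Pi.zero_apply] at this
    exact one_ne_zero this
  obtain ⟨k, hkK, hk⟩ := field_mulVec_surjective K hK hv0 (T *ᵥ v)
  have hTk : T = k := by
    apply Matrix.toLin'.injective
    apply LinearMap.ext
    intro w
    rw [Matrix.toLin'_apply, Matrix.toLin'_apply]
    obtain ⟨k', hk'K, hk'⟩ := field_mulVec_surjective K hK hv0 w
    rw [← hk', Matrix.mulVec_mulVec, Matrix.mulVec_mulVec, hT k' hk'K, hK.comm k hkK k' hk'K,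
      ← Matrix.mulVec_mulVec, ← Matrix.mulVec_mulVec, hk]
  rw [hTk]
  exact hkK

/-- FLD4 -/
theorem pm_one_of_selfadj_isom (hd : G.det ≠ 0) (K : Subalgebra F (Matrix (Fin n) (Fin n) F)) {d : ℕ}
    (hK : IsFieldSubalgebra d K) (hsa : ∀ T ∈ K, adjM G T = T) {x : GL (Fin n) F} (hx : x ∈ isoG G)
    (hxK : (x : Matrix (Fin n) (Fin n) F) ∈ K) : x ∈ scalars (Fin n) F := by
  have h1 : ((x⁻¹ : GL (Fin n) F) : Matrix (Fin n) (Fin n) F) = (x : Matrix (Fin n) (Fin n) F) := by
    rw [← adjM_of_mem hd hx, hsa _ hxK]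
  have h2 : (x : Matrix (Fin n) (Fin n) F) * (x : Matrix (Fin n) (Fin n) F) = 1 := by
    nth_rewrite 2 [← h1]
    rw [← Units.val_mul, mul_inv_cancel, Units.val_one]
  have h3 : ((x : Matrix (Fin n) (Fin n) F) - 1) * ((x : Matrix (Fin n) (Fin n) F) + 1) = 0 := by
    rw [sub_mul, mul_add, mul_add, h2, mul_one, one_mul, one_mul]
    abel
  rw [mem_scalars_iff]
  rcases Cfsg.Agent.Lib.Helper7.SpAschLeaf.field_eq_zero_or K hK (K.sub_mem hxK K.one_mem)
    (K.add_mem hxK K.one_mem) h3 with h | h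
  · refine ⟨1, ?_⟩
    rw [Units.val_one, one_smul]
    exact sub_eq_zero.mp h
  · refine ⟨-1, ?_⟩
    rw [Units.val_neg, Units.val_one, neg_smul, one_smul]
    exact eq_neg_of_add_eq_zero_left h

/-- FLD5 -/
theorem normalizer_sub (K K' : Subalgebra F (Matrix (Fin n) (Fin n) F)) (r : ℕ)
    (hmem : ∀ k : Matrix (Fin n) (Fin n) F, k ∈ K' ↔ k ∈ K ∧ k ^ (Fintype.card F ^ r) = k)
    (hH : H ≤ subalgebraNormalizer K) : H ≤ subalgebraNormalizer K' :=
  Cfsg.Agent.Lib.Helper7.SpAschLeaf.sub_normalized K K' (Fintype.card F ^ r) hmem hH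

/-- FLD6 -/
theorem isSelfAdjointFor_of_adj (hd : G.det ≠ 0) (K : Subalgebra F (Matrix (Fin n) (Fin n) F))
    (h : ∀ T ∈ K, adjM G T = T) : IsSelfAdjointFor (bfm G) K :=
  (isSelfAdjointFor_iff hd K).mpr h

end Cfsg.Agent.Lib.Helper7.OAschLeaf
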