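import Mathlib
import Cfsg.Prelude.Def_ClassicalGeometry
import Cfsg.Prelude.Def_GeometricClasses
import Cfsg.Agent.Lib.Helper5.SpMax
import Cfsg.Agent.Lib.Helper22.C3sDefs

/-!
S5664 leaf C3sA (`exists_nonperp`), core form: the leaves SK (`mem_normalizer_of_lines`) and TR
(`exists_kt_map`) are hypotheses, stated verbatim.
-/

set_option autoImplicit false
set_option linter.unusedSectionVars false
set_option linter.unusedVariables false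

namespace Cfsg.Agent.Lib.Helper7.C3sLeaf
open Cfsg Matrix Module Cfsg.Agent.Lib.Helper5 Cfsg.Agent.Lib.Helper5.SpMax
  Cfsg.Agent.Lib.Helper22.C3 Cfsg.Agent.Lib.Helper22.C3s

universe u
variable {F : Type u} [Field F] {m : ℕ} {E : Type u} [Field E] [Algebra F E]

local notation "𝕍" => (Fin m ⊕ Fin m → F)
local notation "𝕄" => Matrix (Fin m ⊕ Fin m) (Fin m ⊕ Fin m) F

/-- a matrix commuting with `E` commutes with the action -/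
lemma c3sA_comm_act (S : KS m F E) (s : 𝕄) (hc : ∀ e : E, s * S.ρ e = S.ρ e * s) (e : E) (v : 𝕍) :
    s *ᵥ (S.act e v) = S.act e (s *ᵥ v) := by
  rw [S.act_def, S.act_def, Matrix.mulVec_mulVec, hc e, ← Matrix.mulVec_mulVec]

/-- two `E`-independent vectors are separated by the form -/
lemma c3sA_exists_sep (S : KS m F E) {v₀ y : 𝕍} (hv₀ : v₀ ≠ 0) (hy : y ∉ S.line v₀) :
    ∃ z : 𝕍, S.fE z v₀ = 0 ∧ S.fE y z ≠ 0 := by
  by_contra hcon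
  push Not at hcon
  obtain ⟨u, hu⟩ := S.fE_surj hv₀ 1
  have huv : S.fE u v₀ = -1 := by rw [S.skew, hu]
  have key : ∀ z : 𝕍, S.fE y z = S.fE (S.act (S.fE y u) v₀) z := by
    intro z
    have hz' : S.fE (z + S.act (S.fE z v₀) u) v₀ = 0 := by
      rw [S.add_left, S.fE_smul_left, huv]
      ring
    have h2 := hcon _ hz'
    rw [S.fE_add_right, S.fE_smul_right] at h2
    rw [S.fE_smul_left, S.skew v₀ z]
    linear_combination h2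
  apply hy
  have hzero : y - S.act (S.fE y u) v₀ = 0 := by
    by_contra hne
    obtain ⟨z, hz⟩ := S.fE_nondeg hne
    apply hz
    rw [S.fE_sub_left, key z, sub_self]
  rw [sub_eq_zero.mp hzero]
  exact S.act_mem_line _ _

/-- the space is non-trivial -/
lemma c3sA_pos {v₀ : 𝕍} (hv₀ : v₀ ≠ 0) : 0 < m := by
  by_contra h
  have hm : m = 0 := by omega
  subst hm
  apply hv₀
  funext i
  rcases i with i | i <;> exact i.elim0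

theorem exists_nonperp_core (S : KS m F E) (M : Subgroup (GL (Fin m ⊕ Fin m) F))
    (hMS : M ≤ spGL m F)
    (hM : ∀ g ∈ spGL m F, (∀ e : E, (g : 𝕄) * S.ρ e = S.ρ e * (g : 𝕄)) → g ∈ M)
    (SK : ∀ g : GL (Fin m ⊕ Fin m) F,
      (∀ (v : 𝕍) (e : E), ∃ e' : E, (g : 𝕄) *ᵥ (S.act e v) = S.act e' ((g : 𝕄) *ᵥ v)) →
        g ∈ Cfsg.Geo.subalgebraNormalizer S.ρ.range)
    (TR : ∀ {u u' : 𝕍}, u ≠ 0 → u' ≠ 0 →
      ∃ s : GL (Fin m ⊕ Fin m) F, s ∈ spGL m F ∧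
        (∀ e : E, (s : 𝕄) * S.ρ e = S.ρ e * (s : 𝕄)) ∧ (s : 𝕄) *ᵥ u = u')
    (hnot : ¬ M ≤ Cfsg.Geo.subalgebraNormalizer S.ρ.range) {v₀ : 𝕍} (hv₀ : v₀ ≠ 0) :
    ∃ g ∈ M, S.line v₀ ⊓ img g (S.line v₀) ≠ ⊥ ∧ ¬ img g (S.line v₀) ≤ perp (S.line v₀) := by
  classical
  -- an element of `M` outside the normaliser and a line not mapped into a line
  have hnot' : ∃ g₀ ∈ M, g₀ ∉ Cfsg.Geo.subalgebraNormalizer S.ρ.range := by
    by_contra h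
    push Not at h
    exact hnot (fun g hg => h g hg)
  obtain ⟨g₀, hg₀M, hg₀N⟩ := hnot'
  have h1 : ∃ (v₁ : 𝕍) (e : E), ∀ e' : E,
      (g₀ : 𝕄) *ᵥ (S.act e v₁) ≠ S.act e' ((g₀ : 𝕄) *ᵥ v₁) := by
    by_contra h
    push Not at h
    exact hg₀N (SK g₀ h)
  obtain ⟨v₁, e, he⟩ := h1
  have hv₁ : v₁ ≠ 0 := by
    rintro rfl
    apply he 0
    rw [S.act_vzero, Matrix.mulVec_zero, S.act_vzero]
  obtain ⟨x, hx⟩ : ∃ x : 𝕍, x = (g₀ : 𝕄) *ᵥ v₁ := ⟨_, rfl⟩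
  have hx0 : x ≠ 0 := by
    intro h
    apply hv₁
    rw [← inv_mul_mulVec g₀ v₁, ← hx, h, Matrix.mulVec_zero]
  obtain ⟨s₁, hs₁S, hs₁c, hs₁v⟩ := TR hv₀ hv₁
  obtain ⟨s₂, hs₂S, hs₂c, hs₂v⟩ := TR hx0 hv₀
  have hs₁M := hM s₁ hs₁S hs₁c
  have hs₂M := hM s₂ hs₂S hs₂c
  obtain ⟨g, hg⟩ : ∃ g : GL (Fin m ⊕ Fin m) F, g = s₂ * g₀ * s₁ := ⟨_, rfl⟩
  have hgM : g ∈ M := by
    rw [hg]
    exact M.mul_mem (M.mul_mem hs₂M hg₀M) hs₁M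
  have hgmul : ∀ w : 𝕍, (g : 𝕄) *ᵥ w = (s₂ : 𝕄) *ᵥ ((g₀ : 𝕄) *ᵥ ((s₁ : 𝕄) *ᵥ w)) := by
    intro w
    rw [hg, Units.val_mul, Units.val_mul, ← Matrix.mulVec_mulVec, ← Matrix.mulVec_mulVec]
  have hgv₀ : (g : 𝕄) *ᵥ v₀ = v₀ := by
    rw [hgmul, hs₁v, ← hx, hs₂v]
  obtain ⟨y, hy⟩ : ∃ y : 𝕍, y = (g : 𝕄) *ᵥ (S.act e v₀) := ⟨_, rfl⟩
  have hy_img : y ∈ img g (S.line v₀) := by
    rw [hy]
    exact mulVec_mem_img (S.act_mem_line e v₀)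
  have hy_not : y ∉ S.line v₀ := by
    intro hyl
    obtain ⟨e'', he''⟩ := S.mem_line.mp hyl
    apply he e''
    have h3 : (s₂ : 𝕄) *ᵥ ((g₀ : 𝕄) *ᵥ (S.act e v₁)) = (s₂ : 𝕄) *ᵥ (S.act e'' x) := by
      rw [c3sA_comm_act S _ hs₂c e'' x, hs₂v, he'', hy, hgmul, c3sA_comm_act S _ hs₁c e v₀, hs₁v]
    have h4 := congrArg (fun w => ((s₂⁻¹ : GL (Fin m ⊕ Fin m) F) : 𝕄) *ᵥ w) h3
    simp only [inv_mul_mulVec] at h4
    rw [h4, hx]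
  have hv₀img : v₀ ∈ img g (S.line v₀) := mem_img.mpr ⟨v₀, S.self_mem_line v₀, hgv₀⟩
  have hne : S.line v₀ ⊓ img g (S.line v₀) ≠ ⊥ := by
    intro h
    have hmem : v₀ ∈ S.line v₀ ⊓ img g (S.line v₀) := ⟨S.self_mem_line v₀, hv₀img⟩
    rw [h] at hmem
    exact hv₀ ((Submodule.mem_bot F).mp hmem)
  by_cases hperp : img g (S.line v₀) ≤ perp (S.line v₀)
  swap
  · exact ⟨g, hgM, hne, hperp⟩
  -- the perpendicular case
  obtain ⟨z, hzv, hyz⟩ := c3sA_exists_sep S hv₀ hy_not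
  obtain ⟨a, ha⟩ := S.exists_tau_ne hv₀ (pow_ne_zero 2 hyz)
  obtain ⟨s, hs⟩ : ∃ s : GL (Fin m ⊕ Fin m) F, s = S.kt z a := ⟨_, rfl⟩
  have hsS : s ∈ spGL m F := by
    rw [hs]
    exact S.kt_mem z a
  have hsM : s ∈ M := by
    apply hM s hsS
    rw [hs]
    exact S.kt_comm z a
  have hsv₀ : (s : 𝕄) *ᵥ v₀ = v₀ := by
    rw [hs, S.kt_mulVec, S.skew v₀ z, hzv, neg_zero, mul_zero, S.act_zero, add_zero]
  have hsy : sympForm m F ((s : 𝕄) *ᵥ y) y ≠ 0 := by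
    rw [hs, S.kt_mulVec, sympForm_add_left, sympForm_self, zero_add, S.form_act_left,
      S.skew z y]
    intro h0
    apply ha
    have e1 : S.fE y z ^ 2 * a = -(a * S.fE y z * -S.fE y z) := by ring
    rw [e1, map_neg, h0, neg_zero]
  obtain ⟨g', hg'⟩ : ∃ g' : GL (Fin m ⊕ Fin m) F, g' = g⁻¹ * s * g := ⟨_, rfl⟩
  have hg'M : g' ∈ M := by
    rw [hg']
    exact M.mul_mem (M.mul_mem (M.inv_mem hgM) hsM) hgM
  have hg'mul : ∀ w : 𝕍, (g' : 𝕄) *ᵥ w =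
      ((g⁻¹ : GL (Fin m ⊕ Fin m) F) : 𝕄) *ᵥ ((s : 𝕄) *ᵥ ((g : 𝕄) *ᵥ w)) := by
    intro w
    rw [hg', Units.val_mul, Units.val_mul, ← Matrix.mulVec_mulVec, ← Matrix.mulVec_mulVec]
  have hginv : ((g⁻¹ : GL (Fin m ⊕ Fin m) F) : 𝕄) *ᵥ v₀ = v₀ := by
    have := inv_mul_mulVec g v₀
    rwa [hgv₀] at this
  have hg'v₀ : (g' : 𝕄) *ᵥ v₀ = v₀ := by
    rw [hg'mul, hgv₀, hsv₀, hginv]
  refine ⟨g', hg'M, ?_, ?_⟩
  · intro h
    have hmem : v₀ ∈ S.line v₀ ⊓ img g' (S.line v₀) :=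
      ⟨S.self_mem_line v₀, mem_img.mpr ⟨v₀, S.self_mem_line v₀, hg'v₀⟩⟩
    rw [h] at hmem
    exact hv₀ ((Submodule.mem_bot F).mp hmem)
  · intro hle
    have hp : (g' : 𝕄) *ᵥ (S.act e v₀) ∈ img g' (S.line v₀) :=
      mulVec_mem_img (S.act_mem_line e v₀)
    have h5 := (mem_perp.mp (hle hp)) (S.act e v₀) (S.act_mem_line e v₀)
    apply hsy
    have hginvS : g⁻¹ ∈ spGL m F := (spGL m F).inv_mem (hMS hgM)
    have h6 := mem_spGL.mp hginvS ((s : 𝕄) *ᵥ y) y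
    have e1 : ((g⁻¹ : GL (Fin m ⊕ Fin m) F) : 𝕄) *ᵥ y = S.act e v₀ := by
      rw [hy, inv_mul_mulVec]
    have e2 : (g' : 𝕄) *ᵥ (S.act e v₀) =
        ((g⁻¹ : GL (Fin m ⊕ Fin m) F) : 𝕄) *ᵥ ((s : 𝕄) *ᵥ y) := by
      rw [hg'mul, ← hy]
    rw [← h6, e1, ← e2]
    exact h5

end Cfsg.Agent.Lib.Helper7.C3sLeaf
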