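import Mathlib
import Cfsg.Prelude.Def_ClassicalGeometry
import Cfsg.Prelude.Def_GeometricClasses
import Cfsg.Agent.Lib.Helper5.SpMax
import Cfsg.Agent.Lib.Helper22.C3sDefs
import Cfsg.Agent.Lib.Helper1.C3sSK
import Cfsg.Agent.Lib.Helper23.C3sTR
import Cfsg.Agent.Lib.Helper7.C3sAcore

/-!
S5664 leaf C3sA (`exists_nonperp`), exact signature: the core form of `C3sAcore` with helper1's SK
(`mem_normalizer_of_lines`) and helper23's TR (`exists_kt_map`) plugged in.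
-/

set_option autoImplicit false
set_option linter.unusedSectionVars false
set_option linter.unusedVariables false

namespace Cfsg.Agent.Lib.Helper7.C3sLeaf
open Cfsg Matrix Module Cfsg.Agent.Lib.Helper5 Cfsg.Agent.Lib.Helper5.SpMax
  Cfsg.Agent.Lib.Helper22.C3 Cfsg.Agent.Lib.Helper22.C3s

universe u
variable {F : Type u} [Field F] {m : ℕ} {E : Type u} [Field E] [Algebra F E]

local notation "𝕍" => (Fin m ⊕ Fin m → F)
local notation "𝕄" => Matrix (Fin m ⊕ Fin m) (Fin m ⊕ Fin m) F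

/-- A: an image of the base line meeting it non-trivially and not perpendicular to it -/
theorem exists_nonperp (S : KS m F E) (M : Subgroup (GL (Fin m ⊕ Fin m) F)) (hMS : M ≤ spGL m F)
    (hM : ∀ g ∈ spGL m F, (∀ e : E, (g : 𝕄) * S.ρ e = S.ρ e * (g : 𝕄)) → g ∈ M)
    (hnot : ¬ M ≤ Cfsg.Geo.subalgebraNormalizer S.ρ.range) {v₀ : 𝕍} (hv₀ : v₀ ≠ 0) :
    ∃ g ∈ M, S.line v₀ ⊓ img g (S.line v₀) ≠ ⊥ ∧ ¬ img g (S.line v₀) ≤ perp (S.line v₀) :=
  exists_nonperp_core S M hMS hM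
    (fun g h => Cfsg.Agent.Lib.Helper1.C3sLeaf.mem_normalizer_of_lines S (c3sA_pos hv₀) g h)
    (fun hu hu' => Cfsg.Agent.Lib.Helper23.C3sLeaf.exists_kt_map S hu hu')
    hnot hv₀

end Cfsg.Agent.Lib.Helper7.C3sLeaf
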