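import Mathlib
import Cfsg.Prelude.Def_ClassicalGeometry
import Cfsg.Prelude.Def_GeometricClasses
import Cfsg.Agent.Lib.Helper5.SpMax
import Cfsg.Agent.Lib.Helper22.C3sDefs

/-!
S5664 leaf C3sL0 (`exists_KS`): the `E`-structure from the frozen hypotheses, `E := ↥K` with the
field structure given by `hK`, `τ` a matrix entry, `fE` by finite-dimensional duality.
-/

set_option autoImplicit false
set_option linter.unusedSectionVars false
set_option linter.unusedVariables false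

namespace Cfsg.Agent.Lib.Helper7.C3sLeaf
open Cfsg Matrix Module Cfsg.Agent.Lib.Helper5 Cfsg.Agent.Lib.Helper5.SpMax
  Cfsg.Agent.Lib.Helper22.C3 Cfsg.Agent.Lib.Helper22.C3s

universe u
variable {F : Type u} [Field F] {m : ℕ}

local notation "𝕍" => (Fin m ⊕ Fin m → F)
local notation "𝕄" => Matrix (Fin m ⊕ Fin m) (Fin m ⊕ Fin m) F

/-- the trace-like functional: a diagonal entry -/
def l0Tau (K : Subalgebra F 𝕄) (i₀ : Fin m ⊕ Fin m) : ↥K →ₗ[F] F where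
  toFun k := (k : 𝕄) i₀ i₀
  map_add' a b := rfl
  map_smul' c a := rfl

/-- the functional `k ↦ f (k x, y)` -/
def l0Phi (K : Subalgebra F 𝕄) (x y : 𝕍) : ↥K →ₗ[F] F where
  toFun k := sympForm m F ((k : 𝕄) *ᵥ x) y
  map_add' a b := by
    show sympForm m F (((a : 𝕄) + (b : 𝕄)) *ᵥ x) y = _
    rw [Matrix.add_mulVec, sympForm_add_left]
  map_smul' c a := by
    show sympForm m F ((c • (a : 𝕄)) *ᵥ x) y = _
    rw [Matrix.smul_mulVec, sympForm_smul_left]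
    rfl

/-- the pairing `b ↦ (k ↦ τ (k * b))` -/
def l0Psi (K : Subalgebra F 𝕄) (i₀ : Fin m ⊕ Fin m) : ↥K →ₗ[F] (↥K →ₗ[F] F) :=
  ((LinearMap.mul F ↥K).flip).compr₂ (l0Tau K i₀)

lemma l0Psi_apply (K : Subalgebra F 𝕄) (i₀ : Fin m ⊕ Fin m) (b k : ↥K) :
    l0Psi K i₀ b k = l0Tau K i₀ (k * b) := rfl

lemma l0Psi_injective (r : ℕ) (K : Subalgebra F 𝕄) (hK : Cfsg.Geo.IsFieldSubalgebra r K)
    (i₀ : Fin m ⊕ Fin m) : Function.Injective (l0Psi K i₀) := by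
  rw [← LinearMap.ker_eq_bot, LinearMap.ker_eq_bot']
  intro b hb
  by_contra hb0
  have hb0' : (b : 𝕄) ≠ 0 := fun h => hb0 (Subtype.ext h)
  obtain ⟨y, hyK, hy⟩ := hK.inv (b : 𝕄) b.2 hb0'
  have h1 := congrArg (fun φ : ↥K →ₗ[F] F => φ ⟨y, hyK⟩) hb
  simp only [LinearMap.zero_apply] at h1
  rw [l0Psi_apply] at h1
  have h2 : ((⟨y, hyK⟩ : ↥K) * b : ↥K) = 1 := by
    apply Subtype.ext
    show y * (b : 𝕄) = 1
    rw [← hK.comm (b : 𝕄) b.2 y hyK, hy]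
  rw [h2] at h1
  have h3 : l0Tau K i₀ (1 : ↥K) = 1 := by
    show ((1 : 𝕄)) i₀ i₀ = 1
    exact Matrix.one_apply_eq i₀
  rw [h3] at h1
  exact one_ne_zero h1

lemma l0Psi_surjective (r : ℕ) (K : Subalgebra F 𝕄) (hK : Cfsg.Geo.IsFieldSubalgebra r K)
    (i₀ : Fin m ⊕ Fin m) : Function.Surjective (l0Psi K i₀) := by
  have hfin : finrank F ↥K = finrank F (↥K →ₗ[F] F) := (Subspace.dual_finrank_eq).symm
  exact (LinearMap.injective_iff_surjective_of_finrank_eq_finrank hfin).mp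
    (l0Psi_injective r K hK i₀)

lemma l0_core (hm : 0 < m) (r : ℕ) (K : Subalgebra F 𝕄) (hK : Cfsg.Geo.IsFieldSubalgebra r K)
    (hsa : Cfsg.Geo.IsSelfAdjointFor (sympForm m F) K)
    (halt : ∀ k ∈ K, ∀ v : 𝕍, sympForm m F (k *ᵥ v) v = 0) :
    ∃ (τ : ↥K →ₗ[F] F) (fE : 𝕍 → 𝕍 → ↥K),
      (∀ x y z, fE (x + y) z = fE x z + fE y z) ∧
      (∀ (e : ↥K) x y, fE ((e : 𝕄) *ᵥ x) y = e * fE x y) ∧
      (∀ x y, fE x y = - fE y x) ∧ (∀ x, fE x x = 0) ∧
      (∀ (e : ↥K) x y, sympForm m F ((e : 𝕄) *ᵥ x) y = τ (e * fE x y)) := by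
  classical
  obtain ⟨i₀⟩ : Nonempty (Fin m ⊕ Fin m) := ⟨Sum.inl ⟨0, hm⟩⟩
  have hinj := l0Psi_injective r K hK i₀
  have hsurj := l0Psi_surjective r K hK i₀
  choose fE hfE using fun x y : 𝕍 => hsurj (l0Phi K x y)
  have spec : ∀ (x y : 𝕍) (k : ↥K), l0Tau K i₀ (k * fE x y) = sympForm m F ((k : 𝕄) *ᵥ x) y := by
    intro x y k
    have := congrArg (fun φ : ↥K →ₗ[F] F => φ k) (hfE x y)
    exact this
  refine ⟨l0Tau K i₀, fE, ?_, ?_, ?_, ?_, ?_⟩
  · intro x y z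
    apply hinj
    apply LinearMap.ext
    intro k
    rw [map_add, LinearMap.add_apply, l0Psi_apply, l0Psi_apply, l0Psi_apply, spec, spec, spec,
      Matrix.mulVec_add, sympForm_add_left]
  · intro e x y
    apply hinj
    apply LinearMap.ext
    intro k
    rw [l0Psi_apply, l0Psi_apply, spec, ← mul_assoc, spec, Matrix.mulVec_mulVec]
    rfl
  · intro x y
    apply hinj
    apply LinearMap.ext
    intro k
    rw [map_neg, LinearMap.neg_apply, l0Psi_apply, l0Psi_apply, spec, spec, hsa (k : 𝕄) k.2,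
      sympForm_swap]
  · intro x
    apply hinj
    apply LinearMap.ext
    intro k
    rw [map_zero, LinearMap.zero_apply, l0Psi_apply, spec, halt (k : 𝕄) k.2]
  · intro e x y
    rw [spec]

theorem exists_KS (hm : 0 < m) (r : ℕ) (K : Subalgebra F 𝕄) (hK : Cfsg.Geo.IsFieldSubalgebra r K)
    (hsa : Cfsg.Geo.IsSelfAdjointFor (sympForm m F) K)
    (halt : ∀ k ∈ K, ∀ v : 𝕍, sympForm m F (k *ᵥ v) v = 0) :
    ∃ (E : Type u) (_ : Field E) (_ : Algebra F E) (S : KS m F E),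
      S.ρ.range = K ∧ finrank F E = r := by
  classical
  obtain ⟨τ, fE, h1, h2, h3, h4, h5⟩ := l0_core hm r K hK hsa halt
  have hnt : (1 : 𝕄) ≠ 0 := by
    intro h
    have := congrFun (congrFun h (Sum.inl ⟨0, hm⟩)) (Sum.inl ⟨0, hm⟩)
    rw [Matrix.one_apply_eq, Matrix.zero_apply] at this
    exact one_ne_zero this
  have hF : IsField ↥K :=
    { exists_pair_ne := ⟨0, 1, fun h => hnt (congrArg Subtype.val h).symm⟩
      mul_comm := fun x y => Subtype.ext (hK.comm (x : 𝕄) x.2 (y : 𝕄) y.2)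
      mul_inv_cancel := fun {a} ha => by
        have ha' : (a : 𝕄) ≠ 0 := fun h => ha (Subtype.ext h)
        obtain ⟨y, hyK, hy⟩ := hK.inv (a : 𝕄) a.2 ha'
        exact ⟨⟨y, hyK⟩, Subtype.ext hy⟩ }
  letI instF : Field ↥K := hF.toField
  refine ⟨↥K, instF, K.algebra, ?_⟩
  refine ⟨@KS.mk m F _ ↥K instF K.algebra K.val τ fE h1 h2 h3 h4 h5, ?_, ?_⟩
  · exact Subalgebra.range_val K
  · exact hK.finrank_eq

end Cfsg.Agent.Lib.Helper7.C3sLeaf
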