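/-
S4700 + S0996 (BRW market, PART S, planner helper27), leaf BRW-BRIDGE (frozen statement in notes/S4700_S_leaves.lean):
`∑_χ ⟨χ|_N, 1_N⟩² = ⟨1_N^G, 1_N^G⟩` = the number of orbits of `N = N_G(P)` on `G ⧸ N`.
-/
import Mathlib
import Cfsg.Prelude.Def_BlockRank
import Cfsg.Prelude.Def_CaseTheorems
import Cfsg.Agent.Lib.Helper6.BRHDefs
import Cfsg.Agent.Lib.Helper6.BRHB0X
import Cfsg.Agent.Lib.Helper6.Knoerr
import Cfsg.Agent.Lib.Helper24.BRCDefs
import Cfsg.Agent.Lib.Helper27.BRWDefs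
import Cfsg.Agent.Lib.Helper19.CentAlgRank
import Cfsg.Agent.Lib.Helper2.M11PermA
import Cfsg.Agent.Lib.Helper5.BRCSPEC

set_option autoImplicit false

namespace Cfsg.Agent.Lib.Helper7.BRWBRIDGE

open Cfsg Cfsg.Agent.Lib.Helper8.DOM Cfsg.Agent.Lib.Helper27.DO Cfsg.Agent.CharLib
open Cfsg.Agent.Lib.Helper6.BRH Cfsg.Agent.Lib.Helper27.BRW Cfsg.Agent.Lib.Helper24.BRC
open scoped ComplexConjugate

universe u

variable {G : Type u} [Group G] [Finite G] {p : ℕ} [Fact p.Prime]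

/-- the multiplicity of `χ` in the permutation character on `G ⧸ H` is `⟨χ|_H, 1_H⟩` -/
theorem classInner_perm_eq_mult [Fintype G] (H : Subgroup G) (χ : IrrCharacter G) (m : ℕ)
    (hm : classInner (fun g : G => (Nat.card (MulAction.fixedBy (G ⧸ H) g) : ℂ)) (χ : G → ℂ) = m) :
    mult H (χ : G → ℂ) ((trivIrr ↥H : IrrCharacter ↥H) : ↥H → ℂ) = m := by
  classical
  let _ : Fintype H := Fintype.ofFinite H
  rw [Cfsg.Agent.Lib.Helper2.M11Perm.classInner_permChar H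
    (IsCharacter.isClassFunction (IsIrrCharacter.isCharacter χ.2))] at hm
  have h2 := congrArg conj hm
  rw [map_mul, map_inv₀, map_natCast, map_natCast, Complex.conj_conj] at h2
  unfold mult
  rw [finsum_eq_sum_of_fintype, ← h2]
  congr 1
  apply Finset.sum_congr rfl
  intro h _
  have : ((trivIrr ↥H : IrrCharacter ↥H) : ↥H → ℂ) h = 1 := rfl
  rw [this, map_one, mul_one]

/-- **BRW-BRIDGE** -/
theorem rank_eq_sum_cN_sq (P : Subgroup G) :
    Nat.card (MulAction.orbitRel.Quotient (MulAction.stabilizer G ((1 : G) : G ⧸ Nz P)) (G ⧸ Nz P)) =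
      ∑ᶠ χ : IrrCharacter G, (cN P χ (trivIrr ↥(Nz P))) ^ 2 := by
  classical
  let _ : Fintype G := Fintype.ofFinite G
  let _ : Fintype (G ⧸ Nz P) := Fintype.ofFinite _
  let _ : Fintype (IrrCharacter G) := Fintype.ofFinite _
  obtain ⟨m, d, hm, -, -, hsq, -⟩ :=
    Cfsg.Agent.Lib.Helper19.CentAlgRank.exists_mult (G := G) (Ω := G ⧸ Nz P) ((1 : G) : G ⧸ Nz P)
  have key : ∀ χ : IrrCharacter G, cN P χ (trivIrr ↥(Nz P)) = m χ := by
    intro χ
    have h1 := classInner_perm_eq_mult (Nz P) χ (m χ) (hm χ)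
    have h2 := Cfsg.Agent.Lib.Helper5.BRCSPEC.cN_spec P χ (trivIrr ↥(Nz P))
    rw [h1] at h2
    exact_mod_cast h2
  rw [finsum_eq_sum_of_fintype]
  refine hsq.symm.trans ?_
  apply Finset.sum_congr rfl
  intro χ _
  rw [key χ]

end Cfsg.Agent.Lib.Helper7.BRWBRIDGE
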