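import Mathlib
import Cfsg.Agent.Lib.Helper7.DHBDefs
import Cfsg.Agent.Lib.Helper7.DHBSCHUR
import Cfsg.Agent.Lib.Helper7.DHBDIV
import Cfsg.Agent.Lib.Helper7.DHBSQ
import Cfsg.Agent.Lib.Helper20.DHBLEMA
import Cfsg.Agent.Lib.Helper20.DHBEQP
import Cfsg.Agent.Lib.Helper21.DHBCOMPL
import Cfsg.Agent.Lib.Helper21.DHBNE
import Cfsg.Agent.Lib.Helper27.DHBTFORM
import Cfsg.Agent.Lib.Helper29.DHBCARD2
import Cfsg.Agent.Lib.Helper29.DHBEQP2
import Cfsg.Agent.Lib.Helper29.DHBPINV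
import Cfsg.Agent.Lib.Helper29.DHBFIN

/-!
# DHB main: `DHcoreT` (the algebraic core of S3616): a rank-3 S-ring over `DihedralGroup n`, `n` odd,
has `m = 0` or `m = k`.  Assembly of the DHB market leaves (notes/S3616_DHB_leaves.lean).
-/

set_option autoImplicit false
set_option linter.unusedSectionVars false

namespace Cfsg.Agent.Lib.Helper7.DHBMain

open Finset Cfsg.Agent.Lib.Helper7.DHB

variable {n : ℕ} [NeZero n] {X Y : Finset (ZMod n)} {k l m : ℕ}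

theorem mem_Xc {i : ZMod n} : i ∈ Xc X ↔ i ≠ 0 ∧ i ∉ X := by
  unfold Xc
  rw [Finset.mem_erase, Finset.mem_compl]

theorem Xc_Xc (h0 : (0 : ZMod n) ∉ X) : Xc (Xc X) = X := by
  ext i
  rw [mem_Xc, mem_Xc]
  constructor
  · rintro ⟨hi0, hi⟩
    by_contra hiX
    exact hi ⟨hi0, hiX⟩
  · intro hi
    refine ⟨fun h => h0 (h ▸ hi), fun h => h.2 hi⟩

theorem pinv_compl {p : ℕ} (hY : PInv p Y) : PInv p (Yᶜ) := by
  intro j hj t ht
  rw [Finset.mem_compl] at hj ⊢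
  intro hjt
  apply hj
  have := hY _ hjt (-t) (by rw [smul_neg, ht, neg_zero])
  simpa using this

theorem pinv_compl_iff {p : ℕ} : PInv p (Yᶜ) ↔ PInv p Y := by
  constructor
  · intro h
    have := pinv_compl h
    rwa [compl_compl] at this
  · exact pinv_compl

theorem pinv_of_off {p : ℕ} (hoff : PInvOff p X) (hP : ∀ t : ZMod n, p • t = 0 → t ∉ X) : PInv p X := by
  intro i hi t ht
  exact hoff i hi (fun h => hP i h hi) t ht

theorem core_aux {p : ℕ} [Fact p.Prime] (hp2 : p ≠ 2) (hpn : p ∣ n) (h : Hyp n X Y k l m)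
    (hXne : X.Nonempty) (hYne : Y.Nonempty) (hY'ne : (Yᶜ).Nonempty)
    (hX : NotInMul p X) (hX' : NotInMul p (Xc X))
    (hXoff : PInvOff p X) (hXP : ∀ t : ZMod n, p • t = 0 → t ∉ X) (hYninv : ¬ PInv p Y) : False := by
  have hp : p.Prime := Fact.out
  have hp3 : 3 ≤ p := by
    have := hp.two_le
    omega
  have hXinv : PInv p X := pinv_of_off hXoff hXP
  have hlm : l = m := Cfsg.Agent.Lib.Helper29.DHBEQP2.l_eq_m_of_pinv h hXinv hYninv
  have hdiv := Cfsg.Agent.Lib.Helper7.DHBDIV.dvd_sub hp2 hpn h hlm hX hX' hYne hY'ne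
  exact Cfsg.Agent.Lib.Helper29.DHBFIN.fin_contra hp hp3 hpn h hlm hXinv hXne hYne hY'ne hdiv

/-- **CORE** (= helper24's `DH.core` up to the shape of `hT'`). -/
theorem core (hn : Odd n) (h : Hyp n X Y k l m)
    (hT' : (∃ i : ZMod n, i ≠ 0 ∧ i ∉ X) ∨ ∃ j : ZMod n, j ∉ Y) : m = 0 ∨ m = k := by
  by_contra hcon
  push Not at hcon
  obtain ⟨hm0, hmk⟩ := hcon
  obtain ⟨hXne, hYne, hX'ne, hY'ne⟩ := Cfsg.Agent.Lib.Helper21.DHBNE.ne_parts h hT' hm0 hmk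
  have hn1 : n ≠ 1 := by
    rintro rfl
    obtain ⟨i, hi⟩ := hXne
    have : i = 0 := Subsingleton.elim _ _
    exact h.zero_notMem (this ▸ hi)
  obtain ⟨p, hp, hpn⟩ := Nat.exists_prime_and_dvd hn1
  have : Fact p.Prime := ⟨hp⟩
  have hp2 : p ≠ 2 := by
    rintro rfl
    exact (Nat.not_even_iff_odd.2 hn) (even_iff_two_dvd.2 hpn)
  have hp3 : 3 ≤ p := by
    have := hp.two_le
    omega
  obtain ⟨k', l', m', h', hk', hl', hm', hm'0, hm'k⟩ := Cfsg.Agent.Lib.Helper21.DHBCOMPL.compl h hXne hX'ne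
  have h2X := Cfsg.Agent.Lib.Helper29.DHBCARD2.card_two hn h.zero_notMem h.neg_mem hXne
  have h2X' := Cfsg.Agent.Lib.Helper29.DHBCARD2.card_two hn h'.zero_notMem h'.neg_mem hX'ne
  have hm'ne : m' ≠ 0 := fun h0 => hmk (hm'0.1 h0)
  have hm'k' : m' ≠ k' := fun h0 => hm0 (hm'k.1 h0)
  have hYcc : ((Yᶜ)ᶜ).Nonempty := by rwa [compl_compl]
  have hNX := Cfsg.Agent.Lib.Helper20.DHBLEMA.lemma_A hp hp3 hpn h (Nat.pos_of_ne_zero hm0) hY'ne h2X
  have hNX' := Cfsg.Agent.Lib.Helper20.DHBLEMA.lemma_A hp hp3 hpn h' (Nat.pos_of_ne_zero hm'ne) hYcc h2X'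
  have hXcc : Xc (Xc X) = X := Xc_Xc h.zero_notMem
  have hXoff := Cfsg.Agent.Lib.Helper7.DHBSCHUR.schur hp2 hpn h hNX hNX'
  have hX'off := Cfsg.Agent.Lib.Helper7.DHBSCHUR.schur hp2 hpn h' hNX' (by rw [hXcc]; exact hNX)
  have hP' : (∀ t : ZMod n, p • t = 0 → t ≠ 0 → t ∈ X) → ∀ t : ZMod n, p • t = 0 → t ∉ Xc X := by
    intro hP t ht htX
    rw [mem_Xc] at htX
    exact htX.2 (hP t ht htX.1)
  by_cases hYinv : PInv p Y
  · rcases Cfsg.Agent.Lib.Helper7.DHBSQ.sq hp2 hpn h hXoff hYinv hYne hY'ne with hP | hP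
    · exact hmk (Cfsg.Agent.Lib.Helper29.DHBPINV.m_eq_k_of_pinv hp hpn h (pinv_of_off hXoff hP) hYinv)
    · have : m' = k' :=
        Cfsg.Agent.Lib.Helper29.DHBPINV.m_eq_k_of_pinv hp hpn h' (pinv_of_off hX'off (hP' hP)) (pinv_compl hYinv)
      exact hm'k' this
  · rcases Cfsg.Agent.Lib.Helper20.DHBEQP.eqp hp2 hpn h hXoff hYinv with hP | hP
    · exact core_aux hp2 hpn h hXne hYne hY'ne hNX hNX' hXoff hP hYinv
    · exact core_aux hp2 hpn h' hX'ne hY'ne hYcc hNX' (by rw [hXcc]; exact hNX) hX'off (hP' hP)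
        (fun hc => hYinv (pinv_compl_iff.1 hc))

/-- **CORET** = `DHcoreT` of `notes/S3616_leaves.lean` (helper10), text EXACT. -/
theorem DHcoreT {n : ℕ} (hn : Odd n) (T : Finset (DihedralGroup n))
    (h1 : (1 : DihedralGroup n) ∉ T) (hinv : ∀ t ∈ T, t⁻¹ ∈ T) (k l m : ℕ)
    (hE : ∀ g : DihedralGroup n, ((T ×ˢ T).filter (fun q => q.1 * q.2 = g)).card =
      if g = 1 then k else if g ∈ T then l else m)
    (hT' : ∃ g : DihedralGroup n, g ≠ 1 ∧ g ∉ T) : m = 0 ∨ m = k := by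
  have : NeZero n := ⟨fun h0 => by subst h0; simp at hn⟩
  have h := Cfsg.Agent.Lib.Helper27.DHBTFORM.tform T h1 hinv k l m hE
  apply core hn h
  obtain ⟨g, hg1, hgT⟩ := hT'
  cases g with
  | r i =>
    left
    refine ⟨i, ?_, ?_⟩
    · rintro rfl
      exact hg1 rfl
    · simpa using hgT
  | sr j =>
    right
    exact ⟨j, by simpa using hgT⟩

end Cfsg.Agent.Lib.Helper7.DHBMain
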