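/-
helper7: S4395 leaf C2 `exists_isComm_restrict` (a minimal `y`-invariant subgroup of `P` mapping onto `K`
equals its commutator with `y`).
-/
import Mathlib
import Cfsg.Prelude.Def_Transfer
import Cfsg.Agent.Lib.Helper21.SchDefs

set_option autoImplicit false
set_option linter.unusedSectionVars false
universe u v
open Cfsg
open Cfsg.Agent.Lib.Helper21.Sch

namespace Cfsg.Agent.Lib.Helper7.SchC2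

variable {p : ℕ} [Fact p.Prime] {K : Type*} [Field K] {ω : K}

/-- `y`-invariant subgroups of `P` mapping onto `K` -/
def Good {X : Type*} [Group X] (𝔣 : Frame p ω X) (P₁ : Subgroup X) : Prop :=
  ∃ h₁ : P₁ ≤ 𝔣.P, (∀ x ∈ P₁, 𝔣.y * x * 𝔣.y⁻¹ ∈ P₁) ∧
    ∀ u : K, ∃ x : ↥P₁, Multiplicative.toAdd (𝔣.π (Subgroup.inclusion h₁ x)) = u

theorem good_P {X : Type*} [Group X] (𝔣 : Frame p ω X) : Good 𝔣 𝔣.P := by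
  refine ⟨le_rfl, 𝔣.y_norm, fun u => ?_⟩
  obtain ⟨x, hx⟩ := 𝔣.π_surj (Multiplicative.ofAdd u)
  refine ⟨x, ?_⟩
  have : Subgroup.inclusion (le_refl 𝔣.P) x = x := by
    apply Subtype.ext; rfl
  rw [this, hx]; rfl

/-- the commutator subgroup `[P₁, y]` -/
def comY {X : Type*} [Group X] (𝔣 : Frame p ω X) (P₁ : Subgroup X) : Subgroup X :=
  Subgroup.closure {c : X | ∃ x' ∈ P₁, c = x'⁻¹ * (𝔣.y * x' * 𝔣.y⁻¹)}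

theorem comY_le {X : Type*} [Group X] (𝔣 : Frame p ω X) (P₁ : Subgroup X)
    (hy : ∀ x ∈ P₁, 𝔣.y * x * 𝔣.y⁻¹ ∈ P₁) : comY 𝔣 P₁ ≤ P₁ := by
  unfold comY
  rw [Subgroup.closure_le]
  rintro c ⟨x', hx', rfl⟩
  exact P₁.mul_mem (P₁.inv_mem hx') (hy x' hx')

theorem comY_inv {X : Type*} [Group X] (𝔣 : Frame p ω X) (P₁ : Subgroup X)
    (hy : ∀ x ∈ P₁, 𝔣.y * x * 𝔣.y⁻¹ ∈ P₁) :
    ∀ c ∈ comY 𝔣 P₁, 𝔣.y * c * 𝔣.y⁻¹ ∈ comY 𝔣 P₁ := by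
  intro c hc
  unfold comY at hc
  induction hc using Subgroup.closure_induction with
  | mem c hc =>
    obtain ⟨x', hx', rfl⟩ := hc
    refine Subgroup.subset_closure ⟨𝔣.y * x' * 𝔣.y⁻¹, hy x' hx', ?_⟩
    group
  | one =>
    have : 𝔣.y * 1 * 𝔣.y⁻¹ = 1 := by group
    rw [this]; exact Subgroup.one_mem _
  | mul a b _ _ iha ihb =>
    have : 𝔣.y * (a * b) * 𝔣.y⁻¹ = (𝔣.y * a * 𝔣.y⁻¹) * (𝔣.y * b * 𝔣.y⁻¹) := by group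
    rw [this]; exact Subgroup.mul_mem _ iha ihb
  | inv a _ iha =>
    have : 𝔣.y * a⁻¹ * 𝔣.y⁻¹ = (𝔣.y * a * 𝔣.y⁻¹)⁻¹ := by group
    rw [this]; exact Subgroup.inv_mem _ iha

theorem good_comY {X : Type*} [Group X] (𝔣 : Frame p ω X) (hω1 : ω ≠ 1) (P₁ : Subgroup X)
    (hg : Good 𝔣 P₁) : Good 𝔣 (comY 𝔣 P₁) := by
  obtain ⟨h₁, hy, hs⟩ := hg
  have hle := comY_le 𝔣 P₁ hy
  refine ⟨hle.trans h₁, comY_inv 𝔣 P₁ hy, fun u => ?_⟩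
  have hω : ω - 1 ≠ 0 := sub_ne_zero.mpr hω1
  obtain ⟨x, hx⟩ := hs (u / (ω - 1))
  have hxP : (x : X) ∈ 𝔣.P := h₁ x.2
  have hyx : 𝔣.y * (x : X) * 𝔣.y⁻¹ ∈ 𝔣.P := 𝔣.y_norm _ hxP
  have hc : (x : X)⁻¹ * (𝔣.y * (x : X) * 𝔣.y⁻¹) ∈ comY 𝔣 P₁ :=
    Subgroup.subset_closure ⟨x, x.2, rfl⟩
  refine ⟨⟨_, hc⟩, ?_⟩
  have e : Subgroup.inclusion (hle.trans h₁) ⟨(x : X)⁻¹ * (𝔣.y * (x : X) * 𝔣.y⁻¹), hc⟩ =
      (⟨x, hxP⟩ : ↥𝔣.P)⁻¹ * ⟨𝔣.y * (x : X) * 𝔣.y⁻¹, hyx⟩ := by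
    apply Subtype.ext; rfl
  have e2 : Subgroup.inclusion h₁ x = ⟨x, hxP⟩ := by apply Subtype.ext; rfl
  rw [e2] at hx
  rw [e, map_mul, map_inv, toAdd_mul, toAdd_inv, 𝔣.π_conj _ hxP, hx]
  field_simp
  ring

/-- **TAG C2** a minimal `y`-invariant subgroup `P₁` of `P` mapping onto `K` satisfies `P₁ = [P₁, y]`:
`[P₁,y] = closure {x⁻¹ (y x y⁻¹) | x ∈ P₁} ≤ P₁` is `y`-invariant
(`y (x⁻¹ (y x y⁻¹)) y⁻¹ = x'⁻¹ (y x' y⁻¹)`, `x' = y x y⁻¹`) and maps onto `K`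
(`π (x⁻¹ (y x y⁻¹)) = (ω - 1) π x`, `ω ≠ 1`). -/
theorem exists_isComm_restrict {X : Type*} [Group X] [Finite X] (𝔣 : Frame p ω X) (hω1 : ω ≠ 1) :
    ∃ (P₁ : Subgroup X) (h₁ : P₁ ≤ 𝔣.P) (hy : ∀ x ∈ P₁, 𝔣.y * x * 𝔣.y⁻¹ ∈ P₁)
      (hs : ∀ u : K, ∃ x : ↥P₁, Multiplicative.toAdd (𝔣.π (Subgroup.inclusion h₁ x)) = u),
      (𝔣.restrict P₁ h₁ hy hs).IsComm := by
  have hwf : WellFounded ((· < ·) : Subgroup X → Subgroup X → Prop) := wellFounded_lt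
  obtain ⟨P₁, hP₁, hmin⟩ := hwf.has_min {P₁ | Good 𝔣 P₁} ⟨𝔣.P, good_P 𝔣⟩
  have hgood : Good 𝔣 P₁ := hP₁
  obtain ⟨h₁, hy, hs⟩ := hgood
  refine ⟨P₁, h₁, hy, hs, ?_⟩
  have hle := comY_le 𝔣 P₁ hy
  have hnot := hmin (comY 𝔣 P₁) (good_comY 𝔣 hω1 P₁ hP₁)
  have heq : comY 𝔣 P₁ = P₁ := by
    by_contra hne
    exact hnot (lt_of_le_of_ne hle hne)
  intro x hx
  have hx' : x ∈ P₁ := hx
  rw [← heq] at hx'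
  exact hx'

end Cfsg.Agent.Lib.Helper7.SchC2
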