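/-
helper7: S4395 leaf C3 `exists_hom_of_subframe` (the homomorphism `G₀ → X` out of a small frame inside the
fibre product).
-/
import Mathlib
import Cfsg.Prelude.Def_Transfer
import Cfsg.Agent.Lib.Helper21.SchDefs

set_option autoImplicit false
set_option linter.unusedSectionVars false
universe u v
open Cfsg
open Cfsg.Agent.Lib.Helper21.Sch

namespace Cfsg.Agent.Lib.Helper7.SchC3

variable {p : ℕ} [Fact p.Prime] {K : Type*} [Field K] {ω : K}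

/-- an element that is both a `p`-element and a `q`-element is trivial -/
theorem eq_one_of_pow_pow {Y : Type*} [Group Y] (p q : ℕ) [Fact p.Prime] [Fact q.Prime] (hpq : p ≠ q)
    (t : Y) (k r : ℕ) (h1 : t ^ (p ^ k) = 1) (h2 : t ^ (q ^ r) = 1) : t = 1 := by
  have h : t ^ Nat.gcd (p ^ k) (q ^ r) = 1 := pow_gcd_eq_one.mpr ⟨h1, h2⟩
  have hc : Nat.gcd (p ^ k) (q ^ r) = 1 := by
    have : Nat.Coprime p q := (Nat.coprime_primes Fact.out Fact.out).mpr hpq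
    exact Nat.Coprime.pow k r this
  rwa [hc, pow_one] at h

/-- **TAG C3** -/
theorem exists_hom_of_subframe {G₀ : Type*} [Group G₀] [Finite G₀] {X : Type*} [Group X] [Finite X]
    (q r : ℕ) [Fact q.Prime] (hpq : p ≠ q)
    (𝔣₀ : Frame p ω G₀) (𝔣 : Frame p ω X) (𝔡 : Frame p ω (G₀ × X))
    (hgen₀ : 𝔣₀.IsGen) (hgen : 𝔣.IsGen)
    (hP : IsPGroup p 𝔣.P)
    (hy₀ : orderOf 𝔣₀.y = q ^ r) (hy : orderOf 𝔣.y = q ^ r)
    (hcard₀ : Nat.card G₀ = Nat.card 𝔣₀.P * q ^ r)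
    (hcent₀ : ∀ z : ↥𝔣₀.P, 𝔣₀.π z = 1 → (z : G₀) ∈ Subgroup.center G₀)
    (heq₀ : ∀ P₁ : Subgroup G₀, P₁ ≤ 𝔣₀.P →
      (∀ u : K, ∃ x, ∃ hx : x ∈ 𝔣₀.P, x ∈ P₁ ∧ Multiplicative.toAdd (𝔣₀.π ⟨x, hx⟩) = u) → P₁ = 𝔣₀.P)
    (heq : ∀ P₁ : Subgroup X, P₁ ≤ 𝔣.P →
      (∀ u : K, ∃ x, ∃ hx : x ∈ 𝔣.P, x ∈ P₁ ∧ Multiplicative.toAdd (𝔣.π ⟨x, hx⟩) = u) → P₁ = 𝔣.P)
    (hD : Nat.card (Subgroup.closure ((𝔡.P : Set (G₀ × X)) ∪ {𝔡.y})) ≤ Nat.card 𝔡.P * q ^ r ∧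
      ∀ d ∈ Subgroup.closure ((𝔡.P : Set (G₀ × X)) ∪ {𝔡.y}), ∃ x ∈ 𝔡.P, ∃ m : ℕ, d = x * 𝔡.y ^ m)
    (hgraph : ∀ D : Subgroup (G₀ × X), (∀ g : G₀, ∃ x : X, (g, x) ∈ D) → (∀ x : X, ∃ g : G₀, (g, x) ∈ D) →
      (∀ g : G₀, ∀ x x' : X, (g, x) ∈ D → (g, x') ∈ D → x = x') →
      ∃ φ : G₀ →* X, Function.Surjective φ ∧ ∀ g : G₀, (g, φ g) ∈ D)
    (hdy : 𝔡.y = (𝔣₀.y, 𝔣.y))
    (hdP : ∀ d : G₀ × X, ∀ hd : d ∈ 𝔡.P, ∃ (h₀ : d.1 ∈ 𝔣₀.P) (h : d.2 ∈ 𝔣.P),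
      𝔣₀.π ⟨d.1, h₀⟩ = 𝔣.π ⟨d.2, h⟩ ∧ 𝔡.π ⟨d, hd⟩ = 𝔣₀.π ⟨d.1, h₀⟩)
    (hle : Nat.card 𝔡.P ≤ Nat.card 𝔣₀.P) :
    ∃ φ : G₀ →* X, Function.Surjective φ ∧ φ.ker ≤ Subgroup.center G₀ := by
  classical
  set D : Subgroup (G₀ × X) := Subgroup.closure ((𝔡.P : Set (G₀ × X)) ∪ {𝔡.y}) with hDdef
  have hPD : 𝔡.P ≤ D := by
    intro d hd
    exact Subgroup.subset_closure (Or.inl hd)
  have hyD : 𝔡.y ∈ D := Subgroup.subset_closure (Or.inr rfl)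
  -- Step 1: the projections of `𝔡.P` are `P₀` and `P`
  have hfst : (𝔡.P).map (MonoidHom.fst G₀ X) = 𝔣₀.P := by
    apply heq₀
    · rintro x ⟨d, hd, rfl⟩
      obtain ⟨h₀, _, _, _⟩ := hdP d hd
      exact h₀
    · intro u
      obtain ⟨d, hd⟩ := 𝔡.π_surj (Multiplicative.ofAdd u)
      obtain ⟨h₀, h, e1, e2⟩ := hdP d.1 d.2
      refine ⟨d.1.1, h₀, ⟨d.1, d.2, rfl⟩, ?_⟩
      rw [← e2, Subtype.coe_eta, hd]; rfl
  have hsnd : (𝔡.P).map (MonoidHom.snd G₀ X) = 𝔣.P := by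
    apply heq
    · rintro x ⟨d, hd, rfl⟩
      obtain ⟨_, h, _, _⟩ := hdP d hd
      exact h
    · intro u
      obtain ⟨d, hd⟩ := 𝔡.π_surj (Multiplicative.ofAdd u)
      obtain ⟨h₀, h, e1, e2⟩ := hdP d.1 d.2
      refine ⟨d.1.2, h, ⟨d.1, d.2, rfl⟩, ?_⟩
      rw [← e1, ← e2, Subtype.coe_eta, hd]; rfl
  -- Step 2: both projections of `D` are onto
  have h1 : ∀ g : G₀, ∃ x : X, (g, x) ∈ D := by
    have htop : D.map (MonoidHom.fst G₀ X) = ⊤ := by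
      rw [eq_top_iff, ← hgen₀, Subgroup.closure_le]
      rintro x (hx | hx)
      · have hx' : x ∈ (𝔡.P).map (MonoidHom.fst G₀ X) := by rw [hfst]; exact hx
        obtain ⟨d, hd, rfl⟩ := hx'
        exact ⟨d, hPD hd, rfl⟩
      · rw [Set.mem_singleton_iff] at hx
        subst hx
        exact ⟨𝔡.y, hyD, by rw [hdy]; rfl⟩
    intro g
    have hg : g ∈ D.map (MonoidHom.fst G₀ X) := by rw [htop]; trivial
    obtain ⟨d, hd, rfl⟩ := hg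
    exact ⟨d.2, hd⟩
  have h2 : ∀ x : X, ∃ g : G₀, (g, x) ∈ D := by
    have htop : D.map (MonoidHom.snd G₀ X) = ⊤ := by
      rw [eq_top_iff, ← hgen, Subgroup.closure_le]
      rintro x (hx | hx)
      · have hx' : x ∈ (𝔡.P).map (MonoidHom.snd G₀ X) := by rw [hsnd]; exact hx
        obtain ⟨d, hd, rfl⟩ := hx'
        exact ⟨d, hPD hd, rfl⟩
      · rw [Set.mem_singleton_iff] at hx
        subst hx
        exact ⟨𝔡.y, hyD, by rw [hdy]; rfl⟩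
    intro x
    have hx : x ∈ D.map (MonoidHom.snd G₀ X) := by rw [htop]; trivial
    obtain ⟨d, hd, rfl⟩ := hx
    exact ⟨d.1, hd⟩
  -- Step 3: the first projection of `D` is injective
  have hcardD : Nat.card D ≤ Nat.card G₀ := by
    calc Nat.card D ≤ Nat.card 𝔡.P * q ^ r := hD.1
      _ ≤ Nat.card 𝔣₀.P * q ^ r := Nat.mul_le_mul_right _ hle
      _ = Nat.card G₀ := hcard₀.symm
  let f : ↥D → G₀ := fun d => d.1.1
  have hfs : Function.Surjective f := by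
    intro g
    obtain ⟨x, hx⟩ := h1 g
    exact ⟨⟨(g, x), hx⟩, rfl⟩
  have hfb : Function.Bijective f := hfs.bijective_of_nat_card_le hcardD
  have h3 : ∀ g : G₀, ∀ x x' : X, (g, x) ∈ D → (g, x') ∈ D → x = x' := by
    intro g x x' hx hx'
    have := hfb.1 (a₁ := ⟨(g, x), hx⟩) (a₂ := ⟨(g, x'), hx'⟩) rfl
    exact congrArg (fun d : ↥D => d.1.2) this
  -- Step 4: the graph lemma
  obtain ⟨φ, hφs, hφD⟩ := hgraph D h1 h2 h3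
  refine ⟨φ, hφs, ?_⟩
  -- Step 5: the kernel
  intro g hg
  rw [MonoidHom.mem_ker] at hg
  have hgD : (g, (1 : X)) ∈ D := by
    have := hφD g
    rwa [hg] at this
  obtain ⟨d, hd, m, hdm⟩ := hD.2 _ hgD
  obtain ⟨h₀, h, e1, e2⟩ := hdP d hd
  rw [hdy] at hdm
  have hm1 : g = d.1 * 𝔣₀.y ^ m := by
    have := congrArg Prod.fst hdm
    simpa using this
  have hm2 : (1 : X) = d.2 * 𝔣.y ^ m := by
    have := congrArg Prod.snd hdm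
    simpa using this
  -- `y^m ∈ P`
  have hym : 𝔣.y ^ m = d.2⁻¹ := by
    rw [eq_inv_iff_mul_eq_one, mul_eq_one_iff_eq_inv, ← mul_eq_one_iff_eq_inv']
    exact hm2.symm
  have hymP : 𝔣.y ^ m ∈ 𝔣.P := by rw [hym]; exact 𝔣.P.inv_mem h
  obtain ⟨k, hk⟩ := hP ⟨𝔣.y ^ m, hymP⟩
  have hk' : (𝔣.y ^ m) ^ (p ^ k) = 1 := by
    have := congrArg Subtype.val hk
    simpa using this
  have hq' : (𝔣.y ^ m) ^ (q ^ r) = 1 := by
    rw [← pow_mul, mul_comm, pow_mul, ← hy, pow_orderOf_eq_one, one_pow]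
  have hym1 : 𝔣.y ^ m = 1 := eq_one_of_pow_pow p q hpq _ k r hk' hq'
  have hdvd : q ^ r ∣ m := by
    rw [← hy]; exact orderOf_dvd_of_pow_eq_one hym1
  have hy0m : 𝔣₀.y ^ m = 1 := by
    rw [← hy₀] at hdvd
    exact orderOf_dvd_iff_pow_eq_one.mp hdvd
  have hd2 : d.2 = 1 := by
    rw [hym1] at hym
    exact inv_eq_one.mp hym.symm
  have hgd : g = d.1 := by rw [hm1, hy0m, mul_one]
  have hπ : 𝔣₀.π ⟨d.1, h₀⟩ = 1 := by
    rw [e1]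
    have : (⟨d.2, h⟩ : ↥𝔣.P) = 1 := by
      apply Subtype.ext; exact hd2
    rw [this, map_one]
  have := hcent₀ ⟨d.1, h₀⟩ hπ
  rw [hgd]; exact this

end Cfsg.Agent.Lib.Helper7.SchC3
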