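/-
helper7: S4395 leaf C3B `card_closure_le` (`⟨P, y⟩ = P ⟨y⟩` has at most `|P| n` elements).
-/
import Mathlib
import Cfsg.Prelude.Def_Transfer
import Cfsg.Agent.Lib.Helper21.SchDefs

set_option autoImplicit false
set_option linter.unusedSectionVars false
universe u v
open Cfsg
open Cfsg.Agent.Lib.Helper21.Sch

namespace Cfsg.Agent.Lib.Helper7.SchC3B

variable {p : ℕ} [Fact p.Prime] {K : Type*} [Field K] {ω : K}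

theorem pow_conj_mem {Y : Type*} [Group Y] (𝔡 : Frame p ω Y) (m : ℕ) :
    ∀ x ∈ 𝔡.P, 𝔡.y ^ m * x * (𝔡.y ^ m)⁻¹ ∈ 𝔡.P := by
  induction m with
  | zero => intro x hx; simpa using hx
  | succ m ih =>
    intro x hx
    have h := 𝔡.y_norm _ (ih x hx)
    have e : 𝔡.y ^ (m + 1) * x * (𝔡.y ^ (m + 1))⁻¹ = 𝔡.y * (𝔡.y ^ m * x * (𝔡.y ^ m)⁻¹) * 𝔡.y⁻¹ := by
      rw [pow_succ']; group
    rw [e]; exact h

theorem pow_inv_eq {Y : Type*} [Group Y] (y : Y) (n : ℕ) (hn : 0 < n) (hy : y ^ n = 1) (m : ℕ) :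
    y ^ (m * (n - 1)) = (y ^ m)⁻¹ := by
  rw [eq_inv_iff_mul_eq_one, ← pow_add]
  have h1 : n - 1 + 1 = n := Nat.sub_add_cancel hn
  have h2 : m * (n - 1) + m = n * m := by
    calc m * (n - 1) + m = m * (n - 1 + 1) := by ring
      _ = n * m := by rw [h1, mul_comm]
  rw [h2, pow_mul, hy, one_pow]

/-- the set `P ⟨y⟩` as a subgroup -/
def PY {Y : Type*} [Group Y] (𝔡 : Frame p ω Y) (n : ℕ) (hn : 0 < n) (hy : 𝔡.y ^ n = 1) :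
    Subgroup Y where
  carrier := {d | ∃ x ∈ 𝔡.P, ∃ m : ℕ, d = x * 𝔡.y ^ m}
  one_mem' := ⟨1, 𝔡.P.one_mem, 0, by simp⟩
  mul_mem' := by
    rintro a b ⟨x, hx, m, rfl⟩ ⟨x', hx', m', rfl⟩
    refine ⟨x * (𝔡.y ^ m * x' * (𝔡.y ^ m)⁻¹), 𝔡.P.mul_mem hx (pow_conj_mem 𝔡 m x' hx'), m + m', ?_⟩
    rw [pow_add]; group
  inv_mem' := by
    rintro a ⟨x, hx, m, rfl⟩
    have hk := pow_inv_eq 𝔡.y n hn hy m
    refine ⟨𝔡.y ^ (m * (n - 1)) * x⁻¹ * (𝔡.y ^ (m * (n - 1)))⁻¹,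
      pow_conj_mem 𝔡 _ _ (𝔡.P.inv_mem hx), m * (n - 1), ?_⟩
    rw [hk]; group

theorem mem_PY {Y : Type*} [Group Y] (𝔡 : Frame p ω Y) (n : ℕ) (hn : 0 < n) (hy : 𝔡.y ^ n = 1)
    (d : Y) : d ∈ PY 𝔡 n hn hy ↔ ∃ x ∈ 𝔡.P, ∃ m : ℕ, d = x * 𝔡.y ^ m := Iff.rfl

theorem closure_le_PY {Y : Type*} [Group Y] (𝔡 : Frame p ω Y) (n : ℕ) (hn : 0 < n)
    (hy : 𝔡.y ^ n = 1) : Subgroup.closure ((𝔡.P : Set Y) ∪ {𝔡.y}) ≤ PY 𝔡 n hn hy := by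
  rw [Subgroup.closure_le]
  rintro d (hd | hd)
  · exact ⟨d, hd, 0, by simp⟩
  · rw [Set.mem_singleton_iff] at hd
    subst hd
    exact ⟨1, 𝔡.P.one_mem, 1, by simp⟩

/-- **TAG C3B** `D = ⟨P*, (y₀,y)⟩ = P* ⟨(y₀,y)⟩` has at most `|P*| q^r` elements (`y_D` normalizes `P*`, `y_D^(q^r) = 1`). -/
theorem card_closure_le {Y : Type*} [Group Y] [Finite Y] (𝔡 : Frame p ω Y) (n : ℕ) (hn : 0 < n)
    (hy : 𝔡.y ^ n = 1) :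
    Nat.card (Subgroup.closure ((𝔡.P : Set Y) ∪ {𝔡.y})) ≤ Nat.card 𝔡.P * n ∧
    ∀ d ∈ Subgroup.closure ((𝔡.P : Set Y) ∪ {𝔡.y}), ∃ x ∈ 𝔡.P, ∃ m : ℕ, d = x * 𝔡.y ^ m := by
  have hle := closure_le_PY 𝔡 n hn hy
  refine ⟨?_, fun d hd => hle hd⟩
  -- a surjection `P × Fin n → closure`
  let f : ↥𝔡.P × Fin n → Y := fun a => a.1.1 * 𝔡.y ^ a.2.1
  have hsub : ((Subgroup.closure ((𝔡.P : Set Y) ∪ {𝔡.y}) : Subgroup Y) : Set Y) ⊆ Set.range f := by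
    intro d hd
    obtain ⟨x, hx, m, rfl⟩ := hle hd
    refine ⟨(⟨x, hx⟩, ⟨m % n, Nat.mod_lt _ hn⟩), ?_⟩
    show x * 𝔡.y ^ (m % n) = x * 𝔡.y ^ m
    congr 1
    conv_rhs => rw [← Nat.mod_add_div m n]
    rw [pow_add, pow_mul, hy, one_pow, mul_one]
  calc Nat.card (Subgroup.closure ((𝔡.P : Set Y) ∪ {𝔡.y}))
      = Nat.card ((Subgroup.closure ((𝔡.P : Set Y) ∪ {𝔡.y}) : Subgroup Y) : Set Y) := rfl
    _ ≤ Nat.card (Set.range f) := Nat.card_mono (Set.toFinite _) hsub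
    _ ≤ Nat.card (↥𝔡.P × Fin n) := Nat.card_le_card_of_surjective (Set.rangeFactorization f) Set.rangeFactorization_surjective
    _ = Nat.card 𝔡.P * n := by rw [Nat.card_prod, Nat.card_fin]

end Cfsg.Agent.Lib.Helper7.SchC3B
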