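import Mathlib
import Cfsg.Prelude.Def_Transfer
import Cfsg.Prelude.Def_SolvableStructure
import Cfsg.Prelude.Def_Local
import Cfsg.Prelude.Def_CaseTheorems
import Cfsg.Agent.Lib.Helper21.SchDefs
import Cfsg.Agent.Lib.Helper21.SchPDefs

/-!
# S4394 leaf N5 (`comm_closure_eq_ker`), planner helper21, prover helper7

Part A: an abstract class-two counting lemma.  Part B: the instantiation for a frame.
-/

set_option autoImplicit false
universe u v
open Cfsg
open Cfsg.Agent.Lib.Helper21.Sch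
open Cfsg.Agent.Lib.Helper21.SchP

namespace Cfsg.Agent.Lib.Helper7.SchPN5

section abstract

variable {P : Type*} [Group P]

/-- the commutator `x x' x⁻¹ x'⁻¹` -/
def cm (x x' : P) : P := x * x' * x⁻¹ * x'⁻¹

theorem cm_eq_one_iff (x x' : P) : cm x x' = 1 ↔ x * x' = x' * x := by
  unfold cm
  constructor
  · intro h
    have : x * x' * x⁻¹ * x'⁻¹ * (x' * x) = 1 * (x' * x) := by rw [h]
    rw [one_mul] at this
    rw [← this]; group
  · intro h
    rw [h]; group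

variable (Z : Subgroup P)

theorem cm_mul_left (hZc : ∀ z ∈ Z, ∀ x : P, z * x = x * z) (hcomm : ∀ x x' : P, cm x x' ∈ Z)
    (a b c : P) : cm (a * b) c = cm a c * cm b c := by
  have h := hZc (cm b c) (hcomm b c)
  calc cm (a * b) c = a * cm b c * (c * a⁻¹ * c⁻¹) := by unfold cm; group
    _ = cm b c * a * (c * a⁻¹ * c⁻¹) := by rw [h a]
    _ = cm b c * cm a c := by unfold cm; group
    _ = cm a c * cm b c := h (cm a c)

theorem cm_mul_right (hZc : ∀ z ∈ Z, ∀ x : P, z * x = x * z) (hcomm : ∀ x x' : P, cm x x' ∈ Z)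
    (a b c : P) : cm a (b * c) = cm a b * cm a c := by
  have h := hZc (cm a c) (hcomm a c)
  calc cm a (b * c) = a * b * a⁻¹ * cm a c * b⁻¹ := by unfold cm; group
    _ = cm a c * (a * b * a⁻¹) * b⁻¹ := by rw [h (a * b * a⁻¹)]
    _ = cm a c * cm a b := by unfold cm; group
    _ = cm a b * cm a c := h (cm a b)

/-- `x ↦ [x, w]` as a homomorphism into `Z` -/
def cmL (hZc : ∀ z ∈ Z, ∀ x : P, z * x = x * z) (hcomm : ∀ x x' : P, cm x x' ∈ Z) (w : P) : P →* ↥Z where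
  toFun x := ⟨cm x w, hcomm x w⟩
  map_one' := by
    apply Subtype.ext
    show cm 1 w = 1
    unfold cm; group
  map_mul' a b := by
    apply Subtype.ext
    show cm (a * b) w = cm a w * cm b w
    exact cm_mul_left Z hZc hcomm a b w

/-- `x' ↦ [u, x']` as a homomorphism into `Z` -/
def cmR (hZc : ∀ z ∈ Z, ∀ x : P, z * x = x * z) (hcomm : ∀ x x' : P, cm x x' ∈ Z) (u : P) : P →* ↥Z where
  toFun x := ⟨cm u x, hcomm u x⟩
  map_one' := by
    apply Subtype.ext
    show cm u 1 = 1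
    unfold cm; group
  map_mul' a b := by
    apply Subtype.ext
    show cm u (a * b) = cm u a * cm u b
    exact cm_mul_right Z hZc hcomm u a b

theorem cmL_apply (hZc : ∀ z ∈ Z, ∀ x : P, z * x = x * z) (hcomm : ∀ x x' : P, cm x x' ∈ Z) (w x : P) :
    cmL Z hZc hcomm w x = ⟨cm x w, hcomm x w⟩ := rfl

theorem cmR_apply (hZc : ∀ z ∈ Z, ∀ x : P, z * x = x * z) (hcomm : ∀ x x' : P, cm x x' ∈ Z) (u x : P) :
    cmR Z hZc hcomm u x = ⟨cm u x, hcomm u x⟩ := rfl

/-- the counting lemma -/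
theorem card_le_of_perp [Finite P] (p : ℕ) [Fact p.Prime]
    (hZc : ∀ z ∈ Z, ∀ x : P, z * x = x * z) (hcomm : ∀ x x' : P, cm x x' ∈ Z)
    (T' : Subgroup ↥Z) (hT : T'.index = p)
    (hrad : ∀ x : P, (∀ x' : P, (⟨cm x x', hcomm x x'⟩ : ↥Z) ∈ T') → x ∈ Z)
    (R S₁ : Subgroup P) (hS₁ : S₁.index = p)
    (hRS : ∀ r ∈ R, ∀ s ∈ S₁, (⟨cm r s, hcomm r s⟩ : ↥Z) ∈ T')
    (hCR : Subgroup.centralizer (R : Set P) ≤ R)
    (hnab : ∃ x x' : P, x * x' ≠ x' * x) :
    Nat.card P ≤ p * Nat.card Z * Nat.card Z := by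
  classical
  have hp := (Fact.out : p.Prime)
  -- step 1: some element of `R` is outside `Z`
  obtain ⟨u, huR, huZ⟩ : ∃ u ∈ R, u ∉ Z := by
    by_contra hcon
    push Not at hcon
    obtain ⟨x, x', hxx'⟩ := hnab
    have hall : ∀ g : P, g ∈ Z := by
      intro g
      apply hcon
      apply hCR
      rw [Subgroup.mem_centralizer_iff]
      intro r hr
      exact hZc r (hcon r hr) g
    exact hxx' (hZc x (hall x) x')
  -- step 2: some `w` outside `S₁`
  obtain ⟨w, hw⟩ : ∃ w : P, w ∉ S₁ := by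
    by_contra hcon
    push Not at hcon
    have h1 : S₁ = ⊤ := by rw [eq_top_iff]; intro x _; exact hcon x
    rw [← Subgroup.index_eq_one] at h1
    rw [h1] at hS₁
    exact hp.one_lt.ne hS₁
  -- step 3
  have hsub : ∀ x : P, (∀ s ∈ S₁, (⟨cm x s, hcomm x s⟩ : ↥Z) ∈ T') →
      (⟨cm x w, hcomm x w⟩ : ↥Z) ∈ T' → x ∈ Z := by
    intro x h1 h2
    apply hrad
    have hSA : S₁ ≤ T'.comap (cmR Z hZc hcomm x) := fun s hs => h1 s hs
    have hwA : w ∈ T'.comap (cmR Z hZc hcomm x) := h2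
    have hAtop : T'.comap (cmR Z hZc hcomm x) = ⊤ := by
      have hdvd : (T'.comap (cmR Z hZc hcomm x)).index ∣ S₁.index := Subgroup.index_dvd_of_le hSA
      rw [hS₁] at hdvd
      rcases (Nat.dvd_prime hp).mp hdvd with h | h
      · exact Subgroup.index_eq_one.mp h
      · exfalso
        have hrel := Subgroup.relIndex_mul_index hSA
        rw [h, hS₁] at hrel
        have h1 : S₁.relIndex (T'.comap (cmR Z hZc hcomm x)) = 1 :=
          Nat.eq_of_mul_eq_mul_right hp.pos (by rw [hrel, one_mul])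
        rw [Subgroup.relIndex_eq_one] at h1
        exact hw (h1 hwA)
    intro x'
    have : x' ∈ T'.comap (cmR Z hZc hcomm x) := by rw [hAtop]; trivial
    exact this
  -- `T'` is normal, the quotient has order `p`
  have hZcomm : ∀ a b : ↥Z, a * b = b * a := fun a b => Subtype.ext (hZc a.1 a.2 b.1)
  have : T'.Normal := ⟨fun n hn g => by
    have : g * n * g⁻¹ = n := by rw [hZcomm g n, mul_assoc, mul_inv_cancel, mul_one]
    rw [this]; exact hn⟩
  have hQcard : Nat.card (↥Z ⧸ T') = p := by rw [← Subgroup.index_eq_card]; exact hT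
  -- the perp of `S₁`
  let perp : Subgroup P :=
    { carrier := {x | ∀ s ∈ S₁, cmL Z hZc hcomm s x ∈ T'}
      one_mem' := by
        intro s _
        rw [map_one]; exact T'.one_mem
      mul_mem' := by
        intro a b ha hb s hs
        rw [map_mul]; exact T'.mul_mem (ha s hs) (hb s hs)
      inv_mem' := by
        intro a ha s hs
        rw [map_inv]; exact T'.inv_mem (ha s hs) }
  have hRperp : R ≤ perp := fun r hr s hs => hRS r hr s hs
  let φ : ↥perp →* (↥Z ⧸ T') := (QuotientGroup.mk' T').comp ((cmL Z hZc hcomm w).comp perp.subtype)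
  have hker : ∀ x : ↥perp, φ x = 1 → (x : P) ∈ Z := by
    intro x hx
    have h1 : cmL Z hZc hcomm w (x : P) ∈ T' := (QuotientGroup.eq_one_iff _).mp hx
    exact hsub x x.2 h1
  have hperp_card : Nat.card perp ≤ p * Nat.card Z := by
    have h1 : Nat.card φ.ker * φ.ker.index = Nat.card perp := Subgroup.card_mul_index φ.ker
    have h2 : φ.ker.index = Nat.card φ.range := Subgroup.index_ker φ
    have h3 : Nat.card φ.range ≤ p := by rw [← hQcard]; exact Subgroup.card_le_card_group _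
    have h4 : Nat.card φ.ker ≤ Nat.card Z := by
      apply Nat.card_le_card_of_injective (fun x : φ.ker => (⟨x.1.1, hker x.1 x.2⟩ : ↥Z))
      intro a b hab
      apply Subtype.ext; apply Subtype.ext
      have h := congrArg (fun z : ↥Z => (z : P)) hab
      exact h
    calc Nat.card perp = Nat.card φ.ker * φ.ker.index := h1.symm
      _ ≤ Nat.card Z * p := by rw [h2]; exact Nat.mul_le_mul h4 h3
      _ = p * Nat.card Z := mul_comm _ _
  -- the centralizer of `u`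
  have hu_perp : u ∈ perp := fun s hs => hRS u huR s hs
  have hφu : φ ⟨u, hu_perp⟩ ≠ 1 := fun h => huZ (hker _ h)
  have hgen : Subgroup.zpowers (φ ⟨u, hu_perp⟩) = ⊤ := zpowers_eq_top_of_prime_card hQcard hφu
  have hcent : (cmR Z hZc hcomm u).ker ≤ Subgroup.centralizer (R : Set P) := by
    intro g hg
    have hug : u * g = g * u := by
      rw [MonoidHom.mem_ker] at hg
      have : cm u g = 1 := congrArg Subtype.val hg
      exact (cm_eq_one_iff u g).mp this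
    rw [Subgroup.mem_centralizer_iff]
    intro r hr
    have hr_perp : r ∈ perp := fun s hs => hRS r hr s hs
    have hmem : φ ⟨r, hr_perp⟩ ∈ Subgroup.zpowers (φ ⟨u, hu_perp⟩) := by rw [hgen]; trivial
    obtain ⟨k, hk⟩ := Subgroup.mem_zpowers_iff.mp hmem
    have hz : r * u ^ (-k) ∈ Z := by
      have h1 : φ (⟨r, hr_perp⟩ * ⟨u, hu_perp⟩ ^ (-k)) = 1 := by
        rw [map_mul, map_zpow, zpow_neg, hk, mul_inv_cancel]
      exact hker _ h1
    have hcomm_uk : u ^ k * g = g * u ^ k := (Commute.zpow_left (show Commute u g from hug) k).eq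
    have hzc := hZc _ hz g
    calc r * g = (r * u ^ (-k)) * (u ^ k * g) := by group
      _ = (r * u ^ (-k)) * (g * u ^ k) := by rw [hcomm_uk]
      _ = g * (r * u ^ (-k)) * u ^ k := by rw [← mul_assoc, hzc]
      _ = g * r := by group
  have h5 : Nat.card (cmR Z hZc hcomm u).ker ≤ p * Nat.card Z :=
    le_trans (Subgroup.card_le_of_le (hcent.trans hCR))
      (le_trans (Subgroup.card_le_of_le hRperp) hperp_card)
  have h6 := Subgroup.card_mul_index (cmR Z hZc hcomm u).ker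
  have h7 : (cmR Z hZc hcomm u).ker.index ≤ Nat.card Z := by
    rw [Subgroup.index_ker]; exact Subgroup.card_le_card_group _
  calc Nat.card P = Nat.card (cmR Z hZc hcomm u).ker * (cmR Z hZc hcomm u).ker.index := h6.symm
    _ ≤ (p * Nat.card Z) * Nat.card Z := Nat.mul_le_mul h5 h7

end abstract

/-- a proper subgroup of a finite `p`-group lies in a subgroup of index `p` -/
theorem exists_index_p_of_ne_top {Z : Type*} [Group Z] [Finite Z] (p : ℕ) [Fact p.Prime] (hZ : IsPGroup p Z)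
    (C : Subgroup Z) (hC : C ≠ ⊤) : ∃ T : Subgroup Z, C ≤ T ∧ T.index = p := by
  obtain ⟨m, hm⟩ := IsPGroup.iff_card.mp hZ
  obtain ⟨n, hn⟩ := IsPGroup.iff_card.mp (hZ.to_subgroup C)
  have hp := (Fact.out : p.Prime)
  have hnm : n < m := by
    have hle : Nat.card C ≤ Nat.card Z := Subgroup.card_le_card_group C
    have hne : Nat.card C ≠ Nat.card Z := fun h => hC (Subgroup.eq_top_of_card_eq C h)
    rw [hn, hm] at hle hne
    have h1 := (Nat.pow_le_pow_iff_right hp.one_lt).mp hle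
    rcases h1.lt_or_eq with h | h
    · exact h
    · exact absurd (by rw [h]) hne
  obtain ⟨T, hT, hCT⟩ := Sylow.exists_subgroup_card_pow_prime_le p (m := m - 1)
    (by rw [hm]; exact pow_dvd_pow p (Nat.sub_le m 1)) C hn (by omega)
  refine ⟨T, hCT, ?_⟩
  have h1 := Subgroup.card_mul_index T
  rw [hT, hm] at h1
  have h2 : p ^ (m - 1) * p = p ^ m := by
    rw [← pow_succ]; congr 1; omega
  rw [← h2] at h1
  exact Nat.eq_of_mul_eq_mul_left (pow_pos hp.pos _) h1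

section frames
variable {p : ℕ} [Fact p.Prime] {K : Type*} [Field K] {ω : K} {X : Type*} [Group X]

/-- **TAG N5** -/
theorem comm_closure_eq_ker [Finite X] [Finite K] [CharP K p] (𝔣 : Frame p ω X)
    (hirr : ∀ S : AddSubgroup K, (∀ v ∈ S, ω * v ∈ S) → S = ⊥ ∨ S = ⊤)
    (ht : 𝔣.IsTight) (x₀ : X) (hx₀ : x₀ ∈ 𝔣.P)
    (hΓ : ∀ z : ↥𝔣.P, 𝔣.π z = 1 → ∃ x'' ∈ 𝔣.P, (z : X) = x₀ * x'' * x₀⁻¹ * x''⁻¹)
    (hnab : ∃ x x' : ↥𝔣.P, x * x' ≠ x' * x)
    (hcard : p * Nat.card 𝔣.π.ker < Nat.card K) :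
    ∀ R S₁ : Subgroup ↥𝔣.P, R ≤ S₁ → S₁.index = p → Subgroup.centralizer (R : Set ↥𝔣.P) ≤ R →
      Subgroup.closure {c : ↥𝔣.P | ∃ r ∈ R, ∃ s ∈ S₁, c = r * s * r⁻¹ * s⁻¹} = 𝔣.π.ker := by
  intro R S₁ _ hS₁ hCR
  have _ht := ht
  classical
  have hp := (Fact.out : p.Prime)
  have hZc : ∀ z ∈ 𝔣.π.ker, ∀ x : ↥𝔣.P, z * x = x * z :=
    fun z hz x => 𝔣.ker_central z (MonoidHom.mem_ker.mp hz) x
  have hcomm : ∀ x x' : ↥𝔣.P, cm x x' ∈ 𝔣.π.ker := by
    intro x x'
    rw [MonoidHom.mem_ker]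
    unfold cm
    rw [map_mul, map_mul, map_mul, map_inv, map_inv, mul_comm (𝔣.π x) (𝔣.π x'), mul_assoc (𝔣.π x'),
      mul_inv_cancel, mul_one, mul_inv_cancel]
  have hCZ : Subgroup.closure {c : ↥𝔣.P | ∃ r ∈ R, ∃ s ∈ S₁, c = r * s * r⁻¹ * s⁻¹} ≤ 𝔣.π.ker := by
    rw [Subgroup.closure_le]
    rintro c ⟨r, _, s, _, rfl⟩
    exact hcomm r s
  by_contra hne
  -- `Z` is a `p`-group
  have hZp : IsPGroup p ↥𝔣.π.ker := by
    intro z
    refine ⟨1, ?_⟩
    rw [pow_one]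
    apply Subtype.ext
    have := 𝔣.ker_exp z.1 (MonoidHom.mem_ker.mp z.2)
    rw [Subgroup.coe_pow, this]; rfl
  have hC'top : (Subgroup.closure {c : ↥𝔣.P | ∃ r ∈ R, ∃ s ∈ S₁, c = r * s * r⁻¹ * s⁻¹}).subgroupOf 𝔣.π.ker ≠ ⊤ := by
    intro h
    rw [Subgroup.subgroupOf_eq_top] at h
    exact hne (le_antisymm hCZ h)
  obtain ⟨T', hCT', hT'⟩ := exists_index_p_of_ne_top p hZp _ hC'top
  -- the radical
  let rad : Subgroup ↥𝔣.P :=
    { carrier := {x | ∀ x', cmL 𝔣.π.ker hZc hcomm x' x ∈ T'}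
      one_mem' := by
        intro s
        rw [map_one]; exact T'.one_mem
      mul_mem' := by
        intro a b ha hb s
        rw [map_mul]; exact T'.mul_mem (ha s) (hb s)
      inv_mem' := by
        intro a ha s
        rw [map_inv]; exact T'.inv_mem (ha s) }
  let cy : ↥𝔣.P → ↥𝔣.P := fun x => ⟨𝔣.y * x.1 * 𝔣.y⁻¹, 𝔣.y_norm x.1 x.2⟩
  have cy_inj : Function.Injective cy := by
    intro a b hab
    have h : 𝔣.y * a.1 * 𝔣.y⁻¹ = 𝔣.y * b.1 * 𝔣.y⁻¹ := congrArg (fun z : ↥𝔣.P => (z : X)) hab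
    apply Subtype.ext
    exact mul_left_cancel (mul_right_cancel h)
  have cy_surj : Function.Surjective cy := Finite.surjective_of_injective cy_inj
  have cy_cm : ∀ a b : ↥𝔣.P, cm (cy a) (cy b) = cm a b := by
    intro a b
    apply Subtype.ext
    have hfix := 𝔣.ker_fixed (cm a b) (MonoidHom.mem_ker.mp (hcomm a b))
    rw [← hfix]
    simp only [cm, cy, Subgroup.coe_mul, Subgroup.coe_inv]
    group
  let radS : AddSubgroup K :=
    { carrier := {v | ∃ x ∈ rad, Multiplicative.toAdd (𝔣.π x) = v}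
      zero_mem' := ⟨1, rad.one_mem, by rw [map_one]; rfl⟩
      add_mem' := by
        rintro a b ⟨x, hx, rfl⟩ ⟨x', hx', rfl⟩
        exact ⟨x * x', rad.mul_mem hx hx', by rw [map_mul]; rfl⟩
      neg_mem' := by
        rintro a ⟨x, hx, rfl⟩
        exact ⟨x⁻¹, rad.inv_mem hx, by rw [map_inv]; rfl⟩ }
  have hradS : ∀ v ∈ radS, ω * v ∈ radS := by
    rintro v ⟨x, hx, rfl⟩
    refine ⟨cy x, ?_, 𝔣.π_conj x.1 x.2⟩
    intro x'
    obtain ⟨x'', rfl⟩ := cy_surj x'
    have h1 : cmL 𝔣.π.ker hZc hcomm (cy x'') (cy x) = cmL 𝔣.π.ker hZc hcomm x'' x := by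
      apply Subtype.ext
      exact cy_cm x x''
    rw [h1]
    exact hx x''
  have hT'top : T' ≠ ⊤ := by
    intro h
    rw [h, Subgroup.index_top] at hT'
    exact hp.one_lt.ne hT'
  have hrad : ∀ x : ↥𝔣.P, (∀ x' : ↥𝔣.P, (⟨cm x x', hcomm x x'⟩ : ↥𝔣.π.ker) ∈ T') → x ∈ 𝔣.π.ker := by
    intro x hx
    have hxrad : x ∈ rad := fun x' => hx x'
    rcases hirr radS hradS with h | h
    · have h1 : Multiplicative.toAdd (𝔣.π x) ∈ radS := ⟨x, hxrad, rfl⟩
      rw [h, AddSubgroup.mem_bot] at h1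
      rw [MonoidHom.mem_ker]
      exact h1
    · exfalso
      apply hT'top
      have h1 : Multiplicative.toAdd (𝔣.π ⟨x₀, hx₀⟩) ∈ radS := by rw [h]; trivial
      obtain ⟨x₁, hx₁, hπ⟩ := h1
      have hπ' : 𝔣.π x₁ = 𝔣.π ⟨x₀, hx₀⟩ := hπ
      have hz : x₁⁻¹ * ⟨x₀, hx₀⟩ ∈ 𝔣.π.ker := by
        rw [MonoidHom.mem_ker, map_mul, map_inv, hπ', inv_mul_cancel]
      have hx₀rad : (⟨x₀, hx₀⟩ : ↥𝔣.P) ∈ rad := by
        have : (⟨x₀, hx₀⟩ : ↥𝔣.P) = x₁ * (x₁⁻¹ * ⟨x₀, hx₀⟩) := by group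
        rw [this]
        refine rad.mul_mem hx₁ ?_
        intro x'
        have h2 : cmL 𝔣.π.ker hZc hcomm x' (x₁⁻¹ * ⟨x₀, hx₀⟩) = 1 := by
          apply Subtype.ext
          show cm (x₁⁻¹ * ⟨x₀, hx₀⟩) x' = 1
          rw [cm_eq_one_iff]
          exact hZc _ hz x'
        rw [h2]; exact T'.one_mem
      rw [eq_top_iff]
      intro z _
      obtain ⟨x'', hx'', hzx⟩ := hΓ z.1 (MonoidHom.mem_ker.mp z.2)
      have h3 : z = cmL 𝔣.π.ker hZc hcomm ⟨x'', hx''⟩ ⟨x₀, hx₀⟩ := by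
        apply Subtype.ext; apply Subtype.ext
        rw [hzx]; rfl
      rw [h3]
      exact hx₀rad ⟨x'', hx''⟩
  have hRS' : ∀ r ∈ R, ∀ s ∈ S₁, (⟨cm r s, hcomm r s⟩ : ↥𝔣.π.ker) ∈ T' := by
    intro r hr s hs
    apply hCT'
    rw [Subgroup.mem_subgroupOf]
    exact Subgroup.subset_closure ⟨r, hr, s, hs, rfl⟩
  have hmain := card_le_of_perp 𝔣.π.ker p hZc hcomm T' hT' hrad R S₁ hS₁ hRS' hCR hnab
  -- `|P̃| = |Z| |K|`
  have h1 := Subgroup.card_mul_index 𝔣.π.ker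
  have h2 : 𝔣.π.ker.index = Nat.card K := by
    rw [Subgroup.index_ker, MonoidHom.range_eq_top.mpr 𝔣.π_surj, Subgroup.card_top]
    exact Nat.card_congr Multiplicative.toAdd
  rw [h2] at h1
  rw [← h1] at hmain
  have hZpos : 0 < Nat.card 𝔣.π.ker := Nat.card_pos
  have h3 : Nat.card K ≤ p * Nat.card 𝔣.π.ker := by
    have : Nat.card 𝔣.π.ker * Nat.card K ≤ Nat.card 𝔣.π.ker * (p * Nat.card 𝔣.π.ker) := by
      calc Nat.card 𝔣.π.ker * Nat.card K ≤ p * Nat.card 𝔣.π.ker * Nat.card 𝔣.π.ker := hmain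
        _ = Nat.card 𝔣.π.ker * (p * Nat.card 𝔣.π.ker) := by ring
    exact Nat.le_of_mul_le_mul_left this hZpos
  omega

end frames

end Cfsg.Agent.Lib.Helper7.SchPN5
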