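/-
S4705 (BS market, planner helper6), leaf BS-INEQL (frozen statement in notes/S4705_leaves.lean):
the twisted sector is small.
-/
import Mathlib

set_option autoImplicit false

namespace Cfsg.Agent.Lib.Helper7.BSINEQL

/-- real-number core: `(2K-1)² P² ≤ (P K - 1)(P K - P + 1)(P - 2)` for `P ≥ 7`, `K ≥ 2`. -/
theorem core_ineq (P K : ℝ) (hP : 7 ≤ P) (hK : 2 ≤ K) :
    (2 * K - 1) ^ 2 * P ^ 2 ≤ (P * K - 1) * (P * K - P + 1) * (P - 2) := by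
  have hm : 2 ≤ K * (K - 1) := by nlinarith
  have h1 : (P * K - 1) * (P * K - P + 1) = P ^ 2 * (K * (K - 1)) + P - 1 := by ring
  have h2 : (2 * K - 1) ^ 2 = 4 * (K * (K - 1)) + 1 := by ring
  rw [h1, h2]
  set m := K * (K - 1) with hmdef
  have hP2 : 0 ≤ P ^ 2 := sq_nonneg P
  have h3 : (P ^ 2 * m + P - 1) * (P - 2) - (4 * m + 1) * P ^ 2 = m * P ^ 2 * (P - 6) - 3 * P + 2 := by
    ring
  have h4 : 2 * P ^ 2 ≤ m * P ^ 2 * (P - 6) := by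
    have : 2 * P ^ 2 ≤ m * P ^ 2 := by nlinarith
    have h5 : m * P ^ 2 ≤ m * P ^ 2 * (P - 6) := by
      have h6 : 0 ≤ m * P ^ 2 := by positivity
      nlinarith
    linarith
  nlinarith

/-- **BS-INEQL** -/
theorem ineq_left (p : ℕ) (hp : 7 ≤ p) (b1 a1 kb : ℕ) (hb2 : 2 ≤ b1) (hb : b1 + (p - 1) = p * kb)
    (ha1 : a1 = b1 + (p - 2)) (A B : ℂ) (hB : ‖B‖ ≤ (kb : ℝ)) (hAB : ‖A - B‖ ≤ 1) :
    ‖B * (a1 : ℂ) - A * (b1 : ℂ)‖ ^ 2 * (p : ℝ) ^ 2 ≤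
      ((p : ℝ) - 1) ^ 2 * ((a1 : ℝ) * (b1 : ℝ) * ((p : ℝ) - 2)) := by
  have hpR : (7 : ℝ) ≤ (p : ℝ) := by exact_mod_cast hp
  -- `kb ≥ 2`
  have hkb : 2 ≤ kb := by
    by_contra hlt
    rw [not_le] at hlt
    have : p * kb ≤ p * 1 := Nat.mul_le_mul_left p (by omega)
    omega
  have hkR : (2 : ℝ) ≤ (kb : ℝ) := by exact_mod_cast hkb
  have hbR : (b1 : ℝ) = (p : ℝ) * (kb : ℝ) - (p : ℝ) + 1 := by
    have h1 : ((b1 + (p - 1) : ℕ) : ℝ) = ((p * kb : ℕ) : ℝ) := by rw [hb]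
    rw [Nat.cast_add, Nat.cast_sub (by omega : 1 ≤ p), Nat.cast_mul, Nat.cast_one] at h1
    linarith
  have haR : (a1 : ℝ) = (p : ℝ) * (kb : ℝ) - 1 := by
    rw [ha1, Nat.cast_add, Nat.cast_sub (by omega : 2 ≤ p), hbR]
    push_cast
    ring
  have hb0 : (0 : ℝ) ≤ (b1 : ℝ) := Nat.cast_nonneg b1
  -- the norm bound
  have hdecomp : B * (a1 : ℂ) - A * (b1 : ℂ) =
      B * (((p : ℝ) - 2 : ℝ) : ℂ) - (A - B) * ((b1 : ℝ) : ℂ) := by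
    have : (a1 : ℂ) = ((b1 : ℝ) : ℂ) + (((p : ℝ) - 2 : ℝ) : ℂ) := by
      have h2 : (a1 : ℝ) = (b1 : ℝ) + ((p : ℝ) - 2) := by rw [haR, hbR]; ring
      have h3 : ((a1 : ℝ) : ℂ) = (((b1 : ℝ) + ((p : ℝ) - 2) : ℝ) : ℂ) := by rw [h2]
      rw [Complex.ofReal_add] at h3
      rw [← h3]
      simp
    rw [this]
    have h4 : (b1 : ℂ) = ((b1 : ℝ) : ℂ) := by simp
    rw [h4]
    ring
  have hnorm : ‖B * (a1 : ℂ) - A * (b1 : ℂ)‖ ≤ ((p : ℝ) - 1) * (2 * (kb : ℝ) - 1) := by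
    rw [hdecomp]
    calc ‖B * (((p : ℝ) - 2 : ℝ) : ℂ) - (A - B) * ((b1 : ℝ) : ℂ)‖
        ≤ ‖B * (((p : ℝ) - 2 : ℝ) : ℂ)‖ + ‖(A - B) * ((b1 : ℝ) : ℂ)‖ := norm_sub_le _ _
      _ = ‖B‖ * ((p : ℝ) - 2) + ‖A - B‖ * (b1 : ℝ) := by
          rw [norm_mul, norm_mul, Complex.norm_real, Complex.norm_real, Real.norm_eq_abs,
            Real.norm_eq_abs, abs_of_nonneg (by linarith : (0 : ℝ) ≤ (p : ℝ) - 2), abs_of_nonneg hb0]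
      _ ≤ (kb : ℝ) * ((p : ℝ) - 2) + 1 * (b1 : ℝ) := by
          apply add_le_add
          · exact mul_le_mul_of_nonneg_right hB (by linarith)
          · exact mul_le_mul_of_nonneg_right hAB hb0
      _ = ((p : ℝ) - 1) * (2 * (kb : ℝ) - 1) := by rw [hbR]; ring
  have hn0 : 0 ≤ ‖B * (a1 : ℂ) - A * (b1 : ℂ)‖ := norm_nonneg _
  have hsq : ‖B * (a1 : ℂ) - A * (b1 : ℂ)‖ ^ 2 ≤ (((p : ℝ) - 1) * (2 * (kb : ℝ) - 1)) ^ 2 :=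
    pow_le_pow_left₀ hn0 hnorm 2
  have hcore := core_ineq (p : ℝ) (kb : ℝ) hpR hkR
  have hp2 : 0 ≤ (p : ℝ) ^ 2 := sq_nonneg _
  have hp1 : 0 ≤ ((p : ℝ) - 1) ^ 2 := sq_nonneg _
  calc ‖B * (a1 : ℂ) - A * (b1 : ℂ)‖ ^ 2 * (p : ℝ) ^ 2
      ≤ (((p : ℝ) - 1) * (2 * (kb : ℝ) - 1)) ^ 2 * (p : ℝ) ^ 2 := mul_le_mul_of_nonneg_right hsq hp2
    _ = ((p : ℝ) - 1) ^ 2 * ((2 * (kb : ℝ) - 1) ^ 2 * (p : ℝ) ^ 2) := by ring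
    _ ≤ ((p : ℝ) - 1) ^ 2 * (((p : ℝ) * (kb : ℝ) - 1) * ((p : ℝ) * (kb : ℝ) - (p : ℝ) + 1) *
          ((p : ℝ) - 2)) := mul_le_mul_of_nonneg_left hcore hp1
    _ = ((p : ℝ) - 1) ^ 2 * ((a1 : ℝ) * (b1 : ℝ) * ((p : ℝ) - 2)) := by rw [haR, hbR]

end Cfsg.Agent.Lib.Helper7.BSINEQL
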