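/-
S4705 (BS market, planner helper6), leaf BS-INEQR (frozen statement in notes/S4705_leaves.lean):
the principal sector is large.
-/
import Mathlib

set_option autoImplicit false

namespace Cfsg.Agent.Lib.Helper7.BSINEQR

/-- case `v = 1` : `h = P j + 1`, `d = P j + 2`, `‖h - a‖ ≥ (P - 1) j + 2`. -/
theorem core_pos (P j n : ℝ) (hP : 7 ≤ P) (hj : 0 ≤ j) (hn : (P - 1) * j + 2 ≤ n) :
    (P - 1) ^ 2 * ((P * j + 1) * (P * j + 2)) < n ^ 2 * P ^ 2 := by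
  have h0 : 0 ≤ (P - 1) * j + 2 := by nlinarith
  have h1 : ((P - 1) * j + 2) ^ 2 ≤ n ^ 2 := pow_le_pow_left₀ h0 hn 2
  have h2 : (P - 1) ^ 2 * ((P * j + 1) * (P * j + 2)) < ((P - 1) * j + 2) ^ 2 * P ^ 2 := by
    have h3 : ((P - 1) * j + 2) ^ 2 * P ^ 2 - (P - 1) ^ 2 * ((P * j + 1) * (P * j + 2)) =
        (P - 1) * P * j * (P + 3) + 2 * P ^ 2 + 4 * P - 2 := by ring
    have h4 : 0 ≤ (P - 1) * P * j * (P + 3) := by
      have : 0 ≤ P - 1 := by linarith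
      have : 0 ≤ P := by linarith
      have : 0 ≤ P + 3 := by linarith
      positivity
    nlinarith
  have hP2 : 0 ≤ P ^ 2 := sq_nonneg P
  nlinarith

/-- case `v = -1` : `h = P m - 1`, `d = h - 1`, `‖h - a‖ ≥ (P - 1) m` (`m = k₁ + 1 ≥ 1`). -/
theorem core_neg (P m n : ℝ) (hP : 7 ≤ P) (hm : 1 ≤ m) (hn : (P - 1) * m ≤ n) :
    (P - 1) ^ 2 * ((P * m - 1) * (P * m - 2)) < n ^ 2 * P ^ 2 := by
  have h0 : 0 ≤ (P - 1) * m := by nlinarith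
  have h1 : ((P - 1) * m) ^ 2 ≤ n ^ 2 := pow_le_pow_left₀ h0 hn 2
  have h2 : (P - 1) ^ 2 * ((P * m - 1) * (P * m - 2)) < ((P - 1) * m) ^ 2 * P ^ 2 := by
    have h3 : ((P - 1) * m) ^ 2 * P ^ 2 - (P - 1) ^ 2 * ((P * m - 1) * (P * m - 2)) =
        (P - 1) ^ 2 * (3 * P * m - 2) := by ring
    have h4 : 0 < (P - 1) ^ 2 := by
      have : 0 < P - 1 := by linarith
      positivity
    have h5 : 0 < 3 * P * m - 2 := by nlinarith
    have h6 : 0 < (P - 1) ^ 2 * (3 * P * m - 2) := mul_pos h4 h5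
    linarith
  have hP2 : 0 ≤ P ^ 2 := sq_nonneg P
  nlinarith

/-- **BS-INEQR** -/
theorem ineq_right (p : ℕ) (hp : 7 ≤ p) (h d k₁ kY : ℕ) (v ε₀ : ℤ) (hv : v = 1 ∨ v = -1)
    (hε : ε₀ = 1 ∨ ε₀ = -1) (hh0 : 0 < h) (hd0 : 0 < d) (hdeg : ε₀ * (d : ℤ) = 1 + v * (h : ℤ))
    (hh : (h : ℤ) + v * ((p : ℤ) - 1) = (p : ℤ) * (k₁ : ℤ))
    (hd : (d : ℤ) - 2 * ε₀ = (p : ℤ) * (kY : ℤ))
    (a : ℂ) (ha : ‖a‖ ≤ (k₁ : ℝ)) (hψ : ‖1 + (v : ℂ) * a‖ ≤ (kY : ℝ)) :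
    ((p : ℝ) - 1) ^ 2 * ((h : ℝ) * (d : ℝ)) < ‖(h : ℂ) - a‖ ^ 2 * (p : ℝ) ^ 2 := by
  have hpR : (7 : ℝ) ≤ (p : ℝ) := by exact_mod_cast hp
  have hpZ : (7 : ℤ) ≤ (p : ℤ) := by exact_mod_cast hp
  have hhZ : (0 : ℤ) < (h : ℤ) := by exact_mod_cast hh0
  have hdZ : (0 : ℤ) < (d : ℤ) := by exact_mod_cast hd0
  have hk0 : (0 : ℤ) ≤ (k₁ : ℤ) := Int.natCast_nonneg k₁
  have hkY0 : (0 : ℤ) ≤ (kY : ℤ) := Int.natCast_nonneg kY
  rcases hv with hv | hv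
  · -- `v = 1`
    subst hv
    have hε1 : ε₀ = 1 := by
      rcases hε with h1 | h1
      · exact h1
      · exfalso
        rw [h1] at hdeg
        linarith
    subst hε1
    -- integer relations
    have e1 : (d : ℤ) = (h : ℤ) + 1 := by linarith
    have e2 : (h : ℤ) = (p : ℤ) * ((k₁ : ℤ) - 1) + 1 := by linarith
    have e3 : (p : ℤ) * (kY : ℤ) = (p : ℤ) * ((k₁ : ℤ) - 1) := by linarith
    have hp0 : (p : ℤ) ≠ 0 := by omega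
    have e4 : (kY : ℤ) = (k₁ : ℤ) - 1 := mul_left_cancel₀ hp0 e3
    -- reals
    have r1 : (d : ℝ) = (h : ℝ) + 1 := by exact_mod_cast e1
    have r2 : (h : ℝ) = (p : ℝ) * ((k₁ : ℝ) - 1) + 1 := by exact_mod_cast e2
    have r4 : (kY : ℝ) = (k₁ : ℝ) - 1 := by exact_mod_cast e4
    have hj : (0 : ℝ) ≤ (k₁ : ℝ) - 1 := by
      rw [← r4]
      exact Nat.cast_nonneg kY
    -- the norm bound
    have hψ' : ‖1 + a‖ ≤ (kY : ℝ) := by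
      have : (1 : ℂ) + ((1 : ℤ) : ℂ) * a = 1 + a := by simp
      rw [this] at hψ
      exact hψ
    have hnorm : ((p : ℝ) - 1) * ((k₁ : ℝ) - 1) + 2 ≤ ‖(h : ℂ) - a‖ := by
      have h1 : ((h : ℂ) + 1) = ((h : ℂ) - a) + (1 + a) := by ring
      have h2 : ‖(h : ℂ) + 1‖ ≤ ‖(h : ℂ) - a‖ + ‖1 + a‖ := by
        rw [h1]
        exact norm_add_le _ _
      have h3 : ‖(h : ℂ) + 1‖ = (h : ℝ) + 1 := by
        have : ((h : ℂ) + 1) = (((h : ℝ) + 1 : ℝ) : ℂ) := by push_cast; ring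
        rw [this, Complex.norm_real, Real.norm_eq_abs, abs_of_nonneg (by positivity)]
      rw [h3] at h2
      rw [r2] at h2
      linarith
    have hcore := core_pos (p : ℝ) ((k₁ : ℝ) - 1) ‖(h : ℂ) - a‖ hpR hj hnorm
    rw [r1, r2]
    have : (p : ℝ) * ((k₁ : ℝ) - 1) + 1 + 1 = (p : ℝ) * ((k₁ : ℝ) - 1) + 2 := by ring
    rw [this]
    exact hcore
  · -- `v = -1`
    subst hv
    have e2 : (h : ℤ) = (p : ℤ) * ((k₁ : ℤ) + 1) - 1 := by linarith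
    have hbig : (6 : ℤ) ≤ (h : ℤ) := by nlinarith
    have hε1 : ε₀ = -1 := by
      rcases hε with h1 | h1
      · exfalso
        rw [h1] at hdeg
        linarith
      · exact h1
    subst hε1
    have e1 : (d : ℤ) = (h : ℤ) - 1 := by linarith
    have r1 : (d : ℝ) = (h : ℝ) - 1 := by exact_mod_cast e1
    have r2 : (h : ℝ) = (p : ℝ) * ((k₁ : ℝ) + 1) - 1 := by exact_mod_cast e2
    have hm : (1 : ℝ) ≤ (k₁ : ℝ) + 1 := by
      have : (0 : ℝ) ≤ (k₁ : ℝ) := Nat.cast_nonneg k₁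
      linarith
    have hnorm : ((p : ℝ) - 1) * ((k₁ : ℝ) + 1) ≤ ‖(h : ℂ) - a‖ := by
      have h1 : (h : ℂ) = ((h : ℂ) - a) + a := by ring
      have h2 : ‖(h : ℂ)‖ ≤ ‖(h : ℂ) - a‖ + ‖a‖ := by
        conv_lhs => rw [h1]
        exact norm_add_le _ _
      have h3 : ‖(h : ℂ)‖ = (h : ℝ) := by
        rw [Complex.norm_natCast]
      rw [h3, r2] at h2
      linarith
    have hcore := core_neg (p : ℝ) ((k₁ : ℝ) + 1) ‖(h : ℂ) - a‖ hpR hm hnorm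
    rw [r1, r2]
    have : (p : ℝ) * ((k₁ : ℝ) + 1) - 1 - 1 = (p : ℝ) * ((k₁ : ℝ) + 1) - 2 := by ring
    rw [this]
    exact hcore

end Cfsg.Agent.Lib.Helper7.BSINEQR
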