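import Cfsg.Agent.Lib.Helper7.ChevBasic
import Mathlib

/-!
Additivity of the root elements `x_r(t₁) x_r(t₂) = x_r(t₁ + t₂)` of a Chevalley datum, proved generically from a
decidable condition on the tables (helper7).
-/

set_option autoImplicit false

namespace Cfsg.Agent.Lib.Helper7

open Cfsg Cfsg.Lie

/-- the triples (target root, exponent, coefficient) of one entry of the chain table -/
def entryList (e : ℕ × Array (ℕ × ℤ)) : List (ℕ × ℕ × ℤ) :=
  (e.2.toList.zipIdx).map fun q => (q.1.1, q.2 + 1, q.1.2)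

/-- all chain data for the pair `(r, s)`: triples (target root, exponent, coefficient) -/
def ccAll (D : ChevalleyDatum) (r s : ℕ) : List (ℕ × ℕ × ℤ) :=
  ((D.chain.getD r #[]).toList.filter (fun e => e.1 = s)).flatMap entryList

theorem chainCoeff_eq (D : ChevalleyDatum) (r s u : ℕ) :
    D.chainCoeff r s u = ((ccAll D r s).filter (fun x => x.1 = u)).map (fun x => x.2) := by
  unfold ChevalleyDatum.chainCoeff ccAll entryList
  simp [List.filter_flatMap, List.map_flatMap, List.filter_map, Function.comp_def]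

/-- the polynomial `Σ M t^k` over the triples of `T` with target `u` -/
def polyAt {F : Type*} [Field F] (t : F) (T : List (ℕ × ℕ × ℤ)) (u : ℕ) : F :=
  (T.map fun x => if x.1 = u then ((x.2.2 : ℤ) : F) * t ^ x.2.1 else 0).sum

theorem sum_filter_map_eq {α : Type*} {F : Type*} [AddCommMonoid F] (T : List α) (p : α → Prop) [DecidablePred p]
    (g : α → F) : ((T.filter p).map g).sum = (T.map fun x => if p x then g x else 0).sum := by
  induction T with
  | nil => simp
  | cons a T ih =>
    by_cases h : p a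
    · simp [h, ih]
    · simp [h, ih]

theorem chainSum_eq (D : ChevalleyDatum) {F : Type*} [Field F] (r s u : ℕ) (t : F) :
    ((D.chainCoeff r s u).map fun km => ((km.2 : ℤ) : F) * t ^ km.1).sum = polyAt t (ccAll D r s) u := by
  rw [chainCoeff_eq, List.map_map, polyAt, sum_filter_map_eq]
  rfl

/-- shape condition on a chain `T` (with `next u` the chain starting at `u`) making additivity work -/
def shapeB (isKey : ℕ → Bool) (next : ℕ → List (ℕ × ℕ × ℤ)) : List (ℕ × ℕ × ℤ) → Bool
  | [] => true
  | [(u1, k1, _)] => k1 == 1 && !isKey u1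
  | [(u1, k1, M1), (u2, k2, M2)] =>
      k1 == 1 && k2 == 2 && !isKey u2 &&
        (match next u1 with
         | [(v, j, M')] => v == u2 && j == 1 && M1 * M' == 2 * M2
         | _ => false)
  | [(u1, k1, M1), (u2, k2, M2), (u3, k3, M3)] =>
      k1 == 1 && k2 == 2 && k3 == 3 && !isKey u3 &&
        (match next u2 with
         | [(v, j, Mc)] => v == u3 && j == 1 && M2 * Mc == 3 * M3
         | _ => false) &&
        (match next u1 with
         | [(v, j, Ma), (w, i, Mb)] =>
            v == u2 && j == 1 && w == u3 && i == 2 && M1 * Ma == 2 * M2 && M1 * Mb == 3 * M3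
         | _ => false)
  | _ => false

theorem shape_identity {F : Type*} [Field F] (isKey : ℕ → Bool) (next : ℕ → List (ℕ × ℕ × ℤ))
    (hkey : ∀ u, isKey u = false → next u = []) (T : List (ℕ × ℕ × ℤ))
    (h : shapeB isKey next T = true) (t₁ t₂ : F) (u : ℕ) :
    polyAt (t₁ + t₂) T u = polyAt t₁ T u + polyAt t₂ T u +
      (T.map fun x => polyAt t₁ (next x.1) u * (((x.2.2 : ℤ) : F) * t₂ ^ x.2.1)).sum := by
  rcases T with _ | ⟨⟨u1, k1, M1⟩, _ | ⟨⟨u2, k2, M2⟩, _ | ⟨⟨u3, k3, M3⟩, _ | ⟨x4, T⟩⟩⟩⟩
  · simp [polyAt]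
  · simp only [shapeB, Bool.and_eq_true, beq_iff_eq, Bool.not_eq_true'] at h
    obtain ⟨rfl, h1⟩ := h
    have hn := hkey u1 h1
    simp only [polyAt, hn, List.map_cons, List.map_nil, List.sum_cons, List.sum_nil]
    split_ifs <;> ring1
  · simp only [shapeB, Bool.and_eq_true, beq_iff_eq, Bool.not_eq_true'] at h
    obtain ⟨⟨⟨rfl, rfl⟩, h2⟩, h3⟩ := h
    have hn2 := hkey u2 h2
    rcases hn1 : next u1 with _ | ⟨⟨v, j, M'⟩, _ | ⟨y, N⟩⟩
    · rw [hn1] at h3; simp at h3
    · rw [hn1] at h3
      simp only [Bool.and_eq_true, beq_iff_eq] at h3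
      obtain ⟨⟨rfl, rfl⟩, hM⟩ := h3
      have hM' : (M1 : F) * (M' : F) = 2 * (M2 : F) := by exact_mod_cast congrArg (Int.cast (R := F)) hM
      simp only [polyAt, hn1, hn2, List.map_cons, List.map_nil, List.sum_cons, List.sum_nil]
      split_ifs <;> first | ring1 | linear_combination (-(t₁ * t₂)) * hM'
    · rw [hn1] at h3; simp at h3
  · simp only [shapeB, Bool.and_eq_true, beq_iff_eq, Bool.not_eq_true'] at h
    obtain ⟨⟨⟨⟨⟨rfl, rfl⟩, rfl⟩, h3⟩, h2⟩, h1⟩ := h
    have hn3 := hkey u3 h3
    rcases hn2 : next u2 with _ | ⟨⟨v, j, Mc⟩, _ | ⟨y, N⟩⟩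
    · rw [hn2] at h2; simp at h2
    · rw [hn2] at h2
      simp only [Bool.and_eq_true, beq_iff_eq] at h2
      obtain ⟨⟨rfl, rfl⟩, hMc⟩ := h2
      rcases hn1 : next u1 with _ | ⟨⟨v', j', Ma⟩, _ | ⟨⟨w, i, Mb⟩, _ | ⟨y, N⟩⟩⟩
      · rw [hn1] at h1; simp at h1
      · rw [hn1] at h1; simp at h1
      · rw [hn1] at h1
        simp only [Bool.and_eq_true, beq_iff_eq] at h1
        obtain ⟨⟨⟨⟨⟨rfl, rfl⟩, rfl⟩, rfl⟩, hMa⟩, hMb⟩ := h1
        have hMa' : (M1 : F) * (Ma : F) = 2 * (M2 : F) := by exact_mod_cast congrArg (Int.cast (R := F)) hMa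
        have hMb' : (M1 : F) * (Mb : F) = 3 * (M3 : F) := by exact_mod_cast congrArg (Int.cast (R := F)) hMb
        have hMc' : (M2 : F) * (Mc : F) = 3 * (M3 : F) := by exact_mod_cast congrArg (Int.cast (R := F)) hMc
        simp only [polyAt, hn1, hn2, hn3, List.map_cons, List.map_nil, List.sum_cons, List.sum_nil]
        split_ifs <;> first
          | ring1
          | linear_combination (-(t₁ * t₂)) * hMa'
          | linear_combination (-(t₁ ^ 2 * t₂)) * hMb'
          | linear_combination (-(t₁ * t₂ ^ 2)) * hMc'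
          | linear_combination (-(t₁ ^ 2 * t₂)) * hMb' + (-(t₁ * t₂ ^ 2)) * hMc'
          | linear_combination (-(t₁ * t₂)) * hMa' + (-(t₁ ^ 2 * t₂)) * hMb'
          | linear_combination (-(t₁ * t₂)) * hMa' + (-(t₁ * t₂ ^ 2)) * hMc'
          | linear_combination (-(t₁ * t₂)) * hMa' + (-(t₁ ^ 2 * t₂)) * hMb' + (-(t₁ * t₂ ^ 2)) * hMc'
      · rw [hn1] at h1; simp at h1
    · rw [hn2] at h2; simp at h2
  · simp [shapeB] at h

section cols
variable (D : ChevalleyDatum) (F : Type*) [Field F] (r : Fin D.nroots) (t : F)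

theorem xMat_inl_inl (i' i : Fin D.rank) :
    D.xMat F r t (Sum.inl i') (Sum.inl i) = if i' = i then 1 else 0 := rfl

theorem xMat_inr_inl (u : Fin D.nroots) (i : Fin D.rank) :
    D.xMat F r t (Sum.inr u) (Sum.inl i) =
      if u = r then - (((D.cartanSR.getD i.val #[]).getD r.val 0 : ℤ) : F) * t else 0 := rfl

theorem xMat_inl_self (i' : Fin D.rank) : D.xMat F r t (Sum.inl i') (Sum.inr r) = 0 := by
  unfold ChevalleyDatum.xMat; simp

theorem xMat_inr_self (u : Fin D.nroots) :
    D.xMat F r t (Sum.inr u) (Sum.inr r) = if u = r then 1 else 0 := by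
  unfold ChevalleyDatum.xMat; simp

theorem xMat_inl_neg (s : Fin D.nroots) (hsr : s ≠ r) (hneg : s.val = D.negIdx.getD r.val 0)
    (i' : Fin D.rank) :
    D.xMat F r t (Sum.inl i') (Sum.inr s) = (((D.coroot.getD r.val #[]).getD i'.val 0 : ℤ) : F) * t := by
  unfold ChevalleyDatum.xMat; simp [hsr, hneg]

theorem xMat_inr_neg (s : Fin D.nroots) (hsr : s ≠ r) (hneg : s.val = D.negIdx.getD r.val 0)
    (u : Fin D.nroots) :
    D.xMat F r t (Sum.inr u) (Sum.inr s) = if u = s then 1 else if u = r then -(t ^ 2) else 0 := by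
  unfold ChevalleyDatum.xMat; simp [hsr, hneg]

theorem xMat_inl_gen (s : Fin D.nroots) (hsr : s ≠ r) (hneg : s.val ≠ D.negIdx.getD r.val 0)
    (i' : Fin D.rank) :
    D.xMat F r t (Sum.inl i') (Sum.inr s) = 0 := by
  unfold ChevalleyDatum.xMat
  simp only [Matrix.of_apply, hsr, hneg, if_false]

theorem xMat_inr_gen (s : Fin D.nroots) (hsr : s ≠ r) (hneg : s.val ≠ D.negIdx.getD r.val 0)
    (u : Fin D.nroots) :
    D.xMat F r t (Sum.inr u) (Sum.inr s) =
      (if u = s then 1 else 0) + polyAt t (ccAll D r.val s.val) u.val := by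
  unfold ChevalleyDatum.xMat
  simp only [Matrix.of_apply, hsr, hneg, if_false]
  rw [chainSum_eq]

end cols

/-- swapping a sum over root indices with a sum over a chain list -/
theorem sum_mul_polyAt {F : Type*} [Field F] {n : ℕ} (f : Fin n → F) (t : F) (T : List (ℕ × ℕ × ℤ)) :
    ∑ u' : Fin n, f u' * polyAt t T u'.val =
      (T.map fun x => (if h : x.1 < n then f ⟨x.1, h⟩ else 0) * (((x.2.2 : ℤ) : F) * t ^ x.2.1)).sum := by
  induction T with
  | nil => simp [polyAt]
  | cons x T ih =>
    have hp : ∀ u : ℕ, polyAt t (x :: T) u = (if x.1 = u then ((x.2.2 : ℤ) : F) * t ^ x.2.1 else 0) + polyAt t T u := by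
      intro u; simp [polyAt]
    simp_rw [hp, mul_add, Finset.sum_add_distrib, ih, List.map_cons, List.sum_cons]
    congr 1
    by_cases h : x.1 < n
    · rw [dif_pos h]
      rw [Finset.sum_eq_single (⟨x.1, h⟩ : Fin n)]
      · simp
      · intro b _ hb
        have : ¬ x.1 = b.val := fun hh => hb (Fin.ext hh.symm)
        simp [this]
      · intro hh; exact absurd (Finset.mem_univ _) hh
    · rw [dif_neg h, zero_mul]
      apply Finset.sum_eq_zero
      intro b _
      have : ¬ x.1 = b.val := fun hh => h (hh ▸ b.isLt)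
      simp [this]

/-- semantic hypotheses for additivity of `x_r` -/
def AddHyp (D : ChevalleyDatum) (r : ℕ) : Prop :=
  (∑ i ∈ Finset.range D.rank, (D.coroot.getD r #[]).getD i 0 * (D.cartanSR.getD i #[]).getD r 0 = 2) ∧
  (∀ s, ∀ x ∈ ccAll D r s, x.1 < D.nroots ∧ x.1 ≠ r ∧ x.1 ≠ D.negIdx.getD r 0) ∧
  (∀ s, ∃ isKey : ℕ → Bool, (∀ u, isKey u = false → ccAll D r u = []) ∧
    shapeB isKey (ccAll D r) (ccAll D r s) = true)

theorem sum_mul_ite {ι : Type*} [Fintype ι] [DecidableEq ι] {F : Type*} [Field F] (f : ι → F) (k : ι) (c : F) :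
    ∑ κ, f κ * (if κ = k then c else 0) = f k * c := by
  simp

theorem xMat_add (D : ChevalleyDatum) (F : Type*) [Field F] (r : Fin D.nroots) (h : AddHyp D r.val)
    (t₁ t₂ : F) : D.xMat F r t₁ * D.xMat F r t₂ = D.xMat F r (t₁ + t₂) := by
  obtain ⟨hsum, htar, hshape⟩ := h
  ext row col
  rw [Matrix.mul_apply, Fintype.sum_sum_type]
  rcases col with i | s
  · -- column h_i
    have e1 : ∀ i'' : Fin D.rank, D.xMat F r t₁ row (Sum.inl i'') * D.xMat F r t₂ (Sum.inl i'') (Sum.inl i)
        = D.xMat F r t₁ row (Sum.inl i'') * (if i'' = i then 1 else 0) := fun i'' => by rw [xMat_inl_inl]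
    have e2 : ∀ u' : Fin D.nroots, D.xMat F r t₁ row (Sum.inr u') * D.xMat F r t₂ (Sum.inr u') (Sum.inl i)
        = D.xMat F r t₁ row (Sum.inr u') * (if u' = r then - (((D.cartanSR.getD i.val #[]).getD r.val 0 : ℤ) : F) * t₂ else 0) :=
      fun u' => by rw [xMat_inr_inl]
    rw [Finset.sum_congr rfl (fun x _ => e1 x), Finset.sum_congr rfl (fun x _ => e2 x), sum_mul_ite, sum_mul_ite]
    rcases row with i' | u
    · rw [xMat_inl_inl, xMat_inl_self, xMat_inl_inl]; ring
    · rw [xMat_inr_inl, xMat_inr_self, xMat_inr_inl]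
      by_cases hur : u = r
      · simp only [hur, if_true]; ring
      · simp only [hur, if_false]; ring
  · by_cases hsr : s = r
    · subst hsr
      have e1 : ∀ i'' : Fin D.rank, D.xMat F s t₁ row (Sum.inl i'') * D.xMat F s t₂ (Sum.inl i'') (Sum.inr s)
          = 0 := fun i'' => by rw [xMat_inl_self, mul_zero]
      have e2 : ∀ u' : Fin D.nroots, D.xMat F s t₁ row (Sum.inr u') * D.xMat F s t₂ (Sum.inr u') (Sum.inr s)
          = D.xMat F s t₁ row (Sum.inr u') * (if u' = s then 1 else 0) := fun u' => by rw [xMat_inr_self]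
      rw [Finset.sum_congr rfl (fun x _ => e1 x), Finset.sum_congr rfl (fun x _ => e2 x), sum_mul_ite,
        Finset.sum_const_zero, zero_add, mul_one]
      rcases row with i' | u
      · rw [xMat_inl_self, xMat_inl_self]
      · rw [xMat_inr_self, xMat_inr_self]
    · by_cases hneg : s.val = D.negIdx.getD r.val 0
      · -- column e_{-r}
        have e1 : ∀ i'' : Fin D.rank, D.xMat F r t₁ row (Sum.inl i'') * D.xMat F r t₂ (Sum.inl i'') (Sum.inr s)
            = D.xMat F r t₁ row (Sum.inl i'') * ((((D.coroot.getD r.val #[]).getD i''.val 0 : ℤ) : F) * t₂) :=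
          fun i'' => by rw [xMat_inl_neg D F r t₂ s hsr hneg]
        have e2 : ∀ u' : Fin D.nroots, D.xMat F r t₁ row (Sum.inr u') * D.xMat F r t₂ (Sum.inr u') (Sum.inr s)
            = D.xMat F r t₁ row (Sum.inr u') * (if u' = s then 1 else 0)
              + D.xMat F r t₁ row (Sum.inr u') * (if u' = r then -(t₂ ^ 2) else 0) := fun u' => by
          rw [xMat_inr_neg D F r t₂ s hsr hneg, ← mul_add]
          congr 1
          by_cases h1 : u' = s
          · have : ¬ u' = r := fun hh => hsr (h1 ▸ hh)
            simp [h1, hsr]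
          · simp [h1]
        rw [Finset.sum_congr rfl (fun x _ => e1 x), Finset.sum_congr rfl (fun x _ => e2 x),
          Finset.sum_add_distrib, sum_mul_ite, sum_mul_ite]
        have hsumF : ∑ i'' : Fin D.rank, (((D.cartanSR.getD i''.val #[]).getD r.val 0 : ℤ) : F) *
            (((D.coroot.getD r.val #[]).getD i''.val 0 : ℤ) : F) = 2 := by
          have h1 := congrArg (Int.cast (R := F)) hsum
          rw [Int.cast_sum] at h1
          rw [Fin.sum_univ_eq_sum_range (fun i => (((D.cartanSR.getD i #[]).getD r.val 0 : ℤ) : F) *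
            (((D.coroot.getD r.val #[]).getD i 0 : ℤ) : F)) D.rank]
          rw [← Int.cast_ofNat (R := F) (n := 2)] 
          rw [← h1]
          apply Finset.sum_congr rfl
          intro i _
          rw [Int.cast_mul, mul_comm]
        rcases row with i' | u
        · have e3 : ∀ i'' : Fin D.rank, D.xMat F r t₁ (Sum.inl i') (Sum.inl i'') *
              ((((D.coroot.getD r.val #[]).getD i''.val 0 : ℤ) : F) * t₂)
              = (((D.coroot.getD r.val #[]).getD i''.val 0 : ℤ) : F) * t₂ * (if i'' = i' then 1 else 0) := fun i'' => by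
            rw [xMat_inl_inl, mul_comm]
            by_cases hh : i' = i''
            · simp [hh]
            · have : ¬ i'' = i' := fun h => hh h.symm
              simp [hh, this]
          rw [Finset.sum_congr rfl (fun x _ => e3 x), sum_mul_ite, xMat_inl_neg D F r t₁ s hsr hneg,
            xMat_inl_self, xMat_inl_neg D F r (t₁ + t₂) s hsr hneg]
          ring
        · have e3 : ∀ i'' : Fin D.rank, D.xMat F r t₁ (Sum.inr u) (Sum.inl i'') *
              ((((D.coroot.getD r.val #[]).getD i''.val 0 : ℤ) : F) * t₂)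
              = (if u = r then -(t₁ * t₂) else 0) * ((((D.cartanSR.getD i''.val #[]).getD r.val 0 : ℤ) : F) *
                (((D.coroot.getD r.val #[]).getD i''.val 0 : ℤ) : F)) := fun i'' => by
            rw [xMat_inr_inl]
            by_cases hh : u = r
            · simp only [hh, if_true]; ring
            · simp only [hh, if_false]; ring
          rw [Finset.sum_congr rfl (fun x _ => e3 x), ← Finset.mul_sum, hsumF,
            xMat_inr_neg D F r t₁ s hsr hneg, xMat_inr_self, xMat_inr_neg D F r (t₁ + t₂) s hsr hneg]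
          by_cases hus : u = s
          · have : ¬ u = r := fun hh => hsr (hus ▸ hh)
            simp only [hus, hsr, if_true, if_false]; ring
          · by_cases hur : u = r
            · have hrs : ¬ r = s := fun h => hsr h.symm
              simp only [hur, hrs, if_true, if_false]; ring
            · simp only [hus, hur, if_false]; ring
      · -- generic column
        have e1 : ∀ i'' : Fin D.rank, D.xMat F r t₁ row (Sum.inl i'') * D.xMat F r t₂ (Sum.inl i'') (Sum.inr s)
            = 0 := fun i'' => by rw [xMat_inl_gen D F r t₂ s hsr hneg, mul_zero]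
        have e2 : ∀ u' : Fin D.nroots, D.xMat F r t₁ row (Sum.inr u') * D.xMat F r t₂ (Sum.inr u') (Sum.inr s)
            = D.xMat F r t₁ row (Sum.inr u') * (if u' = s then 1 else 0)
              + D.xMat F r t₁ row (Sum.inr u') * polyAt t₂ (ccAll D r.val s.val) u'.val := fun u' => by
          rw [xMat_inr_gen D F r t₂ s hsr hneg, mul_add]
        rw [Finset.sum_congr rfl (fun x _ => e1 x), Finset.sum_congr rfl (fun x _ => e2 x),
          Finset.sum_add_distrib, sum_mul_ite, Finset.sum_const_zero, zero_add, mul_one,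
          sum_mul_polyAt (fun u' => D.xMat F r t₁ row (Sum.inr u')) t₂ (ccAll D r.val s.val)]
        obtain ⟨isKey, hkey, hsh⟩ := hshape s.val
        rcases row with i' | u
        · rw [xMat_inl_gen D F r t₁ s hsr hneg, xMat_inl_gen D F r (t₁ + t₂) s hsr hneg, zero_add]
          apply List.sum_eq_zero
          intro y hy
          rw [List.mem_map] at hy
          obtain ⟨x, hx, rfl⟩ := hy
          obtain ⟨h1, h2, h3⟩ := htar s.val x hx
          rw [dif_pos h1, xMat_inl_gen D F r t₁ ⟨x.1, h1⟩ (fun hh => h2 (congrArg Fin.val hh)) h3, zero_mul]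
        · rw [xMat_inr_gen D F r t₁ s hsr hneg, xMat_inr_gen D F r (t₁ + t₂) s hsr hneg,
            shape_identity isKey (ccAll D r.val) hkey _ hsh t₁ t₂ u.val]
          have e3 : (List.map (fun x : ℕ × ℕ × ℤ => (if h : x.1 < D.nroots then D.xMat F r t₁ (Sum.inr u) (Sum.inr ⟨x.1, h⟩) else 0) *
              (((x.2.2 : ℤ) : F) * t₂ ^ x.2.1)) (ccAll D r.val s.val))
              = List.map (fun x : ℕ × ℕ × ℤ => (if x.1 = u.val then ((x.2.2 : ℤ) : F) * t₂ ^ x.2.1 else 0) +
                  polyAt t₁ (ccAll D r.val x.1) u.val * (((x.2.2 : ℤ) : F) * t₂ ^ x.2.1)) (ccAll D r.val s.val) := by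
            apply List.map_congr_left
            intro x hx
            obtain ⟨h1, h2, h3⟩ := htar s.val x hx
            rw [dif_pos h1, xMat_inr_gen D F r t₁ ⟨x.1, h1⟩ (fun hh => h2 (congrArg Fin.val hh)) h3, add_mul]
            congr 1
            by_cases hh : x.1 = u.val
            · have : u = ⟨x.1, h1⟩ := Fin.ext hh.symm
              rw [if_pos this, if_pos hh, one_mul]
            · have : ¬ u = ⟨x.1, h1⟩ := fun h => hh (congrArg Fin.val h).symm
              rw [if_neg this, if_neg hh, zero_mul]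
          rw [e3, List.sum_map_add]
          unfold polyAt
          ring

/-! ### the decidable table check -/

def sortedB : List ℕ → Bool
  | [] => true
  | [_] => true
  | a :: b :: l => decide (a < b) && sortedB (b :: l)

theorem pairwise_of_sortedB : ∀ l : List ℕ, sortedB l = true → l.Pairwise (· < ·)
  | [], _ => List.Pairwise.nil
  | [_], _ => List.pairwise_singleton _ _
  | a :: b :: l, h => by
    simp only [sortedB, Bool.and_eq_true, decide_eq_true_eq] at h
    have ih := pairwise_of_sortedB (b :: l) h.2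
    refine List.Pairwise.cons ?_ ih
    intro x hx
    rcases List.mem_cons.mp hx with rfl | hx'
    · exact h.1
    · exact lt_trans h.1 (List.rel_of_pairwise_cons ih hx')

def keyMask (l : List ℕ) : ℕ := l.foldr (fun s m => (1 <<< s) ||| m) 0

theorem testBit_keyMask (l : List ℕ) (u : ℕ) : (keyMask l).testBit u = true ↔ u ∈ l := by
  induction l with
  | nil => simp [keyMask]
  | cons a l ih =>
    have : keyMask (a :: l) = (1 <<< a) ||| keyMask l := rfl
    rw [this, Nat.testBit_or, Bool.or_eq_true, ih, Nat.one_shiftLeft, Nat.testBit_two_pow, List.mem_cons,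
      decide_eq_true_eq]
    constructor
    · rintro (h | h)
      · exact Or.inl h.symm
      · exact Or.inr h
    · rintro (h | h)
      · exact Or.inl h.symm
      · exact Or.inr h

def withMask (mask : ℕ) (k : ℕ → Bool) : Bool := Nat.casesOn mask (k 0) (fun m => k (m + 1))

theorem withMask_eq (mask : ℕ) (k : ℕ → Bool) : withMask mask k = k mask := by
  cases mask <;> rfl

theorem filter_key_eq_singleton {β : Type*} (ch : List (ℕ × β)) (hnd : (ch.map Prod.fst).Nodup)
    (e : ℕ × β) (he : e ∈ ch) : ch.filter (fun e' => e'.1 = e.1) = [e] := by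
  induction ch with
  | nil => simp at he
  | cons a ch ih =>
    rw [List.map_cons, List.nodup_cons] at hnd
    rcases List.mem_cons.mp he with rfl | he'
    · have : ch.filter (fun e' => e'.1 = e.1) = [] := by
        rw [List.filter_eq_nil_iff]
        intro x hx hxe
        apply hnd.1
        rw [List.mem_map]
        exact ⟨x, hx, by simpa using hxe⟩
      simp [List.filter_cons, this]
    · have hne : ¬ a.1 = e.1 := by
        intro h
        apply hnd.1
        rw [List.mem_map]
        exact ⟨e, he', h.symm⟩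
      simp [List.filter_cons, hne, ih hnd.2 he']

def sumOKB (D : ChevalleyDatum) (r : ℕ) : Bool :=
  ((List.range D.rank).map fun i => (D.coroot.getD r #[]).getD i 0 * (D.cartanSR.getD i #[]).getD r 0).sum == 2

def entryOKB (D : ChevalleyDatum) (r m : ℕ) (e : ℕ × Array (ℕ × ℤ)) : Bool :=
  (entryList e).all (fun x => decide (x.1 < D.nroots) && x.1 != r && x.1 != D.negIdx.getD r 0) &&
    shapeB (fun u => m.testBit u) (ccAll D r) (entryList e)

def rootOKB (D : ChevalleyDatum) (r : ℕ) : Bool :=
  sumOKB D r && sortedB ((D.chain.getD r #[]).toList.map Prod.fst) &&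
    withMask (keyMask ((D.chain.getD r #[]).toList.map Prod.fst))
      (fun m => (D.chain.getD r #[]).toList.all (fun e => entryOKB D r m e))

def addOKB (D : ChevalleyDatum) : Bool := (List.range D.nroots).all (fun r => rootOKB D r)

theorem sum_range_eq_list {M : Type*} [AddCommMonoid M] (f : ℕ → M) (n : ℕ) :
    ∑ i ∈ Finset.range n, f i = ((List.range n).map f).sum := by
  induction n with
  | zero => simp
  | succ n ih => rw [Finset.sum_range_succ, List.range_succ, List.map_append, List.sum_append, ih]; simp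

theorem addHyp_of_rootOKB (D : ChevalleyDatum) (r : ℕ) (h : rootOKB D r = true) : AddHyp D r := by
  unfold rootOKB at h
  rw [withMask_eq] at h
  simp only [Bool.and_eq_true, List.all_eq_true] at h
  obtain ⟨⟨hsum, hsort⟩, hent⟩ := h
  have hnd : ((D.chain.getD r #[]).toList.map Prod.fst).Nodup :=
    (pairwise_of_sortedB _ hsort).imp (fun hab => ne_of_lt hab)
  have hkeyNil : ∀ u, (keyMask ((D.chain.getD r #[]).toList.map Prod.fst)).testBit u = false → ccAll D r u = [] := by
    intro u hu
    have hnot : u ∉ (D.chain.getD r #[]).toList.map Prod.fst := by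
      intro hmem
      rw [← testBit_keyMask] at hmem
      rw [hmem] at hu
      exact Bool.noConfusion hu
    unfold ccAll
    have : (D.chain.getD r #[]).toList.filter (fun e => e.1 = u) = [] := by
      rw [List.filter_eq_nil_iff]
      intro x hx hxe
      apply hnot
      rw [List.mem_map]
      exact ⟨x, hx, by simpa using hxe⟩
    rw [this]; rfl
  have hcc : ∀ s, ccAll D r s = [] ∨ ∃ e ∈ (D.chain.getD r #[]).toList, e.1 = s ∧ ccAll D r s = entryList e := by
    intro s
    by_cases hs : s ∈ (D.chain.getD r #[]).toList.map Prod.fst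
    · right
      rw [List.mem_map] at hs
      obtain ⟨e, he, rfl⟩ := hs
      refine ⟨e, he, rfl, ?_⟩
      unfold ccAll
      rw [filter_key_eq_singleton _ hnd e he]
      simp
    · left
      apply hkeyNil
      by_contra hne
      rw [Bool.not_eq_false] at hne
      exact hs ((testBit_keyMask _ _).mp hne)
  refine ⟨?_, ?_, ?_⟩
  · rw [sum_range_eq_list]
    unfold sumOKB at hsum
    exact beq_iff_eq.mp hsum
  · intro s x hx
    rcases hcc s with h0 | ⟨e, he, -, hes⟩
    · rw [h0] at hx; simp at hx
    · rw [hes] at hx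
      have := (hent e he)
      unfold entryOKB at this
      simp only [Bool.and_eq_true, List.all_eq_true, decide_eq_true_eq, bne_iff_ne] at this
      obtain ⟨⟨h1, h2⟩, h3⟩ := this.1 x hx
      exact ⟨h1, h2, h3⟩
  · intro s
    refine ⟨fun u => (keyMask ((D.chain.getD r #[]).toList.map Prod.fst)).testBit u, hkeyNil, ?_⟩
    rcases hcc s with h0 | ⟨e, he, -, hes⟩
    · rw [h0]; rfl
    · rw [hes]
      have := (hent e he)
      unfold entryOKB at this
      simp only [Bool.and_eq_true] at this
      exact this.2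


end Cfsg.Agent.Lib.Helper7
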