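import Cfsg.Agent.Lib.Helper7.ThetaDefs

/-!
# Shared definitions for S1632, part 2: the lattice theta series and the representation numbers
(verbatim the two `def`s of `notes/S1632_leaves.lean`).
-/

set_option autoImplicit false

noncomputable section

namespace Cfsg.Agent.Lib.Helper7.Theta

open Complex
open scoped Real

/-- the theta series of an integral quadratic form -/
def latticeTheta {n : ℕ} (B : Matrix (Fin n) (Fin n) ℤ) (τ : ℂ) : ℂ :=
  ∑' x : Fin n → ℤ, cexp (π * I * τ * ((x ⬝ᵥ (B.mulVec x) : ℤ) : ℂ))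

/-- number of representations of `2 m` -/
def repCount {n : ℕ} (B : Matrix (Fin n) (Fin n) ℤ) (m : ℕ) : ℕ :=
  {x : Fin n → ℤ | x ⬝ᵥ (B.mulVec x) = 2 * (m : ℤ)}.ncard

end Cfsg.Agent.Lib.Helper7.Theta

end
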