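import Cfsg.Agent.Lib.Helper7.ChevLin

/-! Gradings of root elements by additive functionals (helper7). -/

set_option autoImplicit false

namespace Cfsg.Agent.Lib.Helper7

open Cfsg Cfsg.Lie Matrix

/-- the weight of a basis vector: `0` on the Cartan part, `A r` on the root vector `e_r` -/
def wtF (D : ChevalleyDatum) (A : ℕ → ℤ) : D.Idx → ℤ :=
  Sum.elim (fun _ => 0) (fun u => A u.val)

theorem polyAt_ne_zero {F : Type*} [Field F] (t : F) (T : List (ℕ × ℕ × ℤ)) (u : ℕ)
    (h : polyAt t T u ≠ 0) : ∃ x ∈ T, x.1 = u := by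
  by_contra hcon
  push Not at hcon
  apply h
  unfold polyAt
  apply List.sum_eq_zero
  intro y hy
  rw [List.mem_map] at hy
  obtain ⟨x, hx, rfl⟩ := hy
  rw [if_neg (hcon x hx)]

section
variable (D : ChevalleyDatum) (hD : D ∈ [chevG2, chevB2, chevD4, chevF4, chevE6, chevE7, chevE8])
variable (F : Type*) [Field F]
include hD

/-- an entry of `x_r(t)` differing from that of the identity sits in weight `k · A(r)`, `k ≥ 1` -/
theorem xMat_entry_cases {A : ℕ → ℤ} (hA : ChainAdd D A) (r : Fin D.nroots) (t : F) (i j : D.Idx)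
    (h : D.xMat F r t i j ≠ (1 : Matrix D.Idx D.Idx F) i j) :
    ∃ k : ℕ, 1 ≤ k ∧ wtF D A i - wtF D A j = k * A r.val := by
  have hN := negOK_of_mem D hD r.val r.isLt
  have hnegA : A (D.negIdx.getD r.val 0) = - A r.val := hA.negA r.val r.isLt hN.1
  rcases i with i' | u <;> rcases j with j' | v
  · exfalso; apply h
    rw [xMat_inl_inl, Matrix.one_apply]
    simp only [Sum.inl.injEq]
  · -- (inl, inr)
    by_cases hvr : v = r
    · exfalso; apply h
      rw [hvr, xMat_inl_self, Matrix.one_apply, if_neg (by simp)]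
    · by_cases hneg : v.val = D.negIdx.getD r.val 0
      · refine ⟨1, le_rfl, ?_⟩
        show (0 : ℤ) - A v.val = _
        rw [hneg, hnegA]; simp
      · exfalso; apply h
        rw [xMat_inl_gen D F r t v hvr hneg, Matrix.one_apply, if_neg (by simp)]
  · -- (inr, inl)
    by_cases hur : u = r
    · refine ⟨1, le_rfl, ?_⟩
      show A u.val - 0 = _
      rw [hur]; simp
    · exfalso; apply h
      rw [xMat_inr_inl, if_neg hur, Matrix.one_apply, if_neg (by simp)]
  · -- (inr, inr)
    by_cases hvr : v = r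
    · exfalso; apply h
      rw [hvr, xMat_inr_self, Matrix.one_apply]
      simp only [Sum.inr.injEq]
    · by_cases hneg : v.val = D.negIdx.getD r.val 0
      · rw [xMat_inr_neg D F r t v hvr hneg, Matrix.one_apply] at h
        simp only [Sum.inr.injEq] at h
        by_cases huv : u = v
        · exfalso; apply h; rw [if_pos huv, if_pos huv]
        · by_cases hur : u = r
          · refine ⟨2, by norm_num, ?_⟩
            show A u.val - A v.val = _
            rw [hur, hneg, hnegA]; push_cast; ring
          · exfalso; apply h; rw [if_neg huv, if_neg huv, if_neg hur]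
      · rw [xMat_inr_gen D F r t v hvr hneg, Matrix.one_apply] at h
        simp only [Sum.inr.injEq] at h
        have hp : polyAt t (ccAll D r.val v.val) u.val ≠ 0 := by
          intro h0
          apply h
          rw [h0, add_zero]
        obtain ⟨x, hx, hxu⟩ := polyAt_ne_zero t _ _ hp
        have hk := ccAll_exp_pos D _ _ x hx
        refine ⟨x.2.1, hk, ?_⟩
        show A u.val - A v.val = _
        rw [← hxu, hA.addA r.val r.isLt v.val v.isLt x hx (hxu ▸ u.isLt)]
        ring

end

/-- shift of the weights into the natural numbers -/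
def bndA (D : ChevalleyDatum) (A : ℕ → ℤ) : ℕ := ((List.range D.nroots).map fun r => (A r).natAbs).sum

theorem natAbs_le_bndA (D : ChevalleyDatum) (A : ℕ → ℤ) (r : ℕ) (hr : r < D.nroots) :
    (A r).natAbs ≤ bndA D A := by
  unfold bndA
  exact List.single_le_sum (fun _ _ => Nat.zero_le _) _
    (List.mem_map.mpr ⟨r, List.mem_range.mpr hr, rfl⟩)

/-- the level function attached to an integer functional -/
def lvlA (D : ChevalleyDatum) (A : ℕ → ℤ) : D.Idx → ℕ :=
  fun i => (wtF D A i + bndA D A).toNat

theorem lvlA_cast (D : ChevalleyDatum) (A : ℕ → ℤ) (i : D.Idx) :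
    ((lvlA D A i : ℕ) : ℤ) = wtF D A i + bndA D A := by
  unfold lvlA
  apply Int.toNat_of_nonneg
  rcases i with i' | u
  · show (0 : ℤ) ≤ 0 + _
    omega
  · show (0 : ℤ) ≤ A u.val + _
    have := natAbs_le_bndA D A u.val u.isLt
    omega

theorem lvlA_lt (D : ChevalleyDatum) (A : ℕ → ℤ) (i : D.Idx) : lvlA D A i < 2 * bndA D A + 1 := by
  have h := lvlA_cast D A i
  have : wtF D A i ≤ bndA D A := by
    rcases i with i' | u
    · show (0 : ℤ) ≤ _
      omega
    · show A u.val ≤ _
      have := natAbs_le_bndA D A u.val u.isLt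
      omega
  omega

section
variable (D : ChevalleyDatum) (hD : D ∈ [chevG2, chevB2, chevD4, chevF4, chevE6, chevE7, chevE8])
variable (F : Type*) [Field F]
include hD

/-- `x_r(t) - 1` has level `≥ m` when `A r ≥ m ≥ 1` -/
theorem xMat_level {A : ℕ → ℤ} (hA : ChainAdd D A) (r : Fin D.nroots) (t : F) (m : ℕ) (hm : 1 ≤ m)
    (hmA : (m : ℤ) ≤ A r.val) : Level (lvlA D A) m (D.xMat F r t - 1) := by
  intro i j hij
  rw [Matrix.sub_apply, sub_eq_zero]
  by_contra hne
  obtain ⟨k, hk, hw⟩ := xMat_entry_cases D hD F hA r t i j hne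
  have h1 := lvlA_cast D A i
  have h2 := lvlA_cast D A j
  have h3 : (k : ℤ) * A r.val ≥ A r.val := by nlinarith
  have : ((lvlA D A i : ℕ) : ℤ) < (lvlA D A j : ℕ) + m := by exact_mod_cast hij
  omega

/-- the entries of `x_r(t)` are concentrated in weight differences `0` when `A r = 0` -/
theorem xMat_bal {A : ℕ → ℤ} (hA : ChainAdd D A) (r : Fin D.nroots) (t : F) (h0 : A r.val = 0)
    (i j : D.Idx) (h : D.xMat F r t i j ≠ 0) : wtF D A i = wtF D A j := by
  by_cases hne : D.xMat F r t i j = (1 : Matrix D.Idx D.Idx F) i j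
  · rw [hne, Matrix.one_apply] at h
    by_cases hij : i = j
    · rw [hij]
    · rw [if_neg hij] at h; exact absurd rfl h
  · obtain ⟨k, hk, hw⟩ := xMat_entry_cases D hD F hA r t i j hne
    rw [h0, mul_zero] at hw
    omega

end

end Cfsg.Agent.Lib.Helper7
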