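import Cfsg.Agent.Lib.Helper7.ChevSL1

/-! Descent of every root to a fundamental root or its negative by fundamental reflections: table
check (helper7). -/

set_option autoImplicit false
namespace Cfsg.Agent.Lib.Helper7
open Cfsg Cfsg.Lie

/-- every root `r` is `±p_j`, or some `w_j r` has smaller height; and distinct fundamental reflections
do not send a fundamental root to its negative -/
def descOKB (D : ChevalleyDatum) : Bool :=
  (List.range D.rank).all (fun i => (List.range D.rank).all fun j =>
    i == j || D.reflectRoot j (D.simple i) != D.neg (D.simple i)) &&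
  (List.range D.nroots).all fun r =>
    (List.range D.rank).any fun j =>
      r == D.simple j || r == D.neg (D.simple j) ||
        decide ((cabsL D (D.reflectRoot j r)).sum < (cabsL D r).sum)

structure DescFacts (D : ChevalleyDatum) : Prop where
  simpleNe : ∀ i < D.rank, ∀ j < D.rank, i ≠ j → D.reflectRoot j (D.simple i) ≠ D.neg (D.simple i)
  descent : ∀ r < D.nroots, ∃ j < D.rank, r = D.simple j ∨ r = D.neg (D.simple j) ∨
    (cabsL D (D.reflectRoot j r)).sum < (cabsL D r).sum

theorem descFacts_of_descOKB (D : ChevalleyDatum) (h : descOKB D = true) : DescFacts D := by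
  unfold descOKB at h
  simp only [Bool.and_eq_true, List.all_eq_true, List.mem_range, Bool.or_eq_true, beq_iff_eq, bne_iff_ne,
    List.any_eq_true, decide_eq_true_eq] at h
  obtain ⟨h1, h2⟩ := h
  refine ⟨?_, ?_⟩
  · intro i hi j hj hij
    rcases h1 i hi j hj with h | h
    · exact absurd h hij
    · exact h
  · intro r hr
    obtain ⟨j, hj, h⟩ := h2 r hr
    refine ⟨j, hj, ?_⟩
    rcases h with (h | h) | h
    · exact Or.inl h
    · exact Or.inr (Or.inl h)
    · exact Or.inr (Or.inr h)

theorem descOKB_G2 : descOKB chevG2 = true := by decide +kernel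
theorem descOKB_B2 : descOKB chevB2 = true := by decide +kernel
theorem descOKB_D4 : descOKB chevD4 = true := by decide +kernel
theorem descOKB_F4 : descOKB chevF4 = true := by decide +kernel
theorem descOKB_E6 : descOKB chevE6 = true := by decide +kernel
theorem descOKB_E7 : descOKB chevE7 = true := by decide +kernel
theorem descOKB_E8 : descOKB chevE8 = true := by decide +kernel

theorem descFacts_of_mem (D : ChevalleyDatum)
    (hD : D ∈ [chevG2, chevB2, chevD4, chevF4, chevE6, chevE7, chevE8]) : DescFacts D :=
  mem_seven_cases (P := DescFacts)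
    (descFacts_of_descOKB _ descOKB_G2) (descFacts_of_descOKB _ descOKB_B2)
    (descFacts_of_descOKB _ descOKB_D4) (descFacts_of_descOKB _ descOKB_F4)
    (descFacts_of_descOKB _ descOKB_E6) (descFacts_of_descOKB _ descOKB_E7)
    (descFacts_of_descOKB _ descOKB_E8) D hD

end Cfsg.Agent.Lib.Helper7
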