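import Cfsg.Agent.Lib.Helper7.ChevRank1
import Cfsg.Agent.Lib.Helper7.ChevDesc
import Cfsg.Agent.Lib.Helper7.ChevMono

/-! Ingredients of the (B,N)-pair of a Chevalley group, in GL: `N = ⟨H, n_p⟩`, the action of `N` on the
root subgroups, and the double coset axiom (helper7). -/

set_option autoImplicit false

namespace Cfsg.Agent.Lib.Helper7

open Cfsg Cfsg.Lie Matrix

section
variable (D : ChevalleyDatum) (hD : D ∈ [chevG2, chevB2, chevD4, chevF4, chevE6, chevE7, chevE8])
variable (F : Type*) [Field F]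
include hD

/-- the subgroup generated by the `n_p`, `p` fundamental -/
def fundSubgroup : Subgroup (GL D.Idx F) :=
  Subgroup.closure {g : GL D.Idx F | ∃ j < D.rank, (g : Matrix D.Idx D.Idx F) = D.nMat F (D.simple j) 1}

theorem nFund_mem_fundSubgroup (i : ℕ) (hi : i < D.rank) : nFund D hD F i ∈ fundSubgroup D F := by
  apply Subgroup.subset_closure
  refine ⟨i, hi, ?_⟩
  unfold nFund
  rw [coe_wordGL]; rfl

theorem nGL_neg_one_eq_inv (r : ℕ) :
    wordGL D hD F (D.nWord r (-1)) = (wordGL D hD F (D.nWord r 1))⁻¹ := by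
  rw [eq_inv_iff_mul_eq_one]
  exact nGL_neg_one_mul D hD F r

/-- `n_p n_r(1) n_p⁻¹ = n_{w_p r}(η)` -/
theorem nFund_conj_nGL (i : ℕ) (hi : i < D.rank) (r : ℕ) (hr : r < D.nroots) :
    nFund D hD F i * wordGL D hD F (D.nWord r 1) * (nFund D hD F i)⁻¹ =
      wordGL D hD F (D.nWord (D.reflectRoot i r) ((etaFn D i r : ℤ) : F)) := by
  have hC := conjFacts_of_mem D hD i hi
  have hnr := (hC.wneg r hr).1
  unfold nFund
  rw [nGL_conj_wordGL D hD F i hi]
  · unfold ChevalleyDatum.nWord
    simp only [List.map_cons, List.map_nil]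
    rw [(hC.wneg r hr).2.1, hC.ηneg r hr, mul_one]
    have : ((etaFn D i r : ℤ) : F) * -(1 : F)⁻¹ = -(((etaFn D i r : ℤ) : F))⁻¹ := by
      rcases hC.ηpm r hr with h | h <;> rw [h] <;> norm_num
    rw [this]
  · intro p hp
    unfold ChevalleyDatum.nWord at hp
    simp only [List.mem_cons, List.not_mem_nil, or_false] at hp
    rcases hp with rfl | rfl | rfl
    · exact hr
    · exact hnr
    · exact hr

/-- if `n_r(1)` lies in a subgroup containing `n_p`, so does `n_{w_p r}(1)` -/
theorem nGL_reflect_mem (P : Subgroup (GL D.Idx F)) (i : ℕ) (hi : i < D.rank)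
    (hn : nFund D hD F i ∈ P) (r : ℕ) (hr : r < D.nroots)
    (h : wordGL D hD F (D.nWord r 1) ∈ P) : wordGL D hD F (D.nWord (D.reflectRoot i r) 1) ∈ P := by
  have h1 := nFund_conj_nGL D hD F i hi r hr
  have h2 : wordGL D hD F (D.nWord (D.reflectRoot i r) ((etaFn D i r : ℤ) : F)) ∈ P := by
    rw [← h1]
    exact Subgroup.mul_mem _ (Subgroup.mul_mem _ hn h) (Subgroup.inv_mem _ hn)
  rcases (conjFacts_of_mem D hD i hi).ηpm r hr with h3 | h3
  · rw [h3] at h2; simpa using h2
  · rw [h3] at h2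
    have h4 : wordGL D hD F (D.nWord (D.reflectRoot i r) (-1)) ∈ P := by simpa using h2
    rw [nGL_neg_one_eq_inv] at h4
    have := Subgroup.inv_mem _ h4
    rwa [inv_inv] at this

/-- every `n_r(1)` lies in the subgroup generated by the fundamental ones -/
theorem nGL_mem_fundSubgroup : ∀ (m : ℕ) (r : ℕ), r < D.nroots → (cabsL D r).sum ≤ m →
    wordGL D hD F (D.nWord r 1) ∈ fundSubgroup D F := by
  intro m
  induction m using Nat.strong_induction_on with
  | _ m ih =>
    intro r hr hm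
    obtain ⟨j, hj, h | h | h⟩ := (descFacts_of_mem D hD).descent r hr
    · rw [h]; exact nFund_mem_fundSubgroup D hD F j hj
    · have := nGL_reflect_mem D hD F _ j hj (nFund_mem_fundSubgroup D hD F j hj) (D.simple j)
        (fundFacts_of_mem D hD j hj).hp (nFund_mem_fundSubgroup D hD F j hj)
      rw [reflectRoot_simple] at this
      rw [h]; exact this
    · have hC := conjFacts_of_mem D hD j hj
      have hr' := hC.wlt r hr
      have h1 := ih _ (lt_of_lt_of_le h hm) _ hr' le_rfl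
      have := nGL_reflect_mem D hD F _ j hj (nFund_mem_fundSubgroup D hD F j hj) _ hr' h1
      rwa [hC.winv r hr] at this

theorem monomial_eq_sup_fund : D.monomialSubgroup F = D.diagonalSubgroup F ⊔ fundSubgroup D F := by
  unfold ChevalleyDatum.monomialSubgroup
  apply le_antisymm
  · apply sup_le le_sup_left
    rw [Subgroup.closure_le]
    rintro g ⟨r, hr, hg⟩
    have hgn : g = wordGL D hD F (D.nWord r 1) := Units.ext (by rw [hg, coe_wordGL]; rfl)
    rw [hgn]
    exact Subgroup.mem_sup_right (nGL_mem_fundSubgroup D hD F _ r hr le_rfl)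
  · apply sup_le le_sup_left
    refine le_trans ?_ le_sup_right
    unfold fundSubgroup
    apply Subgroup.closure_mono
    rintro g ⟨j, hj, hg⟩
    exact ⟨D.simple j, (fundFacts_of_mem D hD j hj).hp, hg⟩

/-- `n` permutes the root subgroups compatibly with negation -/
def RootConj (n : GL D.Idx F) : Prop :=
  ∀ s < D.nroots, ∃ a < D.nroots, ∃ c : F, c ≠ 0 ∧
    (∀ t : F, n⁻¹ * xGL D hD F s t * n = xGL D hD F a (c * t)) ∧
    (∀ t : F, n⁻¹ * xGL D hD F (D.neg s) t * n = xGL D hD F (D.neg a) (c⁻¹ * t))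

theorem rootConj_one : RootConj D hD F 1 := by
  intro s hs
  refine ⟨s, hs, 1, one_ne_zero, fun t => ?_, fun t => ?_⟩
  · rw [inv_one, one_mul, mul_one, one_mul]
  · rw [inv_one, one_mul, mul_one, inv_one, one_mul]

theorem rootConj_mul (n n' : GL D.Idx F) (h : RootConj D hD F n) (h' : RootConj D hD F n') :
    RootConj D hD F (n * n') := by
  intro s hs
  obtain ⟨a, ha, c, hc, h1, h2⟩ := h s hs
  obtain ⟨a', ha', c', hc', h1', h2'⟩ := h' a ha
  refine ⟨a', ha', c' * c, mul_ne_zero hc' hc, fun t => ?_, fun t => ?_⟩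
  · have e : (n * n')⁻¹ * xGL D hD F s t * (n * n') = n'⁻¹ * (n⁻¹ * xGL D hD F s t * n) * n' := by group
    rw [e, h1, h1', mul_assoc]
  · have e : (n * n')⁻¹ * xGL D hD F (D.neg s) t * (n * n') =
        n'⁻¹ * (n⁻¹ * xGL D hD F (D.neg s) t * n) * n' := by group
    rw [e, h2, h2', _root_.mul_inv_rev, ← mul_assoc, mul_comm c⁻¹ c'⁻¹]

theorem rootConj_diag (h : GL D.Idx F) (hh : h ∈ D.diagonalSubgroup F) : RootConj D hD F h := by
  obtain ⟨χ, hχ, hhm⟩ := mem_diagonalSubgroup_char D hD F h hh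
  intro s hs
  have hns : D.neg s < D.nroots := (negOK_of_mem D hD s hs).1
  have key : ∀ (v : ℕ) (t : F), v < D.nroots → h⁻¹ * xGL D hD F v t * h = xGL D hD F v ((χ v)⁻¹ * t) := by
    intro v t hv
    have := diagGL_xGL_comm D hD F h χ hχ hhm v ((χ v)⁻¹ * t)
    rw [← mul_assoc, mul_inv_cancel₀ (hχ.ne0 v hv), one_mul] at this
    rw [mul_assoc, ← this]; group
  refine ⟨s, hs, (χ s)⁻¹, inv_ne_zero (hχ.ne0 s hs), fun t => key s t hs, fun t => ?_⟩
  rw [key _ t hns, hχ.negC s hs hns]

theorem rootConj_nFund_inv (i : ℕ) (hi : i < D.rank) : RootConj D hD F (nFund D hD F i)⁻¹ := by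
  have hC := conjFacts_of_mem D hD i hi
  intro s hs
  have hns := (hC.wneg s hs).1
  have hη : ((etaFn D i s : ℤ) : F) ≠ 0 := by
    rcases hC.ηpm s hs with h | h <;> rw [h] <;> norm_num
  refine ⟨D.reflectRoot i s, hC.wlt s hs, ((etaFn D i s : ℤ) : F), hη, fun t => ?_, fun t => ?_⟩
  · rw [inv_inv]
    exact nGL_conj_xGL D hD F i hi s hs t
  · rw [inv_inv]
    have := nGL_conj_xGL D hD F i hi (D.neg s) hns t
    unfold nFund
    rw [this, (hC.wneg s hs).2.1, hC.ηneg s hs]
    congr 1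
    rcases hC.ηpm s hs with h | h <;> rw [h] <;> norm_num

theorem rootConj_nFund (i : ℕ) (hi : i < D.rank) : RootConj D hD F (nFund D hD F i) := by
  have hC := conjFacts_of_mem D hD i hi
  intro s hs
  have hws := hC.wlt s hs
  have hns := (hC.wneg s hs).1
  have hη : ((etaFn D i (D.reflectRoot i s) : ℤ) : F) ≠ 0 := by
    rcases hC.ηpm _ hws with h | h <;> rw [h] <;> norm_num
  have key : ∀ (v : ℕ) (t : F), v < D.nroots →
      (nFund D hD F i)⁻¹ * xGL D hD F v t * nFund D hD F i =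
        xGL D hD F (D.reflectRoot i v) (((etaFn D i (D.reflectRoot i v) : ℤ) : F) * t) := by
    intro v t hv
    have hwv := hC.wlt v hv
    have h1 := nGL_conj_xGL D hD F i hi _ hwv (((etaFn D i (D.reflectRoot i v) : ℤ) : F) * t)
    rw [hC.winv v hv, ← mul_assoc, eta_sq D hD F i hi _ hwv, one_mul] at h1
    rw [← h1]
    unfold nFund
    group
  refine ⟨D.reflectRoot i s, hws, _, hη, fun t => key s t hs, fun t => ?_⟩
  rw [key _ t hns, (hC.wneg s hs).2.1, hC.ηneg _ hws]
  congr 1
  rcases hC.ηpm _ hws with h | h <;> rw [h] <;> norm_num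

/-- the subgroup of elements `n` with `RootConj n` and `RootConj n⁻¹` -/
def rootConjSubgroup : Subgroup (GL D.Idx F) where
  carrier := {n | RootConj D hD F n ∧ RootConj D hD F n⁻¹}
  one_mem' := ⟨rootConj_one D hD F, by rw [inv_one]; exact rootConj_one D hD F⟩
  mul_mem' := by
    intro a b ha hb
    refine ⟨rootConj_mul D hD F a b ha.1 hb.1, ?_⟩
    rw [_root_.mul_inv_rev]
    exact rootConj_mul D hD F _ _ hb.2 ha.2
  inv_mem' := by
    intro a ha
    refine ⟨ha.2, ?_⟩
    rw [inv_inv]; exact ha.1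

theorem monomial_le_rootConj : D.monomialSubgroup F ≤ rootConjSubgroup D hD F := by
  rw [monomial_eq_sup_fund D hD F]
  apply sup_le
  · intro h hh
    exact ⟨rootConj_diag D hD F h hh, rootConj_diag D hD F _ (Subgroup.inv_mem _ hh)⟩
  · unfold fundSubgroup
    rw [Subgroup.closure_le]
    rintro g ⟨j, hj, hg⟩
    have hgn : g = nFund D hD F j := by
      apply Units.ext
      unfold nFund
      rw [hg, coe_wordGL]; rfl
    rw [hgn]
    exact ⟨rootConj_nFund D hD F j hj, rootConj_nFund_inv D hD F j hj⟩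

end

end Cfsg.Agent.Lib.Helper7
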