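import Cfsg.Agent.Lib.Helper7.ChevCoef
import Cfsg.Agent.Lib.Helper7.ChevGrade
import Cfsg.Agent.Lib.Helper7.ChevUp
import Cfsg.Agent.Lib.Helper7.ChevNorm

/-! Levi decomposition of the standard parabolic subgroups (helper7). -/

set_option autoImplicit false

namespace Cfsg.Agent.Lib.Helper7

open Cfsg Cfsg.Lie Matrix
open Classical

section
variable (D : ChevalleyDatum) (hD : D ∈ [chevG2, chevB2, chevD4, chevF4, chevE6, chevE7, chevE8])
variable (W : List (List ℤ)) (hW : coefOKB D W = true)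
include hD hW

omit hD hW in
theorem getD_coroot_nonneg (r : ℕ) (hr : D.IsPosRoot r) (k : ℕ) : 0 ≤ (D.coroot.getD r #[]).getD k 0 := by
  by_cases hk : k < (D.coroot.getD r #[]).size
  · rw [Array.getD_eq_getD_getElem?, Array.getElem?_eq_getElem hk]
    exact hr.2 _ (by simp)
  · rw [Array.getD_eq_getD_getElem?, Array.getElem?_eq_none (by omega)]
    rfl

omit hD hW in
theorem getD_coroot_nonpos (r : ℕ) (hr : D.IsNegRoot r) (k : ℕ) : (D.coroot.getD r #[]).getD k 0 ≤ 0 := by
  by_cases hk : k < (D.coroot.getD r #[]).size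
  · rw [Array.getD_eq_getD_getElem?, Array.getElem?_eq_getElem hk]
    exact hr.2 _ (by simp)
  · rw [Array.getD_eq_getD_getElem?, Array.getElem?_eq_none (by omega)]
    rfl

omit hD in
theorem coef_nonneg_of_pos (r : ℕ) (hr : D.IsPosRoot r) (k : ℕ) (hk : k < D.rank) : 0 ≤ coefF D W k r := by
  have h1 := sign_of_coefOKB D W hW r hr.1 k hk
  have h2 := getD_coroot_nonneg D r hr k
  rw [← Int.sign_nonneg_iff] at h2 ⊢
  rw [h1]; exact h2

omit hD in
theorem coef_nonpos_of_neg (r : ℕ) (hr : D.IsNegRoot r) (k : ℕ) (hk : k < D.rank) : coefF D W k r ≤ 0 := by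
  have h1 := sign_of_coefOKB D W hW r hr.1 k hk
  have h2 := getD_coroot_nonpos D r hr k
  rw [← Int.sign_nonpos_iff] at h2 ⊢
  rw [h1]; exact h2

omit hD in
theorem inRootSub_iff (J : Set ℕ) (r : ℕ) :
    D.InRootSub J r ↔ r < D.nroots ∧ ∀ k < D.rank, k ∉ J → coefF D W k r = 0 := by
  unfold ChevalleyDatum.InRootSub
  constructor
  · rintro ⟨hr, h⟩
    refine ⟨hr, fun k hk hkJ => ?_⟩
    have h1 := sign_of_coefOKB D W hW r hr k hk
    rw [h k hk hkJ, Int.sign_zero, Int.sign_eq_zero_iff_zero] at h1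
    exact h1
  · rintro ⟨hr, h⟩
    refine ⟨hr, fun k hk hkJ => ?_⟩
    have h1 := sign_of_coefOKB D W hW r hr k hk
    rw [h k hk hkJ, Int.sign_zero] at h1
    exact Int.sign_eq_zero_iff_zero.mp h1.symm

theorem isPosRoot_of_coef_pos (r : ℕ) (hr : r < D.nroots) (k : ℕ) (hk : k < D.rank)
    (h : 0 < coefF D W k r) : D.IsPosRoot r := by
  rcases posOrNeg_of_mem D hD r hr with hp | hn
  · exact hp
  · exfalso
    have := coef_nonpos_of_neg D W hW r hn k hk
    omega

/-- the level functional of `J`: the sum of the coefficients outside `J` -/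
noncomputable def levJ (J : Set ℕ) : ℕ → ℤ :=
  fun r => ((List.range D.rank).map fun k => (if k ∈ J then (0 : ℤ) else 1) * coefF D W k r).sum

omit hW in
theorem chainAdd_levJ (J : Set ℕ) : ChainAdd D (levJ D W J) :=
  chainAdd_listSum D (List.range D.rank) (fun k => if k ∈ J then (0 : ℤ) else 1) (fun k => coefF D W k)
    (fun k _ => chainAdd_linF D hD _)

omit hD in
theorem levJ_eq_zero (J : Set ℕ) (r : ℕ) (hr : D.InRootSub J r) : levJ D W J r = 0 := by
  unfold levJ
  apply List.sum_eq_zero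
  intro y hy
  rw [List.mem_map] at hy
  obtain ⟨k, hk, rfl⟩ := hy
  rw [List.mem_range] at hk
  by_cases hkJ : k ∈ J
  · rw [if_pos hkJ, zero_mul]
  · rw [((inRootSub_iff D W hW J r).mp hr).2 k hk hkJ, mul_zero]

omit hD in
theorem levJ_pos (J : Set ℕ) (r : ℕ) (hr : D.IsPosRoot r) (hnr : ¬ D.InRootSub J r) :
    1 ≤ levJ D W J r := by
  have hex : ∃ k < D.rank, k ∉ J ∧ coefF D W k r ≠ 0 := by
    by_contra hcon
    push Not at hcon
    exact hnr ((inRootSub_iff D W hW J r).mpr ⟨hr.1, hcon⟩)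
  obtain ⟨k, hk, hkJ, hne⟩ := hex
  have hnn := coef_nonneg_of_pos D W hW r hr
  have hterm : ∀ y ∈ (List.range D.rank).map
      (fun k => (if k ∈ J then (0 : ℤ) else 1) * coefF D W k r), 0 ≤ y := by
    intro y hy
    rw [List.mem_map] at hy
    obtain ⟨k', hk', rfl⟩ := hy
    rw [List.mem_range] at hk'
    by_cases hkJ' : k' ∈ J
    · rw [if_pos hkJ', zero_mul]
    · rw [if_neg hkJ', one_mul]; exact hnn k' hk'
  have h1 : (if k ∈ J then (0 : ℤ) else 1) * coefF D W k r ≤ levJ D W J r := by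
    unfold levJ
    exact List.single_le_sum hterm _ (List.mem_map.mpr ⟨k, List.mem_range.mpr hk, rfl⟩)
  rw [if_neg hkJ, one_mul] at h1
  have := hnn k hk
  omega

end

end Cfsg.Agent.Lib.Helper7
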