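import Cfsg.Agent.Lib.Helper7.ChevLevi

/-! Levi decomposition of the standard parabolic subgroups: group theory (helper7). -/

set_option autoImplicit false

namespace Cfsg.Agent.Lib.Helper7

open Cfsg Cfsg.Lie Matrix
open Classical

/-- the invertible matrices that, with their inverses, preserve the grading by `A` -/
def balSubgroup (D : ChevalleyDatum) (F : Type*) [Field F] (A : ℕ → ℤ) : Subgroup (GL D.Idx F) where
  carrier := {g | (∀ i j, (g : Matrix D.Idx D.Idx F) i j ≠ 0 → wtF D A i = wtF D A j) ∧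
    (∀ i j, ((g⁻¹ : GL D.Idx F) : Matrix D.Idx D.Idx F) i j ≠ 0 → wtF D A i = wtF D A j)}
  one_mem' := by
    constructor
    · intro i j h
      rw [Units.val_one, Matrix.one_apply] at h
      by_cases hij : i = j
      · rw [hij]
      · rw [if_neg hij] at h; exact absurd rfl h
    · intro i j h
      rw [inv_one, Units.val_one, Matrix.one_apply] at h
      by_cases hij : i = j
      · rw [hij]
      · rw [if_neg hij] at h; exact absurd rfl h
  mul_mem' := by
    rintro a b ⟨ha1, ha2⟩ ⟨hb1, hb2⟩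
    constructor
    · intro i j h
      rw [Units.val_mul, Matrix.mul_apply] at h
      obtain ⟨k, -, hk⟩ := Finset.exists_ne_zero_of_sum_ne_zero h
      rw [ha1 i k (left_ne_zero_of_mul hk), hb1 k j (right_ne_zero_of_mul hk)]
    · intro i j h
      rw [_root_.mul_inv_rev, Units.val_mul, Matrix.mul_apply] at h
      obtain ⟨k, -, hk⟩ := Finset.exists_ne_zero_of_sum_ne_zero h
      rw [hb2 i k (left_ne_zero_of_mul hk), ha2 k j (right_ne_zero_of_mul hk)]
  inv_mem' := by
    rintro a ⟨ha1, ha2⟩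
    refine ⟨ha2, ?_⟩
    rw [inv_inv]; exact ha1

section
variable (D : ChevalleyDatum) (hD : D ∈ [chevG2, chevB2, chevD4, chevF4, chevE6, chevE7, chevE8])
variable (F : Type*) [Field F]
variable (W : List (List ℤ)) (hW : coefOKB D W = true)
include hD hW

/-- conjugating a generator of `U_J` by a root element of `P_J` stays in `U_J` -/
theorem xGL_conj_uJ (J : Set ℕ) (s : ℕ) (hs : D.IsPosRoot s ∨ D.InRootSub J s) (u : F) :
    ∀ x ∈ {g : GL D.Idx F | ∃ (r : ℕ) (t : F), D.IsPosRoot r ∧ ¬ D.InRootSub J r ∧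
      (g : Matrix D.Idx D.Idx F) = D.x F r t},
    xGL D hD F s u * x * (xGL D hD F s u)⁻¹ ∈ D.unipotentRadical F J := by
  rintro x ⟨r, t, hr, hnr, hxm⟩
  have hx : x = xGL D hD F r t := Units.ext (by rw [hxm, coe_xGL])
  rw [hx]
  have hslt : s < D.nroots := by rcases hs with h | h; exact h.1; exact h.1
  have hnn := coef_nonneg_of_pos D W hW r hr
  have hex : ∃ k < D.rank, k ∉ J ∧ coefF D W k r ≠ 0 := by
    by_contra hcon
    push Not at hcon
    exact hnr ((inRootSub_iff D W hW J r).mpr ⟨hr.1, hcon⟩)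
  obtain ⟨k₀, hk₀, hk₀J, hne⟩ := hex
  have hpos₀ : 0 < coefF D W k₀ r := lt_of_le_of_ne (hnn k₀ hk₀) (Ne.symm hne)
  have hs₀ : 0 ≤ coefF D W k₀ s := by
    rcases hs with h | h
    · exact coef_nonneg_of_pos D W hW s h k₀ hk₀
    · rw [((inRootSub_iff D W hW J s).mp h).2 k₀ hk₀ hk₀J]
  have hgen : xGL D hD F r t ∈ D.unipotentRadical F J := by
    apply Subgroup.subset_closure
    exact ⟨r, t, hr, hnr, coe_xGL D hD F _ _⟩
  by_cases hrs : r = s
  · rw [hrs, xGL_inv, xGL_mul, xGL_mul]
    have : u + t + -u = t := by ring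
    rw [this, ← hrs]; exact hgen
  by_cases hrn : r = D.neg s
  · exfalso
    have hA := chainAdd_linF D hD (W.getD k₀ [])
    have := hA.negA s hslt (negOK_of_mem D hD s hslt).1
    have h2 : coefF D W k₀ r = - coefF D W k₀ s := by rw [hrn]; exact this
    omega
  rw [xGL_conj_xGL D hD F s r hslt hr.1 hrs hrn u t]
  apply Subgroup.mul_mem _ hgen
  unfold wordGL
  apply Subgroup.list_prod_mem
  intro g hg
  rw [List.mem_map] at hg
  obtain ⟨p, hp, rfl⟩ := hg
  unfold ChevalleyDatum.commWord at hp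
  rw [List.mem_map] at hp
  obtain ⟨c, hc, rfl⟩ := hp
  have hA := chainAdd_linF D hD (W.getD k₀ [])
  obtain ⟨hc1, hi, hj, hlin⟩ := hA.commTerms D hD s r hslt hr.1 c hc
  have hcpos : 0 < coefF D W k₀ c.1 := by
    have e : coefF D W k₀ c.1 = c.2.2.1 * coefF D W k₀ s + c.2.2.2 * coefF D W k₀ r := hlin
    have h1 : (0 : ℤ) ≤ c.2.2.1 * coefF D W k₀ s := by positivity
    have h2 : coefF D W k₀ r ≤ c.2.2.2 * coefF D W k₀ r := by
      have : (1 : ℤ) ≤ c.2.2.2 := by exact_mod_cast hj
      nlinarith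
    omega
  apply Subgroup.subset_closure
  refine ⟨c.1, _, isPosRoot_of_coef_pos D hD W hW c.1 hc1 k₀ hk₀ hcpos, ?_, coe_xGL D hD F _ _⟩
  intro hin
  have := ((inRootSub_iff D W hW J c.1).mp hin).2 k₀ hk₀ hk₀J
  omega

theorem xGL_mem_normalizer_uJ (J : Set ℕ) (s : ℕ) (hs : D.IsPosRoot s ∨ D.InRootSub J s) (u : F) :
    xGL D hD F s u ∈ Subgroup.normalizer (D.unipotentRadical F J : Set (GL D.Idx F)) := by
  unfold ChevalleyDatum.unipotentRadical
  apply mem_normalizer_closure
  · exact xGL_conj_uJ D hD F W hW J s hs u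
  · intro x hx
    rw [xGL_inv]
    exact xGL_conj_uJ D hD F W hW J s hs (-u) x hx

omit hW in
theorem diag_mem_normalizer_uJ (J : Set ℕ) (h : GL D.Idx F) (hh : h ∈ D.diagonalSubgroup F) :
    h ∈ Subgroup.normalizer (D.unipotentRadical F J : Set (GL D.Idx F)) := by
  have key : ∀ h : GL D.Idx F, h ∈ D.diagonalSubgroup F →
      ∀ x ∈ {g : GL D.Idx F | ∃ (r : ℕ) (t : F), D.IsPosRoot r ∧ ¬ D.InRootSub J r ∧
        (g : Matrix D.Idx D.Idx F) = D.x F r t}, h * x * h⁻¹ ∈ D.unipotentRadical F J := by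
    intro h hh
    obtain ⟨χ, hχ, hhm⟩ := mem_diagonalSubgroup_char D hD F h hh
    rintro x ⟨r, t, hr, hnr, hxm⟩
    have hx : x = xGL D hD F r t := Units.ext (by rw [hxm, coe_xGL])
    have e : h * x * h⁻¹ = xGL D hD F r (χ r * t) := by
      rw [hx, diagGL_xGL_comm D hD F h χ hχ hhm r t]; group
    rw [e]
    apply Subgroup.subset_closure
    exact ⟨r, χ r * t, hr, hnr, coe_xGL D hD F _ _⟩
  unfold ChevalleyDatum.unipotentRadical
  apply mem_normalizer_closure
  · exact key h hh
  · exact key h⁻¹ (Subgroup.inv_mem _ hh)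

/-- `U_J ⊴ P_J` -/
theorem parabolic_le_normalizer_uJ (J : Set ℕ) :
    D.parabolicSubgroup F J ≤ Subgroup.normalizer (D.unipotentRadical F J : Set (GL D.Idx F)) := by
  rw [parabolic_eq_parGen D hD F J]
  unfold parGen
  apply sup_le
  · intro h hh
    exact diag_mem_normalizer_uJ D hD F J h hh
  · rw [Subgroup.closure_le]
    rintro g ⟨r, t, hr, hg⟩
    have : g = xGL D hD F r t := Units.ext (by rw [hg, coe_xGL])
    rw [this]
    exact xGL_mem_normalizer_uJ D hD F W hW J r hr t

omit hW in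
/-- `P_J = U_J L_J` -/
theorem uJ_sup_levi (J : Set ℕ) :
    D.unipotentRadical F J ⊔ D.leviSubgroup F J = D.parabolicSubgroup F J := by
  rw [parabolic_eq_parGen D hD F J]
  unfold parGen ChevalleyDatum.unipotentRadical ChevalleyDatum.leviSubgroup
  apply le_antisymm
  · apply sup_le
    · refine le_trans (Subgroup.closure_mono ?_) le_sup_right
      rintro g ⟨r, t, hr, -, hg⟩
      exact ⟨r, t, Or.inl hr, hg⟩
    · apply sup_le le_sup_left
      refine le_trans (Subgroup.closure_mono ?_) le_sup_right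
      rintro g ⟨r, t, hr, hg⟩
      exact ⟨r, t, Or.inr hr, hg⟩
  · apply sup_le
    · exact le_trans le_sup_left le_sup_right
    · rw [Subgroup.closure_le]
      rintro g ⟨r, t, hr, hg⟩
      by_cases hin : D.InRootSub J r
      · apply Subgroup.mem_sup_right
        apply Subgroup.mem_sup_right
        apply Subgroup.subset_closure
        exact ⟨r, t, hin, hg⟩
      · apply Subgroup.mem_sup_left
        apply Subgroup.subset_closure
        rcases hr with hr | hr
        · exact ⟨r, t, hr, hin, hg⟩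
        · exact absurd hr hin

/-- `U_J ∩ L_J = 1` -/
theorem uJ_inf_levi (J : Set ℕ) : D.unipotentRadical F J ⊓ D.leviSubgroup F J = ⊥ := by
  obtain ⟨A, hAdef⟩ : ∃ A : ℕ → ℤ, A = levJ D W J := ⟨_, rfl⟩
  have hA : ChainAdd D A := by rw [hAdef]; exact chainAdd_levJ D hD W J
  -- `U_J` is unitriangular for the grading
  have hU : D.unipotentRadical F J ≤
      unitriSubgroup (R := F) (lvlA D A) (2 * bndA D A + 1) (lvlA_lt D A) 1 le_rfl := by
    unfold ChevalleyDatum.unipotentRadical
    rw [Subgroup.closure_le]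
    rintro g ⟨r, t, hr, hnr, hg⟩
    show Level (lvlA D A) 1 ((g : Matrix D.Idx D.Idx F) - 1)
    rw [hg, x_eq_xMat D F r hr.1]
    apply xMat_level D hD F hA ⟨r, hr.1⟩ t 1 le_rfl
    rw [hAdef]
    exact_mod_cast levJ_pos D W hW J r hr hnr
  -- `L_J` preserves the grading
  have hL : D.leviSubgroup F J ≤ balSubgroup D F A := by
    unfold ChevalleyDatum.leviSubgroup
    apply sup_le
    · intro h hh
      have key : ∀ h : GL D.Idx F, h ∈ D.diagonalSubgroup F →
          ∀ i j, (h : Matrix D.Idx D.Idx F) i j ≠ 0 → wtF D A i = wtF D A j := by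
        intro h hh i j hij
        obtain ⟨χ, -, hhm⟩ := mem_diagonalSubgroup_char D hD F h hh
        rw [hhm] at hij
        unfold diagChar at hij
        by_cases h' : i = j
        · rw [h']
        · rw [Matrix.diagonal_apply_ne _ h'] at hij; exact absurd rfl hij
      exact ⟨key h hh, key h⁻¹ (Subgroup.inv_mem _ hh)⟩
    · rw [Subgroup.closure_le]
      rintro g ⟨r, t, hr, hg⟩
      have hgx : g = xGL D hD F r t := Units.ext (by rw [hg, coe_xGL])
      have h0 : A r = 0 := by rw [hAdef]; exact levJ_eq_zero D W hW J r hr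
      have key : ∀ t : F, ∀ i j, ((xGL D hD F r t : GL D.Idx F) : Matrix D.Idx D.Idx F) i j ≠ 0 →
          wtF D A i = wtF D A j := by
        intro t i j hij
        rw [coe_xGL, x_eq_xMat D F r hr.1] at hij
        exact xMat_bal D hD F hA ⟨r, hr.1⟩ t h0 i j hij
      rw [hgx]
      refine ⟨key t, ?_⟩
      rw [xGL_inv]
      exact key (-t)
  rw [Subgroup.eq_bot_iff_forall]
  intro g hg
  rw [Subgroup.mem_inf] at hg
  have h1 : Level (lvlA D A) 1 ((g : Matrix D.Idx D.Idx F) - 1) := hU hg.1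
  have h2 := (hL hg.2).1
  apply Units.ext
  ext i j
  rw [Units.val_one]
  by_cases hij : lvlA D A i < lvlA D A j + 1
  · have := h1 i j hij
    rw [Matrix.sub_apply, sub_eq_zero] at this
    exact this
  · have hne : i ≠ j := by
      rintro rfl
      omega
    rw [Matrix.one_apply, if_neg hne]
    by_contra h0
    have h3 := h2 i j h0
    have c1 := lvlA_cast D A i
    have c2 := lvlA_cast D A j
    omega

end

end Cfsg.Agent.Lib.Helper7
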