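import Cfsg.Agent.Lib.Helper7.ChevTwistBN4

/-! Twisted groups: the `(B,N)`-pair of `G¹` (helper7). -/

set_option autoImplicit false

namespace Cfsg.Agent.Lib.Helper7

open Cfsg Cfsg.Lie Matrix
open Cfsg.Agent.Lib.Helper3.BN Cfsg.Agent.Lib.Helper3.WordLen

section
variable (D : ChevalleyDatum) (hD : D ∈ [chevG2, chevB2, chevD4, chevF4, chevE6, chevE7, chevE8])
variable (K : Type*) [Field K]
include hD

/-- uniqueness of the Bruhat cell in the ambient Chevalley group -/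
theorem bruhat_unique (b b' c c' n n' : GL D.Idx K) (hb : b ∈ D.borelSubgroup K)
    (hb' : b' ∈ D.borelSubgroup K) (hc : c ∈ D.borelSubgroup K) (hc' : c' ∈ D.borelSubgroup K)
    (hn : n ∈ D.monomialSubgroup K) (hn' : n' ∈ D.monomialSubgroup K) (h : b * n * b' = c * n' * c') :
    n⁻¹ * n' ∈ D.diagonalSubgroup K := by
  have hBG := borel_le_group D hD K
  have hNG := monomial_le_group D hD K
  obtain ⟨P, hP⟩ : ∃ P, P = chevBNPair D hD K := ⟨_, rfl⟩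
  have hPB : ∀ g : ↥(D.group K), g ∈ P.B ↔ (g : GL D.Idx K) ∈ D.borelSubgroup K := by
    rw [hP]; exact mem_B_iff D hD K
  have hPN : ∀ g : ↥(D.group K), g ∈ P.N ↔ (g : GL D.Idx K) ∈ D.monomialSubgroup K := by
    rw [hP]; exact mem_N_iff D hD K
  have hnP : (⟨n, hNG hn⟩ : ↥(D.group K)) ∈ P.N := (hPN _).mpr hn
  have hn'P : (⟨n', hNG hn'⟩ : ↥(D.group K)) ∈ P.N := (hPN _).mpr hn'
  have h1 : (⟨b, hBG hb⟩ * ⟨n, hNG hn⟩ * ⟨b', hBG hb'⟩ : ↥(D.group K)) ∈ dc P ⟨n, hNG hn⟩ :=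
    (mem_dc P).mpr ⟨_, (hPB _).mpr hb, _, (hPB _).mpr hb', rfl⟩
  have h2 : (⟨b, hBG hb⟩ * ⟨n, hNG hn⟩ * ⟨b', hBG hb'⟩ : ↥(D.group K)) ∈ dc P ⟨n', hNG hn'⟩ := by
    have e : (⟨b, hBG hb⟩ * ⟨n, hNG hn⟩ * ⟨b', hBG hb'⟩ : ↥(D.group K)) =
        ⟨c, hBG hc⟩ * ⟨n', hNG hn'⟩ * ⟨c', hBG hc'⟩ := Subtype.ext h
    rw [e]
    exact (mem_dc P).mpr ⟨_, (hPB _).mpr hc, _, (hPB _).mpr hc', rfl⟩
  have h3 := dc_eq_of_common P h1 h2
  rw [dc_eq_iff P hnP hn'P] at h3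
  have h4 : n⁻¹ * n' ∈ D.borelSubgroup K := (hPB _).mp h3
  rw [← borel_inf_monomial D hD K]
  exact Subgroup.mem_inf.mpr ⟨h4, Subgroup.mul_mem _ (Subgroup.inv_mem _ hn) hn'⟩

omit K in
theorem reflWord_reverse_cancel (J : List ℕ) (hJ : ∀ i ∈ J, i < D.rank) (s : ℕ) (hs : s < D.nroots) :
    reflWord D J (reflWord D J.reverse s) = s := by
  have h1 := ActsAs.mul D ℚ (actsAs_nWordGL D hD ℚ J hJ) (actsAs_nWordGL_inv D hD ℚ J hJ)
  rw [mul_inv_cancel] at h1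
  have h2 := actsAs_diag D hD ℚ 1 (Subgroup.one_mem _)
  exact ActsAs.unique D hD ℚ h1 h2 s hs

end

section
variable (D : ChevalleyDatum) (hD : D ∈ [chevG2, chevB2, chevD4, chevF4, chevE6, chevE7, chevE8])
variable (pv pv' ρ ρ' : ℕ → ℕ) (ε : ℕ → ℤ) (hG : GraphFacts D pv pv' ρ ρ' ε)
variable (K : Type*) [Field K] (φ : K ≃+* K)
variable (A : ℕ → ℤ) (hA : ChainAdd D A) (hO : PosFacts D A) (cls : List (List ℕ))
variable (hT : TwistFacts D ρ ρ' A cls)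
variable (G1 : Subgroup (GL D.Idx K)) (simpIdx simpCls : List (List ℕ))
variable (hF : TwistGroupFacts D hD pv pv' ρ ρ' ε hG K φ cls G1 simpIdx simpCls)
variable (m : ℕ) (hsh : ∀ S ∈ cls, ClassShape ρ' ε m S)
variable (hB : TwistBNFacts D simpIdx simpCls)
  (hinv : ∀ J ∈ simpIdx, ∀ s < D.nroots, reflWord D J (reflWord D J s) = s)
  (hgen : G1 ≤ Subgroup.closure (((D.borelSubgroup K ⊓ G1 : Subgroup (GL D.Idx K)) : Set (GL D.Idx K)) ∪
      Set.range (clsRep D hD K simpIdx)))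
include hD hA hO hT hF hsh hB hinv hgen

/-- the cell decomposition of `G¹` -/
theorem twisted_cells' (g : GL D.Idx K) (hg : g ∈ G1) :
    ∃ L : List (Fin simpIdx.length), ∃ b ∈ D.borelSubgroup K ⊓ G1, ∃ b' ∈ D.borelSubgroup K ⊓ G1,
      g = b * TwBN.nW (clsRep D hD K simpIdx) L * b' :=
  twisted_cells D hD pv pv' ρ ρ' ε hG K φ A hA hO cls hT G1 simpIdx simpCls hF m hsh hB hinv g (hgen hg)

omit hinv hgen hsh in
theorem nW_mem_monomial (L : List (Fin simpIdx.length)) :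
    TwBN.nW (clsRep D hD K simpIdx) L ∈ D.monomialSubgroup K := by
  rw [nW_clsRep]
  exact nWordGL_mem_monomial D hD K _ (flatMap_lt D hD simpIdx simpCls hB L)

/-- elements of `N ∩ G¹` are words in the `n_J` times elements of `H ∩ G¹` -/
theorem monomial_inf_twisted (n : GL D.Idx K) (hn : n ∈ D.monomialSubgroup K ⊓ G1) :
    ∃ L : List (Fin simpIdx.length), (TwBN.nW (clsRep D hD K simpIdx) L)⁻¹ * n ∈ D.diagonalSubgroup K ⊓ G1 := by
  rw [Subgroup.mem_inf] at hn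
  obtain ⟨L, b, hb, b', hb', he⟩ := twisted_cells' D hD pv pv' ρ ρ' ε hG K φ A hA hO cls hT G1 simpIdx simpCls
    hF m hsh hB hinv hgen n hn.2
  refine ⟨L, Subgroup.mem_inf.mpr ⟨?_, ?_⟩⟩
  · apply bruhat_unique D hD K b b' 1 1 _ n (Subgroup.mem_inf.mp hb).1 (Subgroup.mem_inf.mp hb').1
      (Subgroup.one_mem _) (Subgroup.one_mem _)
      (nW_mem_monomial D hD pv pv' ρ ρ' ε hG K φ A hA hO cls hT G1 simpIdx simpCls hF hB L) hn.1
    rw [← he]; simp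
  · exact Subgroup.mul_mem _ (Subgroup.inv_mem _
      (nW_mem_G1 D hD pv pv' ρ ρ' ε hG K φ cls G1 simpIdx simpCls hF hB L)) hn.2

end

end Cfsg.Agent.Lib.Helper7
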