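import Cfsg.Agent.Lib.Helper7.SparseVec

/-! A decidable checker for identities between words of root elements whose parameters are integer
polynomials in several variables, modulo a number vanishing in the field (helper7). -/

set_option autoImplicit false

namespace Cfsg.Agent.Lib.Helper7.MV

open Cfsg Cfsg.Lie Matrix Cfsg.Agent.Lib.Helper7

section poly
variable {F : Type*} [Field F]

/-- the value of a monomial given by its list of exponents, the first variable being `ρ k` -/
def mEval (ρ : ℕ → F) : ℕ → List ℕ → F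
  | _, [] => 1
  | k, e :: m => ρ k ^ e * mEval ρ (k + 1) m

/-- product of monomials -/
def mMul : List ℕ → List ℕ → List ℕ
  | [], m => m
  | a :: m, [] => a :: m
  | a :: m, b :: m' => (a + b) :: mMul m m'

theorem mEval_mMul (ρ : ℕ → F) : ∀ (k : ℕ) (m m' : List ℕ),
    mEval ρ k (mMul m m') = mEval ρ k m * mEval ρ k m'
  | _, [], m' => by simp [mMul, mEval]
  | _, a :: m, [] => by simp [mMul, mEval]
  | k, a :: m, b :: m' => by
    simp only [mMul, mEval]
    rw [mEval_mMul ρ (k + 1) m m', pow_add]
    ring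

/-- the value of a polynomial: a list of monomials with integer coefficients -/
def pEval (ρ : ℕ → F) (p : List (List ℕ × ℤ)) : F :=
  (p.map fun x => ((x.2 : ℤ) : F) * mEval ρ 0 x.1).sum

theorem pEval_nil (ρ : ℕ → F) : pEval ρ [] = 0 := rfl

theorem pEval_cons (ρ : ℕ → F) (x : List ℕ × ℤ) (p : List (List ℕ × ℤ)) :
    pEval ρ (x :: p) = ((x.2 : ℤ) : F) * mEval ρ 0 x.1 + pEval ρ p := by
  unfold pEval
  rw [List.map_cons, List.sum_cons]

theorem pEval_append (ρ : ℕ → F) (p q : List (List ℕ × ℤ)) :
    pEval ρ (p ++ q) = pEval ρ p + pEval ρ q := by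
  unfold pEval
  rw [List.map_append, List.sum_append]

/-- multiplication by an integer -/
def pScale (c : ℤ) (p : List (List ℕ × ℤ)) : List (List ℕ × ℤ) := p.map fun x => (x.1, c * x.2)

theorem pEval_pScale (ρ : ℕ → F) (c : ℤ) (p : List (List ℕ × ℤ)) :
    pEval ρ (pScale c p) = (c : F) * pEval ρ p := by
  induction p with
  | nil => simp [pScale, pEval]
  | cons x p ih =>
    have e : pScale c (x :: p) = (x.1, c * x.2) :: pScale c p := rfl
    rw [e, pEval_cons, pEval_cons, ih]
    push_cast
    ring

/-- multiplication by a monomial with coefficient -/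
def pMulMono (x : List ℕ × ℤ) (q : List (List ℕ × ℤ)) : List (List ℕ × ℤ) :=
  q.map fun y => (mMul x.1 y.1, x.2 * y.2)

theorem pEval_pMulMono (ρ : ℕ → F) (x : List ℕ × ℤ) (q : List (List ℕ × ℤ)) :
    pEval ρ (pMulMono x q) = ((x.2 : ℤ) : F) * mEval ρ 0 x.1 * pEval ρ q := by
  induction q with
  | nil => simp [pMulMono, pEval]
  | cons y q ih =>
    have e : pMulMono x (y :: q) = (mMul x.1 y.1, x.2 * y.2) :: pMulMono x q := rfl
    rw [e, pEval_cons, pEval_cons, ih, mEval_mMul]
    push_cast
    ring

/-- product of polynomials -/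
def pMul (p q : List (List ℕ × ℤ)) : List (List ℕ × ℤ) := p.flatMap fun x => pMulMono x q

theorem pEval_pMul (ρ : ℕ → F) (p q : List (List ℕ × ℤ)) :
    pEval ρ (pMul p q) = pEval ρ p * pEval ρ q := by
  induction p with
  | nil => simp [pMul, pEval]
  | cons x p ih =>
    have e : pMul (x :: p) q = pMulMono x q ++ pMul p q := by simp [pMul]
    rw [e, pEval_append, ih, pEval_pMulMono, pEval_cons, add_mul]

/-- powers of a polynomial -/
def pPow (p : List (List ℕ × ℤ)) : ℕ → List (List ℕ × ℤ)
  | 0 => [([], 1)]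
  | k + 1 => pMul p (pPow p k)

theorem pEval_pPow (ρ : ℕ → F) (p : List (List ℕ × ℤ)) (k : ℕ) :
    pEval ρ (pPow p k) = pEval ρ p ^ k := by
  induction k with
  | zero => simp [pPow, pEval, mEval]
  | succ k ih =>
    show pEval ρ (pMul p (pPow p k)) = _
    rw [pEval_pMul, ih, pow_succ]
    ring

/-- substitution of a polynomial in a polynomial in one variable -/
def substL (L : List (ℕ × ℤ)) (T : List (List ℕ × ℤ)) : List (List ℕ × ℤ) :=
  L.flatMap fun kc => pScale kc.2 (pPow T kc.1)

theorem pEval_substL (ρ : ℕ → F) (L : List (ℕ × ℤ)) (T : List (List ℕ × ℤ)) :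
    pEval ρ (substL L T) = evalL F L (pEval ρ T) := by
  induction L with
  | nil => simp [substL, pEval, evalL]
  | cons kc L ih =>
    have e : substL (kc :: L) T = pScale kc.2 (pPow T kc.1) ++ substL L T := by simp [substL]
    have e2 : evalL F (kc :: L) (pEval ρ T) = ((kc.2 : ℤ) : F) * pEval ρ T ^ kc.1 +
        evalL F L (pEval ρ T) := by
      simp [evalL]
    rw [e, pEval_append, ih, pEval_pScale, pEval_pPow, e2]

/-- insertion of a monomial in a list without repetitions -/
def pIns (m : List ℕ) (c : ℤ) : List (List ℕ × ℤ) → List (List ℕ × ℤ)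
  | [] => [(m, c)]
  | x :: q => if x.1 = m then (x.1, x.2 + c) :: q else x :: pIns m c q

theorem pEval_pIns (ρ : ℕ → F) (m : List ℕ) (c : ℤ) (q : List (List ℕ × ℤ)) :
    pEval ρ (pIns m c q) = ((c : ℤ) : F) * mEval ρ 0 m + pEval ρ q := by
  induction q with
  | nil => simp [pIns, pEval]
  | cons x q ih =>
    unfold pIns
    split_ifs with h
    · rw [pEval_cons, pEval_cons]
      show (((x.2 + c : ℤ) : ℤ) : F) * mEval ρ 0 x.1 + pEval ρ q = _
      rw [h]
      push_cast
      ring
    · rw [pEval_cons, ih, pEval_cons]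
      ring

/-- collecting the monomials -/
def pNorm : List (List ℕ × ℤ) → List (List ℕ × ℤ)
  | [] => []
  | x :: q => pIns x.1 x.2 (pNorm q)

theorem pEval_pNorm (ρ : ℕ → F) (q : List (List ℕ × ℤ)) : pEval ρ (pNorm q) = pEval ρ q := by
  induction q with
  | nil => rfl
  | cons x q ih =>
    show pEval ρ (pIns x.1 x.2 (pNorm q)) = _
    rw [pEval_pIns, ih, pEval_cons]

/-- reduction of the coefficients modulo `p`, dropping the zero terms -/
def pRed (p : ℕ) (q : List (List ℕ × ℤ)) : List (List ℕ × ℤ) :=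
  (q.map fun x => (x.1, x.2 % (p : ℤ))).filter fun x => x.2 != 0

theorem pEval_pRed (ρ : ℕ → F) (p : ℕ) (hp : ((p : ℕ) : F) = 0) (q : List (List ℕ × ℤ)) :
    pEval ρ (pRed p q) = pEval ρ q := by
  induction q with
  | nil => rfl
  | cons x q ih =>
    have hx : (((x.2 % (p : ℤ) : ℤ) : ℤ) : F) = ((x.2 : ℤ) : F) := by
      have h1 : x.2 = x.2 % (p : ℤ) + (p : ℤ) * (x.2 / (p : ℤ)) := (Int.emod_add_mul_ediv x.2 p).symm
      have h2 : ((x.2 : ℤ) : F) = (((x.2 % (p : ℤ) + (p : ℤ) * (x.2 / (p : ℤ)) : ℤ) : ℤ) : F) := by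
        rw [← h1]
      rw [h2]
      push_cast
      rw [hp, zero_mul, add_zero]
    unfold pRed at ih ⊢
    rw [List.map_cons]
    by_cases h0 : x.2 % (p : ℤ) = 0
    · rw [List.filter_cons_of_neg (by simp [h0]), ih, pEval_cons, ← hx, h0]
      simp
    · rw [List.filter_cons_of_pos (by simp [h0]), pEval_cons, ih, pEval_cons, hx]

/-- the polynomial vanishes modulo `p` -/
def pZeroMod (p : ℕ) (q : List (List ℕ × ℤ)) : Bool := (pRed p (pNorm q)).isEmpty

theorem pEval_eq_zero_of_pZeroMod (ρ : ℕ → F) (p : ℕ) (hp : ((p : ℕ) : F) = 0) (q : List (List ℕ × ℤ))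
    (h : pZeroMod p q = true) : pEval ρ q = 0 := by
  unfold pZeroMod at h
  rw [List.isEmpty_iff] at h
  rw [← pEval_pNorm, ← pEval_pRed ρ p hp, h]
  rfl

end poly

section vec
variable (D : ChevalleyDatum) {F : Type*} [Field F]

/-- the value of a sparse vector of polynomials -/
def vEval (ρ : ℕ → F) (sv : List (D.Idx × List (List ℕ × ℤ))) (i : D.Idx) : F :=
  (sv.map fun e => if e.1 = i then pEval ρ e.2 else 0).sum

theorem vEval_nil (ρ : ℕ → F) (i : D.Idx) : vEval D ρ [] i = 0 := rfl

theorem vEval_cons (ρ : ℕ → F) (e : D.Idx × List (List ℕ × ℤ)) (sv : List (D.Idx × List (List ℕ × ℤ)))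
    (i : D.Idx) : vEval D ρ (e :: sv) i = (if e.1 = i then pEval ρ e.2 else 0) + vEval D ρ sv i := by
  unfold vEval
  rw [List.map_cons, List.sum_cons]

theorem vEval_append (ρ : ℕ → F) (sv sv' : List (D.Idx × List (List ℕ × ℤ))) (i : D.Idx) :
    vEval D ρ (sv ++ sv') i = vEval D ρ sv i + vEval D ρ sv' i := by
  unfold vEval
  rw [List.map_append, List.sum_append]

/-- `x_r(T)` applied to a sparse vector -/
def applyX (r : ℕ) (T : List (List ℕ × ℤ)) (sv : List (D.Idx × List (List ℕ × ℤ))) :
    List (D.Idx × List (List ℕ × ℤ)) :=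
  sv.flatMap fun e => (SV.colX D r e.1).map fun c => (c.1, pMul (substL c.2 T) e.2)

theorem mulVec_vEval (M : Matrix D.Idx D.Idx F) (ρ : ℕ → F) (sv : List (D.Idx × List (List ℕ × ℤ)))
    (row : D.Idx) : M.mulVec (vEval D ρ sv) row = (sv.map fun e => M row e.1 * pEval ρ e.2).sum := by
  induction sv with
  | nil =>
    show (∑ col, M row col * vEval D ρ [] col) = 0
    apply Finset.sum_eq_zero
    intro col _
    rw [vEval_nil, mul_zero]
  | cons e sv ih =>
    rw [List.map_cons, List.sum_cons, ← ih]
    show (∑ col, M row col * vEval D ρ (e :: sv) col) =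
      M row e.1 * pEval ρ e.2 + ∑ col, M row col * vEval D ρ sv col
    have e1 : ∀ col, M row col * vEval D ρ (e :: sv) col =
        (if e.1 = col then M row col * pEval ρ e.2 else 0) + M row col * vEval D ρ sv col := by
      intro col
      rw [vEval_cons, mul_add]
      split_ifs
      · rfl
      · rw [mul_zero]
    rw [Finset.sum_congr rfl (fun col _ => e1 col), Finset.sum_add_distrib, Finset.sum_ite_eq Finset.univ e.1,
      if_pos (Finset.mem_univ _)]

theorem vEval_col (ρ : ℕ → F) (T P : List (List ℕ × ℤ)) (L : List (D.Idx × List (ℕ × ℤ))) (row : D.Idx) :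
    vEval D ρ (L.map fun c => (c.1, pMul (substL c.2 T) P)) row =
      SV.cSum D F (pEval ρ T) L row * pEval ρ P := by
  induction L with
  | nil => rw [List.map_nil, vEval_nil, SV.cSum_nil, zero_mul]
  | cons c L ih =>
    rw [List.map_cons, vEval_cons, SV.cSum_cons, ih, add_mul]
    congr 1
    show (if c.1 = row then pEval ρ (pMul (substL c.2 T) P) else 0) = _
    split_ifs
    · rw [pEval_pMul, pEval_substL]
    · rw [zero_mul]

theorem vEval_applyX (ρ : ℕ → F) (r : ℕ) (hr : r < D.nroots) (T : List (List ℕ × ℤ))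
    (sv : List (D.Idx × List (List ℕ × ℤ))) (row : D.Idx) :
    vEval D ρ (applyX D r T sv) row = (D.x F r (pEval ρ T)).mulVec (vEval D ρ sv) row := by
  rw [mulVec_vEval]
  induction sv with
  | nil => rfl
  | cons e sv ih =>
    unfold applyX at ih ⊢
    rw [List.flatMap_cons, vEval_append, ih, List.map_cons, List.sum_cons, vEval_col, ← SV.colX_spec,
      x_apply_eq D F r hr]

/-- the polynomial in a given row -/
def rowPoly (sv : List (D.Idx × List (List ℕ × ℤ))) (row : D.Idx) : List (List ℕ × ℤ) :=
  (sv.filter fun e => e.1 = row).flatMap fun e => e.2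

theorem pEval_rowPoly (ρ : ℕ → F) (sv : List (D.Idx × List (List ℕ × ℤ))) (row : D.Idx) :
    pEval ρ (rowPoly D sv row) = vEval D ρ sv row := by
  unfold rowPoly
  induction sv with
  | nil => rfl
  | cons e sv ih =>
    rw [vEval_cons, ← ih]
    by_cases h : e.1 = row
    · rw [List.filter_cons_of_pos (by simpa using h), List.flatMap_cons, pEval_append, if_pos h]
    · rw [List.filter_cons_of_neg (by simpa using h), if_neg h, zero_add]

/-- all indices -/
def allIdx : List D.Idx :=
  (List.finRange D.rank).map Sum.inl ++ (List.finRange D.nroots).map Sum.inr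

theorem mem_allIdx (i : D.Idx) : i ∈ allIdx D := by
  unfold allIdx
  rcases i with i | s
  · exact List.mem_append_left _ (List.mem_map.mpr ⟨i, List.mem_finRange i, rfl⟩)
  · exact List.mem_append_right _ (List.mem_map.mpr ⟨s, List.mem_finRange s, rfl⟩)

/-- merging the entries with the same row, reducing modulo `p` -/
def compress (p : ℕ) (sv : List (D.Idx × List (List ℕ × ℤ))) : List (D.Idx × List (List ℕ × ℤ)) :=
  (allIdx D).filterMap fun row =>
    let P := pRed p (pNorm (rowPoly D sv row))
    if P.isEmpty then none else some (row, P)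

theorem nodup_allIdx : (allIdx D).Nodup := by
  unfold allIdx
  rw [List.nodup_append]
  refine ⟨(List.nodup_finRange _).map Sum.inl_injective, (List.nodup_finRange _).map Sum.inr_injective, ?_⟩
  intro a ha b hb
  rw [List.mem_map] at ha hb
  obtain ⟨i, -, rfl⟩ := ha
  obtain ⟨s, -, rfl⟩ := hb
  simp

open Classical in
theorem vEval_compress_aux (ρ : ℕ → F) (p : ℕ) (hp : ((p : ℕ) : F) = 0)
    (sv : List (D.Idx × List (List ℕ × ℤ))) (i : D.Idx) : ∀ (L : List D.Idx), L.Nodup →
    vEval D ρ (L.filterMap fun row =>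
      let P := pRed p (pNorm (rowPoly D sv row))
      if P.isEmpty then none else some (row, P)) i = if i ∈ L then vEval D ρ sv i else 0
  | [], _ => by simp [vEval]
  | row :: L, hL => by
    have ih := vEval_compress_aux ρ p hp sv i L (List.nodup_cons.mp hL).2
    have hrow : row ∉ L := (List.nodup_cons.mp hL).1
    have hval : pEval ρ (pRed p (pNorm (rowPoly D sv row))) = vEval D ρ sv row := by
      rw [pEval_pRed ρ p hp, pEval_pNorm, pEval_rowPoly]
    rw [List.filterMap_cons]
    by_cases hE : (pRed p (pNorm (rowPoly D sv row))).isEmpty = true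
    · simp only [hE, if_true]
      rw [ih]
      have h0 : vEval D ρ sv row = 0 := by
        rw [← hval, List.isEmpty_iff.mp hE]; rfl
      by_cases hi : i = row
      · subst hi
        rw [if_neg hrow, if_pos List.mem_cons_self, h0]
      · have : (i ∈ row :: L) ↔ i ∈ L := by
          rw [List.mem_cons]
          exact ⟨fun h => h.resolve_left hi, Or.inr⟩
        simp only [this]
    · simp only [hE, if_false, Bool.false_eq_true]
      rw [vEval_cons, ih]
      by_cases hi : i = row
      · subst hi
        rw [if_pos rfl, if_neg hrow, add_zero, if_pos List.mem_cons_self, hval]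
      · have : (i ∈ row :: L) ↔ i ∈ L := by
          rw [List.mem_cons]
          exact ⟨fun h => h.resolve_left hi, Or.inr⟩
        rw [if_neg (fun h => hi h.symm), zero_add]
        simp only [this]

theorem vEval_compress (ρ : ℕ → F) (p : ℕ) (hp : ((p : ℕ) : F) = 0)
    (sv : List (D.Idx × List (List ℕ × ℤ))) : vEval D ρ (compress D p sv) = vEval D ρ sv := by
  funext i
  unfold compress
  rw [vEval_compress_aux D ρ p hp sv i _ (nodup_allIdx D), if_pos (mem_allIdx D i)]

/-- successive application of a word of root elements (the last letter first) -/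
def applyW (p : ℕ) : List (ℕ × List (List ℕ × ℤ)) → List (D.Idx × List (List ℕ × ℤ)) →
    List (D.Idx × List (List ℕ × ℤ))
  | [], v => v
  | (r, T) :: w, v => compress D p (applyX D r T (applyW p w v))

/-- the word of root elements with the values of the parameters -/
def evalW (ρ : ℕ → F) (w : List (ℕ × List (List ℕ × ℤ))) : List (ℕ × F) :=
  w.map fun x => (x.1, pEval ρ x.2)

theorem vEval_applyW (ρ : ℕ → F) (p : ℕ) (hp : ((p : ℕ) : F) = 0) (w : List (ℕ × List (List ℕ × ℤ)))
    (hw : ∀ x ∈ w, x.1 < D.nroots) (sv : List (D.Idx × List (List ℕ × ℤ))) :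
    vEval D ρ (applyW D p w sv) = (D.wordMat F (evalW ρ w)).mulVec (vEval D ρ sv) := by
  induction w with
  | nil =>
    have : D.wordMat F (evalW ρ []) = 1 := rfl
    rw [this, Matrix.one_mulVec]
    rfl
  | cons x w ih =>
    obtain ⟨r, T⟩ := x
    have e : D.wordMat F (evalW ρ ((r, T) :: w)) = D.x F r (pEval ρ T) * D.wordMat F (evalW ρ w) := by
      unfold ChevalleyDatum.wordMat evalW
      rw [List.map_cons, List.map_cons, List.prod_cons]
    rw [e, ← Matrix.mulVec_mulVec, ← ih (fun q hq => hw q (List.mem_cons_of_mem _ hq))]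
    show vEval D ρ (compress D p (applyX D r T (applyW D p w sv))) = _
    rw [vEval_compress D ρ p hp]
    funext row
    exact vEval_applyX D ρ r (hw (r, T) List.mem_cons_self) T _ row

/-- the two words have the same matrix modulo `p` -/
def wordEqChk (p : ℕ) (w1 w2 : List (ℕ × List (List ℕ × ℤ))) : Bool :=
  (w1.all fun x => decide (x.1 < D.nroots)) && (w2.all fun x => decide (x.1 < D.nroots)) &&
  (allIdx D).all fun col =>
    let v1 := applyW D p w1 [(col, [([], 1)])]
    let v2 := applyW D p w2 [(col, [([], 1)])]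
    (allIdx D).all fun row => pZeroMod p (rowPoly D v1 row ++ pScale (-1) (rowPoly D v2 row))

theorem vEval_single (ρ : ℕ → F) (col : D.Idx) :
    vEval D ρ [(col, [([], 1)])] = Pi.single col 1 := by
  funext i
  rw [vEval_cons, vEval_nil, add_zero]
  by_cases h : col = i
  · subst h
    rw [if_pos rfl, Pi.single_eq_same]
    simp [pEval, mEval]
  · rw [if_neg h, Pi.single_eq_of_ne (fun hh => h hh.symm)]

theorem wordMat_eq_of_chk (ρ : ℕ → F) (p : ℕ) (hp : ((p : ℕ) : F) = 0)
    (w1 w2 : List (ℕ × List (List ℕ × ℤ))) (h : wordEqChk D p w1 w2 = true) :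
    D.wordMat F (evalW ρ w1) = D.wordMat F (evalW ρ w2) := by
  unfold wordEqChk at h
  simp only [Bool.and_eq_true, List.all_eq_true, decide_eq_true_eq] at h
  obtain ⟨⟨h1, h2⟩, h3⟩ := h
  ext row col
  have hc := h3 col (mem_allIdx D col) row (mem_allIdx D row)
  have e := pEval_eq_zero_of_pZeroMod ρ p hp _ hc
  rw [pEval_append, pEval_pScale, pEval_rowPoly, pEval_rowPoly, vEval_applyW D ρ p hp w1 h1,
    vEval_applyW D ρ p hp w2 h2, vEval_single, Matrix.mulVec_single_one, Matrix.mulVec_single_one] at e
  have e' : D.wordMat F (evalW ρ w1) row col - D.wordMat F (evalW ρ w2) row col = 0 := by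
    have := e
    simp only [Matrix.col_apply] at this
    push_cast at this
    linear_combination this
  exact sub_eq_zero.mp e'

end vec

end Cfsg.Agent.Lib.Helper7.MV
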