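import Cfsg.Agent.Lib.Helper7.ChevCoxeter4
import Cfsg.Agent.Lib.Helper7.ChevWeylChainE6

/-! The Weyl group of type E6 is the Coxeter group of type E6 (helper7). -/

set_option autoImplicit false
set_option maxRecDepth 100000

namespace Cfsg.Agent.Lib.Helper7

open Cfsg Cfsg.Lie

def coxMt_E6 : List (List ℕ) := [[1, 2, 3, 2, 2, 2], [2, 1, 2, 3, 2, 2], [3, 2, 1, 3, 2, 2], [2, 3, 3, 1, 3, 2], [2, 2, 2, 3, 1, 3], [2, 2, 2, 2, 3, 1]]

theorem coxOKB_E6 : coxOKB weylChain_E6.refls chevE6.nroots chevE6.rank coxMt_E6 = true := by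
  decide +kernel

theorem cexOKB_E6 : wordOrderOKB weylChain_E6.refls chevE6.nroots (List.range 6) 12 [6, 4] = true := by
  decide +kernel

theorem coxM_E6 : ∀ i j : Fin 6, CoxeterMatrix.E₆.M i j = (coxMt_E6.getD i.val []).getD j.val 0 := by
  intro i j
  fin_cases i <;> fin_cases j <;> rfl

theorem mem_E6 : chevE6 ∈ [chevG2, chevB2, chevD4, chevF4, chevE6, chevE7, chevE8] := by simp

theorem refls_E6 : weylChain_E6.refls =
    (List.range chevE6.rank).map fun i => (List.range chevE6.nroots).map (chevE6.reflectRoot i) :=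
  refls_of_weylChainOKB chevE6 weylChain_E6 weylChainOKB_E6

theorem orderOf_sbI_E6 (F : Type*) [Field F] (i j : Fin 6) :
    orderOf (sbI chevE6 mem_E6 F i.val * sbI chevE6 mem_E6 F j.val) = CoxeterMatrix.E₆ i j := by
  show _ = CoxeterMatrix.E₆.M i j
  rw [coxM_E6 i j]
  exact orderOf_sbI_mul chevE6 mem_E6 F _ refls_E6 coxMt_E6 coxOKB_E6 i.val j.val i.isLt j.isLt

theorem card_cox_E6 : Nat.card CoxeterMatrix.E₆.Group = 51840 := by
  rw [card_coxGroup chevE6 mem_E6 ℚ 6 rfl CoxeterMatrix.E₆ (orderOf_sbI_E6 ℚ) weylChain_E6 weylChainOKB_E6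
    weylHist_E6 chainHistOKB_E6]
  simp [histPoly, weylHist_E6, Finset.sum_range_succ]

theorem coxeterElt_E6 : orderOf ((List.finRange 6).map CoxeterMatrix.E₆.simple).prod = 12 :=
  orderOf_coxeterElt chevE6 mem_E6 ℚ 6 rfl CoxeterMatrix.E₆ (orderOf_sbI_E6 ℚ) _ refls_E6 12 [6, 4]
    (by
      intro p hp hd
      have hle : p ≤ 12 := Nat.le_of_dvd (by norm_num) hd
      interval_cases p <;> simp_all (config := {decide := true})) cexOKB_E6

theorem mono_hom_E6 (F : Type*) [Field F] :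
    ∃ φ : ↥(chevE6.monomialSubgroup F) →* CoxeterMatrix.E₆.Group, Function.Surjective φ ∧
      φ.ker = (chevE6.diagonalSubgroup F).subgroupOf (chevE6.monomialSubgroup F) ∧
      ∀ (i : Fin 6) (g : ↥(chevE6.monomialSubgroup F)),
        ((g : GL chevE6.Idx F) : Matrix chevE6.Idx chevE6.Idx F) = chevE6.nMat F (chevE6.simple i) 1 →
          φ g = CoxeterMatrix.E₆.simple i :=
  exists_mono_hom chevE6 mem_E6 F 6 rfl CoxeterMatrix.E₆ (orderOf_sbI_E6 F)

end Cfsg.Agent.Lib.Helper7
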