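import Cfsg.Agent.Lib.Helper7.ChevCoxeter4
import Cfsg.Agent.Lib.Helper7.ChevWeylChainE7

/-! The Weyl group of type E7 is the Coxeter group of type E7 (helper7). -/

set_option autoImplicit false
set_option maxRecDepth 100000

namespace Cfsg.Agent.Lib.Helper7

open Cfsg Cfsg.Lie

def coxMt_E7 : List (List ℕ) := [[1, 2, 3, 2, 2, 2, 2], [2, 1, 2, 3, 2, 2, 2], [3, 2, 1, 3, 2, 2, 2], [2, 3, 3, 1, 3, 2, 2], [2, 2, 2, 3, 1, 3, 2], [2, 2, 2, 2, 3, 1, 3], [2, 2, 2, 2, 2, 3, 1]]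

theorem coxOKB_E7 : coxOKB weylChain_E7.refls chevE7.nroots chevE7.rank coxMt_E7 = true := by
  decide +kernel

theorem cexOKB_E7 : wordOrderOKB weylChain_E7.refls chevE7.nroots (List.range 7) 18 [9, 6] = true := by
  decide +kernel

theorem coxM_E7 : ∀ i j : Fin 7, CoxeterMatrix.E₇.M i j = (coxMt_E7.getD i.val []).getD j.val 0 := by
  intro i j
  fin_cases i <;> fin_cases j <;> rfl

theorem mem_E7 : chevE7 ∈ [chevG2, chevB2, chevD4, chevF4, chevE6, chevE7, chevE8] := by simp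

theorem refls_E7 : weylChain_E7.refls =
    (List.range chevE7.rank).map fun i => (List.range chevE7.nroots).map (chevE7.reflectRoot i) :=
  refls_of_weylChainOKB chevE7 weylChain_E7 weylChainOKB_E7

theorem orderOf_sbI_E7 (F : Type*) [Field F] (i j : Fin 7) :
    orderOf (sbI chevE7 mem_E7 F i.val * sbI chevE7 mem_E7 F j.val) = CoxeterMatrix.E₇ i j := by
  show _ = CoxeterMatrix.E₇.M i j
  rw [coxM_E7 i j]
  exact orderOf_sbI_mul chevE7 mem_E7 F _ refls_E7 coxMt_E7 coxOKB_E7 i.val j.val i.isLt j.isLt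

theorem card_cox_E7 : Nat.card CoxeterMatrix.E₇.Group = 2903040 := by
  rw [card_coxGroup chevE7 mem_E7 ℚ 7 rfl CoxeterMatrix.E₇ (orderOf_sbI_E7 ℚ) weylChain_E7 weylChainOKB_E7
    weylHist_E7 chainHistOKB_E7]
  simp [histPoly, weylHist_E7, Finset.sum_range_succ]

theorem coxeterElt_E7 : orderOf ((List.finRange 7).map CoxeterMatrix.E₇.simple).prod = 18 :=
  orderOf_coxeterElt chevE7 mem_E7 ℚ 7 rfl CoxeterMatrix.E₇ (orderOf_sbI_E7 ℚ) _ refls_E7 18 [9, 6]
    (by
      intro p hp hd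
      have hle : p ≤ 18 := Nat.le_of_dvd (by norm_num) hd
      interval_cases p <;> simp_all (config := {decide := true})) cexOKB_E7

theorem mono_hom_E7 (F : Type*) [Field F] :
    ∃ φ : ↥(chevE7.monomialSubgroup F) →* CoxeterMatrix.E₇.Group, Function.Surjective φ ∧
      φ.ker = (chevE7.diagonalSubgroup F).subgroupOf (chevE7.monomialSubgroup F) ∧
      ∀ (i : Fin 7) (g : ↥(chevE7.monomialSubgroup F)),
        ((g : GL chevE7.Idx F) : Matrix chevE7.Idx chevE7.Idx F) = chevE7.nMat F (chevE7.simple i) 1 →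
          φ g = CoxeterMatrix.E₇.simple i :=
  exists_mono_hom chevE7 mem_E7 F 7 rfl CoxeterMatrix.E₇ (orderOf_sbI_E7 F)

end Cfsg.Agent.Lib.Helper7
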