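import Cfsg.Agent.Lib.Helper7.ChevCoxeter4
import Cfsg.Agent.Lib.Helper7.ChevWeylChainE8

/-! The Weyl group of type E8 is the Coxeter group of type E8 (helper7). -/

set_option autoImplicit false
set_option maxRecDepth 100000

namespace Cfsg.Agent.Lib.Helper7

open Cfsg Cfsg.Lie

def coxMt_E8 : List (List ℕ) := [[1, 2, 3, 2, 2, 2, 2, 2], [2, 1, 2, 3, 2, 2, 2, 2], [3, 2, 1, 3, 2, 2, 2, 2], [2, 3, 3, 1, 3, 2, 2, 2], [2, 2, 2, 3, 1, 3, 2, 2], [2, 2, 2, 2, 3, 1, 3, 2], [2, 2, 2, 2, 2, 3, 1, 3], [2, 2, 2, 2, 2, 2, 3, 1]]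

theorem coxOKB_E8 : coxOKB weylChain_E8.refls chevE8.nroots chevE8.rank coxMt_E8 = true := by
  decide +kernel

theorem cexOKB_E8 : wordOrderOKB weylChain_E8.refls chevE8.nroots (List.range 8) 30 [15, 10, 6] = true := by
  decide +kernel

theorem coxM_E8 : ∀ i j : Fin 8, CoxeterMatrix.E₈.M i j = (coxMt_E8.getD i.val []).getD j.val 0 := by
  intro i j
  fin_cases i <;> fin_cases j <;> rfl

theorem mem_E8 : chevE8 ∈ [chevG2, chevB2, chevD4, chevF4, chevE6, chevE7, chevE8] := by simp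

theorem refls_E8 : weylChain_E8.refls =
    (List.range chevE8.rank).map fun i => (List.range chevE8.nroots).map (chevE8.reflectRoot i) :=
  refls_of_weylChainOKB chevE8 weylChain_E8 weylChainOKB_E8

theorem orderOf_sbI_E8 (F : Type*) [Field F] (i j : Fin 8) :
    orderOf (sbI chevE8 mem_E8 F i.val * sbI chevE8 mem_E8 F j.val) = CoxeterMatrix.E₈ i j := by
  show _ = CoxeterMatrix.E₈.M i j
  rw [coxM_E8 i j]
  exact orderOf_sbI_mul chevE8 mem_E8 F _ refls_E8 coxMt_E8 coxOKB_E8 i.val j.val i.isLt j.isLt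

theorem card_cox_E8 : Nat.card CoxeterMatrix.E₈.Group = 696729600 := by
  rw [card_coxGroup chevE8 mem_E8 ℚ 8 rfl CoxeterMatrix.E₈ (orderOf_sbI_E8 ℚ) weylChain_E8 weylChainOKB_E8
    weylHist_E8 chainHistOKB_E8]
  simp [histPoly, weylHist_E8, Finset.sum_range_succ]

theorem coxeterElt_E8 : orderOf ((List.finRange 8).map CoxeterMatrix.E₈.simple).prod = 30 :=
  orderOf_coxeterElt chevE8 mem_E8 ℚ 8 rfl CoxeterMatrix.E₈ (orderOf_sbI_E8 ℚ) _ refls_E8 30 [15, 10, 6]
    (by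
      intro p hp hd
      have hle : p ≤ 30 := Nat.le_of_dvd (by norm_num) hd
      interval_cases p <;> simp_all (config := {decide := true})) cexOKB_E8

theorem mono_hom_E8 (F : Type*) [Field F] :
    ∃ φ : ↥(chevE8.monomialSubgroup F) →* CoxeterMatrix.E₈.Group, Function.Surjective φ ∧
      φ.ker = (chevE8.diagonalSubgroup F).subgroupOf (chevE8.monomialSubgroup F) ∧
      ∀ (i : Fin 8) (g : ↥(chevE8.monomialSubgroup F)),
        ((g : GL chevE8.Idx F) : Matrix chevE8.Idx chevE8.Idx F) = chevE8.nMat F (chevE8.simple i) 1 →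
          φ g = CoxeterMatrix.E₈.simple i :=
  exists_mono_hom chevE8 mem_E8 F 8 rfl CoxeterMatrix.E₈ (orderOf_sbI_E8 F)

end Cfsg.Agent.Lib.Helper7
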