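import Cfsg.Agent.Lib.Helper7.ChevRootCent

/-! Tables for centralisers of root elements in types `F₄` and `G₂` (helper7). -/

set_option autoImplicit false

namespace Cfsg.Agent.Lib.Helper7

open Cfsg Cfsg.Lie Matrix

theorem cent2OKB_F4_long : cent2OKB chevF4 47 0 3 [14, 20, 22] = true := by decide +kernel

theorem cent2OKB_F4_short : cent2OKB chevF4 44 2 0 [20, 22, 23] = true := by decide +kernel

theorem cent2OKB_G2_long : cent2OKB chevG2 11 0 1 [4] = true := by decide +kernel

end Cfsg.Agent.Lib.Helper7
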