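import Cfsg.Agent.Lib.Helper7.ChevLin

/-! A functional realising the index order of the roots, and primitivity of the coroots: table checks
(helper7). -/

set_option autoImplicit false
set_option maxRecDepth 100000

namespace Cfsg.Agent.Lib.Helper7

open Cfsg Cfsg.Lie

/-- the coefficients of the coroot of `r` -/
def corL (D : ChevalleyDatum) (r : ℕ) : List ℤ :=
  (List.range D.rank).map fun j => (D.coroot.getD r #[]).getD j 0

def gcdL (l : List ℤ) : ℕ := l.foldr (fun a g => Int.gcd a g) 0

/-- table check: `linF D w` is strictly increasing in the root index and positive on the positive roots;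
the coroots are primitive; half of the roots are positive -/
def ordOKB (D : ChevalleyDatum) (w : List ℤ) : Bool :=
  ((List.range D.nroots).all fun r => decide (r + 1 < D.nroots → linF D w r < linF D w (r + 1))) &&
  ((List.range D.nroots).all fun r => !decide (D.IsPosRoot r) || decide (0 < linF D w r)) &&
  ((List.range D.nroots).all fun r => gcdL (corL D r) == 1) &&
  decide (D.posRoots.length = D.nroots / 2)

structure OrdFacts (D : ChevalleyDatum) (A : ℕ → ℤ) : Prop where
  mono : ∀ r s, r < s → s < D.nroots → A r < A s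
  pos : ∀ r, D.IsPosRoot r → 0 < A r
  prim : ∀ r < D.nroots, gcdL (corL D r) = 1
  len : D.posRoots.length = D.nroots / 2

theorem ordFacts_of_ordOKB (D : ChevalleyDatum) (w : List ℤ) (h : ordOKB D w = true) :
    OrdFacts D (linF D w) := by
  unfold ordOKB at h
  simp only [Bool.and_eq_true, List.all_eq_true, List.mem_range, decide_eq_true_eq, Bool.or_eq_true,
    Bool.not_eq_true', decide_eq_false_iff_not, beq_iff_eq] at h
  obtain ⟨⟨⟨h1, h2⟩, h3⟩, h4⟩ := h
  refine ⟨?_, ?_, h3, h4⟩
  · intro r s hrs hs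
    induction s with
    | zero => omega
    | succ s ih =>
      have hstep := h1 s (by omega) hs
      rcases Nat.lt_succ_iff_lt_or_eq.mp hrs with h' | h'
      · exact lt_trans (ih h' (by omega)) hstep
      · rw [h']; exact hstep
  · intro r hr
    rcases h2 r hr.1 with h' | h'
    · exact absurd hr h'
    · exact h'

def lamW_G2 : List ℤ := [27, 41]
def lamW_B2 : List ℤ := [27, 28]
def lamW_D4 : List ℤ := [2373, 2549, 1281, 1275]
def lamW_F4 : List ℤ := [4928, 7659, 10221, 5111]
def lamW_E6 : List ℤ := [527636, 433343, 683979, 838125, 558759, 279380]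
def lamW_E7 : List ℤ := [20982418, 22162741, 32311218, 43582896, 32687439, 21791644, 10895823]
def lamW_E8 : List ℤ := [278031418, 356526368, 493314319, 708225927, 566582606, 424937088, 283291401,
  141645701]

theorem ordOKB_G2 : ordOKB chevG2 lamW_G2 = true := by decide +kernel
theorem ordOKB_B2 : ordOKB chevB2 lamW_B2 = true := by decide +kernel
theorem ordOKB_D4 : ordOKB chevD4 lamW_D4 = true := by decide +kernel
theorem ordOKB_F4 : ordOKB chevF4 lamW_F4 = true := by decide +kernel
theorem ordOKB_E6 : ordOKB chevE6 lamW_E6 = true := by decide +kernel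
theorem ordOKB_E7 : ordOKB chevE7 lamW_E7 = true := by decide +kernel
theorem ordOKB_E8 : ordOKB chevE8 lamW_E8 = true := by decide +kernel

theorem exists_ordW (D : ChevalleyDatum)
    (hD : D ∈ [chevG2, chevB2, chevD4, chevF4, chevE6, chevE7, chevE8]) :
    ∃ w : List ℤ, OrdFacts D (linF D w) :=
  mem_seven_cases (P := fun D => ∃ w : List ℤ, OrdFacts D (linF D w))
    ⟨_, ordFacts_of_ordOKB _ _ ordOKB_G2⟩ ⟨_, ordFacts_of_ordOKB _ _ ordOKB_B2⟩
    ⟨_, ordFacts_of_ordOKB _ _ ordOKB_D4⟩ ⟨_, ordFacts_of_ordOKB _ _ ordOKB_F4⟩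
    ⟨_, ordFacts_of_ordOKB _ _ ordOKB_E6⟩ ⟨_, ordFacts_of_ordOKB _ _ ordOKB_E7⟩
    ⟨_, ordFacts_of_ordOKB _ _ ordOKB_E8⟩ D hD

end Cfsg.Agent.Lib.Helper7
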