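import Cfsg.Prelude.Def_ChevStructure
import Cfsg.Prelude.Def_ChevG2
import Cfsg.Prelude.Def_ChevB2
import Cfsg.Prelude.Def_ChevD4
import Cfsg.Prelude.Def_ChevF4
import Cfsg.Prelude.Def_ChevE6
import Cfsg.Prelude.Def_ChevE7
import Cfsg.Prelude.Def_ChevE8

set_option autoImplicit false

namespace Cfsg.Agent.Lib.Helper7

open Cfsg Cfsg.Lie

/-- all exponents in `chainCoeff` are positive -/
theorem chainCoeff_pos (D : ChevalleyDatum) (r s u : ℕ) :
    ∀ km ∈ D.chainCoeff r s u, 0 < km.1 := by
  intro km hkm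
  unfold ChevalleyDatum.chainCoeff at hkm
  simp only [List.mem_flatMap, List.mem_map, List.mem_filter] at hkm
  obtain ⟨e, _, q, _, rfl⟩ := hkm
  exact Nat.succ_pos _

theorem xMat_zero (D : ChevalleyDatum) (F : Type*) [Field F] (r : Fin D.nroots) :
    D.xMat F r 0 = 1 := by
  ext row col
  unfold ChevalleyDatum.xMat
  simp only [Matrix.of_apply]
  have hsum : ∀ s u : ℕ, ((D.chainCoeff r.val s u).map fun km => ((km.2 : ℤ) : F) * (0:F) ^ km.1).sum = 0 := by
    intro s u
    apply List.sum_eq_zero
    intro x hx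
    simp only [List.mem_map] at hx
    obtain ⟨km, hkm, rfl⟩ := hx
    have := chainCoeff_pos D r.val s u km hkm
    rw [zero_pow (Nat.pos_iff_ne_zero.mp this), mul_zero]
  rcases col with i | s
  · rcases row with i' | u
    · simp [Matrix.one_apply]
    · simp [Matrix.one_apply]
  · by_cases hsr : s = r
    · subst hsr
      rcases row with i' | u
      · simp [Matrix.one_apply]
      · simp [Matrix.one_apply]
    · by_cases hneg : s.val = D.negIdx.getD r.val 0
      · rcases row with i' | u
        · simp [Matrix.one_apply, hsr, hneg]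
        · simp only [hsr, if_false, hneg, if_true]
          by_cases hus : u = s
          · simp [Matrix.one_apply, hus]
          · simp [Matrix.one_apply, hus]
      · rcases row with i' | u
        · simp [Matrix.one_apply, hsr, hneg]
        · simp only [hsr, if_false, hneg, hsum]
          by_cases hus : u = s
          · simp [Matrix.one_apply, hus]
          · simp [Matrix.one_apply, hus]

theorem x_zero (D : ChevalleyDatum) (F : Type*) [Field F] (r : ℕ) : D.x F r 0 = 1 := by
  unfold ChevalleyDatum.x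
  split_ifs with h
  · exact xMat_zero D F ⟨r, h⟩
  · rfl

/-- if `-r` is a root different from `r`, then `x_r(t) = 1` forces `t = 0`. -/
theorem eq_zero_of_x_eq_one (D : ChevalleyDatum) (F : Type*) [Field F] (r : ℕ) (hr : r < D.nroots)
    (hneg : D.negIdx.getD r 0 < D.nroots) (hne : D.negIdx.getD r 0 ≠ r) (t : F)
    (h : D.x F r t = 1) : t = 0 := by
  unfold ChevalleyDatum.x at h
  rw [dif_pos hr] at h
  have h1 := congrFun (congrFun h (Sum.inr ⟨r, hr⟩)) (Sum.inr ⟨D.negIdx.getD r 0, hneg⟩)
  unfold ChevalleyDatum.xMat at h1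
  have hne' : (⟨D.negIdx.getD r 0, hneg⟩ : Fin D.nroots) ≠ ⟨r, hr⟩ := by
    intro hh; exact hne (Fin.mk.inj_iff.mp hh)
  simp only [Matrix.of_apply, hne', if_false, if_true, hne'.symm, Matrix.one_apply, Sum.inr.injEq] at h1
  have : t ^ 2 = 0 := by
    have := neg_eq_zero.mp h1
    exact this
  exact pow_eq_zero_iff (two_ne_zero) |>.mp this

/-- The seven exceptional-type data used in the statements. -/
def sevenData : List ChevalleyDatum := [chevG2, chevB2, chevD4, chevF4, chevE6, chevE7, chevE8]

theorem mem_seven_cases {P : ChevalleyDatum → Prop} (hG2 : P chevG2) (hB2 : P chevB2) (hD4 : P chevD4)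
    (hF4 : P chevF4) (hE6 : P chevE6) (hE7 : P chevE7) (hE8 : P chevE8)
    (D : ChevalleyDatum) (hD : D ∈ [chevG2, chevB2, chevD4, chevF4, chevE6, chevE7, chevE8]) : P D := by
  simp only [List.mem_cons, List.not_mem_nil, or_false] at hD
  rcases hD with rfl | rfl | rfl | rfl | rfl | rfl | rfl <;> assumption

/-- the negation table is a fixed-point-free map of the root indices -/
def NegOK (D : ChevalleyDatum) : Prop :=
  ∀ r < D.nroots, D.negIdx.getD r 0 < D.nroots ∧ D.negIdx.getD r 0 ≠ r

instance instDecidableNegOK (D : ChevalleyDatum) : Decidable (NegOK D) := by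
  unfold NegOK; infer_instance

set_option maxRecDepth 100000 in
theorem negOK_G2 : NegOK chevG2 := by decide
set_option maxRecDepth 100000 in
theorem negOK_B2 : NegOK chevB2 := by decide
set_option maxRecDepth 100000 in
theorem negOK_D4 : NegOK chevD4 := by decide
set_option maxRecDepth 100000 in
theorem negOK_F4 : NegOK chevF4 := by decide
set_option maxRecDepth 100000 in
theorem negOK_E6 : NegOK chevE6 := by decide
set_option maxRecDepth 100000 in
theorem negOK_E7 : NegOK chevE7 := by decide
set_option maxRecDepth 100000 in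
theorem negOK_E8 : NegOK chevE8 := by decide

theorem negOK_of_mem (D : ChevalleyDatum)
    (hD : D ∈ [chevG2, chevB2, chevD4, chevF4, chevE6, chevE7, chevE8]) : NegOK D :=
  mem_seven_cases (P := NegOK) negOK_G2 negOK_B2 negOK_D4 negOK_F4 negOK_E6 negOK_E7 negOK_E8 D hD


/-- every root is positive or negative -/
def PosOrNeg (D : ChevalleyDatum) : Prop :=
  ∀ r < D.nroots, D.IsPosRoot r ∨ D.IsNegRoot r

instance instDecidablePosOrNeg (D : ChevalleyDatum) : Decidable (PosOrNeg D) := by
  unfold PosOrNeg; infer_instance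

set_option maxRecDepth 100000 in
theorem posOrNeg_G2 : PosOrNeg chevG2 := by decide
set_option maxRecDepth 100000 in
theorem posOrNeg_B2 : PosOrNeg chevB2 := by decide
set_option maxRecDepth 100000 in
theorem posOrNeg_D4 : PosOrNeg chevD4 := by decide
set_option maxRecDepth 100000 in
theorem posOrNeg_F4 : PosOrNeg chevF4 := by decide
set_option maxRecDepth 100000 in
theorem posOrNeg_E6 : PosOrNeg chevE6 := by decide
set_option maxRecDepth 100000 in
theorem posOrNeg_E7 : PosOrNeg chevE7 := by decide
set_option maxRecDepth 100000 in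
theorem posOrNeg_E8 : PosOrNeg chevE8 := by decide

theorem posOrNeg_of_mem (D : ChevalleyDatum)
    (hD : D ∈ [chevG2, chevB2, chevD4, chevF4, chevE6, chevE7, chevE8]) : PosOrNeg D :=
  mem_seven_cases (P := PosOrNeg) posOrNeg_G2 posOrNeg_B2 posOrNeg_D4 posOrNeg_F4 posOrNeg_E6
    posOrNeg_E7 posOrNeg_E8 D hD

theorem x_eq_xMat (D : ChevalleyDatum) (F : Type*) [Field F] (r : ℕ) (h : r < D.nroots) (t : F) :
    D.x F r t = D.xMat F ⟨r, h⟩ t := by
  unfold ChevalleyDatum.x; rw [dif_pos h]

theorem pos_sup_neg_eq_group (D : ChevalleyDatum) (F : Type*) [Field F] (h : PosOrNeg D) :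
    D.posUnipotent F ⊔ D.negUnipotent F = D.group F := by
  unfold ChevalleyDatum.posUnipotent ChevalleyDatum.negUnipotent ChevalleyDatum.group
  rw [← Subgroup.closure_union]
  congr 1
  ext g
  simp only [Set.mem_union, Set.mem_ofPred_eq]
  constructor
  · rintro (⟨r, t, hr, hg⟩ | ⟨r, t, hr, hg⟩)
    · exact ⟨⟨r, hr.1⟩, t, by rw [hg, x_eq_xMat D F r hr.1]⟩
    · exact ⟨⟨r, hr.1⟩, t, by rw [hg, x_eq_xMat D F r hr.1]⟩
  · rintro ⟨r, t, hg⟩
    rcases h r.val r.isLt with hp | hn
    · exact Or.inl ⟨r.val, t, hp, by rw [hg, x_eq_xMat D F r.val r.isLt]⟩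
    · exact Or.inr ⟨r.val, t, hn, by rw [hg, x_eq_xMat D F r.val r.isLt]⟩

end Cfsg.Agent.Lib.Helper7
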