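import Cfsg.Agent.Lib.Helper7.ChevTwistH2
import Cfsg.Agent.Lib.Helper7.ChevTwistD4
import Cfsg.Agent.Lib.Helper7.ChevHCardTab

/-! The torus `H ∩ ³D₄(q)` has `(q-1)(q³-1)` elements (helper7). -/

set_option autoImplicit false
set_option maxRecDepth 100000

namespace Cfsg.Agent.Lib.Helper7

open Cfsg Cfsg.Lie Matrix

theorem card_ne_zero_subtype (K : Type*) [Field K] [Fintype K] :
    Nat.card {b : K // b ≠ 0} = Fintype.card K - 1 := by
  classical
  rw [← Nat.card_congr (unitsEquivNeZero (G₀ := K)), Nat.card_eq_fintype_card, Fintype.card_units]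

theorem card_fixed_ne_zero (K : Type*) [Field K] [Finite K] (φ : K ≃+* K) (q : ℕ)
    (hfix : Nat.card {a : K // φ a = a} = q) : Nat.card {a : K // φ a = a ∧ a ≠ 0} = q - 1 := by
  have h1 : Nat.card {a : K // φ a = a ∧ a ≠ 0} = Set.ncard ({a : K | φ a = a} \ {0}) := by
    rw [← _root_.Nat.card_coe_set_eq]
    rfl
  have h2 : Set.ncard {a : K | φ a = a} = q := by
    rw [← _root_.Nat.card_coe_set_eq]
    exact hfix
  rw [h1, Set.ncard_diff_singleton_of_mem (show (0 : K) ∈ {a : K | φ a = a} from map_zero φ), h2]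

section
variable (K : Type*) [Field K] (φ : K ≃+* K)

local notation "G1D4" => chevD4.genSubgroup K (twWords K φ [d4p2, d4m2] []
  [(d4p1, d4p3, d4p4), (d4m1, d4m3, d4m4)])

/-- the torus element `h_{p₂}(μ) h_{p₁}(λ) h_{p₃}(φλ) h_{p₄}(φ²λ)` -/
noncomputable def tD4 (mu lam : K) : GL chevD4.Idx K :=
  wordGL chevD4 chevD4_mem K ([1].flatMap fun k => chevD4.hWord (chevD4.simple k) mu) *
    wordGL chevD4 chevD4_mem K ([0, 2, 3].flatMap fun x =>
      chevD4.hWord (chevD4.simple x) (tripleC K φ 0 2 lam x))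

theorem tripleC_ne_zero (i j : ℕ) (lam : K) (h0 : lam ≠ 0) (x : ℕ) : tripleC K φ i j lam x ≠ 0 := by
  unfold tripleC
  split_ifs
  · exact h0
  · exact (map_ne_zero φ).mpr h0
  · exact (map_ne_zero φ).mpr ((map_ne_zero φ).mpr h0)

theorem tD4_mem_G1 (mu lam : K) (hmu0 : mu ≠ 0) (hmu : φ mu = mu) (hlam : lam ≠ 0) :
    tD4 K φ mu lam ∈ G1D4 := by
  unfold tD4
  apply Subgroup.mul_mem
  · exact hSingle_mem chevD4 chevD4_mem K φ _ _ _ 1 (simpClassFacts_D4 [1] (by decide)) (by decide) (by decide)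
      (nWordGL_mem_twD4 K φ [1] (by decide)) mu hmu0 hmu
  · exact hTriple_mem chevD4 chevD4_mem K φ _ _ _ 0 2 3 (simpClassFacts_D4 [0, 2, 3] (by decide)) (by decide)
      (by decide) (nWordGL_mem_twD4 K φ [0, 2, 3] (by decide)) lam hlam

theorem tD4_mem_H (mu lam : K) (hmu0 : mu ≠ 0) (hlam : lam ≠ 0) :
    tD4 K φ mu lam ∈ chevD4.diagonalSubgroup K := by
  unfold tD4
  apply Subgroup.mul_mem
  · exact wordGL_flatMap_mem chevD4 chevD4_mem K (fun _ => mu) [1] (fun i hi => ⟨by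
      simp only [List.mem_cons, List.not_mem_nil, or_false] at hi; rw [hi]; decide, hmu0⟩)
  · exact wordGL_flatMap_mem chevD4 chevD4_mem K (tripleC K φ 0 2 lam) [0, 2, 3] (fun i hi => ⟨by
      simp only [List.mem_cons, List.not_mem_nil, or_false] at hi
      rcases hi with rfl | rfl | rfl <;> decide, tripleC_ne_zero K φ 0 2 lam hlam i⟩)

theorem tD4_conj (mu lam : K) (hmu0 : mu ≠ 0) (hlam : lam ≠ 0) (s : ℕ) (t : K) :
    tD4 K φ mu lam * xGL chevD4 chevD4_mem K s t * (tD4 K φ mu lam)⁻¹ =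
      xGL chevD4 chevD4_mem K s (prodChar chevD4 K [1] (fun _ => mu) s *
        (prodChar chevD4 K [0, 2, 3] (tripleC K φ 0 2 lam) s * t)) := by
  unfold tD4
  have h1 := hClass_conj chevD4 chevD4_mem K [0, 2, 3] (by decide) (tripleC K φ 0 2 lam)
    (tripleC_ne_zero K φ 0 2 lam hlam) s t
  have h2 := hClass_conj chevD4 chevD4_mem K [1] (by decide) (fun _ => mu) (fun _ => hmu0) s
    (prodChar chevD4 K [0, 2, 3] (tripleC K φ 0 2 lam) s * t)
  rw [← h2, ← h1]
  group

theorem tD4_char_p1 (mu lam : K) :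
    prodChar chevD4 K [1] (fun _ => mu) 18 * prodChar chevD4 K [0, 2, 3] (tripleC K φ 0 2 lam) 18 =
      mu⁻¹ * lam ^ 2 := by
  have c1 : chevD4.cartan 1 18 = -1 := by decide +kernel
  have c0 : chevD4.cartan 0 18 = 2 := by decide +kernel
  have c2 : chevD4.cartan 2 18 = 0 := by decide +kernel
  have c3 : chevD4.cartan 3 18 = 0 := by decide +kernel
  unfold prodChar
  simp only [List.map_cons, List.map_nil, List.prod_cons, List.prod_nil, mul_one]
  rw [c1, c0, c2, c3, zpow_zero, zpow_zero, mul_one, mul_one, _root_.zpow_neg_one]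
  unfold tripleC
  rw [if_pos rfl]
  congr 1
  exact zpow_ofNat _ 2

theorem tD4_char_p2 (mu lam : K) :
    prodChar chevD4 K [1] (fun _ => mu) 14 * prodChar chevD4 K [0, 2, 3] (tripleC K φ 0 2 lam) 14 =
      mu ^ 2 * (lam⁻¹ * ((φ lam)⁻¹ * (φ (φ lam))⁻¹)) := by
  have c1 : chevD4.cartan 1 14 = 2 := by decide +kernel
  have c0 : chevD4.cartan 0 14 = -1 := by decide +kernel
  have c2 : chevD4.cartan 2 14 = -1 := by decide +kernel
  have c3 : chevD4.cartan 3 14 = -1 := by decide +kernel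
  unfold prodChar
  simp only [List.map_cons, List.map_nil, List.prod_cons, List.prod_nil, mul_one]
  rw [c1, c0, c2, c3, _root_.zpow_neg_one, _root_.zpow_neg_one, _root_.zpow_neg_one]
  unfold tripleC
  rw [if_pos rfl, if_neg (by decide), if_pos rfl, if_neg (by decide), if_neg (by decide)]
  congr 1
  exact zpow_ofNat _ 2

/-- the algebra behind the injectivity of `(μ, λ) ↦ tD4 μ λ` -/
theorem tD4_algebra (hφ3 : ∀ a, φ (φ (φ a)) = a) (a b : K) (ha0 : a ≠ 0) (hb0 : b ≠ 0) (ha : φ a = a)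
    (h1 : b ^ 2 = a) (h2 : a ^ 2 = b * (φ b * φ (φ b))) : a = 1 ∧ b = 1 := by
  have h3 : (φ b) ^ 2 = a := by rw [← map_pow, h1, ha]
  have h4 : (φ (φ b)) ^ 2 = a := by rw [← map_pow, h3, ha]
  have h5 : a ^ 4 = a ^ 3 := by
    calc a ^ 4 = (a ^ 2) ^ 2 := by ring
      _ = (b * (φ b * φ (φ b))) ^ 2 := by rw [h2]
      _ = b ^ 2 * ((φ b) ^ 2 * (φ (φ b)) ^ 2) := by ring
      _ = a ^ 3 := by rw [h1, h3, h4]; ring
  have ha1 : a = 1 := by
    have h6 : a ^ 3 * (a - 1) = 0 := by ring_nf; rw [h5]; ring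
    rcases mul_eq_zero.mp h6 with h | h
    · exact absurd (pow_eq_zero_iff (by norm_num) |>.mp h) ha0
    · exact sub_eq_zero.mp h
  refine ⟨ha1, ?_⟩
  rw [ha1] at h1 h2
  have h7 : (b - 1) * (b + 1) = 0 := by ring_nf; rw [h1]; ring
  rcases mul_eq_zero.mp h7 with h | h
  · exact sub_eq_zero.mp h
  · have hb : b = -1 := eq_neg_of_add_eq_zero_left h
    rw [hb, map_neg, map_one, map_neg, map_one] at h2
    have : (1 : K) = -1 := by
      calc (1 : K) = 1 ^ 2 := by ring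
        _ = -1 * (-1 * -1) := h2
        _ = -1 := by ring
    rw [hb, ← this]

theorem tD4_injective (hφ3 : ∀ a, φ (φ (φ a)) = a) (mu lam mu' lam' : K) (hmu0 : mu ≠ 0) (hlam : lam ≠ 0)
    (hmu0' : mu' ≠ 0) (hlam' : lam' ≠ 0) (hmu : φ mu = mu) (hmu' : φ mu' = mu')
    (h : tD4 K φ mu lam = tD4 K φ mu' lam') : mu = mu' ∧ lam = lam' := by
  have hc : ∀ s < chevD4.nroots, prodChar chevD4 K [1] (fun _ => mu) s *
      prodChar chevD4 K [0, 2, 3] (tripleC K φ 0 2 lam) s =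
      prodChar chevD4 K [1] (fun _ => mu') s * prodChar chevD4 K [0, 2, 3] (tripleC K φ 0 2 lam') s := by
    intro s hs
    have e1 := tD4_conj K φ mu lam hmu0 hlam s 1
    have e2 := tD4_conj K φ mu' lam' hmu0' hlam' s 1
    rw [h, e2] at e1
    have := xGL_param_inj chevD4 chevD4_mem K s hs _ _ e1
    rw [mul_one, mul_one] at this
    exact this.symm
  have h18 := hc 18 (by decide)
  have h14 := hc 14 (by decide)
  rw [tD4_char_p1, tD4_char_p1] at h18
  rw [tD4_char_p2, tD4_char_p2] at h14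
  have hφl0 : φ lam ≠ 0 := (map_ne_zero φ).mpr hlam
  have hφφl0 : φ (φ lam) ≠ 0 := (map_ne_zero φ).mpr hφl0
  have hφl0' : φ lam' ≠ 0 := (map_ne_zero φ).mpr hlam'
  have hφφl0' : φ (φ lam') ≠ 0 := (map_ne_zero φ).mpr hφl0'
  obtain ⟨ha1, hb1⟩ := tD4_algebra K φ hφ3 (mu * mu'⁻¹) (lam * lam'⁻¹)
    (mul_ne_zero hmu0 (inv_ne_zero hmu0')) (mul_ne_zero hlam (inv_ne_zero hlam'))
    (by rw [map_mul, map_inv₀, hmu, hmu'])
    (by
      field_simp
      field_simp at h18
      linear_combination h18)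
    (by
      simp only [map_mul, map_inv₀]
      field_simp
      field_simp at h14
      linear_combination h14)
  constructor
  · field_simp at ha1; exact ha1
  · field_simp at hb1; exact hb1

end

end Cfsg.Agent.Lib.Helper7
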