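import Mathlib
import Cfsg.Prelude.Def_Local
import Cfsg.Agent.Lib.Helper25.TSDefs

/-!
# S3797 leaf DBOT (`sylow_le_of_inf_eq_bot`), planner helper25, prover helper7
-/

set_option autoImplicit false

namespace Cfsg.Agent.Lib.Helper7.TSDBOT

open Cfsg.Agent.Lib.Helper25.TS
open scoped commutatorElement

universe u

variable {G : Type u} [Group G] [Finite G]

/-- **G4 `sylow_le_of_inf_eq_bot`** -/
theorem sylow_le_of_inf_eq_bot {T E : Subgroup G} (c : Cfg G T E) (Q : Subgroup G)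
    (hTN : T ⊔ Subgroup.normalizer (Q : Set G) = ⊤) (hTQ : T ⊓ Q = ⊥)
    (hD : E ⊓ Subgroup.centralizer (Q : Set G) = ⊥) (S : Sylow 2 G) :
    (S : Subgroup G) ≤ T := by
  have hTn := c.T_normal
  -- (1) `T ⊓ N(Q)` centralizes `Q`
  have h1 : ∀ x ∈ T, x ∈ Subgroup.normalizer (Q : Set G) → x ∈ Subgroup.centralizer (Q : Set G) := by
    intro x hxT hxN
    rw [Subgroup.mem_centralizer_iff]
    intro q hq
    have hmemT : x * q * x⁻¹ * q⁻¹ ∈ T := by
      have : x * q * x⁻¹ * q⁻¹ = x * (q * x⁻¹ * q⁻¹) := by group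
      rw [this]
      exact T.mul_mem hxT (hTn.conj_mem _ (T.inv_mem hxT) q)
    have hmemQ : x * q * x⁻¹ * q⁻¹ ∈ Q :=
      Q.mul_mem ((Subgroup.mem_normalizer_iff.mp hxN q).mp hq) (Q.inv_mem hq)
    have h0 : x * q * x⁻¹ * q⁻¹ ∈ T ⊓ Q := ⟨hmemT, hmemQ⟩
    rw [hTQ, Subgroup.mem_bot] at h0
    have : x * q = q * x := by
      have h2 : x * q * x⁻¹ * q⁻¹ * (q * x) = 1 * (q * x) := by rw [h0]
      rw [one_mul] at h2
      rw [← h2]; group
    exact this.symm
  -- (2) `N(Q)` contains no involution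
  have h2 : ∀ x ∈ Subgroup.normalizer (Q : Set G), x ^ 2 = 1 → x = 1 := by
    intro x hxN hx2
    have hxE : x ∈ E := (c.mem_E x).mpr hx2
    have hxC := h1 x (c.E_le hxE) hxN
    have h0 : x ∈ E ⊓ Subgroup.centralizer (Q : Set G) := ⟨hxE, hxC⟩
    rw [hD, Subgroup.mem_bot] at h0
    exact h0
  -- (3) `N(Q)` has odd order
  have h3 : Odd (Nat.card (Subgroup.normalizer (Q : Set G))) := by
    rw [← Nat.not_even_iff_odd]
    intro heven
    have : Fact (Nat.Prime 2) := ⟨Nat.prime_two⟩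
    obtain ⟨x, hx⟩ := exists_prime_orderOf_dvd_card' (G := ↥(Subgroup.normalizer (Q : Set G))) 2
      heven.two_dvd
    have hx2 : (x : G) ^ 2 = 1 := by
      have : x ^ 2 = 1 := by rw [← hx]; exact pow_orderOf_eq_one x
      have h := congrArg Subtype.val this
      simpa using h
    have hx1 : (x : G) = 1 := h2 x x.2 hx2
    have : x = 1 := Subtype.ext hx1
    rw [this, orderOf_one] at hx
    omega
  -- (4) `T ⊓ N(Q) = ⊥`
  have h4 : T ⊓ Subgroup.normalizer (Q : Set G) = ⊥ := by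
    rw [eq_bot_iff]
    intro x hx
    rw [Subgroup.mem_bot]
    obtain ⟨k, hk⟩ := c.T_two ⟨x, hx.1⟩
    have hxk : x ^ (2 ^ k) = 1 := by
      have h := congrArg Subtype.val hk
      simpa using h
    have hd1 : orderOf x ∣ 2 ^ k := orderOf_dvd_of_pow_eq_one hxk
    have hd2 : orderOf x ∣ Nat.card (Subgroup.normalizer (Q : Set G)) := by
      have := orderOf_dvd_natCard (⟨x, hx.2⟩ : ↥(Subgroup.normalizer (Q : Set G)))
      rwa [Subgroup.orderOf_mk] at this
    have hcop : Nat.Coprime (2 ^ k) (Nat.card (Subgroup.normalizer (Q : Set G))) :=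
      Nat.Coprime.pow_left _ (Nat.coprime_two_left.mpr h3)
    exact orderOf_eq_one_iff.mp (Nat.eq_one_of_dvd_coprimes hcop hd1 hd2)
  -- (5) `T` has odd index
  have h5 : Odd T.index := by
    have e1 : T.index = T.relIndex (T ⊔ Subgroup.normalizer (Q : Set G)) := by
      rw [hTN, Subgroup.relIndex_top_right]
    rw [e1, Subgroup.relIndex_sup_left, ← Subgroup.inf_relIndex_right, h4, Subgroup.relIndex_bot_left]
    exact h3
  -- (6) conclusion
  intro s hs
  obtain ⟨k, hk⟩ := S.isPGroup' ⟨s, hs⟩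
  have hsk : s ^ (2 ^ k) = 1 := by
    have h := congrArg Subtype.val hk
    simpa using h
  have hq : ((s : G) : G ⧸ T) ^ (2 ^ k) = 1 := by
    rw [← QuotientGroup.mk_pow, hsk, QuotientGroup.mk_one]
  have hd1 : orderOf ((s : G) : G ⧸ T) ∣ 2 ^ k := orderOf_dvd_of_pow_eq_one hq
  have hd2 : orderOf ((s : G) : G ⧸ T) ∣ T.index := by
    rw [Subgroup.index_eq_card]; exact orderOf_dvd_natCard _
  have hcop : Nat.Coprime (2 ^ k) T.index := Nat.Coprime.pow_left _ (Nat.coprime_two_left.mpr h5)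
  have h1' := orderOf_eq_one_iff.mp (Nat.eq_one_of_dvd_coprimes hcop hd1 hd2)
  exact (QuotientGroup.eq_one_iff s).mp h1'

end Cfsg.Agent.Lib.Helper7.TSDBOT
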