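import Mathlib
import Cfsg.Prelude.Def_Local
import Cfsg.Agent.Lib.Helper25.TSDefs

/-!
# S3797 leaf DICH (`centralizer_dichotomy`), planner helper25, prover helper7
-/

set_option autoImplicit false

namespace Cfsg.Agent.Lib.Helper7.TSDICH

open Cfsg.Agent.Lib.Helper25.TS
open scoped commutatorElement

universe u

variable {G : Type u} [Group G] [Finite G]

/-- conjugation by an element of `N_G(Q)` preserves `C_G(Q)` -/
theorem conj_mem_centralizer_of_mem_normalizer (Q : Subgroup G) {n d : G}
    (hn : n ∈ Subgroup.normalizer (Q : Set G)) (hd : d ∈ Subgroup.centralizer (Q : Set G)) :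
    n * d * n⁻¹ ∈ Subgroup.centralizer (Q : Set G) := by
  rw [Subgroup.mem_centralizer_iff] at hd ⊢
  intro q hq
  have hn' : n⁻¹ ∈ Subgroup.normalizer (Q : Set G) := Subgroup.inv_mem _ hn
  have hq' : n⁻¹ * q * n⁻¹⁻¹ ∈ Q := (Subgroup.mem_normalizer_iff.mp hn' q).mp hq
  rw [inv_inv] at hq'
  have h1 := hd _ hq'
  calc q * (n * d * n⁻¹) = n * ((n⁻¹ * q * n) * d) * n⁻¹ := by group
    _ = n * (d * (n⁻¹ * q * n)) * n⁻¹ := by rw [h1]
    _ = n * d * n⁻¹ * q := by group

/-- **G3b `centralizer_dichotomy`** -/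
theorem centralizer_dichotomy {T E : Subgroup G} (c : Cfg G T E) (Q : Subgroup G)
    (hTN : T ⊔ Subgroup.normalizer (Q : Set G) = ⊤) :
    E ⊓ Subgroup.centralizer (Q : Set G) = ⊥ ∨ Q ≤ Subgroup.centralizer (E : Set G) := by
  have hT : T ≤ Subgroup.normalizer ((E ⊓ Subgroup.centralizer (Q : Set G) : Subgroup G) : Set G) := by
    intro t ht
    apply Subgroup.mem_normalizer_fintype
    intro d hd
    have hdE : d ∈ E := hd.1
    have h1 : t * d * t⁻¹ = d := by
      rw [← c.E_central d hdE t ht, mul_assoc, mul_inv_cancel, mul_one]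
    rw [h1]; exact hd
  have hN : Subgroup.normalizer (Q : Set G) ≤
      Subgroup.normalizer ((E ⊓ Subgroup.centralizer (Q : Set G) : Subgroup G) : Set G) := by
    intro n hn
    apply Subgroup.mem_normalizer_fintype
    intro d hd
    exact ⟨c.E_normal.conj_mem d hd.1 n, conj_mem_centralizer_of_mem_normalizer Q hn hd.2⟩
  have hD : (E ⊓ Subgroup.centralizer (Q : Set G)).Normal := by
    rw [← Subgroup.normalizer_eq_top_iff, eq_top_iff, ← hTN]
    exact sup_le hT hN
  rcases c.eq_bot_or_eq_of_normal _ hD inf_le_left with h | h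
  · exact Or.inl h
  · right
    intro q hq
    rw [Subgroup.mem_centralizer_iff]
    intro e he
    have he' : e ∈ E ⊓ Subgroup.centralizer (Q : Set G) := by rw [h]; exact he
    have h2 := Subgroup.mem_centralizer_iff.mp he'.2 q hq
    exact h2.symm

end Cfsg.Agent.Lib.Helper7.TSDICH
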