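import Mathlib
import Cfsg.Prelude.Def_Local
import Cfsg.Agent.Lib.Helper25.TSDefs

/-!
# S3797 leaf HYPN (`hyp_normalizer`), planner helper25, prover helper7
-/

set_option autoImplicit false

namespace Cfsg.Agent.Lib.Helper7.TSHYPN

open Cfsg.Agent.Lib.Helper25.TS
open scoped commutatorElement
open scoped Pointwise

universe u

variable {G : Type u} [Group G] [Finite G]

/-- **G4b `hyp_normalizer`** -/
theorem hyp_normalizer {T E : Subgroup G} (c : Cfg G T E) (Q : Subgroup G)
    (hTN : T ⊔ Subgroup.normalizer (Q : Set G) = ⊤)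
    (hQE : Q ≤ Subgroup.centralizer (E : Set G)) :
    Hyp ↥(Subgroup.normalizer (Q : Set G)) := by
  have hEN : E ≤ Subgroup.normalizer (Q : Set G) := by
    intro e he
    apply Subgroup.centralizer_le_normalizer
    rw [Subgroup.mem_centralizer_iff]
    intro q hq
    have := Subgroup.mem_centralizer_iff.mp (hQE hq) e he
    exact this.symm
  have := c.T_normal
  have := c.hyp.sol
  refine ⟨inferInstance, ?_, ?_⟩
  · intro x y hx1 hx2 hy1 hy2
    have hxE : (x : G) ∈ E := by
      rw [c.mem_E]
      have := congrArg Subtype.val hx2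
      simpa using this
    have hyE : (y : G) ∈ E := by
      rw [c.mem_E]
      have := congrArg Subtype.val hy2
      simpa using this
    have hx1' : (x : G) ≠ 1 := fun h => hx1 (Subtype.ext h)
    have hy1' : (y : G) ≠ 1 := fun h => hy1 (Subtype.ext h)
    obtain ⟨g, hg⟩ := c.trans x hxE y hyE hx1' hy1'
    have hgmem : g ∈ T ⊔ Subgroup.normalizer (Q : Set G) := by rw [hTN]; trivial
    have hset : ((T ⊔ Subgroup.normalizer (Q : Set G) : Subgroup G) : Set G) =
        (T : Set G) * (Subgroup.normalizer (Q : Set G) : Set G) := Subgroup.normal_mul T _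
    have hg' : g ∈ (T : Set G) * (Subgroup.normalizer (Q : Set G) : Set G) := by
      rw [← hset]; exact hgmem
    obtain ⟨t, ht, n, hn, rfl⟩ := Set.mem_mul.mp hg'
    have hnx : n * x * n⁻¹ ∈ E := c.E_normal.conj_mem _ hxE n
    have h1 : t * (n * x * n⁻¹) * t⁻¹ = n * x * n⁻¹ := by
      rw [← c.E_central _ hnx t ht, mul_assoc, mul_inv_cancel, mul_one]
    have h2 : n * x * n⁻¹ = y := by
      rw [← hg, ← h1]; group
    rw [isConj_iff]
    exact ⟨⟨n, hn⟩, Subtype.ext h2⟩
  · obtain ⟨x, hx, y, hy, hxy, hx1, hy1⟩ := c.exists_two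
    refine ⟨⟨x, hEN hx⟩, ⟨y, hEN hy⟩, ?_, ?_, ?_, ?_, ?_, ?_⟩
    · intro h; exact hxy (congrArg Subtype.val h)
    · intro h; exact hx1 (congrArg Subtype.val h)
    · apply Subtype.ext
      have := (c.mem_E x).mp hx
      simpa using this
    · intro h; exact hy1 (congrArg Subtype.val h)
    · apply Subtype.ext
      have := (c.mem_E y).mp hy
      simpa using this
    · apply Subtype.ext
      exact c.E_comm x hx y hy

end Cfsg.Agent.Lib.Helper7.TSHYPN
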