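import Cfsg.Agent.Lib.Helper7.ChevGraph2

/-! Table certificates for the graph automorphisms of `D₄` and `E₆` (helper7; generated). -/

set_option autoImplicit false
set_option maxRecDepth 100000

namespace Cfsg.Agent.Lib.Helper7

open Cfsg Cfsg.Lie

def grPv_D4_0 : List ℕ := [0, 1, 2, 3]
def grPvInv_D4_0 : List ℕ := [0, 1, 2, 3]
def grRho_D4_0 : List ℕ := [0, 1, 2, 3, 4, 5, 6, 7, 8, 9, 10, 11, 12, 13, 14, 15, 16, 17, 18, 19, 20, 21, 22, 23]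
def grRhoInv_D4_0 : List ℕ := [0, 1, 2, 3, 4, 5, 6, 7, 8, 9, 10, 11, 12, 13, 14, 15, 16, 17, 18, 19, 20, 21, 22, 23]
def grEps_D4_0 : List ℤ := [1, 1, 1, 1, 1, 1, 1, 1, 1, 1, 1, 1, 1, 1, 1, 1, 1, 1, 1, 1, 1, 1, 1, 1]
theorem graphOKB_D4_0 : graphOKB chevD4 grPv_D4_0 grPvInv_D4_0 grRho_D4_0 grRhoInv_D4_0 grEps_D4_0 = true := by decide +kernel
theorem graphSimpleB_D4_0 : graphSimpleB chevD4 grPv_D4_0 grRho_D4_0 grEps_D4_0 = true := by decide +kernel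

def grPv_D4_1 : List ℕ := [2, 1, 3, 0]
def grPvInv_D4_1 : List ℕ := [3, 1, 0, 2]
def grRho_D4_1 : List ℕ := [0, 1, 6, 2, 7, 10, 3, 8, 4, 9, 11, 5, 18, 12, 14, 19, 15, 20, 13, 16, 21, 17, 22, 23]
def grRhoInv_D4_1 : List ℕ := [0, 1, 3, 6, 8, 11, 2, 4, 7, 9, 5, 10, 13, 18, 14, 16, 19, 21, 12, 15, 17, 20, 22, 23]
def grEps_D4_1 : List ℤ := [1, 1, -1, 1, -1, 1, -1, 1, -1, 1, 1, 1, 1, 1, 1, -1, 1, -1, 1, -1, 1, -1, 1, 1]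
theorem graphOKB_D4_1 : graphOKB chevD4 grPv_D4_1 grPvInv_D4_1 grRho_D4_1 grRhoInv_D4_1 grEps_D4_1 = true := by decide +kernel
theorem graphSimpleB_D4_1 : graphSimpleB chevD4 grPv_D4_1 grRho_D4_1 grEps_D4_1 = true := by decide +kernel

def grPv_D4_2 : List ℕ := [3, 1, 0, 2]
def grPvInv_D4_2 : List ℕ := [2, 1, 3, 0]
def grRho_D4_2 : List ℕ := [0, 1, 3, 6, 8, 11, 2, 4, 7, 9, 5, 10, 13, 18, 14, 16, 19, 21, 12, 15, 17, 20, 22, 23]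
def grRhoInv_D4_2 : List ℕ := [0, 1, 6, 2, 7, 10, 3, 8, 4, 9, 11, 5, 18, 12, 14, 19, 15, 20, 13, 16, 21, 17, 22, 23]
def grEps_D4_2 : List ℤ := [1, 1, 1, -1, -1, 1, -1, -1, 1, 1, 1, 1, 1, 1, 1, 1, -1, -1, 1, -1, -1, 1, 1, 1]
theorem graphOKB_D4_2 : graphOKB chevD4 grPv_D4_2 grPvInv_D4_2 grRho_D4_2 grRhoInv_D4_2 grEps_D4_2 = true := by decide +kernel
theorem graphSimpleB_D4_2 : graphSimpleB chevD4 grPv_D4_2 grRho_D4_2 grEps_D4_2 = true := by decide +kernel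

def grPv_D4_3 : List ℕ := [2, 1, 0, 3]
def grPvInv_D4_3 : List ℕ := [2, 1, 0, 3]
def grRho_D4_3 : List ℕ := [0, 1, 2, 6, 7, 10, 3, 4, 8, 9, 5, 11, 12, 18, 14, 15, 19, 20, 13, 16, 17, 21, 22, 23]
def grRhoInv_D4_3 : List ℕ := [0, 1, 2, 6, 7, 10, 3, 4, 8, 9, 5, 11, 12, 18, 14, 15, 19, 20, 13, 16, 17, 21, 22, 23]
def grEps_D4_3 : List ℤ := [1, 1, 1, -1, -1, 1, -1, -1, 1, 1, 1, 1, 1, 1, 1, 1, -1, -1, 1, -1, -1, 1, 1, 1]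
theorem graphOKB_D4_3 : graphOKB chevD4 grPv_D4_3 grPvInv_D4_3 grRho_D4_3 grRhoInv_D4_3 grEps_D4_3 = true := by decide +kernel
theorem graphSimpleB_D4_3 : graphSimpleB chevD4 grPv_D4_3 grRho_D4_3 grEps_D4_3 = true := by decide +kernel

def grPv_D4_4 : List ℕ := [3, 1, 2, 0]
def grPvInv_D4_4 : List ℕ := [3, 1, 2, 0]
def grRho_D4_4 : List ℕ := [0, 1, 6, 3, 8, 11, 2, 7, 4, 9, 10, 5, 18, 13, 14, 19, 16, 21, 12, 15, 20, 17, 22, 23]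
def grRhoInv_D4_4 : List ℕ := [0, 1, 6, 3, 8, 11, 2, 7, 4, 9, 10, 5, 18, 13, 14, 19, 16, 21, 12, 15, 20, 17, 22, 23]
def grEps_D4_4 : List ℤ := [1, 1, -1, 1, -1, 1, -1, 1, -1, 1, 1, 1, 1, 1, 1, -1, 1, -1, 1, -1, 1, -1, 1, 1]
theorem graphOKB_D4_4 : graphOKB chevD4 grPv_D4_4 grPvInv_D4_4 grRho_D4_4 grRhoInv_D4_4 grEps_D4_4 = true := by decide +kernel
theorem graphSimpleB_D4_4 : graphSimpleB chevD4 grPv_D4_4 grRho_D4_4 grEps_D4_4 = true := by decide +kernel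

def grPv_D4_5 : List ℕ := [0, 1, 3, 2]
def grPvInv_D4_5 : List ℕ := [0, 1, 3, 2]
def grRho_D4_5 : List ℕ := [0, 1, 3, 2, 4, 5, 6, 8, 7, 9, 11, 10, 13, 12, 14, 16, 15, 17, 18, 19, 21, 20, 22, 23]
def grRhoInv_D4_5 : List ℕ := [0, 1, 3, 2, 4, 5, 6, 8, 7, 9, 11, 10, 13, 12, 14, 16, 15, 17, 18, 19, 21, 20, 22, 23]
def grEps_D4_5 : List ℤ := [1, 1, 1, 1, 1, 1, 1, 1, 1, 1, 1, 1, 1, 1, 1, 1, 1, 1, 1, 1, 1, 1, 1, 1]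
theorem graphOKB_D4_5 : graphOKB chevD4 grPv_D4_5 grPvInv_D4_5 grRho_D4_5 grRhoInv_D4_5 grEps_D4_5 = true := by decide +kernel
theorem graphSimpleB_D4_5 : graphSimpleB chevD4 grPv_D4_5 grRho_D4_5 grEps_D4_5 = true := by decide +kernel

def grPv_E6_0 : List ℕ := [0, 1, 2, 3, 4, 5]
def grPvInv_E6_0 : List ℕ := [0, 1, 2, 3, 4, 5]
def grRho_E6_0 : List ℕ := [0, 1, 2, 3, 4, 5, 6, 7, 8, 9, 10, 11, 12, 13, 14, 15, 16, 17, 18, 19, 20, 21, 22, 23, 24, 25, 26, 27, 28, 29, 30, 31, 32, 33, 34, 35, 36, 37, 38, 39, 40, 41, 42, 43, 44, 45, 46, 47, 48, 49, 50, 51, 52, 53, 54, 55, 56, 57, 58, 59, 60, 61, 62, 63, 64, 65, 66, 67, 68, 69, 70, 71]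
def grRhoInv_E6_0 : List ℕ := [0, 1, 2, 3, 4, 5, 6, 7, 8, 9, 10, 11, 12, 13, 14, 15, 16, 17, 18, 19, 20, 21, 22, 23, 24, 25, 26, 27, 28, 29, 30, 31, 32, 33, 34, 35, 36, 37, 38, 39, 40, 41, 42, 43, 44, 45, 46, 47, 48, 49, 50, 51, 52, 53, 54, 55, 56, 57, 58, 59, 60, 61, 62, 63, 64, 65, 66, 67, 68, 69, 70, 71]
def grEps_E6_0 : List ℤ := [1, 1, 1, 1, 1, 1, 1, 1, 1, 1, 1, 1, 1, 1, 1, 1, 1, 1, 1, 1, 1, 1, 1, 1, 1, 1, 1, 1, 1, 1, 1, 1, 1, 1, 1, 1, 1, 1, 1, 1, 1, 1, 1, 1, 1, 1, 1, 1, 1, 1, 1, 1, 1, 1, 1, 1, 1, 1, 1, 1, 1, 1, 1, 1, 1, 1, 1, 1, 1, 1, 1, 1]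
theorem graphOKB_E6_0 : graphOKB chevE6 grPv_E6_0 grPvInv_E6_0 grRho_E6_0 grRhoInv_E6_0 grEps_E6_0 = true := by decide +kernel
theorem graphSimpleB_E6_0 : graphSimpleB chevE6 grPv_E6_0 grRho_E6_0 grEps_E6_0 = true := by decide +kernel

def grPv_E6_1 : List ℕ := [5, 1, 4, 3, 2, 0]
def grPvInv_E6_1 : List ℕ := [5, 1, 4, 3, 2, 0]
def grRho_E6_1 : List ℕ := [0, 1, 2, 5, 16, 3, 6, 17, 8, 19, 22, 11, 26, 30, 33, 35, 4, 7, 18, 9, 20, 23, 10, 21, 24, 25, 12, 27, 31, 34, 13, 28, 32, 14, 29, 15, 56, 42, 57, 39, 43, 58, 37, 40, 44, 59, 46, 47, 50, 61, 48, 51, 62, 53, 64, 67, 36, 38, 41, 45, 60, 49, 52, 63, 54, 65, 68, 55, 66, 69, 70, 71]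
def grRhoInv_E6_1 : List ℕ := [0, 1, 2, 5, 16, 3, 6, 17, 8, 19, 22, 11, 26, 30, 33, 35, 4, 7, 18, 9, 20, 23, 10, 21, 24, 25, 12, 27, 31, 34, 13, 28, 32, 14, 29, 15, 56, 42, 57, 39, 43, 58, 37, 40, 44, 59, 46, 47, 50, 61, 48, 51, 62, 53, 64, 67, 36, 38, 41, 45, 60, 49, 52, 63, 54, 65, 68, 55, 66, 69, 70, 71]
def grEps_E6_1 : List ℤ := [1, 1, 1, 1, -1, 1, 1, -1, 1, -1, -1, 1, -1, 1, -1, 1, -1, -1, 1, -1, 1, 1, -1, 1, 1, 1, -1, 1, -1, 1, 1, -1, 1, -1, 1, 1, 1, 1, -1, 1, -1, 1, 1, -1, 1, -1, 1, 1, 1, -1, 1, 1, -1, 1, -1, -1, 1, -1, 1, -1, 1, -1, -1, 1, -1, 1, 1, -1, 1, 1, 1, 1]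
theorem graphOKB_E6_1 : graphOKB chevE6 grPv_E6_1 grPvInv_E6_1 grRho_E6_1 grRhoInv_E6_1 grEps_E6_1 = true := by decide +kernel
theorem graphSimpleB_E6_1 : graphSimpleB chevE6 grPv_E6_1 grRho_E6_1 grEps_E6_1 = true := by decide +kernel

end Cfsg.Agent.Lib.Helper7
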