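import Cfsg.Agent.Lib.Helper7.ChevTwistBN2

/-! Twisted groups: the dichotomy for words and the cell decomposition of `G¹` (helper7). -/

set_option autoImplicit false

namespace Cfsg.Agent.Lib.Helper7

open Cfsg Cfsg.Lie Matrix

/-- the simple classes are the images of the index classes, each with its table facts -/
structure TwistBNFacts (D : ChevalleyDatum) (simpIdx simpCls : List (List ℕ)) : Prop where
  cls_eq : simpCls = simpIdx.map (fun J => J.map D.simple)
  facts : ∀ J ∈ simpIdx, SimpClassFacts D J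

section
variable (D : ChevalleyDatum) (hD : D ∈ [chevG2, chevB2, chevD4, chevF4, chevE6, chevE7, chevE8])
variable (pv pv' ρ ρ' : ℕ → ℕ) (ε : ℕ → ℤ) (hG : GraphFacts D pv pv' ρ ρ' ε)
variable (K : Type*) [Field K] (φ : K ≃+* K)
include hD

/-- the action on the roots of a `σ`-fixed element of `N` commutes with `ρ` -/
theorem actsAs_comm_rho (n : GL D.Idx K) (hn : n ∈ fixSigma D pv pv' ρ ρ' ε hG K φ) (g : ℕ → ℕ)
    (hact : ActsAs D hD K n g) (r : ℕ) (hr : r < D.nroots) : g (ρ r) = ρ (g r) := by
  obtain ⟨hlt1, c1, hc1, h1⟩ := hact r hr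
  obtain ⟨hlt2, c2, hc2, h2⟩ := hact (ρ r) (hG.ρlt r hr)
  rw [mem_fixSigma] at hn
  have e1 : sigmaGL D pv pv' ρ ρ' ε hG K φ (n * xGL D hD K r 1 * n⁻¹) =
      xGL D hD K (g (ρ r)) (c2 * (((ε r : ℤ) : K) * φ 1)) := by
    rw [map_mul, map_mul, map_inv, hn, sigmaGL_xGL D hD pv pv' ρ ρ' ε hG K φ r hr, h2]
  have e2 : sigmaGL D pv pv' ρ ρ' ε hG K φ (n * xGL D hD K r 1 * n⁻¹) =
      xGL D hD K (ρ (g r)) (((ε (g r) : ℤ) : K) * φ (c1 * 1)) := by
    rw [h1, sigmaGL_xGL D hD pv pv' ρ ρ' ε hG K φ _ hlt1]
  rw [e1] at e2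
  apply xGL_root_inj D hD K _ _ hlt2 (hG.ρlt _ hlt1) _ _ _ e2
  apply mul_ne_zero hc2
  apply mul_ne_zero (eps_cast_ne_zero D pv pv' ρ ρ' ε hG K r hr)
  rw [map_one]; exact one_ne_zero

/-- a `σ`-fixed element of `N` maps a class to positive roots or to negative roots -/
theorem sign_dichotomy (hρ : ∀ r, D.IsPosRoot r → D.IsPosRoot (ρ r)) (n : GL D.Idx K)
    (hn : n ∈ fixSigma D pv pv' ρ ρ' ε hG K φ) (g : ℕ → ℕ) (hact : ActsAs D hD K n g) (m : ℕ) (S : List ℕ)
    (hS : ∀ r ∈ S, r < D.nroots) (hsh : ClassShape ρ' ε m S) :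
    (∀ r ∈ S, D.IsPosRoot (g r)) ∨ (∀ r ∈ S, D.IsNegRoot (g r)) := by
  have hstab := hsh.stable
  have hsame : ∀ a ∈ S, ∀ b ∈ S, ρ' a = b →
      (D.IsPosRoot (g b) → D.IsPosRoot (g a)) ∧ (D.IsNegRoot (g b) → D.IsNegRoot (g a)) := by
    intro a ha b hb hab
    have e : g a = ρ (g b) := by
      have h1 := hG.ρinv' a (hS a ha)
      rw [hab] at h1
      rw [← h1]
      exact actsAs_comm_rho D hD pv pv' ρ ρ' ε hG K φ n hn g hact b (hS b hb)
    rw [e]
    exact ⟨hρ _, rho_neg_of_pos D hD pv pv' ρ ρ' ε hG hρ _⟩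
  rcases hsh with ⟨r, rfl, -, -⟩ | ⟨-, r, s, rfl, -, h1, h2, -⟩ | ⟨-, r, s, v, rfl, -, -, -, h, -⟩
  · rcases posOrNeg_of_mem D hD (g r) (hact r (hS r (by simp))).1 with hp | hn'
    · left; intro x hx; rw [List.mem_singleton] at hx; rw [hx]; exact hp
    · right; intro x hx; rw [List.mem_singleton] at hx; rw [hx]; exact hn'
  · have e1 := hsame r (by simp) s (by simp) h1
    have e2 := hsame s (by simp) r (by simp) h2
    rcases posOrNeg_of_mem D hD (g r) (hact r (hS r (by simp))).1 with hp | hn'
    · left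
      intro x hx
      simp only [List.mem_cons, List.not_mem_nil, or_false] at hx
      rcases hx with rfl | rfl
      · exact hp
      · exact e2.1 hp
    · right
      intro x hx
      simp only [List.mem_cons, List.not_mem_nil, or_false] at hx
      rcases hx with rfl | rfl
      · exact hn'
      · exact e2.2 hn'
  · rcases h with ⟨h1, h2, h3⟩ | ⟨h1, h2, h3⟩
    · have e1 := hsame r (by simp) v (by simp) h1
      have e2 := hsame s (by simp) r (by simp) h2
      have e3 := hsame v (by simp) s (by simp) h3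
      rcases posOrNeg_of_mem D hD (g r) (hact r (hS r (by simp))).1 with hp | hn'
      · left
        intro x hx
        simp only [List.mem_cons, List.not_mem_nil, or_false] at hx
        rcases hx with rfl | rfl | rfl
        · exact hp
        · exact e2.1 hp
        · exact e3.1 (e2.1 hp)
      · right
        intro x hx
        simp only [List.mem_cons, List.not_mem_nil, or_false] at hx
        rcases hx with rfl | rfl | rfl
        · exact hn'
        · exact e2.2 hn'
        · exact e3.2 (e2.2 hn')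
    · have e1 := hsame r (by simp) s (by simp) h1
      have e2 := hsame s (by simp) v (by simp) h2
      have e3 := hsame v (by simp) r (by simp) h3
      rcases posOrNeg_of_mem D hD (g r) (hact r (hS r (by simp))).1 with hp | hn'
      · left
        intro x hx
        simp only [List.mem_cons, List.not_mem_nil, or_false] at hx
        rcases hx with rfl | rfl | rfl
        · exact hp
        · exact e2.1 (e3.1 hp)
        · exact e3.1 hp
      · right
        intro x hx
        simp only [List.mem_cons, List.not_mem_nil, or_false] at hx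
        rcases hx with rfl | rfl | rfl
        · exact hn'
        · exact e2.2 (e3.2 hn')
        · exact e3.2 hn'

end

end Cfsg.Agent.Lib.Helper7
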