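import Cfsg.Agent.Lib.Helper7.ChevTwist3
import Cfsg.Agent.Lib.Helper7.ChevCanon2
import Cfsg.Agent.Lib.Helper7.ChevBV
import Cfsg.Agent.Lib.Helper7.ChevNorm

/-! Twisted groups: `σ` preserves `U`, `V`, `H`, `N`, `B`; `σ`-fixed canonical forms (helper7). -/

set_option autoImplicit false

namespace Cfsg.Agent.Lib.Helper7

open Cfsg Cfsg.Lie Matrix

section
variable (D : ChevalleyDatum) (hD : D ∈ [chevG2, chevB2, chevD4, chevF4, chevE6, chevE7, chevE8])
variable (pv pv' ρ ρ' : ℕ → ℕ) (ε : ℕ → ℤ) (hG : GraphFacts D pv pv' ρ ρ' ε)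
variable (K : Type*) [Field K] (φ : K ≃+* K)
include hD hG

omit hD in
theorem eps_cast_ne_zero (s : ℕ) (hs : s < D.nroots) : ((ε s : ℤ) : K) ≠ 0 := by
  rcases hG.εpm s hs with h | h <;> rw [h] <;> simp

omit hD in
theorem eps_cast_mul_self (s : ℕ) (hs : s < D.nroots) : ((ε s : ℤ) : K) * ((ε s : ℤ) : K) = 1 := by
  rcases hG.εpm s hs with h | h <;> rw [h] <;> simp

/-- `ρ` maps negative roots to negative roots if it maps positive roots to positive roots -/
theorem rho_neg_of_pos (hρ : ∀ r, D.IsPosRoot r → D.IsPosRoot (ρ r)) (r : ℕ) (hr : D.IsNegRoot r) :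
    D.IsNegRoot (ρ r) := by
  have hNI := negInvOK_of_mem D hD r hr.1
  have hp : D.IsPosRoot (D.neg r) := hNI.2.2 hr
  have hp' := hρ _ hp
  have h1 := (hG.ρneg r hr.1).2
  rw [h1] at hp'
  have hlt := hG.ρlt r hr.1
  have h2 := posNegOK_of_mem D hD _ hp'.1 hp'
  have h3 := (negInvOK_of_mem D hD (ρ r) hlt).1
  have : D.negIdx.getD (D.neg (ρ r)) 0 = ρ r := h3
  rwa [this] at h2

theorem sigma_posUnipotent (hρ : ∀ r, D.IsPosRoot r → D.IsPosRoot (ρ r)) (u : GL D.Idx K)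
    (hu : u ∈ D.posUnipotent K) : sigmaGL D pv pv' ρ ρ' ε hG K φ u ∈ D.posUnipotent K := by
  unfold ChevalleyDatum.posUnipotent at hu
  induction hu using Subgroup.closure_induction with
  | mem x hx =>
    obtain ⟨r, t, hr, hxm⟩ := hx
    have hx' : x = xGL D hD K r t := Units.ext (by rw [hxm, coe_xGL])
    rw [hx', sigmaGL_xGL D hD pv pv' ρ ρ' ε hG K φ r hr.1]
    exact xGL_pos_mem D hD K _ (hρ r hr) _
  | one => rw [map_one]; exact Subgroup.one_mem _
  | mul a b _ _ iha ihb => rw [map_mul]; exact Subgroup.mul_mem _ iha ihb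
  | inv a _ iha => rw [map_inv]; exact Subgroup.inv_mem _ iha

theorem sigma_negUnipotent (hρ : ∀ r, D.IsPosRoot r → D.IsPosRoot (ρ r)) (u : GL D.Idx K)
    (hu : u ∈ D.negUnipotent K) : sigmaGL D pv pv' ρ ρ' ε hG K φ u ∈ D.negUnipotent K := by
  unfold ChevalleyDatum.negUnipotent at hu
  induction hu using Subgroup.closure_induction with
  | mem x hx =>
    obtain ⟨r, t, hr, hxm⟩ := hx
    have hx' : x = xGL D hD K r t := Units.ext (by rw [hxm, coe_xGL])
    rw [hx', sigmaGL_xGL D hD pv pv' ρ ρ' ε hG K φ r hr.1]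
    exact xGL_neg_mem D hD K _ (rho_neg_of_pos D hD pv pv' ρ ρ' ε hG hρ r hr) _
  | one => rw [map_one]; exact Subgroup.one_mem _
  | mul a b _ _ iha ihb => rw [map_mul]; exact Subgroup.mul_mem _ iha ihb
  | inv a _ iha => rw [map_inv]; exact Subgroup.inv_mem _ iha

/-- `σ(n_r(t)) = n_{ρ r}(ε_r φ(t))` -/
theorem sigma_nGL (r : ℕ) (hr : r < D.nroots) (t : K) :
    sigmaGL D pv pv' ρ ρ' ε hG K φ (wordGL D hD K (D.nWord r t)) =
      wordGL D hD K (D.nWord (ρ r) (((ε r : ℤ) : K) * φ t)) := by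
  have hnr := (hG.ρneg r hr).1
  rw [sigmaGL_wordGL D hD pv pv' ρ ρ' ε hG K φ _ (by
    intro e he
    unfold ChevalleyDatum.nWord at he
    simp only [List.mem_cons, List.not_mem_nil, or_false] at he
    rcases he with rfl | rfl | rfl
    · exact hr
    · exact hnr
    · exact hr)]
  unfold ChevalleyDatum.nWord
  simp only [List.map_cons, List.map_nil]
  rw [(hG.ρneg r hr).2, hG.εneg r hr]
  have e : ((ε r : ℤ) : K) * φ (-t⁻¹) = -(((ε r : ℤ) : K) * φ t)⁻¹ := by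
    rw [map_neg, map_inv₀, mul_inv]
    have h1 := eps_cast_mul_self D pv pv' ρ ρ' ε hG K r hr
    have h2 : (((ε r : ℤ) : K))⁻¹ = ((ε r : ℤ) : K) := inv_eq_of_mul_eq_one_left h1
    rw [h2]; ring
  rw [e]

omit pv pv' ρ ρ' ε hG in
/-- `n_s(a) n_s(b) ∈ H` -/
theorem nGL_mul_nGL_mem (s : ℕ) (hs : s < D.nroots) (a b : K) (ha : a ≠ 0) (hb : b ≠ 0) :
    wordGL D hD K (D.nWord s a) * wordGL D hD K (D.nWord s b) ∈ D.diagonalSubgroup K := by
  rw [nGL_eq_hGL_mul D hD K s a, nGL_eq_hGL_mul D hD K s b]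
  obtain ⟨n, hn⟩ : ∃ n, n = wordGL D hD K (D.nWord s 1) := ⟨_, rfl⟩
  rw [← hn]
  have h1 := hGL_mem_diagonalSubgroup D hD K s hs a ha
  have h2 := hGL_mem_diagonalSubgroup D hD K s hs b hb
  have h3 : n * wordGL D hD K (D.hWord s b) * n⁻¹ ∈ D.diagonalSubgroup K := by
    rw [hn]; exact nGL_conj_mem D hD K s hs _ h2
  have h4 : n * n ∈ D.diagonalSubgroup K := by
    have hm := hGL_mem_diagonalSubgroup D hD K s hs (-1) (neg_ne_zero.mpr one_ne_zero)
    have e : wordGL D hD K (D.hWord s (-1)) = (n * n)⁻¹ := by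
      unfold ChevalleyDatum.hWord
      rw [wordGL_append]
      have : wordGL D hD K (D.nWord s (-1)) = n⁻¹ := by
        rw [hn, eq_inv_iff_mul_eq_one]; exact nGL_neg_one_mul D hD K s
      rw [this]; group
    rw [e] at hm
    have := Subgroup.inv_mem _ hm
    rwa [inv_inv] at this
  have e : wordGL D hD K (D.hWord s a) * n * (wordGL D hD K (D.hWord s b) * n) =
      wordGL D hD K (D.hWord s a) * (n * wordGL D hD K (D.hWord s b) * n⁻¹) * (n * n) := by group
  rw [e]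
  exact Subgroup.mul_mem _ (Subgroup.mul_mem _ h1 h3) h4

theorem sigma_diagonal (h : GL D.Idx K) (hh : h ∈ D.diagonalSubgroup K) :
    sigmaGL D pv pv' ρ ρ' ε hG K φ h ∈ D.diagonalSubgroup K := by
  unfold ChevalleyDatum.diagonalSubgroup at hh
  induction hh using Subgroup.closure_induction with
  | mem x hx =>
    obtain ⟨r, t, hr, ht, hxm⟩ := hx
    have hx' : x = wordGL D hD K (D.hWord r t) := Units.ext (by rw [hxm, coe_wordGL]; rfl)
    rw [hx']
    unfold ChevalleyDatum.hWord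
    rw [wordGL_append, map_mul, sigma_nGL D hD pv pv' ρ ρ' ε hG K φ r hr,
      sigma_nGL D hD pv pv' ρ ρ' ε hG K φ r hr]
    have he := eps_cast_ne_zero D pv pv' ρ ρ' ε hG K r hr
    apply nGL_mul_nGL_mem D hD K _ (hG.ρlt r hr)
    · exact mul_ne_zero he (by simpa using ht)
    · apply mul_ne_zero he
      rw [map_neg, map_one]
      exact neg_ne_zero.mpr one_ne_zero
  | one => rw [map_one]; exact Subgroup.one_mem _
  | mul a b _ _ iha ihb => rw [map_mul]; exact Subgroup.mul_mem _ iha ihb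
  | inv a _ iha => rw [map_inv]; exact Subgroup.inv_mem _ iha

theorem sigma_monomial (n : GL D.Idx K) (hn : n ∈ D.monomialSubgroup K) :
    sigmaGL D pv pv' ρ ρ' ε hG K φ n ∈ D.monomialSubgroup K := by
  have hle : D.monomialSubgroup K ≤
      (D.monomialSubgroup K).comap (sigmaGL D pv pv' ρ ρ' ε hG K φ).toMonoidHom := by
    conv_lhs => unfold ChevalleyDatum.monomialSubgroup
    apply sup_le
    · intro x hx
      rw [Subgroup.mem_comap]
      unfold ChevalleyDatum.monomialSubgroup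
      exact Subgroup.mem_sup_left (sigma_diagonal D hD pv pv' ρ ρ' ε hG K φ x hx)
    · rw [Subgroup.closure_le]
      rintro y ⟨r, hr, hym⟩
      have hy' : y = wordGL D hD K (D.nWord r 1) := Units.ext (by rw [hym, coe_wordGL]; rfl)
      rw [SetLike.mem_coe, Subgroup.mem_comap]
      show sigmaGL D pv pv' ρ ρ' ε hG K φ y ∈ _
      rw [hy', sigma_nGL D hD pv pv' ρ ρ' ε hG K φ r hr, map_one, mul_one, nGL_eq_hGL_mul]
      unfold ChevalleyDatum.monomialSubgroup
      apply Subgroup.mul_mem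
      · exact Subgroup.mem_sup_left (hGL_mem_diagonalSubgroup D hD K _ (hG.ρlt r hr) _
          (eps_cast_ne_zero D pv pv' ρ ρ' ε hG K r hr))
      · apply Subgroup.mem_sup_right
        apply Subgroup.subset_closure
        exact ⟨ρ r, hG.ρlt r hr, by rw [coe_wordGL]; rfl⟩
  exact hle hn

theorem sigma_borel (hρ : ∀ r, D.IsPosRoot r → D.IsPosRoot (ρ r)) (b : GL D.Idx K)
    (hb : b ∈ D.borelSubgroup K) : sigmaGL D pv pv' ρ ρ' ε hG K φ b ∈ D.borelSubgroup K := by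
  unfold ChevalleyDatum.borelSubgroup at hb ⊢
  rw [Subgroup.sup_eq_closure] at hb
  induction hb using Subgroup.closure_induction with
  | mem x hx =>
    rcases hx with hx | hx
    · exact Subgroup.mem_sup_left (sigma_posUnipotent D hD pv pv' ρ ρ' ε hG K φ hρ x hx)
    · exact Subgroup.mem_sup_right (sigma_diagonal D hD pv pv' ρ ρ' ε hG K φ x hx)
  | one => rw [map_one]; exact Subgroup.one_mem _
  | mul a b _ _ iha ihb => rw [map_mul]; exact Subgroup.mul_mem _ iha ihb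
  | inv a _ iha => rw [map_inv]; exact Subgroup.inv_mem _ iha

theorem sigma_uMinus (hρ : ∀ r, D.IsPosRoot r → D.IsPosRoot (ρ r)) (n u : GL D.Idx K)
    (hu : u ∈ uMinus D K n) :
    sigmaGL D pv pv' ρ ρ' ε hG K φ u ∈ uMinus D K (sigmaGL D pv pv' ρ ρ' ε hG K φ n) := by
  unfold uMinus at hu
  induction hu using Subgroup.closure_induction with
  | mem x hx =>
    obtain ⟨r, t, hr, hle, hxm⟩ := hx
    have hx' : x = xGL D hD K r t := Units.ext (by rw [hxm, coe_xGL])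
    rw [hx', sigmaGL_xGL D hD pv pv' ρ ρ' ε hG K φ r hr.1]
    unfold uMinus
    apply Subgroup.subset_closure
    refine ⟨ρ r, _, hρ r hr, ?_, coe_xGL D hD K _ _⟩
    rw [map_conj_le_iff D hD K] at hle ⊢
    intro t'
    have he := eps_cast_mul_self D pv pv' ρ ρ' ε hG K r hr.1
    have e1 : xGL D hD K (ρ r) t' =
        sigmaGL D pv pv' ρ ρ' ε hG K φ (xGL D hD K r (φ.symm (((ε r : ℤ) : K) * t'))) := by
      rw [sigmaGL_xGL D hD pv pv' ρ ρ' ε hG K φ r hr.1, RingEquiv.apply_symm_apply, ← mul_assoc, he, one_mul]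
    rw [e1, ← map_mul, ← map_inv, ← map_mul]
    exact sigma_negUnipotent D hD pv pv' ρ ρ' ε hG K φ hρ _ (hle _)
  | one => rw [map_one]; exact Subgroup.one_mem _
  | mul a b _ _ iha ihb => rw [map_mul]; exact Subgroup.mul_mem _ iha ihb
  | inv a _ iha => rw [map_inv]; exact Subgroup.inv_mem _ iha

/-- in a `σ`-fixed canonical form `b n u` with `σ`-fixed `n`, both `b` and `u` are `σ`-fixed -/
theorem fixed_canon (hρ : ∀ r, D.IsPosRoot r → D.IsPosRoot (ρ r)) (b n u : GL D.Idx K)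
    (hb : b ∈ D.borelSubgroup K) (hn : n ∈ D.monomialSubgroup K) (hu : u ∈ uMinus D K n)
    (hnf : n ∈ fixSigma D pv pv' ρ ρ' ε hG K φ) (hg : b * n * u ∈ fixSigma D pv pv' ρ ρ' ε hG K φ) :
    b ∈ fixSigma D pv pv' ρ ρ' ε hG K φ ∧ u ∈ fixSigma D pv pv' ρ ρ' ε hG K φ := by
  rw [mem_fixSigma] at hnf hg
  rw [map_mul, map_mul, hnf] at hg
  have hu' := sigma_uMinus D hD pv pv' ρ ρ' ε hG K φ hρ n u hu
  rw [hnf] at hu'
  have := (canon_unique D hD K _ b n n _ u (sigma_borel D hD pv pv' ρ ρ' ε hG K φ hρ b hb) hb hn hn hu' hu hg).2 rfl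
  exact ⟨this.1, this.2⟩

/-- the `H`- and `U`-parts of a `σ`-fixed element of `B` are `σ`-fixed -/
theorem fixed_borel (hρ : ∀ r, D.IsPosRoot r → D.IsPosRoot (ρ r)) (h u : GL D.Idx K)
    (hh : h ∈ D.diagonalSubgroup K) (hu : u ∈ D.posUnipotent K)
    (hg : h * u ∈ fixSigma D pv pv' ρ ρ' ε hG K φ) :
    h ∈ fixSigma D pv pv' ρ ρ' ε hG K φ ∧ u ∈ fixSigma D pv pv' ρ ρ' ε hG K φ := by
  rw [mem_fixSigma, map_mul] at hg
  have h1 := sigma_diagonal D hD pv pv' ρ ρ' ε hG K φ h hh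
  have h2 := sigma_posUnipotent D hD pv pv' ρ ρ' ε hG K φ hρ u hu
  obtain ⟨σh, hσh⟩ : ∃ x, x = sigmaGL D pv pv' ρ ρ' ε hG K φ h := ⟨_, rfl⟩
  obtain ⟨σu, hσu⟩ : ∃ x, x = sigmaGL D pv pv' ρ ρ' ε hG K φ u := ⟨_, rfl⟩
  rw [← hσh] at hg h1
  rw [← hσu] at hg h2
  have e : h⁻¹ * σh = u * σu⁻¹ := by
    have : σh = h * u * σu⁻¹ := by rw [← hg]; group
    rw [this]; group
  have hm : u * σu⁻¹ ∈ D.posUnipotent K ⊓ D.diagonalSubgroup K := by
    rw [Subgroup.mem_inf]
    refine ⟨Subgroup.mul_mem _ hu (Subgroup.inv_mem _ h2), ?_⟩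
    rw [← e]
    exact Subgroup.mul_mem _ (Subgroup.inv_mem _ hh) h1
  rw [posUnipotent_inf_diagonalSubgroup D hD K, Subgroup.mem_bot] at hm
  constructor
  · rw [mem_fixSigma, ← hσh]
    have : h⁻¹ * σh = 1 := by rw [e, hm]
    exact (inv_mul_eq_one.mp this).symm
  · rw [mem_fixSigma, ← hσu]
    exact (mul_inv_eq_one.mp hm).symm

end

end Cfsg.Agent.Lib.Helper7
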