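import Cfsg.Agent.Lib.Helper7.ChevTwistBN7

/-! Twisted groups: existence of the `(B,N)`-pair of the group generated by `twWords` (helper7). -/

set_option autoImplicit false

namespace Cfsg.Agent.Lib.Helper7

open Cfsg Cfsg.Lie Matrix

theorem eps_one_of_simpShape {D : ChevalleyDatum} {ρ : ℕ → ℕ} {ε : ℕ → ℤ} {L1 : List ℕ} {L2 : List (ℕ × ℕ)}
    {L3 : List (ℕ × ℕ × ℕ)} (hgen : GenFacts D ρ ε L1 L2 L3) {J : List ℕ} (h : SimpShape L1 L2 L3 J) :
    J ≠ [] ∧ ∀ r ∈ J, ε r = 1 := by
  rcases h with ⟨r, rfl, hr⟩ | ⟨r, s, rfl, hrs⟩ | ⟨r, s, v, rfl, hrs⟩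
  · refine ⟨by simp, ?_⟩
    intro x hx
    rw [List.mem_singleton] at hx
    rw [hx]; exact (hgen.one r hr).2.2
  · refine ⟨by simp, ?_⟩
    obtain ⟨-, -, c, d, -⟩ := hgen.two _ hrs
    intro x hx
    simp only [List.mem_cons, List.not_mem_nil, or_false] at hx
    rcases hx with rfl | rfl
    · exact c
    · exact d
  · refine ⟨by simp, ?_⟩
    obtain ⟨-, -, -, d, e, f, -⟩ := hgen.three _ hrs
    intro x hx
    simp only [List.mem_cons, List.not_mem_nil, or_false] at hx
    rcases hx with rfl | rfl | rfl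
    · exact d
    · exact e
    · exact f

section
variable (D : ChevalleyDatum) (hD : D ∈ [chevG2, chevB2, chevD4, chevF4, chevE6, chevE7, chevE8])
variable (pv pv' ρ ρ' : List ℕ) (ε : List ℤ) (w : List ℤ) (cls : List (List ℕ)) (m : ℕ)
variable (L1 : List ℕ) (L2 : List (ℕ × ℕ)) (L3 : List (ℕ × ℕ × ℕ)) (simpIdx simpCls : List (List ℕ))
variable (cert : List (List ℕ × ℕ))
variable (hT : TwistTab D pv pv' ρ ρ' ε w cls m L1 L2 L3 simpIdx simpCls cert)
variable (hT2 : TwistTab2 D L1 L2 L3 simpIdx simpCls)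
variable (K : Type*) [Field K] (φ : K ≃+* K)
include hD hT hT2

omit hD hT K in
theorem twistBNFacts_of_tab2 : TwistBNFacts D simpIdx simpCls :=
  ⟨hT2.cls_eq, fun J hJ => simpClassFacts_of_B D J (List.all_eq_true.mp hT2.facts J hJ)⟩

omit hD hT K in
theorem tw_inv_of_tab2 : ∀ J ∈ simpIdx, ∀ s < D.nroots, reflWord D J (reflWord D J s) = s := by
  have h := hT2.inv
  unfold twInvB at h
  simp only [List.all_eq_true, List.mem_range, beq_iff_eq] at h
  exact h

omit hD hT K in
theorem tw_inj_of_tab2 : ∀ J J' : Fin simpIdx.length,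
    (∀ s < D.nroots, reflWord D (simpIdx.get J) s = reflWord D (simpIdx.get J') s) → J = J' := by
  intro J J' hJJ
  have h := hT2.inj
  unfold twInjB at h
  simp only [List.all_eq_true, List.mem_range, Bool.or_eq_true, beq_iff_eq, List.any_eq_true, bne_iff_ne] at h
  rcases h J.val J.isLt J'.val J'.isLt with h' | ⟨s, hs, hne⟩
  · exact Fin.ext h'
  · exfalso
    apply hne
    have e1 : simpIdx.getD J.val [] = simpIdx.get J := by
      rw [List.getD_eq_getElem _ _ J.isLt]; rfl
    have e2 : simpIdx.getD J'.val [] = simpIdx.get J' := by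
      rw [List.getD_eq_getElem _ _ J'.isLt]; rfl
    rw [e1, e2]
    exact hJJ s hs

omit hD hT in
/-- every generating word is supported on `S_J` or `-S_J` -/
theorem tw_cov_of_tab2 (wd : List (ℕ × K)) (hw : wd ∈ twWords K φ L1 L2 L3) :
    ∃ J : Fin simpIdx.length, (∀ e ∈ wd, e.1 ∈ (simpIdx.get J).map D.simple) ∨
      (∀ e ∈ wd, e.1 ∈ (simpIdx.get J).map fun i => D.neg (D.simple i)) := by
  have h := hT2.cov
  unfold twCovB at h
  simp only [Bool.and_eq_true, List.all_eq_true, List.any_eq_true, List.mem_range, Bool.or_eq_true,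
    List.contains_iff_mem] at h
  obtain ⟨⟨h1, h2⟩, h3⟩ := h
  have e : ∀ k (hk : k < simpIdx.length), simpIdx.getD k [] = simpIdx.get ⟨k, hk⟩ := by
    intro k hk
    rw [List.getD_eq_getElem _ _ hk]; rfl
  rcases hw with (⟨t, -, r, hr, rfl⟩ | ⟨t, rs, hrs, rfl⟩) | ⟨t, rs, hrs, rfl⟩
  · obtain ⟨k, hk, hc⟩ := h1 r hr
    rw [e k hk] at hc
    refine ⟨⟨k, hk⟩, ?_⟩
    rcases hc with hc | hc
    · left; intro x hx; rw [List.mem_singleton] at hx; rw [hx]; exact hc
    · right; intro x hx; rw [List.mem_singleton] at hx; rw [hx]; exact hc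
  · obtain ⟨k, hk, hc⟩ := h2 rs hrs
    rw [e k hk] at hc
    refine ⟨⟨k, hk⟩, ?_⟩
    rcases hc with hc | hc
    · left
      intro x hx
      simp only [List.mem_cons, List.not_mem_nil, or_false] at hx
      rcases hx with rfl | rfl
      · exact hc.1
      · exact hc.2
    · right
      intro x hx
      simp only [List.mem_cons, List.not_mem_nil, or_false] at hx
      rcases hx with rfl | rfl
      · exact hc.1
      · exact hc.2
  · obtain ⟨k, hk, hc⟩ := h3 rs hrs
    rw [e k hk] at hc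
    refine ⟨⟨k, hk⟩, ?_⟩
    rcases hc with hc | hc
    · left
      intro x hx
      simp only [List.mem_cons, List.not_mem_nil, or_false] at hx
      rcases hx with rfl | rfl | rfl
      · exact hc.1.1
      · exact hc.1.2
      · exact hc.2
    · right
      intro x hx
      simp only [List.mem_cons, List.not_mem_nil, or_false] at hx
      rcases hx with rfl | rfl | rfl
      · exact hc.1.1
      · exact hc.1.2
      · exact hc.2

end

end Cfsg.Agent.Lib.Helper7
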