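/-
helper7: S4017 (planner helper26), leaf MIX-ELAB `elemAb_of_transitive`:
a `q`-group whose non-identity elements are permuted transitively by an element normalizing it is elementary abelian.
-/
import Mathlib

set_option autoImplicit false

namespace Cfsg.Agent.Lib.Helper7.MIXELAB

universe u

variable {G : Type u} [Group G] [Finite G]

theorem elemAb_of_transitive {q : ℕ} (hq : q.Prime) (Q0 : Subgroup G) (hQ0 : IsPGroup q Q0) (y : G)
    (hy : y ∈ Subgroup.normalizer (Q0 : Set G))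
    (htr : ∀ u ∈ Q0, u ≠ 1 → ∀ v ∈ Q0, v ≠ 1 → ∃ i : ℕ, y ^ i * u * (y ^ i)⁻¹ = v) :
    (∀ u ∈ Q0, ∀ v ∈ Q0, u * v = v * u) ∧ ∀ u ∈ Q0, u ^ q = 1 := by
  have : Fact q.Prime := ⟨hq⟩
  by_cases hbot : Q0 = ⊥
  · subst hbot
    constructor
    · intro u hu v hv
      rw [Subgroup.mem_bot] at hu hv
      rw [hu, hv]
    · intro u hu
      rw [Subgroup.mem_bot] at hu
      rw [hu, one_pow]
  -- a central element of order `q`
  have hnt : Nontrivial Q0 := by
    rw [Subgroup.nontrivial_iff_ne_bot]  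
    exact hbot
  have hcnt : Nontrivial (Subgroup.center Q0) := hQ0.center_nontrivial
  obtain ⟨z, hz⟩ := exists_ne (1 : Subgroup.center Q0)
  -- order of z is a power of q
  obtain ⟨k, hk⟩ := (IsPGroup.iff_orderOf.mp (IsPGroup.to_subgroup hQ0 (Subgroup.center Q0))) z
  have hk0 : k ≠ 0 := by
    intro h0
    rw [h0, pow_zero, orderOf_eq_one_iff] at hk
    exact hz hk
  obtain ⟨k', rfl⟩ := Nat.exists_eq_succ_of_ne_zero hk0
  set z' : Subgroup.center Q0 := z ^ q ^ k' with hz'def
  have hz'ord : orderOf z' = q := by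
    rw [hz'def, orderOf_pow' z (pow_ne_zero k' hq.ne_zero), hk, Nat.gcd_eq_right (pow_dvd_pow q (Nat.le_succ k')),
      pow_succ, Nat.mul_div_cancel_left _ (pow_pos hq.pos k')]
  -- the element of G
  set w : G := ((z' : Q0) : G) with hwdef
  have hwQ : w ∈ Q0 := (z' : Q0).2
  have hw1 : w ≠ 1 := by
    intro h
    have h1 : z' = 1 := by
      apply Subtype.ext
      apply Subtype.ext
      exact h
    rw [h1, orderOf_one] at hz'ord
    exact hq.one_lt.ne hz'ord
  have hwq : w ^ q = 1 := by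
    have h1 : z' ^ q = 1 := by
      rw [← hz'ord]
      exact pow_orderOf_eq_one z'
    have h2 := congrArg (fun t : Subgroup.center Q0 => ((t : Q0) : G)) h1
    simpa using h2
  have hwc : ∀ x ∈ Q0, x * w = w * x := by
    intro x hx
    have h1 := Subgroup.mem_center_iff.mp z'.2 ⟨x, hx⟩
    have h2 := congrArg (fun t : Q0 => (t : G)) h1
    simpa using h2
  -- powers of y normalize Q0
  have hyi : ∀ i : ℕ, y ^ i ∈ Subgroup.normalizer (Q0 : Set G) := fun i => Subgroup.pow_mem _ hy i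
  have hconj : ∀ i : ℕ, ∀ x : G, x ∈ Q0 → (y ^ i)⁻¹ * x * (y ^ i) ∈ Q0 := by
    intro i x hx
    have h1 := (Subgroup.mem_normalizer_iff'.mp (hyi i) ((y ^ i)⁻¹ * x)).mpr
    have h2 : y ^ i * ((y ^ i)⁻¹ * x) ∈ Q0 := by
      rw [mul_inv_cancel_left]
      exact hx
    exact h1 h2
  -- every non-identity element is central of order q
  have key : ∀ v ∈ Q0, v ≠ 1 → (∀ x ∈ Q0, x * v = v * x) ∧ v ^ q = 1 := by
    intro v hv hv1
    obtain ⟨i, hi⟩ := htr w hwQ hw1 v hv hv1
    constructor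
    · intro x hx
      have h1 := hwc _ (hconj i x hx)
      rw [← hi]
      calc x * (y ^ i * w * (y ^ i)⁻¹) = y ^ i * (((y ^ i)⁻¹ * x * y ^ i) * w) * (y ^ i)⁻¹ := by group
        _ = y ^ i * (w * ((y ^ i)⁻¹ * x * y ^ i)) * (y ^ i)⁻¹ := by rw [h1]
        _ = y ^ i * w * (y ^ i)⁻¹ * x := by group
    · rw [← hi, conj_pow, hwq]
      group
  constructor
  · intro u hu v hv
    by_cases hv1 : v = 1
    · rw [hv1, mul_one, one_mul]
    · exact (key v hv hv1).1 u hu
  · intro u hu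
    by_cases hu1 : u = 1
    · rw [hu1, one_pow]
    · exact (key u hu hu1).2

end Cfsg.Agent.Lib.Helper7.MIXELAB
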