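/-
helper7: S4017 (planner helper26), leaf MIX-ORBIT `orbit_dichotomy`:
a `p`-element normalizing a subgroup of order `≤ p + 1` centralizes it or is transitive on its non-identity elements.
-/
import Mathlib

set_option autoImplicit false

namespace Cfsg.Agent.Lib.Helper7.MIXORBIT

universe u

variable {G : Type u} [Group G] [Finite G]

theorem orbit_dichotomy {p : ℕ} (hp : p.Prime) (Q0 : Subgroup G) (y : G)
    (hy : y ∈ Subgroup.normalizer (Q0 : Set G)) (hyp : ∃ k : ℕ, y ^ p ^ k = 1)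
    (hcard : Nat.card Q0 ≤ p + 1) :
    y ∈ Subgroup.centralizer (Q0 : Set G) ∨
      (Nat.card Q0 = p + 1 ∧
        ∀ u ∈ Q0, u ≠ 1 → ∀ v ∈ Q0, v ≠ 1 → ∃ i : ℕ, y ^ i * u * (y ^ i)⁻¹ = v) := by
  classical
  have : Fact p.Prime := ⟨hp⟩
  by_cases hc : y ∈ Subgroup.centralizer (Q0 : Set G)
  · exact Or.inl hc
  right
  -- an element not commuting with y
  have hex : ∃ u ∈ Q0, u * y ≠ y * u := by
    by_contra hno
    push Not at hno
    apply hc
    rw [Subgroup.mem_centralizer_iff]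
    intro u hu
    exact hno u hu
  obtain ⟨u0, hu0Q, hu0⟩ := hex
  -- the conjugation action of <y>
  have : Finite (ConjAct G) := inferInstanceAs (Finite G)
  set c : ConjAct G := ConjAct.toConjAct y with hcdef
  set H : Subgroup (ConjAct G) := Subgroup.zpowers c with hHdef
  have hcpow : ∀ i : ℕ, ∀ x : G, (c ^ i) • x = y ^ i * x * (y ^ i)⁻¹ := by
    intro i x
    rw [hcdef, ← map_pow, ConjAct.toConjAct_smul]
  have hHp : IsPGroup p H := by
    obtain ⟨k, hk⟩ := hyp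
    have hck : c ^ p ^ k = 1 := by
      rw [hcdef, ← map_pow, hk, map_one]
    intro h
    obtain ⟨z, hz⟩ := Subgroup.mem_zpowers_iff.mp h.2
    refine ⟨k, ?_⟩
    apply Subtype.ext
    rw [Subgroup.coe_pow, ← hz, ← zpow_natCast, ← zpow_mul, mul_comm, zpow_mul, zpow_natCast, hck,
      one_zpow]
    rfl
  -- every element of H is a natural power of c
  have hHnat : ∀ h : H, ∃ i : ℕ, (h : ConjAct G) = c ^ i := by
    intro h
    have := mem_powers_iff_mem_zpowers.mpr h.2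
    obtain ⟨i, hi⟩ := this
    exact ⟨i, hi.symm⟩
  -- normalizer
  have hyi : ∀ i : ℕ, ∀ x : G, x ∈ Q0 → y ^ i * x * (y ^ i)⁻¹ ∈ Q0 := by
    intro i x hx
    exact (Subgroup.mem_normalizer_iff.mp (Subgroup.pow_mem _ hy i) x).mp hx
  -- the orbit of u0
  set O : Set G := MulAction.orbit H u0 with hOdef
  have hOsub : O ⊆ {x : G | x ∈ Q0 ∧ x ≠ 1} := by
    rintro x ⟨h, rfl⟩
    obtain ⟨i, hi⟩ := hHnat h
    have hx : h • u0 = y ^ i * u0 * (y ^ i)⁻¹ := by
      rw [← hcpow i u0, ← hi]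
      rfl
    show h • u0 ∈ {x : G | x ∈ Q0 ∧ x ≠ 1}
    rw [hx]
    refine ⟨hyi i u0 hu0Q, ?_⟩
    intro h1
    have : u0 = 1 := by
      have h2 : u0 = (y ^ i)⁻¹ * (y ^ i * u0 * (y ^ i)⁻¹) * y ^ i := by group
      rw [h2, h1]
      group
    apply hu0
    rw [this, one_mul, mul_one]
  obtain ⟨n, hn⟩ := hHp.card_orbit u0
  have hn0 : n ≠ 0 := by
    intro h0
    rw [h0, pow_zero] at hn
    -- orbit is a singleton, so c • u0 = u0
    have hmem1 : u0 ∈ O := MulAction.mem_orbit_self u0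
    have hmem2 : (⟨c, Subgroup.mem_zpowers c⟩ : H) • u0 ∈ O := MulAction.mem_orbit u0 _
    have hsub : Subsingleton O := by
      have := (Nat.card_eq_one_iff_unique.mp hn).1
      exact this
    have heq : (⟨(⟨c, Subgroup.mem_zpowers c⟩ : H) • u0, hmem2⟩ : O) = ⟨u0, hmem1⟩ :=
      Subsingleton.elim _ _
    have heq' : (⟨c, Subgroup.mem_zpowers c⟩ : H) • u0 = u0 := congrArg Subtype.val heq
    have h3 : c • u0 = u0 := heq'
    have h4 := hcpow 1 u0
    rw [pow_one, pow_one, h3] at h4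
    apply hu0
    calc u0 * y = (y * u0 * y⁻¹) * y := by rw [← h4]
      _ = y * u0 := by group
  have hpO : p ≤ Nat.card O := by
    rw [hn]
    calc p = p ^ 1 := (pow_one p).symm
      _ ≤ p ^ n := Nat.pow_le_pow_right hp.pos (Nat.one_le_iff_ne_zero.mpr hn0)
  -- the set of non-identity elements of Q0
  set S : Set G := {x : G | x ∈ Q0 ∧ x ≠ 1} with hSdef
  have hScard : Nat.card S + 1 = Nat.card Q0 := by
    have h1 : S = (Q0 : Set G) \ {1} := by
      ext x
      simp [hSdef]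
    have h2 : Nat.card Q0 = (Q0 : Set G).ncard := Nat.card_coe_set_eq (Q0 : Set G)
    rw [Nat.card_coe_set_eq, h2, h1, Set.ncard_sdiff_singleton_add_one (Q0.one_mem)
      (Set.toFinite _)]
  have hOS : Nat.card O ≤ Nat.card S := by
    rw [Nat.card_coe_set_eq, Nat.card_coe_set_eq]
    exact Set.ncard_le_ncard hOsub (Set.toFinite _)
  have hcardeq : Nat.card Q0 = p + 1 := by omega
  refine ⟨hcardeq, ?_⟩
  have hOeq : O = S := by
    apply Set.eq_of_subset_of_ncard_le hOsub _ (Set.toFinite _)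
    rw [← Nat.card_coe_set_eq, ← Nat.card_coe_set_eq]
    omega
  intro u hu hu1 v hv hv1
  have huO : u ∈ O := by rw [hOeq]; exact ⟨hu, hu1⟩
  have hvO : v ∈ O := by rw [hOeq]; exact ⟨hv, hv1⟩
  obtain ⟨h1, hh1⟩ := huO
  obtain ⟨h2, hh2⟩ := hvO
  obtain ⟨i, hi⟩ := hHnat (h2 * h1⁻¹)
  refine ⟨i, ?_⟩
  rw [← hcpow i u, ← hi]
  have : (h2 * h1⁻¹) • u = v := by
    rw [← hh1, ← hh2]
    simp only
    rw [smul_smul, inv_mul_cancel_right]
  exact this
end Cfsg.Agent.Lib.Helper7.MIXORBIT
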