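import Mathlib
import Cfsg.Agent.Lib.Helper27.KleinPIDefs
import Cfsg.Agent.Lib.Helper6.SubsectionCount

/-! S4638 (helper27's plan), leaf SECT (helper7): the class function `|C|⁻¹ secInd u Φ` for an integer
combination `Φ` of irreducible characters of `C = C_G(u)` vanishing on the `p`-singular elements: it is `0`
off the `p`-section of `u` and `Φ(s)` at (a conjugate of) `u s`; divisibility by centralizer orders comes
from (LPROJ) in `C`, which is an explicit hypothesis here (`section_data_of`). -/

set_option autoImplicit false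
set_option linter.unusedSectionVars false

namespace Cfsg.Agent.Lib.Helper7.KleinPISECT

open Cfsg Cfsg.Agent.CharLib Cfsg.Agent.Lib.Helper24 Cfsg.Agent.Lib.Helper6
open Cfsg.Agent.Lib.Helper27.KleinPI
open scoped ComplexConjugate

universe u

section
variable {G : Type u} [Group G]

theorem intComb_isClassFunction (D : IrrCharacter G → ℤ) : IsClassFunction G (intComb D) := by
  intro s c
  unfold intComb
  apply finsum_congr
  intro ζ
  rw [IsCharacter.isClassFunction (IsIrrCharacter.isCharacter ζ.2) s c]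

theorem memLocalRing_zero_of_modular {M : Ideal AlgInt} {p : ℕ} (hM : IsPModular p M) :
    MemLocalRing M 0 := by
  have h1 : (1 : AlgInt) ∉ M := (Ideal.ne_top_iff_one M).mp hM.2.1.ne_top
  exact ⟨0, 1, h1, by simp⟩

variable [Finite G] {p : ℕ} [hpp : Fact p.Prime]

/-- an element commuting with `u y` (`u` a `p`-element, `y` a `p`-regular element, commuting) commutes
with `u` -/
theorem commute_pPart (u y z : G) (hu : ∃ k : ℕ, orderOf u = p ^ k) (hy : ¬ p ∣ orderOf y)
    (hcomm : Commute u y) (hz : z * (u * y) = u * y * z) : z * u = u * z := by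
  have h0 : IsPPart p (u * y) u := ⟨y, rfl, hcomm, hu, hy⟩
  have h1 : IsPPart p (z * (u * y) * z⁻¹) (z * u * z⁻¹) := isPPart_conj h0 z
  have e : z * (u * y) * z⁻¹ = u * y := by rw [hz]; group
  rw [e] at h1
  have h2 : z * u * z⁻¹ = u := isPPart_unique h1 h0
  calc z * u = z * u * z⁻¹ * z := by group
    _ = u * z := by rw [h2]

end

section
variable {G : Type u} [Group G] [Fintype G] {M : Ideal AlgInt} {p : ℕ} [hpp : Fact p.Prime]

/-- the centralizer in `C_G(u)` of a `p`-regular element `k` has the order of `C_G(u k)` -/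
theorem card_centralizer_section (u : G) (hu : ∃ k : ℕ, orderOf u = p ^ k)
    (k : Subgroup.centralizer ({u} : Set G)) (hk : ¬ p ∣ orderOf k) :
    Nat.card (Subgroup.centralizer ({k} : Set (Subgroup.centralizer ({u} : Set G)))) =
      Nat.card (Subgroup.centralizer ({u * (k : G)} : Set G)) := by
  have hk' : ¬ p ∣ orderOf (k : G) := by rwa [Subgroup.orderOf_coe]
  have hcomm : Commute u (k : G) := (Subgroup.mem_centralizer_singleton_iff.mp k.2).symm
  have hmap : (Subgroup.centralizer ({k} : Set (Subgroup.centralizer ({u} : Set G)))).map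
      (Subgroup.centralizer ({u} : Set G)).subtype = Subgroup.centralizer ({u * (k : G)} : Set G) := by
    ext z
    rw [Subgroup.mem_map, Subgroup.mem_centralizer_singleton_iff]
    constructor
    · rintro ⟨w, hw, rfl⟩
      rw [Subgroup.mem_centralizer_singleton_iff] at hw
      have hwu : (w : G) * u = u * (w : G) := Subgroup.mem_centralizer_singleton_iff.mp w.2
      have hwk : (w : G) * (k : G) = (k : G) * (w : G) := congrArg Subtype.val hw
      show (w : G) * (u * (k : G)) = u * (k : G) * (w : G)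
      calc (w : G) * (u * (k : G)) = (w : G) * u * (k : G) := by group
        _ = u * ((w : G) * (k : G)) := by rw [hwu]; group
        _ = u * (k : G) * (w : G) := by rw [hwk]; group
    · intro hz
      have hzu : z * u = u * z := commute_pPart u (k : G) z hu hk' hcomm hz
      have hzC : z ∈ Subgroup.centralizer ({u} : Set G) := Subgroup.mem_centralizer_singleton_iff.mpr hzu
      refine ⟨⟨z, hzC⟩, ?_, rfl⟩
      rw [Subgroup.mem_centralizer_singleton_iff]
      apply Subtype.ext
      show z * (k : G) = (k : G) * z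
      have h1 : u * (z * (k : G)) = u * ((k : G) * z) := by
        calc u * (z * (k : G)) = z * u * (k : G) := by rw [hzu]; group
          _ = z * (u * (k : G)) := by group
          _ = u * (k : G) * z := hz
          _ = u * ((k : G) * z) := by group
      exact mul_left_cancel h1
  rw [← hmap, Subgroup.card_map_of_injective (Subgroup.subtype_injective _)]

theorem card_centralizer_conj (g c : G) :
    Nat.card (Subgroup.centralizer ({c * g * c⁻¹} : Set G)) = Nat.card (Subgroup.centralizer ({g} : Set G)) := by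
  symm
  apply Nat.card_congr
  refine Equiv.subtypeEquiv (MulAut.conj c).toEquiv ?_
  intro z
  show z ∈ Subgroup.centralizer ({g} : Set G) ↔ c * z * c⁻¹ ∈ Subgroup.centralizer ({c * g * c⁻¹} : Set G)
  rw [Subgroup.mem_centralizer_singleton_iff, Subgroup.mem_centralizer_singleton_iff]
  constructor
  · intro h
    calc c * z * c⁻¹ * (c * g * c⁻¹) = c * (z * g) * c⁻¹ := by group
      _ = c * (g * z) * c⁻¹ := by rw [h]
      _ = c * g * c⁻¹ * (c * z * c⁻¹) := by group
  · intro h
    have h2 : c * (z * g) * c⁻¹ = c * (g * z) * c⁻¹ := by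
      calc c * (z * g) * c⁻¹ = c * z * c⁻¹ * (c * g * c⁻¹) := by group
        _ = c * g * c⁻¹ * (c * z * c⁻¹) := h
        _ = c * (g * z) * c⁻¹ := by group
    exact mul_left_cancel (mul_right_cancel h2)

/-- the values of `|C|⁻¹ secInd u Φ`: zero, or a value of `Φ` at a `p`-regular element `k` of `C_G(u)` with
`g` conjugate to `u k` -/
theorem secInd_value (u : G) (hu : ∃ k : ℕ, orderOf u = p ^ k)
    (w : Subgroup.centralizer ({u} : Set G) → ℂ)
    (hw : IsClassFunction (Subgroup.centralizer ({u} : Set G)) w) (g : G) :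
    (Nat.card (Subgroup.centralizer ({u} : Set G)) : ℂ)⁻¹ * secInd p u w g = 0 ∨
    ∃ k : Subgroup.centralizer ({u} : Set G), ¬ p ∣ orderOf k ∧ (∃ c : G, c * g * c⁻¹ = u * (k : G)) ∧
      (Nat.card (Subgroup.centralizer ({u} : Set G)) : ℂ)⁻¹ * secInd p u w g = w k := by
  obtain ⟨_, _, x', -, hx'g, -⟩ := exists_ppart_data p g
  obtain ⟨y', hxy, hcomm, hx', hy'⟩ := hx'g
  by_cases hconj : IsConj x' u
  · right
    obtain ⟨c, hc⟩ := isConj_iff.mp hconj
    have hmem : c * y' * c⁻¹ ∈ Subgroup.centralizer ({u} : Set G) :=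
      conj_mem_centralizer_of_conj_eq hcomm hc
    have hreg : ¬ p ∣ orderOf (⟨c * y' * c⁻¹, hmem⟩ : Subgroup.centralizer ({u} : Set G)) := by
      rw [← Subgroup.orderOf_coe]
      show ¬ p ∣ orderOf (c * y' * c⁻¹)
      rw [orderOf_conj_eq']
      exact hy'
    have hcg : c * g * c⁻¹ = u * (c * y' * c⁻¹) := by
      rw [← hxy, ← hc]; group
    refine ⟨⟨c * y' * c⁻¹, hmem⟩, hreg, ⟨c, hcg⟩, ?_⟩
    have h1 : secInd p u w g = secInd p u w (c * g * c⁻¹) := (secInd_isClassFunction p u w g c).symm
    have hC0 : (Nat.card (Subgroup.centralizer ({u} : Set G)) : ℂ) ≠ 0 :=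
      Nat.cast_ne_zero.mpr Nat.card_pos.ne'
    rw [h1, hcg]
    have h2 := secInd_apply_section_self u hu w hw ⟨c * y' * c⁻¹, hmem⟩ hreg
    rw [h2, ← mul_assoc, inv_mul_cancel₀ hC0, one_mul]
  · left
    rw [← hxy, secInd_apply_section_ne u hu w x' hx' hconj y' hcomm hy', mul_zero]

/-- (SECT), with (LPROJ) for the group `C_G(u)` as a hypothesis -/
theorem section_data_of (hM : IsPModular p M) (u : G) (hu : ∃ k : ℕ, orderOf u = p ^ k)
    (hLP : ∀ a : IrrCharacter (Subgroup.centralizer ({u} : Set G)) → ℂ, (∀ ζ, MemLocalRing M (a ζ)) →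
      (∀ x : Subgroup.centralizer ({u} : Set G), ¬ IsPRegular p x →
        ∑ᶠ ζ : IrrCharacter (Subgroup.centralizer ({u} : Set G)),
          a ζ * (ζ : Subgroup.centralizer ({u} : Set G) → ℂ) x = 0) →
      ∀ x : Subgroup.centralizer ({u} : Set G),
        MemLocalRing M ((∑ᶠ ζ : IrrCharacter (Subgroup.centralizer ({u} : Set G)),
          a ζ * (ζ : Subgroup.centralizer ({u} : Set G) → ℂ) x) /
          (Nat.card (Subgroup.centralizer ({x} : Set (Subgroup.centralizer ({u} : Set G)))) : ℂ)))
    (D : IrrCharacter (Subgroup.centralizer ({u} : Set G)) → ℤ)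
    (hvan : ∀ s : Subgroup.centralizer ({u} : Set G), ¬ IsPRegular p s → intComb D s = 0) (g : G) :
    (IsPRegular p g → u ≠ 1 →
      (Nat.card (Subgroup.centralizer ({u} : Set G)) : ℂ)⁻¹ * secInd p u (intComb D) g = 0) ∧
    MemLocalRing M ((Nat.card (Subgroup.centralizer ({u} : Set G)) : ℂ)⁻¹ * secInd p u (intComb D) g /
      (Nat.card (Subgroup.centralizer ({g} : Set G)) : ℂ)) ∧
    ∀ m : ℕ, (∀ s : Subgroup.centralizer ({u} : Set G), MemLocalRing M (intComb D s / (m : ℂ))) →
      MemLocalRing M ((Nat.card (Subgroup.centralizer ({u} : Set G)) : ℂ)⁻¹ *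
        secInd p u (intComb D) g / (m : ℂ)) := by
  have h0 := memLocalRing_zero_of_modular hM
  have hM1 : (1 : AlgInt) ∉ M := (Ideal.ne_top_iff_one M).mp hM.2.1.ne_top
  rcases secInd_value u hu (intComb D) (intComb_isClassFunction D) g with hz | ⟨k, hk, ⟨c, hc⟩, hval⟩
  · refine ⟨fun _ _ => hz, ?_, fun m _ => ?_⟩
    · rw [hz, zero_div]; exact h0
    · rw [hz, zero_div]; exact h0
  · refine ⟨?_, ?_, fun m hm => ?_⟩
    · intro hreg hu1
      exfalso
      apply hu1
      -- the `p`-part of `c g c⁻¹ = u k` is `u`, and it is `1` as `g` is `p`-regular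
      have hk' : ¬ p ∣ orderOf (k : G) := by rwa [Subgroup.orderOf_coe]
      have hcomm : Commute u (k : G) := (Subgroup.mem_centralizer_singleton_iff.mp k.2).symm
      have h1 : IsPPart p (u * (k : G)) u := ⟨(k : G), rfl, hcomm, hu, hk'⟩
      have hreg' : ¬ p ∣ orderOf (u * (k : G)) := by
        rw [← hc, orderOf_conj_eq']
        exact hreg
      have h2 : IsPPart p (u * (k : G)) 1 :=
        ⟨u * (k : G), one_mul _, Commute.one_left _, ⟨0, by rw [orderOf_one, pow_zero]⟩, hreg'⟩
      exact isPPart_unique h1 h2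
    · rw [hval]
      have h1 := hLP (fun ζ => (D ζ : ℂ)) (fun ζ => ⟨(D ζ : AlgInt), 1, hM1, by simp⟩) hvan k
      have h2 : Nat.card (Subgroup.centralizer ({g} : Set G)) =
          Nat.card (Subgroup.centralizer ({k} : Set (Subgroup.centralizer ({u} : Set G)))) := by
        rw [card_centralizer_section u hu k hk, ← hc, card_centralizer_conj]
      rw [h2]
      exact h1
    · rw [hval]
      exact hm k

end

end Cfsg.Agent.Lib.Helper7.KleinPISECT
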