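import Mathlib

/-!
helper7: Block's lemma (leaf of S2140 for helper27): a group acting 2-transitively on `X` and
transitively on `Y` with `|Y| < |X|` is transitive on `X × Y`.
-/

set_option autoImplicit false
set_option linter.style.haveILetI false

namespace Cfsg.Agent.Lib.Helper7.MinDegLeaf

theorem block {K X Y : Type*} [Group K] [MulAction K X] [MulAction K Y] [Finite X] [Finite Y]
    (h2 : ∀ a b c d : X, a ≠ b → c ≠ d → ∃ k : K, k • a = c ∧ k • b = d)
    (hY : ∀ y y' : Y, ∃ k : K, k • y = y')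
    (hlt : Nat.card Y < Nat.card X) (x x' : X) (y y' : Y) : ∃ k : K, k • x = x' ∧ k • y = y' := by
  classical
  by_contra hne
  haveI : Fintype X := Fintype.ofFinite X
  haveI : Fintype Y := Fintype.ofFinite Y
  -- at least two points
  have hY1 : 0 < Nat.card Y := Nat.card_pos_iff.mpr ⟨⟨y⟩, inferInstance⟩
  have hX2 : 1 < Nat.card X := by omega
  have hex : ∀ u : X, ∃ v : X, v ≠ u := by
    intro u
    by_contra hc0
    have hc : ∀ v : X, v = u := fun v => by_contra (fun h => hc0 ⟨v, h⟩)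
    have : Nat.card X ≤ 1 := by
      rw [Nat.card_eq_fintype_card, Fintype.card_le_one_iff]
      intro p q
      rw [hc p, hc q]
    omega
  -- transitivity on X
  have htr : ∀ u v : X, ∃ k : K, k • u = v := by
    intro u v
    obtain ⟨u', hu'⟩ := hex u
    obtain ⟨v', hv'⟩ := hex v
    obtain ⟨k, hk, -⟩ := h2 u u' v v' hu'.symm hv'.symm
    exact ⟨k, hk⟩
  -- the indicator of the orbit of (x, y)
  let A : X → Y → ℚ := fun x₁ y₁ => if ∃ k : K, k • x = x₁ ∧ k • y = y₁ then 1 else 0
  have hA01 : ∀ x₁ y₁, A x₁ y₁ = 0 ∨ A x₁ y₁ = 1 := by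
    intro x₁ y₁
    simp only [A]
    split_ifs
    · right; rfl
    · left; rfl
  have hAnn : ∀ x₁ y₁, 0 ≤ A x₁ y₁ := by
    intro x₁ y₁
    rcases hA01 x₁ y₁ with h | h <;> simp [h]
  have hAle : ∀ x₁ y₁, A x₁ y₁ ≤ 1 := by
    intro x₁ y₁
    rcases hA01 x₁ y₁ with h | h <;> simp [h]
  have hAinv : ∀ (g : K) x₁ y₁, A (g • x₁) (g • y₁) = A x₁ y₁ := by
    intro g x₁ y₁
    simp only [A]
    have hiff : (∃ k : K, k • x = g • x₁ ∧ k • y = g • y₁) ↔ (∃ k : K, k • x = x₁ ∧ k • y = y₁) := by
      constructor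
      · rintro ⟨k, h1, h2'⟩
        refine ⟨g⁻¹ * k, ?_, ?_⟩
        · rw [mul_smul, h1, inv_smul_smul]
        · rw [mul_smul, h2', inv_smul_smul]
      · rintro ⟨k, h1, h2'⟩
        refine ⟨g * k, ?_, ?_⟩
        · rw [mul_smul, h1]
        · rw [mul_smul, h2']
    rw [if_congr hiff rfl rfl]
  have hAxy : A x y = 1 := by
    simp only [A]
    rw [if_pos ⟨1, one_smul _ _, one_smul _ _⟩]
  have hAx'y' : A x' y' = 0 := by
    simp only [A]
    rw [if_neg hne]
  -- pair sums
  let c : X → X → ℚ := fun x₁ x₂ => ∑ y₁, A x₁ y₁ * A x₂ y₁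
  have hcinv : ∀ (g : K) x₁ x₂, c (g • x₁) (g • x₂) = c x₁ x₂ := by
    intro g x₁ x₂
    simp only [c]
    rw [← Equiv.sum_comp (MulAction.toPerm g : Equiv.Perm Y)]
    apply Finset.sum_congr rfl
    intro y₁ _
    rw [MulAction.toPerm_apply, hAinv, hAinv]
  have hA2 : ∀ x₁ y₁, A x₁ y₁ * A x₁ y₁ = A x₁ y₁ := by
    intro x₁ y₁
    rcases hA01 x₁ y₁ with h | h <;> simp [h]
  -- row sums are constant
  set a : ℚ := c x x with ha
  have hrow : ∀ x₁, c x₁ x₁ = a := by
    intro x₁
    obtain ⟨k, hk⟩ := htr x x₁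
    rw [← hk, hcinv]
  obtain ⟨x₀, hx₀⟩ := hex x
  set b : ℚ := c x x₀ with hb
  have hpair : ∀ x₁ x₂, x₁ ≠ x₂ → c x₁ x₂ = b := by
    intro x₁ x₂ h12
    obtain ⟨k, hk1, hk2⟩ := h2 x x₀ x₁ x₂ hx₀.symm h12
    rw [← hk1, ← hk2, hcinv]
  have hcrow : ∀ x₁, c x₁ x₁ = ∑ y₁, A x₁ y₁ := by
    intro x₁
    simp only [c]
    exact Finset.sum_congr rfl (fun y₁ _ => hA2 x₁ y₁)
  have hb0 : 0 ≤ b := Finset.sum_nonneg (fun y₁ _ => mul_nonneg (hAnn _ _) (hAnn _ _))
  have hba : b ≤ a := by
    rw [← hrow x, hcrow x]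
    apply Finset.sum_le_sum
    intro y₁ _
    calc A x y₁ * A x₀ y₁ ≤ A x y₁ * 1 := mul_le_mul_of_nonneg_left (hAle _ _) (hAnn _ _)
      _ = A x y₁ := mul_one _
  rcases eq_or_lt_of_le hba with hbeq | hblt
  · -- b = a: all rows equal
    have himp : ∀ x₁ x₂ y₁, A x₁ y₁ = 1 → A x₂ y₁ = 1 := by
      intro x₁ x₂ y₁ h1
      by_cases h12 : x₁ = x₂
      · rw [← h12]; exact h1
      · have hs : ∑ y₂, A x₁ y₂ * (1 - A x₂ y₂) = 0 := by
          have e1 : ∑ y₂, A x₁ y₂ * (1 - A x₂ y₂) = (∑ y₂, A x₁ y₂) - c x₁ x₂ := by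
            simp only [c]
            rw [← Finset.sum_sub_distrib]
            apply Finset.sum_congr rfl
            intro y₂ _
            ring
          rw [e1, ← hcrow x₁, hrow x₁, hpair x₁ x₂ h12, hbeq, sub_self]
        have hnn : ∀ y₂ ∈ (Finset.univ : Finset Y), 0 ≤ A x₁ y₂ * (1 - A x₂ y₂) := by
          intro y₂ _
          exact mul_nonneg (hAnn _ _) (by linarith [hAle x₂ y₂])
        have h0 := (Finset.sum_eq_zero_iff_of_nonneg hnn).mp hs y₁ (Finset.mem_univ _)
        rw [h1, one_mul] at h0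
        linarith
    obtain ⟨g, hg⟩ := hY y y'
    have h1 : A (g • x) (g • y) = 1 := by rw [hAinv]; exact hAxy
    rw [hg] at h1
    have h2' := himp (g • x) x' y' h1
    rw [hAx'y'] at h2'
    norm_num at h2'
  · -- b < a: the incidence map is injective
    let φ : (X → ℚ) →ₗ[ℚ] (Y → ℚ) :=
      { toFun := fun v y₁ => ∑ x₁, v x₁ * A x₁ y₁
        map_add' := by
          intro v w
          funext y₁
          simp only [Pi.add_apply]
          rw [← Finset.sum_add_distrib]
          apply Finset.sum_congr rfl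
          intro x₁ _
          ring
        map_smul' := by
          intro r v
          funext y₁
          simp only [Pi.smul_apply, smul_eq_mul, RingHom.id_apply]
          rw [Finset.mul_sum]
          apply Finset.sum_congr rfl
          intro x₁ _
          ring }
    have hφinj : Function.Injective φ := by
      rw [injective_iff_map_eq_zero]
      intro v hv
      have hv' : ∀ y₁, ∑ x₁, v x₁ * A x₁ y₁ = 0 := fun y₁ => congrFun hv y₁
      have hkey : ∀ x₂, (a - b) * v x₂ + b * ∑ x₁, v x₁ = 0 := by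
        intro x₂
        have e1 : ∑ y₁, (∑ x₁, v x₁ * A x₁ y₁) * A x₂ y₁ = 0 := by
          apply Finset.sum_eq_zero
          intro y₁ _
          rw [hv' y₁, zero_mul]
        have e2 : ∑ y₁, (∑ x₁, v x₁ * A x₁ y₁) * A x₂ y₁ = ∑ x₁, v x₁ * c x₁ x₂ := by
          simp only [c]
          simp_rw [Finset.sum_mul, Finset.mul_sum]
          rw [Finset.sum_comm]
          apply Finset.sum_congr rfl
          intro x₁ _
          apply Finset.sum_congr rfl
          intro y₁ _
          ring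
        have e3 : ∑ x₁, v x₁ * c x₁ x₂ = (a - b) * v x₂ + b * ∑ x₁, v x₁ := by
          have e4 : ∀ x₁ ∈ (Finset.univ : Finset X),
              v x₁ * c x₁ x₂ = b * v x₁ + (if x₁ = x₂ then (a - b) * v x₂ else 0) := by
            intro x₁ _
            split_ifs with h
            · rw [h, hrow x₂]; ring
            · rw [hpair x₁ x₂ h]; ring
          rw [Finset.sum_congr rfl e4, Finset.sum_add_distrib, ← Finset.mul_sum,
            Finset.sum_ite_eq' Finset.univ x₂, if_pos (Finset.mem_univ _)]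
          ring
        rw [← e3, ← e2, e1]
      have hS : ∑ x₁, v x₁ = 0 := by
        have hsum : ∑ x₂, ((a - b) * v x₂ + b * ∑ x₁, v x₁) = 0 :=
          Finset.sum_eq_zero (fun x₂ _ => hkey x₂)
        rw [Finset.sum_add_distrib, ← Finset.mul_sum, Finset.sum_const, Finset.card_univ,
          nsmul_eq_mul] at hsum
        have hcoef : 0 < (a - b) + (Fintype.card X : ℚ) * b := by
          have : (0 : ℚ) ≤ (Fintype.card X : ℚ) * b := mul_nonneg (Nat.cast_nonneg _) hb0
          linarith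
        have : ((a - b) + (Fintype.card X : ℚ) * b) * ∑ x₁, v x₁ = 0 := by
          linear_combination hsum
        rcases mul_eq_zero.mp this with h | h
        · linarith
        · exact h
      funext x₂
      have := hkey x₂
      rw [hS, mul_zero, add_zero] at this
      rcases mul_eq_zero.mp this with h | h
      · linarith
      · exact h
    have hrank := LinearMap.finrank_le_finrank_of_injective hφinj
    rw [Module.finrank_fintype_fun_eq_card, Module.finrank_fintype_fun_eq_card] at hrank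
    rw [Nat.card_eq_fintype_card, Nat.card_eq_fintype_card] at hlt
    omega

end Cfsg.Agent.Lib.Helper7.MinDegLeaf
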