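import Mathlib
import Cfsg.Agent.Lib.Helper7.MinDegblock

/-!
helper7: quotient form of Block's lemma (leaf of S2140 for helper27): if `K` acts 2-transitively
on `X`, and acts through `ψ : K →* G` on the space of `Qs`-orbits of `Ω` (as `ψ K` normalizes `Qs`),
and no element of `K` stabilizing the `Qs`-orbit of `ω₁` sends `x₁` to `x₂`, then the number of
`Qs`-orbits is at least `|X|`.
-/

set_option autoImplicit false
set_option linter.style.haveILetI false

namespace Cfsg.Agent.Lib.Helper7.MinDegLeaf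

theorem block_quot {G Ω K X : Type*} [Group G] [MulAction G Ω] [Finite Ω] [Group K] [MulAction K X]
    [Finite X]
    (h2 : ∀ a b c d : X, a ≠ b → c ≠ d → ∃ k : K, k • a = c ∧ k • b = d) (Qs : Subgroup G)
    (ψ : K →* G)
    (hn : ∀ k : K, ∀ q ∈ Qs, ψ k * q * (ψ k)⁻¹ ∈ Qs) (ω₁ : Ω) (x₁ x₂ : X)
    (hx : ∀ k : K, (∃ q ∈ Qs, ψ k • ω₁ = q • ω₁) → k • x₁ ≠ x₂) :
    Nat.card X ≤ Nat.card (MulAction.orbitRel.Quotient Qs Ω) := by
  classical
  by_contra hlt
  rw [not_le] at hlt
  have hrel : ∀ (k : K) (a b : Ω), MulAction.orbitRel Qs Ω a b →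
      MulAction.orbitRel Qs Ω (ψ k • a) (ψ k • b) := by
    intro k a b hab
    rw [MulAction.orbitRel_apply] at hab ⊢
    obtain ⟨q, hq⟩ := hab
    refine ⟨⟨ψ k * q * (ψ k)⁻¹, hn k q q.2⟩, ?_⟩
    change (ψ k * (q : G) * (ψ k)⁻¹) • (ψ k • b) = ψ k • a
    have hq' : (q : G) • b = a := hq
    rw [← hq', mul_smul, mul_smul, inv_smul_smul]
  letI actY : MulAction K (MulAction.orbitRel.Quotient Qs Ω) :=
    { smul := fun k => Quotient.map' (fun ω => ψ k • ω) (hrel k)
      one_smul := by
        intro y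
        induction y using Quotient.inductionOn' with
        | h ω =>
          change Quotient.map' (fun ω => ψ 1 • ω) (hrel 1) (Quotient.mk'' ω) = Quotient.mk'' ω
          rw [Quotient.map'_mk'', map_one, one_smul]
      mul_smul := by
        intro k k' y
        induction y using Quotient.inductionOn' with
        | h ω =>
          change Quotient.map' (fun ω => ψ (k * k') • ω) (hrel (k * k')) (Quotient.mk'' ω) =
            Quotient.map' (fun ω => ψ k • ω) (hrel k)
              (Quotient.map' (fun ω => ψ k' • ω) (hrel k') (Quotient.mk'' ω))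
          rw [Quotient.map'_mk'', Quotient.map'_mk'', Quotient.map'_mk'', map_mul, mul_smul] }
  have hsmul : ∀ (k : K) (ω : Ω),
      k • (Quotient.mk'' ω : MulAction.orbitRel.Quotient Qs Ω) = Quotient.mk'' (ψ k • ω) := by
    intro k ω
    rfl
  set y₀ : MulAction.orbitRel.Quotient Qs Ω := Quotient.mk'' ω₁ with hy₀
  haveI : Finite (MulAction.orbitRel.Quotient Qs Ω) := Quotient.finite _
  haveI : Finite (MulAction.orbit K y₀) := Subtype.finite
  have hcard : Nat.card (MulAction.orbit K y₀) < Nat.card X :=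
    lt_of_le_of_lt (Nat.card_le_card_of_injective Subtype.val Subtype.val_injective) hlt
  have htr : ∀ y y' : MulAction.orbit K y₀, ∃ k : K, k • y = y' :=
    fun y y' => MulAction.exists_smul_eq K y y'
  obtain ⟨k, hk1, hk2⟩ := block h2 htr hcard x₁ x₂
    (⟨y₀, MulAction.mem_orbit_self y₀⟩ : MulAction.orbit K y₀) ⟨y₀, MulAction.mem_orbit_self y₀⟩
  apply hx k _ hk1
  have hk3 : k • y₀ = y₀ := congrArg Subtype.val hk2
  rw [hy₀, hsmul] at hk3
  have hk4 : MulAction.orbitRel Qs Ω (ψ k • ω₁) ω₁ := Quotient.exact' hk3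
  rw [MulAction.orbitRel_apply] at hk4
  obtain ⟨q, hq⟩ := hk4
  exact ⟨(q : G), q.2, hq.symm⟩

end Cfsg.Agent.Lib.Helper7.MinDegLeaf
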