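import Mathlib
import Cfsg.Agent.Lib.Helper27.MinDegB

/-!
helper7: leaf `R3even` of S2140 (helper27): in dimension `3` and characteristic `2` the regular
case `RHyp` is impossible.
-/

set_option autoImplicit false
set_option linter.style.haveILetI false

namespace Cfsg.Agent.Lib.Helper7.MinDegLeaf

open Matrix Cfsg.Agent.Lib.Helper27.MinDeg

variable {ι : Type*} [Fintype ι] [DecidableEq ι] {F : Type*} [Field F] [Finite F] {Ω : Type*}
  [MulAction (Matrix.SpecialLinearGroup ι F) Ω] [Finite Ω]

theorem R3even (h : RHyp ι F Ω) (hn : Fintype.card ι = 3) (h2 : (2 : F) = 0) : False := by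
  classical
  -- three distinct indices
  let eq : ι ≃ Fin 3 := Fintype.equivFinOfCardEq hn
  set i0 : ι := eq.symm 0 with hi0
  set i1 : ι := eq.symm 1 with hi1
  set i2 : ι := eq.symm 2 with hi2
  have h01 : i0 ≠ i1 := fun e => by
    have := eq.symm.injective e
    exact absurd this (by decide)
  have h02 : i0 ≠ i2 := fun e => by
    have := eq.symm.injective e
    exact absurd this (by decide)
  have h12 : i1 ≠ i2 := fun e => by
    have := eq.symm.injective e
    exact absurd this (by decide)
  have hall : ∀ j : ι, j = i0 ∨ j = i1 ∨ j = i2 := by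
    intro j
    have hj : j = eq.symm (eq j) := (eq.symm_apply_apply j).symm
    generalize eq j = k at hj
    fin_cases k
    · left; exact hj
    · right; left; exact hj
    · right; right; exact hj
  -- a point
  have hΩ : Nonempty Ω := by
    have hq : 0 < Nat.card F := Nat.card_pos
    have : 0 < Nat.card Ω := by rw [h.card]; exact pow_pos hq _
    exact (Nat.card_pos_iff.mp this).1
  obtain ⟨ω⟩ := hΩ
  set e0 : ι → F := Pi.single i0 1 with he0
  set e1 : ι → F := Pi.single i1 1 with he1
  set f : ι → F := Pi.single i2 1 with hf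
  have hf0 : f ≠ 0 := by
    intro e
    have := congrFun e i2
    simp [hf] at this
  have he00 : e0 ≠ 0 := by
    intro e
    have := congrFun e i0
    simp [he0] at this
  -- dot products
  have d10 : e1 ⬝ᵥ e0 = 0 := by
    rw [he1, he0, single_dotProduct, one_mul, Pi.single_apply, if_neg h01.symm]
  have df0 : f ⬝ᵥ e0 = 0 := by
    rw [hf, he0, single_dotProduct, one_mul, Pi.single_apply, if_neg h02.symm]
  have neg_eq : ∀ v : ι → F, -v = v := by
    intro v
    funext j
    have : v j + v j = 0 := by rw [← two_mul, h2, zero_mul]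
    simp only [Pi.neg_apply]
    exact neg_eq_of_add_eq_zero_left this
  have add_self : ∀ M : Matrix ι ι F, M + M = 0 := by
    intro M
    rw [← two_smul F M, h2, zero_smul]
  obtain ⟨w, hw, hwe⟩ := h.exists_eq hf0 ω (T e0 e1 • ω)
  have dfw : f ⬝ᵥ w = 0 := hw
  have d1w : e1 ⬝ᵥ w = w i1 := by
    rw [he1, single_dotProduct, one_mul]
  have hw2 : w i2 = 0 := by
    have := dfw
    rwa [hf, single_dotProduct, one_mul] at this
  set s : Matrix.SpecialLinearGroup ι F := T w f * T e0 e1 with hs
  have hsfix : s • ω = ω := by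
    have h1 : (T w f)⁻¹ = T w f := by rw [← T_neg hw, neg_eq]
    rw [hs, mul_smul, ← hwe]
    calc T w f • T w f • ω = (T w f)⁻¹ • T w f • ω := by rw [h1]
      _ = ω := inv_smul_smul _ _
  have hscoe : (s : Matrix ι ι F) = 1 + (vecMulVec e0 e1 + vecMulVec w f) := by
    rw [hs, Matrix.SpecialLinearGroup.coe_mul, T_coe hw, T_coe d10, add_mul, mul_add, mul_add,
      one_mul, mul_one, one_mul, vecMulVec_mul_vecMulVec, df0, zero_smul, vecMulVec_zero, add_zero]
    abel
  -- s * s is a transvection with axis f
  have hfe : f ⬝ᵥ (w i1 • e0) = 0 := by rw [dotProduct_smul, df0, smul_zero]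
  have hss : s * s = T (w i1 • e0) f := by
    apply sl_ext
    rw [Matrix.SpecialLinearGroup.coe_mul, hscoe, T_coe hfe]
    have hAA : (vecMulVec e0 e1 + vecMulVec w f) * (vecMulVec e0 e1 + vecMulVec w f) =
        vecMulVec (w i1 • e0) f := by
      have p1 : vecMulVec e0 e1 * vecMulVec e0 e1 = 0 := by
        rw [vecMulVec_mul_vecMulVec, d10, zero_smul, vecMulVec_zero]
      have p2 : vecMulVec e0 e1 * vecMulVec w f = vecMulVec (w i1 • e0) f := by
        rw [vecMulVec_mul_vecMulVec, d1w, vecMulVec_smul, smul_vecMulVec]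
      have p3 : vecMulVec w f * vecMulVec e0 e1 = 0 := by
        rw [vecMulVec_mul_vecMulVec, df0, zero_smul, vecMulVec_zero]
      have p4 : vecMulVec w f * vecMulVec w f = 0 := by
        rw [vecMulVec_mul_vecMulVec, dfw, zero_smul, vecMulVec_zero]
      rw [add_mul, mul_add, mul_add, p1, p2, p3, p4, zero_add, add_zero, add_zero]
    generalize vecMulVec e0 e1 + vecMulVec w f = A at hAA
    have h3 : (1 + A) * (1 + A) = 1 + (A + A) + A * A := by
      rw [add_mul, one_mul, mul_add, mul_one]
      abel
    rw [h3, hAA, add_self, add_zero]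
  have hw1 : w i1 = 0 := by
    have h1 : (s * s) • ω = ω := by rw [mul_smul, hsfix, hsfix]
    rw [hss] at h1
    have h3 := h.free _ _ _ hfe hf0 h1
    have h4 := congrFun h3 i0
    simpa [he0] using h4
  have hwform : w = w i0 • e0 := by
    funext j
    rcases hall j with rfl | rfl | rfl
    · simp [he0]
    · rw [hw1]; simp [he0, h01.symm]
    · rw [hw2]; simp [he0, h02.symm]
  -- s is a transvection with centre e0
  generalize w i0 = c at hwform
  have hg0 : (c • f + e1) ⬝ᵥ e0 = 0 := by
    rw [add_dotProduct, smul_dotProduct, df0, d10, smul_zero, add_zero]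
  have hgne : c • f + e1 ≠ 0 := by
    intro e
    have := congrFun e i1
    simp [hf, he1, h12] at this
  have hsT : s = T e0 (c • f + e1) := by
    apply sl_ext
    rw [hscoe, T_coe hg0, vecMulVec_add, vecMulVec_smul, hwform, smul_vecMulVec,
      add_comm (vecMulVec e0 e1)]
  rw [hsT] at hsfix
  exact he00 (h.free _ _ _ hg0 hgne hsfix)

end Cfsg.Agent.Lib.Helper7.MinDegLeaf
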