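/-
helper7: in a split (B,N)-pair, `|B s B| = |X_s| |B|` follows from the rank-one data
(`U = U_s X_s`, `s U_s s⁻¹ ≤ U`, `s x s⁻¹ ∈ U T s U` for `1 ≠ x ∈ X_s`, `B = U T`): the map
`X_s × B → B s B`, `(x, b) ↦ x s b` is a bijection.  Generic form of the field `hcardC` of
helper27's `SplitBN`.
-/
import Mathlib
import Cfsg.Prelude.Def_LieExceptional
import Cfsg.Agent.Lib.Helper3.BNBruhat

set_option autoImplicit false

namespace Cfsg.Agent.Lib.Helper7.BNCardCs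

open Cfsg Cfsg.Agent.Lib.Helper3.BN

variable {G : Type*} [Group G] (P : Cfsg.BNPair G) (U : Subgroup G)

section

variable (hUB : U ≤ P.B) (hBUH : ∀ b ∈ P.B, ∃ u ∈ U, ∃ h ∈ P.B ⊓ P.N, b = u * h)
  {s : G} (hs : s ∈ P.S) (X Us : Subgroup G) (hX : X ≤ U) (hUs : Us ≤ U)
  (hXU : ∀ u ∈ U, ∃ y ∈ Us, ∃ x ∈ X, u = y * x)
  (hsUs : ∀ y ∈ Us, s * y * s⁻¹ ∈ U)
  (hrank1 : ∀ x ∈ X, x ≠ 1 → ∃ u₁ ∈ U, ∃ h ∈ P.B ⊓ P.N, ∃ u₂ ∈ U,
    s * x * s⁻¹ = u₁ * h * s * u₂)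

include hs in
theorem conj_inv_mem_B_of {z : G} (hz : s * z * s⁻¹ ∈ P.B) : s⁻¹ * z * s ∈ P.B := by
  have h2 : s * s ∈ P.B := P.sq_mem s hs
  have : s⁻¹ * z * s = (s * s)⁻¹ * (s * z * s⁻¹) * (s * s) := by group
  rw [this]
  exact P.B.mul_mem (P.B.mul_mem (P.B.inv_mem h2) hz) h2

include hs in
theorem conj_mem_B_of {z : G} (hz : s⁻¹ * z * s ∈ P.B) : s * z * s⁻¹ ∈ P.B := by
  have h2 : s * s ∈ P.B := P.sq_mem s hs
  have : s * z * s⁻¹ = (s * s) * (s⁻¹ * z * s) * (s * s)⁻¹ := by group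
  rw [this]
  exact P.B.mul_mem (P.B.mul_mem h2 hz) (P.B.inv_mem h2)

include hUB hs hrank1 in
/-- a nontrivial element of `X_s` is not conjugated into `B` by `s` -/
theorem eq_one_of_conj_mem_B {z : G} (hzX : z ∈ X) (hz : s⁻¹ * z * s ∈ P.B) : z = 1 := by
  by_contra hne
  obtain ⟨u₁, hu₁, h, hh, u₂, hu₂, e⟩ := hrank1 z hzX hne
  have h1 : s * z * s⁻¹ ∈ P.B := conj_mem_B_of P hs hz
  rw [e] at h1
  have : s = (u₁ * h)⁻¹ * (u₁ * h * s * u₂) * u₂⁻¹ := by group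
  apply S_not_mem_B P hs
  rw [this]
  exact P.B.mul_mem (P.B.mul_mem (P.B.inv_mem (P.B.mul_mem (hUB hu₁) hh.1)) h1)
    (P.B.inv_mem (hUB hu₂))

/-- the parametrisation `X_s × B → B s B` -/
def cellMap (s : G) (X : Subgroup G) (p : X × P.B) : G := (p.1 : G) * s * (p.2 : G)

include hUB hs hX in
theorem cellMap_mem (p : X × P.B) : cellMap P s X p ∈ C P (sb P s hs) := by
  unfold sb
  rw [C_mk]
  exact (mem_dc P).mpr ⟨p.1, hUB (hX p.1.2), p.2, p.2.2, rfl⟩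

include hUB hs hrank1 in
theorem cellMap_injective : Function.Injective (cellMap P s X) := by
  rintro ⟨x, b⟩ ⟨x', b'⟩ h
  unfold cellMap at h
  simp only at h
  have hz : s⁻¹ * ((x' : G)⁻¹ * x) * s ∈ P.B := by
    have : s⁻¹ * ((x' : G)⁻¹ * x) * s = (b' : G) * (b : G)⁻¹ := by
      have h' : (x : G) * s = x' * s * b' * (b : G)⁻¹ := by rw [← h]; group
      calc s⁻¹ * ((x' : G)⁻¹ * x) * s = s⁻¹ * (x' : G)⁻¹ * ((x : G) * s) := by group
        _ = s⁻¹ * (x' : G)⁻¹ * (x' * s * b' * (b : G)⁻¹) := by rw [h']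
        _ = (b' : G) * (b : G)⁻¹ := by group
    rw [this]
    exact P.B.mul_mem b'.2 (P.B.inv_mem b.2)
  have h1 := eq_one_of_conj_mem_B P U hUB hs X hrank1
    (X.mul_mem (X.inv_mem x'.2) x.2) hz
  have hxx : (x : G) = x' := by
    have : (x : G) = x' * ((x' : G)⁻¹ * x) := by group
    rw [this, h1, mul_one]
  have hbb : (b : G) = b' := by
    rw [hxx] at h
    exact mul_left_cancel h
  exact Prod.ext (Subtype.ext hxx) (Subtype.ext hbb)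

include hUB hBUH hs hXU hsUs in
theorem cellMap_surjective {g : G} (hg : g ∈ C P (sb P s hs)) : ∃ p, cellMap P s X p = g := by
  unfold sb at hg
  rw [C_mk] at hg
  obtain ⟨b₁, hb₁, b₂, hb₂, rfl⟩ := (mem_dc P).mp hg
  obtain ⟨u, hu, h, hh, rfl⟩ := hBUH b₁ hb₁
  obtain ⟨y, hy, x, hx, e⟩ := hXU u⁻¹ (U.inv_mem hu)
  have hu' : u = x⁻¹ * y⁻¹ := by
    have : u = (u⁻¹)⁻¹ := by group
    rw [this, e]
    group
  have hsN : s ∈ P.N := P.subset hs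
  have h1 : s⁻¹ * y⁻¹ * s ∈ P.B :=
    conj_inv_mem_B_of P hs (hUB (hsUs y⁻¹ (Us.inv_mem hy)))
  have h2 : s⁻¹ * h * s ∈ P.B := by
    have := P.conj_mem s⁻¹ (P.N.inv_mem hsN) h hh
    rwa [inv_inv] at this
  refine ⟨(⟨x⁻¹, X.inv_mem hx⟩, ⟨(s⁻¹ * y⁻¹ * s) * (s⁻¹ * h * s) * b₂,
    P.B.mul_mem (P.B.mul_mem h1 h2) hb₂⟩), ?_⟩
  unfold cellMap
  simp only
  rw [hu']
  group

include hUB hBUH hs hX hXU hsUs hrank1 in
/-- **`|B s B| = |X_s| |B|`** -/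
theorem card_C_of_split [Finite G] :
    Nat.card (C P (sb P s hs)) = Nat.card X * Nat.card P.B := by
  have e : (X × P.B) ≃ C P (sb P s hs) :=
    Equiv.ofBijective (fun p => ⟨cellMap P s X p, cellMap_mem P U hUB hs X hX p⟩) (by
      constructor
      · intro p p' h
        exact cellMap_injective P U hUB hs X hrank1 (congrArg Subtype.val h)
      · rintro ⟨g, hg⟩
        obtain ⟨p, hp⟩ := cellMap_surjective P U hUB hBUH hs X Us hXU hsUs hg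
        exact ⟨p, Subtype.ext hp⟩)
  rw [← Nat.card_congr e, Nat.card_prod]

end

end Cfsg.Agent.Lib.Helper7.BNCardCs
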