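import Mathlib

/-!
SUnMax stage 2 (planner helper4), leaves E2a / E2b (pairs of totally singular planes in `SU_4(q)`, `q = 2, 3`), part A, by helper7:
pure block-matrix algebra over the index type `Fin 2 ⊕ Fin 2`.

`Om = [[0,1],[1,0]]` (Gram matrix of the hermitian form in a basis adapted to the pair of planes), `Tp = [[0,-J],[J,0]]` (the matrix of
the semilinear structure map whose fixed points are the `F₀`-structure `V₀ = {(x, J σ x)}`), `C0 ω ω'` (an `F₀`-basis of `V₀`).
`block_core`: a block-diagonal or block-antidiagonal `Om`-unitary matrix of determinant 1 satisfies `σ(g) Tp = ν Tp g` with `ν σ(ν) = 1`,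
provided `σ δ = ± δ` forces `δ σ δ = 1` (true for `q = 2, 3`).
-/

set_option autoImplicit false
set_option linter.unusedSectionVars false
set_option linter.unusedVariables false

namespace Cfsg.Agent.Lib.Helper7.SUM2Ts
open Matrix

variable {F : Type*} [Field F]

/-- the standard alternating `2 × 2` matrix -/
def J2 : Matrix (Fin 2) (Fin 2) F := !![0, 1; -1, 0]

lemma J2_mul_J2 : (J2 : Matrix (Fin 2) (Fin 2) F) * J2 = -1 := by
  ext i j
  fin_cases i <;> fin_cases j <;> simp [J2, Matrix.mul_apply, Fin.sum_univ_two]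

lemma J2_transpose : (J2 : Matrix (Fin 2) (Fin 2) F)ᵀ = -J2 := by
  ext i j
  fin_cases i <;> fin_cases j <;> simp [J2]

lemma J2_map (σ : F →+* F) : (J2 : Matrix (Fin 2) (Fin 2) F).map σ = J2 := by
  ext i j
  fin_cases i <;> fin_cases j <;> simp [J2]

/-- `M J Mᵀ = det M • J` for `2 × 2` matrices -/
lemma two_id (M : Matrix (Fin 2) (Fin 2) F) : M * J2 * Mᵀ = M.det • J2 := by
  ext i j
  fin_cases i <;> fin_cases j <;>
    simp [J2, Matrix.mul_apply, Fin.sum_univ_two, Matrix.det_fin_two] <;> ring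

/-- the Gram matrix of a hyperbolic pair of planes -/
def Om : Matrix (Fin 2 ⊕ Fin 2) (Fin 2 ⊕ Fin 2) F := fromBlocks 0 1 1 0

/-- the structure map -/
def Tp : Matrix (Fin 2 ⊕ Fin 2) (Fin 2 ⊕ Fin 2) F := fromBlocks 0 (-J2) J2 0

lemma Om_mul_Om : (Om : Matrix (Fin 2 ⊕ Fin 2) (Fin 2 ⊕ Fin 2) F) * Om = 1 := by
  unfold Om
  rw [fromBlocks_multiply]
  simp [fromBlocks_one]

lemma Tp_mul_Tp : (Tp : Matrix (Fin 2 ⊕ Fin 2) (Fin 2 ⊕ Fin 2) F) * Tp = 1 := by
  unfold Tp
  rw [fromBlocks_multiply]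
  simp [fromBlocks_one, J2_mul_J2]

lemma Om_map (σ : F →+* F) : (Om : Matrix (Fin 2 ⊕ Fin 2) (Fin 2 ⊕ Fin 2) F).map σ = Om := by
  unfold Om
  rw [fromBlocks_map]
  simp

lemma Om_transpose : (Om : Matrix (Fin 2 ⊕ Fin 2) (Fin 2 ⊕ Fin 2) F)ᵀ = Om := by
  unfold Om
  rw [fromBlocks_transpose]
  simp

lemma det_map2 (σ : F →+* F) (M : Matrix (Fin 2) (Fin 2) F) : (M.map σ).det = σ M.det := by
  rw [Matrix.det_fin_two, Matrix.det_fin_two]
  simp

/-- THE BLOCK CORE -/
theorem block_core (σ : F →+* F) (hσσ : ∀ x, σ (σ x) = x)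
    (HN : ∀ δ : F, δ ≠ 0 → (σ δ = δ ∨ σ δ = -δ) → δ * σ δ = 1)
    (A B C D : Matrix (Fin 2) (Fin 2) F)
    (hU : (fromBlocks A B C D)ᵀ * Om * (fromBlocks A B C D).map σ = Om)
    (hdet : (fromBlocks A B C D).det = 1)
    (hpat : (B = 0 ∧ C = 0) ∨ (A = 0 ∧ D = 0)) :
    ∃ ν : F, ν * σ ν = 1 ∧ (fromBlocks A B C D).map σ * Tp = ν • (Tp * fromBlocks A B C D) := by
  rcases hpat with ⟨rfl, rfl⟩ | ⟨rfl, rfl⟩
  · -- block diagonal
    unfold Om at hU
    rw [fromBlocks_transpose, fromBlocks_multiply, fromBlocks_map, fromBlocks_multiply] at hU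
    simp only [Matrix.transpose_zero, Matrix.mul_zero, Matrix.zero_mul, Matrix.mul_one, add_zero, zero_add,
      Matrix.map_zero _ (map_zero σ)] at hU
    rw [fromBlocks_inj] at hU
    obtain ⟨-, h12, h21, -⟩ := hU
    rw [det_fromBlocks_zero₂₁] at hdet
    set δ := A.det with hδ
    set δ' := D.det with hδ'
    have hδ0 : δ ≠ 0 := left_ne_zero_of_mul_eq_one hdet
    have h1 : δ * σ δ' = 1 := by
      have := congrArg Matrix.det h12
      rwa [Matrix.det_mul, Matrix.det_transpose, det_map2, Matrix.det_one] at this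
    have hδ'eq : δ' = δ⁻¹ := eq_inv_of_mul_eq_one_right hdet
    have hfix : σ δ = δ := by
      rw [hδ'eq, map_inv₀] at h1
      have h2 : σ δ ≠ 0 := by
        intro h0
        rw [h0, _root_.inv_zero, mul_zero] at h1
        exact zero_ne_one h1
      field_simp at h1
      exact h1.symm
    have hN : δ * σ δ = 1 := HN δ hδ0 (Or.inl hfix)
    have hσδ' : σ δ' = σ δ := by
      have h3 : δ * σ δ' = δ * σ δ := by rw [h1, hN]
      exact mul_left_cancel₀ hδ0 h3
    refine ⟨σ δ, by rw [hσσ, mul_comm]; exact hN, ?_⟩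
    have h21' : (A.map σ)ᵀ * D = 1 := by
      have := congrArg Matrix.transpose h21
      rwa [Matrix.transpose_mul, Matrix.transpose_transpose, Matrix.transpose_one] at this
    have h12' : (D.map σ)ᵀ * A = 1 := by
      have := congrArg Matrix.transpose h12
      rwa [Matrix.transpose_mul, Matrix.transpose_transpose, Matrix.transpose_one] at this
    have e1 : A.map σ * J2 = σ δ • (J2 * D) := by
      calc A.map σ * J2 = A.map σ * J2 * ((A.map σ)ᵀ * D) := by rw [h21', mul_one]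
        _ = (A.map σ * J2 * (A.map σ)ᵀ) * D := by simp only [mul_assoc]
        _ = σ δ • (J2 * D) := by rw [two_id, det_map2, Matrix.smul_mul]
    have e2 : D.map σ * J2 = σ δ • (J2 * A) := by
      calc D.map σ * J2 = D.map σ * J2 * ((D.map σ)ᵀ * A) := by rw [h12', mul_one]
        _ = (D.map σ * J2 * (D.map σ)ᵀ) * A := by simp only [mul_assoc]
        _ = σ δ • (J2 * A) := by rw [two_id, det_map2, Matrix.smul_mul, hσδ']
    unfold Tp
    rw [fromBlocks_map, fromBlocks_multiply, fromBlocks_multiply, fromBlocks_smul]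
    simp only [Matrix.map_zero _ (map_zero σ), Matrix.mul_zero, Matrix.zero_mul, add_zero, zero_add,
      Matrix.mul_neg, Matrix.neg_mul, smul_zero, smul_neg]
    rw [e1, e2, neg_zero]
  · -- block antidiagonal
    have hfac : fromBlocks (0 : Matrix (Fin 2) (Fin 2) F) B C 0 = fromBlocks B 0 0 C * Om := by
      unfold Om
      rw [fromBlocks_multiply]
      simp
    unfold Om at hU
    rw [fromBlocks_transpose, fromBlocks_multiply, fromBlocks_map, fromBlocks_multiply] at hU
    simp only [Matrix.transpose_zero, Matrix.mul_zero, Matrix.zero_mul, Matrix.mul_one, add_zero, zero_add,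
      Matrix.map_zero _ (map_zero σ)] at hU
    rw [fromBlocks_inj] at hU
    obtain ⟨-, h12, h21, -⟩ := hU
    -- h12 : Cᵀ * B.map σ = 1, h21 : Bᵀ * C.map σ = 1
    rw [hfac, Matrix.det_mul, det_fromBlocks_zero₂₁] at hdet
    set γ := C.det with hγ
    set η := B.det with hη
    set ε := (Om : Matrix (Fin 2 ⊕ Fin 2) (Fin 2 ⊕ Fin 2) F).det with hε
    have hε2 : ε * ε = 1 := by
      rw [hε, ← Matrix.det_mul, Om_mul_Om, Matrix.det_one]
    have hεpm : ε = 1 ∨ ε = -1 := by
      have : (ε - 1) * (ε + 1) = 0 := by ring_nf; rw [pow_two, hε2]; ring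
      rcases mul_eq_zero.mp this with h | h
      · exact Or.inl (sub_eq_zero.mp h)
      · exact Or.inr (eq_neg_of_add_eq_zero_left h)
    have hγ0 : γ ≠ 0 := by
      intro h0
      rw [h0, mul_zero, zero_mul] at hdet
      exact zero_ne_one hdet
    have h1 : γ * σ η = 1 := by
      have := congrArg Matrix.det h12
      rwa [Matrix.det_mul, Matrix.det_transpose, det_map2, Matrix.det_one] at this
    have hση : σ η = γ⁻¹ := eq_inv_of_mul_eq_one_right h1
    have hpm : σ γ = γ ∨ σ γ = -γ := by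
      -- η γ ε = 1, apply σ
      have h2 := congrArg σ hdet
      rw [map_mul, map_mul, hση, map_one] at h2
      have hσε : σ ε = ε := by
        rcases hεpm with h | h
        · rw [h, map_one]
        · rw [h, map_neg, map_one]
      rw [hσε] at h2
      -- γ⁻¹ * σ γ * ε = 1
      have h3 : σ γ * ε = γ := by
        field_simp at h2
        exact h2
      rcases hεpm with h | h
      · left; rw [h, mul_one] at h3; exact h3
      · right; rw [h, mul_neg, mul_one] at h3; exact neg_eq_iff_eq_neg.mp h3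
    have hN : γ * σ γ = 1 := HN γ hγ0 hpm
    have hση' : σ η = σ γ := by
      rw [hση]
      exact (eq_inv_of_mul_eq_one_right hN).symm
    refine ⟨-σ γ, by rw [map_neg, hσσ, neg_mul_neg, mul_comm]; exact hN, ?_⟩
    have h21' : (C.map σ)ᵀ * B = 1 := by
      have := congrArg Matrix.transpose h21
      rwa [Matrix.transpose_mul, Matrix.transpose_transpose, Matrix.transpose_one] at this
    have h12' : (B.map σ)ᵀ * C = 1 := by
      have := congrArg Matrix.transpose h12
      rwa [Matrix.transpose_mul, Matrix.transpose_transpose, Matrix.transpose_one] at this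
    have e1 : C.map σ * J2 = σ γ • (J2 * B) := by
      calc C.map σ * J2 = C.map σ * J2 * ((C.map σ)ᵀ * B) := by rw [h21', mul_one]
        _ = (C.map σ * J2 * (C.map σ)ᵀ) * B := by simp only [mul_assoc]
        _ = σ γ • (J2 * B) := by rw [two_id, det_map2, Matrix.smul_mul]
    have e2 : B.map σ * J2 = σ γ • (J2 * C) := by
      calc B.map σ * J2 = B.map σ * J2 * ((B.map σ)ᵀ * C) := by rw [h12', mul_one]
        _ = (B.map σ * J2 * (B.map σ)ᵀ) * C := by simp only [mul_assoc]
        _ = σ γ • (J2 * C) := by rw [two_id, det_map2, Matrix.smul_mul, hση']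
    unfold Tp
    rw [fromBlocks_map, fromBlocks_multiply, fromBlocks_multiply, fromBlocks_smul]
    simp only [Matrix.map_zero _ (map_zero σ), Matrix.mul_zero, Matrix.zero_mul, add_zero, zero_add,
      Matrix.mul_neg, Matrix.neg_mul, smul_zero, smul_neg]
    rw [e1, e2]
    simp

/-! ## the explicit `F₀`-basis -/

/-- an `F₀`-basis of the `F₀`-structure `{(x, J σ x)}` (columns `x = e₁, e₂, ω e₁, ω e₂`); `ω' = σ ω` -/
def C0 (ω ω' : F) : Matrix (Fin 2 ⊕ Fin 2) (Fin 2 ⊕ Fin 2) F := fromBlocks 1 (ω • 1) J2 (ω' • J2)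

/-- its inverse -/
def C0i (ω ω' : F) : Matrix (Fin 2 ⊕ Fin 2) (Fin 2 ⊕ Fin 2) F :=
  fromBlocks ((-ω' / (ω - ω')) • 1) ((-(ω / (ω - ω'))) • J2) ((1 / (ω - ω')) • 1) ((1 / (ω - ω')) • J2)

lemma C0i_mul_C0 {ω ω' : F} (hd : ω - ω' ≠ 0) : C0i ω ω' * C0 ω ω' = 1 := by
  unfold C0 C0i
  rw [fromBlocks_multiply, ← fromBlocks_one, fromBlocks_inj]
  refine ⟨?_, ?_, ?_, ?_⟩
  · rw [mul_one, Matrix.smul_mul, J2_mul_J2, smul_neg, ← neg_smul, ← add_smul]
    have : -ω' / (ω - ω') + - -(ω / (ω - ω')) = 1 := by field_simp; ring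
    rw [this, one_smul]
  · rw [Matrix.smul_mul, Matrix.mul_smul, one_mul, Matrix.smul_mul, Matrix.mul_smul, J2_mul_J2, smul_smul,
      smul_smul, smul_neg, ← neg_smul, ← add_smul]
    have : -ω' / (ω - ω') * ω + -(-(ω / (ω - ω')) * ω') = 0 := by field_simp; ring
    rw [this, zero_smul]
  · rw [mul_one, Matrix.smul_mul, J2_mul_J2, smul_neg, ← sub_eq_add_neg, sub_self]
  · rw [Matrix.smul_mul, Matrix.mul_smul, one_mul, Matrix.smul_mul, Matrix.mul_smul, J2_mul_J2, smul_smul,
      smul_smul, smul_neg, ← neg_smul, ← add_smul]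
    have : 1 / (ω - ω') * ω + -(1 / (ω - ω') * ω') = 1 := by field_simp; ring
    rw [this, one_smul]

lemma C0_mul_C0i {ω ω' : F} (hd : ω - ω' ≠ 0) : C0 ω ω' * C0i ω ω' = 1 :=
  mul_eq_one_comm.mp (C0i_mul_C0 hd)

lemma C0_map (σ : F →+* F) {ω ω' : F} (hω : σ ω = ω') : (C0 ω ω').map σ = fromBlocks 1 (ω' • 1) J2 (σ ω' • J2) := by
  unfold C0
  rw [fromBlocks_map, J2_map]
  congr 1
  · ext i j
    fin_cases i <;> fin_cases j <;> simp
  · ext i j
    fin_cases i <;> fin_cases j <;> simp [hω]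
  · ext i j
    fin_cases i <;> fin_cases j <;> simp [J2]

lemma Tp_mul_C0 (ω ω' : F) : Tp * C0 ω ω' = fromBlocks 1 (ω' • 1) J2 (ω • J2) := by
  unfold Tp C0
  rw [fromBlocks_multiply]
  congr 1
  · rw [zero_mul, zero_add, Matrix.neg_mul, J2_mul_J2, neg_neg]
  · rw [zero_mul, zero_add, Matrix.neg_mul, Matrix.mul_smul, J2_mul_J2, smul_neg, neg_neg]
  · rw [mul_one, zero_mul, add_zero]
  · rw [zero_mul, add_zero, Matrix.mul_smul, mul_one]

/-- the columns of `C0` are fixed by the semilinear structure map -/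
lemma C0_map_eq (σ : F →+* F) {ω ω' : F} (hω : σ ω = ω') (hω' : σ ω' = ω) :
    (C0 ω ω').map σ = Tp * C0 ω ω' := by
  rw [C0_map σ hω, Tp_mul_C0, hω']

lemma C0i_map_eq (σ : F →+* F) {ω ω' : F} (hd : ω - ω' ≠ 0) (hω : σ ω = ω') (hω' : σ ω' = ω) :
    (C0i ω ω').map σ = C0i ω ω' * Tp := by
  have h1 : (C0i ω ω').map σ * (Tp * C0 ω ω') = 1 := by
    rw [← C0_map_eq σ hω hω', ← Matrix.map_mul, C0i_mul_C0 hd]
    ext i j
    by_cases hij : i = j
    · subst hij; simp
    · simp [hij]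
  calc (C0i ω ω').map σ = (C0i ω ω').map σ * ((Tp * C0 ω ω') * (C0i ω ω' * Tp)) := by
        rw [mul_assoc Tp, ← mul_assoc (C0 ω ω'), C0_mul_C0i hd, one_mul, Tp_mul_Tp, mul_one]
    _ = ((C0i ω ω').map σ * (Tp * C0 ω ω')) * (C0i ω ω' * Tp) := by simp only [mul_assoc]
    _ = C0i ω ω' * Tp := by rw [h1, one_mul]

/-- the Gram matrix of the `F₀`-basis -/
lemma C0_gram (σ : F →+* F) {ω ω' : F} (hω : σ ω = ω') (hω' : σ ω' = ω) :
    (C0 ω ω')ᵀ * Om * (C0 ω ω').map σ = (ω - ω') • fromBlocks 0 J2 J2 ((ω + ω') • J2) := by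
  rw [C0_map σ hω, hω']
  unfold C0 Om
  rw [fromBlocks_transpose, fromBlocks_multiply, fromBlocks_multiply, fromBlocks_smul, fromBlocks_inj]
  simp only [Matrix.transpose_one, Matrix.transpose_smul, J2_transpose, mul_zero, mul_one, zero_add, add_zero,
    one_mul, Matrix.neg_mul, smul_zero]
  refine ⟨?_, ?_, ?_, ?_⟩
  · rw [neg_add_cancel]
  · simp only [Matrix.smul_mul, Matrix.mul_smul, mul_one, one_mul, sub_smul]
    abel
  · simp only [Matrix.smul_mul, Matrix.mul_smul, mul_one, one_mul, smul_neg, sub_smul]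
    abel
  · simp only [Matrix.smul_mul, Matrix.mul_smul, mul_one, one_mul, smul_neg, smul_smul]
    rw [← neg_smul, ← add_smul]
    congr 1
    ring

end Cfsg.Agent.Lib.Helper7.SUM2Ts
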