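import Mathlib
import Cfsg.Prelude.Def_GeometricClasses
import Cfsg.Agent.Lib.Helper5.HermBridge
import Cfsg.Agent.Lib.Helper4.AschA4
import Cfsg.Agent.Lib.Helper7.SUM2TsA

/-!
SUnMax stage 2 (planner helper4), leaves E2a / E2b, part B, by helper7: a pair of complementary totally singular planes of the
unitary space `F^4` has an adapted basis (`exists_adapted`), and the uniform theorem `tspair_le_symp`: if `σ δ = ± δ` forces
`δ σ δ = 1` (`q = 2, 3`), the stabiliser of the pair in `SU_4(q)` lies in a subfield group of symplectic type.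
-/

set_option autoImplicit false
set_option linter.unusedSectionVars false
set_option linter.unusedVariables false
set_option linter.unusedSimpArgs false

namespace Cfsg.Agent.Lib.Helper7.SUM2Ts
open Matrix Cfsg Cfsg.Geo Cfsg.Agent.Lib.Helper5.HermBridge Cfsg.Agent.Lib.Helper5.UForm

variable {F : Type*} [Field F] [Fintype F] {q : ℕ}

/-- the hermitian form as a dot product -/
lemma herm_dot (hF : Fintype.card F = q ^ 2) (u v : Fin 4 → F) :
    Cfsg.hermForm 4 F q u v = u ⬝ᵥ (fun i => frobHom hF (v i)) := rfl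

/-- the hermitian form on the image of a rectangular matrix -/
lemma herm_mulVec_rect (hF : Fintype.card F = q ^ 2) {κ : Type} [Fintype κ] [DecidableEq κ]
    (M N : Matrix (Fin 4) κ F) (x y : κ → F) :
    Cfsg.hermForm 4 F q (M *ᵥ x) (N *ᵥ y) =
      x ⬝ᵥ ((Mᵀ * N.map (frobHom hF)) *ᵥ (fun k => frobHom hF (y k))) := by
  rw [herm_dot hF]
  have h1 : (fun i => frobHom hF ((N *ᵥ y) i)) = N.map (frobHom hF) *ᵥ (fun k => frobHom hF (y k)) := by
    funext i
    exact RingHom.map_mulVec (frobHom hF) N y i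
  rw [h1, ← Matrix.mulVec_mulVec, Matrix.dotProduct_mulVec x, Matrix.vecMul_transpose]

/-- entries of `Mᵀ σ(N)` are the values of the form on the columns -/
lemma herm_cols (hF : Fintype.card F = q ^ 2) {κ : Type} [Fintype κ] [DecidableEq κ]
    (M N : Matrix (Fin 4) κ F) (s t : κ) :
    (Mᵀ * N.map (frobHom hF)) s t = Cfsg.hermForm 4 F q (fun i => M i s) (fun i => N i t) := by
  rw [herm_dot hF, Matrix.mul_apply]
  rfl

/-- ADAPTED BASIS of a pair of complementary totally singular planes -/
theorem exists_adapted (hF : Fintype.card F = q ^ 2) (D : Fin 2 → Submodule F (Fin 4 → F))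
    (hD : IsMDecomposition 2 D) (hts : ∀ i, IsTotallySingularFor (Cfsg.hermForm 4 F q) (D i)) :
    ∃ B : Matrix (Fin 4) (Fin 2 ⊕ Fin 2) F, Bᵀ * B.map (frobHom hF) = Om ∧
      (∀ j, (fun i => B i (Sum.inl j)) ∈ D 0) ∧ (∀ j, (fun i => B i (Sum.inr j)) ∈ D 1) := by
  classical
  have hf := herm_unitary (n := 4) hF
  let b : Module.Basis (Fin 2) F (D 0) := Module.finBasisOfFinrankEq F (D 0) (hD.finrank_eq 0)
  -- the pairing map `D 1 → F²`
  let L : (D 1) →ₗ[F] (Fin 2 → F) :=
    { toFun := fun w i => Cfsg.hermForm 4 F q (w : Fin 4 → F) (b i : Fin 4 → F)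
      map_add' := by
        intro w w'
        funext i
        exact hf.add_left _ _ _
      map_smul' := by
        intro c w
        funext i
        exact hf.smul_left _ _ _ }
  have hLinj : Function.Injective L := by
    rw [← LinearMap.ker_eq_bot, LinearMap.ker_eq_bot']
    intro w hw
    have hw' : ∀ i, Cfsg.hermForm 4 F q (w : Fin 4 → F) (b i : Fin 4 → F) = 0 := fun i => congrFun hw i
    -- `h(v, w) = 0` for all `v`
    have hall : ∀ v : Fin 4 → F, Cfsg.hermForm 4 F q v (w : Fin 4 → F) = 0 := by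
      intro v
      have hv : v ∈ iSup D := by rw [hD.iSup_eq_top]; exact Submodule.mem_top
      induction hv using Submodule.iSup_induction' with
      | mem i x hx =>
        fin_cases i
        · -- `x ∈ D 0`
          have hx' : x = ∑ i, (b.repr ⟨x, hx⟩ i) • (b i : Fin 4 → F) := by
            have := b.sum_repr ⟨x, hx⟩
            have h2 := congrArg (Subtype.val) this
            calc x = ((∑ i, (b.repr ⟨x, hx⟩) i • b i : D 0) : Fin 4 → F) := h2.symm
              _ = ∑ i, (b.repr ⟨x, hx⟩ i) • (b i : Fin 4 → F) := by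
                  rw [Submodule.coe_sum]
                  rfl
          rw [hx', ← uL_apply hf, map_sum]
          apply Finset.sum_eq_zero
          intro i _
          rw [map_smul, uL_apply, smul_eq_mul]
          have h3 : Cfsg.hermForm 4 F q (b i : Fin 4 → F) (w : Fin 4 → F) = 0 := u_symm_zero hf (hw' i)
          rw [h3, mul_zero]
        · exact hts 1 x hx w w.2
      | zero => exact u_zero_left hf _
      | add x y _ _ hx hy => rw [hf.add_left, hx, hy, add_zero]
    have := u_eq_zero_of_forall_left hf hall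
    exact Subtype.ext this
  have hfr : Module.finrank F (D 1) = Module.finrank F (Fin 2 → F) := by
    rw [hD.finrank_eq 1, Module.finrank_fin_fun]
  have hLsurj : Function.Surjective L :=
    (LinearMap.injective_iff_surjective_of_finrank_eq_finrank hfr).mp hLinj
  choose w hw using fun j : Fin 2 => hLsurj (Pi.single j 1)
  have hwb : ∀ j i, Cfsg.hermForm 4 F q (w j : Fin 4 → F) (b i : Fin 4 → F) = if i = j then 1 else 0 := by
    intro j i
    have := congrFun (hw j) i
    rw [Pi.single_apply] at this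
    exact this
  refine ⟨Matrix.of fun i s => Sum.elim (fun j => (b j : Fin 4 → F) i) (fun j => (w j : Fin 4 → F) i) s,
    ?_, fun j => (b j).2, fun j => (w j).2⟩
  ext s t
  rw [herm_cols hF]
  rcases s with j | j <;> rcases t with k | k
  · show Cfsg.hermForm 4 F q (b j : Fin 4 → F) (b k : Fin 4 → F) = _
    rw [hts 0 _ (b j).2 _ (b k).2]
    simp [Om]
  · show Cfsg.hermForm 4 F q (b j : Fin 4 → F) (w k : Fin 4 → F) = _
    rw [hf.herm, hwb k j]
    simp [Om, Matrix.one_apply]
  · show Cfsg.hermForm 4 F q (w j : Fin 4 → F) (b k : Fin 4 → F) = _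
    rw [hwb j k]
    simp [Om, Matrix.one_apply, eq_comm]
  · show Cfsg.hermForm 4 F q (w j : Fin 4 → F) (w k : Fin 4 → F) = _
    rw [hts 1 _ (w j).2 _ (w k).2]
    simp [Om]

lemma mem_specialLinear_iff7 (x : GL (Fin 4) F) :
    x ∈ specialLinear (Fin 4) F ↔ (x : Matrix (Fin 4) (Fin 4) F).det = 1 := by
  unfold specialLinear
  rw [MonoidHom.mem_ker]
  constructor
  · intro h
    have := congrArg Units.val h
    simpa using this
  · intro h
    apply Units.ext
    rw [Matrix.GeneralLinearGroup.val_det_apply]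
    exact h

/-- unitary matrices: `gᵀ σ(g) = 1` -/
lemma gram_of_mem_GU (hF : Fintype.card F = q ^ 2) {g : GL (Fin 4) F} (hg : g ∈ Cfsg.GU 4 F q) :
    (g : Matrix (Fin 4) (Fin 4) F)ᵀ * (g : Matrix (Fin 4) (Fin 4) F).map (frobHom hF) = 1 := by
  have hq : 0 < q := by
    rcases Nat.eq_zero_or_pos q with h | h
    · subst h
      have : 1 < Fintype.card F := Fintype.one_lt_card
      omega
    · exact h
  ext s t
  rw [herm_cols hF]
  have h1 : (fun i => (g : Matrix (Fin 4) (Fin 4) F) i s) = (g : Matrix (Fin 4) (Fin 4) F) *ᵥ Pi.single s 1 := by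
    rw [Matrix.mulVec_single_one]; rfl
  have h2 : (fun i => (g : Matrix (Fin 4) (Fin 4) F) i t) = (g : Matrix (Fin 4) (Fin 4) F) *ᵥ Pi.single t 1 := by
    rw [Matrix.mulVec_single_one]; rfl
  rw [h1, h2]
  have h3 : Cfsg.hermForm 4 F q ((g : Matrix (Fin 4) (Fin 4) F) *ᵥ Pi.single s 1)
      ((g : Matrix (Fin 4) (Fin 4) F) *ᵥ Pi.single t 1) = Cfsg.hermForm 4 F q (Pi.single s 1) (Pi.single t 1) :=
    hg _ _
  rw [h3, herm_dot hF, Matrix.one_apply]
  have h4 : (fun i => frobHom hF ((Pi.single t (1 : F) : Fin 4 → F) i)) = Pi.single t 1 := by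
    funext i
    by_cases hi : i = t
    · subst hi; simp
    · simp [Pi.single_eq_of_ne hi]
  rw [h4, single_dotProduct, one_mul, Pi.single_apply]

/-- the alternating matrix of the `F₀`-structure -/
def A0 (τ : F) : Matrix (Fin 2 ⊕ Fin 2) (Fin 2 ⊕ Fin 2) F := fromBlocks 0 J2 J2 (τ • J2)

lemma A0_alt (τ : F) (x : Fin 2 ⊕ Fin 2 → F) : x ⬝ᵥ (A0 τ *ᵥ x) = 0 := by
  simp only [A0, dotProduct, Matrix.mulVec, Fintype.sum_sum_type, Fin.sum_univ_two, fromBlocks_apply₁₁,
    fromBlocks_apply₁₂, fromBlocks_apply₂₁, fromBlocks_apply₂₂, J2, Matrix.zero_apply, Matrix.smul_apply,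
    Matrix.of_apply, Matrix.cons_val', Matrix.cons_val_zero, Matrix.cons_val_one, Matrix.empty_val',
    Matrix.cons_val_fin_one, smul_eq_mul]
  ring

lemma A0_map (σ : F →+* F) {τ : F} (hτ : σ τ = τ) : (A0 τ).map σ = A0 τ := by
  unfold A0
  rw [fromBlocks_map, J2_map]
  congr 1
  · ext i j; simp
  · ext i j
    fin_cases i <;> fin_cases j <;> simp [J2, hτ]

end Cfsg.Agent.Lib.Helper7.SUM2Ts
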