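import Mathlib
import Cfsg.Agent.Lib.Helper7.SUM2TsB

/-!
SUnMax stage 2 (planner helper4), leaves E2a / E2b, part C, by helper7: the uniform theorem `tspair_le_symp`.
-/

set_option autoImplicit false
set_option linter.unusedSectionVars false
set_option linter.unusedVariables false
set_option linter.unusedSimpArgs false

namespace Cfsg.Agent.Lib.Helper7.SUM2Ts
open Matrix Cfsg Cfsg.Geo Cfsg.Agent.Lib.Helper5.HermBridge Cfsg.Agent.Lib.Helper5.UForm

variable {F : Type*} [Field F] [Fintype F] {q : ℕ}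

/-- Hilbert 90 for `σ` of order 2 -/
lemma hilbert90' (σ : F →+* F) (hσσ : ∀ x, σ (σ x) = x) {ω : F} (hω : σ ω ≠ ω) {ν : F} (hν : ν * σ ν = 1) :
    ∃ μ : F, μ ≠ 0 ∧ σ μ = ν * μ := by
  by_cases h1 : 1 + σ ν = 0
  · have hσν : σ ν = -1 := by rw [eq_neg_iff_add_eq_zero, add_comm]; exact h1
    have hν1 : ν = -1 := by
      have := congrArg σ hσν
      rw [hσσ, map_neg, map_one] at this
      exact this
    refine ⟨ω - σ ω, ?_, ?_⟩
    · intro h0
      exact hω (sub_eq_zero.mp h0).symm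
    · rw [map_sub, hσσ, hν1]; ring
  · refine ⟨1 + σ ν, h1, ?_⟩
    rw [map_add, map_one, hσσ, mul_add, mul_one, hν, add_comm]

/-- THE UNIFORM THEOREM: the stabiliser in `SU_4(q)` of a pair of complementary totally singular planes lies in a subfield group of
symplectic type, provided `σ δ = ± δ` forces `δ σ(δ) = 1` (true exactly for `q = 2, 3`). -/
theorem tspair_le_symp (hF : Fintype.card F = q ^ 2)
    (HN : ∀ δ : F, δ ≠ 0 → (δ ^ q = δ ∨ δ ^ q = -δ) → δ * δ ^ q = 1)
    (F₀ : Subfield F) (hF₀ : ∀ x : F, x ∈ F₀ ↔ x ^ q = x)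
    (D : Fin 2 → Submodule F (Fin 4 → F)) (hD : IsMDecomposition 2 D)
    (hts : ∀ i, IsTotallySingularFor (Cfsg.hermForm 4 F q) (D i)) :
    ∃ (P : GL (Fin 4) F) (ζ : F), ζ ≠ 0 ∧ ζ + ζ ^ q = 0 ∧
      IsFormRationalStructure (Cfsg.hermForm 4 F q) F₀ ζ P ∧
      (∀ u : Fin 4 → F, (∀ i, u i ∈ F₀) → Cfsg.hermForm 4 F q ((P : Matrix (Fin 4) (Fin 4) F) *ᵥ u)
        ((P : Matrix (Fin 4) (Fin 4) F) *ᵥ u) = 0) ∧
      decompositionStabilizer D ⊓ (Cfsg.GU 4 F q ⊓ specialLinear (Fin 4) F) ≤ subfieldSubgroup F₀ P := by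
  classical
  have hf := herm_unitary (n := 4) hF
  set σ : F →+* F := frobHom hF with hσdef
  have hσq : ∀ x : F, σ x = x ^ q := fun x => rfl
  have hσσ : ∀ x : F, σ (σ x) = x := fun x => pow_q_pow_q hF x
  have hF₀' : ∀ x : F, x ∈ F₀ ↔ σ x = x := hF₀
  obtain ⟨ω, hω⟩ : ∃ ω : F, σ ω ≠ ω := by
    obtain ⟨θ, hθ⟩ := exists_moved hf.ne_refl
    exact ⟨θ, hθ⟩
  set ω' := σ ω with hω'def
  have hωω' : σ ω' = ω := hσσ ω
  have hd : ω - ω' ≠ 0 := fun h0 => hω (sub_eq_zero.mp h0).symm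
  set d := ω - ω' with hddef
  have hσd : σ d = -d := by rw [hddef, map_sub, hωω']; ring
  set τ := ω + ω' with hτdef
  have hστ : σ τ = τ := by rw [hτdef, map_add, hωω']; ring
  -- adapted basis
  obtain ⟨B, hBgram, hB0, hB1⟩ := exists_adapted hF D hD hts
  set Bi : Matrix (Fin 2 ⊕ Fin 2) (Fin 4) F :=
    (Om : Matrix (Fin 2 ⊕ Fin 2) (Fin 2 ⊕ Fin 2) F) * ((B.map σ)ᵀ : Matrix (Fin 2 ⊕ Fin 2) (Fin 4) F) with hBidef
  have hBiB : Bi * B = 1 := by
    have h1 := congrArg (fun M : Matrix (Fin 2 ⊕ Fin 2) (Fin 2 ⊕ Fin 2) F => M.map σ) hBgram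
    rw [Matrix.map_mul, Om_map] at h1
    have h2 : (B.map σ).map σ = B := by
      ext i j
      simp [hσσ]
    have h3 : (Bᵀ).map σ = (B.map σ)ᵀ := by
      ext i j
      simp
    rw [h2, h3] at h1
    rw [hBidef, Matrix.mul_assoc, h1, Om_mul_Om]
  have hBBi : B * Bi = 1 := (Matrix.mul_eq_one_comm_of_equiv finSumFinEquiv).mp hBiB
  -- the basis of the `F₀`-structure
  set e : Fin 2 ⊕ Fin 2 ≃ Fin 4 := finSumFinEquiv with hedef
  set Pm : Matrix (Fin 4) (Fin 4) F := (B * C0 ω ω').submatrix (Equiv.refl (Fin 4)) e.symm with hPm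
  set Pim : Matrix (Fin 4) (Fin 4) F := (C0i ω ω' * Bi).submatrix e.symm (Equiv.refl (Fin 4)) with hPim
  have hPPi : Pm * Pim = 1 := by
    rw [hPm, hPim, Matrix.submatrix_mul_equiv]
    have : B * C0 ω ω' * (C0i ω ω' * Bi) = 1 := by
      rw [Matrix.mul_assoc, ← Matrix.mul_assoc (C0 ω ω'), C0_mul_C0i hd, Matrix.one_mul, hBBi]
    rw [this, Matrix.submatrix_one_equiv]
  have hPiP : Pim * Pm = 1 := by
    rw [hPm, hPim, Matrix.submatrix_mul_equiv]
    have : C0i ω ω' * Bi * (B * C0 ω ω') = 1 := by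
      rw [Matrix.mul_assoc, ← Matrix.mul_assoc Bi, hBiB, Matrix.one_mul, C0i_mul_C0 hd]
    rw [this, Matrix.submatrix_one_equiv]
  let P : GL (Fin 4) F := ⟨Pm, Pim, hPPi, hPiP⟩
  have hPval : (P : Matrix (Fin 4) (Fin 4) F) = Pm := rfl
  have hPinv : ((P⁻¹ : GL (Fin 4) F) : Matrix (Fin 4) (Fin 4) F) = Pim := rfl
  -- the Gram matrix of the new basis
  have hgramBC : (B * C0 ω ω')ᵀ * (B * C0 ω ω').map σ = d • A0 τ := by
    rw [Matrix.transpose_mul, Matrix.map_mul, Matrix.mul_assoc, ← Matrix.mul_assoc Bᵀ, hBgram, ← Matrix.mul_assoc,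
      C0_gram σ rfl hωω']
    rfl
  have hform : ∀ u v : Fin 4 → F, Cfsg.hermForm 4 F q (Pm *ᵥ u) (Pm *ᵥ v) =
      d * ((u ∘ e) ⬝ᵥ (A0 τ *ᵥ (fun k => σ ((v ∘ e) k)))) := by
    intro u v
    have h1 : ∀ z : Fin 4 → F, Pm *ᵥ z = (B * C0 ω ω') *ᵥ (z ∘ e) := by
      intro z
      rw [hPm, Matrix.submatrix_mulVec_equiv]
      rfl
    rw [h1 u, h1 v, herm_mulVec_rect hF, hgramBC, Matrix.smul_mulVec, dotProduct_smul, smul_eq_mul]
  refine ⟨P, d⁻¹, inv_ne_zero hd, ?_, ?_, ?_, ?_⟩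
  · -- ζ + ζ^q = 0
    rw [← hσq, map_inv₀, hσd, inv_neg, add_neg_cancel]
  · -- rationality
    intro u v hu hv
    rw [hPval, hform, ← mul_assoc, inv_mul_cancel₀ hd, one_mul, hF₀']
    have hv' : (fun k => σ ((v ∘ e) k)) = v ∘ e := by
      funext k
      exact (hF₀' _).mp (hv _)
    have hu' : (fun k => σ ((u ∘ e) k)) = u ∘ e := by
      funext k
      exact (hF₀' _).mp (hu _)
    rw [hv']
    rw [RingHom.map_dotProduct]
    have h2 : (σ ∘ (A0 τ *ᵥ (v ∘ e))) = A0 τ *ᵥ (v ∘ e) := by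
      funext k
      rw [Function.comp_apply, RingHom.map_mulVec, A0_map σ hστ]
      congr 1
    have h3 : (σ ∘ (u ∘ e)) = u ∘ e := hu'
    rw [h2, h3]
  · -- alternating
    intro u hu
    rw [hPval, hform]
    have hu' : (fun k => σ ((u ∘ e) k)) = u ∘ e := by
      funext k
      exact (hF₀' _).mp (hu _)
    rw [hu', A0_alt, mul_zero]
  · -- the group
    intro g hg
    obtain ⟨hgD, hgU, hgS⟩ := hg
    set gm : Matrix (Fin 4) (Fin 4) F := (g : Matrix (Fin 4) (Fin 4) F) with hgm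
    obtain ⟨g', hg'def⟩ : ∃ g' : Matrix (Fin 2 ⊕ Fin 2) (Fin 2 ⊕ Fin 2) F, g' = Bi * gm * B := ⟨_, rfl⟩
    have hBg' : B * g' = gm * B := by
      rw [hg'def, ← Matrix.mul_assoc, ← Matrix.mul_assoc, hBBi, Matrix.one_mul]
    have hgram := gram_of_mem_GU hF hgU
    -- unitarity of `g'`
    have hU : g'ᵀ * Om * g'.map σ = Om := by
      have h1 : (gm * B)ᵀ * (gm * B).map σ = Om := by
        rw [Matrix.transpose_mul, Matrix.map_mul, Matrix.mul_assoc, ← Matrix.mul_assoc gmᵀ, hgram, Matrix.one_mul,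
          hBgram]
      rw [← hBg', Matrix.transpose_mul, Matrix.map_mul, Matrix.mul_assoc, ← Matrix.mul_assoc Bᵀ, hBgram,
        ← Matrix.mul_assoc] at h1
      exact h1
    -- determinant
    have hdet : g'.det = 1 := by
      rw [hg'def, Matrix.det_conj_of_mul_eq_one hBiB hBBi]
      exact (mem_specialLinear_iff7 g).mp hgS
    -- the matrix of the pairing
    have hW : ∀ s t, (g'ᵀ * (Om : Matrix (Fin 2 ⊕ Fin 2) (Fin 2 ⊕ Fin 2) F)) s t =
        Cfsg.hermForm 4 F q (Matrix.toLin' gm (fun i => B i s)) (fun i => B i t) := by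
      intro s t
      have h1 : g'ᵀ * Om = (gm * B)ᵀ * B.map σ := by
        rw [← hBg', Matrix.transpose_mul, Matrix.mul_assoc, hBgram]
      rw [h1, herm_cols hF]
      congr 1
    -- the block pattern
    obtain ⟨π, hπ⟩ := hgD
    have hmemD : ∀ (i : Fin 2) (v : Fin 4 → F), v ∈ D i → Matrix.toLin' gm v ∈ D (π i) := by
      intro i v hv
      rw [← hπ i]
      exact Submodule.mem_map_of_mem hv
    have hcol : ∀ s : Fin 2 ⊕ Fin 2, (fun i => B i s) ∈ D (Sum.elim (fun _ => 0) (fun _ => 1) s) := by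
      intro s
      rcases s with j | j
      · exact hB0 j
      · exact hB1 j
    obtain ⟨A, Bb, C, Dd, hblocks⟩ : ∃ A Bb C Dd : Matrix (Fin 2) (Fin 2) F, g' = fromBlocks A Bb C Dd :=
      ⟨_, _, _, _, (Matrix.fromBlocks_toBlocks g').symm⟩
    have hWb : g'ᵀ * Om = fromBlocks Cᵀ Aᵀ Ddᵀ Bbᵀ := by
      rw [hblocks, fromBlocks_transpose]
      unfold Om
      rw [fromBlocks_multiply]
      simp
    have hpat : (Bb = 0 ∧ C = 0) ∨ (A = 0 ∧ Dd = 0) := by
      have hπ01 : π 0 = 0 ∨ π 0 = 1 := by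
        have : ∀ x : Fin 2, x = 0 ∨ x = 1 := by decide
        exact this _
      rcases hπ01 with h0 | h0
      · left
        have h1 : π 1 = 1 := by
          have : ∀ x : Fin 2, x = 0 ∨ x = 1 := by decide
          rcases this (π 1) with h | h
          · exact absurd (π.injective (h0.trans h.symm)) (by decide)
          · exact h
        constructor
        · -- Bb = 0
          ext j k
          have := hW (Sum.inr k) (Sum.inr j)
          rw [hWb, fromBlocks_apply₂₂, Matrix.transpose_apply] at this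
          rw [this, Matrix.zero_apply]
          apply hts 1
          · have := hmemD 1 _ (hB1 k)
            rwa [h1] at this
          · exact hB1 j
        · ext j k
          have := hW (Sum.inl k) (Sum.inl j)
          rw [hWb, fromBlocks_apply₁₁, Matrix.transpose_apply] at this
          rw [this, Matrix.zero_apply]
          apply hts 0
          · have := hmemD 0 _ (hB0 k)
            rwa [h0] at this
          · exact hB0 j
      · right
        have h1 : π 1 = 0 := by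
          have : ∀ x : Fin 2, x = 0 ∨ x = 1 := by decide
          rcases this (π 1) with h | h
          · exact h
          · exact absurd (π.injective (h0.trans h.symm)) (by decide)
        constructor
        · -- A = 0
          ext j k
          have := hW (Sum.inl k) (Sum.inr j)
          rw [hWb, fromBlocks_apply₁₂, Matrix.transpose_apply] at this
          rw [this, Matrix.zero_apply]
          apply hts 1
          · have := hmemD 0 _ (hB0 k)
            rwa [h0] at this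
          · exact hB1 j
        · ext j k
          have := hW (Sum.inr k) (Sum.inl j)
          rw [hWb, fromBlocks_apply₂₁, Matrix.transpose_apply] at this
          rw [this, Matrix.zero_apply]
          apply hts 0
          · have := hmemD 1 _ (hB1 k)
            rwa [h1] at this
          · exact hB0 j
    -- the block core
    obtain ⟨ν, hνν, hcore⟩ := block_core σ hσσ (fun δ hδ h => HN δ hδ h) A Bb C Dd (hblocks ▸ hU) (hblocks ▸ hdet) hpat
    rw [← hblocks] at hcore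
    have hν0 : ν ≠ 0 := by
      intro h0
      rw [h0, zero_mul] at hνν
      exact zero_ne_one hνν
    obtain ⟨μ, hμ, hσμ⟩ := hilbert90' σ hσσ hω hνν
    -- the rational matrix
    obtain ⟨Y, hYdef⟩ : ∃ Y : Matrix (Fin 2 ⊕ Fin 2) (Fin 2 ⊕ Fin 2) F, Y = C0i ω ω' * g' * C0 ω ω' := ⟨_, rfl⟩
    have hYσ : Y.map σ = ν • Y := by
      rw [hYdef, Matrix.map_mul, Matrix.map_mul, C0_map_eq σ rfl hωω', C0i_map_eq σ hd rfl hωω']
      have h1 : C0i ω ω' * Tp * g'.map σ * (Tp * C0 ω ω') = C0i ω ω' * (Tp * (g'.map σ * Tp)) * C0 ω ω' := by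
        simp only [Matrix.mul_assoc]
      rw [h1, hcore, Matrix.mul_smul, ← Matrix.mul_assoc Tp, Tp_mul_Tp, Matrix.one_mul, Matrix.mul_smul,
        Matrix.smul_mul]
    have hYent : ∀ s t, ∃ a ∈ F₀, Y s t = μ * a := by
      intro s t
      refine ⟨μ⁻¹ * Y s t, ?_, ?_⟩
      · rw [hF₀', map_mul, map_inv₀, hσμ]
        have h1 : σ (Y s t) = ν * Y s t := by
          have := congrFun (congrFun hYσ s) t
          rwa [Matrix.map_apply, Matrix.smul_apply, smul_eq_mul] at this
        rw [h1]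
        field_simp
      · rw [← mul_assoc, mul_inv_cancel₀ hμ, one_mul]
    have hX : Pim * gm * Pm = Y.submatrix e.symm e.symm := by
      have h1 : gm = gm.submatrix (Equiv.refl (Fin 4)) (Equiv.refl (Fin 4)) := rfl
      rw [hPim, hPm]
      conv_lhs => rw [h1]
      rw [Matrix.submatrix_mul_equiv, Matrix.submatrix_mul_equiv]
      congr 1
      rw [hYdef, hg'def]
      simp only [Matrix.mul_assoc]
    have hmem : (P⁻¹ * g * P) ∈
        (Matrix.GeneralLinearGroup.map (F₀.subtype : F₀ →+* F)).range ⊔ scalars (Fin 4) F := by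
      apply Cfsg.Agent.Lib.Helper4.AschLeaf.mem_range_sup_scalars F₀ _ μ hμ
      intro i j
      have h1 : ((P⁻¹ * g * P : GL (Fin 4) F) : Matrix (Fin 4) (Fin 4) F) = Pim * gm * Pm := rfl
      rw [h1, hX]
      exact hYent (e.symm i) (e.symm j)
    unfold subfieldSubgroup
    rw [Subgroup.mem_map]
    refine ⟨P⁻¹ * g * P, hmem, ?_⟩
    change P * (P⁻¹ * g * P) * P⁻¹ = g
    group

end Cfsg.Agent.Lib.Helper7.SUM2Ts
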