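import Cfsg.Agent.Lib.Helper4.SUMDefs
import Cfsg.Agent.Lib.Helper7.SUM2TsC

/-!
SUnMax stage 2 (planner helper4), leaves E2a `su4_two_tspair_le_symp` and E2b (corrected) `su4_three_tspair_le_symp`, by helper7:
the stabiliser in `SU_4(q)`, `q = 2, 3`, of a pair of complementary totally singular planes lies in the subfield group `Sp_4(q)`.
Both are instances of the uniform theorem `Cfsg.Agent.Lib.Helper7.SUM2Ts.tspair_le_symp`.
-/

set_option autoImplicit false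
set_option linter.unusedSectionVars false
set_option linter.unusedVariables false

namespace Cfsg.Agent.Lib.Helper7.SUMLeaf

open Cfsg.Geo Matrix Module Cfsg.Agent.Lib.Helper4.SUM

variable {F : Type*} [Field F] [Fintype F]

/-- the prime-field instance of the uniform theorem -/
theorem tspair_prime (p : ℕ) [Fact p.Prime] (hF : Fintype.card F = p ^ 2)
    (HN : ∀ δ : F, δ ≠ 0 → (δ ^ p = δ ∨ δ ^ p = -δ) → δ * δ ^ p = 1)
    (D : Fin 2 → Submodule F (Fin 4 → F))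
    (hD : IsMDecomposition 2 D) (hts : ∀ i, IsTotallySingularFor (Cfsg.hermForm 4 F p) (D i)) :
    ∃ (F₀ : Subfield F) (P : GL (Fin 4) F) (ζ : F), Fintype.card F = Nat.card F₀ ^ 2 ∧ ζ ≠ 0 ∧ ζ + ζ ^ p = 0 ∧
      IsFormRationalStructure (Cfsg.hermForm 4 F p) F₀ ζ P ∧
      (∀ u : Fin 4 → F, (∀ i, u i ∈ F₀) → Cfsg.hermForm 4 F p ((P : Matrix (Fin 4) (Fin 4) F) *ᵥ u)
        ((P : Matrix (Fin 4) (Fin 4) F) *ᵥ u) = 0) ∧
      decompositionStabilizer D ⊓ (Cfsg.GU 4 F p ⊓ specialLinear (Fin 4) F) ≤ subfieldSubgroup F₀ P := by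
  have : CharP F p := charP_of_card_eq_prime_pow hF
  have hcard : Nat.card (⊥ : Subfield F) = p := Subfield.card_bot F p
  have hmem : ∀ x : F, x ∈ (⊥ : Subfield F) ↔ x ^ p = x := fun x => Subfield.mem_bot_iff_pow_eq_self F p
  obtain ⟨P, ζ, hζ0, hζ, hrat, halt, hle⟩ :=
    Cfsg.Agent.Lib.Helper7.SUM2Ts.tspair_le_symp hF HN (⊥ : Subfield F) hmem D hD hts
  exact ⟨⊥, P, ζ, by rw [hcard, hF], hζ0, hζ, hrat, halt, hle⟩

/-- E2a (LE).  `q = 2` -/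
theorem su4_two_tspair_le_symp (hF : Fintype.card F = 2 ^ 2) (D : Fin 2 → Submodule F (Fin 4 → F))
    (hD : IsMDecomposition 2 D) (hts : ∀ i, IsTotallySingularFor (Cfsg.hermForm 4 F 2) (D i)) :
    ∃ (F₀ : Subfield F) (P : GL (Fin 4) F) (ζ : F), Fintype.card F = Nat.card F₀ ^ 2 ∧ ζ ≠ 0 ∧ ζ + ζ ^ 2 = 0 ∧
      IsFormRationalStructure (Cfsg.hermForm 4 F 2) F₀ ζ P ∧
      (∀ u : Fin 4 → F, (∀ i, u i ∈ F₀) → Cfsg.hermForm 4 F 2 ((P : Matrix (Fin 4) (Fin 4) F) *ᵥ u)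
        ((P : Matrix (Fin 4) (Fin 4) F) *ᵥ u) = 0) ∧
      decompositionStabilizer D ⊓ (Cfsg.GU 4 F 2 ⊓ specialLinear (Fin 4) F) ≤ subfieldSubgroup F₀ P := by
  have : Fact (Nat.Prime 2) := ⟨Nat.prime_two⟩
  refine tspair_prime 2 hF ?_ D hD hts
  intro δ hδ _
  have h := FiniteField.pow_card_sub_one_eq_one δ hδ
  rw [hF] at h
  have h3 : δ ^ 3 = 1 := h
  calc δ * δ ^ 2 = δ ^ 3 := by ring
    _ = 1 := h3

/-- E2b (LE), corrected statement (symplectic shape).  `q = 3` -/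
theorem su4_three_tspair_le_symp (hF : Fintype.card F = 3 ^ 2) (D : Fin 2 → Submodule F (Fin 4 → F))
    (hD : IsMDecomposition 2 D) (hts : ∀ i, IsTotallySingularFor (Cfsg.hermForm 4 F 3) (D i)) :
    ∃ (F₀ : Subfield F) (P : GL (Fin 4) F) (ζ : F), Fintype.card F = Nat.card F₀ ^ 2 ∧ ζ ≠ 0 ∧ ζ + ζ ^ 3 = 0 ∧
      IsFormRationalStructure (Cfsg.hermForm 4 F 3) F₀ ζ P ∧
      (∀ u : Fin 4 → F, (∀ i, u i ∈ F₀) → Cfsg.hermForm 4 F 3 ((P : Matrix (Fin 4) (Fin 4) F) *ᵥ u)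
        ((P : Matrix (Fin 4) (Fin 4) F) *ᵥ u) = 0) ∧
      decompositionStabilizer D ⊓ (Cfsg.GU 4 F 3 ⊓ specialLinear (Fin 4) F) ≤ subfieldSubgroup F₀ P := by
  have : Fact (Nat.Prime 3) := ⟨Nat.prime_three⟩
  refine tspair_prime 3 hF ?_ D hD hts
  intro δ hδ h
  -- `δ ^ 3 = ± δ` gives `δ ^ 2 = ± 1`, so `δ ^ 4 = 1`
  have h2 : δ ^ 2 = 1 ∨ δ ^ 2 = -1 := by
    rcases h with h | h
    · left
      have : δ * (δ ^ 2 - 1) = 0 := by linear_combination h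
      rcases mul_eq_zero.mp this with h0 | h0
      · exact absurd h0 hδ
      · exact sub_eq_zero.mp h0
    · right
      have : δ * (δ ^ 2 + 1) = 0 := by linear_combination h
      rcases mul_eq_zero.mp this with h0 | h0
      · exact absurd h0 hδ
      · exact eq_neg_of_add_eq_zero_left h0
  have h4 : δ ^ 4 = 1 := by
    rcases h2 with h2 | h2
    · calc δ ^ 4 = (δ ^ 2) ^ 2 := by ring
        _ = 1 := by rw [h2]; ring
    · calc δ ^ 4 = (δ ^ 2) ^ 2 := by ring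
        _ = 1 := by rw [h2]; ring
  calc δ * δ ^ 3 = δ ^ 4 := by ring
    _ = 1 := h4

end Cfsg.Agent.Lib.Helper7.SUMLeaf
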