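import Cfsg.Agent.Lib.Helper6.Orb.Basic

/-!
# S4125 orbit lemma, leaf OrbE1 (helper7): step 1, first half.
An `H`-invariant proper subgroup `W` of `V` is centralized by `H`, or `H` is solvable
(induction on the kernel of the action on `W` and on the quotient by it).
-/

set_option autoImplicit false

namespace Cfsg.Agent.Lib.Helper7.OrbLeaf
open Cfsg.Agent.Lib.Helper6.Orb

universe u v

variable {p q : ℕ} [hp : Fact p.Prime] [hq : Fact q.Prime]
  {H : Type u} {V : Type v} [Group H] [Finite H] [AddCommGroup V] [Finite V] [DistribMulAction H V]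
  [FaithfulSMul H V]

/-- the action of `H` on an invariant subgroup `W`, as a homomorphism to `Perm W`. -/
def actPerm (W : AddSubgroup V) (hW : ∀ h : H, ∀ w ∈ W, h • w ∈ W) : H →* Equiv.Perm W where
  toFun h :=
    { toFun := fun w => ⟨h • (w : V), hW h w w.2⟩
      invFun := fun w => ⟨h⁻¹ • (w : V), hW h⁻¹ w w.2⟩
      left_inv := fun w => Subtype.ext (by simp)
      right_inv := fun w => Subtype.ext (by simp) }
  map_one' := by
    ext w
    simp
  map_mul' a b := by
    ext w
    simp [mul_smul]

omit hp hq [Finite H] [Finite V] [FaithfulSMul H V] in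
theorem exists_actHom (W : AddSubgroup V) (hW : ∀ h : H, ∀ w ∈ W, h • w ∈ W) :
    ∃ φ : H →* Equiv.Perm W, ∀ (h : H) (w : W), ((φ h) w : V) = h • (w : V) :=
  ⟨actPerm W hW, fun _ _ => rfl⟩

omit hp [Finite V] in
theorem card_pow_of_addSubgroup (hV : ∃ k : ℕ, Nat.card V = q ^ k) (W : AddSubgroup V) :
    ∃ k : ℕ, Nat.card W = q ^ k := by
  obtain ⟨k, hk⟩ := hV
  have hdvd : Nat.card W ∣ q ^ k := hk ▸ AddSubgroup.card_addSubgroup_dvd_card W
  obtain ⟨j, _, hj⟩ := (Nat.dvd_prime_pow hq.out).mp hdvd
  exact ⟨j, hj⟩

/-- OrbE1 -/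
theorem solvable_or_centralizes (hV : ∃ k : ℕ, Nat.card V = q ^ k)
    (hcop : (Nat.card H).Coprime q) (hpp : PP p H V)
    (ih : ∀ (H' : Type u) (V' : Type v) [Group H'] [Finite H'] [AddCommGroup V'] [Finite V']
      [DistribMulAction H' V'] [FaithfulSMul H' V'], (∃ k : ℕ, Nat.card V' = q ^ k) →
      (Nat.card H').Coprime q → PP p H' V' →
      Nat.card H' + Nat.card V' < Nat.card H + Nat.card V → Group.IsSolvable H')
    (W : AddSubgroup V) (hW : ∀ h : H, ∀ w ∈ W, h • w ∈ W) (hWT : W ≠ ⊤) :
    Group.IsSolvable H ∨ ∀ h : H, ∀ w ∈ W, h • w = w := by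
  classical
  obtain ⟨φ, hφ⟩ := exists_actHom W hW
  have hKmem : ∀ h : H, h ∈ φ.ker ↔ ∀ w ∈ W, h • w = w := by
    intro h
    rw [MonoidHom.mem_ker]
    constructor
    · intro hh w hw
      have := hφ h ⟨w, hw⟩
      rw [hh] at this
      exact this.symm
    · intro hh
      ext w
      rw [hφ h w]
      exact hh w w.2
  by_cases hKT : φ.ker = ⊤
  · right
    intro h w hw
    exact (hKmem h).mp (hKT ▸ Subgroup.mem_top h) w hw
  left
  have hWlt : Nat.card W < Nat.card V := by
    have hle : Nat.card W ≤ Nat.card V := AddSubgroup.card_le_card_addGroup W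
    rcases hle.lt_or_eq with h | h
    · exact h
    · exact absurd ((AddSubgroup.card_eq_iff_eq_top W).mp h) hWT
  have hKlt : Nat.card φ.ker < Nat.card H := by
    have hle : Nat.card φ.ker ≤ Nat.card H := Subgroup.card_le_card_group φ.ker
    rcases hle.lt_or_eq with h | h
    · exact h
    · exact absurd ((Subgroup.card_eq_iff_eq_top φ.ker).mp h) hKT
  -- the kernel is solvable
  have hKsolv : Group.IsSolvable φ.ker := by
    have : FaithfulSMul φ.ker V :=
      ⟨fun {a b} hab => Subtype.ext (eq_of_smul_eq_smul (α := V) hab)⟩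
    refine ih φ.ker V hV ?_ (hpp.of_normal φ.ker) (by omega)
    exact Nat.Coprime.coprime_dvd_left (Subgroup.card_subgroup_dvd_card φ.ker) hcop
  -- the quotient is solvable
  have hQsolv : Group.IsSolvable (H ⧸ φ.ker) := by
    let ψ : H ⧸ φ.ker →* Equiv.Perm W := QuotientGroup.kerLift φ
    have hψinj : Function.Injective ψ := QuotientGroup.kerLift_injective φ
    have hψ : ∀ (x : H) (w : W), ((ψ (QuotientGroup.mk x) w : W) : V) = x • (w : V) :=
      fun x w => hφ x w
    let _inst : DistribMulAction (H ⧸ φ.ker) W :=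
      { smul := fun x w => ψ x w
        one_smul := fun w => by
          change ψ 1 w = w
          rw [map_one]; rfl
        mul_smul := fun x y w => by
          change ψ (x * y) w = ψ x (ψ y w)
          rw [map_mul]; rfl
        smul_zero := fun x => by
          induction x using QuotientGroup.induction_on with
          | H x =>
            apply Subtype.ext
            change ((ψ (QuotientGroup.mk x) (0 : W) : W) : V) = ((0 : W) : V)
            rw [hψ]; simp
        smul_add := fun x a b => by
          induction x using QuotientGroup.induction_on with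
          | H x =>
            apply Subtype.ext
            change ((ψ (QuotientGroup.mk x) (a + b) : W) : V) =
              ((ψ (QuotientGroup.mk x) a + ψ (QuotientGroup.mk x) b : W) : V)
            rw [AddSubgroup.coe_add, hψ, hψ, hψ, AddSubgroup.coe_add, smul_add] }
    have hsmul : ∀ (x : H) (w : W),
        (((QuotientGroup.mk x : H ⧸ φ.ker) • w : W) : V) = x • (w : V) := fun x w => hψ x w
    have : FaithfulSMul (H ⧸ φ.ker) W := ⟨fun {a b} hab => by
      apply hψinj
      ext w
      exact congrArg Subtype.val (hab w)⟩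
    refine ih (H ⧸ φ.ker) W (card_pow_of_addSubgroup hV W) ?_ ?_ ?_
    · exact Nat.Coprime.coprime_dvd_left (Subgroup.card_quotient_dvd_card _) hcop
    · intro w
      obtain ⟨a, ha⟩ := hpp (w : V)
      refine ⟨a, ?_⟩
      rw [← ha]
      have himg : MulAction.orbit H (w : V) =
          Subtype.val '' (MulAction.orbit (H ⧸ φ.ker) w) := by
        ext y
        constructor
        · rintro ⟨x, rfl⟩
          exact ⟨(QuotientGroup.mk x : H ⧸ φ.ker) • w, ⟨_, rfl⟩, hsmul x w⟩
        · rintro ⟨z, ⟨x, rfl⟩, rfl⟩
          induction x using QuotientGroup.induction_on with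
          | H x => exact ⟨x, (hsmul x w).symm⟩
      rw [himg, Nat.card_image_of_injective Subtype.val_injective]
    · have : Nat.card (H ⧸ φ.ker) ≤ Nat.card H :=
        Nat.le_of_dvd Nat.card_pos (Subgroup.card_quotient_dvd_card _)
      omega
  exact Group.isSolvable_of_ker_le_range φ.ker.subtype (QuotientGroup.mk' φ.ker)
    (by rw [QuotientGroup.ker_mk', Subgroup.range_subtype])

end Cfsg.Agent.Lib.Helper7.OrbLeaf
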