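import Mathlib
import Cfsg.Agent.Lib.Helper5.BLFullB
import Cfsg.Agent.Lib.Helper12.Ord5040E
import Cfsg.Agent.Lib.Helper6.DefectOrder

/-!
helper7: two arithmetic constraints on irreducible characters.
* `deg_dvd_of_int_value`: if `χ(g) = a ∈ ℤ` then `χ(1) ∣ a |G : C_G(g)|`.
* `invol_value`: `G` perfect, `y` of odd prime order `p`, `k` an involution commuting with `y`,
  `χ(y^j) = χ(y^j k) = a` for `p ∤ j`: then `χ(k) = χ(1) - 4 p z` for some natural `z`.
-/

set_option autoImplicit false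
set_option linter.style.haveILetI false
set_option linter.unusedSectionVars false

namespace Cfsg.Agent.Lib.Helper7.BLBound

open Cfsg Cfsg.Agent.CharLib Cfsg.Agent.Lib.Helper24
open Cfsg.Agent.Lib.Helper12.BSF Cfsg.Agent.Lib.Helper5.BLFull
open scoped ComplexConjugate

universe u

variable {G : Type u} [Group G] [Finite G]

/-- integrality of the central character: `χ(1) ∣ χ(g) |G : C_G(g)|` when `χ(g) ∈ ℤ` -/
theorem deg_dvd_of_int_value (χ : IrrCharacter G) (g : G) (a : ℤ)
    (h : (χ : G → ℂ) g = (a : ℂ)) :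
    (charDegree (χ : G → ℂ) : ℤ) ∣ a * ((Subgroup.centralizer ({g} : Set G)).index : ℤ) := by
  classical
  haveI : Fintype G := Fintype.ofFinite G
  have hint := Cfsg.Agent.Lib.Helper6.isIntegral_centralChar χ g
  unfold centralChar at hint
  rw [h, irr_apply_one] at hint
  have hf0 : (charDegree (χ : G → ℂ) : ℂ) ≠ 0 :=
    Nat.cast_ne_zero.mpr (irr_charDegree_pos χ).ne'
  obtain ⟨n, hn⟩ := Cfsg.Agent.Lib.Helper10.exists_int_of_rat_of_isIntegral hint
    ((((Subgroup.centralizer ({g} : Set G)).index : ℚ) * (a : ℚ)) /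
      (charDegree (χ : G → ℂ) : ℚ)) (by push_cast; rfl)
  refine ⟨n, ?_⟩
  have h2 : (((Subgroup.centralizer ({g} : Set G)).index : ℂ) * (a : ℂ)) =
      (n : ℂ) * (charDegree (χ : G → ℂ) : ℂ) := by
    rw [← hn, div_mul_cancel₀ _ hf0]
  have h3 : ((a * ((Subgroup.centralizer ({g} : Set G)).index : ℤ) : ℤ) : ℂ) =
      (((charDegree (χ : G → ℂ) : ℤ) * n : ℤ) : ℂ) := by
    push_cast
    linear_combination h2
  exact_mod_cast h3

theorem sum_ite_eq_const {p : ℕ} (i₀ : ℕ) (hi : i₀ < p) (c a : ℂ) :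
    ∑ i ∈ Finset.range p, (if i = i₀ then c else a) = c + ((p : ℂ) - 1) * a := by
  have h1 : ∀ i ∈ Finset.range p, (if i = i₀ then c else a) =
      a + (if i = i₀ then c - a else 0) := by
    intro i _
    split_ifs <;> ring
  rw [Finset.sum_congr rfl h1, Finset.sum_add_distrib, Finset.sum_const, Finset.card_range,
    Finset.sum_ite_eq' (Finset.range p) i₀ (fun _ => c - a), if_pos (Finset.mem_range.mpr hi),
    nsmul_eq_mul]
  ring

/-- the value at an involution commuting with an element of order `p` -/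
theorem invol_value (hperf : commutator G = ⊤) (p : ℕ) [hp : Fact p.Prime] (hp2 : p ≠ 2)
    (χ : IrrCharacter G) (y k : G) (hy : orderOf y = p) (hk : orderOf k = 2)
    (hc : Commute y k) (a : ℂ)
    (hval : ∀ j : ℕ, ¬ p ∣ j → (χ : G → ℂ) (y ^ j) = a ∧ (χ : G → ℂ) (y ^ j * k) = a) :
    ∃ z : ℕ, (χ : G → ℂ) k = (charDegree (χ : G → ℂ) : ℂ) - 4 * (p : ℂ) * (z : ℂ) := by
  classical
  have hpp : p.Prime := hp.out
  have hodd : Odd p := hpp.odd_of_ne_two hp2
  obtain ⟨r, hr⟩ := hodd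
  have hcop : Nat.Coprime (orderOf y) (orderOf k) := by
    rw [hy, hk]
    exact (Nat.Prime.coprime_iff_not_dvd hpp).mpr (fun h =>
      hp2 ((Nat.prime_dvd_prime_iff_eq hpp Nat.prime_two).mp h))
  have how : orderOf (y * k) = p * 2 := by
    rw [hc.orderOf_mul_eq_mul_orderOf_of_coprime hcop, hy, hk]
  obtain ⟨n₁, hn₁⟩ := sum_zpowers_irr χ (y * k)
  obtain ⟨n₂, hn₂⟩ := sum_zpowers_irr χ y
  rw [how, sum_range_mul_split] at hn₁
  rw [hy] at hn₂
  have hk2 : k ^ 2 = 1 := by rw [← hk]; exact pow_orderOf_eq_one k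
  have hyp : y ^ p = 1 := by rw [← hy]; exact pow_orderOf_eq_one y
  -- the sum over ⟨y⟩
  have hs2 : ∑ j ∈ Finset.range p, (χ : G → ℂ) (y ^ j) =
      (charDegree (χ : G → ℂ) : ℂ) + ((p : ℂ) - 1) * a := by
    rw [← sum_ite_eq_const 0 hpp.pos]
    apply Finset.sum_congr rfl
    intro j hj
    split_ifs with h0
    · rw [h0, pow_zero, irr_apply_one]
    · refine (hval j ?_).1
      intro hd
      have := Nat.le_of_dvd (Nat.pos_of_ne_zero h0) hd
      have := Finset.mem_range.mp hj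
      omega
  -- the sum over ⟨y k⟩
  have hinner : ∀ i ∈ Finset.range p,
      ∑ e ∈ Finset.range 2, (χ : G → ℂ) ((y * k) ^ (i * 2 + e)) =
      (if i = 0 then (charDegree (χ : G → ℂ) : ℂ) else a) +
        (if i = r then (χ : G → ℂ) k else a) := by
    intro i hi
    have hip := Finset.mem_range.mp hi
    rw [Finset.sum_range_succ, Finset.sum_range_one, add_zero]
    have e1 : (y * k) ^ (i * 2) = y ^ (i * 2) := by
      rw [hc.mul_pow, mul_comm i 2, pow_mul k, hk2, one_pow, mul_one]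
    have e2 : (y * k) ^ (i * 2 + 1) = y ^ (i * 2 + 1) * k := by
      rw [hc.mul_pow, pow_succ k, mul_comm i 2, pow_mul k, hk2, one_pow, one_mul]
    rw [e1, e2]
    congr 1
    · split_ifs with h0
      · rw [h0, zero_mul, pow_zero, irr_apply_one]
      · refine (hval (i * 2) ?_).1
        intro hd
        have h3 : p ∣ i := by
          rcases (Nat.Prime.dvd_mul hpp).mp hd with h | h
          · exact h
          · exact absurd ((Nat.prime_dvd_prime_iff_eq hpp Nat.prime_two).mp h) hp2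
        have := Nat.le_of_dvd (Nat.pos_of_ne_zero h0) h3
        omega
    · split_ifs with h0
      · have : i * 2 + 1 = p := by omega
        rw [this, hyp, one_mul]
      · refine (hval (i * 2 + 1) ?_).2
        intro hd
        obtain ⟨c, hc'⟩ := hd
        have hc1 : c = 1 := by
          have h4 : i * 2 + 1 < p * 2 := by omega
          rw [hc'] at h4
          have h5 : c < 2 := Nat.lt_of_mul_lt_mul_left h4
          have h6 : c ≠ 0 := by
            rintro rfl
            omega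
          omega
        rw [hc1, mul_one] at hc'
        omega
  have hrp : r < p := by omega
  rw [Finset.sum_congr rfl hinner, Finset.sum_add_distrib, sum_ite_eq_const 0 hpp.pos,
    sum_ite_eq_const r hrp] at hn₁
  rw [hs2] at hn₂
  obtain ⟨j, hj⟩ := Cfsg.Agent.Lib.Helper12.Ord5040.char_invol_mod_four hperf
    (IsIrrCharacter.isCharacter χ.2) k hk
  rw [irr_apply_one] at hj
  -- 4 j = 2 p (n₂ - n₁)
  have hkey : (4 : ℂ) * (j : ℂ) = 2 * (p : ℂ) * ((n₂ : ℂ) - (n₁ : ℂ)) := by
    rw [hj] at hn₁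
    push_cast at hn₁
    linear_combination 2 * hn₂ - hn₁
  have hkeyZ : (2 : ℤ) * (j : ℤ) = (p : ℤ) * ((n₂ : ℤ) - (n₁ : ℤ)) := by
    have h : (((2 : ℤ) * (j : ℤ) : ℤ) : ℂ) = (((p : ℤ) * ((n₂ : ℤ) - (n₁ : ℤ)) : ℤ) : ℂ) := by
      push_cast
      linear_combination hkey / 2
    exact_mod_cast h
  have hpj : (p : ℤ) ∣ (j : ℤ) := by
    have h1 : (p : ℤ) ∣ 2 * (j : ℤ) := ⟨_, hkeyZ⟩
    have hprime : Prime (p : ℤ) := Nat.prime_iff_prime_int.mp hpp
    rcases hprime.dvd_or_dvd h1 with h | h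
    · exfalso
      have h2 : p ∣ 2 := by exact_mod_cast h
      exact hp2 ((Nat.prime_dvd_prime_iff_eq hpp Nat.prime_two).mp h2)
    · exact h
  obtain ⟨z, hz⟩ := Int.natCast_dvd_natCast.mp hpj
  refine ⟨z, ?_⟩
  rw [hj, hz]
  push_cast
  ring

end Cfsg.Agent.Lib.Helper7.BLBound
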