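import Mathlib

/-!
helper7: a verified multiset search for the Brauer–Leonard degree equation.

Given a finite set `X` with "types" `(f χ, a χ) : ℕ × ℤ` lying in a candidate list `L`
(entries `(f, a, cap)`, `cap` bounding the number of members of `X` of that type), the
equations
`(d - δ)² + (t - 1) d² + ∑ a² = m`, `(t d - δ) e + 1 + ∑ a f = 0`, `e ∣ N`, `|X| + 1 ≤ m`
are refuted by the Boolean `blCheck L N m t`.
-/

set_option autoImplicit false

namespace Cfsg.Agent.Lib.Helper7.BLSearch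

/-- depth-first search over multiplicities -/
def solve (ok : ℤ → Bool) : List (ℕ × ℤ × ℕ) → ℕ → ℤ → ℕ → Bool
  | [], R, T, _ => decide (R = 0) && ok T
  | e :: L, R, T, cnt =>
    (List.range (min e.2.2 cnt + 1)).any fun k =>
      decide (k * e.2.1.natAbs ^ 2 ≤ R) &&
        solve ok L (R - k * e.2.1.natAbs ^ 2) (T + (k : ℤ) * e.2.1 * (e.1 : ℤ)) (cnt - k)

theorem solve_complete (ok : ℤ → Bool) (k : ℕ × ℤ → ℕ) :
    ∀ (L : List (ℕ × ℤ × ℕ)) (R : ℕ) (T : ℤ) (cnt : ℕ),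
      (∀ e ∈ L, k (e.1, e.2.1) ≤ e.2.2) →
      (L.map fun e => k (e.1, e.2.1) * e.2.1.natAbs ^ 2).sum = R →
      (L.map fun e => k (e.1, e.2.1)).sum ≤ cnt →
      ok (T + (L.map fun e => (k (e.1, e.2.1) : ℤ) * e.2.1 * (e.1 : ℤ)).sum) = true →
      solve ok L R T cnt = true := by
  intro L
  induction L with
  | nil =>
    intro R T cnt _ hR _ hok
    simp only [List.map_nil, List.sum_nil, add_zero] at hR hok
    unfold solve
    rw [Bool.and_eq_true, decide_eq_true_eq]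
    exact ⟨hR.symm, hok⟩
  | cons e L ih =>
    intro R T cnt hcap hR hcnt hok
    simp only [List.map_cons, List.sum_cons] at hR hcnt hok
    unfold solve
    rw [List.any_eq_true]
    refine ⟨k (e.1, e.2.1), ?_, ?_⟩
    · rw [List.mem_range]
      have h1 := hcap e (List.mem_cons_self)
      have h2 : k (e.1, e.2.1) ≤ cnt := by omega
      have h3 : k (e.1, e.2.1) ≤ min e.2.2 cnt := le_min h1 h2
      omega
    · rw [Bool.and_eq_true, decide_eq_true_eq]
      refine ⟨by omega, ?_⟩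
      apply ih
      · intro e' he'
        exact hcap e' (List.mem_cons_of_mem _ he')
      · omega
      · omega
      · rw [add_assoc]
        exact hok

/-- sum over `X` of a function of the type, regrouped along a duplicate-free list of types -/
theorem sum_types {ι : Type*} (X : Finset ι) (τ : ι → ℕ × ℤ) (L : List (ℕ × ℤ × ℕ))
    (hnd : (L.map fun e => (e.1, e.2.1)).Nodup)
    (hL : ∀ χ ∈ X, τ χ ∈ L.map fun e => (e.1, e.2.1))
    {M : Type*} [AddCommMonoid M] (g : ℕ × ℤ → M) :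
    ∑ χ ∈ X, g (τ χ) =
      (L.map fun e => (X.filter fun χ => τ χ = (e.1, e.2.1)).card • g (e.1, e.2.1)).sum := by
  classical
  have h1 : (L.map fun e => (X.filter fun χ => τ χ = (e.1, e.2.1)).card • g (e.1, e.2.1)) =
      (L.map fun e => (e.1, e.2.1)).map
        (fun t : ℕ × ℤ => (X.filter fun χ => τ χ = t).card • g t) := by
    rw [List.map_map]
    rfl
  rw [h1, ← List.sum_toFinset _ hnd, Finset.sum_comp g τ]
  apply Finset.sum_subset
  · intro t ht
    rw [Finset.mem_image] at ht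
    obtain ⟨χ, hχ, rfl⟩ := ht
    rw [List.mem_toFinset]
    exact hL χ hχ
  · intro t _ ht
    have h2 : (X.filter fun χ => τ χ = t) = ∅ := by
      rw [Finset.filter_eq_empty_iff]
      intro χ hχ hτ
      apply ht
      rw [Finset.mem_image]
      exact ⟨χ, hχ, hτ⟩
    rw [h2, Finset.card_empty, zero_smul]

/-- is there a divisor `e` of `N` with `c e + 1 + T = 0`? -/
def okE (N : ℕ) (c : ℤ) (T : ℤ) : Bool :=
  if c = 0 then decide (1 + T = 0)
  else decide ((1 + T) % c = 0) && (decide (0 < -(1 + T) / c) &&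
    decide ((N : ℤ) % (-(1 + T) / c) = 0))

theorem okE_of_exists (N : ℕ) (c T : ℤ) (e : ℕ) (he : e ∣ N) (he0 : 0 < e)
    (h : c * (e : ℤ) + 1 + T = 0) : okE N c T = true := by
  unfold okE
  split_ifs with hc
  · rw [decide_eq_true_eq]
    rw [hc, zero_mul] at h
    linarith
  · have h1 : 1 + T = c * (-(e : ℤ)) := by linarith
    have h2 : -(1 + T) / c = (e : ℤ) := by
      have : -(1 + T) = c * (e : ℤ) := by linarith
      rw [this, Int.mul_ediv_cancel_left _ hc]
    rw [Bool.and_eq_true, Bool.and_eq_true, decide_eq_true_eq, decide_eq_true_eq,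
      decide_eq_true_eq, h2]
    refine ⟨?_, by exact_mod_cast he0, ?_⟩
    · rw [h1]
      exact Int.mul_emod_right c _
    · exact Int.emod_eq_zero_of_dvd (Int.natCast_dvd_natCast.mpr he)

/-- the Boolean refutation of the degree equation -/
def blCheck (L : List (ℕ × ℤ × ℕ)) (N m t : ℕ) : Bool :=
  [(1 : ℤ), -1].all fun δ =>
    (List.range (2 * m + 3)).all fun i =>
      decide ((m : ℤ) - (((i : ℤ) - ((m : ℤ) + 1)) - δ) ^ 2 -
          ((t : ℤ) - 1) * ((i : ℤ) - ((m : ℤ) + 1)) ^ 2 < 0) ||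
        !(solve (okE N ((t : ℤ) * ((i : ℤ) - ((m : ℤ) + 1)) - δ)) L
          ((m : ℤ) - (((i : ℤ) - ((m : ℤ) + 1)) - δ) ^ 2 -
            ((t : ℤ) - 1) * ((i : ℤ) - ((m : ℤ) + 1)) ^ 2).toNat 0 (m - 1))

theorem bl_contra {ι : Type*} (X : Finset ι) (f : ι → ℕ) (a : ι → ℤ) (e : ℕ) (d δ : ℤ)
    (N m t : ℕ) (L : List (ℕ × ℤ × ℕ)) (hδ : δ = 1 ∨ δ = -1) (ht : 1 ≤ t)
    (hcard : X.card + 1 ≤ m)
    (hsq : (d - δ) ^ 2 + ((t : ℤ) - 1) * d ^ 2 + ∑ χ ∈ X, a χ ^ 2 = (m : ℤ))
    (hdeg : ((t : ℤ) * d - δ) * (e : ℤ) + 1 + ∑ χ ∈ X, a χ * (f χ : ℤ) = 0)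
    (he : e ∣ N) (he0 : 0 < e)
    (hnd : (L.map fun en => (en.1, en.2.1)).Nodup)
    (hL : ∀ χ ∈ X, (f χ, a χ) ∈ L.map fun en => (en.1, en.2.1))
    (hcap : ∀ en ∈ L, (X.filter fun χ => (f χ, a χ) = (en.1, en.2.1)).card ≤ en.2.2)
    (hcheck : blCheck L N m t = true) : False := by
  classical
  have hsum0 : 0 ≤ ∑ χ ∈ X, a χ ^ 2 := Finset.sum_nonneg (fun χ _ => sq_nonneg _)
  have ht1 : (0 : ℤ) ≤ (t : ℤ) - 1 := by
    have : (1 : ℤ) ≤ (t : ℤ) := by exact_mod_cast ht
    linarith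
  have htd : 0 ≤ ((t : ℤ) - 1) * d ^ 2 := mul_nonneg ht1 (sq_nonneg d)
  have hdm : (d - δ) ^ 2 ≤ (m : ℤ) := by linarith
  have hm0 : (0 : ℤ) ≤ (m : ℤ) := Int.natCast_nonneg m
  have hd1 : -((m : ℤ) + 1) ≤ d := by
    rcases hδ with rfl | rfl <;> nlinarith
  have hd2 : d ≤ (m : ℤ) + 1 := by
    rcases hδ with rfl | rfl <;> nlinarith
  have hi : ((d + ((m : ℤ) + 1)).toNat : ℤ) = d + ((m : ℤ) + 1) :=
    Int.toNat_of_nonneg (by linarith)
  have hid : (((d + ((m : ℤ) + 1)).toNat : ℤ)) - ((m : ℤ) + 1) = d := by rw [hi]; ring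
  unfold blCheck at hcheck
  rw [List.all_eq_true] at hcheck
  have h1 := hcheck δ (by rcases hδ with rfl | rfl <;> simp)
  rw [List.all_eq_true] at h1
  have h2 := h1 (d + ((m : ℤ) + 1)).toNat (by
    rw [List.mem_range]
    have : ((d + ((m : ℤ) + 1)).toNat : ℤ) < ((2 * m + 3 : ℕ) : ℤ) := by
      rw [hi]; push_cast; linarith
    exact_mod_cast this)
  rw [hid] at h2
  have hrest : (m : ℤ) - (d - δ) ^ 2 - ((t : ℤ) - 1) * d ^ 2 = ∑ χ ∈ X, a χ ^ 2 := by linarith
  rw [hrest] at h2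
  rw [Bool.or_eq_true, decide_eq_true_eq, Bool.not_eq_true'] at h2
  rcases h2 with h2 | h2
  · linarith
  · have h3 : solve (okE N ((t : ℤ) * d - δ)) L (∑ χ ∈ X, a χ ^ 2).toNat 0 (m - 1) = true := by
      apply solve_complete _ (fun tt => (X.filter fun χ => (f χ, a χ) = tt).card)
      · exact hcap
      · have h4 := sum_types X (fun χ => (f χ, a χ)) L hnd hL
          (fun tt : ℕ × ℤ => tt.2.natAbs ^ 2)
        simp only [smul_eq_mul] at h4
        rw [← h4]
        have h5 : ((∑ χ ∈ X, (a χ).natAbs ^ 2 : ℕ) : ℤ) = ∑ χ ∈ X, a χ ^ 2 := by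
          push_cast
          apply Finset.sum_congr rfl
          intro χ _
          rw [sq_abs]
        rw [← h5, Int.toNat_natCast]
      · have h4 := sum_types X (fun χ => (f χ, a χ)) L hnd hL (fun _ : ℕ × ℤ => (1 : ℕ))
        simp only [smul_eq_mul, mul_one, Finset.sum_const] at h4
        rw [← h4]
        omega
      · have h4 := sum_types X (fun χ => (f χ, a χ)) L hnd hL
          (fun tt : ℕ × ℤ => tt.2 * (tt.1 : ℤ))
        simp only [nsmul_eq_mul] at h4
        have h5 : (L.map fun e => ((X.filter fun χ => (f χ, a χ) = (e.1, e.2.1)).card : ℤ) *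
            e.2.1 * (e.1 : ℤ)) = (L.map fun e =>
              ((X.filter fun χ => (f χ, a χ) = (e.1, e.2.1)).card : ℤ) *
                (e.2.1 * (e.1 : ℤ))) := by
          apply List.map_congr_left
          intro e _
          rw [mul_assoc]
        rw [h5, ← h4, zero_add]
        exact okE_of_exists N _ _ e he he0 (by linarith)
    rw [h3] at h2
    exact Bool.noConfusion h2

/-- a bound `b` with `n ≤ b * b`: the least suitable power of two (exponent below `64`),
else `n` itself -/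
def bnd (n : ℕ) : ℕ :=
  match (List.range 64).find? fun k => decide (n ≤ 2 ^ k * 2 ^ k) with
  | some k => 2 ^ k
  | none => n

theorem le_bnd_sq (n : ℕ) : n ≤ bnd n * bnd n := by
  unfold bnd
  split
  · rename_i k hk
    have := List.find?_some hk
    simpa using this
  · exact Nat.le_mul_self n

/-- positive divisors, enumerated in pairs `d, n / d` with `d ≤ bnd n` -/
def divsL (n : ℕ) : List ℕ :=
  (List.range (bnd n + 1)).flatMap fun d =>
    if 0 < d ∧ n % d = 0 then (if bnd n < n / d then [d, n / d] else [d]) else []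

theorem mem_divsL {n d : ℕ} (hn : 0 < n) (hd : d ∣ n) : d ∈ divsL n := by
  have hd0 : 0 < d := Nat.pos_of_dvd_of_pos hd hn
  obtain ⟨e, he⟩ := hd
  have he0 : 0 < e := by
    rcases Nat.eq_zero_or_pos e with h | h
    · rw [h, mul_zero] at he; omega
    · exact h
  unfold divsL
  rw [List.mem_flatMap]
  by_cases hdB : d ≤ bnd n
  · refine ⟨d, List.mem_range.mpr (by omega), ?_⟩
    rw [if_pos ⟨hd0, by rw [he]; exact Nat.mul_mod_right d e⟩]
    split_ifs <;> simp
  · rw [not_le] at hdB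
    have heB : e ≤ bnd n := by
      by_contra h
      rw [not_le] at h
      have h1 := le_bnd_sq n
      have h2 : bnd n * bnd n < d * e := Nat.mul_lt_mul'' hdB h
      omega
    have hne : n / e = d := by rw [he]; exact Nat.mul_div_cancel d he0
    refine ⟨e, List.mem_range.mpr (by omega), ?_⟩
    rw [if_pos ⟨he0, by rw [he]; exact Nat.mul_mod_left d e⟩, hne, if_pos hdB]
    simp

/-- admissibility of a pair (degree `f`, value `a`): `a ≠ 0`, `a² ≤ m`, `f ≡ a (mod p)`,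
`f ∣ |a| I` (class size `I`), `f ≠ a` (faithful), not (`a = -1`, `f = p - 1`) (Lemma K) -/
def good (p I m : ℕ) (f : ℕ) (a : ℤ) : Bool :=
  decide (a ≠ 0) && (decide (a ^ 2 ≤ (m : ℤ)) && (decide (((f : ℤ) - a) % (p : ℤ) = 0) &&
    (decide ((a.natAbs * I) % f = 0) && (decide ((f : ℤ) ≠ a) &&
      !(decide (a = -1) && decide (f + 1 = p))))))

/-- the integers in `[-m, m]` -/
def aRange (m : ℕ) : List ℤ := (List.range (2 * m + 1)).map fun i : ℕ => (i : ℤ) - (m : ℤ)

theorem mem_aRange {m : ℕ} {a : ℤ} (h : a ^ 2 ≤ (m : ℤ)) : a ∈ aRange m := by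
  unfold aRange
  rw [List.mem_map]
  have hm0 : (0 : ℤ) ≤ (m : ℤ) := Int.natCast_nonneg m
  have h1 : -(m : ℤ) ≤ a := by nlinarith
  have h2 : a ≤ (m : ℤ) := by nlinarith
  refine ⟨(a + (m : ℤ)).toNat, ?_, ?_⟩
  · rw [List.mem_range]
    have : ((a + (m : ℤ)).toNat : ℤ) < ((2 * m + 1 : ℕ) : ℤ) := by
      rw [Int.toNat_of_nonneg (by linarith)]; push_cast; linarith
    exact_mod_cast this
  · rw [Int.toNat_of_nonneg (by linarith)]; ring

/-- candidate list -/
def candL (N' p I m cap : ℕ) : List (ℕ × ℤ × ℕ) :=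
  (divsL N').flatMap fun f =>
    ((aRange m).filter fun a => good p I m f a).map fun a => (f, a, cap)

theorem mem_candL {N' p I m cap f : ℕ} {a : ℤ} (hN : 0 < N') (hf : f ∣ N') (ha0 : a ≠ 0)
    (ham : a ^ 2 ≤ (m : ℤ)) (hp : (p : ℤ) ∣ (f : ℤ) - a) (hI : f ∣ a.natAbs * I)
    (hfa : (f : ℤ) ≠ a) (hK : ¬ (a = -1 ∧ f + 1 = p)) :
    (f, a) ∈ (candL N' p I m cap).map fun en => (en.1, en.2.1) := by
  rw [List.mem_map]
  refine ⟨(f, a, cap), ?_, rfl⟩
  unfold candL
  rw [List.mem_flatMap]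
  refine ⟨f, mem_divsL hN hf, ?_⟩
  rw [List.mem_map]
  refine ⟨a, ?_, rfl⟩
  rw [List.mem_filter]
  refine ⟨mem_aRange ham, ?_⟩
  unfold good
  simp only [Bool.and_eq_true, decide_eq_true_eq, Bool.not_eq_true', Bool.and_eq_false_iff,
    decide_eq_false_iff_not]
  refine ⟨ha0, ham, Int.emod_eq_zero_of_dvd hp, Nat.mod_eq_zero_of_dvd hI, hfa, ?_⟩
  by_cases h1 : a = -1
  · right
    exact fun h2 => hK ⟨h1, h2⟩
  · left
    exact h1

theorem cap_of_mem_candL {N' p I m cap : ℕ} {en : ℕ × ℤ × ℕ} (h : en ∈ candL N' p I m cap) :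
    en.2.2 = cap := by
  unfold candL at h
  rw [List.mem_flatMap] at h
  obtain ⟨f, -, h⟩ := h
  rw [List.mem_map] at h
  obtain ⟨a, -, rfl⟩ := h
  rfl

/-- change the cap of one type -/
def capL (L : List (ℕ × ℤ × ℕ)) (f : ℕ) (a : ℤ) (c : ℕ) : List (ℕ × ℤ × ℕ) :=
  L.map fun en => if en.1 = f ∧ en.2.1 = a then (en.1, en.2.1, c) else en

theorem capL_types (L : List (ℕ × ℤ × ℕ)) (f : ℕ) (a : ℤ) (c : ℕ) :
    ((capL L f a c).map fun en => (en.1, en.2.1)) = L.map fun en => (en.1, en.2.1) := by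
  unfold capL
  rw [List.map_map]
  apply List.map_congr_left
  intro en _
  simp only [Function.comp]
  split_ifs <;> rfl

/-- lower bound for the number of members of `X` of a given type: if the search with that type
capped at `c` fails, more than `c` members have the type. -/
theorem bl_count {ι : Type*} (X : Finset ι) (f : ι → ℕ) (a : ι → ℤ) (e : ℕ) (d δ : ℤ)
    (N m t : ℕ) (L : List (ℕ × ℤ × ℕ)) (hδ : δ = 1 ∨ δ = -1) (ht : 1 ≤ t)
    (hcard : X.card + 1 ≤ m)
    (hsq : (d - δ) ^ 2 + ((t : ℤ) - 1) * d ^ 2 + ∑ χ ∈ X, a χ ^ 2 = (m : ℤ))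
    (hdeg : ((t : ℤ) * d - δ) * (e : ℤ) + 1 + ∑ χ ∈ X, a χ * (f χ : ℤ) = 0)
    (he : e ∣ N) (he0 : 0 < e)
    (hnd : (L.map fun en => (en.1, en.2.1)).Nodup)
    (hL : ∀ χ ∈ X, (f χ, a χ) ∈ L.map fun en => (en.1, en.2.1))
    (hcap : ∀ en ∈ L, (X.filter fun χ => (f χ, a χ) = (en.1, en.2.1)).card ≤ en.2.2)
    (f₀ : ℕ) (a₀ : ℤ) (c : ℕ)
    (hcheck : blCheck (capL L f₀ a₀ c) N m t = true) :
    c < (X.filter fun χ => (f χ, a χ) = (f₀, a₀)).card := by
  by_contra hlt
  rw [not_lt] at hlt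
  refine bl_contra X f a e d δ N m t (capL L f₀ a₀ c) hδ ht hcard hsq hdeg he he0 ?_ ?_ ?_ hcheck
  · rw [capL_types]; exact hnd
  · rw [capL_types]; exact hL
  · intro en' hen'
    unfold capL at hen'
    rw [List.mem_map] at hen'
    obtain ⟨en, hen, rfl⟩ := hen'
    split_ifs with h1
    · obtain ⟨h2, h3⟩ := h1
      simp only
      rw [h2, h3]
      exact hlt
    · exact hcap en hen

end Cfsg.Agent.Lib.Helper7.BLSearch
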