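import Cfsg.Agent.Lib.Helper7.Matsumoto
import Cfsg.Agent.Lib.Helper7.ChevCoxeter
import Cfsg.Agent.Lib.Helper3.BNParabolic

/-! The Weyl group of a `(B,N)`-pair with known orders of the products of two generators is the Coxeter
group of that matrix (generic version, helper7). -/

set_option autoImplicit false

namespace Cfsg.Agent.Lib.Helper7

open Cfsg
open Cfsg.Agent.Lib.Helper3.BN Cfsg.Agent.Lib.Helper3.WordLen

section
variable {G : Type*} [Group G] (P : Cfsg.BNPair G) (l : ℕ) (M : CoxeterMatrix (Fin l))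
variable (s : Fin l → W P) (hs : ∀ i, s i ∈ Sbar P) (hsurj : ∀ t ∈ Sbar P, ∃ i, t = s i)
variable (hM : ∀ i j : Fin l, orderOf (s i * s j) = M i j)
include hs hM

theorem bnGen_injective (i j : Fin l) (h : s i = s j) : i = j := by
  by_contra hne
  have h1 := hM i j
  rw [h, Sbar_sq _ _ (hs j), orderOf_one] at h1
  exact M.off_diagonal i j hne h1.symm

omit hs hM in
open Classical in
/-- the map to the Coxeter group, defined on the generators -/
noncomputable def bnCoxVal (w : W P) : M.Group :=
  if h : ∃ i : Fin l, w = s i then M.simple (Classical.choose h) else 1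

theorem bnCoxVal_gen (i : Fin l) : bnCoxVal P l M s (s i) = M.simple i := by
  have h : ∃ i' : Fin l, s i = s i' := ⟨i, rfl⟩
  unfold bnCoxVal
  rw [dif_pos h]
  congr 1
  exact (bnGen_injective P l M s hs hM _ _ (Classical.choose_spec h)).symm

include hsurj

theorem bnCoxVal_sq (t : W P) (ht : t ∈ Sbar P) :
    bnCoxVal P l M s t * bnCoxVal P l M s t = 1 := by
  obtain ⟨i, rfl⟩ := hsurj t ht
  rw [bnCoxVal_gen P l M s hs hM i]
  exact M.toCoxeterSystem.simple_mul_simple_self i

theorem bnCoxVal_braid (a : W P) (ha : a ∈ Sbar P) (b : W P) (hb : b ∈ Sbar P) (k : ℕ)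
    (h : (altW a b k).prod = (altW b a k).prod) :
    fw (bnCoxVal P l M s) (altW a b k) = fw (bnCoxVal P l M s) (altW b a k) := by
  have ha2 := Sbar_sq _ a ha
  have hb2 := Sbar_sq _ b hb
  obtain ⟨i, rfl⟩ := hsurj a ha
  obtain ⟨j, rfl⟩ := hsurj b hb
  rw [altW_prod_eq_iff k _ _ ha2 hb2] at h
  have hdvd : M i j ∣ k := by
    rw [← hM i j]; exact orderOf_dvd_of_pow_eq_one h
  unfold fw
  have hsi : M.simple i * M.simple i = 1 := M.toCoxeterSystem.simple_mul_simple_self i
  have hsj : M.simple j * M.simple j = 1 := M.toCoxeterSystem.simple_mul_simple_self j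
  rw [altW_map, altW_map, bnCoxVal_gen P l M s hs hM i, bnCoxVal_gen P l M s hs hM j,
    altW_prod_eq_iff k _ _ hsi hsj]
  obtain ⟨c, rfl⟩ := hdvd
  rw [pow_mul]
  have := M.toCoxeterSystem.simple_mul_simple_pow i j
  rw [CoxeterMatrix.toCoxeterSystem_simple] at this
  rw [this, one_pow]

/-- the homomorphism from the Weyl group to the Coxeter group -/
noncomputable def bnToCox : W P →* M.Group :=
  matHom (Sbar_sq _) (Sbar_closure _) (Sbar_len_ne _) (Sbar_exch _) (bnCoxVal P l M s)
    (bnCoxVal_braid P l M s hs hsurj hM) (bnCoxVal_sq P l M s hs hsurj hM)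

theorem bnToCox_gen (i : Fin l) : bnToCox P l M s hs hsurj hM (s i) = M.simple i := by
  unfold bnToCox
  rw [matHom_gen _ _ _ _ _ _ _ _ (hs i), bnCoxVal_gen P l M s hs hM i]

omit hs hsurj in
theorem bnGen_liftable : M.IsLiftable s := by
  intro i j
  show (s i * s j) ^ M i j = 1
  rw [← hM i j]
  exact pow_orderOf_eq_one _

omit hs hsurj in
/-- the homomorphism from the Coxeter group to the Weyl group -/
noncomputable def bnOfCox : M.Group →* W P :=
  M.toCoxeterSystem.lift ⟨s, bnGen_liftable P l M s hM⟩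

omit hs hsurj in
theorem bnOfCox_simple (i : Fin l) : bnOfCox P l M s hM (M.simple i) = s i := by
  unfold bnOfCox
  have := M.toCoxeterSystem.lift_apply_simple (bnGen_liftable P l M s hM) i
  rw [CoxeterMatrix.toCoxeterSystem_simple] at this
  exact this

/-- `N/(B ∩ N) ≅ W(M)` -/
noncomputable def bnWeylCoxEquiv : W P ≃* M.Group :=
  MonoidHom.toMulEquiv (bnToCox P l M s hs hsurj hM) (bnOfCox P l M s hM)
    (by
      apply MonoidHom.eq_of_eqOn_dense (Sbar_closure P)
      intro t ht
      obtain ⟨i, rfl⟩ := hsurj t ht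
      show bnOfCox P l M s hM (bnToCox P l M s hs hsurj hM (s i)) = s i
      rw [bnToCox_gen, bnOfCox_simple])
    (by
      apply M.toCoxeterSystem.ext_simple
      intro i
      rw [CoxeterMatrix.toCoxeterSystem_simple]
      show bnToCox P l M s hs hsurj hM (bnOfCox P l M s hM (M.simple i)) = M.simple i
      rw [bnOfCox_simple, bnToCox_gen])

theorem bnWeylCoxEquiv_gen (i : Fin l) :
    bnWeylCoxEquiv P l M s hs hsurj hM (s i) = M.simple i :=
  bnToCox_gen P l M s hs hsurj hM i

end

end Cfsg.Agent.Lib.Helper7
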