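/-
helper7: restriction of a (B,N)-pair `P` of `G` along a homomorphism `f : G0 →* G` with
`f(G0) · (B ∩ N) = G` (for instance `SL_n → GL_n`): `(f⁻¹ B, f⁻¹ N)` with representatives
`r s`, `f (r s) ∈ s (B ∩ N)`, of the distinguished generators is a (B,N)-pair of `G0`.
(The hom form of `Cfsg.Agent.Lib.Helper7.BNRestrict.restrict`; signature asked for by helper28.)
-/
import Mathlib
import Cfsg.Prelude.Def_LieExceptional
import Cfsg.Agent.Lib.Helper3.BNBruhat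
import Cfsg.Agent.Lib.Helper7.BNRestrict

set_option autoImplicit false
set_option linter.unusedVariables false

namespace Cfsg.Agent.Lib.Helper7.BNRestrictHom

open Cfsg Cfsg.Agent.Lib.Helper3.BN
open Cfsg.Agent.Lib.Helper7.BNRestrict (T_conj T_conj')

variable {G G0 : Type*} [Group G] [Group G0] {P : Cfsg.BNPair G} {f : G0 →* G}

section cov

variable (hcov : ∀ g : G, ∃ x : G0, ∃ t ∈ P.B ⊓ P.N, g = f x * t)
include hcov

/-- `B = f(f⁻¹ B) (B ∩ N)` -/
theorem B_decomp {b : G} (hb : b ∈ P.B) :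
    ∃ c : G0, f c ∈ P.B ∧ ∃ t ∈ P.B ⊓ P.N, b = f c * t := by
  obtain ⟨x, t, ht, rfl⟩ := hcov b
  refine ⟨x, ?_, t, ht, rfl⟩
  have : f x = f x * t * t⁻¹ := by group
  rw [this]
  exact P.B.mul_mem hb (P.B.inv_mem ht.1)

/-- `B = (B ∩ N) f(f⁻¹ B)` -/
theorem B_decomp' {b : G} (hb : b ∈ P.B) :
    ∃ t ∈ P.B ⊓ P.N, ∃ c : G0, f c ∈ P.B ∧ b = t * f c := by
  obtain ⟨c, hcB, t, ht, h⟩ := B_decomp hcov (P.B.inv_mem hb)
  refine ⟨t⁻¹, Subgroup.inv_mem _ ht, c⁻¹, ?_, ?_⟩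
  · rw [map_inv]
    exact P.B.inv_mem hcB
  · have : b = (b⁻¹)⁻¹ := by group
    rw [this, h, map_inv]
    group

/-- `N = f(f⁻¹ N) (B ∩ N)` -/
theorem N_decomp {n : G} (hn : n ∈ P.N) :
    ∃ m : G0, f m ∈ P.N ∧ ∃ t ∈ P.B ⊓ P.N, n = f m * t := by
  obtain ⟨x, t, ht, rfl⟩ := hcov n
  refine ⟨x, ?_, t, ht, rfl⟩
  have : f x = f x * t * t⁻¹ := by group
  rw [this]
  exact P.N.mul_mem hn (P.N.inv_mem ht.2)

/-- the preimage of the double coset of `f m`, `f m ∈ N`, is the double coset of `m` for `f⁻¹ B` -/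
theorem dc_inter {m g : G0} (hm : f m ∈ P.N) (hg : f g ∈ dc P (f m)) :
    ∃ c : G0, f c ∈ P.B ∧ ∃ c' : G0, f c' ∈ P.B ∧ g = c * m * c' := by
  obtain ⟨b, hb, b', hb', hgb⟩ := (mem_dc P).mp hg
  obtain ⟨c, hcB, t, ht, hbc⟩ := B_decomp hcov hb
  obtain ⟨t', ht', c', hc'B, hbc'⟩ := B_decomp' hcov hb'
  have h1 : (f m)⁻¹ * t * f m * t' ∈ P.B ⊓ P.N := Subgroup.mul_mem _ (T_conj' hm ht) ht'
  have h2 : (f m)⁻¹ * t * f m * t' = f (m⁻¹ * c⁻¹ * g * c'⁻¹) := by
    simp only [map_mul, map_inv]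
    rw [hgb, hbc, hbc']
    group
  refine ⟨c, hcB, m⁻¹ * c⁻¹ * g * c'⁻¹ * c', ?_, ?_⟩
  · rw [map_mul, ← h2]
    exact P.B.mul_mem h1.1 hc'B
  · group

end cov

section reps

variable {r : G → G0} (hr : ∀ s ∈ P.S, ∃ t ∈ P.B ⊓ P.N, f (r s) = s * t)
include hr

theorem f_r_mem_N {s : G} (hs : s ∈ P.S) : f (r s) ∈ P.N := by
  obtain ⟨t, ht, h⟩ := hr s hs
  rw [h]
  exact P.N.mul_mem (P.subset hs) ht.2

theorem rS_le_N : Subgroup.closure (r '' P.S) ≤ P.N.comap f := by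
  rw [Subgroup.closure_le]
  rintro _ ⟨s, hs, rfl⟩
  exact f_r_mem_N hr hs

theorem closure_decomp {x : G} (hx : x ∈ Subgroup.closure P.S) :
    ∃ y ∈ Subgroup.closure (r '' P.S), ∃ t ∈ P.B ⊓ P.N, x = f y * t := by
  induction hx using Subgroup.closure_induction with
  | mem s hs =>
    obtain ⟨t, ht, h⟩ := hr s hs
    refine ⟨r s, Subgroup.subset_closure ⟨s, hs, rfl⟩, t⁻¹, Subgroup.inv_mem _ ht, ?_⟩
    rw [h]
    group
  | one => exact ⟨1, Subgroup.one_mem _, 1, Subgroup.one_mem _, by simp⟩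
  | mul y z hy hz ihy ihz =>
    obtain ⟨x1, hx1, t1, ht1, rfl⟩ := ihy
    obtain ⟨x2, hx2, t2, ht2, rfl⟩ := ihz
    have hx2N : f x2 ∈ P.N := rS_le_N hr hx2
    refine ⟨x1 * x2, Subgroup.mul_mem _ hx1 hx2, ((f x2)⁻¹ * t1 * f x2) * t2,
      Subgroup.mul_mem _ (T_conj' hx2N ht1) ht2, ?_⟩
    rw [map_mul]
    group
  | inv y hy ihy =>
    obtain ⟨x1, hx1, t1, ht1, rfl⟩ := ihy
    have hx1N : f x1 ∈ P.N := rS_le_N hr hx1
    refine ⟨x1⁻¹, Subgroup.inv_mem _ hx1, f x1 * t1⁻¹ * (f x1)⁻¹,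
      T_conj hx1N (Subgroup.inv_mem _ ht1), ?_⟩
    rw [map_inv]
    group

end reps

/-- **the restricted (B,N)-pair** of `G0` along `f : G0 →* G` with `f(G0) (B ∩ N) = G` -/
def restrict (P : Cfsg.BNPair G) (f : G0 →* G) (hf : Function.Injective f)
    (hcov : ∀ g : G, ∃ x : G0, ∃ t ∈ P.B ⊓ P.N, g = f x * t)
    (r : G → G0) (hr : ∀ s ∈ P.S, ∃ t ∈ P.B ⊓ P.N, f (r s) = s * t) : Cfsg.BNPair G0 where
  B := P.B.comap f
  N := P.N.comap f
  S := r '' P.S
  sup_eq_top := by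
    rw [eq_top_iff]
    intro g _
    obtain ⟨n, hn, hgn⟩ := exists_dc P (f g)
    obtain ⟨b, hb, b', hb', hgb⟩ := (mem_dc P).mp hgn
    obtain ⟨c, hcB, t, ht, hbc⟩ := B_decomp hcov hb
    obtain ⟨t', ht', c', hc'B, hbc'⟩ := B_decomp' hcov hb'
    have hmN : t * n * t' ∈ P.N := P.N.mul_mem (P.N.mul_mem ht.2 hn) ht'.2
    have hm : f (c⁻¹ * g * c'⁻¹) = t * n * t' := by
      simp only [map_mul, map_inv]
      rw [hgb, hbc, hbc']
      group
    have : g = c * (c⁻¹ * g * c'⁻¹) * c' := by group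
    rw [this]
    refine Subgroup.mul_mem _ (Subgroup.mul_mem _ (Subgroup.mem_sup_left ?_)
      (Subgroup.mem_sup_right ?_)) (Subgroup.mem_sup_left ?_)
    · exact Subgroup.mem_comap.mpr hcB
    · rw [Subgroup.mem_comap, hm]
      exact hmN
    · exact Subgroup.mem_comap.mpr hc'B
  conj_mem := by
    intro n hn t ht
    rw [Subgroup.mem_comap] at hn
    rw [Subgroup.mem_inf, Subgroup.mem_comap, Subgroup.mem_comap] at ht
    rw [Subgroup.mem_comap, map_mul, map_mul, map_inv]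
    exact P.conj_mem (f n) hn (f t) ⟨ht.1, ht.2⟩
  subset := by
    rintro _ ⟨s, hs, rfl⟩
    exact f_r_mem_N hr hs
  sq_mem := by
    rintro _ ⟨s, hs, rfl⟩
    obtain ⟨t, ht, h⟩ := hr s hs
    rw [Subgroup.mem_comap, map_mul, h]
    have : s * t * (s * t) = (s * s) * (s⁻¹ * t * s) * t := by group
    rw [this]
    exact P.B.mul_mem (P.B.mul_mem (P.sq_mem s hs) (T_conj' (P.subset hs) ht).1) ht.1
  inj := by
    rintro _ ⟨s, hs, rfl⟩ _ ⟨s', hs', rfl⟩ h
    obtain ⟨t, ht, e⟩ := hr s hs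
    obtain ⟨t', ht', e'⟩ := hr s' hs'
    rw [Subgroup.mem_comap, map_mul, map_inv, e, e'] at h
    have h1 : s⁻¹ * s' ∈ P.B := by
      have : s⁻¹ * s' = t * ((s * t)⁻¹ * (s' * t')) * t'⁻¹ := by group
      rw [this]
      exact P.B.mul_mem (P.B.mul_mem ht.1 h) (P.B.inv_mem ht'.1)
    rw [P.inj s hs s' hs' h1]
  closure_sup := by
    apply le_antisymm
    · rw [sup_le_iff]
      exact ⟨rS_le_N hr, inf_le_right⟩
    · intro m hm
      rw [Subgroup.mem_comap] at hm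
      have hm' : f m ∈ Subgroup.closure P.S ⊔ (P.B ⊓ P.N) := by rw [P.closure_sup]; exact hm
      obtain ⟨x, hx, t, ht, hmx⟩ := exists_decomp P hm'
      obtain ⟨y, hy, t1, ht1, hxy⟩ := closure_decomp hr hx
      have htt : t1 * t ∈ P.B ⊓ P.N := Subgroup.mul_mem _ ht1 ht
      have e : f (y⁻¹ * m) = t1 * t := by
        rw [map_mul, map_inv, hmx, hxy]
        group
      have : m = y * (y⁻¹ * m) := by group
      rw [this]
      refine Subgroup.mul_mem _ (Subgroup.mem_sup_left hy) (Subgroup.mem_sup_right ?_)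
      rw [Subgroup.mem_inf, Subgroup.mem_comap, Subgroup.mem_comap, e]
      exact ⟨htt.1, htt.2⟩
  mul_mem_union := by
    rintro _ ⟨s, hs, rfl⟩ n hn b hb
    rw [Subgroup.mem_comap] at hn hb
    obtain ⟨t0, ht0, e⟩ := hr s hs
    have hxN : f (r s) ∈ P.N := f_r_mem_N hr hs
    have key := P.mul_mem_union s hs (f n) hn (t0 * f b) (P.B.mul_mem ht0.1 hb)
    have e1 : s * (t0 * f b) * f n = f (r s * b * n) := by
      rw [map_mul, map_mul, e]
      group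
    rw [e1] at key
    have e2 : dc P (s * f n) = dc P (f (r s * n)) := by
      have : f (r s * n) = s * f n * ((f n)⁻¹ * t0 * f n) := by
        rw [map_mul, e]
        group
      rw [this]
      exact (dc_eq_of_mul_right P (T_conj' hn ht0).1).symm
    rcases key with key | key
    · left
      have hmN : f (r s * n) ∈ P.N := by rw [map_mul]; exact P.N.mul_mem hxN hn
      have key' : f (r s * b * n) ∈ dc P (f (r s * n)) := by rw [← e2]; exact key
      obtain ⟨c, hcB, c', hc'B, h⟩ := dc_inter hcov hmN key'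
      rw [DoubleCoset.mem_doubleCoset]
      exact ⟨c, Subgroup.mem_comap.mpr hcB, c', Subgroup.mem_comap.mpr hc'B, h⟩
    · right
      obtain ⟨c, hcB, c', hc'B, h⟩ := dc_inter hcov hn key
      rw [DoubleCoset.mem_doubleCoset]
      exact ⟨c, Subgroup.mem_comap.mpr hcB, c', Subgroup.mem_comap.mpr hc'B, h⟩
  conj_ne := by
    rintro _ ⟨s, hs, rfl⟩ h
    have hxN : f (r s) ∈ P.N := f_r_mem_N hr hs
    obtain ⟨b, hb, hnb⟩ := exists_conj_not_mem P hs
    apply hnb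
    have hx1 : ∀ c : G0, f c ∈ P.B → f (r s) * f c * f (r s) ∈ P.B := by
      intro c hcB
      have : r s * c * r s ∈ ((P.B.comap f : Subgroup G0) : Set G0) := by
        rw [← h]
        exact ⟨c, Subgroup.mem_comap.mpr hcB, rfl⟩
      have := Subgroup.mem_comap.mp this
      rwa [map_mul, map_mul] at this
    obtain ⟨t0, ht0, e⟩ := hr s hs
    obtain ⟨c1, hc1, t1, ht1, h1⟩ := B_decomp hcov (P.B.mul_mem (P.B.inv_mem ht0.1) hb)
    have hb2 : b = t0 * (f c1 * t1) := by rw [← h1]; group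
    have : s * b * s = (f (r s) * f c1 * f (r s)) * ((f (r s))⁻¹ * t1 * f (r s)) * t0⁻¹ := by
      rw [hb2, e]
      group
    rw [this]
    exact P.B.mul_mem (P.B.mul_mem (hx1 c1 hc1) (T_conj' hxN ht1).1) (P.B.inv_mem ht0.1)

section api

variable (P : Cfsg.BNPair G) (f : G0 →* G) (hf : Function.Injective f)
  (hcov : ∀ g : G, ∃ x : G0, ∃ t ∈ P.B ⊓ P.N, g = f x * t)
  (r : G → G0) (hr : ∀ s ∈ P.S, ∃ t ∈ P.B ⊓ P.N, f (r s) = s * t)

theorem restrict_B : (restrict P f hf hcov r hr).B = P.B.comap f := rfl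

theorem restrict_N : (restrict P f hf hcov r hr).N = P.N.comap f := rfl

theorem restrict_S : (restrict P f hf hcov r hr).S = r '' P.S := rfl

theorem mem_restrict_B {x : G0} : x ∈ (restrict P f hf hcov r hr).B ↔ f x ∈ P.B := Iff.rfl

theorem mem_restrict_N {x : G0} : x ∈ (restrict P f hf hcov r hr).N ↔ f x ∈ P.N := Iff.rfl

/-- the Bruhat cells of the restricted pair are the preimages of those of `P` -/
theorem mem_dc_restrict_iff {m g : G0} (hm : f m ∈ P.N) :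
    g ∈ dc (restrict P f hf hcov r hr) m ↔ f g ∈ dc P (f m) := by
  constructor
  · intro h
    obtain ⟨c, hc, c', hc', rfl⟩ := (mem_dc _).mp h
    rw [map_mul, map_mul]
    exact (mem_dc P).mpr ⟨f c, hc, f c', hc', rfl⟩
  · intro h
    obtain ⟨c, hcB, c', hc'B, e⟩ := dc_inter hcov hm h
    exact (mem_dc _).mpr ⟨c, hcB, c', hc'B, e⟩

end api

/-- representatives exist as soon as `f(G0) (B ∩ N) = G` -/
theorem exists_reps (hcov : ∀ g : G, ∃ x : G0, ∃ t ∈ P.B ⊓ P.N, g = f x * t) :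
    ∃ r : G → G0, ∀ s ∈ P.S, ∃ t ∈ P.B ⊓ P.N, f (r s) = s * t := by
  classical
  have : ∀ s : G, ∃ y : G0, ∃ t ∈ P.B ⊓ P.N, f y = s * t := by
    intro s
    obtain ⟨x, t, ht, h⟩ := hcov s
    refine ⟨x, t⁻¹, Subgroup.inv_mem _ ht, ?_⟩
    rw [h]
    group
  choose r hr using this
  exact ⟨r, fun s _ => hr s⟩

end Cfsg.Agent.Lib.Helper7.BNRestrictHom
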