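/-
helper7: BR core market "BRC" (planner helper24; S0999 + S4701), leaf BRC-YSQ `Y_sq`:
`t ψ(1)² < |G|` for the exceptional characters (all of the same degree, `|Y| = t`, and the trivial character is not in `Y`).
Also the shared lemma `sum_sq_degree : ∑_χ χ(1)² = |G|` (in `ℕ`).
-/
import Mathlib
import Cfsg.Prelude.Def_BlockRank
import Cfsg.Prelude.Def_Perm
import Cfsg.Agent.Lib.Helper24.BRCDefs
import Cfsg.Agent.Lib.Helper24.IrrFacts

set_option autoImplicit false

namespace Cfsg.Agent.Lib.Helper7.BRCYSQ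

open Cfsg Cfsg.Agent.Lib.Helper8.DOM Cfsg.Agent.Lib.Helper27.DO Cfsg.Agent.CharLib
open Cfsg.Agent.Lib.Helper6.BRH Cfsg.Agent.Lib.Helper24.BRC
open scoped ComplexConjugate

universe u

variable {G : Type u} [Group G] [Finite G] {p : ℕ} [Fact p.Prime]

/-- `∑_χ χ(1)² = |G|` -/
theorem sum_sq_degree [Fintype (IrrCharacter G)] :
    ∑ χ : IrrCharacter G, (charDegree (χ : G → ℂ)) ^ 2 = Nat.card G := by
  classical
  letI : Fintype G := Fintype.ofFinite G
  have h := Cfsg.Agent.Lib.Helper24.sum_irr_degree_mul (G := G) 1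
  rw [if_pos rfl] at h
  have h2 : ((∑ χ : IrrCharacter G, (charDegree (χ : G → ℂ)) ^ 2 : ℕ) : ℂ) = ((Nat.card G : ℕ) : ℂ) := by
    rw [Nat.card_eq_fintype_card, ← h]
    push_cast
    apply Finset.sum_congr rfl
    intro χ _
    rw [apply_one_eq, pow_two]
  exact_mod_cast h2

variable {P : Subgroup G} {n w : ℕ} {X Y : Set (IrrCharacter G)} {v : IrrCharacter G → ℤ} {ε : ℤ}

/-- **BRC-YSQ**.  `∑_{ψ ∈ Y} ψ(1)² < |G|` (the trivial character is not in `Y`). -/
theorem Y_sq (hB : B0 p P X Y v ε) :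
    ∀ ψ ∈ Y, tI p P * (charDegree (ψ : G → ℂ)) ^ 2 < Nat.card G := by
  classical
  letI : Fintype (IrrCharacter G) := Fintype.ofFinite _
  intro ψ hψ
  have hYfin : Y.Finite := Set.toFinite Y
  -- all members of `Y` have the same degree
  have hε0 : ε ≠ 0 := by
    rcases hB.sgn with h | h <;> rw [h] <;> norm_num
  have hsame : ∀ ψ' ∈ Y, charDegree (ψ' : G → ℂ) = charDegree (ψ : G → ℂ) := by
    intro ψ' hψ'
    have h1 := hB.degY ψ hψ
    have h2 := hB.degY ψ' hψ'
    rw [← h1] at h2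
    have h3 := mul_left_cancel₀ hε0 h2
    exact_mod_cast h3
  have htY : trivIrr G ∉ hYfin.toFinset := by
    rw [Set.Finite.mem_toFinset]
    intro h
    exact (Set.disjoint_left.mp hB.disj) hB.trivX h
  have hle : ∑ χ ∈ insert (trivIrr G) hYfin.toFinset, (charDegree (χ : G → ℂ)) ^ 2 ≤
      ∑ χ : IrrCharacter G, (charDegree (χ : G → ℂ)) ^ 2 :=
    Finset.sum_le_sum_of_subset (Finset.subset_univ _)
  rw [sum_sq_degree, Finset.sum_insert htY] at hle
  have h1 : ∑ χ ∈ hYfin.toFinset, (charDegree (χ : G → ℂ)) ^ 2 =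
      tI p P * (charDegree (ψ : G → ℂ)) ^ 2 := by
    have : ∀ χ ∈ hYfin.toFinset, (charDegree (χ : G → ℂ)) ^ 2 = (charDegree (ψ : G → ℂ)) ^ 2 := by
      intro χ hχ
      rw [hsame χ ((Set.Finite.mem_toFinset hYfin).mp hχ)]
    rw [Finset.sum_congr rfl this, Finset.sum_const, smul_eq_mul,
      ← Nat.card_eq_card_finite_toFinset hYfin, hB.cardY]
  rw [h1] at hle
  have h2 : 0 < (charDegree ((trivIrr G : IrrCharacter G) : G → ℂ)) ^ 2 :=
    pow_pos (charDegree_pos _) 2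
  omega

end Cfsg.Agent.Lib.Helper7.BRCYSQ
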