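import Mathlib
import Cfsg.Prelude.Def_GeometricClasses
import Cfsg.Agent.Lib.Helper25.C3O2Defs

/-!
C3O2 market (planner helper25; S5825 conjunct (7), `O_4^-(q^2).2 < Ω_8^-(q)`, `q` odd): leaf **S4B `t_on_W`**
(notes/C3O2_leaves.lean, notes/C3O2_plan.md §S4B) - pure computation in the quadratic space.
With `e = J p`, `ε = f(e', e)`, `v = t e = e + ε b' - Q(b') ε e' + λ₀ p`, `u₂ = e + ε Q(b') e'`,
`u₀ = u₂ + v - a p`.
-/

set_option autoImplicit false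
set_option linter.unusedSectionVars false
set_option linter.unusedVariables false

namespace Cfsg.Agent.Lib.Helper7.C3O2Leaf
open Matrix Module QuadraticMap Cfsg Cfsg.Geo Cfsg.Agent.Lib.Helper25.OEFsa
  Cfsg.Agent.Lib.Helper25.CD Cfsg.Agent.Lib.Helper25.Siegel
  Cfsg.Agent.Lib.Helper5.NSMax Cfsg.Agent.Lib.Helper5.TSMax Cfsg.Agent.Lib.Helper25.AutO
  Cfsg.Agent.Lib.Helper25.C3O2

variable {F : Type*} [Field F] [Fintype F] {E : Type*} [Field E] [Algebra F E] [FiniteDimensional F E]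
  {ι : Type} [Fintype ι] [DecidableEq ι]
  {ρ : E →ₐ[F] Matrix ι ι F} {Q : QuadraticForm F (ι → F)} {B : (ι → F) → (ι → F) → E} {QE : (ι → F) → E}
  {κ : E} {δ : F}

/-- S4B [M-L]: pure computation. With `e = J p`, `ε = f(e', e)`, `v = t e = e + ε b' - Q(b') ε e' + λ₀ p`,
`u₂ = e + ε Q(b') e'` and `u₀ = u₂ + v - a p` (`a` chosen with `f(u₀, J v) = 0`): `f(e, v) = -Q(b') ε²`, `u₀ ⟂_E p, v`,
`Q u₀ = ε² Q b'`, and on `W = {p, v}^{⟂E}`, `t w = r_{u₀} w + 2 φ(w) v + c p` with `φ(w) = f(u₀, w)/Q(u₀) = f(e', w)/ε`. -/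
theorem t_on_W (h : Forms ρ Q B QE) (hκ : Kap κ δ) (h2 : (2 : F) ≠ 0) {p e' b' : ι → F} (hp : QE p = 0)
    (he' : Q e' = 0) (hpe' : polar Q p e' = 0) (hpb : polar Q p b' = 0) (he'b : polar Q e' b' = 0)
    (heb : polar Q (ρ κ *ᵥ p) b' = 0) (hQb : Q b' ≠ 0) (hε : polar Q e' (ρ κ *ᵥ p) ≠ 0)
    (t : (ι → F) ≃ₗ[F] (ι → F)) (htQ : ∀ x, Q (t x) = Q x) (htp : t p = p)
    (ht : ∀ x, polar Q p x = 0 → ∃ c : F, t x = egen Q e' b' x + c • p) :
    ∃ u₀ : ι → F, polar Q (ρ κ *ᵥ p) (t (ρ κ *ᵥ p)) ≠ 0 ∧ B p u₀ = 0 ∧ B (t (ρ κ *ᵥ p)) u₀ = 0 ∧ Q u₀ ≠ 0 ∧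
      ∀ w, B p w = 0 → B (t (ρ κ *ᵥ p)) w = 0 →
        ∃ c : F, t w = w - (polar Q u₀ w / Q u₀) • u₀ + (2 * polar Q u₀ w / Q u₀) • t (ρ κ *ᵥ p) + c • p := by
  classical
  have hQp : Q p = 0 := by rw [h.Q_eq, hp, map_zero]
  have hpe0 : polar Q p (ρ κ *ᵥ p) = 0 := by
    rw [polar_J_right h, h.B_self, hp, mul_zero, mul_zero, map_zero]
  have hQe0 : Q (ρ κ *ᵥ p) = 0 := by rw [Q_J h hκ, hQp, mul_zero]
  obtain ⟨c₀, hv0⟩ := ht (ρ κ *ᵥ p) hpe0
  -- abstract `e = J p`, `v = t e`, `ε = f(e', e)`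
  obtain ⟨e, hedef⟩ : ∃ e : ι → F, e = ρ κ *ᵥ p := ⟨_, rfl⟩
  rw [← hedef] at heb hε hpe0 hQe0 hv0 ⊢
  obtain ⟨v, hvdef⟩ : ∃ v : ι → F, v = t e := ⟨_, rfl⟩
  rw [← hvdef] at hv0 ⊢
  obtain ⟨ε, hεdef⟩ : ∃ ε : F, ε = polar Q e' e := ⟨_, rfl⟩
  rw [← hεdef] at hε
  -- elementary inner products
  have hpp : polar Q p p = 0 := pself Q hQp
  have hee : polar Q e e = 0 := pself Q hQe0
  have he'e' : polar Q e' e' = 0 := pself Q he'
  have hep : polar Q e p = 0 := by rw [polar_comm]; exact hpe0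
  have he'p : polar Q e' p = 0 := by rw [polar_comm]; exact hpe'
  have hb'p : polar Q b' p = 0 := by rw [polar_comm]; exact hpb
  have hb'e' : polar Q b' e' = 0 := by rw [polar_comm]; exact he'b
  have hb'e : polar Q b' e = 0 := by rw [polar_comm]; exact heb
  have hee' : polar Q e e' = ε := by rw [polar_comm, hεdef]
  -- the explicit form of `v`
  have hv : v = e + ε • b' - (Q b' * ε) • e' + c₀ • p := by
    rw [hv0]
    unfold egen
    rw [hb'e, ← hεdef, zero_smul, sub_zero]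
  have hQv : Q v = 0 := by rw [hvdef, htQ, hQe0]
  have hvv : polar Q v v = 0 := pself Q hQv
  have hvx : ∀ x, polar Q v x =
      polar Q e x + ε * polar Q b' x - Q b' * ε * polar Q e' x + c₀ * polar Q p x := by
    intro x
    rw [hv]
    simp only [polar_add_left, polar_sub_left, polar_smul_left, smul_eq_mul]
  have hxv : ∀ x, polar Q x v =
      polar Q e x + ε * polar Q b' x - Q b' * ε * polar Q e' x + c₀ * polar Q p x := by
    intro x
    rw [polar_comm, hvx]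
  -- `η = f(e, v)`
  have hη : polar Q e v = -(Q b' * ε ^ 2) := by
    rw [hxv, hee, hb'e, ← hεdef, hpe0]
    ring
  have hη0 : polar Q e v ≠ 0 := by
    rw [hη]
    exact neg_ne_zero.mpr (mul_ne_zero hQb (pow_ne_zero 2 hε))
  have hvp : polar Q v p = 0 := by
    rw [hvx, hep, hb'p, he'p, hpp]
    ring
  have hve' : polar Q v e' = ε := by
    rw [hvx, hee', hb'e', he'e', hpe']
    ring
  -- `u₂`
  obtain ⟨u₂, hu₂⟩ : ∃ u₂ : ι → F, u₂ = e + (ε * Q b') • e' := ⟨_, rfl⟩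
  have hu₂x : ∀ x, polar Q u₂ x = polar Q e x + ε * Q b' * polar Q e' x := by
    intro x
    rw [hu₂]
    simp only [polar_add_left, polar_smul_left, smul_eq_mul]
  have hu₂p : polar Q u₂ p = 0 := by
    rw [hu₂x, hep, he'p]
    ring
  have hu₂v : polar Q u₂ v = 0 := by
    rw [hu₂x, hη, polar_comm Q e' v, hve']
    ring
  have hu₂e : polar Q u₂ e = ε ^ 2 * Q b' := by
    rw [hu₂x, hee, ← hεdef]
    ring
  have hQu₂ : Q u₂ = ε ^ 2 * Q b' := by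
    rw [hu₂, QuadraticMap.map_add (⇑Q), QuadraticMap.map_smul, hQe0, he', polar_smul_right, hee']
    simp only [smul_eq_mul]
    ring
  -- `a`, `u₀`
  obtain ⟨a, ha⟩ : ∃ a : F, a = (polar Q u₂ (ρ κ *ᵥ v) + polar Q v (ρ κ *ᵥ v)) / polar Q e v := ⟨_, rfl⟩
  obtain ⟨u₀, hu₀⟩ : ∃ u₀ : ι → F, u₀ = u₂ + v - a • p := ⟨_, rfl⟩
  have hu₀x : ∀ x, polar Q u₀ x = polar Q u₂ x + polar Q v x - a * polar Q p x := by
    intro x
    rw [hu₀]
    simp only [polar_add_left, polar_sub_left, polar_smul_left, smul_eq_mul]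
  have hpJv : polar Q p (ρ κ *ᵥ v) = polar Q e v := by
    rw [hedef, h.ctx.sa]
  have hu₀p : polar Q u₀ p = 0 := by
    rw [hu₀x, hu₂p, hvp, hpp]
    ring
  have hu₀e : polar Q u₀ e = 0 := by
    rw [hu₀x, hu₂e, polar_comm Q v e, hη, hpe0]
    ring
  have hu₀v : polar Q u₀ v = 0 := by
    rw [hu₀x, hu₂v, hvv, polar_comm Q p v, hvp]
    ring
  have hu₀Jv : polar Q u₀ (ρ κ *ᵥ v) = 0 := by
    rw [hu₀x, hpJv, ha]
    field_simp
    ring
  have hQu₀ : Q u₀ = ε ^ 2 * Q b' := by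
    have e1 : u₀ = (u₂ + v) + (-a) • p := by rw [hu₀]; module
    rw [e1, QuadraticMap.map_add (⇑Q), QuadraticMap.map_add (⇑Q), QuadraticMap.map_smul, hQp, hQv, hQu₂,
      polar_smul_right, polar_add_left, hu₂p, hvp, hu₂v]
    simp only [smul_eq_mul]
    ring
  have hQu₀0 : Q u₀ ≠ 0 := by
    rw [hQu₀]
    exact mul_ne_zero (pow_ne_zero 2 hε) hQb
  refine ⟨u₀, hη0, ?_, ?_, hQu₀0, ?_⟩
  · -- `B p u₀ = 0`
    rw [B_eq_zero_iff h hκ h2, ← hedef]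
    exact ⟨by rw [polar_comm]; exact hu₀p, by rw [polar_comm]; exact hu₀e⟩
  · -- `B v u₀ = 0`
    rw [B_eq_zero_iff h hκ h2]
    refine ⟨by rw [polar_comm]; exact hu₀v, ?_⟩
    rw [polar_comm]; exact hu₀Jv
  · -- the action on `W`
    intro w hpw hvw
    obtain ⟨hpw1, hpw2⟩ := (B_eq_zero_iff h hκ h2 p w).mp hpw
    rw [← hedef] at hpw2
    obtain ⟨hvw1, _⟩ := (B_eq_zero_iff h hκ h2 v w).mp hvw
    obtain ⟨c₁, hc₁⟩ := ht w hpw1
    -- `f(b', w) = Q(b') f(e', w)`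
    have hbw : polar Q b' w = Q b' * polar Q e' w := by
      have h1 := hvx w
      rw [hvw1, hpw2, hpw1] at h1
      have h3 : ε * (polar Q b' w - Q b' * polar Q e' w) = 0 := by
        linear_combination -h1
      rcases mul_eq_zero.mp h3 with h4 | h4
      · exact absurd h4 hε
      · exact sub_eq_zero.mp h4
    have hu₀w : polar Q u₀ w = ε * Q b' * polar Q e' w := by
      rw [hu₀x, hu₂x, hvw1, hpw2, hpw1]
      ring
    refine ⟨c₁ - polar Q e' w / ε * (c₀ + a), ?_⟩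
    rw [hc₁]
    unfold egen
    rw [hbw, hu₀w, hQu₀, hu₀, hu₂, hv]
    have e1 : ε * Q b' * polar Q e' w / (ε ^ 2 * Q b') = polar Q e' w / ε := by
      field_simp
    have e2 : 2 * (ε * Q b' * polar Q e' w) / (ε ^ 2 * Q b') = 2 * (polar Q e' w / ε) := by
      field_simp
    rw [e1, e2]
    match_scalars <;> field_simp <;> ring

end Cfsg.Agent.Lib.Helper7.C3O2Leaf
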