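import Mathlib
import Cfsg.Prelude.Def_GeometricClasses
import Cfsg.Agent.Lib.Helper25.C3O2Defs
import Cfsg.Agent.Lib.Helper22.C3O2Tools

/-!
C3O2 market (planner helper25; S5825 conjunct (7), `O_4^-(q^2).2 < Ω_8^-(q)`, `q` odd): leaf **SK `sk`**
(notes/C3O2_leaves.lean, notes/C3O2_plan.md §SK): a matrix mapping every `E`-singular vector `p` into `E p` is `ρ k`.

`sk_core`: for a hyperbolic pair `y, y'`, a vector `z ⟂_E y, y'` with `QE z = c ≠ 0` and `A y = k y`:
`A (μ y') = k μ y'` for all `μ` and `A z = k z`, using the singular vectors `y_a = y + a z - a² c y'`.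
-/

set_option autoImplicit false
set_option linter.unusedSectionVars false
set_option linter.unusedVariables false

namespace Cfsg.Agent.Lib.Helper7.C3O2Leaf
open Matrix Module QuadraticMap Cfsg Cfsg.Geo Cfsg.Agent.Lib.Helper25.OEFsa
  Cfsg.Agent.Lib.Helper25.CD Cfsg.Agent.Lib.Helper25.Siegel
  Cfsg.Agent.Lib.Helper5.NSMax Cfsg.Agent.Lib.Helper5.TSMax Cfsg.Agent.Lib.Helper25.AutO
  Cfsg.Agent.Lib.Helper25.C3O2

variable {F : Type*} [Field F] [Fintype F] {E : Type*} [Field E] [Algebra F E] [FiniteDimensional F E]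
  {ι : Type} [Fintype ι] [DecidableEq ι]
  {ρ : E →ₐ[F] Matrix ι ι F} {Q : QuadraticForm F (ι → F)} {B : (ι → F) → (ι → F) → E} {QE : (ι → F) → E}
  {κ : E} {δ : F}

/-- the `E`-combination `α y + β z + γ y'` -/
def skComb (ρ : E →ₐ[F] Matrix ι ι F) (y z y' : ι → F) (α β γ : E) : ι → F :=
  ρ α *ᵥ y + ρ β *ᵥ z + ρ γ *ᵥ y'

theorem skComb_add (y z y' : ι → F) (α β γ α' β' γ' : E) :
    skComb ρ y z y' α β γ + skComb ρ y z y' α' β' γ' = skComb ρ y z y' (α + α') (β + β') (γ + γ') := by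
  unfold skComb
  rw [rho_add_mulVec, rho_add_mulVec, rho_add_mulVec]
  abel

theorem skComb_sub (y z y' : ι → F) (α β γ α' β' γ' : E) :
    skComb ρ y z y' α β γ - skComb ρ y z y' α' β' γ' = skComb ρ y z y' (α - α') (β - β') (γ - γ') := by
  unfold skComb
  rw [sub_eq_add_neg α, sub_eq_add_neg β, sub_eq_add_neg γ, rho_add_mulVec, rho_add_mulVec, rho_add_mulVec,
    rho_neg_mulVec, rho_neg_mulVec, rho_neg_mulVec]
  abel

theorem rho_skComb (y z y' : ι → F) (k α β γ : E) :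
    ρ k *ᵥ skComb ρ y z y' α β γ = skComb ρ y z y' (k * α) (k * β) (k * γ) := by
  unfold skComb
  rw [Matrix.mulVec_add, Matrix.mulVec_add, rho_mul_mulVec, rho_mul_mulVec, rho_mul_mulVec]

theorem skComb_y (y z y' : ι → F) : skComb ρ y z y' 1 0 0 = y := by
  unfold skComb
  simp only [rho_one_mulVec, rho_zero_mulVec, add_zero, zero_add]

theorem skComb_z (y z y' : ι → F) : skComb ρ y z y' 0 1 0 = z := by
  unfold skComb
  simp only [rho_one_mulVec, rho_zero_mulVec, add_zero, zero_add]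

theorem skComb_y' (y z y' : ι → F) (μ : E) : skComb ρ y z y' 0 0 μ = ρ μ *ᵥ y' := by
  unfold skComb
  simp only [rho_one_mulVec, rho_zero_mulVec, add_zero, zero_add]

section core
variable (h : Forms ρ Q B QE) {y y' z : ι → F} {c : E}
  (hy : QE y = 0) (hy' : QE y' = 0) (hyy' : B y y' = 1) (hyz : B y z = 0) (hy'z : B y' z = 0) (hz : QE z = c)
include h hy hy' hyy' hyz hy'z hz

theorem B_skComb_y' (α β γ : E) : B (skComb ρ y z y' α β γ) y' = α := by
  unfold skComb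
  rw [h.B_add_left, h.B_add_left, h.B_smul_left, h.B_smul_left, h.B_smul_left, hyy', h.B_symm z y', hy'z,
    h.B_self, hy']
  ring

theorem B_skComb_y (α β γ : E) : B (skComb ρ y z y' α β γ) y = γ := by
  unfold skComb
  rw [h.B_add_left, h.B_add_left, h.B_smul_left, h.B_smul_left, h.B_smul_left, h.B_symm y' y, hyy',
    h.B_symm z y, hyz, h.B_self, hy]
  ring

theorem B_skComb_z (α β γ : E) : B (skComb ρ y z y' α β γ) z = 2 * c * β := by
  unfold skComb
  rw [h.B_add_left, h.B_add_left, h.B_smul_left, h.B_smul_left, h.B_smul_left, hyz, hy'z, h.B_self, hz]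
  ring

theorem QE_skComb (α β γ : E) : QE (skComb ρ y z y' α β γ) = β * β * c + α * γ := by
  unfold skComb
  rw [h.QE_add, h.QE_add, h.QE_smul, h.QE_smul, h.QE_smul, hy, hy', hz, h.B_add_left, h.B_smul_left,
    h.B_smul_left, h.B_smul_left, h.B_smul_right, h.B_smul_right, h.B_smul_right, hyy', hyz, h.B_symm z y', hy'z]
  ring

theorem skComb_ne_zero {α β γ : E} (hα : α ≠ 0) : skComb ρ y z y' α β γ ≠ 0 := by
  intro h0
  have h1 := B_skComb_y' h hy hy' hyy' hyz hy'z hz α β γ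
  rw [h0, h.B_zero_left] at h1
  exact hα h1.symm

theorem skComb_ne_zero' {α β γ : E} (hγ : γ ≠ 0) : skComb ρ y z y' α β γ ≠ 0 := by
  intro h0
  have h1 := B_skComb_y h hy hy' hyy' hyz hy'z hz α β γ
  rw [h0, h.B_zero_left] at h1
  exact hγ h1.symm

/-- the core of SK -/
theorem sk_core (h2 : (2 : F) ≠ 0) (hc : c ≠ 0) (A : Matrix ι ι F)
    (hA : ∀ p : ι → F, p ≠ 0 → QE p = 0 → ∃ a : E, A *ᵥ p = ρ a *ᵥ p) {k : E} (hk : A *ᵥ y = ρ k *ᵥ y) :
    (∀ μ : E, A *ᵥ (ρ μ *ᵥ y') = ρ (k * μ) *ᵥ y') ∧ A *ᵥ z = ρ k *ᵥ z := by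
  have h2E : (2 : E) ≠ 0 := by
    intro h0
    apply h2
    apply (algebraMap F E).injective
    rw [map_ofNat, h0, map_zero]
  -- Step A: `A y_a = k y_a`
  have stepA : ∀ a : E, A *ᵥ skComb ρ y z y' 1 a (-(a * a * c)) = ρ k *ᵥ skComb ρ y z y' 1 a (-(a * a * c)) := by
    intro a
    by_cases ha : a = 0
    · rw [ha, mul_zero, zero_mul, neg_zero, skComb_y]
      exact hk
    · -- the three singular vectors
      have hs1 : QE (skComb ρ y z y' 1 a (-(a * a * c))) = 0 := by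
        rw [QE_skComb h hy hy' hyy' hyz hy'z hz]; ring
      have hs2 : QE (skComb ρ y z y' 1 (2 * a) (-((2 * a) * (2 * a) * c))) = 0 := by
        rw [QE_skComb h hy hy' hyy' hyz hy'z hz]; ring
      have hμ : 2 * a * a * c ≠ 0 := mul_ne_zero (mul_ne_zero (mul_ne_zero h2E ha) ha) hc
      have hs3 : QE (skComb ρ y z y' 0 0 (2 * a * a * c)) = 0 := by
        rw [QE_skComb h hy hy' hyy' hyz hy'z hz]; ring
      obtain ⟨k1, hk1⟩ := hA _ (skComb_ne_zero h hy hy' hyy' hyz hy'z hz one_ne_zero) hs1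
      obtain ⟨k2, hk2⟩ := hA _ (skComb_ne_zero h hy hy' hyy' hyz hy'z hz one_ne_zero) hs2
      obtain ⟨k3, hk3⟩ := hA _ (skComb_ne_zero' h hy hy' hyy' hyz hy'z hz hμ) hs3
      have hy1 : A *ᵥ skComb ρ y z y' 1 0 0 = ρ k *ᵥ skComb ρ y z y' 1 0 0 := by
        rw [skComb_y]; exact hk
      have hid : skComb ρ y z y' 1 a (-(a * a * c)) + skComb ρ y z y' 1 a (-(a * a * c)) -
          skComb ρ y z y' 1 (2 * a) (-((2 * a) * (2 * a) * c)) =
          skComb ρ y z y' 1 0 0 + skComb ρ y z y' 0 0 (2 * a * a * c) := by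
        rw [skComb_add, skComb_sub, skComb_add]
        congr 1 <;> ring
      have hAid := congrArg (fun w => A *ᵥ w) hid
      simp only [Matrix.mulVec_add, Matrix.mulVec_sub] at hAid
      rw [hk1, hk2, hk3, hy1, rho_skComb, rho_skComb, rho_skComb, rho_skComb, skComb_add, skComb_sub,
        skComb_add] at hAid
      have e1 := congrArg (fun w => B w y') hAid
      simp only [B_skComb_y' h hy hy' hyy' hyz hy'z hz] at e1
      have e2 := congrArg (fun w => B w z) hAid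
      simp only [B_skComb_z h hy hy' hyy' hyz hy'z hz] at e2
      have e3 : k1 = k2 := by
        have : (2 * c * (2 * a)) * (k1 - k2) = 0 := by linear_combination e2
        rcases mul_eq_zero.mp this with h4 | h4
        · exact absurd h4 (mul_ne_zero (mul_ne_zero h2E hc) (mul_ne_zero h2E ha))
        · exact sub_eq_zero.mp h4
      have e4 : k1 = k := by linear_combination e1 - e3
      rw [hk1, e4]
  -- Step B
  have stepB : ∀ μ : E, A *ᵥ (ρ μ *ᵥ y') = ρ (k * μ) *ᵥ y' := by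
    intro μ
    obtain ⟨a, ha⟩ : ∃ a : E, a = μ / (2 * c) := ⟨_, rfl⟩
    have hμa : 2 * a * c = μ := by
      rw [ha]; field_simp
    have hid : skComb ρ y z y' 1 a (-(a * a * c)) + skComb ρ y z y' 1 1 (-(1 * 1 * c)) -
        skComb ρ y z y' 1 (a + 1) (-((a + 1) * (a + 1) * c)) =
        skComb ρ y z y' 1 0 0 + skComb ρ y z y' 0 0 μ := by
      rw [skComb_add, skComb_sub, skComb_add]
      congr 1
      · ring
      · ring
      · rw [← hμa]; ring
    have h5 : A *ᵥ (skComb ρ y z y' 1 0 0 + skComb ρ y z y' 0 0 μ) =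
        ρ k *ᵥ (skComb ρ y z y' 1 0 0 + skComb ρ y z y' 0 0 μ) := by
      rw [← hid, Matrix.mulVec_sub, Matrix.mulVec_add, stepA a, stepA 1, stepA (a + 1), Matrix.mulVec_sub,
        Matrix.mulVec_add]
    rw [Matrix.mulVec_add, Matrix.mulVec_add, skComb_y, hk, skComb_y'] at h5
    have h6 := add_left_cancel h5
    rw [h6, rho_mul_mulVec]
  refine ⟨stepB, ?_⟩
  -- Step C
  have hid : z = skComb ρ y z y' 1 1 (-(1 * 1 * c)) - y + ρ c *ᵥ y' := by
    unfold skComb
    simp only [rho_one_mulVec, one_mul, rho_neg_mulVec]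
    abel
  have h7 : A *ᵥ (skComb ρ y z y' 1 1 (-(1 * 1 * c)) - y + ρ c *ᵥ y') =
      ρ k *ᵥ (skComb ρ y z y' 1 1 (-(1 * 1 * c)) - y + ρ c *ᵥ y') := by
    rw [Matrix.mulVec_add, Matrix.mulVec_sub, stepA 1, hk, stepB c, Matrix.mulVec_add, Matrix.mulVec_sub,
      rho_mul_mulVec]
  rw [← hid] at h7
  exact h7

end core

/-- SK [M-L]: a matrix stabilising every `E`-singular `E`-line (as an `F`-plane) is in `K`. -/
theorem sk (h : Forms ρ Q B QE) (h2 : (2 : F) ≠ 0) (hE : finrank F E = 2) (hcard : 7 ≤ Fintype.card ι)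
    (hw1 : W1 ρ B QE) (A : Matrix ι ι F)
    (hA : ∀ p : ι → F, p ≠ 0 → QE p = 0 → ∃ a : E, A *ᵥ p = ρ a *ᵥ p) : ∃ k : E, A = ρ k := by
  classical
  -- a hyperbolic pair
  obtain ⟨y, hy0, hy, _⟩ := Cfsg.Agent.Lib.Helper22.C3O2Leaf.exists_esing_perp h h2 hE hcard (0 : ι → F)
  obtain ⟨y', hy', hyy'⟩ := Cfsg.Agent.Lib.Helper22.C3O2Leaf.exists_partner h hy0 hy
  have hy'y : B y' y = 1 := by rw [h.B_symm]; exact hyy'
  have hy'0 : y' ≠ 0 := by
    rintro rfl
    rw [h.B_zero_right] at hyy'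
    exact zero_ne_one hyy'
  -- the `E`-orthogonal projection
  obtain ⟨zf, hzf⟩ : ∃ zf : (ι → F) → (ι → F), ∀ v, zf v = v - ρ (B v y') *ᵥ y - ρ (B v y) *ᵥ y' :=
    ⟨_, fun _ => rfl⟩
  have hBsub : ∀ u v w : ι → F, B (u - v) w = B u w - B v w := by
    intro u v w
    rw [sub_eq_add_neg, h.B_add_left, h.B_neg_left, sub_eq_add_neg]
  have hyy : B y y = 0 := by rw [h.B_self, hy, mul_zero]
  have hy'y'0 : B y' y' = 0 := by rw [h.B_self, hy', mul_zero]
  have hzy : ∀ v, B y (zf v) = 0 := by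
    intro v
    rw [hzf, h.B_symm, hBsub, hBsub, h.B_smul_left, h.B_smul_left, hyy, hy'y]
    ring
  have hzy' : ∀ v, B y' (zf v) = 0 := by
    intro v
    rw [hzf, h.B_symm, hBsub, hBsub, h.B_smul_left, h.B_smul_left, hyy', hy'y'0]
    ring
  have hz0 : ∀ v, QE (zf v) = 0 → zf v = 0 := by
    intro v hv
    obtain ⟨a, ha⟩ := hw1 y (zf v) hy0 hy hv (hzy v)
    have h1 := hzy' v
    rw [ha, h.B_smul_right, hy'y, mul_one] at h1
    rw [ha, h1, rho_zero_mulVec]
  -- some `z_v ≠ 0` (dimension count)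
  obtain ⟨v₀, hv₀⟩ : ∃ v₀, zf v₀ ≠ 0 := by
    by_contra hcon
    push Not at hcon
    let T : (E × E) →ₗ[F] (ι → F) :=
      { toFun := fun ab => ρ ab.1 *ᵥ y + ρ ab.2 *ᵥ y'
        map_add' := by
          intro a b
          simp only [Prod.fst_add, Prod.snd_add, rho_add_mulVec]
          abel
        map_smul' := by
          intro c a
          simp only [Prod.smul_fst, Prod.smul_snd, rho_smul_mulVec, RingHom.id_apply, smul_add] }
    have hsurj : Function.Surjective T := by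
      intro v
      refine ⟨(B v y', B v y), ?_⟩
      have h1 := hcon v
      rw [hzf, sub_sub, sub_eq_zero] at h1
      exact h1.symm
    have h1 : finrank F (ι → F) ≤ finrank F (E × E) := by
      have h3 := LinearMap.finrank_range_le T
      rw [LinearMap.range_eq_top.mpr hsurj, finrank_top] at h3
      exact h3
    rw [Module.finrank_prod, hE, Module.finrank_fintype_fun_eq_card] at h1
    omega
  obtain ⟨c, hc⟩ : ∃ c, c = QE (zf v₀) := ⟨_, rfl⟩
  have hc0 : c ≠ 0 := by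
    intro h0
    rw [h0] at hc
    exact hv₀ (hz0 v₀ hc.symm)
  obtain ⟨k, hk⟩ := hA y hy0 hy
  obtain ⟨hB1, _⟩ := sk_core h hy hy' hyy' (hzy v₀) (hzy' v₀) hc.symm h2 hc0 A hA hk
  have hk' : A *ᵥ y' = ρ k *ᵥ y' := by
    have h1 := hB1 1
    rwa [rho_one_mulVec, mul_one] at h1
  obtain ⟨hB2, _⟩ := sk_core h hy' hy hy'y (hzy' v₀) (hzy v₀) hc.symm h2 hc0 A hA hk'
  refine ⟨k, ?_⟩
  apply Matrix.toLin'.injective
  apply LinearMap.ext
  intro v
  rw [Matrix.toLin'_apply, Matrix.toLin'_apply]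
  have hzv : A *ᵥ zf v = ρ k *ᵥ zf v := by
    by_cases hq : QE (zf v) = 0
    · rw [hz0 v hq, Matrix.mulVec_zero, Matrix.mulVec_zero]
    · exact (sk_core h hy hy' hyy' (hzy v) (hzy' v) rfl h2 hq A hA hk).2
  obtain ⟨α, hα⟩ : ∃ α, α = B v y' := ⟨_, rfl⟩
  obtain ⟨γ, hγ⟩ : ∃ γ, γ = B v y := ⟨_, rfl⟩
  obtain ⟨w, hw⟩ : ∃ w, w = zf v := ⟨_, rfl⟩
  have hv : v = w + ρ α *ᵥ y + ρ γ *ᵥ y' := by
    rw [hw, hzf, hα, hγ]
    abel
  rw [← hw] at hzv
  rw [hv, Matrix.mulVec_add, Matrix.mulVec_add, Matrix.mulVec_add, Matrix.mulVec_add, hzv, hB2 α, hB1 γ,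
    rho_mul_mulVec, rho_mul_mulVec]

end Cfsg.Agent.Lib.Helper7.C3O2Leaf
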