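import Mathlib
import Cfsg.Prelude.Def_ClassicalGeometry
import Cfsg.Prelude.Def_GeometricClasses
import Cfsg.Agent.Lib.Helper24.C3lDefs

/-!
S5886 leaf L0 (`exists_KL`): the `E`-structure from the frozen hypotheses, `E := ↥K` with the
field structure given by `hK`, `ρ := K.val`.
-/

set_option autoImplicit false
set_option linter.unusedSectionVars false
set_option linter.unusedVariables false

namespace Cfsg.Agent.Lib.Helper7.C3lLeaf
open Cfsg Matrix Module Cfsg.Agent.Lib.Helper24.C3l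

universe u
variable {F : Type u} [Field F] {n : ℕ}

local notation "𝕍" => (Fin n → F)
local notation "𝕄" => Matrix (Fin n) (Fin n) F

theorem exists_KL (hn : 0 < n) (r : ℕ) (K : Subalgebra F 𝕄)
    (hK : Cfsg.Geo.IsFieldSubalgebra r K) :
    ∃ (E : Type u) (_ : Field E) (_ : Algebra F E) (S : KL n F E),
      S.ρ.range = K ∧ finrank F E = r := by
  classical
  have hnt : (1 : 𝕄) ≠ 0 := by
    intro h
    have := congrFun (congrFun h ⟨0, hn⟩) ⟨0, hn⟩
    rw [Matrix.one_apply_eq, Matrix.zero_apply] at this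
    exact one_ne_zero this
  have hF : IsField ↥K :=
    { exists_pair_ne := ⟨0, 1, fun h => hnt (congrArg Subtype.val h).symm⟩
      mul_comm := fun x y => Subtype.ext (hK.comm (x : 𝕄) x.2 (y : 𝕄) y.2)
      mul_inv_cancel := fun {a} ha => by
        have ha' : (a : 𝕄) ≠ 0 := fun h => ha (Subtype.ext h)
        obtain ⟨y, hyK, hy⟩ := hK.inv (a : 𝕄) a.2 ha'
        exact ⟨⟨y, hyK⟩, Subtype.ext hy⟩ }
  letI instF : Field ↥K := hF.toField
  refine ⟨↥K, instF, K.algebra, ?_⟩
  refine ⟨@KL.mk n F _ ↥K instF K.algebra K.val, ?_, ?_⟩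
  · exact Subalgebra.range_val K
  · exact hK.finrank_eq

/-- the `E` of `exists_KL` is finite-dimensional over `F` as soon as `r ≠ 0` -/
theorem exists_KL' (hn : 0 < n) (r : ℕ) (hr : r ≠ 0) (K : Subalgebra F 𝕄)
    (hK : Cfsg.Geo.IsFieldSubalgebra r K) :
    ∃ (E : Type u) (_ : Field E) (_ : Algebra F E) (_ : FiniteDimensional F E) (S : KL n F E),
      S.ρ.range = K ∧ finrank F E = r := by
  obtain ⟨E, iE, iA, S, h1, h2⟩ := exists_KL hn r K hK
  refine ⟨E, iE, iA, ?_, S, h1, h2⟩
  exact Module.finite_of_finrank_pos (by rw [h2]; exact Nat.pos_of_ne_zero hr)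

end Cfsg.Agent.Lib.Helper7.C3lLeaf
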