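/-
helper7: S3351 CT-A leaf GEN `tv_mem_closure_fund` (transvections on an initial segment are generated by the
fundamental ones).
-/
import Cfsg.Agent.Lib.Helper11.CTADefs

set_option autoImplicit false

namespace Cfsg.Agent.Lib.Helper7.CTAGEN

open Matrix Cfsg.Agent.Lib.Helper11.CTA
open Cfsg.Agent.Lib.Helper8.StSL

variable {F : Type*} [Field F]

/-- the generating set -/
def fundSet (F : Type*) [Field F] (N m : ℕ) : Set (Matrix.SpecialLinearGroup (Fin N) F) :=
  {g | ∃ (i j : Fin N) (s : F), i.val + 1 = j.val ∧ j.val < m ∧ (g = tv i j s ∨ g = tv j i s)}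

theorem tv_rel {N : ℕ} (a c b : Fin N) (hac : a ≠ c) (hcb : c ≠ b) (hab : a ≠ b) (t : F) :
    (tv a b t : Matrix.SpecialLinearGroup (Fin N) F) =
      tv a c t * tv c b 1 * (tv a c t)⁻¹ * (tv c b 1)⁻¹ := by
  have h := (slRel (Fin N) F).rel a c b hac hcb hab t 1
  rw [mul_one] at h
  exact h.symm

theorem up_mem {N : ℕ} (m : ℕ) : ∀ (d : ℕ) (a b : Fin N), a.val + (d + 1) = b.val → b.val < m →
    ∀ t : F, tv a b t ∈ Subgroup.closure (fundSet F N m) := by
  intro d
  induction d with
  | zero =>
    intro a b h hb t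
    exact Subgroup.subset_closure ⟨a, b, t, by omega, hb, Or.inl rfl⟩
  | succ d ih =>
    intro a b h hb t
    have hcN : a.val + 1 < N := by have := b.2; omega
    set c : Fin N := ⟨a.val + 1, hcN⟩ with hc
    have hcv : c.val = a.val + 1 := rfl
    have hac : a ≠ c := by
      intro e; have := congrArg Fin.val e; omega
    have hcb : c ≠ b := by
      intro e; have := congrArg Fin.val e; omega
    have hab : a ≠ b := by
      intro e; have := congrArg Fin.val e; omega
    rw [tv_rel a c b hac hcb hab t]
    have h1 : (tv a c t : Matrix.SpecialLinearGroup (Fin N) F) ∈ Subgroup.closure (fundSet F N m) :=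
      Subgroup.subset_closure ⟨a, c, t, by omega, by omega, Or.inl rfl⟩
    have h2 : (tv c b 1 : Matrix.SpecialLinearGroup (Fin N) F) ∈ Subgroup.closure (fundSet F N m) :=
      ih c b (by omega) hb 1
    exact Subgroup.mul_mem _ (Subgroup.mul_mem _ (Subgroup.mul_mem _ h1 h2) (Subgroup.inv_mem _ h1))
      (Subgroup.inv_mem _ h2)

theorem down_mem {N : ℕ} (m : ℕ) : ∀ (d : ℕ) (a b : Fin N), b.val + (d + 1) = a.val → a.val < m →
    ∀ t : F, tv a b t ∈ Subgroup.closure (fundSet F N m) := by
  intro d
  induction d with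
  | zero =>
    intro a b h ha t
    exact Subgroup.subset_closure ⟨b, a, t, by omega, ha, Or.inr rfl⟩
  | succ d ih =>
    intro a b h ha t
    have hcN : b.val + 1 < N := by have := a.2; omega
    set c : Fin N := ⟨b.val + 1, hcN⟩ with hc
    have hcv : c.val = b.val + 1 := rfl
    have hac : a ≠ c := by
      intro e; have := congrArg Fin.val e; omega
    have hcb : c ≠ b := by
      intro e; have := congrArg Fin.val e; omega
    have hab : a ≠ b := by
      intro e; have := congrArg Fin.val e; omega
    rw [tv_rel a c b hac hcb hab t]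
    have h1 : (tv a c t : Matrix.SpecialLinearGroup (Fin N) F) ∈ Subgroup.closure (fundSet F N m) :=
      ih a c (by omega) ha t
    have h2 : (tv c b 1 : Matrix.SpecialLinearGroup (Fin N) F) ∈ Subgroup.closure (fundSet F N m) :=
      Subgroup.subset_closure ⟨b, c, 1, by omega, by omega, Or.inr rfl⟩
    exact Subgroup.mul_mem _ (Subgroup.mul_mem _ (Subgroup.mul_mem _ h1 h2) (Subgroup.inv_mem _ h1))
      (Subgroup.inv_mem _ h2)

/-- LEAF **GEN**: the transvections on an initial segment are generated by the fundamental ones. -/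
theorem tv_mem_closure_fund {N : ℕ} (m : ℕ) (a b : Fin N) (hab : a ≠ b) (ha : a.val < m)
    (hb : b.val < m) (t : F) :
    tv a b t ∈ Subgroup.closure {g : Matrix.SpecialLinearGroup (Fin N) F | ∃ (i j : Fin N) (s : F),
      i.val + 1 = j.val ∧ j.val < m ∧ (g = tv i j s ∨ g = tv j i s)} := by
  have hne : a.val ≠ b.val := fun e => hab (Fin.ext e)
  rcases lt_or_gt_of_ne hne with h | h
  · exact up_mem m (b.val - a.val - 1) a b (by omega) hb t
  · exact down_mem m (a.val - b.val - 1) a b (by omega) ha t

end Cfsg.Agent.Lib.Helper7.CTAGEN
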