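/-
helper7: S3351 CT-A leaf PAIR `exists_sl_map_pair` (`SL` is transitive on independent pairs, `|I| ≥ 3`).
-/
import Cfsg.Agent.Lib.Helper11.CTADefs
import Cfsg.Agent.Lib.Helper8.StSLD

set_option autoImplicit false

namespace Cfsg.Agent.Lib.Helper7.CTAPAIR

open Matrix Cfsg.Agent.Lib.Helper11.CTA
open Cfsg.Agent.Lib.Helper8.StSL Cfsg.Agent.Lib.Helper25.SLRoot

variable {I : Type*} [Fintype I] [DecidableEq I] {F : Type*} [Field F]

theorem single_dot_single {a b : I} (h : a ≠ b) :
    (Pi.single a (1 : F) : I → F) ⬝ᵥ Pi.single b (1 : F) = 0 := by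
  rw [single_dotProduct, Pi.single_eq_of_ne h, mul_zero]

/-- first case: `c` has a nonzero entry outside `{o, p}` -/
theorem exists_fix_map_of_entry {o p k : I} (hpo : p ≠ o) (hko : k ≠ o) (hkp : k ≠ p) (c : I → F)
    (hck : c k ≠ 0) :
    ∃ u : Matrix.SpecialLinearGroup I F, (u : Matrix I I F) *ᵥ Pi.single o 1 = Pi.single o 1 ∧
      (u : Matrix I I F) *ᵥ Pi.single p 1 = c := by
  set w : I → F := c - Pi.single p (c p) with hw
  have hw0 : (Pi.single p (1 : F) : I → F) ⬝ᵥ w = 0 := by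
    rw [single_dotProduct, hw]
    simp
  have hk0 : (Pi.single k (1 : F) : I → F) ⬝ᵥ Pi.single p (1 : F) = 0 := single_dot_single hkp
  refine ⟨tvSL (Pi.single p 1) (Pi.single k 1) hk0 ((c p - 1) / c k) * tvSL w (Pi.single p 1) hw0 1,
    ?_, ?_⟩
  · rw [Matrix.SpecialLinearGroup.coe_mul, ← mulVec_mulVec, tvSL_mulVec, tvSL_mulVec]
    rw [single_dot_single hpo, mul_zero, zero_smul, add_zero, single_dot_single hko, mul_zero,
      zero_smul, add_zero]
  · rw [Matrix.SpecialLinearGroup.coe_mul, ← mulVec_mulVec, tvSL_mulVec, tvSL_mulVec]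
    ext i
    simp only [single_dotProduct, one_mul, Pi.add_apply, Pi.smul_apply, smul_eq_mul, Pi.single_eq_same,
      mul_one, hw, Pi.sub_apply, Pi.single_eq_of_ne hkp, sub_zero]
    by_cases hi : i = p
    · subst hi
      simp only [Pi.single_eq_same]
      field_simp
      ring
    · simp only [Pi.single_eq_of_ne hi, sub_zero, mul_zero, add_zero, zero_add]

/-- general case: `c` is not a multiple of `e_o` -/
theorem exists_fix_map (h3 : 3 ≤ Fintype.card I) {o p : I} (hpo : p ≠ o) (c : I → F)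
    (hc : ∃ k, k ≠ o ∧ c k ≠ 0) :
    ∃ u : Matrix.SpecialLinearGroup I F, (u : Matrix I I F) *ᵥ Pi.single o 1 = Pi.single o 1 ∧
      (u : Matrix I I F) *ᵥ Pi.single p 1 = c := by
  by_cases h : ∃ k, k ≠ o ∧ k ≠ p ∧ c k ≠ 0
  · obtain ⟨k, hko, hkp, hck⟩ := h
    exact exists_fix_map_of_entry hpo hko hkp c hck
  · push Not at h
    obtain ⟨k, hko, hck⟩ := hc
    have hkp : k = p := by
      by_contra hne
      exact hck (h k hko hne)
    subst hkp
    -- a third index
    obtain ⟨q, hqo, hqp⟩ : ∃ q : I, q ≠ o ∧ q ≠ k := by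
      by_contra hno
      push Not at hno
      have hsub : (Finset.univ : Finset I) ⊆ {o, k} := by
        intro x _
        by_cases hx : x = o
        · simp [hx]
        · simp [hno x hx]
      have := Finset.card_le_card hsub
      rw [Finset.card_univ] at this
      have h2 : ({o, k} : Finset I).card ≤ 2 := Finset.card_le_two
      omega
    have hS0 : (Pi.single k (1 : F) : I → F) ⬝ᵥ Pi.single q (1 : F) = 0 := single_dot_single hqp.symm
    set S : Matrix.SpecialLinearGroup I F := tvSL (Pi.single q 1) (Pi.single k 1) hS0 1 with hS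
    set c' : I → F := (S : Matrix I I F) *ᵥ c with hc'
    have hc'q : c' q ≠ 0 := by
      rw [hc', hS, tvSL_mulVec]
      simp only [single_dotProduct, one_mul, Pi.add_apply, Pi.smul_apply, smul_eq_mul,
        Pi.single_eq_same, mul_one]
      rw [h q hqo hqp, zero_add]
      exact hck
    obtain ⟨u', hu'o, hu'p⟩ := exists_fix_map_of_entry hpo hqo hqp c' hc'q
    have hSo : (S : Matrix I I F) *ᵥ Pi.single o 1 = Pi.single o 1 := by
      rw [hS, tvSL_mulVec, single_dot_single hpo, mul_zero, zero_smul, add_zero]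
    refine ⟨S⁻¹ * u', ?_, ?_⟩
    · rw [Matrix.SpecialLinearGroup.coe_mul, ← mulVec_mulVec, hu'o]
      conv_lhs => rw [← hSo]
      exact sl_inv_mulVec S _
    · rw [Matrix.SpecialLinearGroup.coe_mul, ← mulVec_mulVec, hu'p, hc']
      exact sl_inv_mulVec S _

/-- LEAF **PAIR**: `SL` is transitive on linearly independent pairs when there are at least three indices. -/
theorem exists_sl_map_pair (h3 : 3 ≤ Fintype.card I) {o p : I} (hpo : p ≠ o) (v w : I → F)
    (hvw : ∀ x y : F, x • v + y • w = 0 → x = 0 ∧ y = 0) :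
    ∃ k : Matrix.SpecialLinearGroup I F, (k : Matrix I I F) *ᵥ Pi.single o 1 = v ∧
      (k : Matrix I I F) *ᵥ Pi.single p 1 = w := by
  have hv : v ≠ 0 := by
    intro h0
    have := (hvw 1 0 (by rw [h0, smul_zero, zero_smul, add_zero])).1
    exact one_ne_zero this
  obtain ⟨k₁, hk₁⟩ := exists_sl_mulVec_single o ⟨p, hpo⟩ v hv
  set w' : I → F := ((k₁⁻¹ : Matrix.SpecialLinearGroup I F) : Matrix I I F) *ᵥ w with hw'
  have hw'k : (k₁ : Matrix I I F) *ᵥ w' = w := sl_mulVec_inv k₁ w
  have hc : ∃ k, k ≠ o ∧ w' k ≠ 0 := by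
    by_contra hno
    push Not at hno
    have hw'e : w' = w' o • Pi.single o 1 := by
      ext i
      by_cases hi : i = o
      · subst hi; simp
      · rw [hno i hi]; simp [hi]
    have hwv : w = w' o • v := by
      rw [← hw'k, hw'e, mulVec_smul, hk₁]
      simp
    have := (hvw (- w' o) 1 (by rw [hwv]; simp)).2
    exact one_ne_zero this
  obtain ⟨u, huo, hup⟩ := exists_fix_map h3 hpo w' hc
  refine ⟨k₁ * u, ?_, ?_⟩
  · rw [Matrix.SpecialLinearGroup.coe_mul, ← mulVec_mulVec, huo, hk₁]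
  · rw [Matrix.SpecialLinearGroup.coe_mul, ← mulVec_mulVec, hup, hw'k]

end Cfsg.Agent.Lib.Helper7.CTAPAIR
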