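import Mathlib
import Cfsg.Agent.Lib.Helper23.CTIDefs2
import Cfsg.Agent.Lib.Helper22.PSLCongr
import Cfsg.Agent.S1230

/-!
helper7: PACKAGE D of S4064 (helper23): an abstract `PSLlike` group is `PSL₂(2ⁿ)`, via S1230.
-/

set_option autoImplicit false
set_option linter.style.haveILetI false

namespace Cfsg.Agent.Lib.Helper7.CTID

open Cfsg Cfsg.Agent.Lib.Helper23.CTI
open scoped Pointwise

theorem pslIso_of_PSLlike {G : Type*} [Group G] [Finite G] (h : PSLlike G) :
    ∃ n : ℕ, 2 ≤ n ∧
      Nonempty (G ≃* Matrix.ProjectiveSpecialLinearGroup (Fin 2) (GaloisField 2 n)) := by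
  classical
  obtain ⟨P, h4, hcent, htrans, hidx⟩ := h.exists_syl
  -- P is abelian
  have hab : ∀ x ∈ (P : Subgroup G), ∀ y ∈ (P : Subgroup G), x * y = y * x := by
    intro x hx y hy
    by_cases hx1 : x = 1
    · rw [hx1, one_mul, mul_one]
    · have hy' : y ∈ Subgroup.centralizer ({x} : Set G) := by rw [hcent x hx hx1]; exact hy
      rw [Subgroup.mem_centralizer_iff] at hy'
      exact hy' x (Set.mem_singleton x)
  -- the order of P
  obtain ⟨n, hn⟩ := IsPGroup.iff_card.mp P.isPGroup'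
  have hn2 : 2 ≤ n := by
    by_contra hlt
    have hn1 : n ≤ 1 := by omega
    have : 2 ^ n ≤ 2 ^ 1 := Nat.pow_le_pow_right (by norm_num) hn1
    rw [hn] at h4
    omega
  -- an involution in P
  haveI : Fact (Nat.Prime 2) := ⟨Nat.prime_two⟩
  have h2dvd : 2 ∣ Nat.card (P : Subgroup G) := by
    rw [hn]
    exact dvd_pow_self 2 (by omega)
  obtain ⟨t₀', ht₀'⟩ := exists_prime_orderOf_dvd_card' 2 h2dvd
  set t₀ : G := (t₀' : G) with ht₀def
  have ht₀P : t₀ ∈ (P : Subgroup G) := t₀'.2
  have ht₀ : orderOf t₀ = 2 := by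
    rw [ht₀def, Subgroup.orderOf_coe]
    exact ht₀'
  have ht₀1 : t₀ ≠ 1 := by
    intro h1
    rw [h1, orderOf_one] at ht₀
    omega
  -- all nonidentity elements of P are involutions
  have hinv : ∀ s ∈ (P : Subgroup G), s ≠ 1 → orderOf s = 2 := by
    intro s hs hs1
    obtain ⟨g, -, hg⟩ := htrans t₀ ht₀P ht₀1 s hs hs1
    rw [← hg]
    have hconj : g * t₀ * g⁻¹ = MulAut.conj g t₀ := rfl
    rw [hconj, MulEquiv.orderOf_eq]
    exact ht₀
  have hsq : ∀ s ∈ (P : Subgroup G), s ^ 2 = 1 := by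
    intro s hs
    by_cases hs1 : s = 1
    · rw [hs1, one_pow]
    · rw [← hinv s hs hs1]
      exact pow_orderOf_eq_one s
  -- P is not cyclic
  have hnc : ¬ IsCyclic (P : Subgroup G) := by
    intro hcyc
    obtain ⟨g, hg⟩ := hcyc.exists_generator
    have hog : orderOf g = Nat.card (P : Subgroup G) := orderOf_eq_card_of_forall_mem_zpowers hg
    have hg2 : g ^ 2 = 1 := by
      apply Subtype.ext
      rw [Subgroup.coe_pow, Subgroup.coe_one]
      exact hsq g g.2
    have hle : orderOf g ≤ 2 := orderOf_le_of_pow_eq_one (by norm_num) hg2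
    omega
  -- P is not normal
  have hnn : ¬ (P : Subgroup G).Normal := by
    intro hN
    have htop : Subgroup.normalizer ((P : Subgroup G) : Set G) = ⊤ :=
      Subgroup.normalizer_eq_top_iff.mpr hN
    rw [htop, Subgroup.index_top] at hidx
    omega
  -- centralizers of involutions
  have hC : ∀ t : G, orderOf t = 2 →
      IsMulCommutative (Subgroup.centralizer ({t} : Set G)) ∧
        ∀ c ∈ Subgroup.centralizer ({t} : Set G), c ^ 2 = 1 := by
    intro t ht
    have ht1 : t ≠ 1 := by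
      intro h1
      rw [h1, orderOf_one] at ht
      omega
    -- t lies in a conjugate of P
    have hpg : IsPGroup 2 (Subgroup.zpowers t) := by
      rw [IsPGroup.iff_card]
      refine ⟨1, ?_⟩
      rw [Nat.card_zpowers, ht, pow_one]
    obtain ⟨Q, hQ⟩ := hpg.exists_le_sylow
    obtain ⟨g, hg⟩ := MulAction.exists_smul_eq G Q P
    have htQ : t ∈ (Q : Subgroup G) := hQ (Subgroup.mem_zpowers t)
    have hgt : g * t * g⁻¹ ∈ (P : Subgroup G) := by
      have h1 : MulAut.conj g • t ∈ MulAut.conj g • (Q : Subgroup G) :=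
        Subgroup.smul_mem_pointwise_smul _ _ _ htQ
      have h2 : ((g • Q : Sylow 2 G) : Subgroup G) = MulAut.conj g • (Q : Subgroup G) := rfl
      rw [← h2, hg] at h1
      exact h1
    have hgt1 : g * t * g⁻¹ ≠ 1 := by
      intro h1
      apply ht1
      have h2 : g⁻¹ * (g * t * g⁻¹) * g = t := by group
      rw [← h2, h1]
      group
    have hCP := hcent (g * t * g⁻¹) hgt hgt1
    have hmem : ∀ c ∈ Subgroup.centralizer ({t} : Set G), g * c * g⁻¹ ∈ (P : Subgroup G) := by
      intro c hc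
      rw [← hCP, Subgroup.mem_centralizer_iff]
      intro y hy
      rw [Set.mem_singleton_iff] at hy
      rw [Subgroup.mem_centralizer_iff] at hc
      have hct : t * c = c * t := hc t (Set.mem_singleton t)
      rw [hy]
      calc g * t * g⁻¹ * (g * c * g⁻¹) = g * (t * c) * g⁻¹ := by group
        _ = g * (c * t) * g⁻¹ := by rw [hct]
        _ = g * c * g⁻¹ * (g * t * g⁻¹) := by group
    constructor
    · refine ⟨⟨fun a b => Subtype.ext ?_⟩⟩
      have hcomm := hab _ (hmem a a.2) _ (hmem b b.2)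
      change (a : G) * (b : G) = (b : G) * (a : G)
      have e1 : (a : G) * (b : G) = g⁻¹ * ((g * (a : G) * g⁻¹) * (g * (b : G) * g⁻¹)) * g := by group
      have e2 : (b : G) * (a : G) = g⁻¹ * ((g * (b : G) * g⁻¹) * (g * (a : G) * g⁻¹)) * g := by group
      rw [e1, e2, hcomm]
    · intro c hc
      have h1 := hsq _ (hmem c hc)
      have e1 : c ^ 2 = g⁻¹ * ((g * c * g⁻¹) ^ 2) * g := by
        rw [pow_two, pow_two]
        group
      rw [e1, h1]
      group
  obtain ⟨F, hF1, hF2, hcard, ⟨e⟩⟩ := Cfsg.Agent.S1230.result P hnc hnn hC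
  refine ⟨n, hn2, ?_⟩
  letI := hF1
  letI := hF2
  letI : Fintype (GaloisField 2 n) := Fintype.ofFinite _
  have hcard' : Fintype.card F = Fintype.card (GaloisField 2 n) := by
    rw [hcard, hn, ← Nat.card_eq_fintype_card, GaloisField.card 2 n (by omega)]
  obtain ⟨e'⟩ := Cfsg.Agent.Lib.Helper22.PSLCongr.nonempty_pslCongr_of_card_eq (n := Fin 2) hcard'
  exact ⟨e.trans e'⟩

end Cfsg.Agent.Lib.Helper7.CTID
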