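import Cfsg.Agent.Lib.Helper11.CTDefs2
import Cfsg.Agent.Lib.Helper11.StPresU5
import Cfsg.Agent.Lib.Helper7.ChevCoef
import Cfsg.Agent.Lib.Helper7.ChevConjMain
import Cfsg.Agent.Lib.Helper18.CTCHKC
import Cfsg.Agent.Lib.Helper18.CTTREE

/-! Curtis–Tits (S1164, helper11's plan), leaf PAIR (helper7): the relations (R2) for ALL pairs of roots in the
Curtis–Tits group, from the good edges: a word `L` in the fundamental reflections moves the pair into a
fundamental rank-two subsystem `Φ_ij`; `g = nW L` conjugates the root elements accordingly; on the subgroup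
generated by the root elements of `P = {q ∈ Φ_ij | f q > 0}` the homomorphism `θ` is injective (`PData.inj_YP`),
and both sides of (R2), conjugated by `g`, lie there and have the same image. -/

set_option autoImplicit false

namespace Cfsg.Agent.Lib.Helper7.CTPAIR

open Cfsg Cfsg.Lie Matrix
open Cfsg.Agent.Lib.Helper7
open Cfsg.Agent.Lib.Helper11.StPres
open Cfsg.Agent.Lib.Helper11.CT

/-! ## additive functionals and reflections -/

section Refl
variable {D : ChevalleyDatum}

theorem chainAdd_congr {A B : ℕ → ℤ} (hB : ChainAdd D B) (h : ∀ q < D.nroots, A q = B q) : ChainAdd D A :=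
  ⟨fun s hs hn => by rw [h s hs, h _ hn, hB.negA s hs hn],
   fun s hs v hv x hx hx1 => by rw [h _ hx1, h v hv, h s hs, hB.addA s hs v hv x hx hx1]⟩

/-- additive functionals whose composite with every fundamental reflection differs from them by a multiple of
the Cartan functional of the reflection -/
structure ReflAdd (D : ChevalleyDatum) (A : ℕ → ℤ) : Prop where
  ca : ChainAdd D A
  rf : ∀ k < D.rank, ∃ e : ℤ, ∀ q < D.nroots, A (D.reflectRoot k q) = A q + e * D.cartan k q

theorem reflAdd_zero : ReflAdd D (fun _ => 0) :=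
  ⟨chainAdd_zero D, fun _ _ => ⟨0, fun _ _ => by ring⟩⟩

theorem ReflAdd.add {A B : ℕ → ℤ} (hA : ReflAdd D A) (hB : ReflAdd D B) : ReflAdd D (fun s => A s + B s) :=
  ⟨hA.ca.add hB.ca, fun k hk => by
    obtain ⟨e, he⟩ := hA.rf k hk
    obtain ⟨e', he'⟩ := hB.rf k hk
    refine ⟨e + e', fun q hq => ?_⟩
    show A (D.reflectRoot k q) + B (D.reflectRoot k q) = A q + B q + (e + e') * D.cartan k q
    rw [he q hq, he' q hq]; ring⟩

theorem ReflAdd.smul {A : ℕ → ℤ} (hA : ReflAdd D A) (c : ℤ) : ReflAdd D (fun s => c * A s) :=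
  ⟨hA.ca.smul c, fun k hk => by
    obtain ⟨e, he⟩ := hA.rf k hk
    refine ⟨c * e, fun q hq => ?_⟩
    show c * A (D.reflectRoot k q) = c * A q + c * e * D.cartan k q
    rw [he q hq]; ring⟩

theorem reflAdd_listSum (L : List ℕ) (c : ℕ → ℤ) (A : ℕ → ℕ → ℤ) (hA : ∀ k ∈ L, ReflAdd D (A k)) :
    ReflAdd D (fun s => (L.map fun k => c k * A k s).sum) := by
  induction L with
  | nil => simpa using reflAdd_zero (D := D)
  | cons a L ih =>
    have h1 := (hA a (List.mem_cons_self ..)).smul (c a)
    have h2 := ih (fun k hk => hA k (List.mem_cons_of_mem _ hk))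
    simpa using h1.add h2

variable (hD : D ∈ [chevG2, chevB2, chevD4, chevF4, chevE6, chevE7, chevE8])
include hD

theorem reflAdd_cartan (j : ℕ) (hj : j < D.rank) : ReflAdd D (D.cartan j) :=
  ⟨chainAdd_cartan D j (hxFacts_of_mem D hD j hj), fun k hk => ⟨- D.cartan j (D.simple k), fun q hq => by
    rw [(conjFacts_of_mem D hD k hk).carRefl j hj q hq]; ring⟩⟩

theorem reflAdd_linF (w : List ℤ) : ReflAdd D (linF D w) :=
  reflAdd_listSum (List.range D.rank) (fun k => w.getD k 0) (fun k => D.cartan k)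
    (fun k hk => reflAdd_cartan hD k (List.mem_range.mp hk))

theorem reflAdd_carR (r : ℕ) : ReflAdd D (carR D r) := by
  unfold carR
  exact reflAdd_listSum (List.range D.rank) (fun k => (D.coroot.getD r #[]).getD k 0) (fun k => D.cartan k)
    (fun k hk => reflAdd_cartan hD k (List.mem_range.mp hk))

theorem ReflAdd.comp {A : ℕ → ℤ} (hA : ReflAdd D A) (l : ℕ) (hl : l < D.rank) :
    ReflAdd D (fun q => A (D.reflectRoot l q)) := by
  obtain ⟨el, hel⟩ := hA.rf l hl
  refine ⟨chainAdd_congr (hA.ca.add ((chainAdd_cartan D l (hxFacts_of_mem D hD l hl)).smul el))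
    (fun q hq => hel q hq), fun k hk => ?_⟩
  obtain ⟨ek, hek⟩ := hA.rf k hk
  have hC := conjFacts_of_mem D hD k hk
  refine ⟨ek - el * D.cartan l (D.simple k), fun q hq => ?_⟩
  show A (D.reflectRoot l (D.reflectRoot k q)) = A (D.reflectRoot l q) + _
  rw [hel _ (hC.wlt q hq), hek q hq, hC.carRefl l hl q hq, hel q hq]
  ring

theorem ReflAdd.word : ∀ (L : List ℕ), (∀ l ∈ L, l < D.rank) → ∀ {A : ℕ → ℤ}, ReflAdd D A →
    ReflAdd D (fun q => A (reflWord D L q))
  | [], _, _, hA => hA
  | l :: L, hL, _, hA =>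
    ReflAdd.word L (fun k hk => hL k (List.mem_cons_of_mem _ hk)) (hA.comp hD l (hL l List.mem_cons_self))

/-! ## the action of words in the fundamental reflections on the roots -/

theorem rw_lt : ∀ (L : List ℕ), (∀ l ∈ L, l < D.rank) → ∀ x < D.nroots, reflWord D L x < D.nroots
  | [], _, _, hx => hx
  | l :: L, hL, x, hx =>
    (conjFacts_of_mem D hD l (hL l List.mem_cons_self)).wlt _
      (rw_lt L (fun k hk => hL k (List.mem_cons_of_mem _ hk)) x hx)

theorem rw_inj : ∀ (L : List ℕ), (∀ l ∈ L, l < D.rank) → ∀ a b, a < D.nroots → b < D.nroots →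
    reflWord D L a = reflWord D L b → a = b
  | [], _, _, _, _, _, h => h
  | l :: L, hL, a, b, ha, hb, h => by
    have hL' : ∀ k ∈ L, k < D.rank := fun k hk => hL k (List.mem_cons_of_mem _ hk)
    have hC := conjFacts_of_mem D hD l (hL l List.mem_cons_self)
    have h' : D.reflectRoot l (reflWord D L a) = D.reflectRoot l (reflWord D L b) := h
    have h2 := congrArg (D.reflectRoot l) h'
    rw [hC.winv _ (rw_lt hD L hL' a ha), hC.winv _ (rw_lt hD L hL' b hb)] at h2
    exact rw_inj L hL' a b ha hb h2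

theorem rw_neg : ∀ (L : List ℕ), (∀ l ∈ L, l < D.rank) → ∀ a < D.nroots,
    reflWord D L (D.neg a) = D.neg (reflWord D L a)
  | [], _, _, _ => rfl
  | l :: L, hL, a, ha => by
    have hL' : ∀ k ∈ L, k < D.rank := fun k hk => hL k (List.mem_cons_of_mem _ hk)
    have hC := conjFacts_of_mem D hD l (hL l List.mem_cons_self)
    show D.reflectRoot l (reflWord D L (D.neg a)) = D.neg (D.reflectRoot l (reflWord D L a))
    rw [rw_neg L hL' a ha, (hC.wneg _ (rw_lt hD L hL' a ha)).2.1]

end Refl

/-! ## generalities on words -/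

theorem conj_wordG_mem {Γ : Type*} [Group Γ] {K : Type*} (H : Subgroup Γ) (g : Γ) (x : ℕ → K → Γ)
    (W : List (ℕ × K)) (h : ∀ p ∈ W, g * x p.1 p.2 * g⁻¹ ∈ H) : g * wordG x W * g⁻¹ ∈ H := by
  induction W with
  | nil =>
    rw [wordG_nil, mul_one, mul_inv_cancel]
    exact H.one_mem
  | cons p W ih =>
    rw [wordG_cons]
    have e : g * (x p.1 p.2 * wordG x W) * g⁻¹ = (g * x p.1 p.2 * g⁻¹) * (g * wordG x W * g⁻¹) := by group
    rw [e]
    exact H.mul_mem (h p List.mem_cons_self) (ih (fun q hq => h q (List.mem_cons_of_mem _ hq)))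

section Main
variable {D : ChevalleyDatum} (hD : D ∈ [chevD4, chevF4, chevE6, chevE7, chevE8])
variable {K : Type*} [Field K]

/-- the partial data of the positive part of a fundamental rank-two subsystem -/
noncomputable def pdataR2 (K : Type*) [Field K] (i j : ℕ) (f : ℕ → ℤ) (hf : ChainAdd D f) :
    PData D (mem7 hD) K (D.CurtisTitsGroup K) (fun q => D.InRankTwoSub i j q ∧ 0 < f q) where
  y := X D K
  lt := fun _ h => h.1.1
  y_add := fun _ h t u => X_add h.1 t u
  y_comm := fun _ _ h h' hne hnn t u => X_comm h.1 h'.1 hne hnn t u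
  closed := fun q q' h h' _ _ c hc => by
    refine ⟨(r2Closed_of_mem D hD).comm i j q q' h.1 h'.1 c hc, ?_⟩
    obtain ⟨-, h1, h2, hlin⟩ := hf.commTerms D (mem7 hD) q q' h.1.1 h'.1.1 c hc
    rw [hlin]
    have e1 : (1 : ℤ) ≤ c.2.2.1 := by exact_mod_cast h1
    have e2 : (1 : ℤ) ≤ c.2.2.2 := by exact_mod_cast h2
    have := h.2
    have := h'.2
    nlinarith
  θ := θ D hD K
  θ_y := fun q h t => θ_X D hD K q ⟨i, j, h.1⟩ t

variable (par dep : List ℕ)

include hD in
/-- `nW L` conjugates the root element of `q` to the root element of `L q`, when all edges are good -/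
theorem nW_conj_y (hgood : ∀ r < D.nroots, ∀ k < D.rank, GoodE D K par dep k r) :
    ∀ (L : List ℕ), (∀ l ∈ L, l < D.rank) → ∀ q < D.nroots, ∃ c : K, c ≠ 0 ∧
      ∀ t : K, nW D K L * y D K par dep q t * (nW D K L)⁻¹ = y D K par dep (reflWord D L q) (c * t)
  | [], _, q, _ => ⟨1, one_ne_zero, fun t => by
      rw [nW_nil, one_mul, inv_one, mul_one, one_mul]; rfl⟩
  | l :: L, hL, q, hq => by
    have hL' : ∀ k ∈ L, k < D.rank := fun k hk => hL k (List.mem_cons_of_mem _ hk)
    obtain ⟨c, hc0, hc⟩ := nW_conj_y hgood L hL' q hq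
    obtain ⟨c', hc0', hc'⟩ := hgood (reflWord D L q) (rw_lt (mem7 hD) L hL' q hq) l (hL l List.mem_cons_self)
    refine ⟨c' * c, mul_ne_zero hc0' hc0, fun t => ?_⟩
    rw [nW_cons]
    have e : nn D K l 1 * nW D K L * y D K par dep q t * (nn D K l 1 * nW D K L)⁻¹ =
        nn D K l 1 * (nW D K L * y D K par dep q t * (nW D K L)⁻¹) * (nn D K l 1)⁻¹ := by group
    rw [e, hc t, hc' (c * t), mul_assoc]
    rfl

theorem θ_wordG_y (hθy : ∀ q < D.nroots, ∀ t : K, θ D hD K (y D K par dep q t) = xGL D (mem7 hD) K q t)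
    (W : List (ℕ × K)) (hW : ∀ p ∈ W, p.1 < D.nroots) :
    θ D hD K (wordG (y D K par dep) W) = wordGL D (mem7 hD) K W := by
  induction W with
  | nil =>
    rw [wordG_nil, map_one]
    rfl
  | cons p W ih =>
    rw [wordG_cons, map_mul, hθy p.1 (hW p List.mem_cons_self), ih (fun q hq => hW q (List.mem_cons_of_mem _ hq))]
    unfold wordGL
    rw [List.map_cons, List.prod_cons]

/-- leaf PAIR, with the other leaves (`y_of_phi2`, `θ_y`, conclusion of `pairsOK_sound`) as hypotheses -/
theorem y_comm_of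
    (hyX : ∀ q, Phi2 D q → ∀ t : K, y D K par dep q t = X D K q t)
    (hθy : ∀ q < D.nroots, ∀ t : K, θ D hD K (y D K par dep q t) = xGL D (mem7 hD) K q t)
    (hgood : ∀ r < D.nroots, ∀ k < D.rank, GoodE D K par dep k r)
    (r s : ℕ) (hr : r < D.nroots) (hs : s < D.nroots) (hsr : s ≠ r) (hsn : s ≠ D.neg r)
    (hL : ∃ L : List ℕ, (∀ l ∈ L, l < D.rank) ∧ ∃ i j, D.InRankTwoSub i j (reflWord D L r) ∧
      D.InRankTwoSub i j (reflWord D L s)) (t u : K) :
    y D K par dep s u * y D K par dep r t =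
      y D K par dep r t * y D K par dep s u * wordG (y D K par dep) (D.commWord K r s t u) := by
  obtain ⟨L, hLr, i, j, hρ, hσ⟩ := hL
  have hD7 := mem7 hD
  have hρlt : reflWord D L r < D.nroots := hρ.1
  have hσlt : reflWord D L s < D.nroots := hσ.1
  have hσρ : reflWord D L s ≠ reflWord D L r := fun h => hsr (rw_inj hD7 L hLr s r hs hr h)
  have hnr : D.neg r < D.nroots := (negOK_of_mem D hD7 r hr).1
  have hσn : reflWord D L s ≠ D.neg (reflWord D L r) := fun h =>
    hsn (rw_inj hD7 L hLr s (D.neg r) hs hnr (by rw [rw_neg hD7 L hLr r hr]; exact h))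
  -- the positive functional
  obtain ⟨hP, -, -⟩ := univFacts_of_mem D hD7
  obtain ⟨h0, h3, -⟩ := hP.prod (reflWord D L r) (reflWord D L s) hρlt hσlt hσρ hσn
  obtain ⟨f, hfdef⟩ : ∃ f : ℕ → ℤ, f = fun q =>
      (2 - carR D (reflWord D L s) (reflWord D L r)) * carR D (reflWord D L r) q +
      (2 - carR D (reflWord D L r) (reflWord D L s)) * carR D (reflWord D L s) q := ⟨_, rfl⟩
  have hfR : ReflAdd D f := by
    rw [hfdef]
    exact ((reflAdd_carR hD7 (reflWord D L r)).smul _).add ((reflAdd_carR hD7 (reflWord D L s)).smul _)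
  have hfρ : 0 < f (reflWord D L r) := by
    rw [hfdef]
    show 0 < (2 - carR D (reflWord D L s) (reflWord D L r)) * carR D (reflWord D L r) (reflWord D L r) +
      (2 - carR D (reflWord D L r) (reflWord D L s)) * carR D (reflWord D L s) (reflWord D L r)
    rw [(rootFacts_of_mem D hD7 _ hρlt).Ar]
    nlinarith
  have hfσ : 0 < f (reflWord D L s) := by
    rw [hfdef]
    show 0 < (2 - carR D (reflWord D L s) (reflWord D L r)) * carR D (reflWord D L r) (reflWord D L s) +
      (2 - carR D (reflWord D L r) (reflWord D L s)) * carR D (reflWord D L s) (reflWord D L s)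
    rw [(rootFacts_of_mem D hD7 _ hσlt).Ar]
    nlinarith
  -- the roots of the terms of the commutator formula
  have hterm : ∀ e ∈ D.commTerms r s, D.InRankTwoSub i j (reflWord D L e.1) ∧ 0 < f (reflWord D L e.1) := by
    intro e he
    have helt : e.1 < D.nroots := ((chainAdd_zero D).commTerms D hD7 r s hr hs e he).1
    have hLe : reflWord D L e.1 < D.nroots := rw_lt hD7 L hLr e.1 helt
    refine ⟨⟨hLe, hρ.2.1, hρ.2.2.1, fun k hk hki hkj => ?_⟩, ?_⟩
    · obtain ⟨W, hW⟩ := exists_coefW D hD7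
      have hG := ((reflAdd_linF hD7 (W.getD k [])).word hD7 L hLr).ca
      obtain ⟨-, -, -, hlin⟩ := hG.commTerms D hD7 r s hr hs e he
      have hzr : coefF D W k (reflWord D L r) = 0 := by
        have := sign_of_coefOKB D W hW _ hρlt k hk
        rw [hρ.2.2.2 k hk hki hkj, Int.sign_zero, Int.sign_eq_zero_iff_zero] at this
        exact this
      have hzs : coefF D W k (reflWord D L s) = 0 := by
        have := sign_of_coefOKB D W hW _ hσlt k hk
        rw [hσ.2.2.2 k hk hki hkj, Int.sign_zero, Int.sign_eq_zero_iff_zero] at this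
        exact this
      have hze : coefF D W k (reflWord D L e.1) = 0 := by
        have h1 : coefF D W k (reflWord D L e.1) =
            e.2.2.1 * coefF D W k (reflWord D L r) + e.2.2.2 * coefF D W k (reflWord D L s) := hlin
        rw [h1, hzr, hzs]; ring
      have := sign_of_coefOKB D W hW _ hLe k hk
      rw [hze, Int.sign_zero] at this
      exact Int.sign_eq_zero_iff_zero.mp this.symm
    · obtain ⟨-, h1, h2, hlin⟩ := (hfR.word hD7 L hLr).ca.commTerms D hD7 r s hr hs e he
      have hlin' : f (reflWord D L e.1) = e.2.2.1 * f (reflWord D L r) + e.2.2.2 * f (reflWord D L s) := hlin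
      rw [hlin']
      have e1 : (1 : ℤ) ≤ e.2.2.1 := by exact_mod_cast h1
      have e2 : (1 : ℤ) ≤ e.2.2.2 := by exact_mod_cast h2
      nlinarith
  -- the partial data, and the conjugation
  obtain ⟨S, hSdef⟩ : ∃ S : PData D hD7 K (D.CurtisTitsGroup K) (fun q => D.InRankTwoSub i j q ∧ 0 < f q),
    S = pdataR2 hD K i j f hfR.ca := ⟨_, rfl⟩
  have hSy : S.y = X D K := by rw [hSdef]; rfl
  have hSθ : S.θ = θ D hD K := by rw [hSdef]; rfl
  have hXmem : ∀ q, D.InRankTwoSub i j q → 0 < f q → ∀ v : K, X D K q v ∈ S.YP := by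
    intro q h1 h2 v
    have := S.y_mem_YP q ⟨h1, h2⟩ v
    rwa [hSy] at this
  have hconj := nW_conj_y hD par dep hgood L hLr
  obtain ⟨cr, -, hcr⟩ := hconj r hr
  obtain ⟨cs, -, hcs⟩ := hconj s hs
  have hmr : ∀ v : K, nW D K L * y D K par dep r v * (nW D K L)⁻¹ ∈ S.YP := by
    intro v
    rw [hcr v, hyX _ ⟨i, j, hρ⟩]
    exact hXmem _ hρ hfρ _
  have hms : ∀ v : K, nW D K L * y D K par dep s v * (nW D K L)⁻¹ ∈ S.YP := by
    intro v
    rw [hcs v, hyX _ ⟨i, j, hσ⟩]
    exact hXmem _ hσ hfσ _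
  have hmW : nW D K L * wordG (y D K par dep) (D.commWord K r s t u) * (nW D K L)⁻¹ ∈ S.YP := by
    apply conj_wordG_mem
    intro p hp
    unfold ChevalleyDatum.commWord at hp
    rw [List.mem_map] at hp
    obtain ⟨e, he, rfl⟩ := hp
    have helt : e.1 < D.nroots := ((chainAdd_zero D).commTerms D hD7 r s hr hs e he).1
    obtain ⟨ce, -, hce⟩ := hconj e.1 helt
    obtain ⟨h1, h2⟩ := hterm e he
    show nW D K L * y D K par dep e.1 _ * (nW D K L)⁻¹ ∈ S.YP
    rw [hce, hyX _ ⟨i, j, h1⟩]
    exact hXmem _ h1 h2 _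
  have hA : nW D K L * (y D K par dep s u * y D K par dep r t) * (nW D K L)⁻¹ ∈ S.YP := by
    have e : nW D K L * (y D K par dep s u * y D K par dep r t) * (nW D K L)⁻¹ =
        (nW D K L * y D K par dep s u * (nW D K L)⁻¹) * (nW D K L * y D K par dep r t * (nW D K L)⁻¹) := by
      group
    rw [e]
    exact Subgroup.mul_mem _ (hms u) (hmr t)
  have hB : nW D K L * (y D K par dep r t * y D K par dep s u *
      wordG (y D K par dep) (D.commWord K r s t u)) * (nW D K L)⁻¹ ∈ S.YP := by
    have e : nW D K L * (y D K par dep r t * y D K par dep s u *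
        wordG (y D K par dep) (D.commWord K r s t u)) * (nW D K L)⁻¹ =
        (nW D K L * y D K par dep r t * (nW D K L)⁻¹) * (nW D K L * y D K par dep s u * (nW D K L)⁻¹) *
          (nW D K L * wordG (y D K par dep) (D.commWord K r s t u) * (nW D K L)⁻¹) := by
      group
    rw [e]
    exact Subgroup.mul_mem _ (Subgroup.mul_mem _ (hmr t) (hms u)) hmW
  have hWlt : ∀ p ∈ D.commWord K r s t u, p.1 < D.nroots := by
    intro p hp
    unfold ChevalleyDatum.commWord at hp
    rw [List.mem_map] at hp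
    obtain ⟨e, he, rfl⟩ := hp
    exact ((chainAdd_zero D).commTerms D hD7 r s hr hs e he).1
  have hθeq : θ D hD K (y D K par dep s u * y D K par dep r t) =
      θ D hD K (y D K par dep r t * y D K par dep s u * wordG (y D K par dep) (D.commWord K r s t u)) := by
    rw [map_mul, map_mul, map_mul, hθy r hr, hθy s hs, θ_wordG_y hD par dep hθy _ hWlt]
    exact comm_formula_GL D hD7 K r s hr hs hsr hsn t u
  have key : ∀ a b : D.CurtisTitsGroup K, θ D hD K a = θ D hD K b →
      θ D hD K (nW D K L * a * (nW D K L)⁻¹) = θ D hD K (nW D K L * b * (nW D K L)⁻¹) := by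
    intro a b h
    simp only [map_mul, h]
  have hone := S.inj_YP hfR.ca (fun q hq => hq.2) _ (Subgroup.mul_mem _ hA (Subgroup.inv_mem _ hB)) (by
    rw [hSθ, map_mul, map_inv, key _ _ hθeq, mul_inv_cancel])
  have hAB := mul_inv_eq_one.mp hone
  exact mul_left_cancel (mul_right_cancel hAB)

end Main

/-! ## the leaf, with the frozen name and statement of `notes/S1164_leaves.lean` -/

section Leaf
variable {D : ChevalleyDatum} (hD : D ∈ [chevD4, chevF4, chevE6, chevE7, chevE8])
variable {K : Type*} [Field K]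
variable (par dep : List ℕ) (htree : (rsD D).treeOK par dep = true)

include hD htree in
theorem y_comm (hgood : ∀ r < D.nroots, ∀ k < D.rank, GoodE D K par dep k r)
    (T1 : List (List ℕ)) (T2 : List (ℕ × List (List ℕ))) (hpairs : (rsD D).pairsOK T1 T2 = true)
    (r s : ℕ) (hr : r < D.nroots) (hs : s < D.nroots) (hsr : s ≠ r) (hsn : s ≠ D.neg r) (t u : K) :
    y D K par dep s u * y D K par dep r t =
      y D K par dep r t * y D K par dep s u * wordG (y D K par dep) (D.commWord K r s t u) :=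
  y_comm_of hD par dep (fun q h t => Cfsg.Agent.Lib.Helper18.CTTREE.y_of_phi2 par dep q h t)
    (fun q hq t => Cfsg.Agent.Lib.Helper18.CTTREE.θ_y hD par dep htree q hq t) hgood r s hr hs hsr hsn
    (Cfsg.Agent.Lib.Helper18.CTCHKC.pairsOK_sound D hD T1 T2 hpairs r s hr hs hsr hsn) t u

end Leaf

end Cfsg.Agent.Lib.Helper7.CTPAIR
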