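import Cfsg.Agent.Lib.Helper7.ChevAdd
set_option autoImplicit false
namespace Cfsg.Agent.Lib.Helper7
open Cfsg Cfsg.Lie
set_option maxRecDepth 1000000 in
theorem addOKB_G2 : addOKB chevG2 = true := by decide +kernel
set_option maxRecDepth 1000000 in
theorem addOKB_B2 : addOKB chevB2 = true := by decide +kernel
set_option maxRecDepth 1000000 in
theorem addOKB_D4 : addOKB chevD4 = true := by decide +kernel
set_option maxRecDepth 1000000 in
theorem addOKB_F4 : addOKB chevF4 = true := by decide +kernel
set_option maxRecDepth 1000000 in
theorem addOKB_E6 : addOKB chevE6 = true := by decide +kernel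
end Cfsg.Agent.Lib.Helper7
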