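import Cfsg.Agent.Lib.Helper7.ChevBN0

/-! The double coset axiom `n_p B n ⊆ B n_p n B ∪ B n B` and the other (B,N)-pair axioms for a
Chevalley group, in GL (helper7). -/

set_option autoImplicit false

namespace Cfsg.Agent.Lib.Helper7

open Cfsg Cfsg.Lie Matrix
open scoped Pointwise

section
variable (D : ChevalleyDatum) (hD : D ∈ [chevG2, chevB2, chevD4, chevF4, chevE6, chevE7, chevE8])
variable (F : Type*) [Field F]
include hD

theorem xGL_pos_mem_borel (a : ℕ) (ha : D.IsPosRoot a) (t : F) : xGL D hD F a t ∈ D.borelSubgroup F := by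
  apply posUnipotent_le_borel D hD F
  apply Subgroup.subset_closure
  exact ⟨a, t, ha, coe_xGL D hD F a t⟩

/-- if `n⁻¹ X_p n = X_a` with `a` positive then `n_p B n ⊆ B n_p n B` -/
theorem nFund_mul_borel_mul_of_pos (i : ℕ) (hi : i < D.rank) (n : GL D.Idx F) (a : ℕ) (ha : D.IsPosRoot a)
    (c : F) (hconj : ∀ t : F, n⁻¹ * xGL D hD F (D.simple i) t * n = xGL D hD F a (c * t))
    (b : GL D.Idx F) (hb : b ∈ D.borelSubgroup F) :
    ∃ b₁ ∈ D.borelSubgroup F, ∃ b₂ ∈ D.borelSubgroup F,
      nFund D hD F i * b * n = b₁ * (nFund D hD F i * n) * b₂ := by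
  set N := nFund D hD F i with hN
  have hb' : b ∈ ((D.borelSubgroup F : Subgroup (GL D.Idx F)) : Set (GL D.Idx F)) := hb
  rw [borel_eq_mul D hD F] at hb'
  obtain ⟨h, hh, u, hu, rfl⟩ := Set.mem_mul.mp hb'
  have hu' : u ∈ ((upSubgroup D F i ⊔ D.rootSubgroup F (D.simple i) : Subgroup (GL D.Idx F)) :
      Set (GL D.Idx F)) := by
    rw [up_sup_rootSubgroup D hD F i hi]; exact hu
  rw [Subgroup.coe_mul_of_right_le_normalizer_left _ _
    (le_trans le_sup_left (rootSubgroup_le_normalizer_up D hD F i hi))] at hu'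
  obtain ⟨u', hu'', x, hx, rfl⟩ := Set.mem_mul.mp hu'
  obtain ⟨t, rfl⟩ := (mem_rootSubgroup_iff D hD F _ x).mp hx
  have hnN := nFund_mem_monomial D hD F i hi
  have h1 : N * h * N⁻¹ ∈ D.diagonalSubgroup F := by
    have := monomialSubgroup_le_normalizer_diagonal D hD F hnN
    rw [Subgroup.mem_set_normalizer_iff] at this
    exact (this h).mp hh
  have h2 : N * u' * N⁻¹ ∈ upSubgroup D F i := by
    have := nFund_mem_normalizer_up D hD F i hi
    rw [Subgroup.mem_set_normalizer_iff] at this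
    exact (this u').mp hu''
  refine ⟨(N * h * N⁻¹) * (N * u' * N⁻¹), ?_, xGL D hD F a (c * t), xGL_pos_mem_borel D hD F a ha _, ?_⟩
  · exact Subgroup.mul_mem _ (diagonal_le_borel D hD F h1)
      (posUnipotent_le_borel D hD F (up_le_posUnipotent D hD F i h2))
  · rw [← hconj t]
    group

/-- the double coset axiom in GL -/
theorem nFund_mul_borel_mul_monomial (i : ℕ) (hi : i < D.rank) (n : GL D.Idx F)
    (hn : n ∈ D.monomialSubgroup F) (b : GL D.Idx F) (hb : b ∈ D.borelSubgroup F) :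
    (∃ b₁ ∈ D.borelSubgroup F, ∃ b₂ ∈ D.borelSubgroup F,
      nFund D hD F i * b * n = b₁ * (nFund D hD F i * n) * b₂) ∨
    (∃ b₁ ∈ D.borelSubgroup F, ∃ b₂ ∈ D.borelSubgroup F,
      nFund D hD F i * b * n = b₁ * n * b₂) := by
  have hF := fundFacts_of_mem D hD i hi
  obtain ⟨a, ha, c, hc, h1, h2⟩ := (monomial_le_rootConj D hD F hn).1 (D.simple i) hF.hp
  rcases posOrNeg_of_mem D hD a ha with hpos | hneg
  · exact Or.inl (nFund_mul_borel_mul_of_pos D hD F i hi n a hpos c h1 b hb)
  · -- `n' = n_p n` sends `X_p` to the positive root subgroup `X_{-a}`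
    have hnegpos : D.IsPosRoot (D.neg a) := (negInvOK_of_mem D hD a ha).2.2 hneg
    have hC := conjFacts_of_mem D hD i hi
    have hkey : ∀ t : F, (nFund D hD F i)⁻¹ * xGL D hD F (D.simple i) t * nFund D hD F i =
        xGL D hD F (D.neg (D.simple i)) (((etaFn D i (D.neg (D.simple i)) : ℤ) : F) * t) := by
      intro t
      have h3 := nGL_conj_xGL D hD F i hi _ hF.hpb (((etaFn D i (D.neg (D.simple i)) : ℤ) : F) * t)
      rw [reflectRoot_neg_simple D i (Ne.symm (negOK_of_mem D hD _ hF.hp).2), ← mul_assoc,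
        eta_sq D hD F i hi _ hF.hpb, one_mul] at h3
      rw [← h3]
      unfold nFund
      group
    obtain ⟨N, hN⟩ : ∃ N : GL D.Idx F, N = nFund D hD F i := ⟨_, rfl⟩
    rw [← hN] at hkey ⊢
    have hconj' : ∀ t : F, (N * n)⁻¹ * xGL D hD F (D.simple i) t * (N * n) =
        xGL D hD F (D.neg a) (c⁻¹ * ((etaFn D i (D.neg (D.simple i)) : ℤ) : F) * t) := by
      intro t
      have e : (N * n)⁻¹ * xGL D hD F (D.simple i) t * (N * n) =
          n⁻¹ * (N⁻¹ * xGL D hD F (D.simple i) t * N) * n := by group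
      rw [e, hkey, h2, mul_assoc]
    have hh₀ : N⁻¹ * N⁻¹ ∈ D.borelSubgroup F := by
      rw [hN]; exact diagonal_le_borel D hD F (nFund_inv_sq_mem D hD F i hi)
    have hh₂ : N * N ∈ D.borelSubgroup F := by
      rw [hN]; exact diagonal_le_borel D hD F (nFund_sq_mem D hD F i hi)
    have e0 : N * b * n = (N * b * N) * (N⁻¹ * N⁻¹) * (N * n) := by group
    have hcases := nFund_mul_borel_mul_nFund D hD F i hi b hb
    rw [← hN] at hcases
    rcases hcases with hB | ⟨b₁, hb₁, b₂, hb₂, hB⟩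
    · left
      refine ⟨(N * b * N) * (N⁻¹ * N⁻¹), Subgroup.mul_mem _ hB hh₀, 1, Subgroup.one_mem _, ?_⟩
      rw [mul_one, ← e0]
    · right
      have h5' := nFund_mul_borel_mul_of_pos D hD F i hi (N * n) (D.neg a) hnegpos _
        hconj' (b₂ * (N⁻¹ * N⁻¹)) (Subgroup.mul_mem _ hb₂ hh₀)
      rw [← hN] at h5'
      obtain ⟨b₃, hb₃, b₄, hb₄, h5⟩ := h5'
      refine ⟨b₁ * b₃ * (N * N), Subgroup.mul_mem _ (Subgroup.mul_mem _ hb₁ hb₃) hh₂, b₄, hb₄, ?_⟩
      have e1 : N * b * n = b₁ * (N * (b₂ * (N⁻¹ * N⁻¹)) * (N * n)) := by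
        rw [e0, hB]; group
      rw [e1, h5]
      group

/-- distinct fundamental reflections are distinct modulo `B` -/
theorem nFund_inj (i j : ℕ) (hi : i < D.rank) (hj : j < D.rank)
    (h : (nFund D hD F i)⁻¹ * nFund D hD F j ∈ D.borelSubgroup F) : i = j := by
  by_contra hij
  have hFi := fundFacts_of_mem D hD i hi
  have hFj := fundFacts_of_mem D hD j hj
  have hCi := conjFacts_of_mem D hD i hi
  have hg : (nFund D hD F i)⁻¹ * nFund D hD F j ∈ D.diagonalSubgroup F := by
    rw [← borel_inf_monomial D hD F]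
    exact Subgroup.mem_inf.mpr ⟨h, Subgroup.mul_mem _ (Subgroup.inv_mem _ (nFund_mem_monomial D hD F i hi))
      (nFund_mem_monomial D hD F j hj)⟩
  obtain ⟨χ, hχ, hgm⟩ := mem_diagonalSubgroup_char D hD F _ hg
  have e : nFund D hD F j = nFund D hD F i * ((nFund D hD F i)⁻¹ * nFund D hD F j) := by group
  have em : ((nFund D hD F j : GL D.Idx F) : Matrix D.Idx D.Idx F) =
      ((nFund D hD F i : GL D.Idx F) : Matrix D.Idx D.Idx F) *
        (((nFund D hD F i)⁻¹ * nFund D hD F j : GL D.Idx F) : Matrix D.Idx D.Idx F) := by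
    rw [← Units.val_mul, ← e]
  rw [hgm] at em
  have hci : ((nFund D hD F i : GL D.Idx F) : Matrix D.Idx D.Idx F) = D.nMat F (D.simple i) 1 := by
    unfold nFund; rw [coe_wordGL]; rfl
  have hcj : ((nFund D hD F j : GL D.Idx F) : Matrix D.Idx D.Idx F) = D.nMat F (D.simple j) 1 := by
    unfold nFund; rw [coe_wordGL]; rfl
  rw [hci, hcj, nMat_fund D i hFi F, nMat_fund D j hFj F] at em
  have h1 := congrFun (congrFun em (Sum.inr ⟨D.neg (D.simple i), hFi.hpb⟩)) (Sum.inr ⟨D.simple i, hFi.hp⟩)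
  unfold diagChar at h1
  rw [Matrix.mul_diagonal] at h1
  simp only [Matrix.of_apply, Sum.elim_inr] at h1
  rw [if_pos (reflectRoot_simple D i).symm] at h1
  by_cases h2 : D.neg (D.simple i) = D.reflectRoot j (D.simple i)
  · exact (descFacts_of_mem D hD).simpleNe i hi j hj hij h2.symm
  · rw [if_neg h2] at h1
    have hη : ((etaFn D i (D.simple i) : ℤ) : F) ≠ 0 := by
      rcases hCi.ηpm _ hFi.hp with h | h <;> rw [h] <;> norm_num
    exact mul_ne_zero hη (hχ.ne0 _ hFi.hp) h1.symm

/-- `n_p x_p(1) n_p ∉ B` -/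
theorem nFund_conj_not_mem_borel (i : ℕ) (hi : i < D.rank) :
    nFund D hD F i * xGL D hD F (D.simple i) 1 * nFund D hD F i ∉ D.borelSubgroup F := by
  intro h
  set N := nFund D hD F i with hN
  have hF := fundFacts_of_mem D hD i hi
  have hC := conjFacts_of_mem D hD i hi
  have h3 : N * xGL D hD F (D.simple i) 1 * N⁻¹ =
      xGL D hD F (D.neg (D.simple i)) (((etaFn D i (D.simple i) : ℤ) : F) * 1) := by
    have := nGL_conj_xGL D hD F i hi (D.simple i) hF.hp (1 : F)
    rw [reflectRoot_simple] at this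
    exact this
  have e : N * xGL D hD F (D.simple i) 1 * N = (N * xGL D hD F (D.simple i) 1 * N⁻¹) * (N * N) := by group
  rw [e, h3, mul_one] at h
  have hB : xGL D hD F (D.neg (D.simple i)) ((etaFn D i (D.simple i) : ℤ) : F) ∈ D.borelSubgroup F := by
    have h4 := Subgroup.mul_mem _ h (Subgroup.inv_mem _ (diagonal_le_borel D hD F (nFund_sq_mem D hD F i hi)))
    rwa [mul_assoc, mul_inv_cancel, mul_one] at h4
  have hV : xGL D hD F (D.neg (D.simple i)) ((etaFn D i (D.simple i) : ℤ) : F) ∈ D.negUnipotent F := by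
    apply Subgroup.subset_closure
    exact ⟨_, _, (upFacts_of_mem D hD i hi).negSimple, coe_xGL D hD F _ _⟩
  have h1 : xGL D hD F (D.neg (D.simple i)) ((etaFn D i (D.simple i) : ℤ) : F) = 1 := by
    have : _ ∈ D.borelSubgroup F ⊓ D.negUnipotent F := Subgroup.mem_inf.mpr ⟨hB, hV⟩
    rw [borel_inf_negUnipotent D hD F] at this
    exact Subgroup.mem_bot.mp this
  have h2 : D.x F (D.neg (D.simple i)) ((etaFn D i (D.simple i) : ℤ) : F) = 1 := by
    rw [← coe_xGL D hD F, h1]; rfl
  have hN' := negOK_of_mem D hD _ hF.hpb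
  have h0 := eq_zero_of_x_eq_one D F _ hF.hpb hN'.1 hN'.2 _ h2
  rcases hC.ηpm _ hF.hp with h | h <;> rw [h] at h0 <;> norm_num at h0

/-- `B ⊔ N` is the whole Chevalley group -/
theorem borel_sup_monomial : D.borelSubgroup F ⊔ D.monomialSubgroup F = D.group F := by
  apply le_antisymm
  · apply sup_le
    · unfold ChevalleyDatum.borelSubgroup
      apply sup_le
      · unfold ChevalleyDatum.posUnipotent
        rw [Subgroup.closure_le]
        rintro g ⟨r, t, _, hg⟩
        exact mem_group_of_coe_eq_wordMat D hD F g [(r, t)] (by rw [hg]; simp [ChevalleyDatum.wordMat])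
      · unfold ChevalleyDatum.diagonalSubgroup
        rw [Subgroup.closure_le]
        rintro g ⟨r, t, _, _, hg⟩
        exact mem_group_of_coe_eq_wordMat D hD F g _ hg
    · unfold ChevalleyDatum.monomialSubgroup
      apply sup_le
      · unfold ChevalleyDatum.diagonalSubgroup
        rw [Subgroup.closure_le]
        rintro g ⟨r, t, _, _, hg⟩
        exact mem_group_of_coe_eq_wordMat D hD F g _ hg
      · rw [Subgroup.closure_le]
        rintro g ⟨r, _, hg⟩
        exact mem_group_of_coe_eq_wordMat D hD F g _ hg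
  · unfold ChevalleyDatum.group
    rw [Subgroup.closure_le]
    rintro g ⟨r, t, hg⟩
    have hgx : g = xGL D hD F r.val t := Units.ext (by rw [hg, coe_xGL, x_eq_xMat D F r.val r.isLt])
    rw [hgx]
    -- `x_r(t) ∈ P_J` for `J` everything
    have h1 : xGL D hD F r.val t ∈ D.parabolicSubgroup F Set.univ := by
      rw [parabolic_eq_parGen D hD F]
      unfold parGen
      apply Subgroup.mem_sup_right
      apply Subgroup.subset_closure
      refine ⟨r.val, t, Or.inr ⟨r.isLt, fun i _ hi => absurd (Set.mem_univ i) hi⟩, coe_xGL D hD F _ _⟩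
    have h2 : D.parabolicSubgroup F Set.univ ≤ D.borelSubgroup F ⊔ D.monomialSubgroup F := by
      unfold ChevalleyDatum.parabolicSubgroup
      apply sup_le le_sup_left
      refine le_trans ?_ le_sup_right
      rw [Subgroup.closure_le]
      rintro g ⟨j, _, hj, hg⟩
      have : g = nFund D hD F j := by
        apply Units.ext
        unfold nFund
        rw [hg, coe_wordGL]; rfl
      rw [this]
      exact nFund_mem_monomial D hD F j hj
    exact h2 h1

end

end Cfsg.Agent.Lib.Helper7
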