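import Cfsg.Agent.Lib.Helper7.ChevBlock

/-! Comparison of the polynomial entries of root elements in characteristic `p` (helper7). -/

set_option autoImplicit false

namespace Cfsg.Agent.Lib.Helper7

open Cfsg Cfsg.Lie Matrix

/-- the coefficient of `t^k` -/
def coefAt (L : List (ℕ × ℤ)) (k : ℕ) : ℤ := ((L.filter fun x => x.1 = k).map Prod.snd).sum

theorem coefAt_nil (k : ℕ) : coefAt [] k = 0 := rfl

theorem coefAt_cons (x : ℕ × ℤ) (L : List (ℕ × ℤ)) (k : ℕ) :
    coefAt (x :: L) k = (if x.1 = k then x.2 else 0) + coefAt L k := by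
  unfold coefAt
  rw [List.filter_cons]
  by_cases h : x.1 = k
  · simp [h]
  · simp [h]

theorem evalL_cons (F : Type*) [Field F] (x : ℕ × ℤ) (L : List (ℕ × ℤ)) (t : F) :
    evalL F (x :: L) t = ((x.2 : ℤ) : F) * t ^ x.1 + evalL F L t := by
  simp [evalL]

theorem evalL_eq_sum (F : Type*) [Field F] (bound : ℕ) (t : F) : ∀ (L : List (ℕ × ℤ)),
    (∀ x ∈ L, x.1 < bound) → evalL F L t = ∑ k ∈ Finset.range bound, ((coefAt L k : ℤ) : F) * t ^ k
  | [], _ => by simp [evalL_nil, coefAt_nil]
  | x :: L, h => by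
    rw [evalL_cons, evalL_eq_sum F bound t L (fun y hy => h y (List.mem_cons_of_mem _ hy))]
    simp only [coefAt_cons, Int.cast_add, add_mul, Finset.sum_add_distrib]
    congr 1
    rw [Finset.sum_eq_single x.1]
    · simp
    · intro b _ hb
      rw [if_neg (Ne.symm hb)]
      simp
    · intro hx
      exact absurd (Finset.mem_range.mpr (h x List.mem_cons_self)) hx

/-- scaling of the exponents -/
def scaleL (m : ℕ) (L : List (ℕ × ℤ)) : List (ℕ × ℤ) := L.map fun x => (x.1 * m, x.2)

theorem evalL_scaleL (F : Type*) [Field F] (m : ℕ) (L : List (ℕ × ℤ)) (t : F) :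
    evalL F (scaleL m L) t = evalL F L (t ^ m) := by
  unfold evalL scaleL
  rw [List.map_map]
  congr 1
  apply List.map_congr_left
  intro x _
  show ((x.2 : ℤ) : F) * t ^ (x.1 * m) = ((x.2 : ℤ) : F) * (t ^ m) ^ x.1
  rw [← pow_mul, Nat.mul_comm]

/-- equality modulo `p` of two polynomials -/
def polyEqB (p bound : ℕ) (L L' : List (ℕ × ℤ)) : Bool :=
  L.all (fun x => decide (x.1 < bound)) && L'.all (fun x => decide (x.1 < bound)) &&
  (List.range bound).all fun k => (coefAt L k - coefAt L' k) % (p : ℤ) == 0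

theorem evalL_eq_of_polyEqB (F : Type*) [Field F] (p : ℕ) [CharP F p] (bound : ℕ) (L L' : List (ℕ × ℤ))
    (h : polyEqB p bound L L' = true) (t : F) : evalL F L t = evalL F L' t := by
  unfold polyEqB at h
  simp only [Bool.and_eq_true, List.all_eq_true, decide_eq_true_eq, List.mem_range, beq_iff_eq] at h
  obtain ⟨⟨h1, h2⟩, h3⟩ := h
  rw [evalL_eq_sum F bound t L h1, evalL_eq_sum F bound t L' h2]
  apply Finset.sum_congr rfl
  intro k hk
  congr 1
  rw [← sub_eq_zero, ← Int.cast_sub, CharP.intCast_eq_zero_iff F p]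
  exact Int.dvd_of_emod_eq_zero (h3 k (Finset.mem_range.mp hk))

end Cfsg.Agent.Lib.Helper7
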