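import Cfsg.Agent.Lib.Helper7.ChevAdd

/-!
A verified symbolic evaluator for products of root elements `x_v(κ t^a u^b)` applied to coordinate
vectors whose entries are integer polynomials in two parameters `t`, `u` (kept as lists of monomial
terms), and the resulting decidable check of Chevalley's commutator formula for one pair of roots
(helper7).
-/

set_option autoImplicit false

namespace Cfsg.Agent.Lib.Helper7

open Cfsg Cfsg.Lie Matrix

/-- encoding of the coordinate index set by natural numbers -/
def encIdx (D : ChevalleyDatum) : D.Idx → ℕ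
  | Sum.inl i => i.val
  | Sum.inr s => D.rank + s.val

theorem encIdx_injective (D : ChevalleyDatum) : Function.Injective (encIdx D) := by
  intro i j h
  rcases i with i | s <;> rcases j with j | s'
  · exact congrArg Sum.inl (Fin.ext h)
  · exfalso; have := i.isLt; simp only [encIdx] at h; omega
  · exfalso; have := j.isLt; simp only [encIdx] at h; omega
  · simp only [encIdx] at h
    exact congrArg Sum.inr (Fin.ext (by omega))

theorem encIdx_lt (D : ChevalleyDatum) (i : D.Idx) : encIdx D i < D.rank + D.nroots := by
  rcases i with i | s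
  · have := i.isLt; simp only [encIdx]; omega
  · have := s.isLt; simp only [encIdx]; omega

theorem exists_encIdx_eq (D : ChevalleyDatum) (n : ℕ) (h : n < D.rank + D.nroots) :
    ∃ j : D.Idx, encIdx D j = n := by
  by_cases h1 : n < D.rank
  · exact ⟨Sum.inl ⟨n, h1⟩, rfl⟩
  · exact ⟨Sum.inr ⟨n - D.rank, by omega⟩, by simp only [encIdx]; omega⟩

/-- the column `c` of `x_v(m)`: triples `(row, k, M)` for the entries `M m^k` -/
def colX (D : ChevalleyDatum) (v c : ℕ) : List (ℕ × ℕ × ℤ) :=
  if c < D.rank then [(c, 0, 1), (D.rank + v, 1, - D.cartan c v)]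
  else if D.rank + D.nroots ≤ c then []
  else if c - D.rank = v then [(c, 0, 1)]
  else if c - D.rank = D.neg v then
    (c, 0, 1) :: (D.rank + v, 2, -1) ::
      (List.range D.rank).map (fun i => (i, 1, (D.coroot.getD v #[]).getD i 0))
  else (c, 0, 1) :: (ccAll D v (c - D.rank)).map (fun x => (D.rank + x.1, x.2.1, x.2.2))

theorem polyAt_cons {F : Type*} [Field F] (t : F) (x : ℕ × ℕ × ℤ) (T : List (ℕ × ℕ × ℤ)) (u : ℕ) :
    polyAt t (x :: T) u = (if x.1 = u then ((x.2.2 : ℤ) : F) * t ^ x.2.1 else 0) + polyAt t T u := by
  simp [polyAt]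

theorem polyAt_nil {F : Type*} [Field F] (t : F) (u : ℕ) : polyAt t [] u = 0 := by
  simp [polyAt]

theorem polyAt_map_shift {F : Type*} [Field F] (t : F) (T : List (ℕ × ℕ × ℤ)) (k u : ℕ) :
    polyAt t (T.map fun x => (k + x.1, x.2.1, x.2.2)) (k + u) = polyAt t T u := by
  induction T with
  | nil => rfl
  | cons x T ih =>
    rw [List.map_cons, polyAt_cons, polyAt_cons, ih]
    congr 1
    by_cases h : x.1 = u
    · rw [if_pos h, if_pos (by rw [h])]
    · rw [if_neg h, if_neg (by omega)]

theorem polyAt_map_shift_lt {F : Type*} [Field F] (t : F) (T : List (ℕ × ℕ × ℤ)) (k u : ℕ) (hu : u < k) :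
    polyAt t (T.map fun x => (k + x.1, x.2.1, x.2.2)) u = 0 := by
  induction T with
  | nil => rfl
  | cons x T ih =>
    rw [List.map_cons, polyAt_cons, ih, if_neg (by show ¬ k + x.1 = u; omega), add_zero]

theorem polyAt_range_coroot {F : Type*} [Field F] (t : F) (n : ℕ) (f : ℕ → ℤ) (u : ℕ) :
    polyAt t ((List.range n).map fun i => (i, 1, f i)) u = if u < n then ((f u : ℤ) : F) * t else 0 := by
  induction n with
  | zero => simp [polyAt]
  | succ n ih =>
    rw [List.range_succ, List.map_append, polyAt, List.map_append, List.sum_append]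
    have : ((List.map (fun i => (i, 1, f i)) (List.range n)).map fun x =>
        if x.1 = u then ((x.2.2 : ℤ) : F) * t ^ x.2.1 else 0).sum =
        polyAt t ((List.range n).map fun i => (i, 1, f i)) u := rfl
    rw [this, ih]
    simp only [List.map_cons, List.map_nil, List.sum_cons, List.sum_nil, add_zero, pow_one]
    by_cases h1 : u < n
    · rw [if_pos h1, if_pos (show u < n + 1 by omega), if_neg (show ¬ n = u by omega), add_zero]
    · rw [if_neg h1]
      by_cases h2 : n = u
      · rw [if_pos h2, if_pos (show u < n + 1 by omega), zero_add, h2]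
      · rw [if_neg h2, if_neg (show ¬ u < n + 1 by omega), zero_add]

/-- the entries of `x_v(m)` read off `colX` -/
theorem xMat_eq_colX (D : ChevalleyDatum) (F : Type*) [Field F] (v : Fin D.nroots) (m : F)
    (row col : D.Idx) :
    D.xMat F v m row col = polyAt m (colX D v.val (encIdx D col)) (encIdx D row) := by
  rcases col with i | s
  · have hi := i.isLt
    have hc : colX D v.val (encIdx D (Sum.inl i)) =
        [(i.val, 0, 1), (D.rank + v.val, 1, - D.cartan i.val v.val)] := by
      unfold colX; rw [if_pos (show encIdx D (Sum.inl i) < D.rank from hi)]; rfl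
    rw [hc, polyAt_cons, polyAt_cons, polyAt_nil, add_zero]
    rcases row with i' | u
    · rw [xMat_inl_inl]
      have hi' := i'.isLt
      show _ = (if i.val = i'.val then ((1 : ℤ) : F) * m ^ 0 else 0) +
        (if D.rank + v.val = i'.val then ((- D.cartan i.val v.val : ℤ) : F) * m ^ 1 else 0)
      rw [if_neg (show ¬ D.rank + v.val = i'.val by omega), add_zero]
      by_cases h : i' = i
      · have a1 : i.val = i'.val := by rw [h]
        rw [if_pos h, if_pos a1]; simp
      · have a1 : ¬ i.val = i'.val := fun h' => h (Fin.ext h'.symm)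
        rw [if_neg h, if_neg a1]
    · rw [xMat_inr_inl]
      show _ = (if i.val = D.rank + u.val then ((1 : ℤ) : F) * m ^ 0 else 0) +
        (if D.rank + v.val = D.rank + u.val then ((- D.cartan i.val v.val : ℤ) : F) * m ^ 1 else 0)
      rw [if_neg (show ¬ i.val = D.rank + u.val by omega), zero_add]
      by_cases h : u = v
      · have a1 : D.rank + v.val = D.rank + u.val := by rw [h]
        rw [if_pos h, if_pos a1, pow_one, Int.cast_neg]; rfl
      · have a1 : ¬ D.rank + v.val = D.rank + u.val := fun h' => h (Fin.ext (by omega))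
        rw [if_neg h, if_neg a1]
  · have hs := s.isLt
    have e1 : ¬ encIdx D (Sum.inr s) < D.rank := by simp only [encIdx]; omega
    have e2 : ¬ D.rank + D.nroots ≤ encIdx D (Sum.inr s) := by simp only [encIdx]; omega
    have e3 : encIdx D (Sum.inr s) - D.rank = s.val := by simp only [encIdx]; omega
    have e4 : encIdx D (Sum.inr s) = D.rank + s.val := rfl
    by_cases hsv : s = v
    · have hc : colX D v.val (encIdx D (Sum.inr s)) = [(D.rank + s.val, 0, 1)] := by
        unfold colX; rw [if_neg e1, if_neg e2, e3, if_pos (show s.val = v.val by rw [hsv])]; rfl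
      rw [hc, polyAt_cons, polyAt_nil, add_zero]
      rcases row with i' | u
      · have hi' := i'.isLt
        rw [hsv, xMat_inl_self]
        show _ = if D.rank + v.val = i'.val then ((1 : ℤ) : F) * m ^ 0 else 0
        rw [if_neg (show ¬ D.rank + v.val = i'.val by omega)]
      · rw [hsv, xMat_inr_self]
        show _ = if D.rank + v.val = D.rank + u.val then ((1 : ℤ) : F) * m ^ 0 else 0
        by_cases h : u = v
        · have a1 : D.rank + v.val = D.rank + u.val := by rw [h]
          rw [if_pos h, if_pos a1]; simp
        · have a1 : ¬ D.rank + v.val = D.rank + u.val := fun h' => h (Fin.ext (by omega))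
          rw [if_neg h, if_neg a1]
    · have hsv' : ¬ s.val = v.val := fun h => hsv (Fin.ext h)
      by_cases hneg : s.val = D.negIdx.getD v.val 0
      · have hc : colX D v.val (encIdx D (Sum.inr s)) =
            (D.rank + s.val, 0, 1) :: (D.rank + v.val, 2, -1) ::
              (List.range D.rank).map (fun i => (i, 1, (D.coroot.getD v.val #[]).getD i 0)) := by
          unfold colX
          rw [if_neg e1, if_neg e2, e3, if_neg hsv', if_pos (show s.val = D.neg v.val from hneg)]; rfl
        rw [hc, polyAt_cons, polyAt_cons, polyAt_range_coroot]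
        rcases row with i' | u
        · have hi' := i'.isLt
          rw [xMat_inl_neg D F v m s hsv hneg]
          show _ = (if D.rank + s.val = i'.val then ((1 : ℤ) : F) * m ^ 0 else 0) +
            ((if D.rank + v.val = i'.val then ((-1 : ℤ) : F) * m ^ 2 else 0) +
            (if i'.val < D.rank then (((D.coroot.getD v.val #[]).getD i'.val 0 : ℤ) : F) * m else 0))
          rw [if_neg (show ¬ D.rank + s.val = i'.val by omega),
            if_neg (show ¬ D.rank + v.val = i'.val by omega), if_pos hi', zero_add, zero_add]
        · rw [xMat_inr_neg D F v m s hsv hneg]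
          show _ = (if D.rank + s.val = D.rank + u.val then ((1 : ℤ) : F) * m ^ 0 else 0) +
            ((if D.rank + v.val = D.rank + u.val then ((-1 : ℤ) : F) * m ^ 2 else 0) +
            (if D.rank + u.val < D.rank then
              (((D.coroot.getD v.val #[]).getD (D.rank + u.val) 0 : ℤ) : F) * m else 0))
          rw [if_neg (show ¬ D.rank + u.val < D.rank by omega), add_zero]
          by_cases h1 : u = s
          · have a1 : D.rank + s.val = D.rank + u.val := by rw [h1]
            have a2 : ¬ D.rank + v.val = D.rank + u.val := by rw [h1]; omega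
            rw [if_pos h1, if_pos a1, if_neg a2]; simp
          · have a1 : ¬ D.rank + s.val = D.rank + u.val := fun h' => h1 (Fin.ext (by omega))
            rw [if_neg h1, if_neg a1, zero_add]
            by_cases h2 : u = v
            · have a2 : D.rank + v.val = D.rank + u.val := by rw [h2]
              rw [if_pos h2, if_pos a2]; simp
            · have a2 : ¬ D.rank + v.val = D.rank + u.val := fun h' => h2 (Fin.ext (by omega))
              rw [if_neg h2, if_neg a2]
      · have hc : colX D v.val (encIdx D (Sum.inr s)) =
            (D.rank + s.val, 0, 1) ::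
              (ccAll D v.val s.val).map (fun x => (D.rank + x.1, x.2.1, x.2.2)) := by
          unfold colX
          rw [if_neg e1, if_neg e2, e3, if_neg hsv', if_neg (show ¬ s.val = D.neg v.val from hneg)]; rfl
        rw [hc, polyAt_cons]
        rcases row with i' | u
        · have hi' := i'.isLt
          rw [xMat_inl_gen D F v m s hsv hneg]
          show _ = (if D.rank + s.val = i'.val then ((1 : ℤ) : F) * m ^ 0 else 0) + polyAt m _ i'.val
          rw [if_neg (show ¬ D.rank + s.val = i'.val by omega), zero_add, polyAt_map_shift_lt _ _ _ _ hi']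
        · rw [xMat_inr_gen D F v m s hsv hneg]
          show _ = (if D.rank + s.val = D.rank + u.val then ((1 : ℤ) : F) * m ^ 0 else 0) +
            polyAt m _ (D.rank + u.val)
          rw [polyAt_map_shift]
          congr 1
          by_cases h1 : u = s
          · have a1 : D.rank + s.val = D.rank + u.val := by rw [h1]
            rw [if_pos h1, if_pos a1]; simp
          · have a1 : ¬ D.rank + s.val = D.rank + u.val := fun h' => h1 (Fin.ext (by omega))
            rw [if_neg h1, if_neg a1]

/-- a monomial term `c t^a u^b e_idx`, as `(idx, a, b, c)` -/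
abbrev MTerm := ℕ × ℕ × ℕ × ℤ

/-- the value of the coefficient of a term -/
def tval {F : Type*} [Field F] (t u : F) (x : MTerm) : F := ((x.2.2.2 : ℤ) : F) * t ^ x.2.1 * u ^ x.2.2.1

/-- the coordinate vector of a list of terms -/
def vecOf (D : ChevalleyDatum) {F : Type*} [Field F] (t u : F) (L : List MTerm) : D.Idx → F :=
  fun i => (L.map fun x => if x.1 = encIdx D i then tval t u x else 0).sum

theorem vecOf_nil (D : ChevalleyDatum) {F : Type*} [Field F] (t u : F) : vecOf D t u [] = 0 := by
  funext i; simp [vecOf]

theorem vecOf_append (D : ChevalleyDatum) {F : Type*} [Field F] (t u : F) (L L' : List MTerm) :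
    vecOf D t u (L ++ L') = vecOf D t u L + vecOf D t u L' := by
  funext i; simp [vecOf]

theorem vecOf_cons (D : ChevalleyDatum) {F : Type*} [Field F] (t u : F) (x : MTerm) (L : List MTerm) :
    vecOf D t u (x :: L) = vecOf D t u [x] + vecOf D t u L := by
  funext i; simp [vecOf]

/-- apply `x_v(κ t^a u^b)` to a list of terms -/
def applyX (D : ChevalleyDatum) (v : ℕ) (κ : ℤ) (a b : ℕ) (L : List MTerm) : List MTerm :=
  if v < D.nroots then
    L.flatMap fun x => (colX D v x.1).map fun y =>
      (y.1, x.2.1 + y.2.1 * a, x.2.2.1 + y.2.1 * b, x.2.2.2 * y.2.2 * κ ^ y.2.1)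
  else L

theorem vecOf_map_colX (D : ChevalleyDatum) {F : Type*} [Field F] (t u : F) (κ : ℤ) (a b : ℕ)
    (x : MTerm) (T : List (ℕ × ℕ × ℤ)) (i : D.Idx) :
    vecOf D t u (T.map fun y =>
      (y.1, x.2.1 + y.2.1 * a, x.2.2.1 + y.2.1 * b, x.2.2.2 * y.2.2 * κ ^ y.2.1)) i =
      tval t u x * polyAt ((κ : F) * t ^ a * u ^ b) T (encIdx D i) := by
  induction T with
  | nil => simp [vecOf, polyAt]
  | cons y T ih =>
    rw [List.map_cons, vecOf_cons, Pi.add_apply, ih, polyAt_cons, mul_add]
    congr 1
    show (List.map _ [_]).sum = _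
    simp only [List.map_cons, List.map_nil, List.sum_cons, List.sum_nil, add_zero]
    by_cases h : y.1 = encIdx D i
    · rw [if_pos h, if_pos h]
      unfold tval
      push_cast
      ring
    · rw [if_neg h, if_neg h, mul_zero]

theorem vecOf_applyX (D : ChevalleyDatum) (F : Type*) [Field F] (t u : F) (v : ℕ) (κ : ℤ) (a b : ℕ)
    (L : List MTerm) :
    vecOf D t u (applyX D v κ a b L) = (D.x F v ((κ : F) * t ^ a * u ^ b)) *ᵥ (vecOf D t u L) := by
  unfold applyX ChevalleyDatum.x
  by_cases hv : v < D.nroots
  · rw [if_pos hv, dif_pos hv]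
    induction L with
    | nil => rw [List.flatMap_nil, vecOf_nil, Matrix.mulVec_zero]
    | cons x L ih =>
      rw [List.flatMap_cons, vecOf_append, ih, vecOf_cons D t u x L, Matrix.mulVec_add]
      congr 1
      funext i
      rw [vecOf_map_colX]
      show _ = ∑ j, _ * (vecOf D t u [x]) j
      by_cases hx : x.1 < D.rank + D.nroots
      · obtain ⟨j₀, hj₀⟩ := exists_encIdx_eq D x.1 hx
        rw [Finset.sum_eq_single j₀]
        · rw [xMat_eq_colX D F ⟨v, hv⟩, hj₀]
          have : vecOf D t u [x] j₀ = tval t u x := by
            simp [vecOf, hj₀]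
          rw [this, mul_comm]
        · intro j _ hj
          have : vecOf D t u [x] j = 0 := by
            have hne : ¬ x.1 = encIdx D j := by
              intro h; apply hj
              exact encIdx_injective D (by rw [hj₀, h])
            simp [vecOf, hne]
          rw [this, mul_zero]
        · intro h; exact absurd (Finset.mem_univ _) h
      · have hc : colX D v x.1 = [] := by
          unfold colX
          rw [if_neg (by omega), if_pos (by omega)]
        rw [hc, polyAt_nil, mul_zero]
        symm
        apply Finset.sum_eq_zero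
        intro j _
        have : vecOf D t u [x] j = 0 := by
          have hne : ¬ x.1 = encIdx D j := by
            intro h; exact hx (h ▸ encIdx_lt D j)
          simp [vecOf, hne]
        rw [this, mul_zero]
  · rw [if_neg hv, dif_neg hv, Matrix.one_mulVec]

/-- apply the word of the commutator terms `(root, C, i, j)`, i.e. `∏ x_root(C (-t)^i u^j)` -/
def applyW (D : ChevalleyDatum) (W : List (ℕ × ℤ × ℕ × ℕ)) (L : List MTerm) : List MTerm :=
  W.foldr (fun c L => applyX D c.1 (c.2.1 * (-1) ^ c.2.2.1) c.2.2.1 c.2.2.2 L) L

theorem vecOf_applyW (D : ChevalleyDatum) (F : Type*) [Field F] (t u : F) (W : List (ℕ × ℤ × ℕ × ℕ))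
    (L : List MTerm) :
    vecOf D t u (applyW D W L) =
      (D.wordMat F (W.map fun c => (c.1, (c.2.1 : F) * (-t) ^ c.2.2.1 * u ^ c.2.2.2))) *ᵥ (vecOf D t u L) := by
  unfold applyW ChevalleyDatum.wordMat
  induction W with
  | nil => simp
  | cons c W ih =>
    rw [List.foldr_cons, vecOf_applyX, ih, List.map_cons, List.map_cons, List.prod_cons,
      Matrix.mulVec_mulVec]
    congr 2
    show D.x F c.1 _ = D.x F c.1 _
    congr 1
    push_cast
    rw [neg_pow t]
    ring

/-- two terms have the same monomial and index -/
def sameKey (x y : MTerm) : Bool := x.1 == y.1 && x.2.1 == y.2.1 && x.2.2.1 == y.2.2.1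

/-- an ordering of the keys -/
def keyLt (x y : MTerm) : Bool :=
  decide (x.1 < y.1) || (x.1 == y.1 && (decide (x.2.1 < y.2.1) || (x.2.1 == y.2.1 && decide (x.2.2.1 < y.2.2.1))))

/-- insert a term into a key-sorted list, merging equal keys -/
def insT (x : MTerm) : List MTerm → List MTerm
  | [] => [x]
  | y :: L => if sameKey x y then (y.1, y.2.1, y.2.2.1, x.2.2.2 + y.2.2.2) :: L
              else if keyLt x y then x :: y :: L else y :: insT x L

/-- normal form of a list of terms -/
def normT (L : List MTerm) : List MTerm := (L.foldr insT []).filter (fun x => x.2.2.2 != 0)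

theorem vecOf_insT (D : ChevalleyDatum) {F : Type*} [Field F] (t u : F) (x : MTerm) (L : List MTerm) :
    vecOf D t u (insT x L) = vecOf D t u (x :: L) := by
  induction L with
  | nil => rfl
  | cons y L ih =>
    unfold insT
    by_cases h1 : sameKey x y = true
    · rw [if_pos h1]
      unfold sameKey at h1
      simp only [Bool.and_eq_true, beq_iff_eq] at h1
      obtain ⟨⟨e1, e2⟩, e3⟩ := h1
      rw [vecOf_cons, vecOf_cons D t u x, vecOf_cons D t u y, ← add_assoc]
      congr 1
      funext i
      simp only [vecOf, List.map_cons, List.map_nil, List.sum_cons, List.sum_nil, add_zero, Pi.add_apply]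
      rw [e1]
      by_cases h : y.1 = encIdx D i
      · rw [if_pos h, if_pos h, if_pos h]
        unfold tval
        rw [e2, e3]
        push_cast
        ring
      · rw [if_neg h, if_neg h, if_neg h, add_zero]
    · rw [if_neg h1]
      by_cases h2 : keyLt x y = true
      · rw [if_pos h2]
      · rw [if_neg h2, vecOf_cons, ih, vecOf_cons D t u x (y :: L), vecOf_cons D t u x L,
          vecOf_cons D t u y L]
        abel

theorem vecOf_foldr_insT (D : ChevalleyDatum) {F : Type*} [Field F] (t u : F) (L : List MTerm) :
    vecOf D t u (L.foldr insT []) = vecOf D t u L := by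
  induction L with
  | nil => rfl
  | cons x L ih =>
    rw [List.foldr_cons, vecOf_insT, vecOf_cons, ih, ← vecOf_cons]

theorem vecOf_filter_ne (D : ChevalleyDatum) {F : Type*} [Field F] (t u : F) (L : List MTerm) :
    vecOf D t u (L.filter (fun x => x.2.2.2 != 0)) = vecOf D t u L := by
  induction L with
  | nil => rfl
  | cons x L ih =>
    by_cases h : x.2.2.2 = 0
    · have : (x.2.2.2 != 0) = false := by simp [h]
      rw [List.filter_cons_of_neg (by simp [h]), ih, vecOf_cons D t u x L]
      have : vecOf D t u [x] = 0 := by
        funext i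
        simp [vecOf, tval, h]
      rw [this, zero_add]
    · rw [List.filter_cons_of_pos (by simp [h]), vecOf_cons, ih, ← vecOf_cons]

theorem vecOf_normT (D : ChevalleyDatum) {F : Type*} [Field F] (t u : F) (L : List MTerm) :
    vecOf D t u (normT L) = vecOf D t u L := by
  unfold normT
  rw [vecOf_filter_ne, vecOf_foldr_insT]

/-- check of column `c` of the commutator formula for the pair `(r, s)` -/
def commColB (D : ChevalleyDatum) (r s : ℕ) (W : List (ℕ × ℤ × ℕ × ℕ)) (c : ℕ) : Bool :=
  normT (applyX D s 1 0 1 (applyX D r 1 1 0 [(c, 0, 0, 1)])) ==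
    normT (applyX D r 1 1 0 (applyX D s 1 0 1 (applyW D W [(c, 0, 0, 1)])))

/-- check of the commutator formula for the pair `(r, s)` -/
def commPairB (D : ChevalleyDatum) (r s : ℕ) : Bool :=
  (List.range (D.rank + D.nroots)).all (commColB D r s (D.commTerms r s))

theorem vecOf_single (D : ChevalleyDatum) {F : Type*} [Field F] (t u : F) (j : D.Idx) :
    vecOf D t u [(encIdx D j, 0, 0, 1)] = Pi.single j 1 := by
  funext i
  simp only [vecOf, List.map_cons, List.map_nil, List.sum_cons, List.sum_nil, add_zero, tval,
    pow_zero, Int.cast_one, mul_one]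
  by_cases h : j = i
  · rw [h, if_pos rfl, Pi.single_eq_same]
  · rw [if_neg (fun h' => h (encIdx_injective D h')), Pi.single_eq_of_ne (Ne.symm h)]

/-- Chevalley's commutator formula for a pair of roots passing the check -/
theorem comm_of_commPairB (D : ChevalleyDatum) (r s : ℕ) (h : commPairB D r s = true) (F : Type*) [Field F]
    (t u : F) :
    D.x F s u * D.x F r t = D.x F r t * D.x F s u * D.wordMat F (D.commWord F r s t u) := by
  unfold commPairB at h
  rw [List.all_eq_true] at h
  have hcol : ∀ j : D.Idx, (D.x F s u * D.x F r t) *ᵥ (Pi.single j 1) =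
      (D.x F r t * D.x F s u * D.wordMat F (D.commWord F r s t u)) *ᵥ (Pi.single j 1) := by
    intro j
    have hj := h (encIdx D j) (List.mem_range.mpr (encIdx_lt D j))
    unfold commColB at hj
    rw [beq_iff_eq] at hj
    have h1 := congrArg (vecOf D t u) hj
    rw [vecOf_normT, vecOf_normT, vecOf_applyX, vecOf_applyX, vecOf_applyX, vecOf_applyX, vecOf_applyW,
      vecOf_single] at h1
    simp only [Int.cast_one, one_mul, pow_zero, pow_one, mul_one] at h1
    rw [Matrix.mulVec_mulVec, Matrix.mulVec_mulVec, Matrix.mulVec_mulVec] at h1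
    exact h1
  ext i j
  have := congrFun (hcol j) i
  rwa [Matrix.mulVec_single_one, Matrix.mulVec_single_one] at this

end Cfsg.Agent.Lib.Helper7
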