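import Cfsg.Agent.Lib.Helper7.ChevConj0

/-!
Equivariance of the terms of the commutator formula under a fundamental reflection, derived from the
equivariance of the chain table (`ConjFacts.cc`), for data without chains of length three (helper7).
-/

set_option autoImplicit false

namespace Cfsg.Agent.Lib.Helper7

open Cfsg Cfsg.Lie

theorem ccAll_eq_chainEntry (D : ChevalleyDatum) (r s : ℕ)
    (hnd : ((D.chain.getD r #[]).toList.map Prod.fst).Nodup) :
    ccAll D r s = (D.chainEntry r s).zipIdx.map (fun q => (q.1.1, q.2 + 1, q.1.2)) := by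
  unfold ccAll ChevalleyDatum.chainEntry
  rw [← List.head?_filter]
  rcases hfl : (D.chain.getD r #[]).toList.filter (fun e => decide (e.1 = s)) with _ | ⟨e, rest⟩
  · rw [hfl]; rfl
  · have he : e ∈ (D.chain.getD r #[]).toList.filter (fun e => decide (e.1 = s)) := by
      rw [hfl]; exact List.mem_cons_self ..
    rw [List.mem_filter] at he
    have hes : e.1 = s := by simpa using he.2
    have h1 := filter_key_eq_singleton _ hnd e he.1
    rw [hes] at h1
    have h2 : (D.chain.getD r #[]).toList.filter (fun e => decide (e.1 = s)) = [e] := by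
      rw [← h1]
    rw [hfl] at h2
    have hrest : rest = [] := by simpa using h2
    rw [hfl, hrest]
    simp [entryList]

theorem chainEntry_reflect (D : ChevalleyDatum) (i : ℕ) (η : ℕ → ℤ) (hC : ConjFacts D i η)
    (hnd : ∀ r < D.nroots, ((D.chain.getD r #[]).toList.map Prod.fst).Nodup)
    (r s : ℕ) (hr : r < D.nroots) (hs : s < D.nroots) (hsr : s ≠ r) (hsn : s ≠ D.neg r) :
    D.chainEntry (D.reflectRoot i r) (D.reflectRoot i s) =
      (D.chainEntry r s).zipIdx.map
        (fun q => (D.reflectRoot i q.1.1, q.1.2 * η q.1.1 * η s * η r ^ (q.2 + 1))) := by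
  have h1 := ccAll_eq_chainEntry D (D.reflectRoot i r) (D.reflectRoot i s) (hnd _ (hC.wlt r hr))
  have h2 := ccAll_eq_chainEntry D r s (hnd r hr)
  have h3 := hC.cc r hr s hs hsr hsn
  rw [h1, h2, List.map_map] at h3
  have h4 := congrArg (List.map (fun x : ℕ × ℕ × ℤ => (x.1, x.2.2))) h3
  rw [List.map_map, List.map_map] at h4
  have h5 : ((fun x : ℕ × ℕ × ℤ => (x.1, x.2.2)) ∘ fun q : (ℕ × ℤ) × ℕ => (q.1.1, q.2 + 1, q.1.2)) =
      Prod.fst := by
    funext q; rfl
  rw [h5, List.zipIdx_map_fst] at h4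
  rw [h4]
  apply List.map_congr_left
  intro q _
  rfl

/-- the sign-twisted image of a commutator term under the reflection -/
def termMap (D : ChevalleyDatum) (i : ℕ) (η : ℕ → ℤ) (r s : ℕ) (c : ℕ × ℤ × ℕ × ℕ) : ℕ × ℤ × ℕ × ℕ :=
  (D.reflectRoot i c.1, c.2.1 * η c.1 * η r ^ c.2.2.1 * η s ^ c.2.2.2, c.2.2.1, c.2.2.2)

theorem commTerms_reflect (D : ChevalleyDatum) (i : ℕ) (η : ℕ → ℤ) (hC : ConjFacts D i η)
    (hnd : ∀ r < D.nroots, ((D.chain.getD r #[]).toList.map Prod.fst).Nodup)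
    (hlen : ∀ r s, (D.chainEntry r s).length ≤ 2)
    (hnegneg : ∀ r < D.nroots, D.neg (D.neg r) = r)
    (r s : ℕ) (hr : r < D.nroots) (hs : s < D.nroots) (hsr : s ≠ r) (hsn : s ≠ D.neg r) :
    D.commTerms (D.reflectRoot i r) (D.reflectRoot i s) = (D.commTerms r s).map (termMap D i η r s) := by
  have hrs : r ≠ s := fun h => hsr h.symm
  have hrn : r ≠ D.neg s := by
    intro h
    apply hsn
    rw [h, hnegneg s hs]
  have e1 := chainEntry_reflect D i η hC hnd r s hr hs hsr hsn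
  have e2 := chainEntry_reflect D i η hC hnd s r hs hr hrs hrn
  have l1 := hlen r s
  have l2 := hlen s r
  unfold ChevalleyDatum.commTerms ChevalleyDatum.chainRoot ChevalleyDatum.chainM
  rw [e1, e2]
  generalize D.chainEntry r s = E1 at l1 ⊢
  generalize D.chainEntry s r = E2 at l2 ⊢
  rcases E1 with _ | ⟨⟨v1, M1⟩, _ | ⟨⟨v2, M2⟩, _ | ⟨x, rest⟩⟩⟩
  · rcases E2 with _ | ⟨⟨v1', M1'⟩, _ | ⟨⟨v2', M2'⟩, _ | ⟨x', rest'⟩⟩⟩
    · simp [List.zipIdx]
    · simp [List.zipIdx]
    · simp [termMap, List.zipIdx]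
    · simp at l2
  · rcases E2 with _ | ⟨⟨v1', M1'⟩, _ | ⟨⟨v2', M2'⟩, _ | ⟨x', rest'⟩⟩⟩
    · simp [termMap, List.zipIdx]; ring
    · simp [termMap, List.zipIdx]; ring
    · simp [termMap, List.zipIdx]; ring
    · simp at l2
  · rcases E2 with _ | ⟨⟨v1', M1'⟩, _ | ⟨⟨v2', M2'⟩, _ | ⟨x', rest'⟩⟩⟩
    · simp [termMap, List.zipIdx]; constructor <;> ring
    · simp [termMap, List.zipIdx]; constructor <;> ring
    · simp [termMap, List.zipIdx]; constructor <;> ring
    · simp at l2
  · simp at l1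

end Cfsg.Agent.Lib.Helper7
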