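import Cfsg.Agent.Lib.Helper7.ChevComm0
import Cfsg.Agent.Lib.Helper7.ChevComm1
import Cfsg.Agent.Lib.Helper7.ChevPar
import Cfsg.Agent.Lib.Helper7.ChevRootMain

/-!
Transport of Chevalley's commutator formula along the Weyl group, and the resulting reduction of the
formula for all pairs of roots to a few base pairs (helper7).
-/

set_option autoImplicit false

namespace Cfsg.Agent.Lib.Helper7

open Cfsg Cfsg.Lie Matrix

universe u

/-- the commutator formula for the pair `(r, s)` over all fields of a universe -/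
def CommOK (D : ChevalleyDatum) (r s : ℕ) : Prop :=
  ∀ (F : Type u) [Field F] (t u : F),
    D.x F s u * D.x F r t = D.x F r t * D.x F s u * D.wordMat F (D.commWord F r s t u)

/-- no chain of the table has more than two steps -/
def shortB (D : ChevalleyDatum) : Bool :=
  D.chain.toList.all fun ch => ch.toList.all fun e => decide (e.2.size ≤ 2)

theorem chainEntry_length_le (D : ChevalleyDatum) (h : shortB D = true) (r s : ℕ) :
    (D.chainEntry r s).length ≤ 2 := by
  unfold ChevalleyDatum.chainEntry
  rcases hf : (D.chain.getD r #[]).toList.find? (fun e => decide (e.1 = s)) with _ | e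
  · rw [hf]; exact Nat.zero_le _
  · rw [hf]
    show e.2.toList.length ≤ 2
    have he : e ∈ (D.chain.getD r #[]).toList := List.mem_of_find?_eq_some hf
    unfold shortB at h
    simp only [List.all_eq_true, decide_eq_true_eq] at h
    by_cases hr : r < D.chain.size
    · have hmem : D.chain.getD r #[] ∈ D.chain.toList := by
        rw [Array.getD_eq_getD_getElem?, Array.getElem?_eq_getElem hr]
        simp
      have := h _ hmem e he
      simpa using this
    · have : D.chain.getD r #[] = #[] := by
        rw [Array.getD_eq_getD_getElem?, Array.getElem?_eq_none (by omega)]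
        rfl
      rw [this] at he
      simp at he

section
variable (D : ChevalleyDatum) (hD : D ∈ [chevG2, chevB2, chevD4, chevF4, chevE6, chevE7, chevE8])
include hD

theorem keys_nodup (r : ℕ) (hr : r < D.nroots) : ((D.chain.getD r #[]).toList.map Prod.fst).Nodup :=
  (pairwise_of_sortedB _ (sortedB_of_rootOKB D r (rootOKB_of_addOKB D (addOKB_of_mem D hD) r hr))).imp
    (fun hab => ne_of_lt hab)

theorem chainEntry_fst_lt (r s : ℕ) (hr : r < D.nroots) : ∀ p ∈ D.chainEntry r s, p.1 < D.nroots := by
  intro p hp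
  have h1 := ccAll_eq_chainEntry D r s (keys_nodup D hD r hr)
  obtain ⟨k, hk⟩ := List.getElem_of_mem hp
  obtain ⟨hk1, hk2⟩ := hk
  have hmem : (p.1, k + 1, p.2) ∈ ccAll D r s := by
    rw [h1, List.mem_map]
    refine ⟨(p, k), ?_, rfl⟩
    rw [List.mem_iff_getElem]
    refine ⟨k, by simpa using hk1, ?_⟩
    simp [hk2]
  exact ((addHyp_of_addOKB D (addOKB_of_mem D hD) r hr).2.1 s _ hmem).1

theorem commTerms_fst_lt (hshort : shortB D = true) (r s : ℕ) (hr : r < D.nroots) (hs : s < D.nroots) :
    ∀ c ∈ D.commTerms r s, c.1 < D.nroots := by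
  have l1 := chainEntry_length_le D hshort r s
  have l2 := chainEntry_length_le D hshort s r
  have b1 := chainEntry_fst_lt D hD r s hr
  have b2 := chainEntry_fst_lt D hD s r hs
  unfold ChevalleyDatum.commTerms ChevalleyDatum.chainRoot ChevalleyDatum.chainM
  generalize D.chainEntry r s = E1 at l1 b1 ⊢
  generalize D.chainEntry s r = E2 at l2 b2 ⊢
  rcases E1 with _ | ⟨⟨v1, M1⟩, _ | ⟨⟨v2, M2⟩, _ | ⟨x, rest⟩⟩⟩
  · rcases E2 with _ | ⟨⟨v1', M1'⟩, _ | ⟨⟨v2', M2'⟩, _ | ⟨x', rest'⟩⟩⟩
    · simp
    · simp
    · simp at b2 ⊢; exact b2.2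
    · simp at l2
  · rcases E2 with _ | ⟨⟨v1', M1'⟩, _ | ⟨⟨v2', M2'⟩, _ | ⟨x', rest'⟩⟩⟩
    · simp at b1 ⊢; exact b1
    · simp at b1 ⊢; exact b1
    · simp at b1 b2 ⊢; exact ⟨b1, b2.2⟩
    · simp at l2
  · rcases E2 with _ | ⟨⟨v1', M1'⟩, _ | ⟨⟨v2', M2'⟩, _ | ⟨x', rest'⟩⟩⟩
    · simp at b1 ⊢; exact b1
    · simp at b1 ⊢; exact b1
    · simp at b1 b2 ⊢; exact ⟨b1.1, b1.2, b2.2⟩
    · simp at l2
  · simp at l1

variable (F : Type u) [Field F]

/-- `n_p w n_p⁻¹` for a word `w` of root elements -/
theorem nGL_conj_wordGL (i : ℕ) (hi : i < D.rank) (w : List (ℕ × F)) (hw : ∀ p ∈ w, p.1 < D.nroots) :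
    wordGL D hD F (D.nWord (D.simple i) 1) * wordGL D hD F w * (wordGL D hD F (D.nWord (D.simple i) 1))⁻¹ =
      wordGL D hD F (w.map fun p => (D.reflectRoot i p.1, ((etaFn D i p.1 : ℤ) : F) * p.2)) := by
  induction w with
  | nil =>
    show _ * 1 * _ = 1
    rw [mul_one, mul_inv_cancel]
  | cons p w ih =>
    have h1 : wordGL D hD F (p :: w) = xGL D hD F p.1 p.2 * wordGL D hD F w := by
      unfold wordGL; rw [List.map_cons, List.prod_cons]
    have h2 : wordGL D hD F ((p :: w).map fun p => (D.reflectRoot i p.1, ((etaFn D i p.1 : ℤ) : F) * p.2)) =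
        xGL D hD F (D.reflectRoot i p.1) (((etaFn D i p.1 : ℤ) : F) * p.2) *
          wordGL D hD F (w.map fun p => (D.reflectRoot i p.1, ((etaFn D i p.1 : ℤ) : F) * p.2)) := by
      unfold wordGL; rw [List.map_cons, List.map_cons, List.prod_cons]
    rw [h1, h2, ← ih (fun q hq => hw q (List.mem_cons_of_mem _ hq)),
      ← nGL_conj_xGL D hD F i hi p.1 (hw p (List.mem_cons_self ..)) p.2]
    group

/-- transport of the commutator formula by a fundamental reflection -/
theorem commOK_reflect (hshort : shortB D = true) (i : ℕ) (hi : i < D.rank) (r s : ℕ)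
    (hr : r < D.nroots) (hs : s < D.nroots) (hsr : s ≠ r) (hsn : s ≠ D.neg r)
    (h : CommOK.{u} D r s) : CommOK.{u} D (D.reflectRoot i r) (D.reflectRoot i s) := by
  intro F _ t' u'
  have hC := conjFacts_of_mem D hD i hi
  set ηr : F := ((etaFn D i r : ℤ) : F) with hηr
  set ηs : F := ((etaFn D i s : ℤ) : F) with hηs
  have hr2 : ηr * ηr = 1 := eta_sq D hD F i hi r hr
  have hs2 : ηs * ηs = 1 := eta_sq D hD F i hi s hs
  have hGL : xGL D hD F s (ηs * u') * xGL D hD F r (ηr * t') =
      xGL D hD F r (ηr * t') * xGL D hD F s (ηs * u') *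
        wordGL D hD F (D.commWord F r s (ηr * t') (ηs * u')) := by
    apply Units.ext
    rw [Units.val_mul, Units.val_mul, Units.val_mul, coe_xGL, coe_xGL, coe_wordGL]
    exact h F (ηr * t') (ηs * u')
  set N := wordGL D hD F (D.nWord (D.simple i) 1) with hN
  have hconj : N * (xGL D hD F s (ηs * u') * xGL D hD F r (ηr * t')) * N⁻¹ =
      N * (xGL D hD F r (ηr * t') * xGL D hD F s (ηs * u') *
        wordGL D hD F (D.commWord F r s (ηr * t') (ηs * u'))) * N⁻¹ := by rw [hGL]
  have e1 : N * (xGL D hD F s (ηs * u') * xGL D hD F r (ηr * t')) * N⁻¹ =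
      (N * xGL D hD F s (ηs * u') * N⁻¹) * (N * xGL D hD F r (ηr * t') * N⁻¹) := by group
  have e2 : N * (xGL D hD F r (ηr * t') * xGL D hD F s (ηs * u') *
        wordGL D hD F (D.commWord F r s (ηr * t') (ηs * u'))) * N⁻¹ =
      (N * xGL D hD F r (ηr * t') * N⁻¹) * (N * xGL D hD F s (ηs * u') * N⁻¹) *
        (N * wordGL D hD F (D.commWord F r s (ηr * t') (ηs * u')) * N⁻¹) := by group
  rw [e1, e2, nGL_conj_xGL D hD F i hi s hs, nGL_conj_xGL D hD F i hi r hr, ← hηr, ← hηs,
    ← mul_assoc, ← mul_assoc, hr2, hs2, one_mul, one_mul] at hconj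
  have hwlt : ∀ p ∈ D.commWord F r s (ηr * t') (ηs * u'), p.1 < D.nroots := by
    intro p hp
    unfold ChevalleyDatum.commWord at hp
    rw [List.mem_map] at hp
    obtain ⟨c, hc, rfl⟩ := hp
    exact commTerms_fst_lt D hD hshort r s hr hs c hc
  rw [nGL_conj_wordGL D hD F i hi _ hwlt] at hconj
  have hword : (D.commWord F r s (ηr * t') (ηs * u')).map
      (fun p => (D.reflectRoot i p.1, ((etaFn D i p.1 : ℤ) : F) * p.2)) =
      D.commWord F (D.reflectRoot i r) (D.reflectRoot i s) t' u' := by
    unfold ChevalleyDatum.commWord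
    rw [commTerms_reflect D i (etaFn D i) hC (keys_nodup D hD) (chainEntry_length_le D hshort)
      (fun r hr => (negInvOK_of_mem D hD r hr).1) r s hr hs hsr hsn, List.map_map, List.map_map]
    apply List.map_congr_left
    intro c _
    show (D.reflectRoot i c.1, _) = (D.reflectRoot i c.1, _)
    congr 1
    show ((etaFn D i c.1 : ℤ) : F) * (((c.2.1 : ℤ) : F) * (-(ηr * t')) ^ c.2.2.1 * (ηs * u') ^ c.2.2.2) =
      ((c.2.1 * etaFn D i c.1 * etaFn D i r ^ c.2.2.1 * etaFn D i s ^ c.2.2.2 : ℤ) : F) *
        (-t') ^ c.2.2.1 * u' ^ c.2.2.2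
    push_cast
    rw [← hηr, ← hηs, neg_mul_eq_mul_neg, mul_pow, mul_pow]
    ring
  rw [hword] at hconj
  have := congrArg Units.val hconj
  rw [Units.val_mul, Units.val_mul, Units.val_mul, coe_xGL, coe_xGL, coe_wordGL] at this
  exact this

end

/-- shifted coroot height, decreasing when the root moves up -/
def depthN (D : ChevalleyDatum) (r : ℕ) : ℕ :=
  (64 - ((List.range D.rank).map fun k => (D.coroot.getD r #[]).getD k 0).sum).toNat

/-- dominant roots -/
def isDomB (D : ChevalleyDatum) (r : ℕ) : Bool := (List.range D.rank).all fun i => decide (0 ≤ D.cartan i r)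

/-- every root is dominant or moves up under some fundamental reflection -/
def climbB (D : ChevalleyDatum) : Bool :=
  (List.range D.nroots).all fun r => isDomB D r ||
    (List.range D.rank).any fun i => decide (depthN D (D.reflectRoot i r) < depthN D r)

/-- for the root `θ`: every root `s ≠ ±θ` is in the base list `B` or moves up under some fundamental
reflection fixing `θ` -/
def stabB (D : ChevalleyDatum) (θ : ℕ) (B : List ℕ) : Bool :=
  (List.range D.nroots).all fun s => s == θ || s == D.neg θ || B.contains s ||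
    (List.range D.rank).any fun i => D.reflectRoot i θ == θ &&
      decide (depthN D (D.reflectRoot i s) < depthN D s)

/-- the data reducing the commutator formula to base pairs -/
structure CommData (D : ChevalleyDatum) : Prop where
  short : shortB D = true
  climb : climbB D = true
  base : ∀ θ < D.nroots, isDomB D θ = true → ∃ B : List ℕ, stabB D θ B = true ∧
    ∀ s ∈ B, commPairB D θ s = true

section
variable (D : ChevalleyDatum) (hD : D ∈ [chevG2, chevB2, chevD4, chevF4, chevE6, chevE7, chevE8])
include hD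

theorem reflect_ne (i : ℕ) (hi : i < D.rank) (r s : ℕ) (hr : r < D.nroots) (hs : s < D.nroots)
    (hsr : s ≠ r) (hsn : s ≠ D.neg r) :
    D.reflectRoot i s ≠ D.reflectRoot i r ∧ D.reflectRoot i s ≠ D.neg (D.reflectRoot i r) := by
  have hC := conjFacts_of_mem D hD i hi
  constructor
  · intro h
    apply hsr
    rw [← hC.winv s hs, h, hC.winv r hr]
  · intro h
    apply hsn
    rw [← (hC.wneg r hr).2.1] at h
    rw [← hC.winv s hs, h, hC.winv _ (hC.wneg r hr).1]

theorem commOK_of_commData (hdata : CommData D) (r s : ℕ) (hr : r < D.nroots) (hs : s < D.nroots)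
    (hsr : s ≠ r) (hsn : s ≠ D.neg r) : CommOK.{u} D r s := by
  -- stage 2: dominant first root
  have stage2 : ∀ θ < D.nroots, isDomB D θ = true → ∀ n : ℕ, ∀ s < D.nroots, depthN D s ≤ n →
      s ≠ θ → s ≠ D.neg θ → CommOK.{u} D θ s := by
    intro θ hθ hdom
    obtain ⟨B, hB1, hB2⟩ := hdata.base θ hθ hdom
    unfold stabB at hB1
    simp only [List.all_eq_true, List.mem_range, Bool.or_eq_true, beq_iff_eq, List.contains_iff_mem,
      List.any_eq_true, Bool.and_eq_true, decide_eq_true_eq] at hB1
    intro n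
    induction n with
    | zero =>
      intro s hs hn hsθ hsn
      rcases hB1 s hs with ((h | h) | h) | ⟨i, hi, hfix, hlt⟩
      · exact absurd h hsθ
      · exact absurd h hsn
      · intro F _ t u
        exact comm_of_commPairB D θ s (hB2 s h) F t u
      · omega
    | succ n ih =>
      intro s hs hn hsθ hsn
      rcases hB1 s hs with ((h | h) | h) | ⟨i, hi, hfix, hlt⟩
      · exact absurd h hsθ
      · exact absurd h hsn
      · intro F _ t u
        exact comm_of_commPairB D θ s (hB2 s h) F t u
      · have hC := conjFacts_of_mem D hD i hi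
        have hs' : D.reflectRoot i s < D.nroots := hC.wlt s hs
        have hne := reflect_ne D hD i hi θ s hθ hs hsθ hsn
        rw [hfix] at hne
        have h1 := ih _ hs' (by omega) hne.1 hne.2
        have h2 := commOK_reflect D hD hdata.short i hi θ _ hθ hs' hne.1 hne.2 h1
        rw [hfix, hC.winv s hs] at h2
        exact h2
  -- stage 1: arbitrary first root
  have hclimb := hdata.climb
  unfold climbB at hclimb
  simp only [List.all_eq_true, List.mem_range, Bool.or_eq_true, List.any_eq_true,
    decide_eq_true_eq] at hclimb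
  have stage1 : ∀ n : ℕ, ∀ r < D.nroots, depthN D r ≤ n → ∀ s < D.nroots,
      s ≠ r → s ≠ D.neg r → CommOK.{u} D r s := by
    intro n
    induction n with
    | zero =>
      intro r hr hn s hs hsr hsn
      rcases hclimb r hr with h | ⟨i, hi, hlt⟩
      · exact stage2 r hr h _ s hs le_rfl hsr hsn
      · omega
    | succ n ih =>
      intro r hr hn s hs hsr hsn
      rcases hclimb r hr with h | ⟨i, hi, hlt⟩
      · exact stage2 r hr h _ s hs le_rfl hsr hsn
      · have hC := conjFacts_of_mem D hD i hi
        have hr' : D.reflectRoot i r < D.nroots := hC.wlt r hr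
        have hs' : D.reflectRoot i s < D.nroots := hC.wlt s hs
        have hne := reflect_ne D hD i hi r s hr hs hsr hsn
        have h1 := ih _ hr' (by omega) _ hs' hne.1 hne.2
        have h2 := commOK_reflect D hD hdata.short i hi _ _ hr' hs' hne.1 hne.2 h1
        rw [hC.winv r hr, hC.winv s hs] at h2
        exact h2
  exact stage1 _ r hr le_rfl s hs hsr hsn

end

end Cfsg.Agent.Lib.Helper7
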