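import Cfsg.Agent.Lib.Helper7.ChevComm2

/-! Assembling `CommData` from boolean checks (helper7). -/

set_option autoImplicit false
namespace Cfsg.Agent.Lib.Helper7
open Cfsg Cfsg.Lie

/-- the dominant roots are among the listed ones -/
def domCoverB (D : ChevalleyDatum) (doms : List (ℕ × List ℕ)) : Bool :=
  (List.range D.nroots).all fun r => !isDomB D r || doms.any fun p => p.1 == r

/-- the descent checks for the listed dominant roots -/
def stabAllB (D : ChevalleyDatum) (doms : List (ℕ × List ℕ)) : Bool :=
  doms.all fun p => stabB D p.1 p.2

/-- the base pairs satisfy the commutator formula -/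
def baseAllB (D : ChevalleyDatum) (doms : List (ℕ × List ℕ)) : Bool :=
  doms.all fun p => p.2.all fun s => commPairB D p.1 s

theorem commData_mk (D : ChevalleyDatum) (doms : List (ℕ × List ℕ)) (h1 : shortB D = true)
    (h2 : climbB D = true) (h3 : domCoverB D doms = true) (h4 : stabAllB D doms = true)
    (h5 : baseAllB D doms = true) : CommData D := by
  refine ⟨h1, h2, ?_⟩
  intro θ hθ hdom
  unfold domCoverB at h3
  simp only [List.all_eq_true, List.mem_range, Bool.or_eq_true, Bool.not_eq_true', List.any_eq_true,
    beq_iff_eq] at h3
  rcases h3 θ hθ with h | ⟨p, hp, hpθ⟩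
  · rw [hdom] at h; exact absurd h (by simp)
  · unfold stabAllB at h4
    unfold baseAllB at h5
    rw [List.all_eq_true] at h4 h5
    refine ⟨p.2, ?_, ?_⟩
    · rw [← hpθ]; exact h4 p hp
    · intro s hs
      have := h5 p hp
      rw [List.all_eq_true] at this
      rw [← hpθ]; exact this s hs

/-- the commutator formula for all pairs, checked directly -/
def commAllB (D : ChevalleyDatum) : Bool :=
  (List.range D.nroots).all fun r => (List.range D.nroots).all fun s =>
    s == r || s == D.neg r || commPairB D r s

universe u

theorem commOK_of_commAllB (D : ChevalleyDatum) (h : commAllB D = true) (r s : ℕ) (hr : r < D.nroots)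
    (hs : s < D.nroots) (hsr : s ≠ r) (hsn : s ≠ D.neg r) : CommOK.{u} D r s := by
  unfold commAllB at h
  simp only [List.all_eq_true, List.mem_range, Bool.or_eq_true, beq_iff_eq] at h
  rcases h r hr s hs with (h | h) | h
  · exact absurd h hsr
  · exact absurd h hsn
  · intro F _ t u
    exact comm_of_commPairB D r s h F t u

end Cfsg.Agent.Lib.Helper7
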