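import Cfsg.Agent.Lib.Helper7.ChevComm3

/-! commutator formula: table checks (helper7) -/

set_option autoImplicit false
namespace Cfsg.Agent.Lib.Helper7
open Cfsg Cfsg.Lie

set_option maxRecDepth 100000 in
theorem commAllB_G2 : commAllB chevG2 = true := by decide +kernel

def commDomsB2 : List (ℕ × List ℕ) := [(6, [3, 5, 7]), (7, [2, 4, 6])]

theorem short_B2 : shortB chevB2 = true := by decide +kernel
theorem climb_B2 : climbB chevB2 = true := by decide +kernel
theorem domCover_B2 : domCoverB chevB2 commDomsB2 = true := by decide +kernel
theorem stabAll_B2 : stabAllB chevB2 commDomsB2 = true := by decide +kernel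
theorem baseAll_B2 : baseAllB chevB2 commDomsB2 = true := by decide +kernel

theorem commData_B2 : CommData chevB2 :=
  commData_mk _ _ short_B2 climb_B2 domCover_B2 stabAll_B2 baseAll_B2

def commDomsD4 : List (ℕ × List ℕ) := [(23, [9, 12, 13, 18, 22])]

theorem short_D4 : shortB chevD4 = true := by decide +kernel
theorem climb_D4 : climbB chevD4 = true := by decide +kernel
theorem domCover_D4 : domCoverB chevD4 commDomsD4 = true := by decide +kernel
theorem stabAll_D4 : stabAllB chevD4 commDomsD4 = true := by decide +kernel
theorem baseAll_D4 : baseAllB chevD4 commDomsD4 = true := by decide +kernel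

theorem commData_D4 : CommData chevD4 :=
  commData_mk _ _ short_D4 climb_D4 domCover_D4 stabAll_D4 baseAll_D4

end Cfsg.Agent.Lib.Helper7
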