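import Cfsg.Agent.Lib.Helper7.ChevComm3

/-! commutator formula: table checks (helper7) -/

set_option autoImplicit false
namespace Cfsg.Agent.Lib.Helper7
open Cfsg Cfsg.Lie

def commDomsE8 : List (ℕ × List ℕ) := [(239, [119, 226, 238])]

theorem short_E8 : shortB chevE8 = true := by decide +kernel
theorem climb_E8 : climbB chevE8 = true := by decide +kernel
theorem domCover_E8 : domCoverB chevE8 commDomsE8 = true := by decide +kernel
theorem stabAll_E8 : stabAllB chevE8 commDomsE8 = true := by decide +kernel

end Cfsg.Agent.Lib.Helper7
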