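import Cfsg.Agent.Lib.Helper7.ChevConj0
import Cfsg.Agent.Lib.Helper7.ChevHx

set_option autoImplicit false

namespace Cfsg.Agent.Lib.Helper7

open Cfsg Cfsg.Lie Matrix

section
variable (D : ChevalleyDatum) (i : ℕ) (η : ℕ → ℤ) (hC : ConjFacts D i η) (F : Type*) [Field F]
include hC

theorem etaF_sq (s : ℕ) (hs : s < D.nroots) : ((η s : ℤ) : F) * ((η s : ℤ) : F) = 1 := by
  rcases hC.ηpm s hs with h | h <;> rw [h] <;> simp

theorem wFin_inj {a b : Fin D.nroots} (h : wFin D i η hC a = wFin D i η hC b) : a = b := by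
  have := congrArg (wFin D i η hC) h
  rwa [wFin_wFin, wFin_wFin] at this

theorem wFin_eq_iff (a b : Fin D.nroots) : wFin D i η hC a = b ↔ a = wFin D i η hC b := by
  constructor
  · intro h; rw [← h, wFin_wFin]
  · intro h; rw [h, wFin_wFin]

/-- block (A) and (C): columns `h_j` -/
theorem nMono_xMat_comm_inl (s : Fin D.nroots) (t : F) (row : D.Idx) (j : Fin D.rank) :
    (nMono D i η F * D.xMat F s t) row (Sum.inl j) =
      (D.xMat F (wFin D i η hC s) (((η s.val : ℤ) : F) * t) * nMono D i η F) row (Sum.inl j) := by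
  rw [mul_nMono_inl D i η hC F]
  rcases row with j' | u'
  · rw [nMono_mul_inl D i η hC F]
    simp only [xMat_inl_inl]
    by_cases hj : (j' : ℕ) = i
    · have hj' : j' = ⟨i, hC.hi⟩ := Fin.ext hj
      simp [hj, hj']
    · have hj' : ¬ j' = ⟨i, hC.hi⟩ := fun h => hj (congrArg Fin.val h)
      simp [hj, hj']
  · rw [nMono_mul_inr D i η hC F]
    simp only [xMat_inr_inl]
    by_cases hu : u' = wFin D i η hC s
    · have h1 : wFin D i η hC u' = s := by rw [hu, wFin_wFin]
      have h2 : D.reflectRoot i u'.val = s.val := congrArg Fin.val h1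
      rw [if_pos h1, if_pos hu, if_pos hu, h2]
      have e1 := hC.carRefl j.val j.isLt s.val s.isLt
      have e2 := hC.carI s.val s.isLt
      have e1' : (D.cartanSR.getD j.val #[]).getD (wFin D i η hC s).val 0 =
          (D.cartanSR.getD j.val #[]).getD s.val 0 - (D.cartanSR.getD i #[]).getD s.val 0 * D.cartan j (D.simple i) := e1
      have e2' : (D.cartanSR.getD i #[]).getD (wFin D i η hC s).val 0 = - (D.cartanSR.getD i #[]).getD s.val 0 := e2
      show _ = _ - _ * (-(((D.cartanSR.getD i #[]).getD (wFin D i η hC s).val 0 : ℤ) : F) * _)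
      rw [e1', e2']
      push_cast
      ring
    · have h1 : ¬ wFin D i η hC u' = s := fun h => hu ((wFin_eq_iff D i η hC _ _).mp h)
      rw [if_neg h1, if_neg hu, if_neg hu]
      ring


omit hC in
theorem sum_cast_list (f : ℕ → ℤ) (g : Fin D.rank → F) (hfg : ∀ j : Fin D.rank, ((f j.val : ℤ) : F) = g j) :
    ((((List.range D.rank).map f).sum : ℤ) : F) = ∑ j : Fin D.rank, g j := by
  rw [← sum_range_eq_list, Int.cast_sum, Fin.sum_univ_eq_sum_range (fun j => ((f j : ℤ) : F)) D.rank |>.symm]
  exact Finset.sum_congr rfl (fun j _ => hfg j)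

/-- block (B): rows `h_j'`, columns `e_v` -/
theorem nMono_xMat_comm_inl_inr (s : Fin D.nroots) (t : F) (j' : Fin D.rank) (v : Fin D.nroots) :
    (nMono D i η F * D.xMat F s t) (Sum.inl j') (Sum.inr v) =
      (D.xMat F (wFin D i η hC s) (((η s.val : ℤ) : F) * t) * nMono D i η F) (Sum.inl j') (Sum.inr v) := by
  rw [mul_nMono_inr D i η hC F, nMono_mul_inl D i η hC F]
  obtain ⟨hn1, hn2, hn3⟩ := hC.wneg s.val s.isLt
  by_cases hvs : v = s
  · subst hvs
    simp only [xMat_inl_self, mul_zero, Finset.sum_const_zero, ite_self, sub_zero, zero_mul]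
  · have hwne : wFin D i η hC v ≠ wFin D i η hC s := fun h => hvs (wFin_inj D i η hC h)
    by_cases hneg : v.val = D.negIdx.getD s.val 0
    · have hvn : v.val = D.neg s.val := hneg
      have hwneg : (wFin D i η hC v).val = D.negIdx.getD (wFin D i η hC s).val 0 := by
        show D.reflectRoot i v.val = D.neg (D.reflectRoot i s.val)
        rw [hvn, hn2]
      rw [xMat_inl_neg D F _ _ _ hwne hwneg, xMat_inl_neg D F s t v hvs hneg]
      have e1 : ∀ j'' : Fin D.rank, D.xMat F s t (Sum.inl j'') (Sum.inr v) =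
          (((D.coroot.getD s.val #[]).getD j''.val 0 : ℤ) : F) * t :=
        fun j'' => xMat_inl_neg D F s t v hvs hneg j''
      simp only [e1]
      have hηv : ((η v.val : ℤ) : F) = ((η s.val : ℤ) : F) := by rw [hvn, hC.ηneg s.val s.isLt]
      rw [hηv]
      have hcor := hC.corRefl j'.val j'.isLt s.val s.isLt
      have hcor' : (D.coroot.getD (wFin D i η hC s).val #[]).getD j'.val 0 = _ := hcor
      rw [hcor']
      have hsq := etaF_sq D i η hC F s.val s.isLt
      by_cases hj : (j' : ℕ) = i
      · rw [if_pos hj, if_pos hj, Int.cast_sub]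
        rw [sum_cast_list D F (fun j => (D.coroot.getD s.val #[]).getD j 0 * D.cartan j (D.simple i))
          (fun j'' => ((D.cartan j'' (D.simple i) : ℤ) : F) * (((D.coroot.getD s.val #[]).getD j''.val 0 : ℤ) : F))
          (fun j'' => by push_cast; ring)]
        have : ∑ x : Fin D.rank, ((D.cartan x (D.simple i) : ℤ) : F) * ((((D.coroot.getD s.val #[]).getD x.val 0 : ℤ) : F) * t)
            = (∑ x : Fin D.rank, ((D.cartan x (D.simple i) : ℤ) : F) * (((D.coroot.getD s.val #[]).getD x.val 0 : ℤ) : F)) * t := by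
          rw [Finset.sum_mul]
          exact Finset.sum_congr rfl (fun x _ => by ring)
        rw [this]
        linear_combination (-(((((D.coroot.getD s.val #[]).getD j'.val 0 : ℤ) : F) -
          ∑ x : Fin D.rank, ((D.cartan x (D.simple i) : ℤ) : F) * (((D.coroot.getD s.val #[]).getD x.val 0 : ℤ) : F)) * t)) * hsq
      · rw [if_neg hj, if_neg hj]
        push_cast
        linear_combination (-((((D.coroot.getD s.val #[]).getD j'.val 0 : ℤ) : F) * t)) * hsq
    · have hwneg : (wFin D i η hC v).val ≠ D.negIdx.getD (wFin D i η hC s).val 0 := by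
        intro h
        apply hneg
        have h1 : D.reflectRoot i v.val = D.neg (D.reflectRoot i s.val) := h
        rw [← hn2] at h1
        have h2 := congrArg (D.reflectRoot i) h1
        rw [hC.winv v.val v.isLt, hC.winv _ hn1] at h2
        exact h2
      rw [xMat_inl_gen D F _ _ _ hwne hwneg, xMat_inl_gen D F s t v hvs hneg]
      have e1 : ∀ j'' : Fin D.rank, D.xMat F s t (Sum.inl j'') (Sum.inr v) = 0 :=
        fun j'' => xMat_inl_gen D F s t v hvs hneg j''
      simp only [e1, mul_zero, Finset.sum_const_zero, ite_self, sub_zero, zero_mul]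


/-- block (D): rows `e_u'`, columns `e_v` -/
theorem nMono_xMat_comm_inr_inr (s : Fin D.nroots) (t : F) (u' v : Fin D.nroots)
    (hlt : ∀ x ∈ ccAll D s.val v.val, x.1 < D.nroots) :
    (nMono D i η F * D.xMat F s t) (Sum.inr u') (Sum.inr v) =
      (D.xMat F (wFin D i η hC s) (((η s.val : ℤ) : F) * t) * nMono D i η F) (Sum.inr u') (Sum.inr v) := by
  rw [mul_nMono_inr D i η hC F, nMono_mul_inr D i η hC F]
  obtain ⟨hn1, hn2, hn3⟩ := hC.wneg s.val s.isLt
  have hsq := etaF_sq D i η hC F s.val s.isLt
  -- `η (w u') = η v` when `u' = w v`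
  have hηw : ∀ a : Fin D.nroots, u' = wFin D i η hC a → ((η (D.reflectRoot i u'.val) : ℤ) : F) = ((η a.val : ℤ) : F) := by
    intro a ha
    rw [ha]
    show ((η (D.reflectRoot i (D.reflectRoot i a.val)) : ℤ) : F) = _
    rw [hC.winv a.val a.isLt]
  by_cases hvs : v = s
  · subst hvs
    rw [xMat_inr_self, xMat_inr_self]
    by_cases hu : u' = wFin D i η hC v
    · have h1 : wFin D i η hC u' = v := by rw [hu, wFin_wFin]
      rw [if_pos h1, if_pos hu, hηw v hu]; ring
    · have h1 : ¬ wFin D i η hC u' = v := fun h => hu ((wFin_eq_iff D i η hC _ _).mp h)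
      rw [if_neg h1, if_neg hu]; ring
  · have hwne : wFin D i η hC v ≠ wFin D i η hC s := fun h => hvs (wFin_inj D i η hC h)
    by_cases hneg : v.val = D.negIdx.getD s.val 0
    · have hvn : v.val = D.neg s.val := hneg
      have hwneg : (wFin D i η hC v).val = D.negIdx.getD (wFin D i η hC s).val 0 := by
        show D.reflectRoot i v.val = D.neg (D.reflectRoot i s.val)
        rw [hvn, hn2]
      rw [xMat_inr_neg D F _ _ _ hwne hwneg, xMat_inr_neg D F s t v hvs hneg]
      have hηv : ((η v.val : ℤ) : F) = ((η s.val : ℤ) : F) := by rw [hvn, hC.ηneg s.val s.isLt]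
      by_cases hu : u' = wFin D i η hC v
      · have h1 : wFin D i η hC u' = v := by rw [hu, wFin_wFin]
        rw [if_pos h1, if_pos hu, hηw v hu]; ring
      · have h1 : ¬ wFin D i η hC u' = v := fun h => hu ((wFin_eq_iff D i η hC _ _).mp h)
        rw [if_neg h1, if_neg hu]
        by_cases hus : u' = wFin D i η hC s
        · have h2 : wFin D i η hC u' = s := by rw [hus, wFin_wFin]
          rw [if_pos h2, if_pos hus, hηw s hus, hηv]
          linear_combination (t ^ 2 * ((η s.val : ℤ) : F)) * hsq
        · have h2 : ¬ wFin D i η hC u' = s := fun h => hus ((wFin_eq_iff D i η hC _ _).mp h)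
          rw [if_neg h2, if_neg hus]; ring
    · have hwneg : (wFin D i η hC v).val ≠ D.negIdx.getD (wFin D i η hC s).val 0 := by
        intro h
        apply hneg
        have h1 : D.reflectRoot i v.val = D.neg (D.reflectRoot i s.val) := h
        rw [← hn2] at h1
        have h2 := congrArg (D.reflectRoot i) h1
        rw [hC.winv v.val v.isLt, hC.winv _ hn1] at h2
        exact h2
      rw [xMat_inr_gen D F _ _ _ hwne hwneg, xMat_inr_gen D F s t v hvs hneg]
      have hvs' : v.val ≠ s.val := fun h => hvs (Fin.ext h)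
      have hcc : ccAll D (wFin D i η hC s).val (wFin D i η hC v).val = _ :=
        hC.cc s.val s.isLt v.val v.isLt hvs' hneg
      rw [hcc, mul_add, add_mul]
      have hsqv := etaF_sq D i η hC F v.val v.isLt
      congr 1
      · by_cases hu : u' = wFin D i η hC v
        · have h1 : wFin D i η hC u' = v := by rw [hu, wFin_wFin]
          rw [if_pos h1, if_pos hu, hηw v hu]; ring
        · have h1 : ¬ wFin D i η hC u' = v := fun h => hu ((wFin_eq_iff D i η hC _ _).mp h)
          rw [if_neg h1, if_neg hu]; ring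
      · unfold polyAt
        rw [List.map_map]
        apply list_sum_map_mul_congr
        intro x hx
        have hx1 := hlt x hx
        simp only [Function.comp]
        by_cases hxu : D.reflectRoot i x.1 = u'.val
        · have hxu' : x.1 = (wFin D i η hC u').val := by
            show x.1 = D.reflectRoot i u'.val
            rw [← hxu, hC.winv x.1 hx1]
          rw [if_pos hxu', if_pos hxu]
          have : D.reflectRoot i u'.val = x.1 := hxu'.symm
          rw [this]
          have hsqk : (((η s.val : ℤ) : F)) ^ x.2.1 * (((η s.val : ℤ) : F)) ^ x.2.1 = 1 := by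
            rw [← mul_pow, hsq, one_pow]
          push_cast
          rw [mul_pow]
          linear_combination (-(((η x.1 : ℤ) : F) * ((x.2.2 : ℤ) : F) * t ^ x.2.1 *
            ((η s.val : ℤ) : F) ^ x.2.1 * ((η s.val : ℤ) : F) ^ x.2.1)) * hsqv
              + (-(((η x.1 : ℤ) : F) * ((x.2.2 : ℤ) : F) * t ^ x.2.1)) * hsqk
        · have hxu' : ¬ x.1 = (wFin D i η hC u').val := by
            intro h
            apply hxu
            rw [h]
            exact hC.winv u'.val u'.isLt
          rw [if_neg hxu', if_neg hxu]; ring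


theorem nMono_xMat_comm (s : Fin D.nroots) (t : F)
    (hlt : ∀ v, ∀ x ∈ ccAll D s.val v, x.1 < D.nroots) :
    nMono D i η F * D.xMat F s t =
      D.xMat F (wFin D i η hC s) (((η s.val : ℤ) : F) * t) * nMono D i η F := by
  ext row col
  rcases col with j | v
  · exact nMono_xMat_comm_inl D i η hC F s t row j
  · rcases row with j' | u'
    · exact nMono_xMat_comm_inl_inr D i η hC F s t j' v
    · exact nMono_xMat_comm_inr_inr D i η hC F s t u' v (hlt v.val)

end

/-- `n_p x_s(t) = x_{w_p s}(η_s t) n_p` -/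
theorem nx_comm (D : ChevalleyDatum) (i : ℕ) (hF : FundFacts D i) (hC : ConjFacts D i (etaFn D i))
    (hA : ∀ s < D.nroots, AddHyp D s) (F : Type*) [Field F] (s : ℕ) (hs : s < D.nroots) (t : F) :
    D.nMat F (D.simple i) 1 * D.x F s t =
      D.x F (D.reflectRoot i s) (((etaFn D i s : ℤ) : F) * t) * D.nMat F (D.simple i) 1 := by
  rw [nMat_fund D i hF F, x_eq_xMat D F s hs, x_eq_xMat D F _ (hC.wlt s hs)]
  exact nMono_xMat_comm D i (etaFn D i) hC F ⟨s, hs⟩ t (fun v x hx => ((hA s hs).2.1 v x hx).1)

end Cfsg.Agent.Lib.Helper7
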