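import Cfsg.Agent.Lib.Helper7.ChevFund

set_option autoImplicit false

namespace Cfsg.Agent.Lib.Helper7

open Cfsg Cfsg.Lie Matrix

/-- the integer `⟨s, r^∨⟩ = Σ_k c_k(r) A_{p_k, s}` for arbitrary roots `r`, `s` -/
def carR (D : ChevalleyDatum) (r s : ℕ) : ℤ :=
  ((List.range D.rank).map fun k => (D.coroot.getD r #[]).getD k 0 * D.cartan k s).sum

/-- facts about an arbitrary root `r` making `n_r(t)` monomial and `h_r(t)` diagonal -/
structure RootFacts (D : ChevalleyDatum) (r : ℕ) : Prop where
  hr : r < D.nroots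
  hrb : D.neg r < D.nroots
  rank1 : RankOne D ⟨r, hr⟩ ⟨D.neg r, hrb⟩
  Ar : carR D r r = 2
  Arb : carR D r (D.neg r) = -2
  gen : ∀ s < D.nroots, s ≠ r → s ≠ D.neg r →
      strCheck D r (D.neg r) s = true ∧
      ((strJw D r s : ℤ) - (strJ D (D.neg r) s : ℤ) = - carR D r s) ∧
      strW D r (D.neg r) (strW D r (D.neg r) s) = s ∧
      carR D r (strW D r (D.neg r) s) = - carR D r s ∧
      strEta D r (D.neg r) s * strEta D r (D.neg r) (strW D r (D.neg r) s) = (-1) ^ (carR D r s).natAbs

theorem hMat_root (D : ChevalleyDatum) (r₀ : ℕ) (hF : RootFacts D r₀) (F : Type*) [Field F] (c : F) (hc : c ≠ 0) :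
    D.hMat F r₀ c =
      Matrix.diagonal (Sum.elim (fun _ => (1 : F)) (fun s : Fin D.nroots => c ^ (carR D r₀ s))) := by
  have hne : r₀ ≠ D.neg r₀ := fun h => hF.rank1.hne (Fin.ext h)
  have h1 : (-1 : F) ≠ 0 := neg_ne_zero.mpr one_ne_zero
  have hN1 := nMat_eq_triple D F ⟨r₀, hF.hr⟩ ⟨D.neg r₀, hF.hrb⟩ rfl c
  have hN2 := nMat_eq_triple D F ⟨r₀, hF.hr⟩ ⟨D.neg r₀, hF.hrb⟩ rfl (-1 : F)
  change D.nMat F r₀ c = _ at hN1
  change D.nMat F r₀ (-1) = _ at hN2
  rw [hMat_eq, hN1, hN2]
  set r : Fin D.nroots := ⟨r₀, hF.hr⟩ with hr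
  set rb : Fin D.nroots := ⟨D.neg r₀, hF.hrb⟩ with hrb
  set Nc := D.xMat F r c * D.xMat F rb (-c⁻¹) * D.xMat F r c with hNc
  set N1 := D.xMat F r (-1) * D.xMat F rb (-(-1 : F)⁻¹) * D.xMat F r (-1) with hN1'
  have h2 := sum_car_cor D F r rb hF.rank1
  ext row col
  have hmv : (Nc * N1) row col = (Nc.mulVec (fun κ => N1 κ col)) row := by
    rw [Matrix.mul_apply]; rfl
  rw [hmv]
  rcases col with j | s
  · have e1 : (fun κ => N1 κ (Sum.inl j)) =
        wvec D F r rb (fun k => (if k = j then 1 else 0) - carF D F r.val j * corF D F r.val k) 0 0 := by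
      funext κ; exact nTriple_col_inl D F r rb hF.rank1 (-1) h1 j κ
    rw [e1, nTriple_mulVec_wvec D F r rb hF.rank1 c hc]
    have e2 : ∑ k, carF D F r.val k * ((if k = j then 1 else 0) - carF D F r.val j * corF D F r.val k)
        = - carF D F r.val j := by
      have : ∀ k, carF D F r.val k * ((if k = j then 1 else 0) - carF D F r.val j * corF D F r.val k)
          = carF D F r.val k * (if k = j then 1 else 0) - carF D F r.val j * (carF D F r.val k * corF D F r.val k) :=
        fun k => by ring
      rw [Finset.sum_congr rfl (fun k _ => this k), Finset.sum_sub_distrib, sum_mul_ite, ← Finset.mul_sum, h2]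
      ring
    rw [e2]
    rcases row with j' | s'
    · show (if j' = j then (1:F) else 0) - carF D F r.val j * corF D F r.val j' - -carF D F r.val j * corF D F r.val j' = _
      rw [Matrix.diagonal_apply]
      by_cases hjj : j' = j
      · subst hjj; simp
      · have : ¬ (Sum.inl j' : D.Idx) = Sum.inl j := fun hh => hjj (Sum.inl.inj hh)
        simp [hjj, this]
    · show (if s' = r then -(c ^ 2) * 0 else if s' = rb then -(c ^ 2)⁻¹ * 0 else (0:F)) = _
      rw [Matrix.diagonal_apply]
      simp
  · by_cases hs1 : s.val = r₀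
    · have hs : s = r := Fin.ext hs1
      subst hs
      have e1 : (fun κ => N1 κ (Sum.inr r)) = wvec D F r rb 0 0 (-(((-1 : F)) ^ 2)⁻¹) := by
        funext κ; exact nTriple_col_r D F r rb hF.rank1 (-1) h1 κ
      rw [e1, nTriple_mulVec_wvec D F r rb hF.rank1 c hc]
      rcases row with j' | s'
      · show (0 : F) - (∑ k, carF D F r.val k * (0 : Fin D.rank → F) k) * corF D F r.val j' = _
        rw [Matrix.diagonal_apply]
        simp
      · show (if s' = r then -(c ^ 2) * -(((-1 : F)) ^ 2)⁻¹ else if s' = rb then -(c ^ 2)⁻¹ * 0 else (0:F)) = _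
        rw [Matrix.diagonal_apply]
        by_cases h3 : s' = r
        · rw [h3]
          simp only [if_true, Sum.elim_inr]
          have : carR D r₀ r.val = 2 := hF.Ar
          rw [this]
          norm_num
        · have : ¬ (Sum.inr s' : D.Idx) = Sum.inr r := fun hh => h3 (Sum.inr.inj hh)
          simp [h3, this]
    · by_cases hs2 : s.val = D.neg r₀
      · have hs : s = rb := Fin.ext hs2
        subst hs
        have e1 : (fun κ => N1 κ (Sum.inr rb)) = wvec D F r rb 0 (-(((-1 : F)) ^ 2)) 0 := by
          funext κ; exact nTriple_col_rb D F r rb hF.rank1 (-1) h1 κ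
        rw [e1, nTriple_mulVec_wvec D F r rb hF.rank1 c hc]
        rcases row with j' | s'
        · show (0 : F) - (∑ k, carF D F r.val k * (0 : Fin D.rank → F) k) * corF D F r.val j' = _
          rw [Matrix.diagonal_apply]
          simp
        · show (if s' = r then -(c ^ 2) * 0 else if s' = rb then -(c ^ 2)⁻¹ * -(((-1 : F)) ^ 2) else (0:F)) = _
          rw [Matrix.diagonal_apply]
          by_cases h3 : s' = rb
          · have h4 : ¬ rb = r := fun hh => hF.rank1.hne hh.symm
            rw [h3]
            simp only [h4, if_false, if_true, Sum.elim_inr]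
            have : carR D r₀ rb.val = -2 := hF.Arb
            rw [this]
            rw [_root_.zpow_neg]
            norm_num
          · have : ¬ (Sum.inr s' : D.Idx) = Sum.inr rb := fun hh => h3 (Sum.inr.inj hh)
            by_cases h4 : s' = r
            · have h5 : ¬ (Sum.inr r : D.Idx) = Sum.inr rb := fun hh => hF.rank1.hne (Sum.inr.inj hh)
              rw [h4]
              simp [h5]
            · simp [h3, h4, this]
      · -- generic column
        obtain ⟨g1, g3, g4, g5, hη⟩ := hF.gen s.val s.isLt hs1 hs2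
        obtain ⟨hw, hcol⟩ := strCheck_col D F r rb hF.rank1 s g1 (-1) h1
        obtain ⟨hw1, hw2, hw3⟩ := strW_lt_of_strCheck D _ _ s.val g1
        set w : Fin D.nroots := ⟨strW D r.val rb.val s.val, hw⟩ with hwdef
        obtain ⟨k1, k3, -, -, -⟩ := hF.gen w.val w.isLt hw2 hw3
        obtain ⟨hw', hcol'⟩ := strCheck_col D F r rb hF.rank1 w k1 c hc
        have hww : (⟨strW D r.val rb.val w.val, hw'⟩ : Fin D.nroots) = s := by
          apply Fin.ext
          exact g4
        rw [hww] at hcol'
        have e1 : (fun κ => N1 κ (Sum.inr s)) = fun κ => if κ = Sum.inr w then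
            ((strEta D r.val rb.val s.val : ℤ) : F) *
              (-1) ^ ((strJw D r.val s.val : ℤ) - (strJ D rb.val s.val : ℤ)) else 0 := by
          funext κ; exact hcol κ
        have hcol'' : Nc row (Sum.inr w) = _ := hcol' row
        rw [e1, Matrix.mulVec, dotProduct, sum_mul_ite, hcol'']
        have hexp1 : ((strJw D r.val s.val : ℤ) - (strJ D rb.val s.val : ℤ)) = - carR D r₀ s.val := g3
        have hexp2 : ((strJw D r.val w.val : ℤ) - (strJ D rb.val w.val : ℤ)) = carR D r₀ s.val := by
          rw [show ((strJw D r.val w.val : ℤ) - (strJ D rb.val w.val : ℤ)) = - carR D r₀ w.val from k3]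
          rw [show carR D r₀ w.val = - carR D r₀ s.val from g5, neg_neg]
        rw [hexp1, hexp2, Matrix.diagonal_apply]
        by_cases hrow : row = Sum.inr s
        · rw [if_pos hrow, if_pos hrow]
          subst hrow
          simp only [Sum.elim_inr]
          rw [neg_one_zpow_eq F, Int.natAbs_neg]
          have : ((strEta D r.val rb.val w.val : ℤ) : F) * c ^ carR D r₀ s.val *
              (((strEta D r.val rb.val s.val : ℤ) : F) * (((-1 : ℤ) ^ (carR D r₀ s.val).natAbs : ℤ) : F))
              = (((strEta D r.val rb.val s.val * strEta D r.val rb.val w.val) * (-1) ^ (carR D r₀ s.val).natAbs : ℤ) : F)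
                * c ^ carR D r₀ s.val := by
            push_cast; ring
          have hη' : strEta D r.val rb.val s.val * strEta D r.val rb.val w.val = (-1) ^ (carR D r₀ s.val).natAbs := hη
          rw [this, hη', ← pow_add, ← two_mul, pow_mul]
          simp
        · rw [if_neg hrow, if_neg hrow, zero_mul]

end Cfsg.Agent.Lib.Helper7
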