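import Cfsg.Agent.Lib.Helper7.ChevFund
import Cfsg.Agent.Lib.Helper7.ChevRoot

set_option autoImplicit false

namespace Cfsg.Agent.Lib.Helper7

open Cfsg Cfsg.Lie Matrix

/-- table facts making `n_p x_s(t) n_p⁻¹ = x_{w_p s}(η_s t)` work (`p` the `i`-th fundamental root,
`η` the sign function of `n_p`) -/
structure ConjFacts (D : ChevalleyDatum) (i : ℕ) (η : ℕ → ℤ) : Prop where
  hi : i < D.rank
  wlt : ∀ s < D.nroots, D.reflectRoot i s < D.nroots
  winv : ∀ s < D.nroots, D.reflectRoot i (D.reflectRoot i s) = s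
  wneg : ∀ s < D.nroots, D.neg s < D.nroots ∧ D.reflectRoot i (D.neg s) = D.neg (D.reflectRoot i s) ∧ D.neg s ≠ s
  ηpm : ∀ s < D.nroots, η s = 1 ∨ η s = -1
  ηneg : ∀ s < D.nroots, η (D.neg s) = η s
  carI : ∀ s < D.nroots, D.cartan i (D.reflectRoot i s) = - D.cartan i s
  carRefl : ∀ j < D.rank, ∀ s < D.nroots,
    D.cartan j (D.reflectRoot i s) = D.cartan j s - D.cartan i s * D.cartan j (D.simple i)
  corRefl : ∀ k < D.rank, ∀ s < D.nroots,
    (D.coroot.getD (D.reflectRoot i s) #[]).getD k 0 = (D.coroot.getD s #[]).getD k 0 -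
      (if k = i then ((List.range D.rank).map fun j =>
        (D.coroot.getD s #[]).getD j 0 * D.cartan j (D.simple i)).sum else 0)
  cc : ∀ s < D.nroots, ∀ v < D.nroots, v ≠ s → v ≠ D.neg s →
    ccAll D (D.reflectRoot i s) (D.reflectRoot i v) =
      (ccAll D s v).map (fun x => (D.reflectRoot i x.1, x.2.1, x.2.2 * η x.1 * η v * η s ^ x.2.1))

section
variable (D : ChevalleyDatum) (i : ℕ) (η : ℕ → ℤ) (hC : ConjFacts D i η) (F : Type*) [Field F]

/-- the monomial matrix of `n_p` -/
def nMono : Matrix D.Idx D.Idx F :=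
  Matrix.of (fun (row col : D.Idx) =>
        Sum.elim
          (fun j' : Fin D.rank => Sum.elim
            (fun j : Fin D.rank => (if j' = j then (1 : F) else 0) - (if (j' : ℕ) = i then ((D.cartan j (D.simple i) : ℤ) : F) else 0))
            (fun _ => (0 : F)) col)
          (fun s' : Fin D.nroots => Sum.elim
            (fun _ => (0 : F))
            (fun s : Fin D.nroots => if (s' : ℕ) = D.reflectRoot i s then ((η s : ℤ) : F) else 0) col)
          row)

include hC

/-- `w_p` as a map of `Fin nroots` -/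
def wFin (s : Fin D.nroots) : Fin D.nroots := ⟨D.reflectRoot i s.val, hC.wlt s.val s.isLt⟩

theorem wFin_wFin (s : Fin D.nroots) : wFin D i η hC (wFin D i η hC s) = s :=
  Fin.ext (hC.winv s.val s.isLt)

theorem nMono_mul_inl (M : Matrix D.Idx D.Idx F) (j' : Fin D.rank) (c : D.Idx) :
    (nMono D i η F * M) (Sum.inl j') c =
      M (Sum.inl j') c - (if (j' : ℕ) = i then ∑ j'' : Fin D.rank,
        ((D.cartan j'' (D.simple i) : ℤ) : F) * M (Sum.inl j'') c else 0) := by
  rw [Matrix.mul_apply, Fintype.sum_sum_type]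
  have h2 : ∑ u : Fin D.nroots, nMono D i η F (Sum.inl j') (Sum.inr u) * M (Sum.inr u) c = 0 := by
    apply Finset.sum_eq_zero; intro u _
    show (0 : F) * _ = 0
    rw [zero_mul]
  rw [h2, add_zero]
  have h1 : ∀ j'' : Fin D.rank, nMono D i η F (Sum.inl j') (Sum.inl j'') * M (Sum.inl j'') c =
      (if j' = j'' then (1 : F) else 0) * M (Sum.inl j'') c -
        (if (j' : ℕ) = i then ((D.cartan j'' (D.simple i) : ℤ) : F) else 0) * M (Sum.inl j'') c := by
    intro j''
    show ((if j' = j'' then (1 : F) else 0) - (if (j' : ℕ) = i then ((D.cartan j'' (D.simple i) : ℤ) : F) else 0)) * _ = _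
    ring
  rw [Finset.sum_congr rfl (fun x _ => h1 x), Finset.sum_sub_distrib]
  congr 1
  · simp
  · by_cases hj : (j' : ℕ) = i
    · simp [hj]
    · simp [hj]

theorem nMono_mul_inr (M : Matrix D.Idx D.Idx F) (u' : Fin D.nroots) (c : D.Idx) :
    (nMono D i η F * M) (Sum.inr u') c =
      ((η (D.reflectRoot i u'.val) : ℤ) : F) * M (Sum.inr (wFin D i η hC u')) c := by
  rw [Matrix.mul_apply, Fintype.sum_sum_type]
  have h1 : ∑ j : Fin D.rank, nMono D i η F (Sum.inr u') (Sum.inl j) * M (Sum.inl j) c = 0 := by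
    apply Finset.sum_eq_zero; intro j _
    show (0 : F) * _ = 0
    rw [zero_mul]
  rw [h1, zero_add, Finset.sum_eq_single (wFin D i η hC u')]
  · show (if (u' : ℕ) = D.reflectRoot i (wFin D i η hC u').val then _ else 0) * _ = _
    have : (u' : ℕ) = D.reflectRoot i (wFin D i η hC u').val := (hC.winv u'.val u'.isLt).symm
    rw [if_pos this]; rfl
  · intro u _ hu
    show (if (u' : ℕ) = D.reflectRoot i u.val then _ else 0) * _ = _
    have : ¬ (u' : ℕ) = D.reflectRoot i u.val := by
      intro h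
      apply hu
      apply Fin.ext
      show u.val = D.reflectRoot i u'.val
      rw [h, hC.winv u.val u.isLt]
    rw [if_neg this, zero_mul]
  · intro h; exact absurd (Finset.mem_univ _) h

theorem mul_nMono_inl (M : Matrix D.Idx D.Idx F) (row : D.Idx) (j : Fin D.rank) :
    (M * nMono D i η F) row (Sum.inl j) =
      M row (Sum.inl j) - ((D.cartan j (D.simple i) : ℤ) : F) * M row (Sum.inl ⟨i, hC.hi⟩) := by
  rw [Matrix.mul_apply, Fintype.sum_sum_type]
  have h2 : ∑ u : Fin D.nroots, M row (Sum.inr u) * nMono D i η F (Sum.inr u) (Sum.inl j) = 0 := by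
    apply Finset.sum_eq_zero; intro u _
    show _ * (0 : F) = 0
    rw [mul_zero]
  rw [h2, add_zero]
  have h1 : ∀ j'' : Fin D.rank, M row (Sum.inl j'') * nMono D i η F (Sum.inl j'') (Sum.inl j) =
      M row (Sum.inl j'') * (if j'' = j then (1 : F) else 0) -
        M row (Sum.inl j'') * (if j'' = ⟨i, hC.hi⟩ then ((D.cartan j (D.simple i) : ℤ) : F) else 0) := by
    intro j''
    show _ * ((if j'' = j then (1 : F) else 0) - (if (j'' : ℕ) = i then ((D.cartan j (D.simple i) : ℤ) : F) else 0)) = _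
    have : ((j'' : ℕ) = i) ↔ j'' = ⟨i, hC.hi⟩ := ⟨fun h => Fin.ext h, fun h => congrArg Fin.val h⟩
    simp only [this]
    ring
  rw [Finset.sum_congr rfl (fun x _ => h1 x), Finset.sum_sub_distrib]
  congr 1
  · simp
  · simp [mul_comm]

theorem mul_nMono_inr (M : Matrix D.Idx D.Idx F) (row : D.Idx) (v : Fin D.nroots) :
    (M * nMono D i η F) row (Sum.inr v) =
      M row (Sum.inr (wFin D i η hC v)) * ((η v.val : ℤ) : F) := by
  rw [Matrix.mul_apply, Fintype.sum_sum_type]
  have h1 : ∑ j : Fin D.rank, M row (Sum.inl j) * nMono D i η F (Sum.inl j) (Sum.inr v) = 0 := by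
    apply Finset.sum_eq_zero; intro j _
    show _ * (0 : F) = 0
    rw [mul_zero]
  rw [h1, zero_add, Finset.sum_eq_single (wFin D i η hC v)]
  · show _ * (if ((wFin D i η hC v : Fin D.nroots) : ℕ) = D.reflectRoot i v.val then _ else 0) = _
    have : ((wFin D i η hC v : Fin D.nroots) : ℕ) = D.reflectRoot i v.val := rfl
    rw [if_pos this]
  · intro u _ hu
    show _ * (if (u : ℕ) = D.reflectRoot i v.val then _ else 0) = _
    have : ¬ (u : ℕ) = D.reflectRoot i v.val := fun h => hu (Fin.ext h)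
    rw [if_neg this, mul_zero]
  · intro h; exact absurd (Finset.mem_univ _) h

end

end Cfsg.Agent.Lib.Helper7
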