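import Cfsg.Agent.Lib.Helper7.ChevConj

set_option autoImplicit false

namespace Cfsg.Agent.Lib.Helper7

open Cfsg Cfsg.Lie Matrix

/-- the generic (slow) check of `ConjFacts` -/
def conjGenB (D : ChevalleyDatum) (i : ℕ) : Bool :=
  decide (i < D.rank) &&
  (List.range D.nroots).all fun s =>
    decide (D.reflectRoot i s < D.nroots) && D.reflectRoot i (D.reflectRoot i s) == s &&
    decide (D.neg s < D.nroots) && D.reflectRoot i (D.neg s) == D.neg (D.reflectRoot i s) && D.neg s != s &&
    ((etaTab D i).getD s 0 == 1 || (etaTab D i).getD s 0 == -1) &&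
    (etaTab D i).getD (D.neg s) 0 == (etaTab D i).getD s 0 &&
    D.cartan i (D.reflectRoot i s) == - D.cartan i s &&
    (List.range D.rank).all (fun j =>
      D.cartan j (D.reflectRoot i s) == D.cartan j s - D.cartan i s * D.cartan j (D.simple i)) &&
    (List.range D.rank).all (fun k =>
      (D.coroot.getD (D.reflectRoot i s) #[]).getD k 0 == (D.coroot.getD s #[]).getD k 0 -
        (if k = i then ((List.range D.rank).map fun j =>
          (D.coroot.getD s #[]).getD j 0 * D.cartan j (D.simple i)).sum else 0)) &&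
    (List.range D.nroots).all fun v => v == s || v == D.neg s ||
      (ccAll D s v).all (fun x => decide (x.1 < D.nroots)) &&
      ccAll D (D.reflectRoot i s) (D.reflectRoot i v) ==
        (ccAll D s v).map (fun x => (D.reflectRoot i x.1, x.2.1,
          x.2.2 * (etaTab D i).getD x.1 0 * (etaTab D i).getD v 0 * (etaTab D i).getD s 0 ^ x.2.1))

theorem conjFacts_of_conjGenB (D : ChevalleyDatum) (i : ℕ) (h : conjGenB D i = true) :
    ConjFacts D i (etaFn D i) := by
  unfold conjGenB at h
  simp only [Bool.and_eq_true, List.all_eq_true, decide_eq_true_eq, beq_iff_eq, bne_iff_ne, Bool.or_eq_true,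
    List.mem_range] at h
  obtain ⟨hi, hall⟩ := h
  have hη : ∀ s < D.nroots, (etaTab D i).getD s 0 = etaFn D i s := fun s hs => etaTab_getD D i s hs
  refine ⟨hi, ?_, ?_, ?_, ?_, ?_, ?_, ?_, ?_, ?_⟩
  · intro s hs; exact (hall s hs).1.1.1.1.1.1.1.1.1.1
  · intro s hs; exact (hall s hs).1.1.1.1.1.1.1.1.1.2
  · intro s hs
    obtain ⟨⟨⟨⟨⟨⟨⟨⟨⟨⟨-, -⟩, h3⟩, h4⟩, h5⟩, -⟩, -⟩, -⟩, -⟩, -⟩, -⟩ := hall s hs
    exact ⟨h3, h4, h5⟩
  · intro s hs
    have := (hall s hs).1.1.1.1.1.2
    rw [hη s hs] at this
    exact this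
  · intro s hs
    have h3 := (hall s hs).1.1.1.1.1.1.1.1.2
    have := (hall s hs).1.1.1.1.2
    rw [hη s hs, hη _ h3] at this
    exact this
  · intro s hs; exact (hall s hs).1.1.1.2
  · intro j hj s hs; exact (hall s hs).1.1.2 j hj
  · intro k hk s hs; exact (hall s hs).1.2 k hk
  · intro s hs v hv hvs hvn
    have := (hall s hs).2 v hv
    rcases this with (h1 | h1) | h1
    · exact absurd h1 hvs
    · exact absurd h1 hvn
    · rw [h1.2]
      apply List.map_congr_left
      intro x hx
      rw [hη _ (h1.1 x hx), hη v hv, hη s hs]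

/-- the generic check for all fundamental roots -/
def conjGenAllB (D : ChevalleyDatum) : Bool := (List.range D.rank).all (conjGenB D)

end Cfsg.Agent.Lib.Helper7
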