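import Cfsg.Agent.Lib.Helper7.ChevSL0
import Cfsg.Agent.Lib.Helper7.ChevRoot

set_option autoImplicit false

namespace Cfsg.Agent.Lib.Helper7

open Cfsg Cfsg.Lie Matrix

/-- force the evaluation of a list of natural numbers -/
def forceAll : List ℕ → (List ℕ → Bool) → Bool
  | [], k => k []
  | a :: l, k => withMask a fun a' => forceAll l fun l' => k (a' :: l')

theorem forceAll_eq : ∀ (l : List ℕ) (k : List ℕ → Bool), forceAll l k = k l
  | [], k => rfl
  | a :: l, k => by
    unfold forceAll
    rw [withMask_eq, forceAll_eq l]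

/-- the absolute values of the coroot coefficients of `r` -/
def cabsL (D : ChevalleyDatum) (r : ℕ) : List ℕ :=
  (List.range D.rank).map fun k => ((D.coroot.getD r #[]).getD k 0).natAbs

/-- check of `⟨s, r^∨⟩ = α - 16` against the packed Cartan rows -/
def linkB (cabs packs : List ℕ) (pos : Bool) (S16 s α : ℕ) : Bool :=
  withMask ((List.zipWith (fun c P => c * (P / 256 ^ s % 256)) cabs packs).sum) fun σ =>
    if pos then σ + 16 == α + S16 else σ + α == S16 + 16

theorem zipWith_map_map {α β γ δ : Type*} (f : β → γ → δ) (g : α → β) (h : α → γ) (L : List α) :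
    List.zipWith f (L.map g) (L.map h) = L.map fun k => f (g k) (h k) := by
  induction L with
  | nil => rfl
  | cons a L ih => simp [ih]

theorem sum_link (L : List ℕ) (c : ℕ → ℤ) (d : ℕ → ℤ) (ε : ℤ) (hε : ∀ k ∈ L, c k = ε * ((c k).natAbs : ℤ)) (δ : ℕ → ℕ)
    (hd : ∀ k ∈ L, d k = (δ k : ℤ) - 16) :
    (L.map fun k => c k * d k).sum =
      ε * ((((L.map fun k => (c k).natAbs * δ k).sum : ℕ) : ℤ) - 16 * (((L.map fun k => (c k).natAbs).sum : ℕ) : ℤ)) := by
  induction L with
  | nil => simp
  | cons a L ih =>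
    have h1 := hε a (List.mem_cons_self ..)
    have h2 := hd a (List.mem_cons_self ..)
    have ih' := ih (fun k hk => hε k (List.mem_cons_of_mem _ hk)) (fun k hk => hd k (List.mem_cons_of_mem _ hk))
    simp only [List.map_cons, List.sum_cons, ih']
    push_cast
    rw [h2]
    set m : ℤ := ((c a).natAbs : ℤ) with hm
    have h1' : c a = ε * m := h1
    rw [h1']
    have : |ε * m| = m := by
      have : |ε * m| = |c a| := by rw [h1']
      rw [this, hm]; simp
    rw [this]
    ring

theorem link_facts (D : ChevalleyDatum) (r s α : ℕ) (hrow : ∀ k < D.rank, rowOKB D k = true) (hs : s < D.nroots)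
    (pos : Bool) (hpos : pos = true → ∀ k < D.rank, 0 ≤ (D.coroot.getD r #[]).getD k 0)
    (hneg : pos = false → ∀ k < D.rank, (D.coroot.getD r #[]).getD k 0 ≤ 0)
    (h : linkB (cabsL D r) ((List.range D.rank).map (rowPack D)) pos (16 * (cabsL D r).sum) s α = true) :
    carR D r s = (α : ℤ) - 16 := by
  unfold linkB at h
  rw [withMask_eq] at h
  unfold cabsL at h
  rw [zipWith_map_map] at h
  unfold carR
  have hd : ∀ k ∈ List.range D.rank, D.cartan k s = ((rowPack D k / 256 ^ s % 256 : ℕ) : ℤ) - 16 := by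
    intro k hk
    rw [← carAcc_eq D k s (hrow k (List.mem_range.mp hk)) hs]; rfl
  cases pos with
  | true =>
    have hp := hpos rfl
    rw [if_pos rfl, beq_iff_eq] at h
    rw [sum_link (List.range D.rank) (fun k => (D.coroot.getD r #[]).getD k 0) (fun k => D.cartan k s) 1
      (fun k hk => by
        have := hp k (List.mem_range.mp hk)
        rw [one_mul]; exact (Int.natAbs_of_nonneg this).symm)
      (fun k => rowPack D k / 256 ^ s % 256) hd]
    have h' : ((((List.range D.rank).map fun k => ((D.coroot.getD r #[]).getD k 0).natAbs * (rowPack D k / 256 ^ s % 256)).sum : ℕ) : ℤ) + 16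
        = (α : ℤ) + 16 * ((((List.range D.rank).map fun k => ((D.coroot.getD r #[]).getD k 0).natAbs).sum : ℕ) : ℤ) := by
      exact_mod_cast h
    linarith
  | false =>
    have hn := hneg rfl
    rw [if_neg (by simp), beq_iff_eq] at h
    rw [sum_link (List.range D.rank) (fun k => (D.coroot.getD r #[]).getD k 0) (fun k => D.cartan k s) (-1)
      (fun k hk => by
        have := hn k (List.mem_range.mp hk)
        rw [Int.ofNat_natAbs_of_nonpos this]; ring)
      (fun k => rowPack D k / 256 ^ s % 256) hd]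
    have h' : ((((List.range D.rank).map fun k => ((D.coroot.getD r #[]).getD k 0).natAbs * (rowPack D k / 256 ^ s % 256)).sum : ℕ) : ℤ) + (α : ℤ)
        = 16 * ((((List.range D.rank).map fun k => ((D.coroot.getD r #[]).getD k 0).natAbs).sum : ℕ) : ℤ) + 16 := by
      exact_mod_cast h
    linarith

/-- the string check for simply-laced data, in terms of the packed tables of `r` and `-r` -/
def slStrB (n r rb Tr Tb s : ℕ) : Bool :=
  withMask (Tr / 1024 ^ s % 1024) fun dr => withMask (Tb / 1024 ^ s % 1024) fun db =>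
    if dr = 0 then
      (if db = 0 then true else
        withMask (db / 2 - 1) fun u => decide (u < n) && u != r && u != rb && u != s &&
          (Tb / 1024 ^ u % 1024 == 0) && (Tr / 1024 ^ u % 1024 == 2 * (s + 1) + db % 2))
    else db == 0 &&
        withMask (dr / 2 - 1) fun u => decide (u < n) && u != r && u != rb && u != s &&
          (Tr / 1024 ^ u % 1024 == 0) && (Tb / 1024 ^ u % 1024 == 2 * (s + 1) + dr % 2)

/-- the integer `⟨s, r^∨⟩` read off the packed tables -/
def slA (Tr Tb s : ℕ) : ℤ :=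
  (if Tr / 1024 ^ s % 1024 = 0 then 0 else -1) + (if Tb / 1024 ^ s % 1024 = 0 then 0 else 1)

theorem slDec_two_mul (s ε : ℕ) (hε : ε < 2) :
    slDec (2 * (s + 1) + ε) = [(s, 1, if ε = 1 then 1 else -1)] := by
  unfold slDec
  have h1 : ¬ (2 * (s + 1) + ε = 0) := by omega
  have h2 : (2 * (s + 1) + ε) / 2 - 1 = s := by omega
  have h3 : (2 * (s + 1) + ε) % 2 = ε := by omega
  rw [if_neg h1, h2, h3]

theorem slStr_facts (D : ChevalleyDatum) (r rb Tr Tb : ℕ)
    (hr : ∀ s, ccAll D r s = slDec (Tr / 1024 ^ s % 1024))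
    (hb : ∀ s, ccAll D rb s = slDec (Tb / 1024 ^ s % 1024))
    (s : ℕ) (hs : s < D.nroots) (hsr : s ≠ r) (hsrb : s ≠ rb)
    (h : slStrB D.nroots r rb Tr Tb s = true) :
    strCheck D r rb s = true ∧
    ((strJw D r s : ℤ) - (strJ D rb s : ℤ) = - slA Tr Tb s) ∧
    strW D r rb (strW D r rb s) = s ∧
    slA Tr Tb (strW D r rb s) = - slA Tr Tb s ∧
    strEta D r rb s * strEta D r rb (strW D r rb s) = (-1) ^ (slA Tr Tb s).natAbs := by
  unfold slStrB at h
  simp only [withMask_eq] at h
  by_cases hdr : Tr / 1024 ^ s % 1024 = 0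
  · rw [if_pos hdr] at h
    by_cases hdb : Tb / 1024 ^ s % 1024 = 0
    · -- singleton string
      have h1 : ccAll D r s = [] := by rw [hr, hdr]; rfl
      have h2 : ccAll D rb s = [] := by rw [hb, hdb]; rfl
      obtain ⟨g1, g2, g3, g4, g5⟩ := str_single D r rb s h1 h2 hs hsr hsrb
      have hA : slA Tr Tb s = 0 := by unfold slA; rw [if_pos hdr, if_pos hdb]; rfl
      refine ⟨g1, ?_, ?_, ?_, ?_⟩
      · rw [g4, g5, hA]; rfl
      · rw [g2, g2]
      · rw [g2, hA]; rfl
      · rw [g2, g3, hA]; rfl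
    · -- `s` is the top of a string of length two
      rw [if_neg hdb] at h
      simp only [Bool.and_eq_true, decide_eq_true_eq, bne_iff_ne, beq_iff_eq] at h
      obtain ⟨⟨⟨⟨⟨hu, hur⟩, hurb⟩, hus⟩, hub⟩, hurd⟩ := h
      set db := Tb / 1024 ^ s % 1024 with hdbdef
      set u := db / 2 - 1 with hudef
      set b : ℤ := if db % 2 = 1 then 1 else -1 with hbdef
      have hbb : b * b = 1 := by
        rw [hbdef]; split_ifs <;> norm_num
      have h1 : ccAll D r s = [] := by rw [hr, hdr]; rfl
      have h2 : ccAll D rb s = [(u, 1, b)] := by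
        rw [hb, ← hdbdef]; unfold slDec; rw [if_neg hdb]
      have h3 : ccAll D rb u = [] := by rw [hb, hub]; rfl
      have h4 : ccAll D r u = [(s, 1, b)] := by
        rw [hr, hurd, slDec_two_mul s (db % 2) (Nat.mod_lt _ (by norm_num))]
      obtain ⟨⟨p1, p2, p3, p4, p5⟩, ⟨q1, q2, q3, q4, q5⟩⟩ :=
        str_pair D r rb u s b b h4 h3 h1 h2 hbb hu hur hurb hs hsr hsrb hus
      have hA : slA Tr Tb s = 1 := by
        unfold slA; rw [if_pos hdr, ← hdbdef, if_neg hdb]; rfl
      have hAu : slA Tr Tb u = -1 := by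
        unfold slA
        have : ¬ (Tr / 1024 ^ u % 1024 = 0) := by rw [hurd]; omega
        rw [if_neg this, if_pos hub]; rfl
      refine ⟨q1, ?_, ?_, ?_, ?_⟩
      · rw [q4, q5, hA]; norm_num
      · rw [q2, p2]
      · rw [q2, hAu, hA]
      · rw [q2, q3, p3, hA]
        have : (-b) * b = -(b * b) := by ring
        rw [this, hbb]; rfl
  · rw [if_neg hdr] at h
    simp only [Bool.and_eq_true, decide_eq_true_eq, bne_iff_ne, beq_iff_eq] at h
    obtain ⟨hdb, ⟨⟨⟨⟨hu, hur⟩, hurb⟩, hus⟩, hurd⟩, hub⟩ := h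
    set dr := Tr / 1024 ^ s % 1024 with hdrdef
    set u := dr / 2 - 1 with hudef
    set a : ℤ := if dr % 2 = 1 then 1 else -1 with hadef
    have haa : a * a = 1 := by
      rw [hadef]; split_ifs <;> norm_num
    have h1 : ccAll D r s = [(u, 1, a)] := by
      rw [hr, ← hdrdef]; unfold slDec; rw [if_neg hdr]
    have h2 : ccAll D rb s = [] := by rw [hb, hdb]; rfl
    have h3 : ccAll D r u = [] := by rw [hr, hurd]; rfl
    have h4 : ccAll D rb u = [(s, 1, a)] := by
      rw [hb, hub, slDec_two_mul s (dr % 2) (Nat.mod_lt _ (by norm_num))]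
    obtain ⟨⟨p1, p2, p3, p4, p5⟩, ⟨q1, q2, q3, q4, q5⟩⟩ :=
      str_pair D r rb s u a a h1 h2 h3 h4 haa hs hsr hsrb hu hur hurb (Ne.symm hus)
    have hA : slA Tr Tb s = -1 := by
      unfold slA; rw [← hdrdef, if_neg hdr, if_pos hdb]; rfl
    have hAu : slA Tr Tb u = 1 := by
      unfold slA
      have : ¬ (Tb / 1024 ^ u % 1024 = 0) := by rw [hub]; omega
      rw [if_pos hurd, if_neg this]; rfl
    refine ⟨p1, ?_, ?_, ?_, ?_⟩
    · rw [p4, p5, hA]; norm_num
    · rw [p2, q2]
    · rw [p2, hAu, hA]; rfl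
    · rw [p2, p3, q3, hA]
      have : a * (-a) = -(a * a) := by ring
      rw [this, haa]; rfl

end Cfsg.Agent.Lib.Helper7
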