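import Cfsg.Agent.Lib.Helper7.ChevConj
import Cfsg.Agent.Lib.Helper7.ChevSL1

set_option autoImplicit false

namespace Cfsg.Agent.Lib.Helper7

open Cfsg Cfsg.Lie Matrix

/-- sign bit of `a η_u η_v η_s` from the encoded signs -/
def signBit (a : ℤ) (eu ev es : ℕ) : ℕ :=
  ((if a = 1 then 0 else 1) + (1 - eu / 2) + (1 - ev / 2) + (1 - es / 2) + 1) % 2

theorem signBit_eq (a hu hv hs : ℤ) (ha : a = 1 ∨ a = -1) (h1 : hu = 1 ∨ hu = -1) (h2 : hv = 1 ∨ hv = -1)
    (h3 : hs = 1 ∨ hs = -1) :
    (if signBit a (hu + 1).toNat (hv + 1).toNat (hs + 1).toNat = 1 then (1 : ℤ) else -1) = a * hu * hv * hs := by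
  rcases ha with rfl | rfl <;> rcases h1 with rfl | rfl <;> rcases h2 with rfl | rfl <;>
    rcases h3 with rfl | rfl <;> decide

theorem signBit_lt (a : ℤ) (eu ev es : ℕ) : signBit a eu ev es < 2 := Nat.mod_lt _ (by norm_num)

/-- the fast check of `ConjFacts` for simply-laced data -/
def conjSLB (D : ChevalleyDatum) (packs : List ℕ) (i : ℕ) : Bool :=
  decide (i < D.rank) && decide (D.simple i < D.nroots) &&
  withMask (packL ((List.range D.nroots).map (D.reflectRoot i))) fun W =>
  withMask (packL ((List.range D.nroots).map fun s => ((etaTab D i).getD s 0 + 1).toNat)) fun E =>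
  withMask (packL ((List.range D.nroots).map D.neg)) fun NG =>
  withMask (packs.getD i 0) fun Pi =>
    ((List.range D.nroots).map (D.reflectRoot i)).all (fun a => decide (a < D.nroots) && decide (a < 256)) &&
    ((List.range D.nroots).map D.neg).all (fun a => decide (a < D.nroots) && decide (a < 256)) &&
    ((List.range D.nroots).map fun s => (etaTab D i).getD s 0).all (fun a => a == 1 || a == -1) &&
    ((List.range D.nroots).all fun s =>
      withMask (W / 256 ^ s % 256) fun ws =>
      withMask (NG / 256 ^ s % 256) fun ns =>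
        (W / 256 ^ ws % 256 == s) && ns != s && (W / 256 ^ ns % 256 == NG / 256 ^ ws % 256) &&
        (E / 256 ^ ns % 256 == E / 256 ^ s % 256) &&
        (Pi / 256 ^ ws % 256 + Pi / 256 ^ s % 256 == 32) &&
        packs.all (fun P => ((P / 256 ^ ws % 256 : ℕ) : ℤ) - 16 ==
          (((P / 256 ^ s % 256 : ℕ) : ℤ) - 16) -
            (((Pi / 256 ^ s % 256 : ℕ) : ℤ) - 16) * (((P / 256 ^ (D.simple i) % 256 : ℕ) : ℤ) - 16)) &&
        (List.range D.rank).all (fun k =>
          (D.coroot.getD ws #[]).getD k 0 == (D.coroot.getD s #[]).getD k 0 -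
            (if k = i then ((List.range D.rank).map fun j =>
              (D.coroot.getD s #[]).getD j 0 * D.cartan j (D.simple i)).sum else 0))) &&
    (D.chain.toList.zipIdx).all fun cs =>
      cs.1.toList.all slEntryOK &&
      withMask (slTab (D.chain.getD (W / 256 ^ cs.2 % 256) #[]).toList) fun T =>
        cs.1.toList.all fun e =>
          match e.2.toList with
          | [(u, a)] => T / 1024 ^ (W / 256 ^ e.1 % 256) % 1024 ==
              2 * (W / 256 ^ u % 256 + 1) +
                signBit a (E / 256 ^ u % 256) (E / 256 ^ e.1 % 256) (E / 256 ^ cs.2 % 256)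
          | _ => false


theorem entryList_single (e : ℕ × Array (ℕ × ℤ)) (u : ℕ) (a : ℤ) (h : e.2.toList = [(u, a)]) :
    entryList e = [(u, 1, a)] := by
  unfold entryList; rw [h]; rfl

theorem toNat_add_one_inj (a b : ℤ) (ha : a = 1 ∨ a = -1) (hb : b = 1 ∨ b = -1)
    (h : (a + 1).toNat = (b + 1).toNat) : a = b := by
  rcases ha with rfl | rfl <;> rcases hb with rfl | rfl <;> first | rfl | (exfalso; revert h; decide)

theorem conjFacts_of_conjSLB (D : ChevalleyDatum) (i : ℕ)
    (hrow : ∀ k < D.rank, rowOKB D k = true)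
    (hsort : ∀ s < D.nroots, sortedB ((D.chain.getD s #[]).toList.map Prod.fst) = true)
    (hlt : ∀ s < D.nroots, ∀ v, ∀ x ∈ ccAll D s v, x.1 < D.nroots)
    (h : conjSLB D ((List.range D.rank).map (rowPack D)) i = true) : ConjFacts D i (etaFn D i) := by
  unfold conjSLB at h
  simp only [withMask_eq] at h
  simp only [Bool.and_eq_true, decide_eq_true_eq] at h
  obtain ⟨⟨hi, hp⟩, ⟨⟨⟨⟨hWall, hNall⟩, hEall⟩, hroot⟩, hchain⟩⟩ := h
  rw [List.all_eq_true] at hWall hNall hEall hroot hchain
  set W := packL ((List.range D.nroots).map (D.reflectRoot i)) with hWdef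
  set E := packL ((List.range D.nroots).map fun s => ((etaTab D i).getD s 0 + 1).toNat) with hEdef
  set NG := packL ((List.range D.nroots).map D.neg) with hNGdef
  have hWv : ∀ v < D.nroots, D.reflectRoot i v < D.nroots ∧ D.reflectRoot i v < 256 := by
    intro v hv
    have := hWall _ (List.mem_map.mpr ⟨v, List.mem_range.mpr hv, rfl⟩)
    simpa using this
  have hNv : ∀ v < D.nroots, D.neg v < D.nroots ∧ D.neg v < 256 := by
    intro v hv
    have := hNall _ (List.mem_map.mpr ⟨v, List.mem_range.mpr hv, rfl⟩)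
    simpa using this
  have hηpm : ∀ v < D.nroots, etaFn D i v = 1 ∨ etaFn D i v = -1 := by
    intro v hv
    have := hEall _ (List.mem_map.mpr ⟨v, List.mem_range.mpr hv, rfl⟩)
    rw [etaTab_getD D i v hv] at this
    simpa using this
  have hW : ∀ v < D.nroots, W / 256 ^ v % 256 = D.reflectRoot i v := by
    intro v hv
    rw [hWdef, packL_access]
    · rw [List.getD_eq_getElem _ _ (by simpa using hv)]; simp
    · intro a ha
      rw [List.mem_map] at ha
      obtain ⟨b, hb, rfl⟩ := ha
      exact (hWv b (List.mem_range.mp hb)).2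
  have hNG : ∀ v < D.nroots, NG / 256 ^ v % 256 = D.neg v := by
    intro v hv
    rw [hNGdef, packL_access]
    · rw [List.getD_eq_getElem _ _ (by simpa using hv)]; simp
    · intro a ha
      rw [List.mem_map] at ha
      obtain ⟨b, hb, rfl⟩ := ha
      exact (hNv b (List.mem_range.mp hb)).2
  have hE : ∀ v < D.nroots, E / 256 ^ v % 256 = (etaFn D i v + 1).toNat := by
    intro v hv
    rw [hEdef, packL_access]
    · rw [List.getD_eq_getElem _ _ (by simpa using hv)]
      simp only [List.getElem_map, List.getElem_range]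
      rw [etaTab_getD D i v hv]
    · intro a ha
      rw [List.mem_map] at ha
      obtain ⟨b, hb, rfl⟩ := ha
      have hb' := List.mem_range.mp hb
      rw [etaTab_getD D i b hb']
      rcases hηpm b hb' with h1 | h1 <;> rw [h1] <;> decide
  have hpk : ∀ k < D.rank, ((List.range D.rank).map (rowPack D)).getD k 0 = rowPack D k := by
    intro k hk
    rw [List.getD_eq_getElem _ _ (by simpa using hk)]
    simp
  have hcar : ∀ k < D.rank, ∀ u < D.nroots, D.cartan k u = ((rowPack D k / 256 ^ u % 256 : ℕ) : ℤ) - 16 := by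
    intro k hk u hu
    rw [← carAcc_eq D k u (hrow k hk) hu]; rfl
  -- root facts
  have hR : ∀ s < D.nroots,
      D.reflectRoot i (D.reflectRoot i s) = s ∧ D.neg s ≠ s ∧
      D.reflectRoot i (D.neg s) = D.neg (D.reflectRoot i s) ∧
      etaFn D i (D.neg s) = etaFn D i s ∧
      D.cartan i (D.reflectRoot i s) = - D.cartan i s ∧
      (∀ j < D.rank, D.cartan j (D.reflectRoot i s) = D.cartan j s - D.cartan i s * D.cartan j (D.simple i)) ∧
      (∀ k < D.rank, (D.coroot.getD (D.reflectRoot i s) #[]).getD k 0 = (D.coroot.getD s #[]).getD k 0 -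
        (if k = i then ((List.range D.rank).map fun j =>
          (D.coroot.getD s #[]).getD j 0 * D.cartan j (D.simple i)).sum else 0)) := by
    intro s hs
    have h1 := hroot s (List.mem_range.mpr hs)
    rw [hW s hs, hNG s hs, hpk i hi] at h1
    simp only [Bool.and_eq_true, beq_iff_eq, bne_iff_ne, List.all_eq_true, List.mem_range] at h1
    obtain ⟨⟨⟨⟨⟨⟨a1, a2⟩, a3⟩, a4⟩, a5⟩, a6⟩, a7⟩ := h1
    have hws := (hWv s hs).1
    have hns := (hNv s hs).1
    rw [hW _ hws] at a1
    rw [hW _ hns, hNG _ hws] at a3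
    rw [hE _ hns, hE s hs] at a4
    refine ⟨a1, a2, a3, ?_, ?_, ?_, a7⟩
    · exact toNat_add_one_inj _ _ (hηpm _ hns) (hηpm s hs) a4
    · rw [hcar i hi _ hws, hcar i hi s hs]
      omega
    · intro j hj
      have := a6 (rowPack D j) (List.mem_map.mpr ⟨j, List.mem_range.mpr hj, rfl⟩)
      rw [hcar j hj _ hws, hcar j hj s hs, hcar i hi s hs, hcar j hj _ hp]
      simpa using this
  -- chain facts
  have hok : ∀ s < D.nroots, ∀ e ∈ (D.chain.getD s #[]).toList, slEntryOK e = true := by
    intro s hs e he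
    have h1 := hchain _ (mem_chain_zipIdx D s e he)
    simp only [Bool.and_eq_true, List.all_eq_true] at h1
    exact h1.1 e he
  have hccdec : ∀ s < D.nroots, ∀ v,
      ccAll D s v = slDec (slTab (D.chain.getD s #[]).toList / 1024 ^ v % 1024) :=
    fun s hs v => slTab_eq _ (hsort s hs) (hok s hs) v
  have keyA : ∀ s < D.nroots, ∀ e ∈ (D.chain.getD s #[]).toList, e.1 < D.nroots →
      ∃ u a, ccAll D s e.1 = [(u, 1, a)] ∧
        ccAll D (D.reflectRoot i s) (D.reflectRoot i e.1) =
          [(D.reflectRoot i u, 1, a * etaFn D i u * etaFn D i e.1 * etaFn D i s)] := by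
    intro s hs e he hev
    have h1 := hchain _ (mem_chain_zipIdx D s e he)
    simp only [Bool.and_eq_true, List.all_eq_true] at h1
    have h2 := h1.2 e he
    have hoke := hok s hs e he
    unfold slEntryOK at hoke
    split at hoke
    · rename_i u a heq
      simp only [Bool.and_eq_true, Bool.or_eq_true, beq_iff_eq, decide_eq_true_eq] at hoke
      simp only [heq, beq_iff_eq] at h2
      have hnd : ((D.chain.getD s #[]).toList.map Prod.fst).Nodup :=
        (pairwise_of_sortedB _ (hsort s hs)).imp (fun hab => ne_of_lt hab)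
      have hcc1 : ccAll D s e.1 = [(u, 1, a)] := by
        unfold ccAll
        rw [filter_key_eq_singleton _ hnd e he]
        simp [entryList_single e u a heq]
      have hu : u < D.nroots := hlt s hs e.1 (u, 1, a) (by rw [hcc1]; exact List.mem_cons_self ..)
      refine ⟨u, a, hcc1, ?_⟩
      rw [hW s hs, hW e.1 hev, hW u hu, hE u hu, hE e.1 hev, hE s hs] at h2
      rw [hccdec _ (hWv s hs).1, h2, slDec_two_mul _ _ (signBit_lt _ _ _ _)]
      rw [signBit_eq a _ _ _ hoke.1 (hηpm u hu) (hηpm e.1 hev) (hηpm s hs)]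
    · exact absurd hoke (by simp)
  refine ⟨hi, fun s hs => (hWv s hs).1, fun s hs => (hR s hs).1,
    fun s hs => ⟨(hNv s hs).1, (hR s hs).2.2.1, (hR s hs).2.1⟩, hηpm, fun s hs => (hR s hs).2.2.2.1,
    fun s hs => (hR s hs).2.2.2.2.1, fun j hj s hs => (hR s hs).2.2.2.2.2.1 j hj,
    fun k hk s hs => (hR s hs).2.2.2.2.2.2 k hk, ?_⟩
  intro s hs v hv _ _
  by_cases hmem : ∃ e ∈ (D.chain.getD s #[]).toList, e.1 = v
  · obtain ⟨e, he, rfl⟩ := hmem
    obtain ⟨u, a, h1, h2⟩ := keyA s hs e he hv
    rw [h1, h2]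
    simp
  · have hnil : ccAll D s v = [] := by
      unfold ccAll
      have : (D.chain.getD s #[]).toList.filter (fun e => e.1 = v) = [] := by
        rw [List.filter_eq_nil_iff]
        intro x hx hxe
        exact hmem ⟨x, hx, by simpa using hxe⟩
      rw [this]; rfl
    rw [hnil]
    by_contra hne
    -- some entry of the chain of `w s` has key `w v`
    have hws := (hWv s hs).1
    have hwv := (hWv v hv).1
    have : ∃ e' ∈ (D.chain.getD (D.reflectRoot i s) #[]).toList, e'.1 = D.reflectRoot i v := by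
      by_contra hno
      apply hne
      unfold ccAll
      have : (D.chain.getD (D.reflectRoot i s) #[]).toList.filter (fun e => e.1 = D.reflectRoot i v) = [] := by
        rw [List.filter_eq_nil_iff]
        intro x hx hxe
        exact hno ⟨x, hx, by simpa using hxe⟩
      rw [this]; rfl
    obtain ⟨e', he', hev'⟩ := this
    obtain ⟨u, a, -, h2⟩ := keyA _ hws e' he' (by rw [hev']; exact hwv)
    rw [hev', (hR s hs).1, (hR v hv).1, hnil] at h2
    exact List.cons_ne_nil _ _ h2.symm


/-- the fast check for one fundamental root, with the packed Cartan rows forced first -/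
def conjSLOneB (D : ChevalleyDatum) (i : ℕ) : Bool :=
  forceAll ((List.range D.rank).map (rowPack D)) fun packs => conjSLB D packs i

theorem conjFacts_of_conjSLOneB (D : ChevalleyDatum) (i : ℕ)
    (hrow : ∀ k < D.rank, rowOKB D k = true)
    (hsort : ∀ s < D.nroots, sortedB ((D.chain.getD s #[]).toList.map Prod.fst) = true)
    (hlt : ∀ s < D.nroots, ∀ v, ∀ x ∈ ccAll D s v, x.1 < D.nroots)
    (h : conjSLOneB D i = true) : ConjFacts D i (etaFn D i) := by
  unfold conjSLOneB at h
  rw [forceAll_eq] at h
  exact conjFacts_of_conjSLB D i hrow hsort hlt h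

/-- the fast check for all fundamental roots -/
def conjSLAllB (D : ChevalleyDatum) : Bool := (List.range D.rank).all (conjSLOneB D)

end Cfsg.Agent.Lib.Helper7
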