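import Cfsg.Agent.Lib.Helper7.ChevCoxeter

/-! The isomorphism between the Weyl group `N/H` of a Chevalley group and the presented Coxeter group
of its type (helper7). -/

set_option autoImplicit false

namespace Cfsg.Agent.Lib.Helper7

open Cfsg Cfsg.Lie Matrix
open Cfsg.Agent.Lib.Helper3.BN Cfsg.Agent.Lib.Helper3.WordLen

section
variable (D : ChevalleyDatum) (hD : D ∈ [chevG2, chevB2, chevD4, chevF4, chevE6, chevE7, chevE8])
variable (F : Type*) [Field F] (l : ℕ) (hl : D.rank = l) (M : CoxeterMatrix (Fin l))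
variable (hM : ∀ i j : Fin l, orderOf (sbI D hD F i.val * sbI D hD F j.val) = M i j)
include hD hl hM

theorem sbI_injective (i j : Fin l) (h : sbI D hD F i.val = sbI D hD F j.val) : i = j := by
  by_contra hne
  have h1 := hM i j
  have hi : i.val < D.rank := by rw [hl]; exact i.isLt
  rw [h, Sbar_sq _ _ (sbI_mem D hD F j.val (by rw [hl]; exact j.isLt)), orderOf_one] at h1
  exact M.off_diagonal i j hne h1.symm

open Classical in
/-- the map to the Coxeter group, defined on the generators -/
noncomputable def coxVal (w : W (chevBNPair D hD F)) : M.Group :=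
  if h : ∃ i : Fin l, w = sbI D hD F i.val then M.simple (Classical.choose h) else 1

theorem coxVal_sbI (i : Fin l) : coxVal D hD F l M (sbI D hD F i.val) = M.simple i := by
  have h : ∃ i' : Fin l, sbI D hD F i.val = sbI D hD F i'.val := ⟨i, rfl⟩
  unfold coxVal
  rw [dif_pos h]
  congr 1
  exact (sbI_injective D hD F l hl M hM _ _ (Classical.choose_spec h)).symm

omit hM in
theorem exists_fin_of_mem_Sbar (t : W (chevBNPair D hD F)) (ht : t ∈ Sbar (chevBNPair D hD F)) :
    ∃ i : Fin l, t = sbI D hD F i.val := by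
  obtain ⟨i, hi, rfl⟩ := (mem_Sbar_iff D hD F t).mp ht
  exact ⟨⟨i, by rw [← hl]; exact hi⟩, rfl⟩

theorem coxVal_sq (t : W (chevBNPair D hD F)) (ht : t ∈ Sbar (chevBNPair D hD F)) :
    coxVal D hD F l M t * coxVal D hD F l M t = 1 := by
  obtain ⟨i, rfl⟩ := exists_fin_of_mem_Sbar D hD F l hl t ht
  rw [coxVal_sbI D hD F l hl M hM i]
  exact M.toCoxeterSystem.simple_mul_simple_self i

theorem coxVal_braid (a : W (chevBNPair D hD F)) (ha : a ∈ Sbar (chevBNPair D hD F))
    (b : W (chevBNPair D hD F)) (hb : b ∈ Sbar (chevBNPair D hD F)) (k : ℕ)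
    (h : (altW a b k).prod = (altW b a k).prod) :
    fw (coxVal D hD F l M) (altW a b k) = fw (coxVal D hD F l M) (altW b a k) := by
  have ha2 := Sbar_sq _ a ha
  have hb2 := Sbar_sq _ b hb
  obtain ⟨i, rfl⟩ := exists_fin_of_mem_Sbar D hD F l hl a ha
  obtain ⟨j, rfl⟩ := exists_fin_of_mem_Sbar D hD F l hl b hb
  rw [altW_prod_eq_iff k _ _ ha2 hb2] at h
  have hdvd : M i j ∣ k := by
    rw [← hM i j]; exact orderOf_dvd_of_pow_eq_one h
  unfold fw
  have hsi : M.simple i * M.simple i = 1 := M.toCoxeterSystem.simple_mul_simple_self i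
  have hsj : M.simple j * M.simple j = 1 := M.toCoxeterSystem.simple_mul_simple_self j
  rw [altW_map, altW_map, coxVal_sbI D hD F l hl M hM i, coxVal_sbI D hD F l hl M hM j,
    altW_prod_eq_iff k _ _ hsi hsj]
  obtain ⟨c, rfl⟩ := hdvd
  rw [pow_mul]
  have := M.toCoxeterSystem.simple_mul_simple_pow i j
  rw [CoxeterMatrix.toCoxeterSystem_simple] at this
  rw [this, one_pow]

/-- the homomorphism from the Weyl group to the Coxeter group -/
noncomputable def toCox : W (chevBNPair D hD F) →* M.Group :=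
  matHom (Sbar_sq _) (Sbar_closure _) (Sbar_len_ne _) (Sbar_exch _) (coxVal D hD F l M)
    (coxVal_braid D hD F l hl M hM) (coxVal_sq D hD F l hl M hM)

theorem toCox_sbI (i : Fin l) : toCox D hD F l hl M hM (sbI D hD F i.val) = M.simple i := by
  unfold toCox
  rw [matHom_gen _ _ _ _ _ _ _ _ (sbI_mem D hD F i.val (by rw [hl]; exact i.isLt)),
    coxVal_sbI D hD F l hl M hM i]

omit hl in
theorem sbI_liftable : M.IsLiftable (fun i : Fin l => sbI D hD F i.val) := by
  intro i j
  show (sbI D hD F i.val * sbI D hD F j.val) ^ M i j = 1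
  rw [← hM i j]
  exact pow_orderOf_eq_one _

/-- the homomorphism from the Coxeter group to the Weyl group -/
noncomputable def ofCox : M.Group →* W (chevBNPair D hD F) :=
  M.toCoxeterSystem.lift ⟨fun i : Fin l => sbI D hD F i.val, sbI_liftable D hD F l M hM⟩

omit hl in
theorem ofCox_simple (i : Fin l) : ofCox D hD F l M hM (M.simple i) = sbI D hD F i.val := by
  unfold ofCox
  have := M.toCoxeterSystem.lift_apply_simple (sbI_liftable D hD F l M hM) i
  rw [CoxeterMatrix.toCoxeterSystem_simple] at this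
  exact this

/-- `N/H ≅ W(M)` -/
noncomputable def weylCoxEquiv : W (chevBNPair D hD F) ≃* M.Group :=
  MonoidHom.toMulEquiv (toCox D hD F l hl M hM) (ofCox D hD F l M hM)
    (by
      apply MonoidHom.eq_of_eqOn_dense (Sbar_closure (chevBNPair D hD F))
      intro t ht
      obtain ⟨i, rfl⟩ := exists_fin_of_mem_Sbar D hD F l hl t ht
      show ofCox D hD F l M hM (toCox D hD F l hl M hM (sbI D hD F i.val)) = sbI D hD F i.val
      rw [toCox_sbI, ofCox_simple])
    (by
      apply M.toCoxeterSystem.ext_simple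
      intro i
      rw [CoxeterMatrix.toCoxeterSystem_simple]
      show toCox D hD F l hl M hM (ofCox D hD F l M hM (M.simple i)) = M.simple i
      rw [ofCox_simple, toCox_sbI])

theorem weylCoxEquiv_sbI (i : Fin l) :
    weylCoxEquiv D hD F l hl M hM (sbI D hD F i.val) = M.simple i :=
  toCox_sbI D hD F l hl M hM i

end

end Cfsg.Agent.Lib.Helper7
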