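import Cfsg.Agent.Lib.Helper7.ChevCoxeter2

/-! Orders of Weyl groups and of their Coxeter elements from the chain tables (helper7). -/

set_option autoImplicit false

namespace Cfsg.Agent.Lib.Helper7

open Cfsg Cfsg.Lie Matrix
open Cfsg.Agent.Lib.Helper3.BN Cfsg.Agent.Lib.Helper3.WordLen

theorem refls_of_weylChainOKB (D : ChevalleyDatum) (C : WeylChain) (h : weylChainOKB D C = true) :
    C.refls = (List.range D.rank).map fun i => (List.range D.nroots).map (D.reflectRoot i) := by
  unfold weylChainOKB at h
  simp only [Bool.and_eq_true, beq_iff_eq] at h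
  exact h.1.1.1

/-- the word `L^k` -/
def repL (L : List ℕ) : ℕ → List ℕ
  | 0 => []
  | k + 1 => L ++ repL L k

theorem repL_prod {G : Type*} [Group G] (f : ℕ → G) (L : List ℕ) :
    ∀ k, ((repL L k).map f).prod = ((L.map f).prod) ^ k
  | 0 => by simp [repL]
  | k + 1 => by
    show ((L ++ repL L k).map f).prod = _
    rw [List.map_append, List.prod_append, repL_prod f L k, pow_succ']

theorem repL_lt (L : List ℕ) (l : ℕ) (hL : ∀ x ∈ L, x < l) : ∀ k, ∀ x ∈ repL L k, x < l
  | 0, x, hx => by simp [repL] at hx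
  | k + 1, x, hx => by
    have : x ∈ L ∨ x ∈ repL L k := by
      have h' : x ∈ L ++ repL L k := hx
      exact List.mem_append.mp h'
    rcases this with h | h
    · exact hL x h
    · exact repL_lt L l hL k x h

/-- table check: the word `L` has order `h`; `ks` lists the `h / p` for the primes `p` dividing `h` -/
def wordOrderOKB (refls : List (List ℕ)) (n : ℕ) (L : List ℕ) (h : ℕ) (ks : List ℕ) : Bool :=
  decide (0 < h) && (wordPerm refls n (repL L h) == List.range n) &&
  ks.all fun k => wordPerm refls n (repL L k) != List.range n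

section
variable (D : ChevalleyDatum) (hD : D ∈ [chevG2, chevB2, chevD4, chevF4, chevE6, chevE7, chevE8])
variable (F : Type*) [Field F]
include hD

theorem orderOf_word (refls : List (List ℕ))
    (hrefl : refls = (List.range D.rank).map fun i => (List.range D.nroots).map (D.reflectRoot i))
    (L : List ℕ) (hL : ∀ x ∈ L, x < D.rank) (h : ℕ) (ks : List ℕ)
    (hks : ∀ p : ℕ, p.Prime → p ∣ h → h / p ∈ ks)
    (hok : wordOrderOKB refls D.nroots L h ks = true) :
    orderOf ((L.map (sbI D hD F)).prod) = h := by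
  unfold wordOrderOKB at hok
  simp only [Bool.and_eq_true, List.all_eq_true, decide_eq_true_eq, beq_iff_eq, bne_iff_ne] at hok
  obtain ⟨⟨hpos, hm⟩, hk⟩ := hok
  apply orderOf_eq_of_pow_and_pow_div_prime hpos
  · rw [← repL_prod (sbI D hD F) L, word_eq_one_iff D hD F refls hrefl _ (repL_lt L _ hL _)]
    exact hm
  · intro p hp hd
    rw [← repL_prod (sbI D hD F) L, Ne, word_eq_one_iff D hD F refls hrefl _ (repL_lt L _ hL _)]
    exact hk _ (hks p hp hd)

/-- `|W| = ∏_j (Σ_k c_{j,k})` -/
theorem card_W_of_chain (C : WeylChain) (hC : weylChainOKB D C = true)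
    (Hs : List (ℕ × List ℕ)) (hH : chainHistOKB C.levels Hs = true) :
    Nat.card (W (chevBNPair D hD F)) = histPoly 1 Hs := by
  have hE := weylEnum_of_chain D C hC
  have : Finite (W (chevBNPair D hD F)) := enum_finite_W D hD F _ _ _ _ hE
  have : Fintype (W (chevBNPair D hD F)) := Fintype.ofFinite _
  have h1 := enum_sum_pow_len D hD F _ _ _ _ hE 1
  rw [sum_nfFin, chainPoly_eq_histPoly _ _ _ hH] at h1
  rw [← h1, Nat.card_eq_fintype_card]
  simp

end

end Cfsg.Agent.Lib.Helper7
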