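import Cfsg.Agent.Lib.Helper7.ChevCoxeter3
import Cfsg.Agent.Lib.Helper7.ChevCanon2

/-! Consequences of `N/H ≅ W(M)`: orders, Coxeter elements and the homomorphism `N → W(M)` (helper7). -/

set_option autoImplicit false

namespace Cfsg.Agent.Lib.Helper7

open Cfsg Cfsg.Lie Matrix
open Cfsg.Agent.Lib.Helper3.BN Cfsg.Agent.Lib.Helper3.WordLen

section
variable (D : ChevalleyDatum) (hD : D ∈ [chevG2, chevB2, chevD4, chevF4, chevE6, chevE7, chevE8])
variable (F : Type*) [Field F] (l : ℕ) (hl : D.rank = l) (M : CoxeterMatrix (Fin l))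
variable (hM : ∀ i j : Fin l, orderOf (sbI D hD F i.val * sbI D hD F j.val) = M i j)
include hD hl hM

theorem card_coxGroup (C : WeylChain) (hC : weylChainOKB D C = true)
    (Hs : List (ℕ × List ℕ)) (hH : chainHistOKB C.levels Hs = true) :
    Nat.card M.Group = histPoly 1 Hs := by
  rw [← Nat.card_congr (weylCoxEquiv D hD F l hl M hM).toEquiv, card_W_of_chain D hD F C hC Hs hH]

theorem orderOf_coxeterElt (refls : List (List ℕ))
    (hrefl : refls = (List.range D.rank).map fun i => (List.range D.nroots).map (D.reflectRoot i))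
    (h : ℕ) (ks : List ℕ) (hks : ∀ p : ℕ, p.Prime → p ∣ h → h / p ∈ ks)
    (hok : wordOrderOKB refls D.nroots (List.range l) h ks = true) :
    orderOf ((List.finRange l).map M.simple).prod = h := by
  have h1 := orderOf_word D hD F refls hrefl (List.range l)
    (by intro x hx; rw [hl]; exact List.mem_range.mp hx) h ks hks hok
  have h2 : weylCoxEquiv D hD F l hl M hM (((List.range l).map (sbI D hD F)).prod) =
      ((List.finRange l).map M.simple).prod := by
    rw [map_list_prod, List.map_map, ← List.map_coe_finRange_eq_range, List.map_map]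
    congr 1
    apply List.map_congr_left
    intro i _
    exact weylCoxEquiv_sbI D hD F l hl M hM i
  rw [← h2, MulEquiv.orderOf_eq]
  exact h1

omit hl hM in
/-- `N → N/H` -/
noncomputable def monoToW : ↥(D.monomialSubgroup F) →* W (chevBNPair D hD F) where
  toFun n := mkW (chevBNPair D hD F) ⟨n.1, monomial_le_group D hD F n.2⟩
    ((mem_N_iff D hD F _).mpr n.2)
  map_one' := rfl
  map_mul' _ _ := rfl

omit hl hM in
theorem monoToW_surjective : Function.Surjective (monoToW D hD F) := by
  intro w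
  obtain ⟨n, hn, rfl⟩ := mkW_surj (chevBNPair D hD F) w
  exact ⟨⟨n.1, (mem_N_iff D hD F n).mp hn⟩, rfl⟩

omit hl hM in
theorem monoToW_ker :
    (monoToW D hD F).ker = (D.diagonalSubgroup F).subgroupOf (D.monomialSubgroup F) := by
  ext n
  rw [MonoidHom.mem_ker, Subgroup.mem_subgroupOf]
  show mkW (chevBNPair D hD F) ⟨n.1, monomial_le_group D hD F n.2⟩ _ = 1 ↔ _
  rw [mkW_eq_one_iff, mem_B_iff, ← borel_inf_monomial D hD F, Subgroup.mem_inf]
  exact ⟨fun h => ⟨h, n.2⟩, fun h => h.1⟩

omit hl hM in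
theorem monoToW_fund (i : ℕ) (hi : i < D.rank) (g : ↥(D.monomialSubgroup F))
    (hg : ((g : GL D.Idx F) : Matrix D.Idx D.Idx F) = D.nMat F (D.simple i) 1) :
    monoToW D hD F g = sbI D hD F i := by
  have h1 : (g : GL D.Idx F) = nFund D hD F i := by
    apply Units.ext
    unfold nFund
    rw [hg, coe_wordGL]; rfl
  show mkW (chevBNPair D hD F) ⟨g.1, _⟩ _ = mkW (chevBNPair D hD F) (fundEl D hD F i) _
  congr 1
  apply Subtype.ext
  rw [fundEl_coe D hD F i hi]
  exact h1

/-- the homomorphism `N → W(M)` with kernel `H` -/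
theorem exists_mono_hom :
    ∃ φ : ↥(D.monomialSubgroup F) →* M.Group, Function.Surjective φ ∧
      φ.ker = (D.diagonalSubgroup F).subgroupOf (D.monomialSubgroup F) ∧
      ∀ (i : Fin l) (g : ↥(D.monomialSubgroup F)),
        ((g : GL D.Idx F) : Matrix D.Idx D.Idx F) = D.nMat F (D.simple i) 1 → φ g = M.simple i := by
  refine ⟨(weylCoxEquiv D hD F l hl M hM).toMonoidHom.comp (monoToW D hD F), ?_, ?_, ?_⟩
  · exact (weylCoxEquiv D hD F l hl M hM).surjective.comp (monoToW_surjective D hD F)
  · rw [← monoToW_ker D hD F]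
    ext n
    rw [MonoidHom.mem_ker, MonoidHom.mem_ker, MonoidHom.comp_apply]
    exact (weylCoxEquiv D hD F l hl M hM).map_eq_one_iff
  · intro i g hg
    rw [MonoidHom.comp_apply, monoToW_fund D hD F i.val (by rw [hl]; exact i.isLt) g hg]
    exact weylCoxEquiv_sbI D hD F l hl M hM i

end

end Cfsg.Agent.Lib.Helper7
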