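import Cfsg.Agent.Lib.Helper7.ChevWeylChainFast

/-! Chain of coset representatives for the Weyl group of type B2 (helper7; generated). -/

set_option autoImplicit false
set_option maxRecDepth 1000000
set_option maxHeartbeats 0

namespace Cfsg.Agent.Lib.Helper7

open Cfsg Cfsg.Lie

def weylChain_B2 : WeylChain := mkChain 8
  [289921455100330243, 505817143170892288]
  [
  { elems := [506097522914230528, 505817143170892288, 288799923292407043, 216459754766206468],
    invs := [506097522914230528, 505817143170892288, 217581286574129668, 216459754766206468],
    dep := [0, 1, 2, 3],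
    test := 6,
    gens := [0, 1],
    act := [[256, 1],
    [2, 0],
    [1, 3],
    [256, 2]] },
  { elems := [506097522914230528, 289921455100330243],
    invs := [506097522914230528, 289921455100330243],
    dep := [0, 1],
    test := 3,
    gens := [0],
    act := [[1, 512],
    [0, 512]] }]

def weylHist_B2 : List (ℕ × List ℕ) := [(4, [1, 1, 1, 1]), (2, [1, 1])]

theorem weylChainOKBF_B2 : weylChainOKBF chevB2 weylChain_B2 = true := by decide +kernel

theorem weylChainOKB_B2 : weylChainOKB chevB2 weylChain_B2 = true :=
  weylChainOKB_of_F chevB2 weylChain_B2 weylChainOKBF_B2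

theorem chainHistOKB_B2 : chainHistOKB weylChain_B2.levels weylHist_B2 = true := by decide +kernel

end Cfsg.Agent.Lib.Helper7
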