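import Cfsg.Agent.Lib.Helper7.ChevCoxeter4
import Cfsg.Agent.Lib.Helper7.ChevWeylChainB2

/-! The Weyl group of type B2 is the Coxeter group of type B2 (helper7). -/

set_option autoImplicit false
set_option maxRecDepth 100000

namespace Cfsg.Agent.Lib.Helper7

open Cfsg Cfsg.Lie

def coxMt_B2 : List (List ℕ) := [[1, 4], [4, 1]]

theorem coxOKB_B2 : coxOKB weylChain_B2.refls chevB2.nroots chevB2.rank coxMt_B2 = true := by
  decide +kernel

theorem cexOKB_B2 : wordOrderOKB weylChain_B2.refls chevB2.nroots (List.range 2) 4 [2] = true := by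
  decide +kernel

theorem coxM_B2 : ∀ i j : Fin 2, (CoxeterMatrix.B 2).M i j = (coxMt_B2.getD i.val []).getD j.val 0 := by
  intro i j
  fin_cases i <;> fin_cases j <;> rfl

theorem mem_B2 : chevB2 ∈ [chevG2, chevB2, chevD4, chevF4, chevE6, chevE7, chevE8] := by simp

theorem refls_B2 : weylChain_B2.refls =
    (List.range chevB2.rank).map fun i => (List.range chevB2.nroots).map (chevB2.reflectRoot i) :=
  refls_of_weylChainOKB chevB2 weylChain_B2 weylChainOKB_B2

theorem orderOf_sbI_B2 (F : Type*) [Field F] (i j : Fin 2) :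
    orderOf (sbI chevB2 mem_B2 F i.val * sbI chevB2 mem_B2 F j.val) = (CoxeterMatrix.B 2) i j := by
  show _ = (CoxeterMatrix.B 2).M i j
  rw [coxM_B2 i j]
  exact orderOf_sbI_mul chevB2 mem_B2 F _ refls_B2 coxMt_B2 coxOKB_B2 i.val j.val i.isLt j.isLt

theorem card_cox_B2 : Nat.card (CoxeterMatrix.B 2).Group = 8 := by
  rw [card_coxGroup chevB2 mem_B2 ℚ 2 rfl (CoxeterMatrix.B 2) (orderOf_sbI_B2 ℚ) weylChain_B2 weylChainOKB_B2
    weylHist_B2 chainHistOKB_B2]
  simp [histPoly, weylHist_B2, Finset.sum_range_succ]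

theorem coxeterElt_B2 : orderOf ((List.finRange 2).map (CoxeterMatrix.B 2).simple).prod = 4 :=
  orderOf_coxeterElt chevB2 mem_B2 ℚ 2 rfl (CoxeterMatrix.B 2) (orderOf_sbI_B2 ℚ) _ refls_B2 4 [2]
    (by
      intro p hp hd
      have hle : p ≤ 4 := Nat.le_of_dvd (by norm_num) hd
      interval_cases p <;> simp_all (config := {decide := true})) cexOKB_B2

theorem mono_hom_B2 (F : Type*) [Field F] :
    ∃ φ : ↥(chevB2.monomialSubgroup F) →* (CoxeterMatrix.B 2).Group, Function.Surjective φ ∧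
      φ.ker = (chevB2.diagonalSubgroup F).subgroupOf (chevB2.monomialSubgroup F) ∧
      ∀ (i : Fin 2) (g : ↥(chevB2.monomialSubgroup F)),
        ((g : GL chevB2.Idx F) : Matrix chevB2.Idx chevB2.Idx F) = chevB2.nMat F (chevB2.simple i) 1 →
          φ g = (CoxeterMatrix.B 2).simple i :=
  exists_mono_hom chevB2 mem_B2 F 2 rfl (CoxeterMatrix.B 2) (orderOf_sbI_B2 F)

end Cfsg.Agent.Lib.Helper7
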