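import Cfsg.Agent.Lib.Helper7.ChevCoxeter4
import Cfsg.Agent.Lib.Helper7.ChevWeylChainD4

/-! The Weyl group of type D4 is the Coxeter group of type D4 (helper7). -/

set_option autoImplicit false
set_option maxRecDepth 100000

namespace Cfsg.Agent.Lib.Helper7

open Cfsg Cfsg.Lie

def coxMt_D4 : List (List ℕ) := [[1, 3, 2, 2], [3, 1, 3, 3], [2, 3, 1, 2], [2, 3, 2, 1]]

theorem coxOKB_D4 : coxOKB weylChain_D4.refls chevD4.nroots chevD4.rank coxMt_D4 = true := by
  decide +kernel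

theorem cexOKB_D4 : wordOrderOKB weylChain_D4.refls chevD4.nroots (List.range 4) 6 [3, 2] = true := by
  decide +kernel

theorem coxM_D4 : ∀ i j : Fin 4, Cfsg.Lie.coxeterD4.M i j = (coxMt_D4.getD i.val []).getD j.val 0 := by
  intro i j
  fin_cases i <;> fin_cases j <;> rfl

theorem mem_D4 : chevD4 ∈ [chevG2, chevB2, chevD4, chevF4, chevE6, chevE7, chevE8] := by simp

theorem refls_D4 : weylChain_D4.refls =
    (List.range chevD4.rank).map fun i => (List.range chevD4.nroots).map (chevD4.reflectRoot i) :=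
  refls_of_weylChainOKB chevD4 weylChain_D4 weylChainOKB_D4

theorem orderOf_sbI_D4 (F : Type*) [Field F] (i j : Fin 4) :
    orderOf (sbI chevD4 mem_D4 F i.val * sbI chevD4 mem_D4 F j.val) = Cfsg.Lie.coxeterD4 i j := by
  show _ = Cfsg.Lie.coxeterD4.M i j
  rw [coxM_D4 i j]
  exact orderOf_sbI_mul chevD4 mem_D4 F _ refls_D4 coxMt_D4 coxOKB_D4 i.val j.val i.isLt j.isLt

theorem card_cox_D4 : Nat.card Cfsg.Lie.coxeterD4.Group = 192 := by
  rw [card_coxGroup chevD4 mem_D4 ℚ 4 rfl Cfsg.Lie.coxeterD4 (orderOf_sbI_D4 ℚ) weylChain_D4 weylChainOKB_D4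
    weylHist_D4 chainHistOKB_D4]
  simp [histPoly, weylHist_D4, Finset.sum_range_succ]

theorem coxeterElt_D4 : orderOf ((List.finRange 4).map Cfsg.Lie.coxeterD4.simple).prod = 6 :=
  orderOf_coxeterElt chevD4 mem_D4 ℚ 4 rfl Cfsg.Lie.coxeterD4 (orderOf_sbI_D4 ℚ) _ refls_D4 6 [3, 2]
    (by
      intro p hp hd
      have hle : p ≤ 6 := Nat.le_of_dvd (by norm_num) hd
      interval_cases p <;> simp_all (config := {decide := true})) cexOKB_D4

theorem mono_hom_D4 (F : Type*) [Field F] :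
    ∃ φ : ↥(chevD4.monomialSubgroup F) →* Cfsg.Lie.coxeterD4.Group, Function.Surjective φ ∧
      φ.ker = (chevD4.diagonalSubgroup F).subgroupOf (chevD4.monomialSubgroup F) ∧
      ∀ (i : Fin 4) (g : ↥(chevD4.monomialSubgroup F)),
        ((g : GL chevD4.Idx F) : Matrix chevD4.Idx chevD4.Idx F) = chevD4.nMat F (chevD4.simple i) 1 →
          φ g = Cfsg.Lie.coxeterD4.simple i :=
  exists_mono_hom chevD4 mem_D4 F 4 rfl Cfsg.Lie.coxeterD4 (orderOf_sbI_D4 F)

end Cfsg.Agent.Lib.Helper7
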