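import Cfsg.Agent.Lib.Helper7.ChevWeylChainFast

/-! Chain of coset representatives for the Weyl group of type G2 (helper7; generated). -/

set_option autoImplicit false
set_option maxRecDepth 1000000
set_option maxHeartbeats 0

namespace Cfsg.Agent.Lib.Helper7

open Cfsg Cfsg.Lie

def weylChain_G2 : WeylChain := mkChain 12
  [3411626608196089407097472256, 3108190913232640688152248321]
  [
  { elems := [3416467015609337987117220096, 3411626608196089407097472256, 3100927950116869625274959361, 1858138021934780561305831941, 1547439345480313544603339526, 309494528559154266863373066],
    invs := [3416467015609337987117220096, 3411626608196089407097472256, 1870246096311481410412281861, 1858138021934780561305831941, 316757491674925329740662026, 309494528559154266863373066],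
    dep := [0, 1, 2, 3, 4, 5],
    test := 9,
    gens := [0, 1],
    act := [[1, 257],
    [0, 2],
    [3, 1],
    [2, 4],
    [5, 3],
    [4, 257]] },
  { elems := [3416467015609337987117220096, 3108190913232640688152248321],
    invs := [3416467015609337987117220096, 3108190913232640688152248321],
    dep := [0, 1],
    test := 1,
    gens := [1],
    act := [[512, 1],
    [512, 0]] }]

def weylHist_G2 : List (ℕ × List ℕ) := [(6, [1, 1, 1, 1, 1, 1]), (2, [1, 1])]

theorem weylChainOKBF_G2 : weylChainOKBF chevG2 weylChain_G2 = true := by decide +kernel

theorem weylChainOKB_G2 : weylChainOKB chevG2 weylChain_G2 = true :=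
  weylChainOKB_of_F chevG2 weylChain_G2 weylChainOKBF_G2

theorem chainHistOKB_G2 : chainHistOKB weylChain_G2.levels weylHist_G2 = true := by decide +kernel

end Cfsg.Agent.Lib.Helper7
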