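import Cfsg.Agent.Lib.Helper7.ChevCoxeter4
import Cfsg.Agent.Lib.Helper7.ChevWeylChainG2

/-! The Weyl group of type G2 is the Coxeter group of type G2 (helper7). -/

set_option autoImplicit false
set_option maxRecDepth 100000

namespace Cfsg.Agent.Lib.Helper7

open Cfsg Cfsg.Lie

def coxMt_G2 : List (List ℕ) := [[1, 6], [6, 1]]

theorem coxOKB_G2 : coxOKB weylChain_G2.refls chevG2.nroots chevG2.rank coxMt_G2 = true := by
  decide +kernel

theorem cexOKB_G2 : wordOrderOKB weylChain_G2.refls chevG2.nroots (List.range 2) 6 [3, 2] = true := by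
  decide +kernel

theorem coxM_G2 : ∀ i j : Fin 2, CoxeterMatrix.G₂.M i j = (coxMt_G2.getD i.val []).getD j.val 0 := by
  intro i j
  fin_cases i <;> fin_cases j <;> rfl

theorem mem_G2 : chevG2 ∈ [chevG2, chevB2, chevD4, chevF4, chevE6, chevE7, chevE8] := by simp

theorem refls_G2 : weylChain_G2.refls =
    (List.range chevG2.rank).map fun i => (List.range chevG2.nroots).map (chevG2.reflectRoot i) :=
  refls_of_weylChainOKB chevG2 weylChain_G2 weylChainOKB_G2

theorem orderOf_sbI_G2 (F : Type*) [Field F] (i j : Fin 2) :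
    orderOf (sbI chevG2 mem_G2 F i.val * sbI chevG2 mem_G2 F j.val) = CoxeterMatrix.G₂ i j := by
  show _ = CoxeterMatrix.G₂.M i j
  rw [coxM_G2 i j]
  exact orderOf_sbI_mul chevG2 mem_G2 F _ refls_G2 coxMt_G2 coxOKB_G2 i.val j.val i.isLt j.isLt

theorem card_cox_G2 : Nat.card CoxeterMatrix.G₂.Group = 12 := by
  rw [card_coxGroup chevG2 mem_G2 ℚ 2 rfl CoxeterMatrix.G₂ (orderOf_sbI_G2 ℚ) weylChain_G2 weylChainOKB_G2
    weylHist_G2 chainHistOKB_G2]
  simp [histPoly, weylHist_G2, Finset.sum_range_succ]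

theorem coxeterElt_G2 : orderOf ((List.finRange 2).map CoxeterMatrix.G₂.simple).prod = 6 :=
  orderOf_coxeterElt chevG2 mem_G2 ℚ 2 rfl CoxeterMatrix.G₂ (orderOf_sbI_G2 ℚ) _ refls_G2 6 [3, 2]
    (by
      intro p hp hd
      have hle : p ≤ 6 := Nat.le_of_dvd (by norm_num) hd
      interval_cases p <;> simp_all (config := {decide := true})) cexOKB_G2

theorem mono_hom_G2 (F : Type*) [Field F] :
    ∃ φ : ↥(chevG2.monomialSubgroup F) →* CoxeterMatrix.G₂.Group, Function.Surjective φ ∧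
      φ.ker = (chevG2.diagonalSubgroup F).subgroupOf (chevG2.monomialSubgroup F) ∧
      ∀ (i : Fin 2) (g : ↥(chevG2.monomialSubgroup F)),
        ((g : GL chevG2.Idx F) : Matrix chevG2.Idx chevG2.Idx F) = chevG2.nMat F (chevG2.simple i) 1 →
          φ g = CoxeterMatrix.G₂.simple i :=
  exists_mono_hom chevG2 mem_G2 F 2 rfl CoxeterMatrix.G₂ (orderOf_sbI_G2 F)

end Cfsg.Agent.Lib.Helper7
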