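import Cfsg.Agent.Lib.Helper7.ChevNGenMain
import Cfsg.Agent.Lib.Helper7.ChevHWord

/-! A Chevalley group is generated by the root elements of the fundamental roots and their negatives (helper7). -/

set_option autoImplicit false

namespace Cfsg.Agent.Lib.Helper7

open Cfsg Cfsg.Lie Matrix

section
variable (D : ChevalleyDatum) (hD : D ∈ [chevG2, chevB2, chevD4, chevF4, chevE6, chevE7, chevE8])
variable (F : Type*) [Field F]

/-- the subgroup generated by the root elements of the fundamental roots and of their negatives -/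
def fundRootGen : Subgroup (GL D.Idx F) :=
  Subgroup.closure {g | ∃ (i : ℕ) (t : F), i < D.rank ∧
    ((g : Matrix D.Idx D.Idx F) = D.x F (D.simple i) t ∨ (g : Matrix D.Idx D.Idx F) = D.x F (D.neg (D.simple i)) t)}

include hD

theorem xGL_simple_mem_fundRootGen (i : ℕ) (hi : i < D.rank) (t : F) :
    xGL D hD F (D.simple i) t ∈ fundRootGen D F :=
  Subgroup.subset_closure ⟨i, t, hi, Or.inl (coe_xGL D hD F _ _)⟩

theorem xGL_neg_simple_mem_fundRootGen (i : ℕ) (hi : i < D.rank) (t : F) :
    xGL D hD F (D.neg (D.simple i)) t ∈ fundRootGen D F :=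
  Subgroup.subset_closure ⟨i, t, hi, Or.inr (coe_xGL D hD F _ _)⟩

theorem wordGL_mem_fundRootGen (w : List (ℕ × F))
    (hw : ∀ p ∈ w, ∃ i < D.rank, p.1 = D.simple i ∨ p.1 = D.neg (D.simple i)) :
    wordGL D hD F w ∈ fundRootGen D F := by
  unfold wordGL
  apply Subgroup.list_prod_mem
  intro g hg
  rw [List.mem_map] at hg
  obtain ⟨p, hp, rfl⟩ := hg
  obtain ⟨i, hi, h | h⟩ := hw p hp
  · rw [h]; exact xGL_simple_mem_fundRootGen D hD F i hi _
  · rw [h]; exact xGL_neg_simple_mem_fundRootGen D hD F i hi _

omit hD in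
theorem nWord_letters (i : ℕ) (hi : i < D.rank) (t : F) :
    ∀ p ∈ D.nWord (D.simple i) t, ∃ j < D.rank, p.1 = D.simple j ∨ p.1 = D.neg (D.simple j) := by
  intro p hp
  unfold ChevalleyDatum.nWord at hp
  simp only [List.mem_cons, List.not_mem_nil, or_false] at hp
  rcases hp with rfl | rfl | rfl
  · exact ⟨i, hi, Or.inl rfl⟩
  · exact ⟨i, hi, Or.inr rfl⟩
  · exact ⟨i, hi, Or.inl rfl⟩

omit hD in
theorem hWord_letters (i : ℕ) (hi : i < D.rank) (t : F) :
    ∀ p ∈ D.hWord (D.simple i) t, ∃ j < D.rank, p.1 = D.simple j ∨ p.1 = D.neg (D.simple j) := by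
  intro p hp
  unfold ChevalleyDatum.hWord at hp
  rcases List.mem_append.mp hp with h | h
  · exact nWord_letters D F i hi _ p h
  · exact nWord_letters D F i hi _ p h

theorem monomial_le_fundRootGen : D.monomialSubgroup F ≤ fundRootGen D F := by
  rw [monomial_eq_sup_fund D hD F]
  apply sup_le
  · intro g hg
    obtain ⟨c, _, hgm⟩ := diagonalSubgroup_eq_word D hD F g hg
    have : g = wordGL D hD F ((List.range D.rank).flatMap fun i => D.hWord (D.simple i) (c i)) := by
      apply Units.ext
      rw [hgm, coe_wordGL]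
    rw [this]
    apply wordGL_mem_fundRootGen
    intro p hp
    rw [List.mem_flatMap] at hp
    obtain ⟨i, hi, hp⟩ := hp
    exact hWord_letters D F i (List.mem_range.mp hi) _ p hp
  · unfold fundSubgroup
    rw [Subgroup.closure_le]
    rintro g ⟨j, hj, hg⟩
    have : g = wordGL D hD F (D.nWord (D.simple j) 1) := by
      apply Units.ext
      rw [hg, coe_wordGL]; rfl
    rw [this]
    exact wordGL_mem_fundRootGen D hD F _ (nWord_letters D F j hj 1)

/-- the group is generated by the fundamental root elements and their negatives -/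
theorem group_le_fundRootGen : D.group F ≤ fundRootGen D F := by
  have hN := monomial_le_fundRootGen D hD F
  have h1 : ((1 : ℕ) : F) ≠ 0 := by simp
  have hs : ∀ i < D.rank, D.simple i < D.nroots ∧ ∀ t : F, xGL D hD F (D.simple i) t ∈ fundRootGen D F :=
    fun i hi => ⟨(fundFacts_of_mem D hD i hi).hp, xGL_simple_mem_fundRootGen D hD F i hi⟩
  have hD' := hD
  simp only [List.mem_cons, List.not_mem_nil, or_false] at hD'
  rcases hD' with rfl | rfl | rfl | rfl | rfl | rfl | rfl
  · apply group_le_of_orbitAllB _ hD F 1 h1 _ _ ngen2OK_G2 _ hN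
    intro s hs'
    simp only [List.mem_cons, List.not_mem_nil, or_false] at hs'
    rcases hs' with rfl | rfl
    · exact hs 0 (by decide)
    · exact hs 1 (by decide)
  · apply group_le_of_orbitAllB _ hD F 1 h1 _ _ ngen2OK_B2 _ hN
    intro s hs'
    simp only [List.mem_cons, List.not_mem_nil, or_false] at hs'
    rcases hs' with rfl | rfl
    · exact hs 0 (by decide)
    · exact hs 1 (by decide)
  · apply group_le_of_orbitAllB _ hD F 1 h1 _ _ ngenOK_D4_0 _ hN
    intro s hs'
    simp only [List.mem_cons, List.not_mem_nil, or_false] at hs'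
    subst hs'
    exact hs 0 (by decide)
  · apply group_le_of_orbitAllB _ hD F 1 h1 _ _ ngen2OK_F4 _ hN
    intro s hs'
    simp only [List.mem_cons, List.not_mem_nil, or_false] at hs'
    rcases hs' with rfl | rfl
    · exact hs 1 (by decide)
    · exact hs 2 (by decide)
  · apply group_le_of_orbitAllB _ hD F 1 h1 _ _ ngenOK_E6_0 _ hN
    intro s hs'
    simp only [List.mem_cons, List.not_mem_nil, or_false] at hs'
    subst hs'
    exact hs 0 (by decide)
  · apply group_le_of_orbitAllB _ hD F 1 h1 _ _ ngenOK_E7_0 _ hN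
    intro s hs'
    simp only [List.mem_cons, List.not_mem_nil, or_false] at hs'
    subst hs'
    exact hs 0 (by decide)
  · apply group_le_of_orbitAllB _ hD F 1 h1 _ _ ngenOK_E8_0 _ hN
    intro s hs'
    simp only [List.mem_cons, List.not_mem_nil, or_false] at hs'
    subst hs'
    exact hs 0 (by decide)

theorem fundRootGen_le_group : fundRootGen D F ≤ D.group F := by
  unfold fundRootGen
  rw [Subgroup.closure_le]
  rintro g ⟨i, t, hi, h | h⟩
  · have : g = xGL D hD F (D.simple i) t := Units.ext (by rw [h, coe_xGL])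
    rw [this]; exact xGL_mem_group D hD F _ _
  · have : g = xGL D hD F (D.neg (D.simple i)) t := Units.ext (by rw [h, coe_xGL])
    rw [this]; exact xGL_mem_group D hD F _ _

/-- induction principle: a property of group elements holding for fundamental root elements and their negatives
and closed under products and inverses holds for the whole group -/
theorem fundRootGen_induction (P : ↥(D.group F) → Prop)
    (hpos : ∀ (i : ℕ) (t : F), i < D.rank → ∀ g : ↥(D.group F),
      ((g : GL D.Idx F) : Matrix D.Idx D.Idx F) = D.x F (D.simple i) t → P g)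
    (hneg : ∀ (i : ℕ) (t : F), i < D.rank → ∀ g : ↥(D.group F),
      ((g : GL D.Idx F) : Matrix D.Idx D.Idx F) = D.x F (D.neg (D.simple i)) t → P g)
    (hone : P 1) (hmul : ∀ a b, P a → P b → P (a * b)) (hinv : ∀ a, P a → P a⁻¹) (y : ↥(D.group F)) : P y := by
  have hy : (y : GL D.Idx F) ∈ fundRootGen D F := group_le_fundRootGen D hD F y.2
  have key : ∀ z : GL D.Idx F, z ∈ fundRootGen D F → ∀ hz : z ∈ D.group F, P ⟨z, hz⟩ := by
    intro z hz
    unfold fundRootGen at hz
    induction hz using Subgroup.closure_induction with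
    | mem g hg =>
      intro hz
      obtain ⟨i, t, hi, h | h⟩ := hg
      · exact hpos i t hi ⟨g, hz⟩ h
      · exact hneg i t hi ⟨g, hz⟩ h
    | one => intro _; exact hone
    | mul a b ha hb iha ihb =>
      intro _
      have haG : a ∈ D.group F := fundRootGen_le_group D hD F ha
      have hbG : b ∈ D.group F := fundRootGen_le_group D hD F hb
      exact hmul ⟨a, haG⟩ ⟨b, hbG⟩ (iha haG) (ihb hbG)
    | inv a ha iha =>
      intro hz
      have haG : a ∈ D.group F := by simpa using Subgroup.inv_mem _ hz
      exact hinv ⟨a, haG⟩ (iha haG)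
  exact key y.1 hy y.2

end

end Cfsg.Agent.Lib.Helper7
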