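import Cfsg.Agent.Lib.Helper7.ChevGraphTab
import Cfsg.Agent.Lib.Helper7.ChevFundGen

/-! Classification of the diagram symmetries of `D₄` and `E₆`, and the action of graph automorphisms on all root
elements (helper7). -/

set_option autoImplicit false

namespace Cfsg.Agent.Lib.Helper7

open Cfsg Cfsg.Lie Matrix

/-- the value `a` is compatible with the partial assignment `pre` of a diagram symmetry -/
def symCompatB (D : ChevalleyDatum) (pre : List ℕ) (a : ℕ) : Bool :=
  !pre.contains a && ((List.range pre.length).all fun j => D.bonds (pre.getD j 0) a == D.bonds j pre.length)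

/-- every compatible completion of `pre` lies in `good` -/
def allExt (D : ChevalleyDatum) (good : List (List ℕ)) : ℕ → List ℕ → Bool
  | 0, pre => good.contains pre
  | k + 1, pre => (List.range D.rank).all fun a => !(symCompatB D pre a) || allExt D good k (pre ++ [a])

theorem getD_map_range (f : ℕ → ℕ) (n j : ℕ) (hj : j < n) : ((List.range n).map f).getD j 0 = f j := by
  rw [List.getD_eq_getElem?_getD, List.getElem?_map, List.getElem?_range hj]
  rfl

theorem allExt_spec (D : ChevalleyDatum) (good : List (List ℕ)) (f : ℕ → ℕ) (hf : ∀ i < D.rank, f i < D.rank)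
    (hinj : ∀ i < D.rank, ∀ j < D.rank, f i = f j → i = j)
    (hb : ∀ i < D.rank, ∀ j < D.rank, i ≠ j → D.bonds (f i) (f j) = D.bonds i j) :
    ∀ (k n : ℕ), n + k = D.rank → allExt D good k ((List.range n).map f) = true →
      (List.range D.rank).map f ∈ good := by
  intro k
  induction k with
  | zero =>
    intro n hn h
    unfold allExt at h
    rw [List.contains_iff_mem] at h
    have : n = D.rank := by omega
    rw [← this]
    exact h
  | succ k ih =>
    intro n hn h
    unfold allExt at h
    rw [List.all_eq_true] at h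
    have hn' : n < D.rank := by omega
    have h1 := h (f n) (List.mem_range.mpr (hf n hn'))
    have hcomp : symCompatB D ((List.range n).map f) (f n) = true := by
      unfold symCompatB
      rw [Bool.and_eq_true, List.all_eq_true]
      constructor
      · rw [Bool.not_eq_true', ← Bool.not_eq_true, List.contains_iff_mem, List.mem_map]
        rintro ⟨j, hj, hjn⟩
        have hj' : j < n := List.mem_range.mp hj
        have := hinj j (by omega) n hn' hjn
        omega
      · intro j hj
        rw [List.length_map, List.length_range] at hj ⊢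
        have hj' : j < n := List.mem_range.mp hj
        rw [getD_map_range f n j hj', beq_iff_eq]
        exact hb j (by omega) n hn' (by omega)
    rw [hcomp] at h1
    simp only [Bool.not_true, Bool.false_or] at h1
    have e : (List.range n).map f ++ [f n] = (List.range (n + 1)).map f := by
      rw [List.range_succ, List.map_append]; rfl
    rw [e] at h1
    exact ih (n + 1) (by omega) h1

/-- the list of values of a permutation of `Fin n` -/
def permVals {n : ℕ} (π : Equiv.Perm (Fin n)) (i : ℕ) : ℕ := if h : i < n then (π ⟨i, h⟩).val else 0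

theorem permVals_mem_of_allExt (D : ChevalleyDatum) (good : List (List ℕ)) (h : allExt D good D.rank [] = true)
    (π : Equiv.Perm (Fin D.rank)) (hπ : D.IsDiagramSymmetry π) :
    (List.range D.rank).map (permVals π) ∈ good := by
  apply allExt_spec D good (permVals π) ?_ ?_ ?_ D.rank 0 (by omega) (by simpa using h)
  · intro i hi
    unfold permVals
    rw [dif_pos hi]
    exact (π ⟨i, hi⟩).isLt
  · intro i hi j hj hij
    unfold permVals at hij
    rw [dif_pos hi, dif_pos hj] at hij
    have := π.injective (Fin.ext hij)
    exact Fin.mk.inj_iff.mp this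
  · intro i hi j hj hij
    unfold permVals
    rw [dif_pos hi, dif_pos hj]
    exact hπ ⟨i, hi⟩ ⟨j, hj⟩ (fun h => hij (Fin.mk.inj_iff.mp h))

/-- `permRoot` in terms of a list of values -/
def permRootL (D : ChevalleyDatum) (pv : List ℕ) (r : ℕ) : ℕ :=
  ((List.range D.nroots).find? fun s => (List.range D.rank).all fun i =>
      (D.coroot.getD s #[]).getD (pv.getD i 0) 0 == (D.coroot.getD r #[]).getD i 0).getD r

theorem permRoot_eq_permRootL (D : ChevalleyDatum) (π : Equiv.Perm (Fin D.rank)) (pv : List ℕ)
    (h : ∀ i : Fin D.rank, (π i).val = pv.getD i.val 0) (r : ℕ) : D.permRoot π r = permRootL D pv r := by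
  unfold ChevalleyDatum.permRoot permRootL
  congr 2
  funext s
  rw [← List.map_coe_finRange_eq_range, List.all_map]
  congr 1
  funext i
  simp only [Function.comp, h i]

/-- the graph data are those of the diagram symmetry with values `pv` -/
def graphPermB (D : ChevalleyDatum) (pv ρ : List ℕ) : Bool :=
  (List.range D.nroots).all fun r => permRootL D pv r == ρ.getD r 0

section
variable (D : ChevalleyDatum) (hD : D ∈ [chevG2, chevB2, chevD4, chevF4, chevE6, chevE7, chevE8])
variable (F : Type*) [Field F]
include hD

/-- an automorphism acting on the fundamental root elements as a diagram symmetry acts on all root elements as the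
graph automorphism of the certificate -/
theorem graphAut_all_roots (pv pv' ρ ρ' : List ℕ) (ε : List ℤ) (h : graphOKB D pv pv' ρ ρ' ε = true)
    (h' : graphSimpleB D pv ρ ε = true) (h'' : graphPermB D pv ρ = true)
    (π : Equiv.Perm (Fin D.rank)) (hπ : ∀ i : Fin D.rank, (π i).val = pv.getD i.val 0)
    (φ : ↥(D.group F) ≃* ↥(D.group F))
    (hφ : ∀ (g : ↥(D.group F)) (i : Fin D.rank) (t : F),
      (((g : GL D.Idx F) : Matrix D.Idx D.Idx F) = D.x F (D.simple i) t →
        ((φ g : GL D.Idx F) : Matrix D.Idx D.Idx F) = D.x F (D.simple (π i)) t) ∧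
      (((g : GL D.Idx F) : Matrix D.Idx D.Idx F) = D.x F (D.neg (D.simple i)) t →
        ((φ g : GL D.Idx F) : Matrix D.Idx D.Idx F) = D.x F (D.neg (D.simple (π i))) t))
    (r : ℕ) (hr : r < D.nroots) :
    ∃ ε' : F, (ε' = 1 ∨ ε' = -1) ∧ ∀ (g : ↥(D.group F)) (t : F),
      ((g : GL D.Idx F) : Matrix D.Idx D.Idx F) = D.x F r t →
        ((φ g : GL D.Idx F) : Matrix D.Idx D.Idx F) = D.x F (D.permRoot π r) (ε' * t) := by
  obtain ⟨α, hα1, hα2⟩ := exists_graphAut_of_OKB D hD F pv pv' ρ ρ' ε h h'
  have hG := graphFacts_of_graphOKB D pv pv' ρ ρ' ε h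
  have heq : ∀ y : ↥(D.group F), φ y = α y := by
    apply fundRootGen_induction D hD F (fun y => φ y = α y)
    · intro i t hi g hg
      apply Subtype.ext
      apply Units.ext
      rw [(hφ g ⟨i, hi⟩ t).1 hg, (hα2 g i t hi).1 hg, hπ ⟨i, hi⟩]
    · intro i t hi g hg
      apply Subtype.ext
      apply Units.ext
      rw [(hφ g ⟨i, hi⟩ t).2 hg, (hα2 g i t hi).2 hg, hπ ⟨i, hi⟩]
    · simp only [map_one]
    · intro a b ha hb
      simp only [map_mul, ha, hb]
    · intro a ha
      simp only [map_inv, ha]
  refine ⟨((ε.getD r 0 : ℤ) : F), ?_, fun g t hg => ?_⟩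
  · rcases hG.εpm r hr with h1 | h1
    · left; show ((ε.getD r 0 : ℤ) : F) = 1; rw [h1]; simp
    · right; show ((ε.getD r 0 : ℤ) : F) = -1; rw [h1]; simp
  · rw [heq g, hα1 g r t hr hg, permRoot_eq_permRootL D π pv hπ r]
    unfold graphPermB at h''
    rw [List.all_eq_true] at h''
    have := h'' r (List.mem_range.mpr hr)
    rw [beq_iff_eq] at this
    rw [this]

end

end Cfsg.Agent.Lib.Helper7
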