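import Cfsg.Agent.Lib.Helper7.ChevLevi

/-! The expansion of a root on the fundamental roots: with `W = m · C⁻¹` (`C` the Cartan matrix of
the datum) the functionals `coefF D W j` are `m` times the coefficients of a root on the fundamental
roots, so that every linear functional `d = Σ_k λ_k ⟨·, p_k^∨⟩` satisfies
`m · d(r) = Σ_j coefF_j(r) · d(p_j)` (helper7; written for helper25's Borel–Tits proof). -/

set_option autoImplicit false
set_option maxRecDepth 100000

namespace Cfsg.Agent.Lib.Helper7

open Cfsg Cfsg.Lie

/-- table check: `C · W = m · 1` and `W · C = m · 1` for the Cartan matrix `C_{kj} = ⟨p_j, p_k^∨⟩` -/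
def expandOKB (D : ChevalleyDatum) (W : List (List ℤ)) (m : ℤ) : Bool :=
  (List.range D.rank).all fun k => (List.range D.rank).all fun l =>
    (((List.range D.rank).map fun j => D.cartan k (D.simple j) * (W.getD j []).getD l 0).sum ==
      if k = l then m else 0) &&
    (((List.range D.rank).map fun j => (W.getD k []).getD j 0 * D.cartan j (D.simple l)).sum ==
      if k = l then m else 0)

theorem list_range_map_sum {R : Type*} [AddCommMonoid R] (n : ℕ) (f : ℕ → R) :
    ((List.range n).map f).sum = ∑ i ∈ Finset.range n, f i := by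
  induction n with
  | zero => simp
  | succ n ih => rw [List.range_succ, List.map_append, List.sum_append, ih, Finset.sum_range_succ]; simp

theorem linF_eq_sum (D : ChevalleyDatum) (w : List ℤ) (r : ℕ) :
    linF D w r = ∑ k ∈ Finset.range D.rank, w.getD k 0 * D.cartan k r := by
  unfold linF
  rw [list_range_map_sum]

theorem coefF_eq_sum (D : ChevalleyDatum) (W : List (List ℤ)) (j r : ℕ) :
    coefF D W j r = ∑ l ∈ Finset.range D.rank, (W.getD j []).getD l 0 * D.cartan l r :=
  linF_eq_sum D _ r

theorem expandOKB_left (D : ChevalleyDatum) (W : List (List ℤ)) (m : ℤ) (h : expandOKB D W m = true)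
    (k l : ℕ) (hk : k < D.rank) (hl : l < D.rank) :
    ∑ j ∈ Finset.range D.rank, D.cartan k (D.simple j) * (W.getD j []).getD l 0 =
      if k = l then m else 0 := by
  unfold expandOKB at h
  simp only [List.all_eq_true, List.mem_range, Bool.and_eq_true, beq_iff_eq] at h
  rw [← list_range_map_sum]
  exact (h k hk l hl).1

theorem expandOKB_right (D : ChevalleyDatum) (W : List (List ℤ)) (m : ℤ) (h : expandOKB D W m = true)
    (k l : ℕ) (hk : k < D.rank) (hl : l < D.rank) :
    ∑ j ∈ Finset.range D.rank, (W.getD k []).getD j 0 * D.cartan j (D.simple l) =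
      if k = l then m else 0 := by
  unfold expandOKB at h
  simp only [List.all_eq_true, List.mem_range, Bool.and_eq_true, beq_iff_eq] at h
  rw [← list_range_map_sum]
  exact (h k hk l hl).2

/-- `coefF_j(p_i) = m · δ_{ij}` -/
theorem coefF_simple (D : ChevalleyDatum) (W : List (List ℤ)) (m : ℤ) (h : expandOKB D W m = true)
    (j i : ℕ) (hj : j < D.rank) (hi : i < D.rank) :
    coefF D W j (D.simple i) = if j = i then m else 0 := by
  rw [coefF_eq_sum]
  exact expandOKB_right D W m h j i hj hi

/-- the Cartan integers of a root are those of its expansion on the fundamental roots: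
`m · ⟨r, p_k^∨⟩ = Σ_j coefF_j(r) ⟨p_j, p_k^∨⟩` (any `r`) -/
theorem cartan_expand (D : ChevalleyDatum) (W : List (List ℤ)) (m : ℤ) (h : expandOKB D W m = true)
    (k : ℕ) (hk : k < D.rank) (r : ℕ) :
    m * D.cartan k r = ∑ j ∈ Finset.range D.rank, coefF D W j r * D.cartan k (D.simple j) := by
  have h1 : ∀ j ∈ Finset.range D.rank, coefF D W j r * D.cartan k (D.simple j) =
      ∑ l ∈ Finset.range D.rank, (D.cartan k (D.simple j) * (W.getD j []).getD l 0) * D.cartan l r := by
    intro j _
    rw [coefF_eq_sum, Finset.sum_mul]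
    apply Finset.sum_congr rfl
    intro l _
    ring
  rw [Finset.sum_congr rfl h1, Finset.sum_comm]
  have h2 : ∀ l ∈ Finset.range D.rank,
      ∑ j ∈ Finset.range D.rank, (D.cartan k (D.simple j) * (W.getD j []).getD l 0) * D.cartan l r =
        (if k = l then m else 0) * D.cartan l r := by
    intro l hl
    rw [← Finset.sum_mul, expandOKB_left D W m h k l hk (Finset.mem_range.mp hl)]
  rw [Finset.sum_congr rfl h2]
  simp only [ite_mul, zero_mul]
  rw [Finset.sum_ite_eq, if_pos (Finset.mem_range.mpr hk)]

/-- every functional `d = Σ_k λ_k ⟨·, p_k^∨⟩` with coefficients in a commutative ring is determined by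
its values on the fundamental roots: `m · d(r) = Σ_j coefF_j(r) · d(p_j)` -/
theorem linear_expand {R : Type*} [CommRing R] (D : ChevalleyDatum) (W : List (List ℤ)) (m : ℤ)
    (h : expandOKB D W m = true) (lam : ℕ → R) (r : ℕ) :
    (m : R) * ∑ k ∈ Finset.range D.rank, lam k * (D.cartan k r : R) =
      ∑ j ∈ Finset.range D.rank, (coefF D W j r : R) *
        ∑ k ∈ Finset.range D.rank, lam k * (D.cartan k (D.simple j) : R) := by
  rw [Finset.mul_sum]
  have h1 : ∀ k ∈ Finset.range D.rank, (m : R) * (lam k * (D.cartan k r : R)) =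
      ∑ j ∈ Finset.range D.rank, (coefF D W j r : R) * (lam k * (D.cartan k (D.simple j) : R)) := by
    intro k hk
    have := cartan_expand D W m h k (Finset.mem_range.mp hk) r
    have h2 : (m : R) * (D.cartan k r : R) =
        ∑ j ∈ Finset.range D.rank, (coefF D W j r : R) * (D.cartan k (D.simple j) : R) := by
      exact_mod_cast congrArg (Int.cast : ℤ → R) this
    calc (m : R) * (lam k * (D.cartan k r : R)) = lam k * ((m : R) * (D.cartan k r : R)) := by ring
      _ = _ := by
        rw [h2, Finset.mul_sum]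
        apply Finset.sum_congr rfl
        intro j _
        ring
  rw [Finset.sum_congr rfl h1, Finset.sum_comm]
  apply Finset.sum_congr rfl
  intro j _
  rw [Finset.mul_sum]

/-- a functional which is `≥ 0` on the fundamental roots is `≥ 0` on all positive roots -/
theorem linear_nonneg_of_dominant {R : Type*} [CommRing R] [LinearOrder R] [IsStrictOrderedRing R]
    (D : ChevalleyDatum) (W : List (List ℤ)) (m : ℤ) (hm : 0 < m) (hW : coefOKB D W = true)
    (h : expandOKB D W m = true) (lam : ℕ → R)
    (hdom : ∀ j < D.rank, 0 ≤ ∑ k ∈ Finset.range D.rank, lam k * (D.cartan k (D.simple j) : R))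
    (r : ℕ) (hr : D.IsPosRoot r) :
    0 ≤ ∑ k ∈ Finset.range D.rank, lam k * (D.cartan k r : R) := by
  have h1 := linear_expand D W m h lam r
  have h2 : 0 ≤ ∑ j ∈ Finset.range D.rank, (coefF D W j r : R) *
      ∑ k ∈ Finset.range D.rank, lam k * (D.cartan k (D.simple j) : R) := by
    apply Finset.sum_nonneg
    intro j hj
    have hj' := Finset.mem_range.mp hj
    apply mul_nonneg _ (hdom j hj')
    exact_mod_cast coef_nonneg_of_pos D W hW r hr j hj'
  rw [← h1] at h2
  have hm' : (0 : R) < (m : R) := by exact_mod_cast hm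
  exact nonneg_of_mul_nonneg_right h2 hm'

/-- a functional which is `≥ 0` on the fundamental roots and `> 0` on `p_i` is `> 0` on every positive
root involving `p_i` -/
theorem linear_pos_of_dominant {R : Type*} [CommRing R] [LinearOrder R] [IsStrictOrderedRing R]
    (D : ChevalleyDatum) (W : List (List ℤ)) (m : ℤ) (hm : 0 < m) (hW : coefOKB D W = true)
    (h : expandOKB D W m = true) (lam : ℕ → R)
    (hdom : ∀ j < D.rank, 0 ≤ ∑ k ∈ Finset.range D.rank, lam k * (D.cartan k (D.simple j) : R))
    (r : ℕ) (hr : D.IsPosRoot r) (i : ℕ) (hi : i < D.rank) (hci : 0 < coefF D W i r)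
    (hpi : 0 < ∑ k ∈ Finset.range D.rank, lam k * (D.cartan k (D.simple i) : R)) :
    0 < ∑ k ∈ Finset.range D.rank, lam k * (D.cartan k r : R) := by
  have h1 := linear_expand D W m h lam r
  have h2 : 0 < ∑ j ∈ Finset.range D.rank, (coefF D W j r : R) *
      ∑ k ∈ Finset.range D.rank, lam k * (D.cartan k (D.simple j) : R) := by
    apply Finset.sum_pos'
    · intro j hj
      have hj' := Finset.mem_range.mp hj
      apply mul_nonneg _ (hdom j hj')
      exact_mod_cast coef_nonneg_of_pos D W hW r hr j hj'
    · refine ⟨i, Finset.mem_range.mpr hi, mul_pos ?_ hpi⟩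
      exact_mod_cast hci
  rw [← h1] at h2
  have hm' : (0 : R) < (m : R) := by exact_mod_cast hm
  exact (mul_pos_iff_of_pos_left hm').mp h2

theorem expandOKB_G2 : expandOKB chevG2 coefW_G2 1 = true := by decide +kernel
theorem expandOKB_B2 : expandOKB chevB2 coefW_B2 2 = true := by decide +kernel
theorem expandOKB_D4 : expandOKB chevD4 coefW_D4 2 = true := by decide +kernel
theorem expandOKB_F4 : expandOKB chevF4 coefW_F4 1 = true := by decide +kernel
theorem expandOKB_E6 : expandOKB chevE6 coefW_E6 3 = true := by decide +kernel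
theorem expandOKB_E7 : expandOKB chevE7 coefW_E7 2 = true := by decide +kernel
theorem expandOKB_E8 : expandOKB chevE8 coefW_E8 1 = true := by decide +kernel

/-- expansion data exist for the seven types -/
theorem exists_expandW (D : ChevalleyDatum)
    (hD : D ∈ [chevG2, chevB2, chevD4, chevF4, chevE6, chevE7, chevE8]) :
    ∃ (W : List (List ℤ)) (m : ℤ), 0 < m ∧ coefOKB D W = true ∧ expandOKB D W m = true :=
  mem_seven_cases
    (P := fun D => ∃ (W : List (List ℤ)) (m : ℤ), 0 < m ∧ coefOKB D W = true ∧ expandOKB D W m = true)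
    ⟨_, 1, by norm_num, coefOKB_G2, expandOKB_G2⟩ ⟨_, 2, by norm_num, coefOKB_B2, expandOKB_B2⟩
    ⟨_, 2, by norm_num, coefOKB_D4, expandOKB_D4⟩ ⟨_, 1, by norm_num, coefOKB_F4, expandOKB_F4⟩
    ⟨_, 3, by norm_num, coefOKB_E6, expandOKB_E6⟩ ⟨_, 2, by norm_num, coefOKB_E7, expandOKB_E7⟩
    ⟨_, 1, by norm_num, coefOKB_E8, expandOKB_E8⟩ D hD

end Cfsg.Agent.Lib.Helper7
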