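import Cfsg.Agent.Lib.Helper7.ChevFund
set_option autoImplicit false
namespace Cfsg.Agent.Lib.Helper7
open Cfsg Cfsg.Lie
/-- `fundOKB` for all fundamental roots -/
def fundAllB (D : ChevalleyDatum) : Bool := (List.range D.rank).all (fun i => fundOKB D i)
set_option maxRecDepth 1000000 in
theorem fundAllB_G2 : fundAllB chevG2 = true := by decide +kernel
set_option maxRecDepth 1000000 in
theorem fundAllB_B2 : fundAllB chevB2 = true := by decide +kernel
set_option maxRecDepth 1000000 in
theorem fundAllB_D4 : fundAllB chevD4 = true := by decide +kernel
set_option maxRecDepth 1000000 in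
theorem fundAllB_F4 : fundAllB chevF4 = true := by decide +kernel
end Cfsg.Agent.Lib.Helper7
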