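import Cfsg.Agent.Lib.Helper7.ChevUp
import Cfsg.Agent.Lib.Helper7.ChevTwist2
import Cfsg.Agent.Lib.Helper7.ChevBN

/-! Chevalley groups over the field with two elements are generated by a root element and a Weyl element, given a
kernel-checked certificate: the orbit of the root under the Weyl element, closed under sums, is the root system
(helper7). -/

set_option autoImplicit false

namespace Cfsg.Agent.Lib.Helper7.Gen2

open Cfsg Cfsg.Lie Matrix Cfsg.Agent.Lib.Helper7

/-- one step `(r, s, t)` of a generation certificate: `r = w s` (if `t` is the sentinel `D.nroots`) or `r = s + t` -/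
def stepOK (D : ChevalleyDatum) (L : List ℕ) (known : List ℕ) (st : ℕ × ℕ × ℕ) : Bool :=
  known.contains st.2.1 && decide (st.2.1 < D.nroots) &&
    (if st.2.2 = D.nroots then decide (reflWord D L st.2.1 = st.1)
     else known.contains st.2.2 && decide (st.2.2 < D.nroots) && decide (st.2.2 ≠ st.2.1) &&
       decide (st.2.2 ≠ D.neg st.2.1) &&
       (match D.commTerms st.2.1 st.2.2 with
        | [c] => decide (c.1 = st.1) && (decide (c.2.1 = 1) || decide (c.2.1 = -1))
        | _ => false))

/-- a generation certificate: a list of steps after which all roots are known -/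
def certOK (D : ChevalleyDatum) (L : List ℕ) : List ℕ → List (ℕ × ℕ × ℕ) → Bool
  | known, [] => (List.range D.nroots).all fun r => known.contains r
  | known, st :: rest => stepOK D L known st && certOK D L (st.1 :: known) rest

section
variable (D : ChevalleyDatum) (hD : D ∈ [chevG2, chevB2, chevD4, chevF4, chevE6, chevE7, chevE8])
variable (F : Type*) [Field F]
include hD

theorem wordGL_single (r : ℕ) (t : F) : wordGL D hD F [(r, t)] = xGL D hD F r t := by
  unfold wordGL
  simp

theorem step_mem (h2 : ∀ x : F, x = 0 ∨ x = 1) (L : List ℕ) (hL : ∀ i ∈ L, i < D.rank)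
    (T : Subgroup (GL D.Idx F)) (hn : nWordGL D hD F L ∈ T) (known : List ℕ)
    (hk : ∀ r ∈ known, xGL D hD F r 1 ∈ T) (st : ℕ × ℕ × ℕ) (hst : stepOK D L known st = true) :
    xGL D hD F st.1 1 ∈ T := by
  unfold stepOK at hst
  rw [Bool.and_eq_true, Bool.and_eq_true] at hst
  obtain ⟨⟨h1, h1lt⟩, h3⟩ := hst
  have hs : xGL D hD F st.2.1 1 ∈ T := hk _ (List.contains_iff_mem.mp h1)
  have hslt : st.2.1 < D.nroots := of_decide_eq_true h1lt
  split_ifs at h3 with hsent
  · have hr : reflWord D L st.2.1 = st.1 := of_decide_eq_true h3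
    obtain ⟨-, c, hc, hconj⟩ := actsAs_nWordGL D hD F L hL st.2.1 hslt
    have hc1 : c = 1 := (h2 c).resolve_left hc
    have := hconj 1
    rw [hc1, mul_one, hr] at this
    rw [← this]
    exact T.mul_mem (T.mul_mem hn hs) (T.inv_mem hn)
  · rw [Bool.and_eq_true, Bool.and_eq_true, Bool.and_eq_true, Bool.and_eq_true] at h3
    obtain ⟨⟨⟨⟨h4, h4lt⟩, hne⟩, hnn⟩, hm⟩ := h3
    have ht : xGL D hD F st.2.2 1 ∈ T := hk _ (List.contains_iff_mem.mp h4)
    have htlt : st.2.2 < D.nroots := of_decide_eq_true h4lt
    have hne' : st.2.2 ≠ st.2.1 := of_decide_eq_true hne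
    have hnn' : st.2.2 ≠ D.neg st.2.1 := of_decide_eq_true hnn
    have hf := comm_formula_GL D hD F st.2.1 st.2.2 hslt htlt hne' hnn' 1 1
    have hw : wordGL D hD F (D.commWord F st.2.1 st.2.2 1 1) ∈ T := by
      have : wordGL D hD F (D.commWord F st.2.1 st.2.2 1 1) =
          (xGL D hD F st.2.1 1 * xGL D hD F st.2.2 1)⁻¹ * (xGL D hD F st.2.2 1 * xGL D hD F st.2.1 1) := by
        rw [hf]; group
      rw [this]
      exact T.mul_mem (T.inv_mem (T.mul_mem hs ht)) (T.mul_mem ht hs)
    unfold ChevalleyDatum.commWord at hw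
    split at hm
    · rename_i c hct
      rw [hct] at hw
      rw [Bool.and_eq_true] at hm
      obtain ⟨hc1, hc2⟩ := hm
      have hc1' : c.1 = st.1 := of_decide_eq_true hc1
      rw [List.map_cons, List.map_nil, wordGL_single, hc1'] at hw
      have hv : ((c.2.1 : ℤ) : F) * (-1) ^ c.2.2.1 * 1 ^ c.2.2.2 ≠ 0 := by
        have h10 : (1 : F) ≠ 0 := one_ne_zero
        have hcc : ((c.2.1 : ℤ) : F) ≠ 0 := by
          rw [Bool.or_eq_true] at hc2
          rcases hc2 with hc2 | hc2
          · rw [of_decide_eq_true hc2]; simpa using h10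
          · rw [of_decide_eq_true hc2]; simpa using h10
        refine mul_ne_zero (mul_ne_zero hcc (pow_ne_zero _ (neg_ne_zero.mpr h10))) (pow_ne_zero _ h10)
      rw [(h2 _).resolve_left hv] at hw
      exact hw
    · exact absurd hm (by simp)

theorem cert_mem (h2 : ∀ x : F, x = 0 ∨ x = 1) (L : List ℕ) (hL : ∀ i ∈ L, i < D.rank)
    (T : Subgroup (GL D.Idx F)) (hn : nWordGL D hD F L ∈ T) :
    ∀ (cert : List (ℕ × ℕ × ℕ)) (known : List ℕ), (∀ r ∈ known, xGL D hD F r 1 ∈ T) →
      certOK D L known cert = true → ∀ r < D.nroots, xGL D hD F r 1 ∈ T := by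
  intro cert
  induction cert with
  | nil =>
    intro known hk hc r hr
    unfold certOK at hc
    rw [List.all_eq_true] at hc
    exact hk r (List.contains_iff_mem.mp (hc r (List.mem_range.mpr hr)))
  | cons st rest ih =>
    intro known hk hc
    unfold certOK at hc
    rw [Bool.and_eq_true] at hc
    apply ih (st.1 :: known) _ hc.2
    intro r hr
    rcases List.mem_cons.mp hr with rfl | hr
    · exact step_mem D hD F h2 L hL T hn known hk st hc.1
    · exact hk r hr

/-- over the field with two elements: if a subgroup contains all `x_r(1)`, it contains the Chevalley group -/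
theorem group_le_of_one (h2 : ∀ x : F, x = 0 ∨ x = 1) (T : Subgroup (GL D.Idx F))
    (h : ∀ r < D.nroots, xGL D hD F r 1 ∈ T) : D.group F ≤ T := by
  unfold ChevalleyDatum.group
  rw [Subgroup.closure_le]
  rintro g ⟨r, t, hg⟩
  rcases h2 t with rfl | rfl
  · have : g = 1 := by
      apply Units.ext
      rw [hg, xMat_zero]; rfl
    rw [this]; exact T.one_mem
  · have : g = xGL D hD F r.val 1 := by
      apply Units.ext
      rw [hg, coe_xGL, x_eq_xMat D F r.val r.isLt]
    rw [this]
    exact h r.val r.isLt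

/-- the main theorem: generation of `D.group F`, `|F| = 2`, by `x_α(1)` and `n_L` from a certificate -/
theorem two_generated_of_cert (h2 : ∀ x : F, x = 0 ∨ x = 1) (L : List ℕ) (hL : ∀ i ∈ L, i < D.rank)
    (α : ℕ) (cert : List (ℕ × ℕ × ℕ)) (hc : certOK D L [α] cert = true) :
    ∃ a b : ↥(D.group F), Subgroup.closure ({a, b} : Set ↥(D.group F)) = ⊤ := by
  have ha : xGL D hD F α 1 ∈ D.group F := xGL_mem_group D hD F α 1
  have hb : nWordGL D hD F L ∈ D.group F :=
    monomial_le_group D hD F (nWordGL_mem_monomial D hD F L hL)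
  refine ⟨⟨_, ha⟩, ⟨_, hb⟩, ?_⟩
  apply Subgroup.map_injective (D.group F).subtype_injective
  rw [MonoidHom.map_closure, Set.image_pair, ← MonoidHom.range_eq_map, Subgroup.range_subtype]
  apply le_antisymm
  · rw [Subgroup.closure_le]
    intro g hg
    rcases hg with rfl | rfl
    · exact ha
    · exact hb
  · set T := Subgroup.closure ({(D.group F).subtype ⟨_, ha⟩, (D.group F).subtype ⟨_, hb⟩} : Set (GL D.Idx F))
    have haT : xGL D hD F α 1 ∈ T := Subgroup.subset_closure (Set.mem_insert _ _)
    have hbT : nWordGL D hD F L ∈ T := Subgroup.subset_closure (Set.mem_insert_of_mem _ rfl)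
    apply group_le_of_one D hD F h2 T
    apply cert_mem D hD F h2 L hL T hbT cert [α] _ hc
    intro r hr
    rw [List.mem_singleton] at hr
    rw [hr]; exact haT

end

end Cfsg.Agent.Lib.Helper7.Gen2
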