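import Cfsg.Agent.Lib.Helper7.ChevGen2W

/-! `D4(2)` is generated by two elements (helper7). -/

set_option autoImplicit false
set_option maxRecDepth 100000

namespace Cfsg.Agent.Lib.Helper7.Gen2

open Cfsg Cfsg.Lie

/-- the derivation for `D4`: from the word `[2, 16]` and the Coxeter word one gets the root elements `[5, 12]` -/
def derivD4 : List (ℕ × List ℕ × List (ℕ × Bool)) := [
  (0, [5], [(0, false), (0, false)]),
  (1, [9], [(1, false)]),
  (1, [1], [(2, false)]),
  (1, [18], [(3, false)]),
  (1, [14], [(4, false)]),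
  (1, [22], [(5, false)]),
  (0, [12], [(0, false), (6, false), (0, true), (6, true)])]

theorem derivD4_ok : derivOK chevD4 [0, 1, 2, 3] [5, 12] [[2, 16]] derivD4 = true := by decide +kernel

/-- the sum-closure certificate for `D4` -/
def certD4 : List (ℕ × ℕ × ℕ) := [
  (9, 5, 24), (3, 12, 24), (4, 5, 9), (1, 9, 24), (7, 3, 24), (0, 4, 24), (2, 5, 7), (18, 1, 24),
  (11, 7, 24), (6, 0, 24), (8, 2, 24), (14, 18, 24), (20, 11, 24), (19, 6, 24), (10, 8, 24), (15, 5, 20),
  (22, 14, 24), (16, 20, 24), (23, 19, 24), (21, 10, 24), (13, 15, 24), (17, 5, 22)]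

theorem certD4_ok : certOK chevD4 [0, 1, 2, 3] [5, 12] certD4 = true := by decide +kernel

/-- the Chevalley group of type `D4` over the field with two elements is generated by two elements -/
theorem gen_D4_two {F : Type*} [Field F] [Finite F] (h2 : ∀ x : F, x = 0 ∨ x = 1) :
    ∃ a b : ↥(chevD4.group F), Subgroup.closure ({a, b} : Set ↥(chevD4.group F)) = ⊤ :=
  two_generated_of_deriv chevD4 (by simp) F h2 [0, 1, 2, 3] (by decide) [2, 16] [5, 12] derivD4 certD4 derivD4_ok certD4_ok

end Cfsg.Agent.Lib.Helper7.Gen2
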