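import Cfsg.Agent.Lib.Helper7.ChevGen2

/-! `E6(2)` is generated by two elements (helper7). -/

set_option autoImplicit false
set_option maxRecDepth 100000

namespace Cfsg.Agent.Lib.Helper7.Gen2

open Cfsg Cfsg.Lie

/-- the generation certificate for `E6`: the root `56` and the Coxeter word -/
def certE6 : List (ℕ × ℕ × ℕ) := [
  (42, 56, 72), (57, 56, 42), (47, 42, 72), (50, 57, 72), (61, 56, 50), (59, 47, 72), (64, 50, 72), (67, 61, 72),
  (52, 59, 72), (69, 64, 72), (71, 67, 72), (63, 56, 52), (39, 52, 72), (54, 69, 72), (70, 71, 72), (43, 63, 72),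
  (65, 56, 54), (58, 56, 43), (68, 42, 65), (37, 39, 72), (40, 54, 72), (55, 70, 72), (48, 43, 72), (44, 65, 72),
  (51, 58, 72), (53, 68, 72), (66, 56, 55), (62, 56, 51), (36, 37, 72), (38, 40, 72), (41, 55, 72), (60, 48, 72),
  (49, 44, 72), (45, 66, 72), (8, 36, 72), (9, 38, 72), (10, 41, 72), (15, 60, 72), (25, 49, 72), (14, 45, 72),
  (19, 56, 8), (20, 56, 9), (21, 56, 10), (29, 56, 14), (22, 42, 19), (23, 42, 20), (24, 42, 21), (33, 47, 22),
  (34, 47, 23), (35, 37, 33), (28, 8, 72), (3, 9, 72), (4, 10, 72), (13, 25, 72), (32, 19, 72), (6, 20, 72),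
  (7, 21, 72), (46, 22, 72), (11, 23, 72), (12, 24, 72), (17, 56, 6), (18, 56, 7), (26, 56, 11), (27, 56, 12),
  (30, 42, 26), (31, 42, 27), (0, 8, 18), (2, 8, 27), (5, 8, 31), (16, 19, 31), (1, 28, 5)]

theorem certE6_ok : certOK chevE6 [0, 1, 2, 3, 4, 5] [56] certE6 = true := by decide +kernel

/-- the Chevalley group of type `E6` over the field with two elements is generated by two elements -/
theorem gen_E6_two {F : Type*} [Field F] [Finite F] (h2 : ∀ x : F, x = 0 ∨ x = 1) :
    ∃ a b : ↥(chevE6.group F), Subgroup.closure ({a, b} : Set ↥(chevE6.group F)) = ⊤ :=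
  two_generated_of_cert chevE6 (by simp) F h2 [0, 1, 2, 3, 4, 5] (by decide) 56 certE6 certE6_ok

end Cfsg.Agent.Lib.Helper7.Gen2
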