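import Cfsg.Agent.Lib.Helper7.ChevGen2

/-! `E7(2)` is generated by two elements (helper7). -/

set_option autoImplicit false
set_option maxRecDepth 100000

namespace Cfsg.Agent.Lib.Helper7.Gen2

open Cfsg Cfsg.Lie

/-- the generation certificate for `E7`: the root `78` and the Coxeter word -/
def certE7 : List (ℕ × ℕ × ℕ) := [
  (95, 78, 126), (99, 78, 95), (84, 95, 126), (109, 99, 126), (104, 84, 126), (119, 109, 126), (113, 104, 126), (125, 119, 126),
  (88, 113, 126), (124, 125, 126), (107, 88, 126), (123, 124, 126), (76, 107, 126), (118, 123, 126), (85, 78, 76), (122, 78, 118),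
  (110, 95, 85), (82, 76, 126), (92, 118, 126), (105, 85, 126), (117, 122, 126), (120, 110, 126), (121, 78, 117), (47, 82, 126),
  (72, 92, 126), (75, 105, 126), (91, 117, 126), (115, 120, 126), (116, 121, 126), (30, 47, 126), (26, 72, 126), (81, 75, 126),
  (71, 91, 126), (90, 116, 126), (41, 30, 126), (16, 26, 126), (98, 81, 126), (68, 71, 126), (108, 90, 126), (50, 78, 41),
  (102, 78, 98), (64, 76, 50), (114, 76, 102), (21, 41, 126), (6, 16, 126), (32, 98, 126), (25, 68, 126), (77, 108, 126),
  (44, 50, 126), (74, 102, 126), (63, 64, 126), (89, 114, 126), (10, 78, 6), (29, 78, 25), (86, 78, 77), (54, 78, 44),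
  (83, 78, 74), (35, 95, 10), (59, 95, 29), (111, 95, 86), (22, 76, 10), (73, 76, 54), (45, 76, 35), (55, 85, 35),
  (65, 82, 45), (19, 21, 59), (12, 21, 126), (0, 6, 126), (52, 32, 126), (15, 25, 126), (31, 77, 126), (27, 44, 126),
  (80, 74, 126), (23, 63, 126), (70, 89, 126), (3, 10, 126), (40, 29, 126), (69, 86, 126), (57, 54, 126), (103, 83, 126),
  (17, 35, 126), (61, 59, 126), (87, 111, 126), (13, 22, 126), (79, 73, 126), (28, 45, 126), (58, 55, 126), (24, 65, 126),
  (11, 19, 126), (7, 78, 3), (49, 78, 40), (18, 76, 7), (37, 12, 126), (1, 0, 126), (46, 52, 126), (5, 15, 126),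
  (42, 31, 126), (93, 27, 126), (97, 80, 126), (51, 23, 126), (67, 70, 126), (8, 3, 126), (20, 40, 126), (66, 69, 126),
  (100, 57, 126), (112, 103, 126), (48, 17, 126), (62, 61, 126), (106, 87, 126), (4, 13, 126), (96, 79, 126), (39, 28, 126),
  (60, 58, 126), (14, 24, 126), (36, 11, 126), (33, 7, 126), (43, 49, 126), (56, 78, 46), (9, 78, 5), (101, 78, 97),
  (53, 78, 43), (94, 95, 56), (34, 95, 9), (38, 41, 56), (2, 21, 34)]

theorem certE7_ok : certOK chevE7 [0, 1, 2, 3, 4, 5, 6] [78] certE7 = true := by decide +kernel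

/-- the Chevalley group of type `E7` over the field with two elements is generated by two elements -/
theorem gen_E7_two {F : Type*} [Field F] [Finite F] (h2 : ∀ x : F, x = 0 ∨ x = 1) :
    ∃ a b : ↥(chevE7.group F), Subgroup.closure ({a, b} : Set ↥(chevE7.group F)) = ⊤ :=
  two_generated_of_cert chevE7 (by simp) F h2 [0, 1, 2, 3, 4, 5, 6] (by decide) 78 certE7 certE7_ok

end Cfsg.Agent.Lib.Helper7.Gen2
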