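import Cfsg.Agent.Lib.Helper7.ChevGen2W

/-! `F4(2)` is generated by two elements (helper7). -/

set_option autoImplicit false
set_option maxRecDepth 100000

namespace Cfsg.Agent.Lib.Helper7.Gen2

open Cfsg Cfsg.Lie

/-- the derivation for `F4`: from the word `[23, 34]` and the Coxeter word one gets the root elements `[41, 40]` -/
def derivF4 : List (ℕ × List ℕ × List (ℕ × Bool)) := [
  (1, [42, 37], [(0, false)]),
  (0, [41], [(0, false), (1, false), (0, true), (1, true)]),
  (1, [45], [(2, false)]),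
  (1, [46], [(3, false)]),
  (1, [47], [(4, false)]),
  (1, [32], [(5, false)]),
  (0, [40, 45], [(0, false), (6, false), (0, true), (6, true)]),
  (2, [40], [(7, false), (3, false)])]

theorem derivF4_ok : derivOK chevF4 [0, 1, 2, 3] [41, 40] [[23, 34]] derivF4 = true := by decide +kernel

/-- the sum-closure certificate for `F4` -/
def certF4 : List (ℕ × ℕ × ℕ) := [
  (45, 41, 48), (39, 40, 48), (46, 45, 48), (29, 39, 48), (47, 46, 48), (13, 29, 48), (32, 47, 48), (10, 13, 48),
  (26, 32, 48), (3, 10, 48), (43, 41, 26), (14, 40, 3), (6, 26, 48), (7, 3, 48), (31, 43, 48), (20, 14, 48),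
  (2, 6, 48), (8, 7, 48), (25, 31, 48), (12, 20, 48), (16, 41, 2), (27, 40, 8), (1, 2, 48), (18, 8, 48),
  (24, 25, 48), (9, 12, 48), (22, 16, 48), (35, 27, 48), (15, 41, 1), (42, 41, 24), (37, 40, 18), (28, 40, 9),
  (17, 26, 15), (11, 3, 37), (0, 1, 48), (34, 18, 48), (5, 24, 48), (19, 9, 48), (23, 22, 48), (38, 35, 48),
  (21, 15, 48), (30, 42, 48), (44, 37, 48), (36, 28, 48), (4, 17, 48), (33, 11, 48)]

theorem certF4_ok : certOK chevF4 [0, 1, 2, 3] [41, 40] certF4 = true := by decide +kernel

/-- the Chevalley group of type `F4` over the field with two elements is generated by two elements -/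
theorem gen_F4_two {F : Type*} [Field F] [Finite F] (h2 : ∀ x : F, x = 0 ∨ x = 1) :
    ∃ a b : ↥(chevF4.group F), Subgroup.closure ({a, b} : Set ↥(chevF4.group F)) = ⊤ :=
  two_generated_of_deriv chevF4 (by simp) F h2 [0, 1, 2, 3] (by decide) [23, 34] [41, 40] derivF4 certF4 derivF4_ok certF4_ok

end Cfsg.Agent.Lib.Helper7.Gen2
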