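import Cfsg.Agent.Lib.Helper7.ChevGen2
import Cfsg.Agent.Lib.Helper7.MvVec

/-! Chevalley groups over the field with two elements: generation by a word of root elements and a Weyl element,
from a kernel-checked derivation whose steps are conjugations by the Weyl element and identities between words
of root elements (helper7). -/

set_option autoImplicit false

namespace Cfsg.Agent.Lib.Helper7.Gen2

open Cfsg Cfsg.Lie Matrix Cfsg.Agent.Lib.Helper7

/-- the word of root elements `x_r(1)` for a list of roots -/
def oneW (F : Type*) [Field F] (w : List ℕ) : List (ℕ × F) := w.map fun r => (r, 1)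

/-- the same word for the polynomial checker -/
def polyW (w : List ℕ) : List (ℕ × List (List ℕ × ℤ)) := w.map fun r => (r, [([], 1)])

/-- a part of a relation: a known word, possibly reversed -/
def partWord (known : List (List ℕ)) (p : ℕ × Bool) : List ℕ :=
  if p.2 then (known.getD p.1 []).reverse else known.getD p.1 []

/-- one step `(kind, new, parts)` of a derivation: kind `0` is an identity between words, kind `1` the
conjugation by the Weyl element, kind `2` the removal of a known final segment -/
def dstepOK (D : ChevalleyDatum) (L : List ℕ) (known : List (List ℕ))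
    (st : ℕ × List ℕ × List (ℕ × Bool)) : Bool :=
  if st.1 = 1 then
    match st.2.2 with
    | [p] => ((known.getD p.1 []).all fun r => decide (r < D.nroots)) &&
        decide (st.2.1 = (known.getD p.1 []).map (reflWord D L))
    | _ => false
  else if st.1 = 2 then
    match st.2.2 with
    | [p, q] => decide (known.getD p.1 [] = st.2.1 ++ known.getD q.1 [])
    | _ => false
  else MV.wordEqChk D 2 (polyW st.2.1) (polyW (st.2.2.flatMap (partWord known)))

/-- a derivation: after the steps the root elements `x_r(1)`, `r ∈ singles`, are known -/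
def derivOK (D : ChevalleyDatum) (L : List ℕ) (singles : List ℕ) :
    List (List ℕ) → List (ℕ × List ℕ × List (ℕ × Bool)) → Bool
  | known, [] => singles.all fun r => known.contains [r]
  | known, st :: rest => dstepOK D L known st && derivOK D L singles (known ++ [st.2.1]) rest

section
variable (D : ChevalleyDatum) (hD : D ∈ [chevG2, chevB2, chevD4, chevF4, chevE6, chevE7, chevE8])
variable (F : Type*) [Field F]
include hD

theorem evalW_polyW (ρ : ℕ → F) (w : List ℕ) : MV.evalW ρ (polyW w) = oneW F w := by
  unfold MV.evalW polyW oneW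
  rw [List.map_map]
  apply List.map_congr_left
  intro r _
  simp [MV.pEval, MV.mEval]

theorem oneW_append (w w' : List ℕ) : oneW F (w ++ w') = oneW F w ++ oneW F w' := by
  unfold oneW; rw [List.map_append]

theorem wordGL_oneW_reverse (h2 : ∀ x : F, x = 0 ∨ x = 1) (w : List ℕ) :
    wordGL D hD F (oneW F w.reverse) = (wordGL D hD F (oneW F w))⁻¹ := by
  have hneg : (-1 : F) = 1 := (h2 (-1)).resolve_left (neg_ne_zero.mpr one_ne_zero)
  induction w with
  | nil => simp [oneW, wordGL]
  | cons r w ih =>
    rw [List.reverse_cons, oneW_append D hD F, wordGL_append, ih]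
    have e1 : oneW F [r] = [(r, (1 : F))] := rfl
    have e2 : oneW F (r :: w) = [(r, (1 : F))] ++ oneW F w := rfl
    rw [e1, e2, wordGL_append, wordGL_single, _root_.mul_inv_rev, xGL_inv, hneg]

theorem conj_oneW (h2 : ∀ x : F, x = 0 ∨ x = 1) (n : GL D.Idx F) (f : ℕ → ℕ) (hn : ActsAs D hD F n f)
    (w : List ℕ) (hw : ∀ r ∈ w, r < D.nroots) :
    n * wordGL D hD F (oneW F w) * n⁻¹ = wordGL D hD F (oneW F (w.map f)) := by
  induction w with
  | nil => simp [oneW, wordGL]
  | cons r w ih =>
    have e2 : oneW F (r :: w) = [(r, (1 : F))] ++ oneW F w := rfl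
    have e3 : oneW F ((r :: w).map f) = [(f r, (1 : F))] ++ oneW F (w.map f) := rfl
    rw [e2, e3, wordGL_append, wordGL_append, wordGL_single, wordGL_single,
      ← ih (fun q hq => hw q (List.mem_cons_of_mem _ hq))]
    obtain ⟨-, c, hc, hconj⟩ := hn r (hw r List.mem_cons_self)
    have hc1 : c = 1 := (h2 c).resolve_left hc
    have := hconj 1
    rw [hc1, mul_one] at this
    rw [← this]
    group

theorem partWord_mem (h2 : ∀ x : F, x = 0 ∨ x = 1) (T : Subgroup (GL D.Idx F)) (known : List (List ℕ))
    (hk : ∀ w ∈ known, wordGL D hD F (oneW F w) ∈ T) (p : ℕ × Bool) :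
    wordGL D hD F (oneW F (partWord known p)) ∈ T := by
  have hget : wordGL D hD F (oneW F (known.getD p.1 [])) ∈ T := by
    by_cases hlt : p.1 < known.length
    · apply hk
      rw [List.getD_eq_getElem _ _ hlt]
      exact List.getElem_mem hlt
    · rw [List.getD_eq_default _ _ (by omega)]
      have : wordGL D hD F (oneW F []) = 1 := by simp [oneW, wordGL]
      rw [this]; exact T.one_mem
  unfold partWord
  split_ifs
  · rw [wordGL_oneW_reverse D hD F h2]
    exact T.inv_mem hget
  · exact hget

theorem flatMap_mem (h2 : ∀ x : F, x = 0 ∨ x = 1) (T : Subgroup (GL D.Idx F)) (known : List (List ℕ))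
    (hk : ∀ w ∈ known, wordGL D hD F (oneW F w) ∈ T) (ps : List (ℕ × Bool)) :
    wordGL D hD F (oneW F (ps.flatMap (partWord known))) ∈ T := by
  induction ps with
  | nil =>
    simpa [oneW, wordGL] using T.one_mem
  | cons p ps ih =>
    rw [List.flatMap_cons, oneW_append D hD F, wordGL_append]
    exact T.mul_mem (partWord_mem D hD F h2 T known hk p) ih

theorem getD_mem (T : Subgroup (GL D.Idx F)) (known : List (List ℕ))
    (hk : ∀ w ∈ known, wordGL D hD F (oneW F w) ∈ T) (k : ℕ) :
    wordGL D hD F (oneW F (known.getD k [])) ∈ T := by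
  by_cases hlt : k < known.length
  · apply hk
    rw [List.getD_eq_getElem _ _ hlt]
    exact List.getElem_mem hlt
  · rw [List.getD_eq_default _ _ (by omega)]
    have : wordGL D hD F (oneW F []) = 1 := by simp [oneW, wordGL]
    rw [this]; exact T.one_mem

theorem dstep_mem (h2 : ∀ x : F, x = 0 ∨ x = 1) (L : List ℕ) (hL : ∀ i ∈ L, i < D.rank)
    (T : Subgroup (GL D.Idx F)) (hn : nWordGL D hD F L ∈ T) (known : List (List ℕ))
    (hk : ∀ w ∈ known, wordGL D hD F (oneW F w) ∈ T) (st : ℕ × List ℕ × List (ℕ × Bool))
    (hst : dstepOK D L known st = true) : wordGL D hD F (oneW F st.2.1) ∈ T := by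
  unfold dstepOK at hst
  split_ifs at hst with hconj hdrop
  · split at hst
    · rename_i p hp
      rw [Bool.and_eq_true] at hst
      obtain ⟨hlt, heq⟩ := hst
      rw [List.all_eq_true] at hlt
      have heq' := of_decide_eq_true heq
      rw [heq', ← conj_oneW D hD F h2 _ _ (actsAs_nWordGL D hD F L hL) _
        (fun r hr => of_decide_eq_true (hlt r hr))]
      exact T.mul_mem (T.mul_mem hn (getD_mem D hD F T known hk p.1)) (T.inv_mem hn)
    · exact absurd hst (by simp)
  · split at hst
    · rename_i p q hpq
      have heq := of_decide_eq_true hst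
      have h1 := getD_mem D hD F T known hk p.1
      have h3 := getD_mem D hD F T known hk q.1
      rw [heq, oneW_append D hD F, wordGL_append] at h1
      have := T.mul_mem h1 (T.inv_mem h3)
      rwa [mul_inv_cancel_right] at this
    · exact absurd hst (by simp)
  · have h2F : ((2 : ℕ) : F) = 0 := by
      have h11 : (1 : F) + 1 = 0 := by
        rcases h2 ((1 : F) + 1) with h | h
        · exact h
        · exfalso
          have : (1 : F) = 0 := by linear_combination h
          exact one_ne_zero this
      push_cast
      rw [← h11]; norm_num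
    have hm := MV.wordMat_eq_of_chk D (fun _ => (0 : F)) 2 h2F _ _ hst
    rw [evalW_polyW D hD F, evalW_polyW D hD F] at hm
    have : wordGL D hD F (oneW F st.2.1) =
        wordGL D hD F (oneW F (st.2.2.flatMap (partWord known))) := by
      apply Units.ext
      rw [coe_wordGL, coe_wordGL, hm]
    rw [this]
    exact flatMap_mem D hD F h2 T known hk st.2.2

theorem deriv_mem (h2 : ∀ x : F, x = 0 ∨ x = 1) (L : List ℕ) (hL : ∀ i ∈ L, i < D.rank)
    (T : Subgroup (GL D.Idx F)) (hn : nWordGL D hD F L ∈ T) (singles : List ℕ) :
    ∀ (steps : List (ℕ × List ℕ × List (ℕ × Bool))) (known : List (List ℕ)),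
      (∀ w ∈ known, wordGL D hD F (oneW F w) ∈ T) →
      derivOK D L singles known steps = true → ∀ r ∈ singles, xGL D hD F r 1 ∈ T := by
  intro steps
  induction steps with
  | nil =>
    intro known hk hc r hr
    unfold derivOK at hc
    rw [List.all_eq_true] at hc
    have := hk [r] (List.contains_iff_mem.mp (hc r hr))
    have e : oneW F [r] = [(r, (1 : F))] := rfl
    rwa [e, wordGL_single] at this
  | cons st rest ih =>
    intro known hk hc
    unfold derivOK at hc
    rw [Bool.and_eq_true] at hc
    apply ih (known ++ [st.2.1]) _ hc.2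
    intro w hw
    rcases List.mem_append.mp hw with hw | hw
    · exact hk w hw
    · rw [List.mem_singleton] at hw
      rw [hw]
      exact dstep_mem D hD F h2 L hL T hn known hk st hc.1

/-- the main theorem: generation of `D.group F`, `|F| = 2`, by a word of root elements and `n_L`, from a
derivation of some root elements followed by a sum-closure certificate -/
theorem two_generated_of_deriv (h2 : ∀ x : F, x = 0 ∨ x = 1) (L : List ℕ) (hL : ∀ i ∈ L, i < D.rank)
    (w0 : List ℕ) (singles : List ℕ) (steps : List (ℕ × List ℕ × List (ℕ × Bool)))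
    (cert : List (ℕ × ℕ × ℕ)) (hc : derivOK D L singles [w0] steps = true)
    (hc2 : certOK D L singles cert = true) :
    ∃ a b : ↥(D.group F), Subgroup.closure ({a, b} : Set ↥(D.group F)) = ⊤ := by
  have ha : wordGL D hD F (oneW F w0) ∈ D.group F := wordGL_mem_group D hD F _
  have hb : nWordGL D hD F L ∈ D.group F :=
    monomial_le_group D hD F (nWordGL_mem_monomial D hD F L hL)
  refine ⟨⟨_, ha⟩, ⟨_, hb⟩, ?_⟩
  apply Subgroup.map_injective (D.group F).subtype_injective
  rw [MonoidHom.map_closure, Set.image_pair, ← MonoidHom.range_eq_map, Subgroup.range_subtype]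
  apply le_antisymm
  · rw [Subgroup.closure_le]
    intro g hg
    rcases hg with rfl | rfl
    · exact ha
    · exact hb
  · set T := Subgroup.closure ({(D.group F).subtype ⟨_, ha⟩, (D.group F).subtype ⟨_, hb⟩} : Set (GL D.Idx F))
    have haT : wordGL D hD F (oneW F w0) ∈ T := Subgroup.subset_closure (Set.mem_insert _ _)
    have hbT : nWordGL D hD F L ∈ T := Subgroup.subset_closure (Set.mem_insert_of_mem _ rfl)
    apply group_le_of_one D hD F h2 T
    apply cert_mem D hD F h2 L hL T hbT cert singles _ hc2
    apply deriv_mem D hD F h2 L hL T hbT singles steps [w0] _ hc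
    intro w hw
    rw [List.mem_singleton] at hw
    rw [hw]; exact haT

end

end Cfsg.Agent.Lib.Helper7.Gen2
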