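import Cfsg.Agent.Lib.Helper7.ChevGrade

/-! Gradings of root elements by additive functionals with values in an arbitrary commutative ring
(e.g. real gradings) (helper7; the `ℤ`-valued version is `ChevGrade`). -/

set_option autoImplicit false

namespace Cfsg.Agent.Lib.Helper7

open Cfsg Cfsg.Lie Matrix

/-- an `R`-valued function additive along chains -/
structure ChainAddR (R : Type*) [CommRing R] (D : ChevalleyDatum) (A : ℕ → R) : Prop where
  negA : ∀ s < D.nroots, D.neg s < D.nroots → A (D.neg s) = - A s
  addA : ∀ s < D.nroots, ∀ v < D.nroots, ∀ x ∈ ccAll D s v, x.1 < D.nroots →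
    A x.1 = A v + (x.2.1 : R) * A s

theorem ChainAdd.castR {D : ChevalleyDatum} {A : ℕ → ℤ} (hA : ChainAdd D A) (R : Type*) [CommRing R] :
    ChainAddR R D (fun s => (A s : R)) :=
  ⟨fun s hs hn => by rw [hA.negA s hs hn]; push_cast; ring,
   fun s hs v hv x hx hx1 => by rw [hA.addA s hs v hv x hx hx1]; push_cast; ring⟩

theorem chainAddR_zero (R : Type*) [CommRing R] (D : ChevalleyDatum) : ChainAddR R D (fun _ => 0) :=
  ⟨fun _ _ _ => by simp, fun _ _ _ _ _ _ _ => by simp⟩

theorem ChainAddR.add {R : Type*} [CommRing R] {D : ChevalleyDatum} {A B : ℕ → R}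
    (hA : ChainAddR R D A) (hB : ChainAddR R D B) : ChainAddR R D (fun s => A s + B s) :=
  ⟨fun s hs hn => by rw [hA.negA s hs hn, hB.negA s hs hn]; ring,
   fun s hs v hv x hx hx1 => by rw [hA.addA s hs v hv x hx hx1, hB.addA s hs v hv x hx hx1]; ring⟩

theorem ChainAddR.smul {R : Type*} [CommRing R] {D : ChevalleyDatum} {A : ℕ → R}
    (hA : ChainAddR R D A) (c : R) : ChainAddR R D (fun s => c * A s) :=
  ⟨fun s hs hn => by rw [hA.negA s hs hn]; ring,
   fun s hs v hv x hx hx1 => by rw [hA.addA s hs v hv x hx hx1]; ring⟩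

theorem chainAddR_finsetSum {R : Type*} [CommRing R] (D : ChevalleyDatum) (S : Finset ℕ) (c : ℕ → R)
    (A : ℕ → ℕ → R) (hA : ∀ k ∈ S, ChainAddR R D (A k)) :
    ChainAddR R D (fun s => ∑ k ∈ S, c k * A k s) := by
  classical
  induction S using Finset.induction_on with
  | empty => simpa using chainAddR_zero R D
  | insert a S ha ih =>
    have h1 := (hA a (Finset.mem_insert_self ..)).smul (c a)
    have h2 := ih (fun k hk => hA k (Finset.mem_insert_of_mem hk))
    have h3 := h1.add h2
    have : (fun s => ∑ k ∈ insert a S, c k * A k s) = fun s => c a * A a s + ∑ k ∈ S, c k * A k s := by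
      funext s
      rw [Finset.sum_insert ha]
    rw [this]
    exact h3

/-- the weight of a basis vector: `0` on the Cartan part, `A r` on the root vector `e_r` -/
def wtFR {R : Type*} [CommRing R] (D : ChevalleyDatum) (A : ℕ → R) : D.Idx → R :=
  Sum.elim (fun _ => 0) (fun u => A u.val)

section
variable (D : ChevalleyDatum) (hD : D ∈ [chevG2, chevB2, chevD4, chevF4, chevE6, chevE7, chevE8])
variable (F : Type*) [Field F]
include hD

/-- the functional `r ↦ Σ_k λ_k ⟨r, p_k^∨⟩` with coefficients in `R` is additive along chains -/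
theorem chainAddR_linear {R : Type*} [CommRing R] (lam : ℕ → R) :
    ChainAddR R D (fun r => ∑ k ∈ Finset.range D.rank, lam k * (D.cartan k r : R)) :=
  chainAddR_finsetSum D (Finset.range D.rank) lam (fun k r => (D.cartan k r : R))
    (fun k hk => (chainAdd_cartan D k (hxFacts_of_mem D hD k (Finset.mem_range.mp hk))).castR R)

/-- an entry of `x_r(t)` differing from that of the identity sits in weight `k · A(r)`, `k ≥ 1` -/
theorem xMat_entry_casesR {R : Type*} [CommRing R] {A : ℕ → R} (hA : ChainAddR R D A)
    (r : Fin D.nroots) (t : F) (i j : D.Idx)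
    (h : D.xMat F r t i j ≠ (1 : Matrix D.Idx D.Idx F) i j) :
    ∃ k : ℕ, 1 ≤ k ∧ wtFR D A i - wtFR D A j = (k : R) * A r.val := by
  have hN := negOK_of_mem D hD r.val r.isLt
  have hnegA : A (D.negIdx.getD r.val 0) = - A r.val := hA.negA r.val r.isLt hN.1
  rcases i with i' | u <;> rcases j with j' | v
  · exfalso; apply h
    rw [xMat_inl_inl, Matrix.one_apply]
    simp only [Sum.inl.injEq]
  · -- (inl, inr)
    by_cases hvr : v = r
    · exfalso; apply h
      rw [hvr, xMat_inl_self, Matrix.one_apply, if_neg (by simp)]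
    · by_cases hneg : v.val = D.negIdx.getD r.val 0
      · refine ⟨1, le_rfl, ?_⟩
        show (0 : R) - A v.val = _
        rw [hneg, hnegA]; simp
      · exfalso; apply h
        rw [xMat_inl_gen D F r t v hvr hneg, Matrix.one_apply, if_neg (by simp)]
  · -- (inr, inl)
    by_cases hur : u = r
    · refine ⟨1, le_rfl, ?_⟩
      show A u.val - 0 = _
      rw [hur]; simp
    · exfalso; apply h
      rw [xMat_inr_inl, if_neg hur, Matrix.one_apply, if_neg (by simp)]
  · -- (inr, inr)
    by_cases hvr : v = r
    · exfalso; apply h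
      rw [hvr, xMat_inr_self, Matrix.one_apply]
      simp only [Sum.inr.injEq]
    · by_cases hneg : v.val = D.negIdx.getD r.val 0
      · rw [xMat_inr_neg D F r t v hvr hneg, Matrix.one_apply] at h
        simp only [Sum.inr.injEq] at h
        by_cases huv : u = v
        · exfalso; apply h; rw [if_pos huv, if_pos huv]
        · by_cases hur : u = r
          · refine ⟨2, by norm_num, ?_⟩
            show A u.val - A v.val = _
            rw [hur, hneg, hnegA]; push_cast; ring
          · exfalso; apply h; rw [if_neg huv, if_neg huv, if_neg hur]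
      · rw [xMat_inr_gen D F r t v hvr hneg, Matrix.one_apply] at h
        simp only [Sum.inr.injEq] at h
        have hp : polyAt t (ccAll D r.val v.val) u.val ≠ 0 := by
          intro h0
          apply h
          rw [h0, add_zero]
        obtain ⟨x, hx, hxu⟩ := polyAt_ne_zero t _ _ hp
        have hk := ccAll_exp_pos D _ _ x hx
        refine ⟨x.2.1, hk, ?_⟩
        show A u.val - A v.val = _
        rw [← hxu, hA.addA r.val r.isLt v.val v.isLt x hx (hxu ▸ u.isLt)]
        ring

/-- a nonzero entry `(i, j)` of `x_r(t)` has `wt i - wt j = k · A(r)` with `k ≥ 0` -/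
theorem xMat_entry_ne_zeroR {R : Type*} [CommRing R] {A : ℕ → R} (hA : ChainAddR R D A)
    (r : Fin D.nroots) (t : F) (i j : D.Idx) (h : D.xMat F r t i j ≠ 0) :
    ∃ k : ℕ, wtFR D A i - wtFR D A j = (k : R) * A r.val := by
  by_cases hne : D.xMat F r t i j = (1 : Matrix D.Idx D.Idx F) i j
  · rw [hne, Matrix.one_apply] at h
    by_cases hij : i = j
    · exact ⟨0, by rw [hij]; simp⟩
    · rw [if_neg hij] at h; exact absurd rfl h
  · obtain ⟨k, -, hw⟩ := xMat_entry_casesR D hD F hA r t i j hne
    exact ⟨k, hw⟩

end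

end Cfsg.Agent.Lib.Helper7
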