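import Cfsg.Agent.Lib.Helper7.ChevHx

/-! Conjugation of root elements by the monomial matrix of a graph automorphism (helper7). -/

set_option autoImplicit false

namespace Cfsg.Agent.Lib.Helper7

open Cfsg Cfsg.Lie Matrix

/-- table facts making `T x_s(t) T⁻¹ = x_{ρ s}(ε_s t)` work, `T` the monomial matrix `h_j ↦ h_{pv j}`,
`e_s ↦ ε_s e_{ρ s}` -/
structure GraphFacts (D : ChevalleyDatum) (pv pv' ρ ρ' : ℕ → ℕ) (ε : ℕ → ℤ) : Prop where
  pvlt : ∀ j < D.rank, pv j < D.rank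
  pvlt' : ∀ j < D.rank, pv' j < D.rank
  pvinv : ∀ j < D.rank, pv' (pv j) = j
  pvinv' : ∀ j < D.rank, pv (pv' j) = j
  ρlt : ∀ s < D.nroots, ρ s < D.nroots
  ρlt' : ∀ s < D.nroots, ρ' s < D.nroots
  ρinv : ∀ s < D.nroots, ρ' (ρ s) = s
  ρinv' : ∀ s < D.nroots, ρ (ρ' s) = s
  ρneg : ∀ s < D.nroots, D.neg s < D.nroots ∧ ρ (D.neg s) = D.neg (ρ s)
  εpm : ∀ s < D.nroots, ε s = 1 ∨ ε s = -1
  εneg : ∀ s < D.nroots, ε (D.neg s) = ε s
  car : ∀ j < D.rank, ∀ s < D.nroots, D.cartan (pv j) (ρ s) = D.cartan j s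
  cor : ∀ j < D.rank, ∀ s < D.nroots,
    (D.coroot.getD (ρ s) #[]).getD (pv j) 0 = (D.coroot.getD s #[]).getD j 0
  cc : ∀ s < D.nroots, ∀ v < D.nroots, v ≠ s → v ≠ D.neg s →
    ccAll D (ρ s) (ρ v) = (ccAll D s v).map (fun x => (ρ x.1, x.2.1, x.2.2 * ε x.1 * ε v * ε s ^ x.2.1))

section
variable (D : ChevalleyDatum) (pv pv' ρ ρ' : ℕ → ℕ) (ε : ℕ → ℤ) (hG : GraphFacts D pv pv' ρ ρ' ε)
variable (F : Type*) [Field F]

/-- the monomial matrix of the graph automorphism -/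
def gMono : Matrix D.Idx D.Idx F :=
  Matrix.of (fun (row col : D.Idx) =>
    Sum.elim
      (fun j' : Fin D.rank => Sum.elim
        (fun j : Fin D.rank => if (j' : ℕ) = pv j then (1 : F) else 0) (fun _ => (0 : F)) col)
      (fun s' : Fin D.nroots => Sum.elim
        (fun _ => (0 : F)) (fun s : Fin D.nroots => if (s' : ℕ) = ρ s then ((ε s : ℤ) : F) else 0) col)
      row)

include hG

def pF (j : Fin D.rank) : Fin D.rank := ⟨pv j.val, hG.pvlt j.val j.isLt⟩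
def pF' (j : Fin D.rank) : Fin D.rank := ⟨pv' j.val, hG.pvlt' j.val j.isLt⟩
def rF (s : Fin D.nroots) : Fin D.nroots := ⟨ρ s.val, hG.ρlt s.val s.isLt⟩
def rF' (s : Fin D.nroots) : Fin D.nroots := ⟨ρ' s.val, hG.ρlt' s.val s.isLt⟩

theorem pF'_pF (j : Fin D.rank) : pF' D pv pv' ρ ρ' ε hG (pF D pv pv' ρ ρ' ε hG j) = j :=
  Fin.ext (hG.pvinv j.val j.isLt)
theorem pF_pF' (j : Fin D.rank) : pF D pv pv' ρ ρ' ε hG (pF' D pv pv' ρ ρ' ε hG j) = j :=
  Fin.ext (hG.pvinv' j.val j.isLt)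
theorem rF'_rF (s : Fin D.nroots) : rF' D pv pv' ρ ρ' ε hG (rF D pv pv' ρ ρ' ε hG s) = s :=
  Fin.ext (hG.ρinv s.val s.isLt)
theorem rF_rF' (s : Fin D.nroots) : rF D pv pv' ρ ρ' ε hG (rF' D pv pv' ρ ρ' ε hG s) = s :=
  Fin.ext (hG.ρinv' s.val s.isLt)

theorem rF_inj {a b : Fin D.nroots} (h : rF D pv pv' ρ ρ' ε hG a = rF D pv pv' ρ ρ' ε hG b) : a = b := by
  have := congrArg (rF' D pv pv' ρ ρ' ε hG) h
  rwa [rF'_rF, rF'_rF] at this

theorem rF'_eq_iff (a b : Fin D.nroots) :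
    rF' D pv pv' ρ ρ' ε hG a = b ↔ a = rF D pv pv' ρ ρ' ε hG b := by
  constructor
  · intro h; rw [← h, rF_rF']
  · intro h; rw [h, rF'_rF]

theorem pF'_eq_iff (a b : Fin D.rank) :
    pF' D pv pv' ρ ρ' ε hG a = b ↔ a = pF D pv pv' ρ ρ' ε hG b := by
  constructor
  · intro h; rw [← h, pF_pF']
  · intro h; rw [h, pF'_pF]

theorem epsF_sq (s : ℕ) (hs : s < D.nroots) : ((ε s : ℤ) : F) * ((ε s : ℤ) : F) = 1 := by
  rcases hG.εpm s hs with h | h <;> rw [h] <;> simp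

theorem gMono_mul_inl (M : Matrix D.Idx D.Idx F) (j' : Fin D.rank) (c : D.Idx) :
    (gMono D pv ρ ε F * M) (Sum.inl j') c = M (Sum.inl (pF' D pv pv' ρ ρ' ε hG j')) c := by
  rw [Matrix.mul_apply, Fintype.sum_sum_type]
  have h2 : ∑ u : Fin D.nroots, gMono D pv ρ ε F (Sum.inl j') (Sum.inr u) * M (Sum.inr u) c = 0 := by
    apply Finset.sum_eq_zero; intro u _
    show (0 : F) * _ = 0
    rw [zero_mul]
  rw [h2, add_zero, Finset.sum_eq_single (pF' D pv pv' ρ ρ' ε hG j')]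
  · show (if (j' : ℕ) = pv (pF' D pv pv' ρ ρ' ε hG j').val then (1 : F) else 0) * _ = _
    have : (j' : ℕ) = pv (pF' D pv pv' ρ ρ' ε hG j').val := (hG.pvinv' j'.val j'.isLt).symm
    rw [if_pos this, one_mul]
  · intro j _ hj
    show (if (j' : ℕ) = pv j.val then (1 : F) else 0) * _ = _
    have : ¬ (j' : ℕ) = pv j.val := by
      intro h
      apply hj
      apply Fin.ext
      show j.val = pv' j'.val
      rw [h, hG.pvinv j.val j.isLt]
    rw [if_neg this, zero_mul]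
  · intro h; exact absurd (Finset.mem_univ _) h

theorem gMono_mul_inr (M : Matrix D.Idx D.Idx F) (u' : Fin D.nroots) (c : D.Idx) :
    (gMono D pv ρ ε F * M) (Sum.inr u') c =
      ((ε (ρ' u'.val) : ℤ) : F) * M (Sum.inr (rF' D pv pv' ρ ρ' ε hG u')) c := by
  rw [Matrix.mul_apply, Fintype.sum_sum_type]
  have h1 : ∑ j : Fin D.rank, gMono D pv ρ ε F (Sum.inr u') (Sum.inl j) * M (Sum.inl j) c = 0 := by
    apply Finset.sum_eq_zero; intro j _
    show (0 : F) * _ = 0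
    rw [zero_mul]
  rw [h1, zero_add, Finset.sum_eq_single (rF' D pv pv' ρ ρ' ε hG u')]
  · show (if (u' : ℕ) = ρ (rF' D pv pv' ρ ρ' ε hG u').val then _ else 0) * _ = _
    have : (u' : ℕ) = ρ (rF' D pv pv' ρ ρ' ε hG u').val := (hG.ρinv' u'.val u'.isLt).symm
    rw [if_pos this]; rfl
  · intro u _ hu
    show (if (u' : ℕ) = ρ u.val then _ else 0) * _ = _
    have : ¬ (u' : ℕ) = ρ u.val := by
      intro h
      apply hu
      apply Fin.ext
      show u.val = ρ' u'.val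
      rw [h, hG.ρinv u.val u.isLt]
    rw [if_neg this, zero_mul]
  · intro h; exact absurd (Finset.mem_univ _) h

theorem mul_gMono_inl (M : Matrix D.Idx D.Idx F) (row : D.Idx) (j : Fin D.rank) :
    (M * gMono D pv ρ ε F) row (Sum.inl j) = M row (Sum.inl (pF D pv pv' ρ ρ' ε hG j)) := by
  rw [Matrix.mul_apply, Fintype.sum_sum_type]
  have h2 : ∑ u : Fin D.nroots, M row (Sum.inr u) * gMono D pv ρ ε F (Sum.inr u) (Sum.inl j) = 0 := by
    apply Finset.sum_eq_zero; intro u _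
    show _ * (0 : F) = 0
    rw [mul_zero]
  rw [h2, add_zero, Finset.sum_eq_single (pF D pv pv' ρ ρ' ε hG j)]
  · show _ * (if ((pF D pv pv' ρ ρ' ε hG j : Fin D.rank) : ℕ) = pv j.val then (1 : F) else 0) = _
    have : ((pF D pv pv' ρ ρ' ε hG j : Fin D.rank) : ℕ) = pv j.val := rfl
    rw [if_pos this, mul_one]
  · intro j'' _ hj
    show _ * (if (j'' : ℕ) = pv j.val then (1 : F) else 0) = _
    have : ¬ (j'' : ℕ) = pv j.val := fun h => hj (Fin.ext h)
    rw [if_neg this, mul_zero]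
  · intro h; exact absurd (Finset.mem_univ _) h

theorem mul_gMono_inr (M : Matrix D.Idx D.Idx F) (row : D.Idx) (v : Fin D.nroots) :
    (M * gMono D pv ρ ε F) row (Sum.inr v) =
      M row (Sum.inr (rF D pv pv' ρ ρ' ε hG v)) * ((ε v.val : ℤ) : F) := by
  rw [Matrix.mul_apply, Fintype.sum_sum_type]
  have h1 : ∑ j : Fin D.rank, M row (Sum.inl j) * gMono D pv ρ ε F (Sum.inl j) (Sum.inr v) = 0 := by
    apply Finset.sum_eq_zero; intro j _
    show _ * (0 : F) = 0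
    rw [mul_zero]
  rw [h1, zero_add, Finset.sum_eq_single (rF D pv pv' ρ ρ' ε hG v)]
  · show _ * (if ((rF D pv pv' ρ ρ' ε hG v : Fin D.nroots) : ℕ) = ρ v.val then _ else 0) = _
    have : ((rF D pv pv' ρ ρ' ε hG v : Fin D.nroots) : ℕ) = ρ v.val := rfl
    rw [if_pos this]
  · intro u _ hu
    show _ * (if (u : ℕ) = ρ v.val then _ else 0) = _
    have : ¬ (u : ℕ) = ρ v.val := fun h => hu (Fin.ext h)
    rw [if_neg this, mul_zero]
  · intro h; exact absurd (Finset.mem_univ _) h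

/-- columns `h_j` -/
theorem gMono_xMat_comm_inl (s : Fin D.nroots) (t : F) (row : D.Idx) (j : Fin D.rank) :
    (gMono D pv ρ ε F * D.xMat F s t) row (Sum.inl j) =
      (D.xMat F (rF D pv pv' ρ ρ' ε hG s) (((ε s.val : ℤ) : F) * t) * gMono D pv ρ ε F) row (Sum.inl j) := by
  rw [mul_gMono_inl D pv pv' ρ ρ' ε hG F]
  rcases row with j' | u'
  · rw [gMono_mul_inl D pv pv' ρ ρ' ε hG F]
    simp only [xMat_inl_inl]
    by_cases hj : j' = pF D pv pv' ρ ρ' ε hG j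
    · have : pF' D pv pv' ρ ρ' ε hG j' = j := (pF'_eq_iff D pv pv' ρ ρ' ε hG _ _).mpr hj
      rw [if_pos this, if_pos hj]
    · have : ¬ pF' D pv pv' ρ ρ' ε hG j' = j := fun h => hj ((pF'_eq_iff D pv pv' ρ ρ' ε hG _ _).mp h)
      rw [if_neg this, if_neg hj]
  · rw [gMono_mul_inr D pv pv' ρ ρ' ε hG F]
    simp only [xMat_inr_inl]
    by_cases hu : u' = rF D pv pv' ρ ρ' ε hG s
    · have h1 : rF' D pv pv' ρ ρ' ε hG u' = s := (rF'_eq_iff D pv pv' ρ ρ' ε hG _ _).mpr hu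
      have h2 : ρ' u'.val = s.val := congrArg Fin.val h1
      rw [if_pos h1, if_pos hu, h2]
      have e1 := hG.car j.val j.isLt s.val s.isLt
      have e1' : (D.cartanSR.getD (pF D pv pv' ρ ρ' ε hG j).val #[]).getD (rF D pv pv' ρ ρ' ε hG s).val 0 =
          (D.cartanSR.getD j.val #[]).getD s.val 0 := e1
      rw [e1']
      ring
    · have h1 : ¬ rF' D pv pv' ρ ρ' ε hG u' = s := fun h => hu ((rF'_eq_iff D pv pv' ρ ρ' ε hG _ _).mp h)
      rw [if_neg h1, if_neg hu, mul_zero]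

theorem rF_neg (s v : Fin D.nroots) (hneg : v.val = D.negIdx.getD s.val 0) :
    (rF D pv pv' ρ ρ' ε hG v).val = D.negIdx.getD (rF D pv pv' ρ ρ' ε hG s).val 0 := by
  show ρ v.val = D.neg (ρ s.val)
  have hvn : v.val = D.neg s.val := hneg
  rw [hvn, (hG.ρneg s.val s.isLt).2]

theorem rF_not_neg (s v : Fin D.nroots) (hneg : v.val ≠ D.negIdx.getD s.val 0) :
    (rF D pv pv' ρ ρ' ε hG v).val ≠ D.negIdx.getD (rF D pv pv' ρ ρ' ε hG s).val 0 := by
  intro h
  apply hneg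
  have h1 : ρ v.val = D.neg (ρ s.val) := h
  obtain ⟨hn1, hn2⟩ := hG.ρneg s.val s.isLt
  rw [← hn2] at h1
  have h2 := congrArg ρ' h1
  rw [hG.ρinv v.val v.isLt, hG.ρinv _ hn1] at h2
  exact h2

/-- rows `h_j'`, columns `e_v` -/
theorem gMono_xMat_comm_inl_inr (s : Fin D.nroots) (t : F) (j' : Fin D.rank) (v : Fin D.nroots) :
    (gMono D pv ρ ε F * D.xMat F s t) (Sum.inl j') (Sum.inr v) =
      (D.xMat F (rF D pv pv' ρ ρ' ε hG s) (((ε s.val : ℤ) : F) * t) * gMono D pv ρ ε F)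
        (Sum.inl j') (Sum.inr v) := by
  rw [mul_gMono_inr D pv pv' ρ ρ' ε hG F, gMono_mul_inl D pv pv' ρ ρ' ε hG F]
  by_cases hvs : v = s
  · subst hvs
    rw [xMat_inl_self, xMat_inl_self, zero_mul]
  · have hwne : rF D pv pv' ρ ρ' ε hG v ≠ rF D pv pv' ρ ρ' ε hG s := fun h => hvs (rF_inj D pv pv' ρ ρ' ε hG h)
    by_cases hneg : v.val = D.negIdx.getD s.val 0
    · have hvn : v.val = D.neg s.val := hneg
      rw [xMat_inl_neg D F _ _ _ hwne (rF_neg D pv pv' ρ ρ' ε hG s v hneg), xMat_inl_neg D F s t v hvs hneg]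
      have hηv : ((ε v.val : ℤ) : F) = ((ε s.val : ℤ) : F) := by rw [hvn, hG.εneg s.val s.isLt]
      rw [hηv]
      have hcor := hG.cor (pF' D pv pv' ρ ρ' ε hG j').val (pF' D pv pv' ρ ρ' ε hG j').isLt s.val s.isLt
      have hpp : pv (pF' D pv pv' ρ ρ' ε hG j').val = j'.val := hG.pvinv' j'.val j'.isLt
      rw [hpp] at hcor
      have hcor' : (D.coroot.getD (rF D pv pv' ρ ρ' ε hG s).val #[]).getD j'.val 0 = _ := hcor
      rw [hcor']
      have hsq := epsF_sq D pv pv' ρ ρ' ε hG F s.val s.isLt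
      linear_combination (-((((D.coroot.getD s.val #[]).getD (pF' D pv pv' ρ ρ' ε hG j').val 0 : ℤ) : F) * t)) * hsq
    · rw [xMat_inl_gen D F _ _ _ hwne (rF_not_neg D pv pv' ρ ρ' ε hG s v hneg), xMat_inl_gen D F s t v hvs hneg,
        zero_mul]

/-- rows `e_u'`, columns `e_v` -/
theorem gMono_xMat_comm_inr_inr (s : Fin D.nroots) (t : F) (u' v : Fin D.nroots)
    (hlt : ∀ x ∈ ccAll D s.val v.val, x.1 < D.nroots) :
    (gMono D pv ρ ε F * D.xMat F s t) (Sum.inr u') (Sum.inr v) =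
      (D.xMat F (rF D pv pv' ρ ρ' ε hG s) (((ε s.val : ℤ) : F) * t) * gMono D pv ρ ε F)
        (Sum.inr u') (Sum.inr v) := by
  rw [mul_gMono_inr D pv pv' ρ ρ' ε hG F, gMono_mul_inr D pv pv' ρ ρ' ε hG F]
  have hsq := epsF_sq D pv pv' ρ ρ' ε hG F s.val s.isLt
  have hηw : ∀ a : Fin D.nroots, u' = rF D pv pv' ρ ρ' ε hG a →
      ((ε (ρ' u'.val) : ℤ) : F) = ((ε a.val : ℤ) : F) := by
    intro a ha
    rw [ha]
    show ((ε (ρ' (ρ a.val)) : ℤ) : F) = _
    rw [hG.ρinv a.val a.isLt]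
  by_cases hvs : v = s
  · subst hvs
    rw [xMat_inr_self, xMat_inr_self]
    by_cases hu : u' = rF D pv pv' ρ ρ' ε hG v
    · have h1 : rF' D pv pv' ρ ρ' ε hG u' = v := (rF'_eq_iff D pv pv' ρ ρ' ε hG _ _).mpr hu
      rw [if_pos h1, if_pos hu, hηw v hu]; ring
    · have h1 : ¬ rF' D pv pv' ρ ρ' ε hG u' = v := fun h => hu ((rF'_eq_iff D pv pv' ρ ρ' ε hG _ _).mp h)
      rw [if_neg h1, if_neg hu]; ring
  · have hwne : rF D pv pv' ρ ρ' ε hG v ≠ rF D pv pv' ρ ρ' ε hG s := fun h => hvs (rF_inj D pv pv' ρ ρ' ε hG h)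
    by_cases hneg : v.val = D.negIdx.getD s.val 0
    · have hvn : v.val = D.neg s.val := hneg
      rw [xMat_inr_neg D F _ _ _ hwne (rF_neg D pv pv' ρ ρ' ε hG s v hneg), xMat_inr_neg D F s t v hvs hneg]
      have hηv : ((ε v.val : ℤ) : F) = ((ε s.val : ℤ) : F) := by rw [hvn, hG.εneg s.val s.isLt]
      by_cases hu : u' = rF D pv pv' ρ ρ' ε hG v
      · have h1 : rF' D pv pv' ρ ρ' ε hG u' = v := (rF'_eq_iff D pv pv' ρ ρ' ε hG _ _).mpr hu
        rw [if_pos h1, if_pos hu, hηw v hu]; ring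
      · have h1 : ¬ rF' D pv pv' ρ ρ' ε hG u' = v := fun h => hu ((rF'_eq_iff D pv pv' ρ ρ' ε hG _ _).mp h)
        rw [if_neg h1, if_neg hu]
        by_cases hus : u' = rF D pv pv' ρ ρ' ε hG s
        · have h2 : rF' D pv pv' ρ ρ' ε hG u' = s := (rF'_eq_iff D pv pv' ρ ρ' ε hG _ _).mpr hus
          rw [if_pos h2, if_pos hus, hηw s hus, hηv]
          linear_combination (t ^ 2 * ((ε s.val : ℤ) : F)) * hsq
        · have h2 : ¬ rF' D pv pv' ρ ρ' ε hG u' = s := fun h => hus ((rF'_eq_iff D pv pv' ρ ρ' ε hG _ _).mp h)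
          rw [if_neg h2, if_neg hus]; ring
    · rw [xMat_inr_gen D F _ _ _ hwne (rF_not_neg D pv pv' ρ ρ' ε hG s v hneg), xMat_inr_gen D F s t v hvs hneg]
      have hvs' : v.val ≠ s.val := fun h => hvs (Fin.ext h)
      have hcc : ccAll D (rF D pv pv' ρ ρ' ε hG s).val (rF D pv pv' ρ ρ' ε hG v).val = _ :=
        hG.cc s.val s.isLt v.val v.isLt hvs' hneg
      rw [hcc, mul_add, add_mul]
      have hsqv := epsF_sq D pv pv' ρ ρ' ε hG F v.val v.isLt
      congr 1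
      · by_cases hu : u' = rF D pv pv' ρ ρ' ε hG v
        · have h1 : rF' D pv pv' ρ ρ' ε hG u' = v := (rF'_eq_iff D pv pv' ρ ρ' ε hG _ _).mpr hu
          rw [if_pos h1, if_pos hu, hηw v hu]; ring
        · have h1 : ¬ rF' D pv pv' ρ ρ' ε hG u' = v := fun h => hu ((rF'_eq_iff D pv pv' ρ ρ' ε hG _ _).mp h)
          rw [if_neg h1, if_neg hu]; ring
      · unfold polyAt
        rw [List.map_map]
        apply list_sum_map_mul_congr
        intro x hx
        have hx1 := hlt x hx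
        simp only [Function.comp]
        by_cases hxu : ρ x.1 = u'.val
        · have hxu' : x.1 = (rF' D pv pv' ρ ρ' ε hG u').val := by
            show x.1 = ρ' u'.val
            rw [← hxu, hG.ρinv x.1 hx1]
          rw [if_pos hxu', if_pos hxu]
          have : ρ' u'.val = x.1 := hxu'.symm
          rw [this]
          have hsqk : (((ε s.val : ℤ) : F)) ^ x.2.1 * (((ε s.val : ℤ) : F)) ^ x.2.1 = 1 := by
            rw [← mul_pow, hsq, one_pow]
          push_cast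
          rw [mul_pow]
          linear_combination (-(((ε x.1 : ℤ) : F) * ((x.2.2 : ℤ) : F) * t ^ x.2.1 *
            ((ε s.val : ℤ) : F) ^ x.2.1 * ((ε s.val : ℤ) : F) ^ x.2.1)) * hsqv
              + (-(((ε x.1 : ℤ) : F) * ((x.2.2 : ℤ) : F) * t ^ x.2.1)) * hsqk
        · have hxu' : ¬ x.1 = (rF' D pv pv' ρ ρ' ε hG u').val := by
            intro h
            apply hxu
            rw [h]
            exact hG.ρinv' u'.val u'.isLt
          rw [if_neg hxu', if_neg hxu]; ring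

theorem gMono_xMat_comm (s : Fin D.nroots) (t : F)
    (hlt : ∀ v, ∀ x ∈ ccAll D s.val v, x.1 < D.nroots) :
    gMono D pv ρ ε F * D.xMat F s t =
      D.xMat F (rF D pv pv' ρ ρ' ε hG s) (((ε s.val : ℤ) : F) * t) * gMono D pv ρ ε F := by
  ext row col
  rcases col with j | v
  · exact gMono_xMat_comm_inl D pv pv' ρ ρ' ε hG F s t row j
  · rcases row with j' | u'
    · exact gMono_xMat_comm_inl_inr D pv pv' ρ ρ' ε hG F s t j' v
    · exact gMono_xMat_comm_inr_inr D pv pv' ρ ρ' ε hG F s t u' v (hlt v.val)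

end

end Cfsg.Agent.Lib.Helper7
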