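import Cfsg.Agent.Lib.Helper7.ChevGraph1
import Cfsg.Agent.Lib.Helper7.ChevFundMain

/-! Existence of graph automorphisms from table certificates (helper7). -/

set_option autoImplicit false

namespace Cfsg.Agent.Lib.Helper7

open Cfsg Cfsg.Lie Matrix

/-- the graph data send fundamental root elements to fundamental root elements, without signs -/
def graphSimpleB (D : ChevalleyDatum) (pv ρ : List ℕ) (ε : List ℤ) : Bool :=
  (List.range D.rank).all fun i =>
    (ρ.getD (D.simple i) 0 == D.simple (pv.getD i 0)) && (ε.getD (D.simple i) 0 == 1) &&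
    (ρ.getD (D.neg (D.simple i)) 0 == D.neg (D.simple (pv.getD i 0))) && (ε.getD (D.neg (D.simple i)) 0 == 1)

theorem exists_graphAut_of_OKB (D : ChevalleyDatum)
    (hD : D ∈ [chevG2, chevB2, chevD4, chevF4, chevE6, chevE7, chevE8]) (F : Type*) [Field F]
    (pv pv' ρ ρ' : List ℕ) (ε : List ℤ) (h : graphOKB D pv pv' ρ ρ' ε = true)
    (h' : graphSimpleB D pv ρ ε = true) :
    ∃ α : ↥(D.group F) ≃* ↥(D.group F),
      (∀ (g : ↥(D.group F)) (s : ℕ) (t : F), s < D.nroots →
        ((g : GL D.Idx F) : Matrix D.Idx D.Idx F) = D.x F s t →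
          ((α g : GL D.Idx F) : Matrix D.Idx D.Idx F) = D.x F (ρ.getD s 0) (((ε.getD s 0 : ℤ) : F) * t)) ∧
      (∀ (g : ↥(D.group F)) (i : ℕ) (t : F), i < D.rank →
        (((g : GL D.Idx F) : Matrix D.Idx D.Idx F) = D.x F (D.simple i) t →
          ((α g : GL D.Idx F) : Matrix D.Idx D.Idx F) = D.x F (D.simple (pv.getD i 0)) t) ∧
        (((g : GL D.Idx F) : Matrix D.Idx D.Idx F) = D.x F (D.neg (D.simple i)) t →
          ((α g : GL D.Idx F) : Matrix D.Idx D.Idx F) = D.x F (D.neg (D.simple (pv.getD i 0))) t)) := by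
  have hG := graphFacts_of_graphOKB D pv pv' ρ ρ' ε h
  have hx := graphAut_x D hD _ _ _ _ _ hG F
  refine ⟨graphAut D hD _ _ _ _ _ hG F, fun g s t hs hg => hx g s hs t hg, fun g i t hi => ?_⟩
  unfold graphSimpleB at h'
  rw [List.all_eq_true] at h'
  have hi' := h' i (List.mem_range.mpr hi)
  simp only [Bool.and_eq_true, beq_iff_eq] at hi'
  obtain ⟨⟨⟨e1, e2⟩, e3⟩, e4⟩ := hi'
  have hF := fundFacts_of_mem D hD i hi
  constructor
  · intro hg
    have := hx g (D.simple i) hF.hp t hg
    simp only [e1, e2, Int.cast_one, one_mul] at this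
    exact this
  · intro hg
    have := hx g (D.neg (D.simple i)) hF.hpb t hg
    simp only [e3, e4, Int.cast_one, one_mul] at this
    exact this

end Cfsg.Agent.Lib.Helper7
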