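import Cfsg.Agent.Lib.Helper7.ChevHx
set_option autoImplicit false
namespace Cfsg.Agent.Lib.Helper7
open Cfsg Cfsg.Lie
set_option maxRecDepth 1000000 in
theorem hxAllB_G2 : hxAllB chevG2 = true := by decide +kernel
set_option maxRecDepth 1000000 in
theorem hxAllB_B2 : hxAllB chevB2 = true := by decide +kernel
set_option maxRecDepth 1000000 in
theorem hxAllB_D4 : hxAllB chevD4 = true := by decide +kernel
set_option maxRecDepth 1000000 in
theorem hxAllB_F4 : hxAllB chevF4 = true := by decide +kernel
set_option maxRecDepth 1000000 in
theorem hxAllB_E6 : hxAllB chevE6 = true := by decide +kernel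
end Cfsg.Agent.Lib.Helper7
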