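import Cfsg.Agent.Lib.Helper7.ChevIrrTab
import Cfsg.Agent.Lib.Helper7.ChevBN

/-! Irreducibility of the (B,N)-pair of a Chevalley group (helper7). -/

set_option autoImplicit false

namespace Cfsg.Agent.Lib.Helper7

open Cfsg Cfsg.Lie Matrix

section
variable (D : ChevalleyDatum) (hD : D ∈ [chevG2, chevB2, chevD4, chevF4, chevE6, chevE7, chevE8])
variable (F : Type*) [Field F]
include hD

theorem coe_nFund (i : ℕ) (hi : i < D.rank) :
    ((nFund D hD F i : GL D.Idx F) : Matrix D.Idx D.Idx F) = nMono D i (etaFn D i) F := by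
  have hF := fundFacts_of_mem D hD i hi
  unfold nFund
  rw [coe_wordGL]
  show D.nMat F (D.simple i) 1 = _
  rw [nMat_fund D i hF F]
  rfl

/-- adjacent fundamental reflections do not commute modulo `B` -/
theorem nFund_comm_not_mem_borel (i j : ℕ) (hi : i < D.rank) (hj : j < D.rank)
    (hadj : adjB D i j = true) :
    nFund D hD F i * nFund D hD F j * (nFund D hD F i)⁻¹ * (nFund D hD F j)⁻¹ ∉ D.borelSubgroup F := by
  intro h
  have hI := irrFacts_of_mem D hD
  have hFi := fundFacts_of_mem D hD i hi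
  have hFj := fundFacts_of_mem D hD j hj
  have hCi := conjFacts_of_mem D hD i hi
  have hCj := conjFacts_of_mem D hD j hj
  have hni := nFund_mem_monomial D hD F i hi
  have hnj := nFund_mem_monomial D hD F j hj
  have hg : nFund D hD F i * nFund D hD F j * (nFund D hD F i)⁻¹ * (nFund D hD F j)⁻¹ ∈
      D.diagonalSubgroup F := by
    rw [← borel_inf_monomial D hD F]
    exact Subgroup.mem_inf.mpr ⟨h, Subgroup.mul_mem _ (Subgroup.mul_mem _ (Subgroup.mul_mem _ hni hnj)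
      (Subgroup.inv_mem _ hni)) (Subgroup.inv_mem _ hnj)⟩
  obtain ⟨χ, hχ, hgm⟩ := mem_diagonalSubgroup_char D hD F _ hg
  have e : nFund D hD F i * nFund D hD F j =
      (nFund D hD F i * nFund D hD F j * (nFund D hD F i)⁻¹ * (nFund D hD F j)⁻¹) *
        (nFund D hD F j * nFund D hD F i) := by group
  have em : ((nFund D hD F i : GL D.Idx F) : Matrix D.Idx D.Idx F) *
        ((nFund D hD F j : GL D.Idx F) : Matrix D.Idx D.Idx F) =
      diagChar D F χ * (((nFund D hD F j : GL D.Idx F) : Matrix D.Idx D.Idx F) *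
        ((nFund D hD F i : GL D.Idx F) : Matrix D.Idx D.Idx F)) := by
    rw [← hgm, ← Units.val_mul, ← Units.val_mul, ← Units.val_mul, ← e]
  rw [coe_nFund D hD F i hi, coe_nFund D hD F j hj] at em
  -- the roots involved
  have hpj : D.simple j < D.nroots := hFj.hp
  have h1 : D.reflectRoot j (D.simple j) < D.nroots := hCj.wlt _ hpj
  have h2 : D.reflectRoot i (D.reflectRoot j (D.simple j)) < D.nroots := hCi.wlt _ h1
  have hne := hI.noComm i hi j hj hadj
  have h3 := congrFun (congrFun em (Sum.inr ⟨_, h2⟩)) (Sum.inr ⟨D.simple j, hpj⟩)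
  rw [mul_nMono_inr D j (etaFn D j) hCj F] at h3
  unfold diagChar at h3
  rw [Matrix.diagonal_mul, mul_nMono_inr D i (etaFn D i) hCi F] at h3
  have h4 : nMono D i (etaFn D i) F (Sum.inr ⟨_, h2⟩)
      (Sum.inr (wFin D j (etaFn D j) hCj ⟨D.simple j, hpj⟩)) =
        ((etaFn D i (D.reflectRoot j (D.simple j)) : ℤ) : F) := by
    show (if D.reflectRoot i (D.reflectRoot j (D.simple j)) = D.reflectRoot i (D.reflectRoot j (D.simple j))
      then ((etaFn D i (D.reflectRoot j (D.simple j)) : ℤ) : F) else 0) = _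
    rw [if_pos rfl]
  have h5 : nMono D j (etaFn D j) F (Sum.inr ⟨_, h2⟩)
      (Sum.inr (wFin D i (etaFn D i) hCi ⟨D.simple j, hpj⟩)) = 0 := by
    show (if D.reflectRoot i (D.reflectRoot j (D.simple j)) = D.reflectRoot j (D.reflectRoot i (D.simple j))
      then ((etaFn D j (D.reflectRoot i (D.simple j)) : ℤ) : F) else 0) = _
    rw [if_neg hne]
  rw [h4, h5, zero_mul, mul_zero] at h3
  have hη1 : ((etaFn D i (D.reflectRoot j (D.simple j)) : ℤ) : F) ≠ 0 := by
    rcases hCi.ηpm _ h1 with h | h <;> rw [h] <;> norm_num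
  have hη2 : ((etaFn D j (D.simple j) : ℤ) : F) ≠ 0 := by
    rcases hCj.ηpm _ hpj with h | h <;> rw [h] <;> norm_num
  exact mul_ne_zero hη1 hη2 h3

/-- the (B,N)-pair of a Chevalley group is irreducible -/
theorem chevBNPair_irreducible : (chevBNPair D hD F).Irreducible := by
  intro J hJ hJne hJc
  have hI := irrFacts_of_mem D hD
  obtain ⟨s₀, hs₀⟩ := hJne
  obtain ⟨t₀, ht₀S, ht₀J⟩ := hJc
  obtain ⟨i₀, hi₀, hs₀m⟩ := hJ hs₀
  obtain ⟨j₀, hj₀, ht₀m⟩ := ht₀S
  set I : Set ℕ := {i | ∃ s ∈ J, ((s : GL D.Idx F) : Matrix D.Idx D.Idx F) = D.nMat F (D.simple i) 1} with hIdef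
  have hi₀I : i₀ ∈ I := ⟨s₀, hs₀, hs₀m⟩
  have hj₀I : j₀ ∉ I := by
    rintro ⟨s, hs, hsm⟩
    apply ht₀J
    have : s = t₀ := by
      apply Subtype.ext
      apply Units.ext
      rw [hsm, ht₀m]
    rw [← this]; exact hs
  obtain ⟨i, hi, j, hj, hiI, hjI, hadj⟩ := exists_crossing D hI I i₀ j₀ hi₀ hj₀ hi₀I hj₀I
  obtain ⟨s, hsJ, hsm⟩ := hiI
  have hnjG : nFund D hD F j ∈ D.group F := monomial_le_group D hD F (nFund_mem_monomial D hD F j hj)
  have hnjm : ((nFund D hD F j : GL D.Idx F) : Matrix D.Idx D.Idx F) = D.nMat F (D.simple j) 1 := by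
    unfold nFund; rw [coe_wordGL]; rfl
  refine ⟨s, hsJ, ⟨nFund D hD F j, hnjG⟩, ⟨⟨j, hj, hnjm⟩, fun h => hjI ⟨_, h, hnjm⟩⟩, ?_⟩
  intro hB
  rw [chevBNPair_B, Subgroup.mem_subgroupOf] at hB
  have hsn := coe_eq_nFund_of_mem_fundSet D hD F s i hsm
  have : ((s * ⟨nFund D hD F j, hnjG⟩ * s⁻¹ * (⟨nFund D hD F j, hnjG⟩ : ↥(D.group F))⁻¹ : ↥(D.group F)) :
      GL D.Idx F) = nFund D hD F i * nFund D hD F j * (nFund D hD F i)⁻¹ * (nFund D hD F j)⁻¹ := by
    rw [← hsn]; rfl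
  rw [this] at hB
  exact nFund_comm_not_mem_borel D hD F i j hi hj hadj hB

end

end Cfsg.Agent.Lib.Helper7
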