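import Cfsg.Agent.Lib.Helper7.ChevBasic

/-! Connectedness of the Dynkin diagram and non-commutation of adjacent fundamental reflections:
table checks (helper7). -/

set_option autoImplicit false
namespace Cfsg.Agent.Lib.Helper7
open Cfsg Cfsg.Lie

/-- the fundamental roots `p_i`, `p_j` are joined in the Dynkin diagram -/
def adjB (D : ChevalleyDatum) (i j : ℕ) : Bool :=
  (D.cartan i (D.simple j) != 0 && D.cartan j (D.simple i) != 0) && i != j

/-- `par` is the parent function of a spanning tree of the Dynkin diagram rooted at node 0, with depth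
function `dep`; and adjacent fundamental reflections do not commute on a suitable root -/
def irrOKB (D : ChevalleyDatum) (par dep : List ℕ) : Bool :=
  decide (0 < D.rank) &&
  (List.range D.rank).all (fun v => v == 0 ||
    (decide (par.getD v 0 < D.rank) && adjB D v (par.getD v 0) &&
      decide (dep.getD (par.getD v 0) 0 < dep.getD v 0))) &&
  (List.range D.rank).all fun i => (List.range D.rank).all fun j =>
    !adjB D i j ||
      D.reflectRoot i (D.reflectRoot j (D.simple j)) != D.reflectRoot j (D.reflectRoot i (D.simple j))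

structure IrrFacts (D : ChevalleyDatum) : Prop where
  rankPos : 0 < D.rank
  tree : ∃ par dep : List ℕ, ∀ v < D.rank, v = 0 ∨ (par.getD v 0 < D.rank ∧ adjB D v (par.getD v 0) = true ∧
    dep.getD (par.getD v 0) 0 < dep.getD v 0)
  adjSymm : ∀ i j, adjB D i j = adjB D j i
  noComm : ∀ i < D.rank, ∀ j < D.rank, adjB D i j = true →
    D.reflectRoot i (D.reflectRoot j (D.simple j)) ≠ D.reflectRoot j (D.reflectRoot i (D.simple j))

theorem irrFacts_of_irrOKB (D : ChevalleyDatum) (par dep : List ℕ) (h : irrOKB D par dep = true) :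
    IrrFacts D := by
  unfold irrOKB at h
  simp only [Bool.and_eq_true, List.all_eq_true, List.mem_range, Bool.or_eq_true, beq_iff_eq,
    decide_eq_true_eq, Bool.not_eq_true', bne_iff_ne] at h
  obtain ⟨⟨h0, h1⟩, h2⟩ := h
  refine ⟨h0, ⟨par, dep, ?_⟩, ?_, ?_⟩
  · intro v hv
    rcases h1 v hv with h | h
    · exact Or.inl h
    · exact Or.inr ⟨h.1.1, h.1.2, h.2⟩
  · intro i j
    unfold adjB
    rw [Bool.and_comm (D.cartan i (D.simple j) != 0)]
    congr 1
    rw [Bool.eq_iff_iff]
    simp only [bne_iff_ne, ne_eq]
    exact ⟨fun h h' => h h'.symm, fun h h' => h h'.symm⟩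
  · intro i hi j hj hadj
    rcases h2 i hi j hj with h | h
    · rw [hadj] at h; exact absurd h (by simp)
    · exact h

/-- connectedness: a set of nodes containing some node but not all has a crossing edge -/
theorem exists_crossing (D : ChevalleyDatum) (hI : IrrFacts D) (I : Set ℕ) (i₀ j₀ : ℕ) (hi₀ : i₀ < D.rank)
    (hj₀ : j₀ < D.rank) (hi : i₀ ∈ I) (hj : j₀ ∉ I) :
    ∃ i < D.rank, ∃ j < D.rank, i ∈ I ∧ j ∉ I ∧ adjB D i j = true := by
  by_contra hcon
  push Not at hcon
  obtain ⟨par, dep, htree⟩ := hI.tree
  have key : ∀ n : ℕ, ∀ v < D.rank, dep.getD v 0 ≤ n → (v ∈ I ↔ 0 ∈ I) := by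
    intro n
    induction n using Nat.strong_induction_on with
    | _ n ih =>
      intro v hv hn
      rcases htree v hv with h | ⟨hp, hadj, hdep⟩
      · rw [h]
      · have ihp := ih (dep.getD (par.getD v 0) 0) (lt_of_lt_of_le hdep hn) _ hp le_rfl
        rw [← ihp]
        constructor
        · intro hvI
          by_contra hpI
          have := hcon v hv _ hp hvI hpI
          rw [hadj] at this; exact absurd this (by simp)
        · intro hpI
          by_contra hvI
          have := hcon _ hp v hv hpI hvI
          rw [hI.adjSymm, hadj] at this; exact absurd this (by simp)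
  have h1 := (key _ i₀ hi₀ le_rfl).mp hi
  have h2 := (key _ j₀ hj₀ le_rfl).mpr h1
  exact hj h2

end Cfsg.Agent.Lib.Helper7
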