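import Cfsg.Agent.Lib.Helper7.ChevIrr0

/-! Dynkin diagram connectedness: table checks (helper7). -/

set_option autoImplicit false
set_option maxRecDepth 100000
namespace Cfsg.Agent.Lib.Helper7
open Cfsg Cfsg.Lie

theorem irrOKB_G2 : irrOKB chevG2 [0,0] [0,1] = true := by decide +kernel
theorem irrOKB_B2 : irrOKB chevB2 [0,0] [0,1] = true := by decide +kernel
theorem irrOKB_D4 : irrOKB chevD4 [0,0,1,1] [0,1,2,2] = true := by decide +kernel
theorem irrOKB_F4 : irrOKB chevF4 [0,0,1,2] [0,1,2,3] = true := by decide +kernel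
theorem irrOKB_E6 : irrOKB chevE6 [0,3,0,2,3,4] [0,3,1,2,3,4] = true := by decide +kernel
theorem irrOKB_E7 : irrOKB chevE7 [0,3,0,2,3,4,5] [0,3,1,2,3,4,5] = true := by decide +kernel
theorem irrOKB_E8 : irrOKB chevE8 [0,3,0,2,3,4,5,6] [0,3,1,2,3,4,5,6] = true := by decide +kernel

theorem irrFacts_of_mem (D : ChevalleyDatum)
    (hD : D ∈ [chevG2, chevB2, chevD4, chevF4, chevE6, chevE7, chevE8]) : IrrFacts D := by
  exact mem_seven_cases (P := IrrFacts) (irrFacts_of_irrOKB _ _ _ irrOKB_G2)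
    (irrFacts_of_irrOKB _ _ _ irrOKB_B2) (irrFacts_of_irrOKB _ _ _ irrOKB_D4)
    (irrFacts_of_irrOKB _ _ _ irrOKB_F4) (irrFacts_of_irrOKB _ _ _ irrOKB_E6)
    (irrFacts_of_irrOKB _ _ _ irrOKB_E7) (irrFacts_of_irrOKB _ _ _ irrOKB_E8) D hD

end Cfsg.Agent.Lib.Helper7
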