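import Cfsg.Agent.Lib.Helper7.ChevLong0

/-! Longest elements of the parabolic subgroups `W_J` of the Weyl group: for every set `J` of fundamental
roots (given by a bit mask) a word in the reflections of `J` mapping the positive roots of `Φ_J` to negative
roots; boolean table check (helper7). -/

set_option autoImplicit false

namespace Cfsg.Agent.Lib.Helper7

open Cfsg Cfsg.Lie

/-- facts about the word `w` for the set of fundamental roots with bit mask `m` -/
structure JLongFacts (D : ChevalleyDatum) (m : ℕ) (w : List ℕ) : Prop where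
  lt : ∀ i ∈ w, i < D.rank ∧ m.testBit i = true
  posneg : ∀ s, D.IsPosRoot s →
    (∀ i < D.rank, m.testBit i = false → (D.coroot.getD s #[]).getD i 0 = 0) → D.IsNegRoot (actW D w s)
  simp : ∀ j < D.rank, m.testBit j = true → D.IsPosRoot (actW D w (D.neg (D.simple j)))

/-- the boolean check of `JLongFacts` for a whole table of words, one for each mask -/
def jlongB (D : ChevalleyDatum) (tab : List (List ℕ)) : Bool :=
  forceAll ((List.range D.rank).map fun i => packL ((List.range D.nroots).map (D.reflectRoot i))) fun Ws =>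
  withMask (packL ((List.range D.nroots).map fun s =>
      (if D.IsPosRoot s then 1 else 0) + (if D.IsNegRoot s then 2 else 0))) fun P =>
  withMask (packL ((List.range (D.nroots * D.rank)).map fun k =>
      if (D.coroot.getD (k / D.rank) #[]).getD (k % D.rank) 0 = 0 then 0 else 1)) fun Z =>
  forceAll ((List.range D.rank).map fun j => D.neg (D.simple j)) fun Ns =>
    (List.range D.rank).all (fun i => ((List.range D.nroots).map (D.reflectRoot i)).all fun a =>
      decide (a < D.nroots) && decide (a < 256)) &&
    (List.range D.rank).all (fun j => decide (D.neg (D.simple j) < D.nroots)) &&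
    (List.range (2 ^ D.rank)).all fun m =>
      (tab.getD m []).all (fun i => decide (i < D.rank) && m.testBit i) &&
      ((List.range D.nroots).all fun s =>
        P / 256 ^ s % 256 % 2 != 1 ||
        !((List.range D.rank).all fun i => m.testBit i || Z / 256 ^ (s * D.rank + i) % 256 == 0) ||
        P / 256 ^ (actT Ws (tab.getD m []) s) % 256 / 2 == 1) &&
      ((List.range D.rank).all fun j => !m.testBit j ||
        P / 256 ^ (actT Ws (tab.getD m []) (Ns.getD j 0)) % 256 % 2 == 1)

theorem jlongFacts_of_jlongB (D : ChevalleyDatum) (tab : List (List ℕ)) (h : jlongB D tab = true) :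
    ∀ m < 2 ^ D.rank, JLongFacts D m (tab.getD m []) := by
  unfold jlongB at h
  rw [forceAll_eq, withMask_eq, withMask_eq, forceAll_eq] at h
  simp only [Bool.and_eq_true, List.all_eq_true, decide_eq_true_eq, List.mem_range] at h
  obtain ⟨⟨hW, hN⟩, hmain⟩ := h
  have hWv : ∀ i < D.rank, ∀ v < D.nroots, D.reflectRoot i v < D.nroots ∧ D.reflectRoot i v < 256 := by
    intro i hi v hv
    apply hW i hi
    rw [List.mem_map]
    exact ⟨v, List.mem_range.mpr hv, rfl⟩
  have hacc : ∀ i < D.rank, ∀ v < D.nroots,
      ((List.range D.rank).map fun i => packL ((List.range D.nroots).map (D.reflectRoot i))).getD i 0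
        / 256 ^ v % 256 = D.reflectRoot i v := by
    intro i hi v hv
    rw [List.getD_eq_getElem _ _ (by simpa using hi)]
    simp only [List.getElem_map, List.getElem_range]
    rw [packL_access]
    · rw [List.getD_eq_getElem _ _ (by simpa using hv)]
      simp
    · intro a ha
      rw [List.mem_map] at ha
      obtain ⟨b, hb, rfl⟩ := ha
      exact (hWv i hi b (List.mem_range.mp hb)).2
  set Ws := (List.range D.rank).map fun i => packL ((List.range D.nroots).map (D.reflectRoot i)) with hWs
  have hact : ∀ (w' : List ℕ), (∀ i ∈ w', i < D.rank) → ∀ s < D.nroots,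
      actT Ws w' s = actW D w' s ∧ actW D w' s < D.nroots := by
    intro w'
    induction w' with
    | nil => intro _ s hs; exact ⟨rfl, hs⟩
    | cons i w' ih =>
      intro hlt s hs
      have hi : i < D.rank := hlt i (List.mem_cons_self ..)
      obtain ⟨e1, e2⟩ := ih (fun j hj => hlt j (List.mem_cons_of_mem _ hj)) s hs
      constructor
      · show Ws.getD i 0 / 256 ^ (actT Ws w' s) % 256 = D.reflectRoot i (actW D w' s)
        rw [e1, hacc i hi _ e2]
      · exact (hWv i hi _ e2).1
  set L := (List.range D.nroots).map fun s =>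
      (if D.IsPosRoot s then 1 else 0) + (if D.IsNegRoot s then 2 else 0) with hL
  have hP : ∀ s < D.nroots, packL L / 256 ^ s % 256 =
      (if D.IsPosRoot s then 1 else 0) + (if D.IsNegRoot s then 2 else 0) := by
    intro s hs
    rw [packL_access]
    · rw [List.getD_eq_getElem _ _ (by simpa [hL] using hs)]
      simp [hL]
    · intro a ha
      rw [hL, List.mem_map] at ha
      obtain ⟨b, _, rfl⟩ := ha
      split_ifs <;> norm_num
  have hposI : ∀ s < D.nroots, (packL L / 256 ^ s % 256 % 2 = 1 ↔ D.IsPosRoot s) := by
    intro s hs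
    rw [hP s hs]
    split_ifs <;> simp_all
  have hnegI : ∀ s < D.nroots, (packL L / 256 ^ s % 256 / 2 = 1 ↔ D.IsNegRoot s) := by
    intro s hs
    rw [hP s hs]
    split_ifs <;> simp_all
  set LZ := (List.range (D.nroots * D.rank)).map fun k =>
      if (D.coroot.getD (k / D.rank) #[]).getD (k % D.rank) 0 = 0 then 0 else 1 with hLZ
  have hZ : ∀ s < D.nroots, ∀ i < D.rank, (packL LZ / 256 ^ (s * D.rank + i) % 256 = 0 ↔
      (D.coroot.getD s #[]).getD i 0 = 0) := by
    intro s hs i hi
    have hk : s * D.rank + i < D.nroots * D.rank := by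
      calc s * D.rank + i < s * D.rank + D.rank := by omega
        _ = (s + 1) * D.rank := by ring
        _ ≤ D.nroots * D.rank := Nat.mul_le_mul_right _ hs
    have hrpos : 0 < D.rank := by omega
    have e1 : (s * D.rank + i) / D.rank = s := by
      rw [Nat.add_comm, Nat.add_mul_div_right _ _ hrpos, Nat.div_eq_of_lt hi, Nat.zero_add]
    have e2 : (s * D.rank + i) % D.rank = i := by
      rw [Nat.add_comm, Nat.add_mul_mod_self_right, Nat.mod_eq_of_lt hi]
    rw [packL_access]
    · rw [List.getD_eq_getElem _ _ (by simpa [hLZ] using hk)]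
      simp only [hLZ, List.getElem_map, List.getElem_range, e1, e2]
      split_ifs with h0
      · exact ⟨fun _ => h0, fun _ => rfl⟩
      · exact ⟨fun h => absurd h (by norm_num), fun h => absurd h h0⟩
    · intro a ha
      rw [hLZ, List.mem_map] at ha
      obtain ⟨b, _, rfl⟩ := ha
      split_ifs <;> norm_num
  have hNs : ∀ j < D.rank, ((List.range D.rank).map fun j => D.neg (D.simple j)).getD j 0 =
      D.neg (D.simple j) := by
    intro j hj
    rw [List.getD_eq_getElem _ _ (by simpa using hj)]
    simp
  intro m hm
  obtain ⟨⟨hw, hpn⟩, hsp⟩ := hmain m hm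
  have hw' : ∀ i ∈ tab.getD m [], i < D.rank := fun i hi => (hw i hi).1
  refine ⟨hw, ?_, ?_⟩
  · intro s hs hsupp
    have hs' : s < D.nroots := hs.1
    have h1 := hpn s hs'
    obtain ⟨e1, e2⟩ := hact _ hw' s hs'
    rw [e1] at h1
    rw [Bool.or_eq_true, Bool.or_eq_true, bne_iff_ne, beq_iff_eq, Bool.not_eq_true',
      List.all_eq_false] at h1
    rcases h1 with (h1 | h1) | h1
    · exact absurd ((hposI s hs').mpr hs) h1
    · exfalso
      obtain ⟨i, hi, h2⟩ := h1
      rw [List.mem_range] at hi
      rw [Bool.or_eq_true, beq_iff_eq, not_or] at h2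
      obtain ⟨h3, h4⟩ := h2
      have h5 : m.testBit i = false := by simpa using h3
      exact h4 ((hZ s hs' i hi).mpr (hsupp i hi h5))
    · exact (hnegI _ e2).mp h1
  · intro j hj hmj
    have h1 := hsp j hj
    rw [hNs j hj] at h1
    have hn : D.neg (D.simple j) < D.nroots := hN j hj
    obtain ⟨e1, e2⟩ := hact _ hw' _ hn
    rw [e1] at h1
    rw [Bool.or_eq_true, beq_iff_eq, Bool.not_eq_true'] at h1
    rcases h1 with h1 | h1
    · rw [hmj] at h1; exact absurd h1 (by simp)
    · exact (hposI _ e2).mp h1

/-- every set of indices below `n` has a bit mask -/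
theorem exists_mask (J : Set ℕ) : ∀ n : ℕ, ∃ m < 2 ^ n, ∀ i < n, (m.testBit i = true ↔ i ∈ J) := by
  classical
  intro n
  induction n with
  | zero => exact ⟨0, by norm_num, fun i hi => absurd hi (by omega)⟩
  | succ n ih =>
    obtain ⟨m, hm, hmi⟩ := ih
    by_cases hn : n ∈ J
    · refine ⟨2 ^ n + m, by rw [pow_succ]; omega, ?_⟩
      intro i hi
      rcases Nat.lt_succ_iff_lt_or_eq.mp hi with h | h
      · rw [Nat.testBit_two_pow_add_gt h]; exact hmi i h
      · subst h
        rw [Nat.testBit_two_pow_add_eq, Nat.testBit_lt_two_pow hm]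
        simp [hn]
    · refine ⟨m, by rw [pow_succ]; omega, ?_⟩
      intro i hi
      rcases Nat.lt_succ_iff_lt_or_eq.mp hi with h | h
      · exact hmi i h
      · subst h
        rw [Nat.testBit_lt_two_pow hm]
        simp [hn]

end Cfsg.Agent.Lib.Helper7
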