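import Cfsg.Agent.Lib.Helper7.ChevJLong0

/-! longest words of the parabolic subgroups `W_J`, all subsets `J`: table checks (helper7) -/

set_option autoImplicit false
set_option maxRecDepth 100000
namespace Cfsg.Agent.Lib.Helper7
open Cfsg Cfsg.Lie

def jlongTabG2 : List (List ℕ) := [[], [0], [1], [0, 1, 0, 1, 0, 1]]

theorem jlongB_G2 : jlongB chevG2 jlongTabG2 = true := by decide +kernel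

def jlongTabB2 : List (List ℕ) := [[], [0], [1], [0, 1, 0, 1]]

theorem jlongB_B2 : jlongB chevB2 jlongTabB2 = true := by decide +kernel

def jlongTabD4 : List (List ℕ) := [[], [0], [1], [0, 1, 0], [2], [0, 2], [1, 2, 1], [0, 1, 0, 2, 1, 0], [3], [0, 3], [1, 3, 1], [0, 1, 0, 3, 1, 0], [2, 3], [0, 2, 3], [1, 2, 1, 3, 1, 2], [0, 1, 0, 2, 1, 0, 3, 1, 0, 2, 1, 3]]

theorem jlongB_D4 : jlongB chevD4 jlongTabD4 = true := by decide +kernel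

def jlongTabF4 : List (List ℕ) := [[], [0], [1], [0, 1, 0], [2], [0, 2], [1, 2, 1, 2], [0, 1, 0, 2, 1, 0, 2, 1, 2], [3], [0, 3], [1, 3], [0, 1, 0, 3], [2, 3, 2], [0, 2, 3, 2], [1, 2, 1, 2, 3, 2, 1, 2, 3], [0, 1, 0, 2, 1, 0, 2, 1, 2, 3, 2, 1, 0, 2, 1, 2, 3, 2, 1, 0, 2, 1, 2, 3]]

theorem jlongB_F4 : jlongB chevF4 jlongTabF4 = true := by decide +kernel

def jlongTabE6 : List (List ℕ) := [[], [0], [1], [0, 1], [2], [0, 2, 0], [1, 2], [0, 1, 2, 0], [3], [0, 3], [1, 3, 1], [0, 1, 3, 1], [2, 3, 2], [0, 2, 0, 3, 2, 0], [1, 2, 3, 1, 2, 3], [0, 1, 2, 0, 3, 1, 2, 0, 3, 2], [4], [0, 4], [1, 4], [0, 1, 4], [2, 4], [0, 2, 0, 4], [1, 2, 4], [0, 1, 2, 0, 4], [3, 4, 3], [0, 3, 4, 3], [1, 3, 1, 4, 3, 1], [0, 1, 3, 1, 4, 3, 1], [2, 3, 2, 4, 3, 2], [0, 2, 0, 3, 2, 0, 4, 3, 2, 0], [1,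 2, 3, 1, 2, 3, 4, 3, 1, 2, 3, 4], [0, 1, 2, 0, 3, 1, 2, 0, 3, 2, 4, 3, 1, 2, 0, 3, 2, 4, 3, 1], [5], [0, 5], [1, 5], [0, 1, 5], [2, 5], [0, 2, 0, 5], [1, 2, 5], [0, 1, 2, 0, 5], [3, 5], [0, 3, 5], [1, 3, 1, 5], [0, 1, 3, 1, 5], [2, 3, 2, 5], [0, 2, 0, 3, 2, 0, 5], [1, 2, 3, 1, 2, 3, 5], [0, 1, 2, 0, 3, 1, 2, 0, 3, 2, 5], [4, 5, 4], [0, 4, 5, 4], [1, 4, 5, 4], [0, 1, 4, 5, 4], [2, 4, 5, 4], [0, 2, 0, 4, 5, 4], [1, 2, 4, 5, 4], [0, 1, 2, 0, 4, 5, 4], [3, 4, 3, 5, 4, 3], [0, 3, 4, 3, 5, 4, 3], [1, 3, 1, 4, 3, 1, 5, 4, 3, 1], [0, 1, 3, 1, 4, 3, 1, 5, 4, 3, 1], [2, 3, 2, 4, 3, 2, 5, 4, 3, 2], [0, 2, 0, 3, 2, 0, 4, 3, 2, 0, 5, 4, 3, 2, 0], [1, 2, 3, 1, 2, 3, 4, 3, 1, 2, 3, 4, 5, 4, 3, 1, 2, 3, 4, 5], [0, 1, 2, 0, 3, 1, 2, 0, 3, 2, 4, 3, 1, 2, 0, 3, 2, 4, 3, 1, 5, 4, 3, 1,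 2, 0, 3, 2, 4, 3, 1, 5, 4, 3, 2, 0]]

theorem jlongB_E6 : jlongB chevE6 jlongTabE6 = true := by decide +kernel

end Cfsg.Agent.Lib.Helper7
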