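import Cfsg.Agent.Lib.Helper7.ChevJLong0

/-! longest words of the parabolic subgroups `W_J`, all subsets `J`: table checks (helper7) -/

set_option autoImplicit false
set_option maxRecDepth 100000
namespace Cfsg.Agent.Lib.Helper7
open Cfsg Cfsg.Lie

def jlongTabE8 : List (List ℕ) := [[], [0], [1], [0, 1], [2], [0, 2, 0], [1, 2], [0, 1, 2, 0], [3], [0, 3], [1, 3, 1], [0, 1, 3, 1], [2, 3, 2], [0, 2, 0, 3, 2, 0], [1, 2, 3, 1, 2, 3], [0, 1, 2, 0, 3, 1, 2, 0, 3, 2], [4], [0, 4], [1, 4], [0, 1, 4], [2, 4], [0, 2, 0, 4], [1, 2, 4], [0, 1, 2, 0, 4], [3, 4, 3], [0, 3, 4, 3], [1, 3, 1, 4, 3, 1], [0, 1, 3, 1, 4, 3, 1], [2, 3, 2, 4, 3, 2], [0, 2, 0, 3, 2, 0, 4, 3, 2, 0],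 [1, 2, 3, 1, 2, 3, 4, 3, 1, 2, 3, 4], [0, 1, 2, 0, 3, 1, 2, 0, 3, 2, 4, 3, 1, 2, 0, 3, 2, 4, 3, 1], [5], [0, 5], [1, 5], [0, 1, 5], [2, 5], [0, 2, 0, 5], [1, 2, 5], [0, 1, 2, 0, 5], [3, 5], [0, 3, 5], [1, 3, 1, 5], [0, 1, 3, 1, 5], [2, 3, 2, 5], [0, 2, 0, 3, 2, 0, 5], [1, 2, 3, 1, 2, 3, 5], [0, 1, 2, 0, 3, 1, 2, 0, 3, 2, 5], [4, 5, 4], [0, 4, 5, 4], [1, 4, 5, 4], [0, 1, 4, 5, 4], [2, 4, 5, 4], [0, 2, 0, 4, 5, 4], [1, 2, 4, 5, 4], [0, 1, 2, 0, 4, 5, 4], [3, 4, 3, 5, 4, 3], [0, 3, 4, 3, 5, 4, 3], [1, 3, 1, 4, 3, 1, 5, 4, 3, 1], [0, 1, 3, 1, 4, 3, 1, 5, 4, 3, 1], [2, 3, 2, 4, 3, 2, 5, 4, 3, 2], [0, 2, 0, 3, 2, 0, 4, 3, 2, 0, 5, 4, 3, 2, 0], [1, 2, 3, 1, 2, 3,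 4, 3, 1, 2, 3, 4, 5, 4, 3, 1, 2, 3, 4, 5], [0, 1, 2, 0, 3, 1, 2, 0, 3, 2, 4, 3, 1, 2, 0, 3, 2, 4, 3, 1, 5, 4, 3, 1, 2, 0, 3, 2, 4, 3, 1, 5, 4, 3, 2, 0], [6], [0, 6], [1, 6], [0, 1, 6], [2, 6], [0, 2, 0, 6], [1, 2, 6], [0, 1, 2, 0, 6], [3, 6], [0, 3, 6], [1, 3, 1, 6], [0, 1, 3, 1, 6], [2, 3, 2, 6], [0, 2, 0, 3, 2, 0, 6], [1, 2, 3, 1, 2, 3, 6], [0, 1, 2, 0, 3, 1, 2, 0, 3, 2, 6], [4, 6], [0, 4, 6], [1, 4, 6], [0, 1, 4, 6], [2, 4, 6], [0, 2, 0, 4, 6], [1, 2, 4, 6], [0, 1, 2, 0, 4, 6], [3, 4, 3, 6], [0, 3, 4, 3, 6], [1, 3, 1, 4, 3, 1, 6], [0, 1, 3, 1, 4, 3, 1, 6], [2, 3, 2, 4, 3, 2, 6], [0, 2, 0, 3, 2, 0, 4, 3, 2, 0, 6], [1, 2, 3, 1, 2, 3, 4, 3, 1, 2, 3, 4, 6],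 [0, 1, 2, 0, 3, 1, 2, 0, 3, 2, 4, 3, 1, 2, 0, 3, 2, 4, 3, 1, 6], [5, 6, 5], [0, 5, 6, 5], [1, 5, 6, 5], [0, 1, 5, 6, 5], [2, 5, 6, 5], [0, 2, 0, 5, 6, 5], [1, 2, 5, 6, 5], [0, 1, 2, 0, 5, 6, 5], [3, 5, 6, 5], [0, 3, 5, 6, 5], [1, 3, 1, 5, 6, 5], [0, 1, 3, 1, 5, 6, 5], [2, 3, 2, 5, 6, 5], [0, 2, 0, 3, 2, 0, 5, 6, 5], [1, 2, 3, 1, 2, 3, 5, 6, 5], [0, 1, 2, 0, 3, 1, 2, 0, 3, 2, 5, 6, 5], [4, 5, 4, 6, 5, 4], [0, 4, 5, 4, 6, 5, 4], [1, 4, 5, 4, 6, 5, 4], [0, 1, 4, 5, 4, 6, 5, 4], [2, 4, 5, 4, 6, 5, 4], [0, 2, 0, 4, 5, 4, 6, 5, 4], [1, 2, 4, 5, 4, 6, 5, 4], [0, 1, 2, 0, 4, 5, 4, 6, 5, 4], [3, 4, 3, 5, 4, 3, 6, 5, 4, 3], [0, 3, 4, 3, 5, 4, 3, 6, 5, 4, 3], [1, 3, 1,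 4, 3, 1, 5, 4, 3, 1, 6, 5, 4, 3, 1], [0, 1, 3, 1, 4, 3, 1, 5, 4, 3, 1, 6, 5, 4, 3, 1], [2, 3, 2, 4, 3, 2, 5, 4, 3, 2, 6, 5, 4, 3, 2], [0, 2, 0, 3, 2, 0, 4, 3, 2, 0, 5, 4, 3, 2, 0, 6, 5, 4, 3, 2, 0], [1, 2, 3, 1, 2, 3, 4, 3, 1, 2, 3, 4, 5, 4, 3, 1, 2, 3, 4, 5, 6, 5, 4, 3, 1, 2, 3, 4, 5, 6], [0, 1, 2, 0, 3, 1, 2, 0, 3, 2, 4, 3, 1, 2, 0, 3, 2, 4, 3, 1, 5, 4, 3, 1, 2, 0, 3, 2, 4, 3, 1, 5, 4, 3, 2, 0, 6, 5, 4, 3, 1, 2, 0, 3, 2, 4, 3, 1, 5, 4, 3, 2, 0, 6, 5, 4, 3, 1, 2, 3, 4, 5, 6], [7], [0, 7], [1, 7], [0, 1, 7], [2, 7], [0, 2, 0, 7], [1, 2, 7], [0, 1, 2, 0, 7], [3, 7], [0, 3, 7], [1, 3, 1, 7], [0, 1, 3, 1, 7], [2, 3, 2, 7], [0, 2, 0, 3, 2, 0, 7], [1, 2, 3, 1, 2,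 3, 7], [0, 1, 2, 0, 3, 1, 2, 0, 3, 2, 7], [4, 7], [0, 4, 7], [1, 4, 7], [0, 1, 4, 7], [2, 4, 7], [0, 2, 0, 4, 7], [1, 2, 4, 7], [0, 1, 2, 0, 4, 7], [3, 4, 3, 7], [0, 3, 4, 3, 7], [1, 3, 1, 4, 3, 1, 7], [0, 1, 3, 1, 4, 3, 1, 7], [2, 3, 2, 4, 3, 2, 7], [0, 2, 0, 3, 2, 0, 4, 3, 2, 0, 7], [1, 2, 3, 1, 2, 3, 4, 3, 1, 2, 3, 4, 7], [0, 1, 2, 0, 3, 1, 2, 0, 3, 2, 4, 3, 1, 2, 0, 3, 2, 4, 3, 1, 7], [5, 7], [0, 5, 7], [1, 5, 7], [0, 1, 5, 7], [2, 5, 7], [0, 2, 0, 5, 7], [1, 2, 5, 7], [0, 1, 2, 0, 5, 7], [3, 5, 7], [0, 3, 5, 7], [1, 3, 1, 5, 7], [0, 1, 3, 1, 5, 7], [2, 3, 2, 5, 7], [0, 2, 0, 3, 2, 0, 5, 7], [1, 2, 3, 1, 2, 3, 5, 7], [0, 1, 2, 0, 3, 1, 2, 0, 3, 2, 5, 7],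 [4, 5, 4, 7], [0, 4, 5, 4, 7], [1, 4, 5, 4, 7], [0, 1, 4, 5, 4, 7], [2, 4, 5, 4, 7], [0, 2, 0, 4, 5, 4, 7], [1, 2, 4, 5, 4, 7], [0, 1, 2, 0, 4, 5, 4, 7], [3, 4, 3, 5, 4, 3, 7], [0, 3, 4, 3, 5, 4, 3, 7], [1, 3, 1, 4, 3, 1, 5, 4, 3, 1, 7], [0, 1, 3, 1, 4, 3, 1, 5, 4, 3, 1, 7], [2, 3, 2, 4, 3, 2, 5, 4, 3, 2, 7], [0, 2, 0, 3, 2, 0, 4, 3, 2, 0, 5, 4, 3, 2, 0, 7], [1, 2, 3, 1, 2, 3, 4, 3, 1, 2, 3, 4, 5, 4, 3, 1, 2, 3, 4, 5, 7], [0, 1, 2, 0, 3, 1, 2, 0, 3, 2, 4, 3, 1, 2, 0, 3, 2, 4, 3, 1, 5, 4, 3, 1, 2, 0, 3, 2, 4, 3, 1, 5, 4, 3, 2, 0, 7], [6, 7, 6], [0, 6, 7, 6], [1, 6, 7, 6], [0, 1, 6, 7, 6], [2, 6, 7, 6], [0, 2, 0, 6, 7, 6], [1, 2, 6, 7, 6], [0, 1, 2, 0, 6, 7,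 6], [3, 6, 7, 6], [0, 3, 6, 7, 6], [1, 3, 1, 6, 7, 6], [0, 1, 3, 1, 6, 7, 6], [2, 3, 2, 6, 7, 6], [0, 2, 0, 3, 2, 0, 6, 7, 6], [1, 2, 3, 1, 2, 3, 6, 7, 6], [0, 1, 2, 0, 3, 1, 2, 0, 3, 2, 6, 7, 6], [4, 6, 7, 6], [0, 4, 6, 7, 6], [1, 4, 6, 7, 6], [0, 1, 4, 6, 7, 6], [2, 4, 6, 7, 6], [0, 2, 0, 4, 6, 7, 6], [1, 2, 4, 6, 7, 6], [0, 1, 2, 0, 4, 6, 7, 6], [3, 4, 3, 6, 7, 6], [0, 3, 4, 3, 6, 7, 6], [1, 3, 1, 4, 3, 1, 6, 7, 6], [0, 1, 3, 1, 4, 3, 1, 6, 7, 6], [2, 3, 2, 4, 3, 2, 6, 7, 6], [0, 2, 0, 3, 2, 0, 4, 3, 2, 0, 6, 7, 6], [1, 2, 3, 1, 2, 3, 4, 3, 1, 2, 3, 4, 6, 7, 6], [0, 1, 2, 0, 3, 1, 2, 0, 3, 2, 4, 3, 1, 2, 0, 3, 2, 4, 3, 1, 6, 7, 6], [5, 6, 5, 7, 6, 5], [0,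 5, 6, 5, 7, 6, 5], [1, 5, 6, 5, 7, 6, 5], [0, 1, 5, 6, 5, 7, 6, 5], [2, 5, 6, 5, 7, 6, 5], [0, 2, 0, 5, 6, 5, 7, 6, 5], [1, 2, 5, 6, 5, 7, 6, 5], [0, 1, 2, 0, 5, 6, 5, 7, 6, 5], [3, 5, 6, 5, 7, 6, 5], [0, 3, 5, 6, 5, 7, 6, 5], [1, 3, 1, 5, 6, 5, 7, 6, 5], [0, 1, 3, 1, 5, 6, 5, 7, 6, 5], [2, 3, 2, 5, 6, 5, 7, 6, 5], [0, 2, 0, 3, 2, 0, 5, 6, 5, 7, 6, 5], [1, 2, 3, 1, 2, 3, 5, 6, 5, 7, 6, 5], [0, 1, 2, 0, 3, 1, 2, 0, 3, 2, 5, 6, 5, 7, 6, 5], [4, 5, 4, 6, 5, 4, 7, 6, 5, 4], [0, 4, 5, 4, 6, 5, 4, 7, 6, 5, 4], [1, 4, 5, 4, 6, 5, 4, 7, 6, 5, 4], [0, 1, 4, 5, 4, 6, 5, 4, 7, 6, 5, 4], [2, 4, 5, 4, 6, 5, 4, 7, 6, 5, 4], [0, 2, 0, 4, 5, 4, 6, 5, 4, 7, 6, 5, 4], [1, 2,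 4, 5, 4, 6, 5, 4, 7, 6, 5, 4], [0, 1, 2, 0, 4, 5, 4, 6, 5, 4, 7, 6, 5, 4], [3, 4, 3, 5, 4, 3, 6, 5, 4, 3, 7, 6, 5, 4, 3], [0, 3, 4, 3, 5, 4, 3, 6, 5, 4, 3, 7, 6, 5, 4, 3], [1, 3, 1, 4, 3, 1, 5, 4, 3, 1, 6, 5, 4, 3, 1, 7, 6, 5, 4, 3, 1], [0, 1, 3, 1, 4, 3, 1, 5, 4, 3, 1, 6, 5, 4, 3, 1, 7, 6, 5, 4, 3, 1], [2, 3, 2, 4, 3, 2, 5, 4, 3, 2, 6, 5, 4, 3, 2, 7, 6, 5, 4, 3, 2], [0, 2, 0, 3, 2, 0, 4, 3, 2, 0, 5, 4, 3, 2, 0, 6, 5, 4, 3, 2, 0, 7, 6, 5, 4, 3, 2, 0], [1, 2, 3, 1, 2, 3, 4, 3, 1, 2, 3, 4, 5, 4, 3, 1, 2, 3, 4, 5, 6, 5, 4, 3, 1, 2, 3, 4, 5, 6, 7, 6, 5, 4, 3, 1, 2, 3, 4, 5, 6, 7], [0, 1, 2, 0, 3, 1, 2, 0, 3, 2, 4, 3, 1, 2, 0, 3, 2, 4, 3, 1, 5, 4, 3, 1, 2, 0, 3,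 2, 4, 3, 1, 5, 4, 3, 2, 0, 6, 5, 4, 3, 1, 2, 0, 3, 2, 4, 3, 1, 5, 4, 3, 2, 0, 6, 5, 4, 3, 1, 2, 3, 4, 5, 6, 7, 6, 5, 4, 3, 1, 2, 0, 3, 2, 4, 3, 1, 5, 4, 3, 2, 0, 6, 5, 4, 3, 1, 2, 3, 4, 5, 6, 7, 6, 5, 4, 3, 1, 2, 0, 3, 2, 4, 3, 1, 5, 4, 3, 2, 0, 6, 5, 4, 3, 1, 2, 3, 4, 5, 6, 7]]

theorem jlongB_E8 : jlongB chevE8 jlongTabE8 = true := by decide +kernel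

end Cfsg.Agent.Lib.Helper7
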