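import Cfsg.Agent.Lib.Helper7.ChevDiag
import Cfsg.Agent.Lib.Helper7.ChevComm2
import Cfsg.Agent.Lib.Helper7.Unitriangular

/-! Additive functionals on the tabulated root systems: additivity on the terms of the commutator
formula and the induced gradings of the root elements (helper7). -/

set_option autoImplicit false

namespace Cfsg.Agent.Lib.Helper7

open Cfsg Cfsg.Lie Matrix

/-- the integer functional `r ↦ Σ_k w_k ⟨r, p_k^∨⟩` -/
def linF (D : ChevalleyDatum) (w : List ℤ) (r : ℕ) : ℤ :=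
  ((List.range D.rank).map fun k => w.getD k 0 * D.cartan k r).sum

theorem ccAll_exp_pos (D : ChevalleyDatum) (r s : ℕ) : ∀ x ∈ ccAll D r s, 1 ≤ x.2.1 := by
  intro x hx
  unfold ccAll entryList at hx
  simp only [List.mem_flatMap, List.mem_map] at hx
  obtain ⟨e, -, q, -, rfl⟩ := hx
  simp

theorem mem_commTerms_cases (D : ChevalleyDatum) (r s : ℕ) (c : ℕ × ℤ × ℕ × ℕ)
    (hc : c ∈ D.commTerms r s) :
    (D.chainRoot r s 1 = some c.1 ∧ c.2.2 = (1, 1)) ∨ (D.chainRoot r s 2 = some c.1 ∧ c.2.2 = (2, 1)) ∨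
    (D.chainRoot s r 2 = some c.1 ∧ c.2.2 = (1, 2)) ∨ (D.chainRoot r s 3 = some c.1 ∧ c.2.2 = (3, 1)) ∨
    (D.chainRoot s r 3 = some c.1 ∧ c.2.2 = (1, 3)) ∨
    (∃ k, D.chainRoot r s 3 = some k ∧ D.chainRoot k s 1 = some c.1 ∧ c.2.2 = (3, 2)) ∨
    (∃ k, D.chainRoot s r 3 = some k ∧ D.chainRoot k r 1 = some c.1 ∧ c.2.2 = (2, 3)) := by
  unfold ChevalleyDatum.commTerms at hc
  simp only [List.mem_filterMap, List.mem_cons, List.not_mem_nil, or_false] at hc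
  obtain ⟨cand, hcand, hmap⟩ := hc
  rw [Option.map_eq_some_iff] at hmap
  obtain ⟨k, hk, rfl⟩ := hmap
  rcases hcand with rfl | rfl | rfl | rfl | rfl | rfl | rfl
  · exact Or.inl ⟨hk, rfl⟩
  · exact Or.inr (Or.inl ⟨hk, rfl⟩)
  · exact Or.inr (Or.inr (Or.inl ⟨hk, rfl⟩))
  · exact Or.inr (Or.inr (Or.inr (Or.inl ⟨hk, rfl⟩)))
  · exact Or.inr (Or.inr (Or.inr (Or.inr (Or.inl ⟨hk, rfl⟩))))
  · simp only [Option.bind_eq_some_iff] at hk
    obtain ⟨k', hk', hk''⟩ := hk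
    exact Or.inr (Or.inr (Or.inr (Or.inr (Or.inr (Or.inl ⟨k', hk', hk'', rfl⟩)))))
  · simp only [Option.bind_eq_some_iff] at hk
    obtain ⟨k', hk', hk''⟩ := hk
    exact Or.inr (Or.inr (Or.inr (Or.inr (Or.inr (Or.inr ⟨k', hk', hk'', rfl⟩)))))

section
variable (D : ChevalleyDatum) (hD : D ∈ [chevG2, chevB2, chevD4, chevF4, chevE6, chevE7, chevE8])
include hD

theorem chainAdd_linF (w : List ℤ) : ChainAdd D (linF D w) :=
  chainAdd_listSum D (List.range D.rank) (fun k => w.getD k 0) (fun k => D.cartan k)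
    (fun k hk => chainAdd_cartan D k (hxFacts_of_mem D hD k (List.mem_range.mp hk)))

theorem chainRoot_mem_ccAll (r s i k : ℕ) (hr : r < D.nroots) (hi : 1 ≤ i)
    (h : D.chainRoot r s i = some k) : ∃ M, (k, i, M) ∈ ccAll D r s := by
  unfold ChevalleyDatum.chainRoot at h
  rw [Option.map_eq_some_iff] at h
  obtain ⟨p, hp, rfl⟩ := h
  refine ⟨p.2, ?_⟩
  rw [ccAll_eq_chainEntry D r s (keys_nodup D hD r hr), List.mem_map]
  refine ⟨(p, i - 1), ?_, ?_⟩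
  · rw [List.mk_mem_zipIdx_iff_getElem?]
    exact hp
  · have : i - 1 + 1 = i := by omega
    simp [this]

theorem ChainAdd.chainRoot {A : ℕ → ℤ} (hA : ChainAdd D A) (r s i k : ℕ) (hr : r < D.nroots)
    (hs : s < D.nroots) (hi : 1 ≤ i) (h : D.chainRoot r s i = some k) :
    k < D.nroots ∧ A k = A s + i * A r := by
  obtain ⟨M, hM⟩ := chainRoot_mem_ccAll D hD r s i k hr hi h
  have hk : k < D.nroots := ((addHyp_of_addOKB D (addOKB_of_mem D hD) r hr).2.1 s _ hM).1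
  exact ⟨hk, hA.addA r hr s hs _ hM hk⟩

/-- an additive functional is additive on the terms of the commutator formula -/
theorem ChainAdd.commTerms {A : ℕ → ℤ} (hA : ChainAdd D A) (r s : ℕ) (hr : r < D.nroots)
    (hs : s < D.nroots) : ∀ c ∈ D.commTerms r s, c.1 < D.nroots ∧ 1 ≤ c.2.2.1 ∧ 1 ≤ c.2.2.2 ∧
      A c.1 = c.2.2.1 * A r + c.2.2.2 * A s := by
  intro c hc
  rcases mem_commTerms_cases D r s c hc with ⟨h, h'⟩ | ⟨h, h'⟩ | ⟨h, h'⟩ | ⟨h, h'⟩ | ⟨h, h'⟩ |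
    ⟨k, hk, h, h'⟩ | ⟨k, hk, h, h'⟩
  · obtain ⟨h1, h2⟩ := hA.chainRoot D hD r s 1 _ hr hs le_rfl h
    rw [h']; refine ⟨h1, le_rfl, le_rfl, ?_⟩; rw [h2]; push_cast; ring
  · obtain ⟨h1, h2⟩ := hA.chainRoot D hD r s 2 _ hr hs (by norm_num) h
    rw [h']; refine ⟨h1, by norm_num, le_rfl, ?_⟩; rw [h2]; push_cast; ring
  · obtain ⟨h1, h2⟩ := hA.chainRoot D hD s r 2 _ hs hr (by norm_num) h
    rw [h']; refine ⟨h1, le_rfl, by norm_num, ?_⟩; rw [h2]; push_cast; ring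
  · obtain ⟨h1, h2⟩ := hA.chainRoot D hD r s 3 _ hr hs (by norm_num) h
    rw [h']; refine ⟨h1, by norm_num, le_rfl, ?_⟩; rw [h2]; push_cast; ring
  · obtain ⟨h1, h2⟩ := hA.chainRoot D hD s r 3 _ hs hr (by norm_num) h
    rw [h']; refine ⟨h1, le_rfl, by norm_num, ?_⟩; rw [h2]; push_cast; ring
  · obtain ⟨hk1, hk2⟩ := hA.chainRoot D hD r s 3 _ hr hs (by norm_num) hk
    obtain ⟨h1, h2⟩ := hA.chainRoot D hD k s 1 _ hk1 hs le_rfl h
    rw [h']; refine ⟨h1, by norm_num, by norm_num, ?_⟩; rw [h2, hk2]; push_cast; ring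
  · obtain ⟨hk1, hk2⟩ := hA.chainRoot D hD s r 3 _ hs hr (by norm_num) hk
    obtain ⟨h1, h2⟩ := hA.chainRoot D hD k r 1 _ hk1 hr le_rfl h
    rw [h']; refine ⟨h1, by norm_num, by norm_num, ?_⟩; rw [h2, hk2]; push_cast; ring

end

end Cfsg.Agent.Lib.Helper7
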