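import Cfsg.Agent.Lib.Helper7.ChevRefl

/-! Words in the fundamental reflections `n_p`, their action on root elements, and the longest
element: `n₀ U n₀⁻¹ = V` (helper7). -/

set_option autoImplicit false

namespace Cfsg.Agent.Lib.Helper7

open Cfsg Cfsg.Lie Matrix

/-- the action of the word `w_{i₁} ⋯ w_{i_k}` of fundamental reflections on root indices -/
def actW (D : ChevalleyDatum) (w : List ℕ) (s : ℕ) : ℕ := w.foldr (fun i s => D.reflectRoot i s) s

/-- the same on packed tables -/
def actT (Ws : List ℕ) (w : List ℕ) (s : ℕ) : ℕ := w.foldr (fun i s => Ws.getD i 0 / 256 ^ s % 256) s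

/-- the word `w` maps positive roots to negative roots and conversely -/
structure LongFacts (D : ChevalleyDatum) (w : List ℕ) : Prop where
  lt : ∀ i ∈ w, i < D.rank
  posneg : ∀ s, D.IsPosRoot s → D.IsNegRoot (actW D w s)
  negpos : ∀ s, D.IsNegRoot s → ∃ r, D.IsPosRoot r ∧ actW D w r = s

/-- the boolean check for `LongFacts` -/
def longB (D : ChevalleyDatum) (w : List ℕ) : Bool :=
  forceAll ((List.range D.rank).map fun i => packL ((List.range D.nroots).map (D.reflectRoot i))) fun Ws =>
  withMask (packL ((List.range D.nroots).map fun s =>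
      (if D.IsPosRoot s then 1 else 0) + (if D.IsNegRoot s then 2 else 0))) fun P =>
    (List.range D.rank).all (fun i => ((List.range D.nroots).map (D.reflectRoot i)).all fun a =>
      decide (a < D.nroots) && decide (a < 256)) &&
    w.all (fun i => decide (i < D.rank)) &&
    (List.range D.nroots).all fun s =>
      (P / 256 ^ s % 256 % 2 != 1 || P / 256 ^ (actT Ws w s) % 256 / 2 == 1) &&
      (P / 256 ^ s % 256 / 2 != 1 || (P / 256 ^ (actT Ws w s) % 256 % 2 == 1 && actT Ws w (actT Ws w s) == s))

theorem longFacts_of_longB (D : ChevalleyDatum) (w : List ℕ) (h : longB D w = true) : LongFacts D w := by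
  unfold longB at h
  rw [forceAll_eq, withMask_eq] at h
  simp only [Bool.and_eq_true, List.all_eq_true, decide_eq_true_eq, List.mem_range] at h
  obtain ⟨⟨hW, hw⟩, hmain⟩ := h
  have hWv : ∀ i < D.rank, ∀ v < D.nroots, D.reflectRoot i v < D.nroots ∧ D.reflectRoot i v < 256 := by
    intro i hi v hv
    apply hW i hi
    rw [List.mem_map]
    exact ⟨v, List.mem_range.mpr hv, rfl⟩
  have hacc : ∀ i < D.rank, ∀ v < D.nroots,
      ((List.range D.rank).map fun i => packL ((List.range D.nroots).map (D.reflectRoot i))).getD i 0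
        / 256 ^ v % 256 = D.reflectRoot i v := by
    intro i hi v hv
    rw [List.getD_eq_getElem _ _ (by simpa using hi)]
    simp only [List.getElem_map, List.getElem_range]
    rw [packL_access]
    · rw [List.getD_eq_getElem _ _ (by simpa using hv)]
      simp
    · intro a ha
      rw [List.mem_map] at ha
      obtain ⟨b, hb, rfl⟩ := ha
      exact (hWv i hi b (List.mem_range.mp hb)).2
  set Ws := (List.range D.rank).map fun i => packL ((List.range D.nroots).map (D.reflectRoot i)) with hWs
  have hact : ∀ (w' : List ℕ), (∀ i ∈ w', i < D.rank) → ∀ s < D.nroots,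
      actT Ws w' s = actW D w' s ∧ actW D w' s < D.nroots := by
    intro w'
    induction w' with
    | nil => intro _ s hs; exact ⟨rfl, hs⟩
    | cons i w' ih =>
      intro hlt s hs
      have hi : i < D.rank := hlt i (List.mem_cons_self ..)
      obtain ⟨e1, e2⟩ := ih (fun j hj => hlt j (List.mem_cons_of_mem _ hj)) s hs
      constructor
      · show Ws.getD i 0 / 256 ^ (actT Ws w' s) % 256 = D.reflectRoot i (actW D w' s)
        rw [e1, hacc i hi _ e2]
      · exact (hWv i hi _ e2).1
  set L := (List.range D.nroots).map fun s =>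
      (if D.IsPosRoot s then 1 else 0) + (if D.IsNegRoot s then 2 else 0) with hL
  have hP : ∀ s < D.nroots, packL L / 256 ^ s % 256 =
      (if D.IsPosRoot s then 1 else 0) + (if D.IsNegRoot s then 2 else 0) := by
    intro s hs
    rw [packL_access]
    · rw [List.getD_eq_getElem _ _ (by simpa [hL] using hs)]
      simp [hL]
    · intro a ha
      rw [hL, List.mem_map] at ha
      obtain ⟨b, _, rfl⟩ := ha
      split_ifs <;> norm_num
  have hposI : ∀ s < D.nroots, (packL L / 256 ^ s % 256 % 2 = 1 ↔ D.IsPosRoot s) := by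
    intro s hs
    rw [hP s hs]
    split_ifs <;> simp_all
  have hnegI : ∀ s < D.nroots, (packL L / 256 ^ s % 256 / 2 = 1 ↔ D.IsNegRoot s) := by
    intro s hs
    rw [hP s hs]
    split_ifs <;> simp_all
  have hw' : ∀ i ∈ w, i < D.rank := hw
  refine ⟨hw', ?_, ?_⟩
  · intro s hs
    have hs' : s < D.nroots := hs.1
    obtain ⟨h1, _⟩ := hmain s hs'
    obtain ⟨e1, e2⟩ := hact w hw' s hs'
    rw [e1] at h1
    rw [Bool.or_eq_true, bne_iff_ne, beq_iff_eq] at h1
    rcases h1 with h1 | h1
    · exact absurd ((hposI s hs').mpr hs) h1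
    · exact (hnegI _ e2).mp h1
  · intro s hs
    have hs' : s < D.nroots := hs.1
    obtain ⟨_, h2⟩ := hmain s hs'
    obtain ⟨e1, e2⟩ := hact w hw' s hs'
    obtain ⟨e3, _⟩ := hact w hw' _ e2
    rw [e1, e3] at h2
    rw [Bool.or_eq_true, bne_iff_ne, Bool.and_eq_true, beq_iff_eq, beq_iff_eq] at h2
    rcases h2 with h2 | h2
    · exact absurd ((hnegI s hs').mpr hs) h2
    · exact ⟨actW D w s, (hposI _ e2).mp h2.1, h2.2⟩

end Cfsg.Agent.Lib.Helper7
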