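import Cfsg.Agent.Lib.Helper7.ChevLongCent

/-! Tables for the centraliser of a highest root element in types `E₆`, `E₇`, `E₈` (helper7). -/

set_option autoImplicit false

namespace Cfsg.Agent.Lib.Helper7

open Cfsg Cfsg.Lie Matrix

theorem centOKB_E6 : centOKB chevE6 1 [15, 29, 32, 34, 35] = true := by decide +kernel

theorem centOKB_E7 : centOKB chevE7 0 [47, 52, 56, 59, 61, 62] = true := by decide +kernel

theorem centOKB_E8 : centOKB chevE8 7 [77, 98, 104, 109, 113, 116, 118] = true := by decide +kernel

end Cfsg.Agent.Lib.Helper7
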