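import Cfsg.Agent.Lib.Helper7.ChevLongRoot

/-! Tables for pairs of conjugates of the highest root subgroup (helper7). -/

set_option autoImplicit false

namespace Cfsg.Agent.Lib.Helper7

open Cfsg Cfsg.Lie Matrix

def pairCert_G2 : List (List ℕ) :=
  [[], [1, 0], [0, 1, 0], [0, 1], [0], [1], [], [], [], [], [], []]

theorem highOKB_G2 : highOKB chevG2 = true := by decide +kernel

theorem pairCertB_G2 : pairCertB chevG2 pairCert_G2 = true := by decide +kernel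

def pairCert_D4 : List (List ℕ) :=
  [[], [3, 1, 2, 0], [2, 1, 0], [3, 1, 0], [1, 0], [0], [3, 1, 2], [2, 1], [3, 1], [1], [2], [3], [],
  [], [], [], [], [], [], [], [], [], [], []]

theorem highOKB_D4 : highOKB chevD4 = true := by decide +kernel

theorem pairCertB_D4 : pairCertB chevD4 pairCert_D4 = true := by decide +kernel

def pairCert_E6 : List (List ℕ) :=
  [[], [5, 4, 3, 2, 1, 3, 4, 0, 2, 3], [5, 4, 3, 2, 1, 3, 4, 0, 2], [5, 4, 3, 2, 1, 3, 0, 2], [4, 3,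
  2, 1, 3, 0, 2], [5, 4, 3, 2, 1, 3, 4, 0], [5, 4, 3, 2, 1, 3, 0], [4, 3, 2, 1, 3, 0], [5, 4, 3, 2,
  1, 0], [4, 3, 2, 1, 0], [3, 2, 1, 0], [5, 4, 3, 2, 0], [4, 3, 2, 0], [3, 2, 0], [2, 0], [0], [5,
  4, 3, 2, 1, 3, 4], [5, 4, 3, 2, 1, 3], [4, 3, 2, 1, 3], [5, 4, 3, 2, 1], [4, 3, 2, 1], [3, 2, 1],
  [5, 4, 3, 1], [4, 3, 1], [3, 1], [1], [5, 4, 3, 2], [4, 3, 2], [3, 2], [2], [5, 4, 3], [4, 3],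
  [3], [5, 4], [4], [5], [], [], [], [], [], [], [], [], [], [], [], [], [], [], [], [], [], [], [],
  [], [], [], [], [], [], [], [], [], [], [], [], [], [], [], [], []]

theorem highOKB_E6 : highOKB chevE6 = true := by decide +kernel

theorem pairCertB_E6 : pairCertB chevE6 pairCert_E6 = true := by decide +kernel

def pairCert_E7 : List (List ℕ) :=
  [[], [6, 5, 4, 3, 2, 1, 3, 4, 5, 0, 2, 3, 4, 1, 3, 2], [6, 5, 4, 3, 2, 1, 3, 4, 5, 0, 2, 3, 4, 1,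
  3], [6, 5, 4, 3, 2, 1, 3, 4, 5, 0, 2, 3, 4, 1], [6, 5, 4, 3, 2, 1, 3, 4, 5, 0, 2, 3, 1], [6, 5, 4,
  3, 2, 1, 3, 4, 0, 2, 3, 1], [5, 4, 3, 2, 1, 3, 4, 0, 2, 3, 1], [6, 5, 4, 3, 2, 1, 3, 4, 5, 0, 2,
  3, 4], [6, 5, 4, 3, 2, 1, 3, 4, 5, 0, 2, 3], [6, 5, 4, 3, 2, 1, 3, 4, 0, 2, 3], [5, 4, 3, 2, 1, 3,
  4, 0, 2, 3], [6, 5, 4, 3, 2, 1, 3, 4, 5, 0, 2], [6, 5, 4, 3, 2, 1, 3, 4, 0, 2], [5, 4, 3, 2, 1, 3,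
  4, 0, 2], [6, 5, 4, 3, 2, 1, 3, 0, 2], [5, 4, 3, 2, 1, 3, 0, 2], [4, 3, 2, 1, 3, 0, 2], [6, 5, 4,
  3, 2, 1, 3, 4, 5, 0], [6, 5, 4, 3, 2, 1, 3, 4, 0], [5, 4, 3, 2, 1, 3, 4, 0], [6, 5, 4, 3, 2, 1, 3,
  0], [5, 4, 3, 2, 1, 3, 0], [4, 3, 2, 1, 3, 0], [6, 5, 4, 3, 2, 1, 0], [5, 4, 3, 2, 1, 0], [4, 3,
  2, 1, 0], [3, 2, 1, 0], [6, 5, 4, 3, 2, 0], [5, 4, 3, 2, 0], [4, 3, 2, 0], [3, 2, 0], [2, 0], [0],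
  [6, 5, 4, 3, 2, 1, 3, 4, 5], [6, 5, 4, 3, 2, 1, 3, 4], [5, 4, 3, 2, 1, 3, 4], [6, 5, 4, 3, 2, 1,
  3], [5, 4, 3, 2, 1, 3], [4, 3, 2, 1, 3], [6, 5, 4, 3, 2, 1], [5, 4, 3, 2, 1], [4, 3, 2, 1], [3, 2,
  1], [6, 5, 4, 3, 1], [5, 4, 3, 1], [4, 3, 1], [3, 1], [1], [6, 5, 4, 3, 2], [5, 4, 3, 2], [4, 3,
  2], [3, 2], [2], [6, 5, 4, 3], [5, 4, 3], [4, 3], [3], [6, 5, 4], [5, 4], [4], [6, 5], [5], [6],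
  [], [], [], [], [], [], [], [], [], [], [], [], [], [], [], [], [], [], [], [], [], [], [], [],
  [], [], [], [], [], [], [], [], [], [], [], [], [], [], [], [], [], [], [], [], [], [], [], [],
  [], [], [], [], [], [], [], [], [], [], [], [], [], [], []]

theorem highOKB_E7 : highOKB chevE7 = true := by decide +kernel

theorem pairCertB_E7 : pairCertB chevE7 pairCert_E7 = true := by decide +kernel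

def pairCert_E8 : List (List ℕ) :=
  [[], [7, 6, 5, 4, 3, 2, 1, 3, 4, 5, 6, 0, 2, 3, 4, 5, 1, 3, 4, 2, 3, 0, 2, 1, 3, 4, 5, 6], [7, 6, 5,
  4, 3, 2, 1, 3, 4, 5, 6, 0, 2, 3, 4, 5, 1, 3, 4, 2, 3, 0, 2, 1, 3, 4, 5], [7, 6, 5, 4, 3, 2, 1, 3,
  4, 5, 6, 0, 2, 3, 4, 5, 1, 3, 4, 2, 3, 0, 2, 1, 3, 4], [7, 6, 5, 4, 3, 2, 1, 3, 4, 5, 6, 0, 2, 3,
  4, 5, 1, 3, 4, 2, 3, 0, 2, 1, 3], [7, 6, 5, 4, 3, 2, 1, 3, 4, 5, 6, 0, 2, 3, 4, 5, 1, 3, 4, 2, 3,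
  0, 2, 1], [7, 6, 5, 4, 3, 2, 1, 3, 4, 5, 6, 0, 2, 3, 4, 5, 1, 3, 4, 2, 3, 1, 0], [7, 6, 5, 4, 3,
  2, 1, 3, 4, 5, 6, 0, 2, 3, 4, 5, 1, 3, 4, 2, 3, 0, 2], [7, 6, 5, 4, 3, 2, 1, 3, 4, 5, 6, 0, 2, 3,
  4, 5, 1, 3, 4, 2, 3, 0], [7, 6, 5, 4, 3, 2, 1, 3, 4, 5, 6, 0, 2, 3, 4, 5, 1, 3, 4, 2, 0], [7, 6,
  5, 4, 3, 2, 1, 3, 4, 5, 6, 0, 2, 3, 4, 5, 1, 3, 2, 0], [7, 6, 5, 4, 3, 2, 1, 3, 4, 5, 6, 0, 2, 3,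
  4, 1, 3, 2, 0], [7, 6, 5, 4, 3, 2, 1, 3, 4, 5, 0, 2, 3, 4, 1, 3, 2, 0], [6, 5, 4, 3, 2, 1, 3, 4,
  5, 0, 2, 3, 4, 1, 3, 2, 0], [7, 6, 5, 4, 3, 2, 1, 3, 4, 5, 6, 0, 2, 3, 4, 5, 1, 3, 4, 2, 3, 1],
  [7, 6, 5, 4, 3, 2, 1, 3, 4, 5, 6, 0, 2, 3, 4, 5, 1, 3, 4, 2, 3], [7, 6, 5, 4, 3, 2, 1, 3, 4, 5, 6,
  0, 2, 3, 4, 5, 1, 3, 4, 2], [7, 6, 5, 4, 3, 2, 1, 3, 4, 5, 6, 0, 2, 3, 4, 5, 1, 3, 2], [7, 6, 5,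
  4, 3, 2, 1, 3, 4, 5, 6, 0, 2, 3, 4, 1, 3, 2], [7, 6, 5, 4, 3, 2, 1, 3, 4, 5, 0, 2, 3, 4, 1, 3, 2],
  [6, 5, 4, 3, 2, 1, 3, 4, 5, 0, 2, 3, 4, 1, 3, 2], [7, 6, 5, 4, 3, 2, 1, 3, 4, 5, 6, 0, 2, 3, 4, 5,
  1, 3, 4], [7, 6, 5, 4, 3, 2, 1, 3, 4, 5, 6, 0, 2, 3, 4, 5, 1, 3], [7, 6, 5, 4, 3, 2, 1, 3, 4, 5,
  6, 0, 2, 3, 4, 1, 3], [7, 6, 5, 4, 3, 2, 1, 3, 4, 5, 0, 2, 3, 4, 1, 3], [6, 5, 4, 3, 2, 1, 3, 4,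
  5, 0, 2, 3, 4, 1, 3], [7, 6, 5, 4, 3, 2, 1, 3, 4, 5, 6, 0, 2, 3, 4, 5, 1], [7, 6, 5, 4, 3, 2, 1,
  3, 4, 5, 6, 0, 2, 3, 4, 1], [7, 6, 5, 4, 3, 2, 1, 3, 4, 5, 0, 2, 3, 4, 1], [6, 5, 4, 3, 2, 1, 3,
  4, 5, 0, 2, 3, 4, 1], [7, 6, 5, 4, 3, 2, 1, 3, 4, 5, 6, 0, 2, 3, 1], [7, 6, 5, 4, 3, 2, 1, 3, 4,
  5, 0, 2, 3, 1], [6, 5, 4, 3, 2, 1, 3, 4, 5, 0, 2, 3, 1], [7, 6, 5, 4, 3, 2, 1, 3, 4, 0, 2, 3, 1],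
  [6, 5, 4, 3, 2, 1, 3, 4, 0, 2, 3, 1], [5, 4, 3, 2, 1, 3, 4, 0, 2, 3, 1], [7, 6, 5, 4, 3, 2, 1, 3,
  4, 5, 6, 0, 2, 3, 4, 5], [7, 6, 5, 4, 3, 2, 1, 3, 4, 5, 6, 0, 2, 3, 4], [7, 6, 5, 4, 3, 2, 1, 3,
  4, 5, 0, 2, 3, 4], [6, 5, 4, 3, 2, 1, 3, 4, 5, 0, 2, 3, 4], [7, 6, 5, 4, 3, 2, 1, 3, 4, 5, 6, 0,
  2, 3], [7, 6, 5, 4, 3, 2, 1, 3, 4, 5, 0, 2, 3], [6, 5, 4, 3, 2, 1, 3, 4, 5, 0, 2, 3], [7, 6, 5, 4,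
  3, 2, 1, 3, 4, 0, 2, 3], [6, 5, 4, 3, 2, 1, 3, 4, 0, 2, 3], [5, 4, 3, 2, 1, 3, 4, 0, 2, 3], [7, 6,
  5, 4, 3, 2, 1, 3, 4, 5, 6, 0, 2], [7, 6, 5, 4, 3, 2, 1, 3, 4, 5, 0, 2], [6, 5, 4, 3, 2, 1, 3, 4,
  5, 0, 2], [7, 6, 5, 4, 3, 2, 1, 3, 4, 0, 2], [6, 5, 4, 3, 2, 1, 3, 4, 0, 2], [5, 4, 3, 2, 1, 3, 4,
  0, 2], [7, 6, 5, 4, 3, 2, 1, 3, 0, 2], [6, 5, 4, 3, 2, 1, 3, 0, 2], [5, 4, 3, 2, 1, 3, 0, 2], [4,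
  3, 2, 1, 3, 0, 2], [7, 6, 5, 4, 3, 2, 1, 3, 4, 5, 6, 0], [7, 6, 5, 4, 3, 2, 1, 3, 4, 5, 0], [6, 5,
  4, 3, 2, 1, 3, 4, 5, 0], [7, 6, 5, 4, 3, 2, 1, 3, 4, 0], [6, 5, 4, 3, 2, 1, 3, 4, 0], [5, 4, 3, 2,
  1, 3, 4, 0], [7, 6, 5, 4, 3, 2, 1, 3, 0], [6, 5, 4, 3, 2, 1, 3, 0], [5, 4, 3, 2, 1, 3, 0], [4, 3,
  2, 1, 3, 0], [7, 6, 5, 4, 3, 2, 1, 0], [6, 5, 4, 3, 2, 1, 0], [5, 4, 3, 2, 1, 0], [4, 3, 2, 1, 0],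
  [3, 2, 1, 0], [7, 6, 5, 4, 3, 2, 0], [6, 5, 4, 3, 2, 0], [5, 4, 3, 2, 0], [4, 3, 2, 0], [3, 2, 0],
  [2, 0], [0], [7, 6, 5, 4, 3, 2, 1, 3, 4, 5, 6], [7, 6, 5, 4, 3, 2, 1, 3, 4, 5], [6, 5, 4, 3, 2, 1,
  3, 4, 5], [7, 6, 5, 4, 3, 2, 1, 3, 4], [6, 5, 4, 3, 2, 1, 3, 4], [5, 4, 3, 2, 1, 3, 4], [7, 6, 5,
  4, 3, 2, 1, 3], [6, 5, 4, 3, 2, 1, 3], [5, 4, 3, 2, 1, 3], [4, 3, 2, 1, 3], [7, 6, 5, 4, 3, 2, 1],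
  [6, 5, 4, 3, 2, 1], [5, 4, 3, 2, 1], [4, 3, 2, 1], [3, 2, 1], [7, 6, 5, 4, 3, 1], [6, 5, 4, 3, 1],
  [5, 4, 3, 1], [4, 3, 1], [3, 1], [1], [7, 6, 5, 4, 3, 2], [6, 5, 4, 3, 2], [5, 4, 3, 2], [4, 3,
  2], [3, 2], [2], [7, 6, 5, 4, 3], [6, 5, 4, 3], [5, 4, 3], [4, 3], [3], [7, 6, 5, 4], [6, 5, 4],
  [5, 4], [4], [7, 6, 5], [6, 5], [5], [7, 6], [6], [7], [], [], [], [], [], [], [], [], [], [], [],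
  [], [], [], [], [], [], [], [], [], [], [], [], [], [], [], [], [], [], [], [], [], [], [], [],
  [], [], [], [], [], [], [], [], [], [], [], [], [], [], [], [], [], [], [], [], [], [], [], [],
  [], [], [], [], [], [], [], [], [], [], [], [], [], [], [], [], [], [], [], [], [], [], [], [],
  [], [], [], [], [], [], [], [], [], [], [], [], [], [], [], [], [], [], [], [], [], [], [], [],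
  [], [], [], [], [], [], [], [], [], [], [], [], []]

theorem highOKB_E8 : highOKB chevE8 = true := by decide +kernel

theorem pairCertB_E8 : pairCertB chevE8 pairCert_E8 = true := by decide +kernel

/-- the subgroup generated by the highest root subgroup `X` and a conjugate is a `p`-group or
conjugate to `⟨X, X_{-r₀}⟩`, for the types with one root length -/
theorem highest_pair_of_mem (D : ChevalleyDatum) (hD5 : D ∈ [chevG2, chevD4, chevE6, chevE7, chevE8])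
    (F : Type*) [Field F] [Fintype F] (p : ℕ) [Fact p.Prime] [CharP F p] (g : GL D.Idx F)
    (hg : g ∈ D.group F) :
    IsPGroup p ↥(D.rootSubgroup F (D.nroots - 1) ⊔
        (D.rootSubgroup F (D.nroots - 1)).map (MulAut.conj g).toMonoidHom) ∨
      ∃ h ∈ D.group F, (D.rootSubgroup F (D.nroots - 1) ⊔
        (D.rootSubgroup F (D.nroots - 1)).map (MulAut.conj g).toMonoidHom).map (MulAut.conj h).toMonoidHom =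
          D.rootSubgroup F (D.nroots - 1) ⊔ D.rootSubgroup F 0 := by
  simp only [List.mem_cons, List.not_mem_nil, or_false] at hD5
  rcases hD5 with rfl | rfl | rfl | rfl | rfl
  · exact highest_pair _ (by simp) F p highOKB_G2 _ pairCertB_G2 g hg
  · exact highest_pair _ (by simp) F p highOKB_D4 _ pairCertB_D4 g hg
  · exact highest_pair _ (by simp) F p highOKB_E6 _ pairCertB_E6 g hg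
  · exact highest_pair _ (by simp) F p highOKB_E7 _ pairCertB_E7 g hg
  · exact highest_pair _ (by simp) F p highOKB_E8 _ pairCertB_E8 g hg

end Cfsg.Agent.Lib.Helper7
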