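import Cfsg.Agent.Lib.Helper7.ChevWeylPerm
import Cfsg.Agent.Lib.Helper7.ChevPerf

/-! Generation of a Chevalley group by `N` and one or two fundamental root subgroups (helper7). -/

set_option autoImplicit false

namespace Cfsg.Agent.Lib.Helper7

open Cfsg Cfsg.Lie Matrix

/-- the roots reached from `acc` along a certificate: an entry `(0, r, j, r')` says `r = w_j(r')`, an entry
`(c + 1, r, a, b)` says that `r` is the only term of the commutator formula for `a`, `b`, with a coefficient of absolute
value `c + 1` -/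
def orbitL (D : ChevalleyDatum) (c₀ : ℕ) : List ℕ → List (ℕ × ℕ × ℕ × ℕ) → List ℕ
  | acc, [] => acc
  | acc, (k, r, a, b) :: L =>
    if k = 0 then
      (if acc.contains b && decide (a < D.rank) && (D.reflectRoot a b == r) then orbitL D c₀ (r :: acc) L
        else orbitL D c₀ acc L)
    else
      (if acc.contains a && acc.contains b && decide (a < D.nroots) && decide (b < D.nroots) && (b != a) &&
          (b != D.neg a) && decide (r < D.nroots) && (D.commTerms a b == [(r, (c₀ : ℤ), 1, 1)] || D.commTerms a b == [(r, -(c₀ : ℤ), 1, 1)])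
        then orbitL D c₀ (r :: acc) L else orbitL D c₀ acc L)

theorem orbitL_induction (D : ChevalleyDatum) (c₀ : ℕ) (P : ℕ → Prop)
    (hrefl : ∀ j < D.rank, ∀ s, P s → P (D.reflectRoot j s))
    (hcomm : ∀ a b r : ℕ, a < D.nroots → b < D.nroots → b ≠ a → b ≠ D.neg a → r < D.nroots →
      (D.commTerms a b = [(r, (c₀ : ℤ), 1, 1)] ∨ D.commTerms a b = [(r, -(c₀ : ℤ), 1, 1)]) → P a → P b → P r) :
    ∀ (cert : List (ℕ × ℕ × ℕ × ℕ)) (acc : List ℕ), (∀ s ∈ acc, P s) → ∀ s ∈ orbitL D c₀ acc cert, P s := by
  intro cert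
  induction cert with
  | nil => intro acc h; exact h
  | cons e L ih =>
    obtain ⟨k, r, a, b⟩ := e
    intro acc h
    unfold orbitL
    by_cases hk : k = 0
    · rw [if_pos hk]
      split_ifs with hc
      · apply ih
        intro s hs
        rcases List.mem_cons.mp hs with rfl | hs
        · simp only [Bool.and_eq_true, List.contains_iff_mem, decide_eq_true_eq, beq_iff_eq] at hc
          obtain ⟨⟨h1, h2⟩, h3⟩ := hc
          rw [← h3]
          exact hrefl a h2 b (h b h1)
        · exact h s hs
      · exact ih acc h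
    · rw [if_neg hk]
      split_ifs with hc
      · apply ih
        intro s hs
        rcases List.mem_cons.mp hs with rfl | hs
        · simp only [Bool.and_eq_true, Bool.or_eq_true, List.contains_iff_mem, decide_eq_true_eq, beq_iff_eq,
            bne_iff_ne, ne_eq] at hc
          obtain ⟨⟨⟨⟨⟨⟨⟨h1, h2⟩, h3⟩, h4⟩, h5⟩, h6⟩, h8⟩, h7⟩ := hc
          exact hcomm a b s h3 h4 h5 h6 h8 h7 (h a h1) (h b h2)
        · exact h s hs
      · exact ih acc h

/-- every root is reached -/
def orbitAllB (D : ChevalleyDatum) (c₀ : ℕ) (start : List ℕ) (cert : List (ℕ × ℕ × ℕ × ℕ)) : Bool :=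
  (List.range D.nroots).all fun s => (orbitL D c₀ start cert).contains s

section
variable (D : ChevalleyDatum) (hD : D ∈ [chevG2, chevB2, chevD4, chevF4, chevE6, chevE7, chevE8])
variable (F : Type*) [Field F]
include hD

/-- a subgroup containing `N` and the root subgroups of the start roots contains the group, given a certificate -/
theorem group_le_of_orbitAllB (c₀ : ℕ) (hc₀ : (c₀ : F) ≠ 0) (start : List ℕ) (cert : List (ℕ × ℕ × ℕ × ℕ))
    (hcert : orbitAllB D c₀ start cert = true) (M : Subgroup (GL D.Idx F))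
    (hN : D.monomialSubgroup F ≤ M) (hstart : ∀ s ∈ start, s < D.nroots ∧ ∀ t : F, xGL D hD F s t ∈ M) :
    D.group F ≤ M := by
  have key : ∀ s ∈ orbitL D c₀ start cert, s < D.nroots ∧ ∀ t : F, xGL D hD F s t ∈ M := by
    apply orbitL_induction D c₀ (fun s => s < D.nroots ∧ ∀ t : F, xGL D hD F s t ∈ M)
    · intro j hj s ⟨hs, hsM⟩
      obtain ⟨hlt, c, hc, hconj⟩ := actsAs_nFund D hD F j hj s hs
      refine ⟨hlt, fun t => ?_⟩
      have h1 := hconj (c⁻¹ * t)
      rw [← mul_assoc, mul_inv_cancel₀ hc, one_mul] at h1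
      rw [← h1]
      have hn : nFund D hD F j ∈ M := hN (nFund_mem_monomial D hD F j hj)
      exact Subgroup.mul_mem _ (Subgroup.mul_mem _ hn (hsM _)) (Subgroup.inv_mem _ hn)
    · intro a b r ha hb hba hbn hrlt hT ⟨_, haM⟩ ⟨_, hbM⟩
      refine ⟨hrlt, fun t => ?_⟩
      have hcf := comm_formula_GL D hD F a b ha hb hba hbn
      rcases hT with hT | hT
      · have h1 := hcf (-(c₀ : F)⁻¹ * t) 1
        have h2 : wordGL D hD F (D.commWord F a b (-(c₀ : F)⁻¹ * t) 1) = xGL D hD F r t := by
          unfold ChevalleyDatum.commWord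
          rw [hT]
          unfold wordGL
          simp only [List.map_cons, List.map_nil, List.prod_cons, List.prod_nil, mul_one, pow_one, one_pow]
          congr 1
          push_cast
          field_simp
        rw [h2] at h1
        have h3 : xGL D hD F r t = (xGL D hD F a (-(c₀ : F)⁻¹ * t) * xGL D hD F b 1)⁻¹ *
            (xGL D hD F b 1 * xGL D hD F a (-(c₀ : F)⁻¹ * t)) := by
          rw [h1]; group
        rw [h3]
        exact Subgroup.mul_mem _ (Subgroup.inv_mem _ (Subgroup.mul_mem _ (haM _) (hbM _)))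
          (Subgroup.mul_mem _ (hbM _) (haM _))
      · have h1 := hcf ((c₀ : F)⁻¹ * t) 1
        have h2 : wordGL D hD F (D.commWord F a b ((c₀ : F)⁻¹ * t) 1) = xGL D hD F r t := by
          unfold ChevalleyDatum.commWord
          rw [hT]
          unfold wordGL
          simp only [List.map_cons, List.map_nil, List.prod_cons, List.prod_nil, mul_one, pow_one, one_pow]
          congr 1
          push_cast
          field_simp
        rw [h2] at h1
        have h3 : xGL D hD F r t = (xGL D hD F a ((c₀ : F)⁻¹ * t) * xGL D hD F b 1)⁻¹ *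
            (xGL D hD F b 1 * xGL D hD F a ((c₀ : F)⁻¹ * t)) := by
          rw [h1]; group
        rw [h3]
        exact Subgroup.mul_mem _ (Subgroup.inv_mem _ (Subgroup.mul_mem _ (haM _) (hbM _)))
          (Subgroup.mul_mem _ (hbM _) (haM _))
    · exact hstart
  unfold orbitAllB at hcert
  rw [List.all_eq_true] at hcert
  unfold ChevalleyDatum.group
  rw [Subgroup.closure_le]
  rintro g ⟨r, t, hg⟩
  have hr := hcert r.val (List.mem_range.mpr r.isLt)
  rw [List.contains_iff_mem] at hr
  have : g = xGL D hD F r.val t := by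
    apply Units.ext
    rw [hg, coe_xGL, x_eq_xMat D F r.val r.isLt]
  rw [this]
  exact (key r.val hr).2 t

end

end Cfsg.Agent.Lib.Helper7
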