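import Cfsg.Agent.Lib.Helper7.ChevNGenTab
import Cfsg.Prelude.Def_ChevAutomorphisms

/-! `G = ⟨N, X_p⟩` and `G = ⟨N, X_a, X_b⟩` (helper7). -/

set_option autoImplicit false

namespace Cfsg.Agent.Lib.Helper7

open Cfsg Cfsg.Lie Matrix

theorem natCast_ne_zero_of_ringChar (F : Type*) [Field F] (p : ℕ) (hp : p.Prime) (h : ringChar F ≠ p) :
    ((p : ℕ) : F) ≠ 0 := by
  intro h0
  have h1 := (ringChar.spec F p).mp h0
  rcases (Nat.dvd_prime hp).mp h1 with h2 | h2
  · exact CharP.ringChar_ne_one h2
  · exact h h2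

section
variable (D : ChevalleyDatum) (hD : D ∈ [chevG2, chevB2, chevD4, chevF4, chevE6, chevE7, chevE8])
variable (F : Type*) [Field F]
include hD

theorem xGL_mem_rootSubgroup (r : ℕ) (t : F) : xGL D hD F r t ∈ D.rootSubgroup F r :=
  Subgroup.subset_closure ⟨t, coe_xGL D hD F r t⟩

theorem group_le_sup_one (c₀ : ℕ) (hc₀ : (c₀ : F) ≠ 0) (i : ℕ) (hi : i < D.rank) (p : ℕ) (hp : D.simple i = p)
    (cert : List (ℕ × ℕ × ℕ × ℕ)) (h : orbitAllB D c₀ [p] cert = true) :
    D.group F ≤ D.monomialSubgroup F ⊔ D.rootSubgroup F (D.simple i) := by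
  apply group_le_of_orbitAllB D hD F c₀ hc₀ [p] cert h _ le_sup_left
  intro s hs
  rw [List.mem_singleton] at hs
  subst hs
  subst hp
  exact ⟨(fundFacts_of_mem D hD i hi).hp, fun t =>
    (le_sup_right : D.rootSubgroup F (D.simple i) ≤ _) (xGL_mem_rootSubgroup D hD F _ t)⟩

theorem group_le_sup_two (i j : ℕ) (hi : i < D.rank) (hj : j < D.rank) (p q : ℕ) (hp : D.simple i = p)
    (hq : D.simple j = q) (cert : List (ℕ × ℕ × ℕ × ℕ)) (h : orbitAllB D 1 [p, q] cert = true) :
    D.group F ≤ D.monomialSubgroup F ⊔ D.rootSubgroup F (D.simple i) ⊔ D.rootSubgroup F (D.simple j) := by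
  apply group_le_of_orbitAllB D hD F 1 (by simp) [p, q] cert h _ (le_trans le_sup_left le_sup_left)
  intro s hs
  subst hp
  subst hq
  rcases List.mem_cons.mp hs with rfl | hs
  · exact ⟨(fundFacts_of_mem D hD i hi).hp, fun t =>
      (le_trans le_sup_right le_sup_left : D.rootSubgroup F (D.simple i) ≤ _) (xGL_mem_rootSubgroup D hD F _ t)⟩
  · rw [List.mem_singleton] at hs
    subst hs
    exact ⟨(fundFacts_of_mem D hD j hj).hp, fun t =>
      (le_sup_right : D.rootSubgroup F (D.simple j) ≤ _) (xGL_mem_rootSubgroup D hD F _ t)⟩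

end

/-- `G = ⟨N, X_p⟩` for a short fundamental root `p` -/
theorem group_le_monomial_sup_short (D : ChevalleyDatum)
    (hD : D ∈ [chevG2, chevB2, chevD4, chevF4, chevE6, chevE7, chevE8]) (F : Type*) [Field F]
    (h2 : D ∈ [chevB2, chevF4] → ringChar F ≠ 2) (h3 : D = chevG2 → ringChar F ≠ 3)
    (i : ℕ) (hi : i < D.rank) (hshort : D.isLong (D.simple i) = false) :
    D.group F ≤ D.monomialSubgroup F ⊔ D.rootSubgroup F (D.simple i) := by
  have hD' := hD
  have h1 : ((1 : ℕ) : F) ≠ 0 := by simp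
  simp only [List.mem_cons, List.not_mem_nil, or_false] at hD'
  rcases hD' with rfl | rfl | rfl | rfl | rfl | rfl | rfl
  · have hc := natCast_ne_zero_of_ringChar F 3 Nat.prime_three (h3 rfl)
    have hi' : i < 2 := hi
    interval_cases i
    · exact group_le_sup_one _ hD F 3 hc 0 hi _ rfl _ ngenOK_G2_0
    · exact absurd hshort (by decide)
  · have hc := natCast_ne_zero_of_ringChar F 2 Nat.prime_two (h2 (by simp))
    have hi' : i < 2 := hi
    interval_cases i
    · exact group_le_sup_one _ hD F 2 hc 0 hi _ rfl _ ngenOK_B2_0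
    · exact absurd hshort (by decide)
  · have hi' : i < 4 := hi
    interval_cases i
    · exact group_le_sup_one _ hD F 1 h1 0 hi _ rfl _ ngenOK_D4_0
    · exact group_le_sup_one _ hD F 1 h1 1 hi _ rfl _ ngenOK_D4_1
    · exact group_le_sup_one _ hD F 1 h1 2 hi _ rfl _ ngenOK_D4_2
    · exact group_le_sup_one _ hD F 1 h1 3 hi _ rfl _ ngenOK_D4_3
  · have hc := natCast_ne_zero_of_ringChar F 2 Nat.prime_two (h2 (by simp))
    have hi' : i < 4 := hi
    interval_cases i
    · exact group_le_sup_one _ hD F 2 hc 0 hi _ rfl _ ngenOK_F4_0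
    · exact group_le_sup_one _ hD F 2 hc 1 hi _ rfl _ ngenOK_F4_1
    · exact absurd hshort (by decide)
    · exact absurd hshort (by decide)
  · have hi' : i < 6 := hi
    interval_cases i
    · exact group_le_sup_one _ hD F 1 h1 0 hi _ rfl _ ngenOK_E6_0
    · exact group_le_sup_one _ hD F 1 h1 1 hi _ rfl _ ngenOK_E6_1
    · exact group_le_sup_one _ hD F 1 h1 2 hi _ rfl _ ngenOK_E6_2
    · exact group_le_sup_one _ hD F 1 h1 3 hi _ rfl _ ngenOK_E6_3
    · exact group_le_sup_one _ hD F 1 h1 4 hi _ rfl _ ngenOK_E6_4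
    · exact group_le_sup_one _ hD F 1 h1 5 hi _ rfl _ ngenOK_E6_5
  · have hi' : i < 7 := hi
    interval_cases i
    · exact group_le_sup_one _ hD F 1 h1 0 hi _ rfl _ ngenOK_E7_0
    · exact group_le_sup_one _ hD F 1 h1 1 hi _ rfl _ ngenOK_E7_1
    · exact group_le_sup_one _ hD F 1 h1 2 hi _ rfl _ ngenOK_E7_2
    · exact group_le_sup_one _ hD F 1 h1 3 hi _ rfl _ ngenOK_E7_3
    · exact group_le_sup_one _ hD F 1 h1 4 hi _ rfl _ ngenOK_E7_4
    · exact group_le_sup_one _ hD F 1 h1 5 hi _ rfl _ ngenOK_E7_5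
    · exact group_le_sup_one _ hD F 1 h1 6 hi _ rfl _ ngenOK_E7_6
  · have hi' : i < 8 := hi
    interval_cases i
    · exact group_le_sup_one _ hD F 1 h1 0 hi _ rfl _ ngenOK_E8_0
    · exact group_le_sup_one _ hD F 1 h1 1 hi _ rfl _ ngenOK_E8_1
    · exact group_le_sup_one _ hD F 1 h1 2 hi _ rfl _ ngenOK_E8_2
    · exact group_le_sup_one _ hD F 1 h1 3 hi _ rfl _ ngenOK_E8_3
    · exact group_le_sup_one _ hD F 1 h1 4 hi _ rfl _ ngenOK_E8_4
    · exact group_le_sup_one _ hD F 1 h1 5 hi _ rfl _ ngenOK_E8_5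
    · exact group_le_sup_one _ hD F 1 h1 6 hi _ rfl _ ngenOK_E8_6
    · exact group_le_sup_one _ hD F 1 h1 7 hi _ rfl _ ngenOK_E8_7

/-- `G = ⟨N, X_a, X_b⟩` for a short and a long fundamental root joined in the diagram -/
theorem group_le_monomial_sup_two (D : ChevalleyDatum) (hD : D ∈ [chevB2, chevF4, chevG2]) (F : Type*) [Field F]
    (i j : ℕ) (hi : i < D.rank) (hj : j < D.rank) (hshort : D.isLong (D.simple i) = false)
    (hlong : D.isLong (D.simple j) = true) (hbond : D.bonds i j ≠ 0) :
    D.group F ≤ D.monomialSubgroup F ⊔ D.rootSubgroup F (D.simple i) ⊔ D.rootSubgroup F (D.simple j) := by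
  simp only [List.mem_cons, List.not_mem_nil, or_false] at hD
  rcases hD with rfl | rfl | rfl
  · have hi' : i < 2 := hi
    have hj' : j < 2 := hj
    interval_cases i <;> interval_cases j
    · exact absurd hlong (by decide)
    · exact group_le_sup_two _ (by simp) F 0 1 hi hj _ _ rfl rfl _ ngen2OK_B2
    · exact absurd hshort (by decide)
    · exact absurd hshort (by decide)
  · have hi' : i < 4 := hi
    have hj' : j < 4 := hj
    interval_cases i <;> interval_cases j
    · exact absurd hlong (by decide)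
    · exact absurd hlong (by decide)
    · exact absurd (by decide) hbond
    · exact absurd (by decide) hbond
    · exact absurd hlong (by decide)
    · exact absurd hlong (by decide)
    · exact group_le_sup_two _ (by simp) F 1 2 hi hj _ _ rfl rfl _ ngen2OK_F4
    · exact absurd (by decide) hbond
    · exact absurd hshort (by decide)
    · exact absurd hshort (by decide)
    · exact absurd hshort (by decide)
    · exact absurd hshort (by decide)
    · exact absurd hshort (by decide)
    · exact absurd hshort (by decide)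
    · exact absurd hshort (by decide)
    · exact absurd hshort (by decide)
  · have hi' : i < 2 := hi
    have hj' : j < 2 := hj
    interval_cases i <;> interval_cases j
    · exact absurd hlong (by decide)
    · exact group_le_sup_two _ (by simp) F 0 1 hi hj _ _ rfl rfl _ ngen2OK_G2
    · exact absurd hshort (by decide)
    · exact absurd hshort (by decide)

end Cfsg.Agent.Lib.Helper7
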