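import Cfsg.Agent.Lib.Helper7.ChevNGen

/-! Certificates: every root is reached from a short fundamental root by reflections and (for two root lengths) one
commutator step (helper7; generated). -/

set_option autoImplicit false
set_option maxRecDepth 100000

namespace Cfsg.Agent.Lib.Helper7

open Cfsg Cfsg.Lie

def ngenCert_G2_0 : List (ℕ × ℕ × ℕ × ℕ) := [(0, 4, 0, 7), (0, 8, 1, 7), (0, 3, 1, 4), (0, 9, 0, 8), (0, 2, 0, 3), (1, 0, 2, 3), (1, 1, 2, 4), (1, 5, 3, 7), (1, 6, 4, 8), (1, 10, 7, 9), (1, 11, 8, 9)]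

theorem ngenOK_G2_0 : orbitAllB chevG2 3 [7] ngenCert_G2_0 = true := by decide +kernel

def ngenCert_B2_0 : List (ℕ × ℕ × ℕ × ℕ) := [(0, 2, 0, 5), (0, 6, 1, 5), (0, 1, 1, 2), (1, 0, 1, 2), (1, 3, 1, 5), (1, 4, 2, 6), (1, 7, 5, 6)]

theorem ngenOK_B2_0 : orbitAllB chevB2 2 [5] ngenCert_B2_0 = true := by decide +kernel

def ngenCert_D4_0 : List (ℕ × ℕ × ℕ × ℕ) := [(0, 5, 0, 18), (0, 19, 1, 18), (0, 4, 1, 5), (0, 14, 0, 19), (0, 21, 2, 19), (0, 20, 3, 19), (0, 9, 0, 4), (0, 2, 2, 4), (0, 3, 3, 4), (0, 16, 2, 14), (0, 15, 3, 14), (0, 22, 3, 21), (0, 7, 2, 9), (0, 8, 3, 9), (0, 1, 3, 2), (0, 13, 1, 16), (0, 17, 3, 16), (0, 12, 1, 15), (0, 23, 1, 22), (0, 10, 1, 7), (0, 6, 3, 7), (0, 11, 1, 8), (0, 0, 1, 1)]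

theorem ngenOK_D4_0 : orbitAllB chevD4 1 [18] ngenCert_D4_0 = true := by decide +kernel

def ngenCert_D4_1 : List (ℕ × ℕ × ℕ × ℕ) := [(0, 19, 0, 14), (0, 9, 1, 14), (0, 16, 2, 14), (0, 15, 3, 14), (0, 18, 1, 19), (0, 21, 2, 19), (0, 20, 3, 19), (0, 4, 0, 9), (0, 7, 2, 9), (0, 8, 3, 9), (0, 13, 1, 16), (0, 17, 3, 16), (0, 12, 1, 15), (0, 5, 0, 18), (0, 22, 3, 21), (0, 2, 2, 4), (0, 3, 3, 4), (0, 10, 1, 7), (0, 6, 3, 7), (0, 11, 1, 8), (0, 23, 1, 22), (0, 1, 3, 2), (0, 0, 1, 1)]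

theorem ngenOK_D4_1 : orbitAllB chevD4 1 [14] ngenCert_D4_1 = true := by decide +kernel

def ngenCert_D4_2 : List (ℕ × ℕ × ℕ × ℕ) := [(0, 16, 1, 13), (0, 10, 2, 13), (0, 21, 0, 16), (0, 14, 2, 16), (0, 17, 3, 16), (0, 7, 1, 10), (0, 19, 2, 21), (0, 22, 3, 21), (0, 9, 1, 14), (0, 15, 3, 14), (0, 2, 0, 7), (0, 6, 3, 7), (0, 18, 1, 19), (0, 20, 3, 19), (0, 23, 1, 22), (0, 4, 0, 9), (0, 8, 3, 9), (0, 12, 1, 15), (0, 1, 3, 2), (0, 5, 0, 18), (0, 3, 3, 4), (0, 11, 1, 8), (0, 0, 1, 1)]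

theorem ngenOK_D4_2 : orbitAllB chevD4 1 [13] ngenCert_D4_2 = true := by decide +kernel

def ngenCert_D4_3 : List (ℕ × ℕ × ℕ × ℕ) := [(0, 15, 1, 12), (0, 11, 3, 12), (0, 20, 0, 15), (0, 17, 2, 15), (0, 14, 3, 15), (0, 8, 1, 11), (0, 22, 2, 20), (0, 19, 3, 20), (0, 16, 3, 17), (0, 9, 1, 14), (0, 3, 0, 8), (0, 6, 2, 8), (0, 23, 1, 22), (0, 21, 3, 22), (0, 18, 1, 19), (0, 13, 1, 16), (0, 4, 0, 9), (0, 7, 2, 9), (0, 1, 2, 3), (0, 5, 0, 18), (0, 10, 2, 13), (0, 2, 2, 4), (0, 0, 1, 1)]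

theorem ngenOK_D4_3 : orbitAllB chevD4 1 [12] ngenCert_D4_3 = true := by decide +kernel

def ngenCert_F4_0 : List (ℕ × ℕ × ℕ × ℕ) := [(0, 14, 0, 33), (0, 34, 1, 33), (0, 13, 1, 14), (0, 27, 0, 34), (0, 35, 2, 34), (0, 20, 0, 13), (0, 12, 2, 13), (0, 28, 2, 27), (0, 37, 1, 35), (0, 36, 3, 35), (0, 19, 2, 20), (0, 10, 1, 12), (0, 11, 3, 12), (0, 29, 3, 28), (0, 38, 3, 37), (0, 18, 3, 19), (0, 9, 3, 10), (0, 39, 2, 38), (0, 8, 2, 9), (0, 40, 1, 39), (0, 7, 1, 8), (0, 44, 0, 40), (0, 3, 0, 7), (1, 0, 3, 18), (1, 1, 3, 19), (1, 2, 3, 20), (1, 4, 3, 27), (1, 5, 3, 28), (1, 6, 3, 29), (1, 15, 7, 34), (1, 16, 7, 35), (1, 17, 7, 36), (1, 21, 8, 37), (1, 22, 8, 38), (1, 23, 9, 37), (1, 24, 10, 38), (1, 25, 9, 39), (1, 26, 10, 39), (1, 30, 11, 40), (1, 31, 12, 40), (1, 32, 13, 40), (1, 41, 18, 44), (1, 42, 19, 44), (1, 43, 20, 44), (1,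 45, 27, 44), (1, 46, 28, 44), (1, 47, 29, 44)]

theorem ngenOK_F4_0 : orbitAllB chevF4 2 [33] ngenCert_F4_0 = true := by decide +kernel

def ngenCert_F4_1 : List (ℕ × ℕ × ℕ × ℕ) := [(0, 34, 0, 27), (0, 20, 1, 27), (0, 28, 2, 27), (0, 33, 1, 34), (0, 35, 2, 34), (0, 13, 0, 20), (0, 19, 2, 20), (0, 29, 3, 28), (0, 14, 0, 33), (0, 37, 1, 35), (0, 36, 3, 35), (0, 12, 2, 13), (0, 18, 3, 19), (0, 38, 3, 37), (0, 10, 1, 12), (0, 11, 3, 12), (0, 39, 2, 38), (0, 9, 3, 10), (0, 40, 1, 39), (0, 8, 2, 9), (0, 44, 0, 40), (0, 7, 1, 8), (0, 3, 0, 7), (1, 0, 3, 18), (1, 1, 3, 19), (1, 2, 3, 20), (1, 4, 3, 27), (1, 5, 3, 28), (1, 6, 3, 29), (1, 15, 7, 34), (1, 16, 7, 35), (1, 17, 7, 36), (1, 21, 8, 37), (1, 22, 8, 38), (1, 23, 9, 37), (1, 24, 10, 38), (1, 25, 9, 39), (1, 26, 10, 39), (1, 30, 11, 40), (1, 31, 12, 40), (1, 32, 13, 40), (1, 41,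 18, 44), (1, 42, 19, 44), (1, 43, 20, 44), (1, 45, 27, 44), (1, 46, 28, 44), (1, 47, 29, 44)]

theorem ngenOK_F4_1 : orbitAllB chevF4 2 [27] ngenCert_F4_1 = true := by decide +kernel

def ngenCert_E6_0 : List (ℕ × ℕ × ℕ × ℕ) := [(0, 15, 0, 56), (0, 57, 2, 56), (0, 14, 2, 15), (0, 42, 0, 57), (0, 58, 3, 57), (0, 29, 0, 14), (0, 13, 3, 14), (0, 43, 3, 42), (0, 61, 1, 58), (0, 59, 4, 58), (0, 28, 3, 29), (0, 10, 1, 13), (0, 12, 4, 13), (0, 50, 1, 43), (0, 39, 2, 43), (0, 44, 4, 43), (0, 62, 4, 61), (0, 60, 5, 59), (0, 21, 1, 28), (0, 32, 2, 28), (0, 27, 4, 28), (0, 9, 4, 10), (0, 11, 5, 12), (0, 47, 2, 50), (0, 51, 4, 50), (0, 40, 4, 39), (0, 45, 5, 44), (0, 64, 3, 62), (0, 63, 5, 62), (0, 24, 2, 21), (0, 20, 4, 21), (0, 31, 4, 32), (0, 26, 5, 27), (0, 7, 3, 9), (0, 8, 5, 9), (0, 46, 3, 47), (0, 48, 4, 47), (0, 53, 3, 51), (0,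 52, 5, 51), (0, 37, 3, 40), (0, 41, 5, 40), (0, 67, 2, 64), (0, 65, 5, 64), (0, 25, 3, 24), (0, 23, 4, 24), (0, 18, 3, 20), (0, 19, 5, 20), (0, 34, 3, 31), (0, 30, 5, 31), (0, 4, 2, 7), (0, 6, 5, 7), (0, 49, 5, 48), (0, 54, 5, 53), (0, 38, 5, 37), (0, 68, 5, 67), (0, 66, 4, 65), (0, 22, 5, 23), (0, 17, 5, 18), (0, 33, 5, 34), (0, 3, 5, 4), (0, 5, 4, 6), (0, 55, 4, 54), (0, 36, 4, 38), (0, 69, 4, 68), (0, 16, 4, 17), (0, 35, 4, 33), (0, 2, 4, 3), (0, 70, 3, 69), (0, 1, 3, 2), (0, 71, 1, 70), (0, 0, 1, 1)]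

theorem ngenOK_E6_0 : orbitAllB chevE6 1 [56] ngenCert_E6_0 = true := by decide +kernel

def ngenCert_E6_1 : List (ℕ × ℕ × ℕ × ℕ) := [(0, 25, 1, 46), (0, 47, 3, 46), (0, 24, 3, 25), (0, 39, 1, 47), (0, 50, 2, 47), (0, 48, 4, 47), (0, 32, 1, 24), (0, 21, 2, 24), (0, 23, 4, 24), (0, 43, 2, 39), (0, 40, 4, 39), (0, 61, 0, 50), (0, 51, 4, 50), (0, 49, 5, 48), (0, 28, 2, 32), (0, 31, 4, 32), (0, 10, 0, 21), (0, 20, 4, 21), (0, 22, 5, 23), (0, 58, 0, 43), (0, 42, 3, 43), (0, 44, 4, 43), (0, 37, 3, 40), (0, 41, 5, 40), (0, 62, 4, 61), (0, 53, 3, 51), (0, 52, 5, 51), (0, 13, 0, 28), (0, 29, 3, 28), (0, 27, 4, 28), (0, 34, 3, 31), (0, 30, 5, 31), (0, 9, 4, 10), (0, 18, 3, 20), (0, 19, 5, 20), (0, 57, 3, 58), (0, 59, 4, 58), (0, 45, 5, 44), (0, 38, 5, 37), (0, 64, 3, 62), (0, 63, 5, 62), (0, 54, 5, 53), (0, 14, 3, 13), (0, 12, 4, 13),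 (0, 26, 5, 27), (0, 33, 5, 34), (0, 7, 3, 9), (0, 8, 5, 9), (0, 17, 5, 18), (0, 56, 2, 57), (0, 60, 5, 59), (0, 36, 4, 38), (0, 67, 2, 64), (0, 65, 5, 64), (0, 55, 4, 54), (0, 15, 2, 14), (0, 11, 5, 12), (0, 35, 4, 33), (0, 4, 2, 7), (0, 6, 5, 7), (0, 16, 4, 17), (0, 68, 5, 67), (0, 66, 4, 65), (0, 3, 5, 4), (0, 5, 4, 6), (0, 69, 4, 68), (0, 2, 4, 3), (0, 70, 3, 69), (0, 1, 3, 2), (0, 71, 1, 70), (0, 0, 1, 1)]

theorem ngenOK_E6_1 : orbitAllB chevE6 1 [46] ngenCert_E6_1 = true := by decide +kernel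

def ngenCert_E6_2 : List (ℕ × ℕ × ℕ × ℕ) := [(0, 57, 0, 42), (0, 29, 2, 42), (0, 43, 3, 42), (0, 56, 2, 57), (0, 58, 3, 57), (0, 14, 0, 29), (0, 28, 3, 29), (0, 50, 1, 43), (0, 39, 2, 43), (0, 44, 4, 43), (0, 15, 0, 56), (0, 61, 1, 58), (0, 59, 4, 58), (0, 13, 3, 14), (0, 21, 1, 28), (0, 32, 2, 28), (0, 27, 4, 28), (0, 47, 2, 50), (0, 51, 4, 50), (0, 40, 4, 39), (0, 45, 5, 44), (0, 62, 4, 61), (0, 60, 5, 59), (0, 10, 1, 13), (0, 12, 4, 13), (0, 24, 2, 21), (0, 20, 4, 21), (0, 31, 4, 32), (0, 26, 5, 27), (0, 46, 3, 47), (0, 48, 4, 47), (0, 53, 3, 51), (0, 52, 5, 51), (0, 37, 3, 40), (0, 41, 5, 40), (0, 64, 3, 62), (0, 63, 5, 62), (0, 9, 4, 10), (0, 11, 5, 12), (0, 25, 3, 24), (0, 23, 4, 24), (0, 18, 3, 20), (0, 19, 5, 20), (0, 34, 3, 31), (0, 30, 5, 31), (0, 49, 5, 48), (0, 54, 5, 53), (0, 38, 5, 37), (0, 67, 2, 64), (0, 65,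 5, 64), (0, 7, 3, 9), (0, 8, 5, 9), (0, 22, 5, 23), (0, 17, 5, 18), (0, 33, 5, 34), (0, 55, 4, 54), (0, 36, 4, 38), (0, 68, 5, 67), (0, 66, 4, 65), (0, 4, 2, 7), (0, 6, 5, 7), (0, 16, 4, 17), (0, 35, 4, 33), (0, 69, 4, 68), (0, 3, 5, 4), (0, 5, 4, 6), (0, 70, 3, 69), (0, 2, 4, 3), (0, 71, 1, 70), (0, 1, 3, 2), (0, 0, 1, 1)]

theorem ngenOK_E6_2 : orbitAllB chevE6 1 [42] ngenCert_E6_2 = true := by decide +kernel

def ngenCert_E6_3 : List (ℕ × ℕ × ℕ × ℕ) := [(0, 47, 1, 39), (0, 43, 2, 39), (0, 32, 3, 39), (0, 40, 4, 39), (0, 50, 2, 47), (0, 46, 3, 47), (0, 48, 4, 47), (0, 58, 0, 43), (0, 42, 3, 43), (0, 44, 4, 43), (0, 24, 1, 32), (0, 28, 2, 32), (0, 31, 4, 32), (0, 37, 3, 40), (0, 41, 5, 40), (0, 61, 0, 50), (0, 51, 4, 50), (0, 25, 1, 46), (0, 49, 5, 48), (0, 57, 3, 58), (0, 59, 4, 58), (0, 29, 2, 42), (0, 45, 5, 44), (0, 21,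 2, 24), (0, 23, 4, 24), (0, 13, 0, 28), (0, 27, 4, 28), (0, 34, 3, 31), (0, 30, 5, 31), (0, 38, 5, 37), (0, 62, 4, 61), (0, 53, 3, 51), (0, 52, 5, 51), (0, 56, 2, 57), (0, 60, 5, 59), (0, 14, 0, 29), (0, 10, 0, 21), (0, 20, 4, 21), (0, 22, 5, 23), (0, 12, 4, 13), (0, 26, 5, 27), (0, 33, 5, 34), (0, 36, 4, 38), (0, 64, 3, 62), (0, 63, 5, 62), (0, 54, 5, 53), (0, 15, 0, 56), (0, 9, 4, 10), (0, 18, 3, 20), (0, 19, 5, 20), (0, 11, 5, 12), (0, 35, 4, 33), (0, 67, 2, 64), (0, 65, 5, 64), (0, 55, 4, 54), (0, 7, 3, 9), (0, 8, 5, 9), (0, 17, 5, 18), (0, 68, 5, 67), (0, 66, 4, 65), (0, 4, 2, 7), (0, 6, 5, 7), (0, 16, 4, 17), (0, 69, 4, 68), (0, 3, 5, 4), (0, 5, 4, 6), (0, 70, 3, 69), (0, 2, 4, 3), (0, 71, 1, 70), (0, 1, 3, 2), (0, 0, 1, 1)]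

theorem ngenOK_E6_3 : orbitAllB chevE6 1 [39] ngenCert_E6_3 = true := by decide +kernel

def ngenCert_E6_4 : List (ℕ × ℕ × ℕ × ℕ) := [(0, 40, 3, 37), (0, 34, 4, 37), (0, 38, 5, 37), (0, 48, 1, 40), (0, 44, 2, 40), (0, 39, 4, 40), (0, 41, 5, 40), (0, 31, 3, 34), (0, 33, 5, 34), (0, 36, 4, 38), (0, 51, 2, 48), (0, 47, 4, 48), (0, 49, 5, 48), (0, 59, 0, 44), (0, 43, 4, 44), (0, 45, 5, 44), (0, 32, 3, 39), (0, 23, 1, 31), (0, 27, 2, 31), (0, 30, 5, 31), (0, 35, 4, 33), (0, 62, 0, 51), (0, 53, 3, 51), (0, 50, 4, 51), (0, 52, 5, 51), (0, 46, 3, 47), (0, 58, 4, 59), (0, 60, 5, 59), (0, 42, 3, 43), (0, 24, 1, 32), (0, 28, 2, 32), (0, 20, 2, 23), (0, 22, 5, 23), (0, 12, 0, 27), (0, 26, 5, 27), (0, 64, 3, 62), (0, 61, 4, 62), (0, 63, 5, 62), (0, 54, 5, 53), (0, 25, 1, 46), (0, 57, 3, 58), (0, 29, 2, 42), (0, 21, 2, 24), (0, 13, 0, 28),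 (0, 9, 0, 20), (0, 18, 3, 20), (0, 19, 5, 20), (0, 11, 5, 12), (0, 67, 2, 64), (0, 65, 5, 64), (0, 55, 4, 54), (0, 56, 2, 57), (0, 14, 0, 29), (0, 10, 0, 21), (0, 7, 3, 9), (0, 8, 5, 9), (0, 17, 5, 18), (0, 68, 5, 67), (0, 66, 4, 65), (0, 15, 0, 56), (0, 4, 2, 7), (0, 6, 5, 7), (0, 16, 4, 17), (0, 69, 4, 68), (0, 3, 5, 4), (0, 5, 4, 6), (0, 70, 3, 69), (0, 2, 4, 3), (0, 71, 1, 70), (0, 1, 3, 2), (0, 0, 1, 1)]

theorem ngenOK_E6_4 : orbitAllB chevE6 1 [37] ngenCert_E6_4 = true := by decide +kernel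

def ngenCert_E6_5 : List (ℕ × ℕ × ℕ × ℕ) := [(0, 38, 4, 36), (0, 35, 5, 36), (0, 41, 3, 38), (0, 37, 5, 38), (0, 33, 4, 35), (0, 49, 1, 41), (0, 45, 2, 41), (0, 40, 5, 41), (0, 34, 4, 37), (0, 30, 3, 33), (0, 52, 2, 49), (0, 48, 5, 49), (0, 60, 0, 45), (0, 44, 5, 45), (0, 39, 4, 40), (0, 31, 3, 34), (0, 22, 1, 30), (0, 26, 2, 30), (0, 63, 0, 52), (0, 54, 3, 52), (0, 51, 5, 52), (0, 47, 4, 48), (0, 59, 5, 60), (0, 43, 4, 44), (0, 32, 3, 39), (0, 23, 1, 31), (0, 27, 2, 31), (0, 19, 2, 22), (0, 11, 0, 26), (0, 65, 3, 63), (0, 62, 5, 63), (0, 55, 4, 54), (0, 53, 5, 54), (0, 50, 4, 51), (0, 46, 3, 47), (0, 58, 4, 59), (0, 42, 3, 43), (0, 24, 1, 32), (0, 28, 2, 32), (0, 20, 2, 23), (0, 12, 0, 27), (0, 8, 0, 19), (0, 17, 3, 19), (0, 68, 2, 65), (0, 66, 4, 65), (0, 64, 5, 65), (0, 61, 4, 62), (0, 25, 1, 46), (0, 57, 3, 58), (0, 29,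 2, 42), (0, 21, 2, 24), (0, 13, 0, 28), (0, 9, 0, 20), (0, 18, 3, 20), (0, 6, 3, 8), (0, 16, 4, 17), (0, 69, 4, 68), (0, 67, 5, 68), (0, 56, 2, 57), (0, 14, 0, 29), (0, 10, 0, 21), (0, 7, 3, 9), (0, 3, 2, 6), (0, 5, 4, 6), (0, 70, 3, 69), (0, 15, 0, 56), (0, 4, 2, 7), (0, 2, 4, 3), (0, 71, 1, 70), (0, 1, 3, 2), (0, 0, 1, 1)]

theorem ngenOK_E6_5 : orbitAllB chevE6 1 [36] ngenCert_E6_5 = true := by decide +kernel

def ngenCert_E7_0 : List (ℕ × ℕ × ℕ × ℕ) := [(0, 32, 0, 93), (0, 94, 2, 93), (0, 31, 2, 32), (0, 73, 0, 94), (0, 95, 3, 94), (0, 52, 0, 31), (0, 30, 3, 31), (0, 74, 3, 73), (0, 99, 1, 95), (0, 96, 4, 95), (0, 51, 3, 52), (0, 26, 1, 30), (0, 29, 4, 30), (0, 83, 1, 74), (0, 69, 2, 74), (0, 75, 4, 74), (0, 100, 4, 99), (0, 97, 5, 96), (0, 42, 1, 51), (0, 56, 2, 51), (0, 50, 4, 51), (0, 25, 4, 26), (0, 28, 5, 29), (0,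 79, 2, 83), (0, 84, 4, 83), (0, 70, 4, 69), (0, 76, 5, 75), (0, 103, 3, 100), (0, 101, 5, 100), (0, 98, 6, 97), (0, 46, 2, 42), (0, 41, 4, 42), (0, 55, 4, 56), (0, 49, 5, 50), (0, 22, 3, 25), (0, 24, 5, 25), (0, 27, 6, 28), (0, 78, 3, 79), (0, 80, 4, 79), (0, 87, 3, 84), (0, 85, 5, 84), (0, 66, 3, 70), (0, 71, 5, 70), (0, 77, 6, 76), (0, 109, 2, 103), (0, 104, 5, 103), (0, 102, 6, 101), (0, 47, 3, 46), (0, 45, 4, 46), (0, 38, 3, 41), (0, 40, 5, 41), (0, 59, 3, 55), (0, 54, 5, 55), (0, 48, 6, 49), (0, 16, 2, 22), (0, 21, 5, 22), (0, 23, 6, 24), (0, 81, 5, 80), (0, 88, 5, 87), (0, 86, 6, 85), (0, 67, 5, 66), (0, 72, 6, 71), (0, 110, 5, 109), (0, 106, 4, 104), (0, 105, 6, 104), (0, 44, 5, 45), (0, 37, 5, 38), (0, 39, 6, 40), (0, 58, 5, 59), (0, 53, 6, 54), (0, 15, 5, 16), (0, 19, 4, 21), (0, 20, 6, 21), (0, 82, 6, 81), (0, 90,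 4, 88), (0, 89, 6, 88), (0, 64, 4, 67), (0, 68, 6, 67), (0, 112, 4, 110), (0, 111, 6, 110), (0, 107, 6, 106), (0, 43, 6, 44), (0, 35, 4, 37), (0, 36, 6, 37), (0, 61, 4, 58), (0, 57, 6, 58), (0, 13, 4, 15), (0, 14, 6, 15), (0, 18, 6, 19), (0, 91, 6, 90), (0, 65, 6, 64), (0, 115, 3, 112), (0, 113, 6, 112), (0, 108, 5, 107), (0, 34, 6, 35), (0, 60, 6, 61), (0, 10, 3, 13), (0, 12, 6, 13), (0, 17, 5, 18), (0, 92, 5, 91), (0, 63, 5, 65), (0, 119, 1, 115), (0, 116, 6, 115), (0, 114, 5, 113), (0, 33, 5, 34), (0, 62, 5, 60), (0, 6, 1, 10), (0, 9, 6, 10), (0, 11, 5, 12), (0, 120, 6, 119), (0, 117, 5, 116), (0, 5, 6, 6), (0, 8, 5, 9), (0, 121, 5, 120), (0, 118, 4, 117), (0, 4, 5, 5), (0, 7, 4, 8), (0, 122, 4, 121), (0, 3, 4, 4), (0, 123, 3, 122), (0, 2, 3, 3), (0, 124, 2, 123), (0, 1, 2, 2), (0, 125, 0, 124), (0, 0, 0, 1)]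

theorem ngenOK_E7_0 : orbitAllB chevE7 1 [93] ngenCert_E7_0 = true := by decide +kernel

def ngenCert_E7_1 : List (ℕ × ℕ × ℕ × ℕ) := [(0, 47, 1, 78), (0, 79, 3, 78), (0, 46, 3, 47), (0, 69, 1, 79), (0, 83, 2, 79), (0, 80, 4, 79), (0, 56, 1, 46), (0, 42, 2, 46), (0, 45, 4, 46), (0, 74, 2, 69), (0, 70, 4, 69), (0, 99, 0, 83), (0, 84, 4, 83), (0, 81, 5, 80), (0, 51, 2, 56), (0, 55, 4, 56), (0, 26, 0, 42), (0, 41, 4, 42), (0, 44, 5, 45), (0, 95, 0, 74), (0, 73, 3, 74), (0, 75, 4, 74), (0, 66, 3, 70), (0, 71, 5, 70), (0, 100, 4, 99), (0, 87, 3, 84), (0, 85, 5, 84), (0, 82, 6, 81), (0, 30, 0, 51), (0, 52, 3, 51), (0, 50, 4, 51), (0, 59, 3, 55), (0, 54, 5, 55), (0, 25, 4, 26), (0, 38, 3, 41), (0, 40, 5, 41), (0, 43, 6, 44), (0, 94, 3, 95), (0, 96, 4, 95), (0, 76, 5, 75), (0, 67, 5, 66), (0, 72, 6, 71), (0, 103, 3, 100), (0, 101,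 5, 100), (0, 88, 5, 87), (0, 86, 6, 85), (0, 31, 3, 30), (0, 29, 4, 30), (0, 49, 5, 50), (0, 58, 5, 59), (0, 53, 6, 54), (0, 22, 3, 25), (0, 24, 5, 25), (0, 37, 5, 38), (0, 39, 6, 40), (0, 93, 2, 94), (0, 97, 5, 96), (0, 77, 6, 76), (0, 64, 4, 67), (0, 68, 6, 67), (0, 109, 2, 103), (0, 104, 5, 103), (0, 102, 6, 101), (0, 90, 4, 88), (0, 89, 6, 88), (0, 32, 2, 31), (0, 28, 5, 29), (0, 48, 6, 49), (0, 61, 4, 58), (0, 57, 6, 58), (0, 16, 2, 22), (0, 21, 5, 22), (0, 23, 6, 24), (0, 35, 4, 37), (0, 36, 6, 37), (0, 98, 6, 97), (0, 65, 6, 64), (0, 110, 5, 109), (0, 106, 4, 104), (0, 105, 6, 104), (0, 91, 6, 90), (0, 27, 6, 28), (0, 60, 6, 61), (0, 15, 5, 16), (0, 19, 4, 21), (0, 20, 6, 21), (0, 34, 6, 35), (0, 63, 5, 65), (0, 112, 4, 110), (0, 111, 6, 110), (0, 107, 6, 106), (0, 92, 5, 91), (0, 62, 5, 60), (0, 13, 4, 15), (0, 14,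 6, 15), (0, 18, 6, 19), (0, 33, 5, 34), (0, 115, 3, 112), (0, 113, 6, 112), (0, 108, 5, 107), (0, 10, 3, 13), (0, 12, 6, 13), (0, 17, 5, 18), (0, 119, 1, 115), (0, 116, 6, 115), (0, 114, 5, 113), (0, 6, 1, 10), (0, 9, 6, 10), (0, 11, 5, 12), (0, 120, 6, 119), (0, 117, 5, 116), (0, 5, 6, 6), (0, 8, 5, 9), (0, 121, 5, 120), (0, 118, 4, 117), (0, 4, 5, 5), (0, 7, 4, 8), (0, 122, 4, 121), (0, 3, 4, 4), (0, 123, 3, 122), (0, 2, 3, 3), (0, 124, 2, 123), (0, 1, 2, 2), (0, 125, 0, 124), (0, 0, 0, 1)]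

theorem ngenOK_E7_1 : orbitAllB chevE7 1 [78] ngenCert_E7_1 = true := by decide +kernel

def ngenCert_E7_2 : List (ℕ × ℕ × ℕ × ℕ) := [(0, 94, 0, 73), (0, 52, 2, 73), (0, 74, 3, 73), (0, 93, 2, 94), (0, 95, 3, 94), (0, 31, 0, 52), (0, 51, 3, 52), (0, 83, 1, 74), (0, 69, 2, 74), (0, 75, 4, 74), (0, 32, 0, 93), (0, 99, 1, 95), (0, 96, 4, 95), (0, 30, 3, 31), (0, 42, 1, 51), (0, 56, 2, 51), (0, 50, 4, 51), (0, 79, 2, 83), (0, 84, 4, 83), (0, 70, 4, 69), (0, 76, 5, 75), (0, 100, 4, 99), (0, 97, 5, 96), (0, 26, 1, 30), (0, 29, 4, 30), (0, 46, 2, 42), (0, 41, 4, 42), (0, 55, 4, 56), (0, 49, 5, 50), (0, 78, 3, 79), (0, 80, 4, 79), (0, 87, 3, 84), (0, 85, 5, 84), (0, 66, 3, 70), (0, 71, 5, 70), (0, 77, 6, 76), (0, 103, 3, 100), (0, 101, 5, 100), (0, 98, 6, 97), (0, 25, 4, 26), (0, 28, 5, 29), (0, 47, 3, 46), (0, 45, 4, 46), (0, 38,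 3, 41), (0, 40, 5, 41), (0, 59, 3, 55), (0, 54, 5, 55), (0, 48, 6, 49), (0, 81, 5, 80), (0, 88, 5, 87), (0, 86, 6, 85), (0, 67, 5, 66), (0, 72, 6, 71), (0, 109, 2, 103), (0, 104, 5, 103), (0, 102, 6, 101), (0, 22, 3, 25), (0, 24, 5, 25), (0, 27, 6, 28), (0, 44, 5, 45), (0, 37, 5, 38), (0, 39, 6, 40), (0, 58, 5, 59), (0, 53, 6, 54), (0, 82, 6, 81), (0, 90, 4, 88), (0, 89, 6, 88), (0, 64, 4, 67), (0, 68, 6, 67), (0, 110, 5, 109), (0, 106, 4, 104), (0, 105, 6, 104), (0, 16, 2, 22), (0, 21, 5, 22), (0, 23, 6, 24), (0, 43, 6, 44), (0, 35, 4, 37), (0, 36, 6, 37), (0, 61, 4, 58), (0, 57, 6, 58), (0, 91, 6, 90), (0, 65, 6, 64), (0, 112, 4, 110), (0, 111, 6, 110), (0, 107, 6, 106), (0, 15, 5, 16), (0, 19, 4, 21), (0, 20, 6, 21), (0, 34, 6, 35), (0, 60, 6, 61), (0, 92, 5, 91), (0, 63, 5, 65), (0, 115, 3, 112), (0, 113, 6, 112), (0, 108,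 5, 107), (0, 13, 4, 15), (0, 14, 6, 15), (0, 18, 6, 19), (0, 33, 5, 34), (0, 62, 5, 60), (0, 119, 1, 115), (0, 116, 6, 115), (0, 114, 5, 113), (0, 10, 3, 13), (0, 12, 6, 13), (0, 17, 5, 18), (0, 120, 6, 119), (0, 117, 5, 116), (0, 6, 1, 10), (0, 9, 6, 10), (0, 11, 5, 12), (0, 121, 5, 120), (0, 118, 4, 117), (0, 5, 6, 6), (0, 8, 5, 9), (0, 122, 4, 121), (0, 4, 5, 5), (0, 7, 4, 8), (0, 123, 3, 122), (0, 3, 4, 4), (0, 124, 2, 123), (0, 2, 3, 3), (0, 125, 0, 124), (0, 1, 2, 2), (0, 0, 0, 1)]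

theorem ngenOK_E7_2 : orbitAllB chevE7 1 [73] ngenCert_E7_2 = true := by decide +kernel

def ngenCert_E7_3 : List (ℕ × ℕ × ℕ × ℕ) := [(0, 79, 1, 69), (0, 74, 2, 69), (0, 56, 3, 69), (0, 70, 4, 69), (0, 83, 2, 79), (0, 78, 3, 79), (0, 80, 4, 79), (0, 95, 0, 74), (0, 73, 3, 74), (0, 75, 4, 74), (0, 46, 1, 56), (0, 51, 2, 56), (0, 55, 4, 56), (0, 66, 3, 70), (0, 71, 5, 70), (0, 99, 0, 83), (0, 84, 4, 83), (0, 47, 1, 78), (0, 81, 5, 80), (0, 94, 3, 95), (0, 96, 4, 95), (0, 52, 2, 73), (0, 76, 5, 75), (0, 42, 2, 46), (0, 45, 4, 46), (0, 30, 0, 51), (0, 50, 4, 51), (0, 59, 3, 55), (0, 54, 5, 55), (0, 67, 5, 66), (0, 72, 6, 71), (0, 100, 4, 99), (0, 87, 3, 84), (0, 85, 5, 84), (0, 82, 6, 81), (0, 93, 2, 94), (0, 97, 5, 96), (0, 31, 0, 52), (0, 77, 6, 76), (0, 26, 0, 42), (0, 41, 4, 42), (0, 44, 5, 45), (0, 29, 4, 30), (0, 49, 5,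 50), (0, 58, 5, 59), (0, 53, 6, 54), (0, 64, 4, 67), (0, 68, 6, 67), (0, 103, 3, 100), (0, 101, 5, 100), (0, 88, 5, 87), (0, 86, 6, 85), (0, 32, 0, 93), (0, 98, 6, 97), (0, 25, 4, 26), (0, 38, 3, 41), (0, 40, 5, 41), (0, 43, 6, 44), (0, 28, 5, 29), (0, 48, 6, 49), (0, 61, 4, 58), (0, 57, 6, 58), (0, 65, 6, 64), (0, 109, 2, 103), (0, 104, 5, 103), (0, 102, 6, 101), (0, 90, 4, 88), (0, 89, 6, 88), (0, 22, 3, 25), (0, 24, 5, 25), (0, 37, 5, 38), (0, 39, 6, 40), (0, 27, 6, 28), (0, 60, 6, 61), (0, 63, 5, 65), (0, 110, 5, 109), (0, 106, 4, 104), (0, 105, 6, 104), (0, 91, 6, 90), (0, 16, 2, 22), (0, 21, 5, 22), (0, 23, 6, 24), (0, 35, 4, 37), (0, 36, 6, 37), (0, 62, 5, 60), (0, 112, 4, 110), (0, 111, 6, 110), (0, 107, 6, 106), (0, 92, 5, 91), (0, 15, 5, 16), (0, 19, 4, 21), (0, 20, 6, 21), (0, 34, 6, 35), (0, 115, 3, 112), (0, 113,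 6, 112), (0, 108, 5, 107), (0, 13, 4, 15), (0, 14, 6, 15), (0, 18, 6, 19), (0, 33, 5, 34), (0, 119, 1, 115), (0, 116, 6, 115), (0, 114, 5, 113), (0, 10, 3, 13), (0, 12, 6, 13), (0, 17, 5, 18), (0, 120, 6, 119), (0, 117, 5, 116), (0, 6, 1, 10), (0, 9, 6, 10), (0, 11, 5, 12), (0, 121, 5, 120), (0, 118, 4, 117), (0, 5, 6, 6), (0, 8, 5, 9), (0, 122, 4, 121), (0, 4, 5, 5), (0, 7, 4, 8), (0, 123, 3, 122), (0, 3, 4, 4), (0, 124, 2, 123), (0, 2, 3, 3), (0, 125, 0, 124), (0, 1, 2, 2), (0, 0, 0, 1)]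

theorem ngenOK_E7_3 : orbitAllB chevE7 1 [69] ngenCert_E7_3 = true := by decide +kernel

def ngenCert_E7_4 : List (ℕ × ℕ × ℕ × ℕ) := [(0, 70, 3, 66), (0, 59, 4, 66), (0, 67, 5, 66), (0, 80, 1, 70), (0, 75, 2, 70), (0, 69, 4, 70), (0, 71, 5, 70), (0, 55, 3, 59), (0, 58, 5, 59), (0, 64, 4, 67), (0, 68, 6, 67), (0, 84, 2, 80), (0, 79, 4, 80), (0, 81, 5, 80), (0, 96, 0, 75), (0, 74, 4, 75), (0, 76, 5, 75), (0, 56, 3, 69), (0, 72, 6, 71), (0, 45, 1, 55), (0, 50, 2, 55), (0, 54, 5, 55), (0, 61, 4, 58), (0, 57, 6, 58), (0, 65, 6, 64), (0, 100, 0, 84), (0, 87, 3, 84), (0, 83, 4, 84), (0, 85, 5, 84), (0, 78, 3, 79), (0, 82, 6, 81), (0, 95, 4, 96), (0, 97, 5, 96), (0, 73, 3, 74), (0, 77, 6, 76), (0, 46, 1, 56), (0, 51, 2, 56), (0, 41, 2, 45), (0, 44, 5, 45), (0, 29, 0, 50), (0, 49, 5, 50), (0, 53, 6, 54), (0, 60, 6, 61), (0, 63, 5,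 65), (0, 103, 3, 100), (0, 99, 4, 100), (0, 101, 5, 100), (0, 88, 5, 87), (0, 86, 6, 85), (0, 47, 1, 78), (0, 94, 3, 95), (0, 98, 6, 97), (0, 52, 2, 73), (0, 42, 2, 46), (0, 30, 0, 51), (0, 25, 0, 41), (0, 38, 3, 41), (0, 40, 5, 41), (0, 43, 6, 44), (0, 28, 5, 29), (0, 48, 6, 49), (0, 62, 5, 60), (0, 109, 2, 103), (0, 104, 5, 103), (0, 102, 6, 101), (0, 90, 4, 88), (0, 89, 6, 88), (0, 93, 2, 94), (0, 31, 0, 52), (0, 26, 0, 42), (0, 22, 3, 25), (0, 24, 5, 25), (0, 37, 5, 38), (0, 39, 6, 40), (0, 27, 6, 28), (0, 110, 5, 109), (0, 106, 4, 104), (0, 105, 6, 104), (0, 91, 6, 90), (0, 32, 0, 93), (0, 16, 2, 22), (0, 21, 5, 22), (0, 23, 6, 24), (0, 35, 4, 37), (0, 36, 6, 37), (0, 112, 4, 110), (0, 111, 6, 110), (0, 107, 6, 106), (0, 92, 5, 91), (0, 15, 5, 16), (0, 19, 4, 21), (0, 20, 6, 21), (0, 34, 6, 35), (0, 115, 3, 112), (0, 113,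 6, 112), (0, 108, 5, 107), (0, 13, 4, 15), (0, 14, 6, 15), (0, 18, 6, 19), (0, 33, 5, 34), (0, 119, 1, 115), (0, 116, 6, 115), (0, 114, 5, 113), (0, 10, 3, 13), (0, 12, 6, 13), (0, 17, 5, 18), (0, 120, 6, 119), (0, 117, 5, 116), (0, 6, 1, 10), (0, 9, 6, 10), (0, 11, 5, 12), (0, 121, 5, 120), (0, 118, 4, 117), (0, 5, 6, 6), (0, 8, 5, 9), (0, 122, 4, 121), (0, 4, 5, 5), (0, 7, 4, 8), (0, 123, 3, 122), (0, 3, 4, 4), (0, 124, 2, 123), (0, 2, 3, 3), (0, 125, 0, 124), (0, 1, 2, 2), (0, 0, 0, 1)]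

theorem ngenOK_E7_4 : orbitAllB chevE7 1 [66] ngenCert_E7_4 = true := by decide +kernel

def ngenCert_E7_5 : List (ℕ × ℕ × ℕ × ℕ) := [(0, 67, 4, 64), (0, 61, 5, 64), (0, 65, 6, 64), (0, 71, 3, 67), (0, 66, 5, 67), (0, 68, 6, 67), (0, 58, 4, 61), (0, 60, 6, 61), (0, 63, 5, 65), (0, 81, 1, 71), (0, 76, 2, 71), (0, 70, 5, 71), (0, 72, 6, 71), (0, 59, 4, 66), (0, 54, 3, 58), (0, 57, 6, 58), (0, 62, 5, 60), (0, 85, 2, 81), (0, 80, 5, 81), (0, 82, 6, 81), (0, 97, 0, 76), (0, 75, 5, 76), (0, 77, 6, 76), (0, 69, 4, 70), (0, 55, 3, 59), (0, 44, 1, 54), (0, 49, 2, 54), (0, 53, 6, 54), (0, 101, 0, 85), (0, 88, 3, 85), (0, 84, 5, 85), (0, 86, 6, 85), (0, 79, 4, 80), (0, 96, 5, 97), (0, 98, 6, 97), (0, 74, 4, 75), (0, 56, 3, 69), (0, 45, 1, 55), (0, 50, 2, 55), (0, 40, 2, 44), (0, 43, 6, 44), (0, 28, 0, 49), (0, 48, 6, 49), (0, 104, 3,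 101), (0, 100, 5, 101), (0, 102, 6, 101), (0, 90, 4, 88), (0, 87, 5, 88), (0, 89, 6, 88), (0, 83, 4, 84), (0, 78, 3, 79), (0, 95, 4, 96), (0, 73, 3, 74), (0, 46, 1, 56), (0, 51, 2, 56), (0, 41, 2, 45), (0, 29, 0, 50), (0, 24, 0, 40), (0, 37, 3, 40), (0, 39, 6, 40), (0, 27, 6, 28), (0, 110, 2, 104), (0, 106, 4, 104), (0, 103, 5, 104), (0, 105, 6, 104), (0, 99, 4, 100), (0, 91, 6, 90), (0, 47, 1, 78), (0, 94, 3, 95), (0, 52, 2, 73), (0, 42, 2, 46), (0, 30, 0, 51), (0, 25, 0, 41), (0, 38, 3, 41), (0, 21, 3, 24), (0, 23, 6, 24), (0, 35, 4, 37), (0, 36, 6, 37), (0, 112, 4, 110), (0, 109, 5, 110), (0, 111, 6, 110), (0, 107, 6, 106), (0, 92, 5, 91), (0, 93, 2, 94), (0, 31, 0, 52), (0, 26, 0, 42), (0, 22, 3, 25), (0, 15, 2, 21), (0, 19, 4, 21), (0, 20, 6, 21), (0, 34, 6, 35), (0, 115, 3, 112), (0, 113, 6, 112), (0, 108, 5, 107), (0,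 32, 0, 93), (0, 16, 2, 22), (0, 13, 4, 15), (0, 14, 6, 15), (0, 18, 6, 19), (0, 33, 5, 34), (0, 119, 1, 115), (0, 116, 6, 115), (0, 114, 5, 113), (0, 10, 3, 13), (0, 12, 6, 13), (0, 17, 5, 18), (0, 120, 6, 119), (0, 117, 5, 116), (0, 6, 1, 10), (0, 9, 6, 10), (0, 11, 5, 12), (0, 121, 5, 120), (0, 118, 4, 117), (0, 5, 6, 6), (0, 8, 5, 9), (0, 122, 4, 121), (0, 4, 5, 5), (0, 7, 4, 8), (0, 123, 3, 122), (0, 3, 4, 4), (0, 124, 2, 123), (0, 2, 3, 3), (0, 125, 0, 124), (0, 1, 2, 2), (0, 0, 0, 1)]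

theorem ngenOK_E7_5 : orbitAllB chevE7 1 [64] ngenCert_E7_5 = true := by decide +kernel

def ngenCert_E7_6 : List (ℕ × ℕ × ℕ × ℕ) := [(0, 65, 5, 63), (0, 62, 6, 63), (0, 68, 4, 65), (0, 64, 6, 65), (0, 60, 5, 62), (0, 72, 3, 68), (0, 67, 6, 68), (0, 61, 5, 64), (0, 57, 4, 60), (0, 82, 1, 72), (0, 77, 2, 72), (0, 71, 6, 72), (0, 66, 5, 67), (0, 58, 4, 61), (0, 53, 3, 57), (0, 86, 2, 82), (0, 81, 6, 82), (0, 98, 0, 77), (0, 76, 6, 77), (0, 70, 5, 71), (0, 59, 4, 66), (0, 54, 3, 58), (0, 43, 1, 53), (0, 48, 2, 53), (0, 102, 0, 86), (0, 89, 3, 86), (0, 85, 6, 86), (0, 80, 5, 81), (0, 97, 6, 98), (0, 75, 5, 76), (0, 69, 4, 70), (0, 55, 3, 59), (0, 44, 1, 54), (0, 49, 2, 54), (0, 39, 2, 43), (0, 27, 0, 48), (0, 105, 3, 102), (0, 101, 6, 102), (0, 91, 4, 89), (0, 88, 6, 89), (0, 84, 5, 85), (0, 79, 4, 80), (0, 96, 5, 97), (0, 74,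 4, 75), (0, 56, 3, 69), (0, 45, 1, 55), (0, 50, 2, 55), (0, 40, 2, 44), (0, 28, 0, 49), (0, 23, 0, 39), (0, 36, 3, 39), (0, 111, 2, 105), (0, 107, 4, 105), (0, 104, 6, 105), (0, 100, 5, 101), (0, 92, 5, 91), (0, 90, 6, 91), (0, 87, 5, 88), (0, 83, 4, 84), (0, 78, 3, 79), (0, 95, 4, 96), (0, 73, 3, 74), (0, 46, 1, 56), (0, 51, 2, 56), (0, 41, 2, 45), (0, 29, 0, 50), (0, 24, 0, 40), (0, 37, 3, 40), (0, 20, 3, 23), (0, 34, 4, 36), (0, 113, 4, 111), (0, 110, 6, 111), (0, 108, 5, 107), (0, 106, 6, 107), (0, 103, 5, 104), (0, 99, 4, 100), (0, 47, 1, 78), (0, 94, 3, 95), (0, 52, 2, 73), (0, 42, 2, 46), (0, 30, 0, 51), (0, 25, 0, 41), (0, 38, 3, 41), (0, 21, 3, 24), (0, 35, 4, 37), (0, 14, 2, 20), (0, 18, 4, 20), (0, 33, 5, 34), (0, 116, 3, 113), (0, 114, 5, 113), (0, 112, 6, 113), (0, 109, 5, 110), (0, 93, 2, 94), (0, 31, 0, 52),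 (0, 26, 0, 42), (0, 22, 3, 25), (0, 15, 2, 21), (0, 19, 4, 21), (0, 12, 4, 14), (0, 17, 5, 18), (0, 120, 1, 116), (0, 117, 5, 116), (0, 115, 6, 116), (0, 32, 0, 93), (0, 16, 2, 22), (0, 13, 4, 15), (0, 9, 3, 12), (0, 11, 5, 12), (0, 121, 5, 120), (0, 119, 6, 120), (0, 118, 4, 117), (0, 10, 3, 13), (0, 5, 1, 9), (0, 8, 5, 9), (0, 122, 4, 121), (0, 6, 1, 10), (0, 4, 5, 5), (0, 7, 4, 8), (0, 123, 3, 122), (0, 3, 4, 4), (0, 124, 2, 123), (0, 2, 3, 3), (0, 125, 0, 124), (0, 1, 2, 2), (0, 0, 0, 1)]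

theorem ngenOK_E7_6 : orbitAllB chevE7 1 [63] ngenCert_E7_6 = true := by decide +kernel

def ngenCert_E8_0 : List (ℕ × ℕ × ℕ × ℕ) := [(0, 77, 0, 162), (0, 163, 2, 162), (0, 76, 2, 77), (0, 135, 0, 163), (0, 164, 3, 163), (0, 104, 0, 76), (0, 75, 3, 76), (0, 136, 3, 135), (0, 169, 1, 164), (0, 165, 4, 164), (0, 103, 3, 104), (0, 70, 1, 75), (0, 74, 4, 75), (0, 147, 1, 136), (0, 130, 2, 136), (0, 137, 4, 136), (0, 170, 4, 169), (0, 166, 5, 165), (0, 92, 1, 103), (0, 109, 2, 103), (0, 102, 4, 103), (0, 69, 4, 70), (0, 73, 5, 74), (0, 142, 2, 147), (0, 148, 4, 147), (0, 131, 4, 130), (0, 138, 5, 137), (0, 174, 3, 170), (0, 171, 5, 170), (0, 167, 6, 166), (0, 97, 2, 92), (0, 91, 4, 92), (0, 108, 4, 109), (0, 101, 5, 102), (0, 65, 3, 69), (0, 68, 5, 69), (0, 72, 6, 73), (0, 141, 3, 142), (0, 143, 4, 142), (0, 152, 3, 148), (0, 149,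 5, 148), (0, 126, 3, 131), (0, 132, 5, 131), (0, 139, 6, 138), (0, 184, 2, 174), (0, 175, 5, 174), (0, 172, 6, 171), (0, 168, 7, 167), (0, 98, 3, 97), (0, 96, 4, 97), (0, 87, 3, 91), (0, 90, 5, 91), (0, 113, 3, 108), (0, 107, 5, 108), (0, 100, 6, 101), (0, 55, 2, 65), (0, 64, 5, 65), (0, 67, 6, 68), (0, 71, 7, 72), (0, 144, 5, 143), (0, 153, 5, 152), (0, 150, 6, 149), (0, 127, 5, 126), (0, 133, 6, 132), (0, 140, 7, 139), (0, 185, 5, 184), (0, 178, 4, 175), (0, 176, 6, 175), (0, 173, 7, 172), (0, 95, 5, 96), (0, 86, 5, 87), (0, 89, 6, 90), (0, 112, 5, 113), (0, 106, 6, 107), (0, 99, 7, 100), (0, 54, 5, 55), (0, 61, 4, 64), (0, 63, 6, 64), (0, 66, 7, 67), (0, 145, 6, 144), (0, 156, 4, 153), (0, 154, 6, 153), (0, 151, 7, 150), (0, 123, 4, 127), (0, 128, 6, 127), (0, 134, 7, 133), (0, 188, 4, 185), (0, 186, 6, 185), (0, 179, 6,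 178), (0, 177, 7, 176), (0, 94, 6, 95), (0, 83, 4, 86), (0, 85, 6, 86), (0, 88, 7, 89), (0, 116, 4, 112), (0, 111, 6, 112), (0, 105, 7, 106), (0, 51, 4, 54), (0, 53, 6, 54), (0, 60, 6, 61), (0, 62, 7, 63), (0, 146, 7, 145), (0, 157, 6, 156), (0, 155, 7, 154), (0, 124, 6, 123), (0, 129, 7, 128), (0, 194, 3, 188), (0, 189, 6, 188), (0, 187, 7, 186), (0, 181, 5, 179), (0, 180, 7, 179), (0, 93, 7, 94), (0, 82, 6, 83), (0, 84, 7, 85), (0, 115, 6, 116), (0, 110, 7, 111), (0, 45, 3, 51), (0, 50, 6, 51), (0, 52, 7, 53), (0, 58, 5, 60), (0, 59, 7, 60), (0, 159, 5, 157), (0, 158, 7, 157), (0, 121, 5, 124), (0, 125, 7, 124), (0, 204, 1, 194), (0, 195, 6, 194), (0, 191, 5, 189), (0, 190, 7, 189), (0, 182, 7, 181), (0, 80, 5, 82), (0, 81, 7, 82), (0, 118, 5, 115), (0, 114, 7, 115), (0, 35, 1, 45), (0, 44, 6, 45), (0, 48, 5, 50), (0, 49,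 7, 50), (0, 57, 7, 58), (0, 160, 7, 159), (0, 122, 7, 121), (0, 205, 6, 204), (0, 197, 5, 195), (0, 196, 7, 195), (0, 192, 7, 191), (0, 183, 6, 182), (0, 79, 7, 80), (0, 117, 7, 118), (0, 34, 6, 35), (0, 42, 5, 44), (0, 43, 7, 44), (0, 47, 7, 48), (0, 56, 6, 57), (0, 161, 6, 160), (0, 120, 6, 122), (0, 207, 5, 205), (0, 206, 7, 205), (0, 200, 4, 197), (0, 198, 7, 197), (0, 193, 6, 192), (0, 78, 6, 79), (0, 119, 6, 117), (0, 32, 5, 34), (0, 33, 7, 34), (0, 39, 4, 42), (0, 41, 7, 42), (0, 46, 6, 47), (0, 210, 4, 207), (0, 208, 7, 207), (0, 201, 7, 200), (0, 199, 6, 198), (0, 29, 4, 32), (0, 31, 7, 32), (0, 38, 7, 39), (0, 40, 6, 41), (0, 214, 3, 210), (0, 211, 7, 210), (0, 209, 6, 208), (0, 202, 6, 201), (0, 25, 3, 29), (0, 28, 7, 29), (0, 30, 6, 31), (0, 37, 6, 38), (0, 219, 2, 214), (0, 215, 7, 214), (0, 212, 6, 211), (0, 203,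 5, 202), (0, 20, 2, 25), (0, 24, 7, 25), (0, 27, 6, 28), (0, 36, 5, 37), (0, 226, 0, 219), (0, 220, 7, 219), (0, 216, 6, 215), (0, 213, 5, 212), (0, 13, 0, 20), (0, 19, 7, 20), (0, 23, 6, 24), (0, 26, 5, 27), (0, 227, 7, 226), (0, 221, 6, 220), (0, 217, 5, 216), (0, 12, 7, 13), (0, 18, 6, 19), (0, 22, 5, 23), (0, 228, 6, 227), (0, 222, 5, 221), (0, 218, 4, 217), (0, 11, 6, 12), (0, 17, 5, 18), (0, 21, 4, 22), (0, 229, 5, 228), (0, 223, 4, 222), (0, 10, 5, 11), (0, 16, 4, 17), (0, 230, 4, 229), (0, 224, 3, 223), (0, 9, 4, 10), (0, 15, 3, 16), (0, 231, 3, 230), (0, 225, 1, 224), (0, 8, 3, 9), (0, 14, 1, 15), (0, 233, 1, 231), (0, 232, 2, 231), (0, 6, 1, 8), (0, 7, 2, 8), (0, 234, 2, 233), (0, 5, 2, 6), (0, 235, 3, 234), (0, 4, 3, 5), (0, 236, 4, 235), (0, 3, 4, 4), (0, 237, 5, 236), (0, 2, 5, 3), (0, 238, 6, 237), (0, 1, 6, 2),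 (0, 239, 7, 238), (0, 0, 7, 1)]

theorem ngenOK_E8_0 : orbitAllB chevE8 1 [162] ngenCert_E8_0 = true := by decide +kernel

def ngenCert_E8_1 : List (ℕ × ℕ × ℕ × ℕ) := [(0, 98, 1, 141), (0, 142, 3, 141), (0, 97, 3, 98), (0, 130, 1, 142), (0, 147, 2, 142), (0, 143, 4, 142), (0, 109, 1, 97), (0, 92, 2, 97), (0, 96, 4, 97), (0, 136, 2, 130), (0, 131, 4, 130), (0, 169, 0, 147), (0, 148, 4, 147), (0, 144, 5, 143), (0, 103, 2, 109), (0, 108, 4, 109), (0, 70, 0, 92), (0, 91, 4, 92), (0, 95, 5, 96), (0, 164, 0, 136), (0, 135, 3, 136), (0, 137, 4, 136), (0, 126, 3, 131), (0, 132, 5, 131), (0, 170, 4, 169), (0, 152, 3, 148), (0, 149, 5, 148), (0, 145, 6, 144), (0, 75, 0, 103), (0, 104, 3, 103), (0, 102, 4, 103), (0, 113, 3, 108), (0, 107, 5, 108), (0, 69, 4, 70), (0, 87, 3, 91), (0, 90, 5, 91), (0, 94, 6, 95), (0, 163, 3, 164), (0, 165,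 4, 164), (0, 138, 5, 137), (0, 127, 5, 126), (0, 133, 6, 132), (0, 174, 3, 170), (0, 171, 5, 170), (0, 153, 5, 152), (0, 150, 6, 149), (0, 146, 7, 145), (0, 76, 3, 75), (0, 74, 4, 75), (0, 101, 5, 102), (0, 112, 5, 113), (0, 106, 6, 107), (0, 65, 3, 69), (0, 68, 5, 69), (0, 86, 5, 87), (0, 89, 6, 90), (0, 93, 7, 94), (0, 162, 2, 163), (0, 166, 5, 165), (0, 139, 6, 138), (0, 123, 4, 127), (0, 128, 6, 127), (0, 134, 7, 133), (0, 184, 2, 174), (0, 175, 5, 174), (0, 172, 6, 171), (0, 156, 4, 153), (0, 154, 6, 153), (0, 151, 7, 150), (0, 77, 2, 76), (0, 73, 5, 74), (0, 100, 6, 101), (0, 116, 4, 112), (0, 111, 6, 112), (0, 105, 7, 106), (0, 55, 2, 65), (0, 64, 5, 65), (0, 67, 6, 68), (0, 83, 4, 86), (0, 85, 6, 86), (0, 88, 7, 89), (0, 167, 6, 166), (0, 140, 7, 139), (0, 124, 6, 123), (0, 129, 7, 128), (0, 185, 5, 184), (0, 178, 4,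 175), (0, 176, 6, 175), (0, 173, 7, 172), (0, 157, 6, 156), (0, 155, 7, 154), (0, 72, 6, 73), (0, 99, 7, 100), (0, 115, 6, 116), (0, 110, 7, 111), (0, 54, 5, 55), (0, 61, 4, 64), (0, 63, 6, 64), (0, 66, 7, 67), (0, 82, 6, 83), (0, 84, 7, 85), (0, 168, 7, 167), (0, 121, 5, 124), (0, 125, 7, 124), (0, 188, 4, 185), (0, 186, 6, 185), (0, 179, 6, 178), (0, 177, 7, 176), (0, 159, 5, 157), (0, 158, 7, 157), (0, 71, 7, 72), (0, 118, 5, 115), (0, 114, 7, 115), (0, 51, 4, 54), (0, 53, 6, 54), (0, 60, 6, 61), (0, 62, 7, 63), (0, 80, 5, 82), (0, 81, 7, 82), (0, 122, 7, 121), (0, 194, 3, 188), (0, 189, 6, 188), (0, 187, 7, 186), (0, 181, 5, 179), (0, 180, 7, 179), (0, 160, 7, 159), (0, 117, 7, 118), (0, 45, 3, 51), (0, 50, 6, 51), (0, 52, 7, 53), (0, 58, 5, 60), (0, 59, 7, 60), (0, 79, 7, 80), (0, 120, 6, 122), (0, 204, 1, 194), (0, 195,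 6, 194), (0, 191, 5, 189), (0, 190, 7, 189), (0, 182, 7, 181), (0, 161, 6, 160), (0, 119, 6, 117), (0, 35, 1, 45), (0, 44, 6, 45), (0, 48, 5, 50), (0, 49, 7, 50), (0, 57, 7, 58), (0, 78, 6, 79), (0, 205, 6, 204), (0, 197, 5, 195), (0, 196, 7, 195), (0, 192, 7, 191), (0, 183, 6, 182), (0, 34, 6, 35), (0, 42, 5, 44), (0, 43, 7, 44), (0, 47, 7, 48), (0, 56, 6, 57), (0, 207, 5, 205), (0, 206, 7, 205), (0, 200, 4, 197), (0, 198, 7, 197), (0, 193, 6, 192), (0, 32, 5, 34), (0, 33, 7, 34), (0, 39, 4, 42), (0, 41, 7, 42), (0, 46, 6, 47), (0, 210, 4, 207), (0, 208, 7, 207), (0, 201, 7, 200), (0, 199, 6, 198), (0, 29, 4, 32), (0, 31, 7, 32), (0, 38, 7, 39), (0, 40, 6, 41), (0, 214, 3, 210), (0, 211, 7, 210), (0, 209, 6, 208), (0, 202, 6, 201), (0, 25, 3, 29), (0, 28, 7, 29), (0, 30, 6, 31), (0, 37, 6, 38), (0, 219, 2, 214), (0, 215, 7,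 214), (0, 212, 6, 211), (0, 203, 5, 202), (0, 20, 2, 25), (0, 24, 7, 25), (0, 27, 6, 28), (0, 36, 5, 37), (0, 226, 0, 219), (0, 220, 7, 219), (0, 216, 6, 215), (0, 213, 5, 212), (0, 13, 0, 20), (0, 19, 7, 20), (0, 23, 6, 24), (0, 26, 5, 27), (0, 227, 7, 226), (0, 221, 6, 220), (0, 217, 5, 216), (0, 12, 7, 13), (0, 18, 6, 19), (0, 22, 5, 23), (0, 228, 6, 227), (0, 222, 5, 221), (0, 218, 4, 217), (0, 11, 6, 12), (0, 17, 5, 18), (0, 21, 4, 22), (0, 229, 5, 228), (0, 223, 4, 222), (0, 10, 5, 11), (0, 16, 4, 17), (0, 230, 4, 229), (0, 224, 3, 223), (0, 9, 4, 10), (0, 15, 3, 16), (0, 231, 3, 230), (0, 225, 1, 224), (0, 8, 3, 9), (0, 14, 1, 15), (0, 233, 1, 231), (0, 232, 2, 231), (0, 6, 1, 8), (0, 7, 2, 8), (0, 234, 2, 233), (0, 5, 2, 6), (0, 235, 3, 234), (0, 4, 3, 5), (0, 236, 4, 235), (0, 3, 4, 4), (0, 237, 5, 236), (0, 2, 5,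 3), (0, 238, 6, 237), (0, 1, 6, 2), (0, 239, 7, 238), (0, 0, 7, 1)]

theorem ngenOK_E8_1 : orbitAllB chevE8 1 [141] ngenCert_E8_1 = true := by decide +kernel

def ngenCert_E8_2 : List (ℕ × ℕ × ℕ × ℕ) := [(0, 163, 0, 135), (0, 104, 2, 135), (0, 136, 3, 135), (0, 162, 2, 163), (0, 164, 3, 163), (0, 76, 0, 104), (0, 103, 3, 104), (0, 147, 1, 136), (0, 130, 2, 136), (0, 137, 4, 136), (0, 77, 0, 162), (0, 169, 1, 164), (0, 165, 4, 164), (0, 75, 3, 76), (0, 92, 1, 103), (0, 109, 2, 103), (0, 102, 4, 103), (0, 142, 2, 147), (0, 148, 4, 147), (0, 131, 4, 130), (0, 138, 5, 137), (0, 170, 4, 169), (0, 166, 5, 165), (0, 70, 1, 75), (0, 74, 4, 75), (0, 97, 2, 92), (0, 91, 4, 92), (0, 108, 4, 109), (0, 101, 5, 102), (0, 141, 3, 142), (0, 143, 4, 142), (0, 152, 3, 148), (0, 149, 5, 148), (0, 126, 3, 131), (0, 132, 5, 131), (0, 139, 6, 138),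 (0, 174, 3, 170), (0, 171, 5, 170), (0, 167, 6, 166), (0, 69, 4, 70), (0, 73, 5, 74), (0, 98, 3, 97), (0, 96, 4, 97), (0, 87, 3, 91), (0, 90, 5, 91), (0, 113, 3, 108), (0, 107, 5, 108), (0, 100, 6, 101), (0, 144, 5, 143), (0, 153, 5, 152), (0, 150, 6, 149), (0, 127, 5, 126), (0, 133, 6, 132), (0, 140, 7, 139), (0, 184, 2, 174), (0, 175, 5, 174), (0, 172, 6, 171), (0, 168, 7, 167), (0, 65, 3, 69), (0, 68, 5, 69), (0, 72, 6, 73), (0, 95, 5, 96), (0, 86, 5, 87), (0, 89, 6, 90), (0, 112, 5, 113), (0, 106, 6, 107), (0, 99, 7, 100), (0, 145, 6, 144), (0, 156, 4, 153), (0, 154, 6, 153), (0, 151, 7, 150), (0, 123, 4, 127), (0, 128, 6, 127), (0, 134, 7, 133), (0, 185, 5, 184), (0, 178, 4, 175), (0, 176, 6, 175), (0, 173, 7, 172), (0, 55, 2, 65), (0, 64, 5, 65), (0, 67, 6, 68), (0, 71, 7, 72), (0, 94, 6, 95), (0, 83, 4, 86), (0, 85,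 6, 86), (0, 88, 7, 89), (0, 116, 4, 112), (0, 111, 6, 112), (0, 105, 7, 106), (0, 146, 7, 145), (0, 157, 6, 156), (0, 155, 7, 154), (0, 124, 6, 123), (0, 129, 7, 128), (0, 188, 4, 185), (0, 186, 6, 185), (0, 179, 6, 178), (0, 177, 7, 176), (0, 54, 5, 55), (0, 61, 4, 64), (0, 63, 6, 64), (0, 66, 7, 67), (0, 93, 7, 94), (0, 82, 6, 83), (0, 84, 7, 85), (0, 115, 6, 116), (0, 110, 7, 111), (0, 159, 5, 157), (0, 158, 7, 157), (0, 121, 5, 124), (0, 125, 7, 124), (0, 194, 3, 188), (0, 189, 6, 188), (0, 187, 7, 186), (0, 181, 5, 179), (0, 180, 7, 179), (0, 51, 4, 54), (0, 53, 6, 54), (0, 60, 6, 61), (0, 62, 7, 63), (0, 80, 5, 82), (0, 81, 7, 82), (0, 118, 5, 115), (0, 114, 7, 115), (0, 160, 7, 159), (0, 122, 7, 121), (0, 204, 1, 194), (0, 195, 6, 194), (0, 191, 5, 189), (0, 190, 7, 189), (0, 182, 7, 181), (0, 45, 3, 51), (0, 50, 6,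 51), (0, 52, 7, 53), (0, 58, 5, 60), (0, 59, 7, 60), (0, 79, 7, 80), (0, 117, 7, 118), (0, 161, 6, 160), (0, 120, 6, 122), (0, 205, 6, 204), (0, 197, 5, 195), (0, 196, 7, 195), (0, 192, 7, 191), (0, 183, 6, 182), (0, 35, 1, 45), (0, 44, 6, 45), (0, 48, 5, 50), (0, 49, 7, 50), (0, 57, 7, 58), (0, 78, 6, 79), (0, 119, 6, 117), (0, 207, 5, 205), (0, 206, 7, 205), (0, 200, 4, 197), (0, 198, 7, 197), (0, 193, 6, 192), (0, 34, 6, 35), (0, 42, 5, 44), (0, 43, 7, 44), (0, 47, 7, 48), (0, 56, 6, 57), (0, 210, 4, 207), (0, 208, 7, 207), (0, 201, 7, 200), (0, 199, 6, 198), (0, 32, 5, 34), (0, 33, 7, 34), (0, 39, 4, 42), (0, 41, 7, 42), (0, 46, 6, 47), (0, 214, 3, 210), (0, 211, 7, 210), (0, 209, 6, 208), (0, 202, 6, 201), (0, 29, 4, 32), (0, 31, 7, 32), (0, 38, 7, 39), (0, 40, 6, 41), (0, 219, 2, 214), (0, 215, 7, 214), (0, 212, 6, 211),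 (0, 203, 5, 202), (0, 25, 3, 29), (0, 28, 7, 29), (0, 30, 6, 31), (0, 37, 6, 38), (0, 226, 0, 219), (0, 220, 7, 219), (0, 216, 6, 215), (0, 213, 5, 212), (0, 20, 2, 25), (0, 24, 7, 25), (0, 27, 6, 28), (0, 36, 5, 37), (0, 227, 7, 226), (0, 221, 6, 220), (0, 217, 5, 216), (0, 13, 0, 20), (0, 19, 7, 20), (0, 23, 6, 24), (0, 26, 5, 27), (0, 228, 6, 227), (0, 222, 5, 221), (0, 218, 4, 217), (0, 12, 7, 13), (0, 18, 6, 19), (0, 22, 5, 23), (0, 229, 5, 228), (0, 223, 4, 222), (0, 11, 6, 12), (0, 17, 5, 18), (0, 21, 4, 22), (0, 230, 4, 229), (0, 224, 3, 223), (0, 10, 5, 11), (0, 16, 4, 17), (0, 231, 3, 230), (0, 225, 1, 224), (0, 9, 4, 10), (0, 15, 3, 16), (0, 233, 1, 231), (0, 232, 2, 231), (0, 8, 3, 9), (0, 14, 1, 15), (0, 234, 2, 233), (0, 6, 1, 8), (0, 7, 2, 8), (0, 235, 3, 234), (0, 5, 2, 6), (0, 236, 4, 235), (0, 4, 3, 5), (0,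 237, 5, 236), (0, 3, 4, 4), (0, 238, 6, 237), (0, 2, 5, 3), (0, 239, 7, 238), (0, 1, 6, 2), (0, 0, 7, 1)]

theorem ngenOK_E8_2 : orbitAllB chevE8 1 [135] ngenCert_E8_2 = true := by decide +kernel

def ngenCert_E8_3 : List (ℕ × ℕ × ℕ × ℕ) := [(0, 142, 1, 130), (0, 136, 2, 130), (0, 109, 3, 130), (0, 131, 4, 130), (0, 147, 2, 142), (0, 141, 3, 142), (0, 143, 4, 142), (0, 164, 0, 136), (0, 135, 3, 136), (0, 137, 4, 136), (0, 97, 1, 109), (0, 103, 2, 109), (0, 108, 4, 109), (0, 126, 3, 131), (0, 132, 5, 131), (0, 169, 0, 147), (0, 148, 4, 147), (0, 98, 1, 141), (0, 144, 5, 143), (0, 163, 3, 164), (0, 165, 4, 164), (0, 104, 2, 135), (0, 138, 5, 137), (0, 92, 2, 97), (0, 96, 4, 97), (0, 75, 0, 103), (0, 102, 4, 103), (0, 113, 3, 108), (0, 107, 5, 108), (0, 127, 5, 126), (0, 133, 6, 132), (0, 170, 4, 169), (0, 152, 3, 148), (0, 149,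 5, 148), (0, 145, 6, 144), (0, 162, 2, 163), (0, 166, 5, 165), (0, 76, 0, 104), (0, 139, 6, 138), (0, 70, 0, 92), (0, 91, 4, 92), (0, 95, 5, 96), (0, 74, 4, 75), (0, 101, 5, 102), (0, 112, 5, 113), (0, 106, 6, 107), (0, 123, 4, 127), (0, 128, 6, 127), (0, 134, 7, 133), (0, 174, 3, 170), (0, 171, 5, 170), (0, 153, 5, 152), (0, 150, 6, 149), (0, 146, 7, 145), (0, 77, 0, 162), (0, 167, 6, 166), (0, 140, 7, 139), (0, 69, 4, 70), (0, 87, 3, 91), (0, 90, 5, 91), (0, 94, 6, 95), (0, 73, 5, 74), (0, 100, 6, 101), (0, 116, 4, 112), (0, 111, 6, 112), (0, 105, 7, 106), (0, 124, 6, 123), (0, 129, 7, 128), (0, 184, 2, 174), (0, 175, 5, 174), (0, 172, 6, 171), (0, 156, 4, 153), (0, 154, 6, 153), (0, 151, 7, 150), (0, 168, 7, 167), (0, 65, 3, 69), (0, 68, 5, 69), (0, 86, 5, 87), (0, 89, 6, 90), (0, 93, 7, 94), (0, 72, 6, 73), (0, 99, 7, 100),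 (0, 115, 6, 116), (0, 110, 7, 111), (0, 121, 5, 124), (0, 125, 7, 124), (0, 185, 5, 184), (0, 178, 4, 175), (0, 176, 6, 175), (0, 173, 7, 172), (0, 157, 6, 156), (0, 155, 7, 154), (0, 55, 2, 65), (0, 64, 5, 65), (0, 67, 6, 68), (0, 83, 4, 86), (0, 85, 6, 86), (0, 88, 7, 89), (0, 71, 7, 72), (0, 118, 5, 115), (0, 114, 7, 115), (0, 122, 7, 121), (0, 188, 4, 185), (0, 186, 6, 185), (0, 179, 6, 178), (0, 177, 7, 176), (0, 159, 5, 157), (0, 158, 7, 157), (0, 54, 5, 55), (0, 61, 4, 64), (0, 63, 6, 64), (0, 66, 7, 67), (0, 82, 6, 83), (0, 84, 7, 85), (0, 117, 7, 118), (0, 120, 6, 122), (0, 194, 3, 188), (0, 189, 6, 188), (0, 187, 7, 186), (0, 181, 5, 179), (0, 180, 7, 179), (0, 160, 7, 159), (0, 51, 4, 54), (0, 53, 6, 54), (0, 60, 6, 61), (0, 62, 7, 63), (0, 80, 5, 82), (0, 81, 7, 82), (0, 119, 6, 117), (0, 204, 1, 194), (0, 195,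 6, 194), (0, 191, 5, 189), (0, 190, 7, 189), (0, 182, 7, 181), (0, 161, 6, 160), (0, 45, 3, 51), (0, 50, 6, 51), (0, 52, 7, 53), (0, 58, 5, 60), (0, 59, 7, 60), (0, 79, 7, 80), (0, 205, 6, 204), (0, 197, 5, 195), (0, 196, 7, 195), (0, 192, 7, 191), (0, 183, 6, 182), (0, 35, 1, 45), (0, 44, 6, 45), (0, 48, 5, 50), (0, 49, 7, 50), (0, 57, 7, 58), (0, 78, 6, 79), (0, 207, 5, 205), (0, 206, 7, 205), (0, 200, 4, 197), (0, 198, 7, 197), (0, 193, 6, 192), (0, 34, 6, 35), (0, 42, 5, 44), (0, 43, 7, 44), (0, 47, 7, 48), (0, 56, 6, 57), (0, 210, 4, 207), (0, 208, 7, 207), (0, 201, 7, 200), (0, 199, 6, 198), (0, 32, 5, 34), (0, 33, 7, 34), (0, 39, 4, 42), (0, 41, 7, 42), (0, 46, 6, 47), (0, 214, 3, 210), (0, 211, 7, 210), (0, 209, 6, 208), (0, 202, 6, 201), (0, 29, 4, 32), (0, 31, 7, 32), (0, 38, 7, 39), (0, 40, 6, 41), (0, 219, 2, 214),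 (0, 215, 7, 214), (0, 212, 6, 211), (0, 203, 5, 202), (0, 25, 3, 29), (0, 28, 7, 29), (0, 30, 6, 31), (0, 37, 6, 38), (0, 226, 0, 219), (0, 220, 7, 219), (0, 216, 6, 215), (0, 213, 5, 212), (0, 20, 2, 25), (0, 24, 7, 25), (0, 27, 6, 28), (0, 36, 5, 37), (0, 227, 7, 226), (0, 221, 6, 220), (0, 217, 5, 216), (0, 13, 0, 20), (0, 19, 7, 20), (0, 23, 6, 24), (0, 26, 5, 27), (0, 228, 6, 227), (0, 222, 5, 221), (0, 218, 4, 217), (0, 12, 7, 13), (0, 18, 6, 19), (0, 22, 5, 23), (0, 229, 5, 228), (0, 223, 4, 222), (0, 11, 6, 12), (0, 17, 5, 18), (0, 21, 4, 22), (0, 230, 4, 229), (0, 224, 3, 223), (0, 10, 5, 11), (0, 16, 4, 17), (0, 231, 3, 230), (0, 225, 1, 224), (0, 9, 4, 10), (0, 15, 3, 16), (0, 233, 1, 231), (0, 232, 2, 231), (0, 8, 3, 9), (0, 14, 1, 15), (0, 234, 2, 233), (0, 6, 1, 8), (0, 7, 2, 8), (0, 235, 3, 234), (0, 5, 2, 6),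 (0, 236, 4, 235), (0, 4, 3, 5), (0, 237, 5, 236), (0, 3, 4, 4), (0, 238, 6, 237), (0, 2, 5, 3), (0, 239, 7, 238), (0, 1, 6, 2), (0, 0, 7, 1)]

theorem ngenOK_E8_3 : orbitAllB chevE8 1 [130] ngenCert_E8_3 = true := by decide +kernel

def ngenCert_E8_4 : List (ℕ × ℕ × ℕ × ℕ) := [(0, 131, 3, 126), (0, 113, 4, 126), (0, 127, 5, 126), (0, 143, 1, 131), (0, 137, 2, 131), (0, 130, 4, 131), (0, 132, 5, 131), (0, 108, 3, 113), (0, 112, 5, 113), (0, 123, 4, 127), (0, 128, 6, 127), (0, 148, 2, 143), (0, 142, 4, 143), (0, 144, 5, 143), (0, 165, 0, 137), (0, 136, 4, 137), (0, 138, 5, 137), (0, 109, 3, 130), (0, 133, 6, 132), (0, 96, 1, 108), (0, 102, 2, 108), (0, 107, 5, 108), (0, 116, 4, 112), (0, 111, 6, 112), (0, 124, 6, 123), (0, 129, 7, 128), (0, 170, 0, 148), (0, 152, 3, 148), (0, 147, 4, 148), (0, 149, 5, 148), (0, 141, 3, 142),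 (0, 145, 6, 144), (0, 164, 4, 165), (0, 166, 5, 165), (0, 135, 3, 136), (0, 139, 6, 138), (0, 97, 1, 109), (0, 103, 2, 109), (0, 134, 7, 133), (0, 91, 2, 96), (0, 95, 5, 96), (0, 74, 0, 102), (0, 101, 5, 102), (0, 106, 6, 107), (0, 115, 6, 116), (0, 110, 7, 111), (0, 121, 5, 124), (0, 125, 7, 124), (0, 174, 3, 170), (0, 169, 4, 170), (0, 171, 5, 170), (0, 153, 5, 152), (0, 150, 6, 149), (0, 98, 1, 141), (0, 146, 7, 145), (0, 163, 3, 164), (0, 167, 6, 166), (0, 104, 2, 135), (0, 140, 7, 139), (0, 92, 2, 97), (0, 75, 0, 103), (0, 69, 0, 91), (0, 87, 3, 91), (0, 90, 5, 91), (0, 94, 6, 95), (0, 73, 5, 74), (0, 100, 6, 101), (0, 105, 7, 106), (0, 118, 5, 115), (0, 114, 7, 115), (0, 122, 7, 121), (0, 184, 2, 174), (0, 175, 5, 174), (0, 172, 6, 171), (0, 156, 4, 153), (0, 154, 6, 153), (0, 151, 7, 150), (0, 162, 2, 163), (0, 168,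 7, 167), (0, 76, 0, 104), (0, 70, 0, 92), (0, 65, 3, 69), (0, 68, 5, 69), (0, 86, 5, 87), (0, 89, 6, 90), (0, 93, 7, 94), (0, 72, 6, 73), (0, 99, 7, 100), (0, 117, 7, 118), (0, 120, 6, 122), (0, 185, 5, 184), (0, 178, 4, 175), (0, 176, 6, 175), (0, 173, 7, 172), (0, 157, 6, 156), (0, 155, 7, 154), (0, 77, 0, 162), (0, 55, 2, 65), (0, 64, 5, 65), (0, 67, 6, 68), (0, 83, 4, 86), (0, 85, 6, 86), (0, 88, 7, 89), (0, 71, 7, 72), (0, 119, 6, 117), (0, 188, 4, 185), (0, 186, 6, 185), (0, 179, 6, 178), (0, 177, 7, 176), (0, 159, 5, 157), (0, 158, 7, 157), (0, 54, 5, 55), (0, 61, 4, 64), (0, 63, 6, 64), (0, 66, 7, 67), (0, 82, 6, 83), (0, 84, 7, 85), (0, 194, 3, 188), (0, 189, 6, 188), (0, 187, 7, 186), (0, 181, 5, 179), (0, 180, 7, 179), (0, 160, 7, 159), (0, 51, 4, 54), (0, 53, 6, 54), (0, 60, 6, 61), (0, 62, 7, 63), (0, 80, 5, 82),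 (0, 81, 7, 82), (0, 204, 1, 194), (0, 195, 6, 194), (0, 191, 5, 189), (0, 190, 7, 189), (0, 182, 7, 181), (0, 161, 6, 160), (0, 45, 3, 51), (0, 50, 6, 51), (0, 52, 7, 53), (0, 58, 5, 60), (0, 59, 7, 60), (0, 79, 7, 80), (0, 205, 6, 204), (0, 197, 5, 195), (0, 196, 7, 195), (0, 192, 7, 191), (0, 183, 6, 182), (0, 35, 1, 45), (0, 44, 6, 45), (0, 48, 5, 50), (0, 49, 7, 50), (0, 57, 7, 58), (0, 78, 6, 79), (0, 207, 5, 205), (0, 206, 7, 205), (0, 200, 4, 197), (0, 198, 7, 197), (0, 193, 6, 192), (0, 34, 6, 35), (0, 42, 5, 44), (0, 43, 7, 44), (0, 47, 7, 48), (0, 56, 6, 57), (0, 210, 4, 207), (0, 208, 7, 207), (0, 201, 7, 200), (0, 199, 6, 198), (0, 32, 5, 34), (0, 33, 7, 34), (0, 39, 4, 42), (0, 41, 7, 42), (0, 46, 6, 47), (0, 214, 3, 210), (0, 211, 7, 210), (0, 209, 6, 208), (0, 202, 6, 201), (0, 29, 4, 32), (0, 31, 7, 32), (0,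 38, 7, 39), (0, 40, 6, 41), (0, 219, 2, 214), (0, 215, 7, 214), (0, 212, 6, 211), (0, 203, 5, 202), (0, 25, 3, 29), (0, 28, 7, 29), (0, 30, 6, 31), (0, 37, 6, 38), (0, 226, 0, 219), (0, 220, 7, 219), (0, 216, 6, 215), (0, 213, 5, 212), (0, 20, 2, 25), (0, 24, 7, 25), (0, 27, 6, 28), (0, 36, 5, 37), (0, 227, 7, 226), (0, 221, 6, 220), (0, 217, 5, 216), (0, 13, 0, 20), (0, 19, 7, 20), (0, 23, 6, 24), (0, 26, 5, 27), (0, 228, 6, 227), (0, 222, 5, 221), (0, 218, 4, 217), (0, 12, 7, 13), (0, 18, 6, 19), (0, 22, 5, 23), (0, 229, 5, 228), (0, 223, 4, 222), (0, 11, 6, 12), (0, 17, 5, 18), (0, 21, 4, 22), (0, 230, 4, 229), (0, 224, 3, 223), (0, 10, 5, 11), (0, 16, 4, 17), (0, 231, 3, 230), (0, 225, 1, 224), (0, 9, 4, 10), (0, 15, 3, 16), (0, 233, 1, 231), (0, 232, 2, 231), (0, 8, 3, 9), (0, 14, 1, 15), (0, 234, 2, 233), (0, 6, 1, 8),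 (0, 7, 2, 8), (0, 235, 3, 234), (0, 5, 2, 6), (0, 236, 4, 235), (0, 4, 3, 5), (0, 237, 5, 236), (0, 3, 4, 4), (0, 238, 6, 237), (0, 2, 5, 3), (0, 239, 7, 238), (0, 1, 6, 2), (0, 0, 7, 1)]

theorem ngenOK_E8_4 : orbitAllB chevE8 1 [126] ngenCert_E8_4 = true := by decide +kernel

def ngenCert_E8_5 : List (ℕ × ℕ × ℕ × ℕ) := [(0, 127, 4, 123), (0, 116, 5, 123), (0, 124, 6, 123), (0, 132, 3, 127), (0, 126, 5, 127), (0, 128, 6, 127), (0, 112, 4, 116), (0, 115, 6, 116), (0, 121, 5, 124), (0, 125, 7, 124), (0, 144, 1, 132), (0, 138, 2, 132), (0, 131, 5, 132), (0, 133, 6, 132), (0, 113, 4, 126), (0, 129, 7, 128), (0, 107, 3, 112), (0, 111, 6, 112), (0, 118, 5, 115), (0, 114, 7, 115), (0, 122, 7, 121), (0, 149, 2, 144), (0, 143, 5, 144), (0, 145, 6, 144), (0, 166, 0, 138), (0, 137, 5, 138), (0, 139, 6, 138), (0, 130, 4, 131), (0, 134,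 7, 133), (0, 108, 3, 113), (0, 95, 1, 107), (0, 101, 2, 107), (0, 106, 6, 107), (0, 110, 7, 111), (0, 117, 7, 118), (0, 120, 6, 122), (0, 171, 0, 149), (0, 153, 3, 149), (0, 148, 5, 149), (0, 150, 6, 149), (0, 142, 4, 143), (0, 146, 7, 145), (0, 165, 5, 166), (0, 167, 6, 166), (0, 136, 4, 137), (0, 140, 7, 139), (0, 109, 3, 130), (0, 96, 1, 108), (0, 102, 2, 108), (0, 90, 2, 95), (0, 94, 6, 95), (0, 73, 0, 101), (0, 100, 6, 101), (0, 105, 7, 106), (0, 119, 6, 117), (0, 175, 3, 171), (0, 170, 5, 171), (0, 172, 6, 171), (0, 156, 4, 153), (0, 152, 5, 153), (0, 154, 6, 153), (0, 147, 4, 148), (0, 151, 7, 150), (0, 141, 3, 142), (0, 164, 4, 165), (0, 168, 7, 167), (0, 135, 3, 136), (0, 97, 1, 109), (0, 103, 2, 109), (0, 91, 2, 96), (0, 74, 0, 102), (0, 68, 0, 90), (0, 86, 3, 90), (0, 89, 6, 90), (0, 93, 7, 94), (0, 72, 6, 73), (0,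 99, 7, 100), (0, 185, 2, 175), (0, 178, 4, 175), (0, 174, 5, 175), (0, 176, 6, 175), (0, 169, 4, 170), (0, 173, 7, 172), (0, 157, 6, 156), (0, 155, 7, 154), (0, 98, 1, 141), (0, 163, 3, 164), (0, 104, 2, 135), (0, 92, 2, 97), (0, 75, 0, 103), (0, 69, 0, 91), (0, 87, 3, 91), (0, 64, 3, 68), (0, 67, 6, 68), (0, 83, 4, 86), (0, 85, 6, 86), (0, 88, 7, 89), (0, 71, 7, 72), (0, 188, 4, 185), (0, 184, 5, 185), (0, 186, 6, 185), (0, 179, 6, 178), (0, 177, 7, 176), (0, 159, 5, 157), (0, 158, 7, 157), (0, 162, 2, 163), (0, 76, 0, 104), (0, 70, 0, 92), (0, 65, 3, 69), (0, 54, 2, 64), (0, 61, 4, 64), (0, 63, 6, 64), (0, 66, 7, 67), (0, 82, 6, 83), (0, 84, 7, 85), (0, 194, 3, 188), (0, 189, 6, 188), (0, 187, 7, 186), (0, 181, 5, 179), (0, 180, 7, 179), (0, 160, 7, 159), (0, 77, 0, 162), (0, 55, 2, 65), (0, 51, 4, 54), (0, 53, 6, 54), (0,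 60, 6, 61), (0, 62, 7, 63), (0, 80, 5, 82), (0, 81, 7, 82), (0, 204, 1, 194), (0, 195, 6, 194), (0, 191, 5, 189), (0, 190, 7, 189), (0, 182, 7, 181), (0, 161, 6, 160), (0, 45, 3, 51), (0, 50, 6, 51), (0, 52, 7, 53), (0, 58, 5, 60), (0, 59, 7, 60), (0, 79, 7, 80), (0, 205, 6, 204), (0, 197, 5, 195), (0, 196, 7, 195), (0, 192, 7, 191), (0, 183, 6, 182), (0, 35, 1, 45), (0, 44, 6, 45), (0, 48, 5, 50), (0, 49, 7, 50), (0, 57, 7, 58), (0, 78, 6, 79), (0, 207, 5, 205), (0, 206, 7, 205), (0, 200, 4, 197), (0, 198, 7, 197), (0, 193, 6, 192), (0, 34, 6, 35), (0, 42, 5, 44), (0, 43, 7, 44), (0, 47, 7, 48), (0, 56, 6, 57), (0, 210, 4, 207), (0, 208, 7, 207), (0, 201, 7, 200), (0, 199, 6, 198), (0, 32, 5, 34), (0, 33, 7, 34), (0, 39, 4, 42), (0, 41, 7, 42), (0, 46, 6, 47), (0, 214, 3, 210), (0, 211, 7, 210), (0, 209, 6, 208), (0, 202,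 6, 201), (0, 29, 4, 32), (0, 31, 7, 32), (0, 38, 7, 39), (0, 40, 6, 41), (0, 219, 2, 214), (0, 215, 7, 214), (0, 212, 6, 211), (0, 203, 5, 202), (0, 25, 3, 29), (0, 28, 7, 29), (0, 30, 6, 31), (0, 37, 6, 38), (0, 226, 0, 219), (0, 220, 7, 219), (0, 216, 6, 215), (0, 213, 5, 212), (0, 20, 2, 25), (0, 24, 7, 25), (0, 27, 6, 28), (0, 36, 5, 37), (0, 227, 7, 226), (0, 221, 6, 220), (0, 217, 5, 216), (0, 13, 0, 20), (0, 19, 7, 20), (0, 23, 6, 24), (0, 26, 5, 27), (0, 228, 6, 227), (0, 222, 5, 221), (0, 218, 4, 217), (0, 12, 7, 13), (0, 18, 6, 19), (0, 22, 5, 23), (0, 229, 5, 228), (0, 223, 4, 222), (0, 11, 6, 12), (0, 17, 5, 18), (0, 21, 4, 22), (0, 230, 4, 229), (0, 224, 3, 223), (0, 10, 5, 11), (0, 16, 4, 17), (0, 231, 3, 230), (0, 225, 1, 224), (0, 9, 4, 10), (0, 15, 3, 16), (0, 233, 1, 231), (0, 232, 2, 231), (0, 8, 3, 9), (0,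 14, 1, 15), (0, 234, 2, 233), (0, 6, 1, 8), (0, 7, 2, 8), (0, 235, 3, 234), (0, 5, 2, 6), (0, 236, 4, 235), (0, 4, 3, 5), (0, 237, 5, 236), (0, 3, 4, 4), (0, 238, 6, 237), (0, 2, 5, 3), (0, 239, 7, 238), (0, 1, 6, 2), (0, 0, 7, 1)]

theorem ngenOK_E8_5 : orbitAllB chevE8 1 [123] ngenCert_E8_5 = true := by decide +kernel

def ngenCert_E8_6 : List (ℕ × ℕ × ℕ × ℕ) := [(0, 124, 5, 121), (0, 118, 6, 121), (0, 122, 7, 121), (0, 128, 4, 124), (0, 123, 6, 124), (0, 125, 7, 124), (0, 115, 5, 118), (0, 117, 7, 118), (0, 120, 6, 122), (0, 133, 3, 128), (0, 127, 6, 128), (0, 129, 7, 128), (0, 116, 5, 123), (0, 111, 4, 115), (0, 114, 7, 115), (0, 119, 6, 117), (0, 145, 1, 133), (0, 139, 2, 133), (0, 132, 6, 133), (0, 134, 7, 133), (0, 126, 5, 127), (0, 112, 4, 116), (0, 106, 3, 111), (0, 110, 7, 111), (0, 150, 2, 145), (0, 144, 6, 145),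 (0, 146, 7, 145), (0, 167, 0, 139), (0, 138, 6, 139), (0, 140, 7, 139), (0, 131, 5, 132), (0, 113, 4, 126), (0, 107, 3, 112), (0, 94, 1, 106), (0, 100, 2, 106), (0, 105, 7, 106), (0, 172, 0, 150), (0, 154, 3, 150), (0, 149, 6, 150), (0, 151, 7, 150), (0, 143, 5, 144), (0, 166, 6, 167), (0, 168, 7, 167), (0, 137, 5, 138), (0, 130, 4, 131), (0, 108, 3, 113), (0, 95, 1, 107), (0, 101, 2, 107), (0, 89, 2, 94), (0, 93, 7, 94), (0, 72, 0, 100), (0, 99, 7, 100), (0, 176, 3, 172), (0, 171, 6, 172), (0, 173, 7, 172), (0, 157, 4, 154), (0, 153, 6, 154), (0, 155, 7, 154), (0, 148, 5, 149), (0, 142, 4, 143), (0, 165, 5, 166), (0, 136, 4, 137), (0, 109, 3, 130), (0, 96, 1, 108), (0, 102, 2, 108), (0, 90, 2, 95), (0, 73, 0, 101), (0, 67, 0, 89), (0, 85, 3, 89), (0, 88, 7, 89), (0, 71, 7, 72), (0, 186, 2, 176), (0, 179, 4, 176), (0, 175,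 6, 176), (0, 177, 7, 176), (0, 170, 5, 171), (0, 159, 5, 157), (0, 156, 6, 157), (0, 158, 7, 157), (0, 152, 5, 153), (0, 147, 4, 148), (0, 141, 3, 142), (0, 164, 4, 165), (0, 135, 3, 136), (0, 97, 1, 109), (0, 103, 2, 109), (0, 91, 2, 96), (0, 74, 0, 102), (0, 68, 0, 90), (0, 86, 3, 90), (0, 63, 3, 67), (0, 66, 7, 67), (0, 82, 4, 85), (0, 84, 7, 85), (0, 189, 4, 186), (0, 185, 6, 186), (0, 187, 7, 186), (0, 181, 5, 179), (0, 178, 6, 179), (0, 180, 7, 179), (0, 174, 5, 175), (0, 169, 4, 170), (0, 160, 7, 159), (0, 98, 1, 141), (0, 163, 3, 164), (0, 104, 2, 135), (0, 92, 2, 97), (0, 75, 0, 103), (0, 69, 0, 91), (0, 87, 3, 91), (0, 64, 3, 68), (0, 83, 4, 86), (0, 53, 2, 63), (0, 60, 4, 63), (0, 62, 7, 63), (0, 80, 5, 82), (0, 81, 7, 82), (0, 195, 3, 189), (0, 191, 5, 189), (0, 188, 6, 189), (0, 190, 7, 189), (0, 184, 5, 185),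 (0, 182, 7, 181), (0, 161, 6, 160), (0, 162, 2, 163), (0, 76, 0, 104), (0, 70, 0, 92), (0, 65, 3, 69), (0, 54, 2, 64), (0, 61, 4, 64), (0, 50, 4, 53), (0, 52, 7, 53), (0, 58, 5, 60), (0, 59, 7, 60), (0, 79, 7, 80), (0, 205, 1, 195), (0, 197, 5, 195), (0, 194, 6, 195), (0, 196, 7, 195), (0, 192, 7, 191), (0, 183, 6, 182), (0, 77, 0, 162), (0, 55, 2, 65), (0, 51, 4, 54), (0, 44, 3, 50), (0, 48, 5, 50), (0, 49, 7, 50), (0, 57, 7, 58), (0, 78, 6, 79), (0, 207, 5, 205), (0, 204, 6, 205), (0, 206, 7, 205), (0, 200, 4, 197), (0, 198, 7, 197), (0, 193, 6, 192), (0, 45, 3, 51), (0, 34, 1, 44), (0, 42, 5, 44), (0, 43, 7, 44), (0, 47, 7, 48), (0, 56, 6, 57), (0, 210, 4, 207), (0, 208, 7, 207), (0, 201, 7, 200), (0, 199, 6, 198), (0, 35, 1, 45), (0, 32, 5, 34), (0, 33, 7, 34), (0, 39, 4, 42), (0, 41, 7, 42), (0, 46, 6, 47), (0, 214, 3,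 210), (0, 211, 7, 210), (0, 209, 6, 208), (0, 202, 6, 201), (0, 29, 4, 32), (0, 31, 7, 32), (0, 38, 7, 39), (0, 40, 6, 41), (0, 219, 2, 214), (0, 215, 7, 214), (0, 212, 6, 211), (0, 203, 5, 202), (0, 25, 3, 29), (0, 28, 7, 29), (0, 30, 6, 31), (0, 37, 6, 38), (0, 226, 0, 219), (0, 220, 7, 219), (0, 216, 6, 215), (0, 213, 5, 212), (0, 20, 2, 25), (0, 24, 7, 25), (0, 27, 6, 28), (0, 36, 5, 37), (0, 227, 7, 226), (0, 221, 6, 220), (0, 217, 5, 216), (0, 13, 0, 20), (0, 19, 7, 20), (0, 23, 6, 24), (0, 26, 5, 27), (0, 228, 6, 227), (0, 222, 5, 221), (0, 218, 4, 217), (0, 12, 7, 13), (0, 18, 6, 19), (0, 22, 5, 23), (0, 229, 5, 228), (0, 223, 4, 222), (0, 11, 6, 12), (0, 17, 5, 18), (0, 21, 4, 22), (0, 230, 4, 229), (0, 224, 3, 223), (0, 10, 5, 11), (0, 16, 4, 17), (0, 231, 3, 230), (0, 225, 1, 224), (0, 9, 4, 10), (0, 15, 3, 16),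 (0, 233, 1, 231), (0, 232, 2, 231), (0, 8, 3, 9), (0, 14, 1, 15), (0, 234, 2, 233), (0, 6, 1, 8), (0, 7, 2, 8), (0, 235, 3, 234), (0, 5, 2, 6), (0, 236, 4, 235), (0, 4, 3, 5), (0, 237, 5, 236), (0, 3, 4, 4), (0, 238, 6, 237), (0, 2, 5, 3), (0, 239, 7, 238), (0, 1, 6, 2), (0, 0, 7, 1)]

theorem ngenOK_E8_6 : orbitAllB chevE8 1 [121] ngenCert_E8_6 = true := by decide +kernel

def ngenCert_E8_7 : List (ℕ × ℕ × ℕ × ℕ) := [(0, 122, 6, 120), (0, 119, 7, 120), (0, 125, 5, 122), (0, 121, 7, 122), (0, 117, 6, 119), (0, 129, 4, 125), (0, 124, 7, 125), (0, 118, 6, 121), (0, 114, 5, 117), (0, 134, 3, 129), (0, 128, 7, 129), (0, 123, 6, 124), (0, 115, 5, 118), (0, 110, 4, 114), (0, 146, 1, 134), (0, 140, 2, 134), (0, 133, 7, 134), (0, 127, 6, 128), (0, 116, 5, 123), (0, 111, 4, 115), (0, 105, 3, 110), (0, 151, 2, 146), (0, 145, 7, 146),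 (0, 168, 0, 140), (0, 139, 7, 140), (0, 132, 6, 133), (0, 126, 5, 127), (0, 112, 4, 116), (0, 106, 3, 111), (0, 93, 1, 105), (0, 99, 2, 105), (0, 173, 0, 151), (0, 155, 3, 151), (0, 150, 7, 151), (0, 144, 6, 145), (0, 167, 7, 168), (0, 138, 6, 139), (0, 131, 5, 132), (0, 113, 4, 126), (0, 107, 3, 112), (0, 94, 1, 106), (0, 100, 2, 106), (0, 88, 2, 93), (0, 71, 0, 99), (0, 177, 3, 173), (0, 172, 7, 173), (0, 158, 4, 155), (0, 154, 7, 155), (0, 149, 6, 150), (0, 143, 5, 144), (0, 166, 6, 167), (0, 137, 5, 138), (0, 130, 4, 131), (0, 108, 3, 113), (0, 95, 1, 107), (0, 101, 2, 107), (0, 89, 2, 94), (0, 72, 0, 100), (0, 66, 0, 88), (0, 84, 3, 88), (0, 187, 2, 177), (0, 180, 4, 177), (0, 176, 7, 177), (0, 171, 6, 172), (0, 160, 5, 158), (0, 157, 7, 158), (0, 153, 6, 154), (0, 148, 5, 149), (0, 142, 4, 143), (0, 165, 5, 166), (0,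 136, 4, 137), (0, 109, 3, 130), (0, 96, 1, 108), (0, 102, 2, 108), (0, 90, 2, 95), (0, 73, 0, 101), (0, 67, 0, 89), (0, 85, 3, 89), (0, 62, 3, 66), (0, 81, 4, 84), (0, 190, 4, 187), (0, 186, 7, 187), (0, 182, 5, 180), (0, 179, 7, 180), (0, 175, 6, 176), (0, 170, 5, 171), (0, 161, 6, 160), (0, 159, 7, 160), (0, 156, 6, 157), (0, 152, 5, 153), (0, 147, 4, 148), (0, 141, 3, 142), (0, 164, 4, 165), (0, 135, 3, 136), (0, 97, 1, 109), (0, 103, 2, 109), (0, 91, 2, 96), (0, 74, 0, 102), (0, 68, 0, 90), (0, 86, 3, 90), (0, 63, 3, 67), (0, 82, 4, 85), (0, 52, 2, 62), (0, 59, 4, 62), (0, 79, 5, 81), (0, 196, 3, 190), (0, 192, 5, 190), (0, 189, 7, 190), (0, 185, 6, 186), (0, 183, 6, 182), (0, 181, 7, 182), (0, 178, 6, 179), (0, 174, 5, 175), (0, 169, 4, 170), (0, 98, 1, 141), (0, 163, 3, 164), (0, 104, 2, 135), (0, 92, 2, 97), (0, 75,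 0, 103), (0, 69, 0, 91), (0, 87, 3, 91), (0, 64, 3, 68), (0, 83, 4, 86), (0, 53, 2, 63), (0, 60, 4, 63), (0, 80, 5, 82), (0, 49, 4, 52), (0, 57, 5, 59), (0, 78, 6, 79), (0, 206, 1, 196), (0, 198, 5, 196), (0, 195, 7, 196), (0, 193, 6, 192), (0, 191, 7, 192), (0, 188, 6, 189), (0, 184, 5, 185), (0, 162, 2, 163), (0, 76, 0, 104), (0, 70, 0, 92), (0, 65, 3, 69), (0, 54, 2, 64), (0, 61, 4, 64), (0, 50, 4, 53), (0, 58, 5, 60), (0, 43, 3, 49), (0, 47, 5, 49), (0, 56, 6, 57), (0, 208, 5, 206), (0, 205, 7, 206), (0, 201, 4, 198), (0, 199, 6, 198), (0, 197, 7, 198), (0, 194, 6, 195), (0, 77, 0, 162), (0, 55, 2, 65), (0, 51, 4, 54), (0, 44, 3, 50), (0, 48, 5, 50), (0, 33, 1, 43), (0, 41, 5, 43), (0, 46, 6, 47), (0, 211, 4, 208), (0, 209, 6, 208), (0, 207, 7, 208), (0, 204, 6, 205), (0, 202, 6, 201), (0, 200, 7, 201), (0, 45, 3, 51),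 (0, 34, 1, 44), (0, 42, 5, 44), (0, 31, 5, 33), (0, 38, 4, 41), (0, 40, 6, 41), (0, 215, 3, 211), (0, 212, 6, 211), (0, 210, 7, 211), (0, 203, 5, 202), (0, 35, 1, 45), (0, 32, 5, 34), (0, 39, 4, 42), (0, 28, 4, 31), (0, 30, 6, 31), (0, 37, 6, 38), (0, 220, 2, 215), (0, 216, 6, 215), (0, 214, 7, 215), (0, 213, 5, 212), (0, 29, 4, 32), (0, 24, 3, 28), (0, 27, 6, 28), (0, 36, 5, 37), (0, 227, 0, 220), (0, 221, 6, 220), (0, 219, 7, 220), (0, 217, 5, 216), (0, 25, 3, 29), (0, 19, 2, 24), (0, 23, 6, 24), (0, 26, 5, 27), (0, 228, 6, 227), (0, 226, 7, 227), (0, 222, 5, 221), (0, 218, 4, 217), (0, 20, 2, 25), (0, 12, 0, 19), (0, 18, 6, 19), (0, 22, 5, 23), (0, 229, 5, 228), (0, 223, 4, 222), (0, 13, 0, 20), (0, 11, 6, 12), (0, 17, 5, 18), (0, 21, 4, 22), (0, 230, 4, 229), (0, 224, 3, 223), (0, 10, 5, 11), (0, 16, 4, 17), (0, 231, 3,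 230), (0, 225, 1, 224), (0, 9, 4, 10), (0, 15, 3, 16), (0, 233, 1, 231), (0, 232, 2, 231), (0, 8, 3, 9), (0, 14, 1, 15), (0, 234, 2, 233), (0, 6, 1, 8), (0, 7, 2, 8), (0, 235, 3, 234), (0, 5, 2, 6), (0, 236, 4, 235), (0, 4, 3, 5), (0, 237, 5, 236), (0, 3, 4, 4), (0, 238, 6, 237), (0, 2, 5, 3), (0, 239, 7, 238), (0, 1, 6, 2), (0, 0, 7, 1)]

theorem ngenOK_E8_7 : orbitAllB chevE8 1 [120] ngenCert_E8_7 = true := by decide +kernel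

def ngen2Cert_B2 : List (ℕ × ℕ × ℕ × ℕ) := [(0, 2, 0, 5), (0, 6, 1, 5), (0, 7, 0, 4), (0, 3, 1, 4), (0, 1, 1, 2), (0, 0, 0, 3)]

theorem ngen2OK_B2 : orbitAllB chevB2 1 [5, 4] ngen2Cert_B2 = true := by decide +kernel

def ngen2Cert_G2 : List (ℕ × ℕ × ℕ × ℕ) := [(0, 4, 0, 7), (0, 8, 1, 7), (0, 10, 0, 6), (0, 5, 1, 6), (0, 3, 1, 4), (0, 9, 0, 8), (0, 11, 1, 10), (0, 1, 0, 5), (0, 2, 0, 3), (0, 0, 1, 1)]

theorem ngen2OK_G2 : orbitAllB chevG2 1 [7, 6] ngen2Cert_G2 = true := by decide +kernel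

def ngen2Cert_F4 : List (ℕ × ℕ × ℕ × ℕ) := [(0, 34, 0, 27), (0, 20, 1, 27), (0, 28, 2, 27), (0, 30, 1, 25), (0, 22, 2, 25), (0, 26, 3, 25), (0, 33, 1, 34), (0, 35, 2, 34), (0, 13, 0, 20), (0, 19, 2, 20), (0, 29, 3, 28), (0, 41, 0, 30), (0, 31, 3, 30), (0, 17, 1, 22), (0, 21, 3, 22), (0, 24, 2, 26), (0, 14, 0, 33), (0, 37, 1, 35), (0, 36, 3, 35), (0, 12, 2, 13), (0, 18, 3, 19), (0, 42, 3, 41), (0, 32, 2, 31), (0, 6, 0, 17), (0, 16, 3, 17), (0, 23, 2, 21), (0, 38, 3, 37), (0, 10, 1, 12), (0, 11, 3, 12), (0, 43, 2, 42), (0, 5, 3, 6), (0, 15, 2, 16), (0, 39, 2, 38), (0, 9, 3, 10), (0, 45, 1, 43), (0, 4, 2, 5), (0, 40, 1, 39), (0, 8, 2, 9), (0, 46, 2, 45), (0, 2, 1, 4), (0, 44, 0, 40), (0, 7, 1, 8), (0, 47, 3, 46), (0, 1, 2, 2), (0, 3, 0, 7), (0, 0, 3, 1)]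

theorem ngen2OK_F4 : orbitAllB chevF4 1 [27, 25] ngen2Cert_F4 = true := by decide +kernel

end Cfsg.Agent.Lib.Helper7
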