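import Cfsg.Agent.Lib.Helper7.ChevOrdTab
import Cfsg.Agent.Lib.Helper7.ChevGrade
import Cfsg.Agent.Lib.Helper7.ChevRank1

/-! Ordered product decomposition of the unipotent subgroup `U` (helper7). -/

set_option autoImplicit false

namespace Cfsg.Agent.Lib.Helper7

open Cfsg Cfsg.Lie Matrix
open scoped Pointwise

/-- a list of positive roots in increasing order, closed upwards among the positive roots -/
structure GoodL (D : ChevalleyDatum) (l : List ℕ) : Prop where
  sorted : l.Pairwise (· < ·)
  pos : ∀ r ∈ l, D.IsPosRoot r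
  up : ∀ r ∈ l, ∀ s, D.IsPosRoot s → r < s → s ∈ l

theorem GoodL.tail {D : ChevalleyDatum} {r : ℕ} {l : List ℕ} (h : GoodL D (r :: l)) : GoodL D l := by
  have hs := List.pairwise_cons.mp h.sorted
  refine ⟨hs.2, fun s hs' => h.pos s (List.mem_cons_of_mem _ hs'), ?_⟩
  intro a ha s hsp has
  have := h.up a (List.mem_cons_of_mem _ ha) s hsp has
  rcases List.mem_cons.mp this with rfl | h'
  · have := hs.1 a ha
    omega
  · exact h'

theorem goodL_posRoots (D : ChevalleyDatum) : GoodL D D.posRoots := by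
  unfold ChevalleyDatum.posRoots
  refine ⟨List.Pairwise.filter _ List.pairwise_lt_range, ?_, ?_⟩
  · intro r hr
    rw [List.mem_filter] at hr
    exact of_decide_eq_true hr.2
  · intro r _ s hs _
    rw [List.mem_filter, List.mem_range]
    exact ⟨hs.1, decide_eq_true hs⟩

/-- the root elements of the roots in `l` -/
def gensL (D : ChevalleyDatum) (F : Type*) [Field F] (l : List ℕ) : Set (GL D.Idx F) :=
  {g | ∃ r ∈ l, ∃ t : F, (g : Matrix D.Idx D.Idx F) = D.x F r t}

section
variable (D : ChevalleyDatum) (hD : D ∈ [chevG2, chevB2, chevD4, chevF4, chevE6, chevE7, chevE8])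
variable (F : Type*) [Field F]
variable (A : ℕ → ℤ) (hA : ChainAdd D A) (hO : OrdFacts D A)
include hD hA hO

omit F in
theorem A_neg_of_neg (r : ℕ) (hr : D.IsNegRoot r) : A r < 0 := by
  have hNI := negInvOK_of_mem D hD r hr.1
  have hp := hO.pos _ (hNI.2.2 hr)
  have h1 := hA.negA r hr.1 hNI.2.1
  have : A (D.neg r) = A (D.negIdx.getD r 0) := rfl
  omega

omit F in
theorem isPosRoot_of_A_pos (r : ℕ) (hr : r < D.nroots) (h : 0 < A r) : D.IsPosRoot r := by
  rcases posOrNeg_of_mem D hD r hr with hp | hn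
  · exact hp
  · have := A_neg_of_neg D hD A hA hO r hn
    omega

/-- the ordered product `∏_{r ∈ l} x_r(t_r)` -/
noncomputable def ordProd (l : List ℕ) (t : ℕ → F) : GL D.Idx F :=
  wordGL D hD F (l.map fun r => (r, t r))

omit hA hO in
theorem ordProd_cons (r : ℕ) (l : List ℕ) (t : ℕ → F) :
    ordProd D hD F (r :: l) t = xGL D hD F r (t r) * ordProd D hD F l t := by
  unfold ordProd wordGL
  simp

omit hA hO in
theorem ordProd_nil (t : ℕ → F) : ordProd D hD F [] t = 1 := by
  unfold ordProd wordGL
  simp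

omit hA hO in
theorem ordProd_mem (l : List ℕ) (t : ℕ → F) : ordProd D hD F l t ∈ Subgroup.closure (gensL D F l) := by
  unfold ordProd wordGL
  apply Subgroup.list_prod_mem
  intro g hg
  simp only [List.map_map, List.mem_map, Function.comp] at hg
  obtain ⟨r, hr, rfl⟩ := hg
  apply Subgroup.subset_closure
  exact ⟨r, hr, t r, coe_xGL D hD F _ _⟩

omit hA hO in
theorem ordProd_congr (l : List ℕ) (t u : ℕ → F) (h : ∀ r ∈ l, t r = u r) :
    ordProd D hD F l t = ordProd D hD F l u := by
  unfold ordProd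
  congr 1
  apply List.map_congr_left
  intro r hr
  rw [h r hr]

/-- `X_r` normalises the subgroup generated by the later root subgroups -/
theorem xGL_conj_gensL (r : ℕ) (l : List ℕ) (hl : GoodL D (r :: l)) (u : F) :
    ∀ y ∈ gensL D F l, xGL D hD F r u * y * (xGL D hD F r u)⁻¹ ∈ Subgroup.closure (gensL D F l) := by
  rintro y ⟨s, hs, t, hym⟩
  have hy : y = xGL D hD F s t := Units.ext (by rw [hym, coe_xGL])
  rw [hy]
  have hsort := List.pairwise_cons.mp hl.sorted
  have hrpos := hl.pos r (List.mem_cons_self ..)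
  have hspos := hl.pos s (List.mem_cons_of_mem _ hs)
  have hrs : r < s := hsort.1 s hs
  have hAr := hO.pos r hrpos
  have hAs := hO.pos s hspos
  have hsr : s ≠ r := by omega
  have hsn : s ≠ D.neg r := by
    intro h
    have hN := negOK_of_mem D hD r hrpos.1
    have := hA.negA r hrpos.1 hN.1
    rw [← h] at this
    omega
  rw [xGL_conj_xGL D hD F r s hrpos.1 hspos.1 hsr hsn u t]
  apply Subgroup.mul_mem
  · apply Subgroup.subset_closure
    exact ⟨s, hs, t, coe_xGL D hD F _ _⟩
  · unfold wordGL
    apply Subgroup.list_prod_mem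
    intro g hg
    rw [List.mem_map] at hg
    obtain ⟨p, hp, rfl⟩ := hg
    unfold ChevalleyDatum.commWord at hp
    rw [List.mem_map] at hp
    obtain ⟨c, hc, rfl⟩ := hp
    obtain ⟨hc1, hi, hj, hlin⟩ := hA.commTerms D hD r s hrpos.1 hspos.1 c hc
    have hgt : A r < A c.1 := by
      have h1 : A r ≤ c.2.2.1 * A r := by
        have : (1 : ℤ) ≤ c.2.2.1 := by exact_mod_cast hi
        nlinarith
      have h2 : A s ≤ c.2.2.2 * A s := by
        have : (1 : ℤ) ≤ c.2.2.2 := by exact_mod_cast hj
        nlinarith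
      omega
    have hcpos : D.IsPosRoot c.1 := isPosRoot_of_A_pos D hD A hA hO c.1 hc1 (by omega)
    have hrc : r < c.1 := by
      by_contra hcon
      push Not at hcon
      rcases Nat.lt_or_eq_of_le hcon with h' | h'
      · have := hO.mono c.1 r h' hrpos.1
        omega
      · rw [h'] at hgt; omega
    have hmem := hl.up r (List.mem_cons_self ..) c.1 hcpos hrc
    have hmem' : c.1 ∈ l := by
      rcases List.mem_cons.mp hmem with h' | h'
      · omega
      · exact h'
    apply Subgroup.subset_closure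
    exact ⟨c.1, hmem', _, coe_xGL D hD F _ _⟩

omit hD hA hO in
theorem closure_gensL_cons (r : ℕ) (l : List ℕ) :
    Subgroup.closure (gensL D F (r :: l)) = D.rootSubgroup F r ⊔ Subgroup.closure (gensL D F l) := by
  unfold ChevalleyDatum.rootSubgroup
  rw [← Subgroup.closure_union]
  congr 1
  ext g
  simp only [gensL, Set.mem_setOf_eq, List.mem_cons, Set.mem_union]
  constructor
  · rintro ⟨s, hs | hs, t, hg⟩
    · left; exact ⟨t, hs ▸ hg⟩
    · right; exact ⟨s, hs, t, hg⟩
  · rintro (⟨t, hg⟩ | ⟨s, hs, t, hg⟩)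
    · exact ⟨r, Or.inl rfl, t, hg⟩
    · exact ⟨s, Or.inr hs, t, hg⟩

/-- every element of `⟨X_r : r ∈ l⟩` is an ordered product -/
theorem exists_ordProd : ∀ (l : List ℕ), GoodL D l → ∀ g ∈ Subgroup.closure (gensL D F l),
    ∃ t : ℕ → F, g = ordProd D hD F l t
  | [], _, g, hg => by
    have : gensL D F [] = ∅ := by
      ext g; simp [gensL]
    rw [this, Subgroup.closure_empty, Subgroup.mem_bot] at hg
    exact ⟨fun _ => 0, by rw [hg, ordProd_nil]⟩
  | r :: l, hl, g, hg => by
    have ih := exists_ordProd l hl.tail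
    have hnorm : D.rootSubgroup F r ≤ Subgroup.normalizer (Subgroup.closure (gensL D F l) : Set (GL D.Idx F)) := by
      intro x hx
      obtain ⟨u, rfl⟩ := (mem_rootSubgroup_iff D hD F r x).mp hx
      apply mem_normalizer_closure
      · exact xGL_conj_gensL D hD F A hA hO r l hl u
      · intro y hy
        rw [xGL_inv]
        exact xGL_conj_gensL D hD F A hA hO r l hl (-u) y hy
    rw [closure_gensL_cons D F r l] at hg
    have hg' : g ∈ ((D.rootSubgroup F r ⊔ Subgroup.closure (gensL D F l) : Subgroup (GL D.Idx F)) :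
        Set (GL D.Idx F)) := hg
    rw [Subgroup.coe_mul_of_left_le_normalizer_right _ _ hnorm] at hg'
    obtain ⟨x, hx, k, hk, rfl⟩ := Set.mem_mul.mp hg'
    obtain ⟨u, rfl⟩ := (mem_rootSubgroup_iff D hD F r x).mp hx
    obtain ⟨t, rfl⟩ := ih k hk
    have hrl : r ∉ l := by
      intro h
      have := (List.pairwise_cons.mp hl.sorted).1 r h
      omega
    refine ⟨Function.update t r u, ?_⟩
    rw [ordProd_cons, Function.update_self]
    congr 1
    apply ordProd_congr
    intro s hs
    rw [Function.update_of_ne]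
    rintro rfl
    exact hrl hs

end

end Cfsg.Agent.Lib.Helper7
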