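import Cfsg.Agent.Lib.Helper7.ChevOrd

/-! Uniqueness of the ordered product decomposition in `U`, and `|U| = q^N` (helper7). -/

set_option autoImplicit false

namespace Cfsg.Agent.Lib.Helper7

open Cfsg Cfsg.Lie Matrix

theorem gcdL_cast_mul_eq_zero {F : Type*} [Field F] (t : F) :
    ∀ l : List ℤ, (∀ c ∈ l, ((c : ℤ) : F) * t = 0) → ((gcdL l : ℕ) : F) * t = 0
  | [], _ => by simp [gcdL]
  | a :: l, h => by
    have ih := gcdL_cast_mul_eq_zero t l (fun c hc => h c (List.mem_cons_of_mem _ hc))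
    have ha := h a (List.mem_cons_self ..)
    have e : gcdL (a :: l) = Int.gcd a (gcdL l : ℤ) := rfl
    rw [e]
    have hb := Int.gcd_eq_gcd_ab a (gcdL l : ℤ)
    have : ((Int.gcd a (gcdL l : ℤ) : ℕ) : F) = ((a * Int.gcdA a (gcdL l : ℤ) +
        (gcdL l : ℤ) * Int.gcdB a (gcdL l : ℤ) : ℤ) : F) := by
      rw [← hb]; simp
    rw [this]
    push_cast
    have e2 : ((a : F) * (Int.gcdA a (gcdL l : ℤ) : F) + (gcdL l : F) * (Int.gcdB a (gcdL l : ℤ) : F)) * t =
        (Int.gcdA a (gcdL l : ℤ) : F) * ((a : F) * t) + (Int.gcdB a (gcdL l : ℤ) : F) * ((gcdL l : F) * t) := by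
      ring
    rw [e2, ha, ih]; simp

section
variable (D : ChevalleyDatum) (hD : D ∈ [chevG2, chevB2, chevD4, chevF4, chevE6, chevE7, chevE8])
variable (F : Type*) [Field F]
variable (A : ℕ → ℤ) (hA : ChainAdd D A) (hO : OrdFacts D A)
include hD hA hO

/-- a root element lying in the subgroup generated by the later root subgroups is trivial -/
theorem eq_zero_of_xGL_mem (r : ℕ) (l : List ℕ) (hl : GoodL D (r :: l)) (d : F)
    (h : xGL D hD F r d ∈ Subgroup.closure (gensL D F l)) : d = 0 := by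
  have hsort := List.pairwise_cons.mp hl.sorted
  have hrpos := hl.pos r (List.mem_cons_self ..)
  have hAr := hO.pos r hrpos
  obtain ⟨m, hm⟩ : ∃ m : ℕ, (m : ℤ) = A r + 1 := ⟨(A r + 1).toNat, Int.toNat_of_nonneg (by omega)⟩
  have hK : Subgroup.closure (gensL D F l) ≤
      unitriSubgroup (R := F) (lvlA D A) (2 * bndA D A + 1) (lvlA_lt D A) m (by omega) := by
    rw [Subgroup.closure_le]
    rintro g ⟨s, hs, t, hg⟩
    show Level (lvlA D A) m ((g : Matrix D.Idx D.Idx F) - 1)
    have hspos := hl.pos s (List.mem_cons_of_mem _ hs)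
    rw [hg, x_eq_xMat D F s hspos.1]
    apply xMat_level D hD F hA ⟨s, hspos.1⟩ t m (by omega)
    have := hO.mono r s (hsort.1 s hs) hspos.1
    show (m : ℤ) ≤ A s
    omega
  have hlev : Level (lvlA D A) m (((xGL D hD F r d : GL D.Idx F) : Matrix D.Idx D.Idx F) - 1) := hK h
  rw [coe_xGL, x_eq_xMat D F r hrpos.1] at hlev
  have hN := negOK_of_mem D hD r hrpos.1
  have hnegA : A (D.negIdx.getD r 0) = - A r := hA.negA r hrpos.1 hN.1
  have hne : (⟨D.negIdx.getD r 0, hN.1⟩ : Fin D.nroots) ≠ ⟨r, hrpos.1⟩ := by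
    intro hh; exact hN.2 (Fin.mk.inj_iff.mp hh)
  have hent : ∀ j : Fin D.rank, (((D.coroot.getD r #[]).getD j.val 0 : ℤ) : F) * d = 0 := by
    intro j
    have hlt : lvlA D A (Sum.inl j) < lvlA D A (Sum.inr ⟨D.negIdx.getD r 0, hN.1⟩) + m := by
      have c1 := lvlA_cast D A (Sum.inl j)
      have c2 := lvlA_cast D A (Sum.inr ⟨D.negIdx.getD r 0, hN.1⟩)
      have w1 : wtF D A (Sum.inl j) = 0 := rfl
      have w2 : wtF D A (Sum.inr ⟨D.negIdx.getD r 0, hN.1⟩) = A (D.negIdx.getD r 0) := rfl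
      omega
    have := hlev _ _ hlt
    rw [Matrix.sub_apply, Matrix.one_apply, if_neg (by simp), sub_zero,
      xMat_inl_neg D F ⟨r, hrpos.1⟩ d ⟨D.negIdx.getD r 0, hN.1⟩ hne rfl j] at this
    exact this
  have hg := gcdL_cast_mul_eq_zero d (corL D r) (by
    intro c hc
    unfold corL at hc
    rw [List.mem_map] at hc
    obtain ⟨j, hj, rfl⟩ := hc
    exact hent ⟨j, List.mem_range.mp hj⟩)
  rw [hO.prim r hrpos.1] at hg
  simpa using hg

/-- uniqueness of the ordered product decomposition -/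
theorem ordProd_inj : ∀ (l : List ℕ), GoodL D l → ∀ t u : ℕ → F,
    ordProd D hD F l t = ordProd D hD F l u → ∀ r ∈ l, t r = u r
  | [], _, _, _, _, r, hr => by simp at hr
  | r :: l, hl, t, u, h, s, hs => by
    have ih := ordProd_inj l hl.tail t u
    rw [ordProd_cons, ordProd_cons] at h
    have hd : xGL D hD F r (t r - u r) ∈ Subgroup.closure (gensL D F l) := by
      have e : xGL D hD F r (t r - u r) = ordProd D hD F l u * (ordProd D hD F l t)⁻¹ := by
        have h1 : xGL D hD F r (t r - u r) = (xGL D hD F r (u r))⁻¹ * xGL D hD F r (t r) := by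
          rw [xGL_inv, xGL_mul]; congr 1; ring
        rw [h1]
        have h2 : xGL D hD F r (t r) = xGL D hD F r (u r) * ordProd D hD F l u *
            (ordProd D hD F l t)⁻¹ := by rw [← h]; group
        rw [h2]; group
      rw [e]
      exact Subgroup.mul_mem _ (ordProd_mem D hD F l u) (Subgroup.inv_mem _ (ordProd_mem D hD F l t))
    have h0 := eq_zero_of_xGL_mem D hD F A hA hO r l hl _ hd
    have htr : t r = u r := sub_eq_zero.mp h0
    rcases List.mem_cons.mp hs with rfl | hs'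
    · exact htr
    · rw [htr] at h
      exact ih (mul_left_cancel h) s hs'

end

end Cfsg.Agent.Lib.Helper7
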