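import Cfsg.Agent.Lib.Helper7.ChevWeylTab0

/-! Breadth-first table of the Weyl group of type B2 (helper7; generated). -/

set_option autoImplicit false
set_option maxRecDepth 1000000

namespace Cfsg.Agent.Lib.Helper7

open Cfsg Cfsg.Lie

def weylTab_B2 : WeylTable where
  elems := [[0, 1, 2, 3, 4, 5, 6, 7],
  [3, 1, 5, 0, 7, 2, 6, 4],
  [0, 2, 1, 4, 3, 6, 5, 7],
  [4, 2, 6, 0, 7, 1, 5, 3],
  [3, 5, 1, 7, 0, 6, 2, 4],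
  [7, 5, 6, 3, 4, 1, 2, 0],
  [4, 6, 2, 7, 0, 5, 1, 3],
  [7, 6, 5, 4, 3, 2, 1, 0]]
  nxt := [[1, 2],
  [0, 3],
  [4, 0],
  [5, 1],
  [2, 6],
  [3, 7],
  [7, 4],
  [6, 5]]
  dep := [0, 1, 1, 2, 2, 3, 3, 4]
  idIdx := 0
  refls := [[3, 1, 5, 0, 7, 2, 6, 4],
  [0, 2, 1, 4, 3, 6, 5, 7]]

theorem tabOKB_B2 : tabOKB chevB2 weylTab_B2 = true := by decide +kernel

end Cfsg.Agent.Lib.Helper7
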