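import Cfsg.Agent.Lib.Helper7.ChevOrder1
import Cfsg.Agent.Lib.Helper7.ChevHCardFin
import Cfsg.Agent.Lib.Helper7.ChevWeylTabB2

/-! `|B₂(q)|` (helper7). -/

set_option autoImplicit false

namespace Cfsg.Agent.Lib.Helper7

open Cfsg Cfsg.Lie Matrix

theorem histOKB_B2 : histOKB weylTab_B2 5 [1, 2, 2, 2, 1] = true := by decide +kernel

theorem card_group_B2 (F : Type*) [Field F] [Fintype F] :
    Nat.gcd 2 (Fintype.card F - 1) * Nat.card ↥(chevB2.group F) =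
      Fintype.card F ^ 4 * (Fintype.card F ^ 2 - 1) * (Fintype.card F ^ 4 - 1) := by
  rw [card_group_of_tab chevB2 (by simp) F weylTab_B2 tabOKB_B2 5 _ histOKB_B2]
  have hn : chevB2.nroots / 2 = 4 := rfl
  rw [hn]
  have hH := card_diagonal_B2 F
  obtain ⟨q, hq⟩ : ∃ q, q = Fintype.card F := ⟨_, rfl⟩
  rw [← hq] at hH ⊢
  have h1 : 1 ≤ q := by rw [hq]; exact Fintype.card_pos
  have h2 : 1 ≤ q ^ 2 := Nat.one_le_pow _ _ h1
  have h4 : 1 ≤ q ^ 4 := Nat.one_le_pow _ _ h1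
  simp only [Finset.sum_range_succ, Finset.sum_range_zero, List.getD_cons_zero, List.getD_cons_succ]
  calc Nat.gcd 2 (q - 1) * (q ^ 4 * Nat.card (chevB2.diagonalSubgroup F) *
        (0 + 1 * q ^ 0 + 2 * q ^ 1 + 2 * q ^ 2 + 2 * q ^ 3 + 1 * q ^ 4))
      = q ^ 4 * (Nat.gcd 2 (q - 1) * Nat.card (chevB2.diagonalSubgroup F)) *
        (0 + 1 * q ^ 0 + 2 * q ^ 1 + 2 * q ^ 2 + 2 * q ^ 3 + 1 * q ^ 4) := by ring
    _ = q ^ 4 * (q ^ 2 - 1) * (q ^ 4 - 1) := by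
      rw [hH]
      zify [h1, h2, h4]
      ring

end Cfsg.Agent.Lib.Helper7
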