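import Cfsg.Agent.Lib.Helper7.ChevOrder1
import Cfsg.Agent.Lib.Helper7.ChevHCardFin
import Cfsg.Agent.Lib.Helper7.ChevWeylTabD4

/-! `|D₄(q)|` (helper7). -/

set_option autoImplicit false

namespace Cfsg.Agent.Lib.Helper7

open Cfsg Cfsg.Lie Matrix

theorem histOKB_D4 : histOKB weylTab_D4 13 [1, 4, 9, 16, 23, 28, 30, 28, 23, 16, 9, 4, 1] = true := by
  decide +kernel

theorem card_group_D4 (F : Type*) [Field F] [Fintype F] :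
    Nat.gcd 2 (Fintype.card F - 1) ^ 2 * Nat.card ↥(chevD4.group F) =
      Fintype.card F ^ 12 * (Fintype.card F ^ 2 - 1) * (Fintype.card F ^ 4 - 1) *
        (Fintype.card F ^ 4 - 1) * (Fintype.card F ^ 6 - 1) := by
  rw [card_group_of_tab chevD4 (by simp) F weylTab_D4 tabOKB_D4 13 _ histOKB_D4]
  have hn : chevD4.nroots / 2 = 12 := rfl
  rw [hn]
  have hH := card_diagonal_D4 F
  obtain ⟨q, hq⟩ : ∃ q, q = Fintype.card F := ⟨_, rfl⟩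
  rw [← hq] at hH ⊢
  have h1 : 1 ≤ q := by rw [hq]; exact Fintype.card_pos
  have h2 : 1 ≤ q ^ 2 := Nat.one_le_pow _ _ h1
  have h4 : 1 ≤ q ^ 4 := Nat.one_le_pow _ _ h1
  have h6 : 1 ≤ q ^ 6 := Nat.one_le_pow _ _ h1
  simp only [Finset.sum_range_succ, Finset.sum_range_zero, List.getD_cons_zero, List.getD_cons_succ]
  obtain ⟨S, hS⟩ : ∃ S, S = (0 + 1 * q ^ 0 + 4 * q ^ 1 + 9 * q ^ 2 + 16 * q ^ 3 + 23 * q ^ 4 + 28 * q ^ 5 +
      30 * q ^ 6 + 28 * q ^ 7 + 23 * q ^ 8 + 16 * q ^ 9 + 9 * q ^ 10 + 4 * q ^ 11 + 1 * q ^ 12) := ⟨_, rfl⟩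
  rw [← hS]
  calc Nat.gcd 2 (q - 1) ^ 2 * (q ^ 12 * Nat.card (chevD4.diagonalSubgroup F) * S)
      = q ^ 12 * (Nat.gcd 2 (q - 1) ^ 2 * Nat.card (chevD4.diagonalSubgroup F)) * S := by ring
    _ = q ^ 12 * (q ^ 2 - 1) * (q ^ 4 - 1) * (q ^ 4 - 1) * (q ^ 6 - 1) := by
      rw [hH, hS]
      zify [h1, h2, h4, h6]
      ring

end Cfsg.Agent.Lib.Helper7
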