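import Cfsg.Agent.Lib.Helper7.ChevSL1
import Cfsg.Agent.Lib.Helper7.ChevFund

set_option autoImplicit false

namespace Cfsg.Agent.Lib.Helper7

open Cfsg Cfsg.Lie Matrix

/-- check of `⟨w_p v, (w_p p_j)^∨⟩ = ⟨v, p_j^∨⟩` for the `i`-th fundamental root `p` -/
def reflOKB (D : ChevalleyDatum) (i : ℕ) : Bool :=
  forceAll ((List.range D.rank).map (rowPack D)) fun packs =>
  withMask (packL ((List.range D.nroots).map (D.reflectRoot i))) fun W =>
    ((List.range D.nroots).map (D.reflectRoot i)).all (fun a => decide (a < D.nroots) && decide (a < 256)) &&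
    (List.range D.rank).all fun j => decide (D.simple j < D.nroots) &&
      (List.range D.nroots).all fun v =>
        ((List.range D.rank).map fun k => (D.coroot.getD (W / 256 ^ (D.simple j) % 256) #[]).getD k 0 *
            (((packs.getD k 0 / 256 ^ (W / 256 ^ v % 256) % 256 : ℕ) : ℤ) - 16)).sum ==
          ((packs.getD j 0 / 256 ^ v % 256 : ℕ) : ℤ) - 16

structure ReflFacts (D : ChevalleyDatum) (i : ℕ) : Prop where
  lt : ∀ v < D.nroots, D.reflectRoot i v < D.nroots
  inv : ∀ j < D.rank, ∀ v < D.nroots,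
    carR D (D.reflectRoot i (D.simple j)) (D.reflectRoot i v) = D.cartan j v

theorem list_map_sum_congr {α : Type*} (L : List α) (f g : α → ℤ) (h : ∀ x ∈ L, f x = g x) :
    (L.map f).sum = (L.map g).sum := by
  rw [List.map_congr_left h]

theorem reflFacts_of_reflOKB (D : ChevalleyDatum) (i : ℕ) (hrow : ∀ k < D.rank, rowOKB D k = true)
    (h : reflOKB D i = true) : ReflFacts D i := by
  unfold reflOKB at h
  rw [forceAll_eq, withMask_eq] at h
  simp only [Bool.and_eq_true, List.all_eq_true, decide_eq_true_eq, beq_iff_eq, List.mem_range] at h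
  obtain ⟨hW, hmain⟩ := h
  have hWv : ∀ v < D.nroots, D.reflectRoot i v < D.nroots ∧ D.reflectRoot i v < 256 := by
    intro v hv
    apply hW
    rw [List.mem_map]
    exact ⟨v, List.mem_range.mpr hv, rfl⟩
  have hacc : ∀ v < D.nroots, packL ((List.range D.nroots).map (D.reflectRoot i)) / 256 ^ v % 256 = D.reflectRoot i v := by
    intro v hv
    rw [packL_access]
    · rw [List.getD_eq_getElem _ _ (by simpa using hv)]
      simp
    · intro a ha
      rw [List.mem_map] at ha
      obtain ⟨b, hb, rfl⟩ := ha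
      exact (hWv b (List.mem_range.mp hb)).2
  have hpk : ∀ k < D.rank, ((List.range D.rank).map (rowPack D)).getD k 0 = rowPack D k := by
    intro k hk
    rw [List.getD_eq_getElem _ _ (by simpa using hk)]
    simp
  have hcar : ∀ k < D.rank, ∀ u < D.nroots, D.cartan k u = ((rowPack D k / 256 ^ u % 256 : ℕ) : ℤ) - 16 := by
    intro k hk u hu
    rw [← carAcc_eq D k u (hrow k hk) hu]; rfl
  refine ⟨fun v hv => (hWv v hv).1, ?_⟩
  intro j hj v hv
  obtain ⟨hsj, hm⟩ := hmain j hj
  have := hm v hv
  rw [hacc _ hsj, hacc v hv, hpk j hj, ← hcar j hj v hv] at this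
  rw [← this]
  unfold carR
  apply list_map_sum_congr
  intro k hk
  have hk' := List.mem_range.mp hk
  rw [hpk k hk', hcar k hk' _ (hWv v hv).1]

theorem n_h_comm (D : ChevalleyDatum) (i j : ℕ) (hj : j < D.rank) (hFi : FundFacts D i) (hFj : FundFacts D j)
    (hR : ReflFacts D i) (hroot : RootFacts D (D.reflectRoot i (D.simple j))) (F : Type*) [Field F]
    (t : F) (ht : t ≠ 0) :
    D.nMat F (D.simple i) 1 * D.hMat F (D.simple j) t =
      D.hMat F (D.reflectRoot i (D.simple j)) t * D.nMat F (D.simple i) 1 := by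
  rw [nMat_fund D i hFi F, hMat_fund D j hFj F t ht, hMat_root D _ hroot F t ht]
  ext row col
  rw [Matrix.mul_diagonal, Matrix.diagonal_mul]
  simp only [Matrix.of_apply]
  rcases row with a | u <;> rcases col with b | v
  · simp only [Sum.elim_inl, mul_one, one_mul]
  · simp only [Sum.elim_inl, Sum.elim_inr, zero_mul, mul_zero]
  · simp only [Sum.elim_inl, Sum.elim_inr, zero_mul, mul_zero]
  · simp only [Sum.elim_inr]
    by_cases huv : u.val = D.reflectRoot i v.val
    · rw [if_pos huv, huv, hR.inv j hj v.val v.isLt, mul_comm]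
    · rw [if_neg huv, zero_mul, mul_zero]

/-- the check for all fundamental roots -/
def reflAllB (D : ChevalleyDatum) : Bool := (List.range D.rank).all (reflOKB D)

end Cfsg.Agent.Lib.Helper7
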