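import Cfsg.Agent.Lib.Helper7.ChevReflTabA
import Cfsg.Agent.Lib.Helper7.ChevReflTabE7
import Cfsg.Agent.Lib.Helper7.ChevReflTabE8x0
import Cfsg.Agent.Lib.Helper7.ChevReflTabE8x1
import Cfsg.Agent.Lib.Helper7.ChevRootMain
import Cfsg.Agent.Lib.Helper7.ChevFundMain

/-! `n_p h_{p_j}(t) = h_{w_p(p_j)}(t) n_p` for fundamental roots of the seven tabulated Chevalley data (helper7). -/

set_option autoImplicit false
namespace Cfsg.Agent.Lib.Helper7
open Cfsg Cfsg.Lie

theorem reflAllB_E8 : reflAllB chevE8 = true := by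
  unfold reflAllB
  rw [List.all_eq_true]
  intro i hi
  have hi' : i < 8 := List.mem_range.mp hi
  interval_cases i
  · exact reflOKB_E8_0
  · exact reflOKB_E8_1
  · exact reflOKB_E8_2
  · exact reflOKB_E8_3
  · exact reflOKB_E8_4
  · exact reflOKB_E8_5
  · exact reflOKB_E8_6
  · exact reflOKB_E8_7

theorem reflAllB_of_mem (D : ChevalleyDatum)
    (hD : D ∈ [chevG2, chevB2, chevD4, chevF4, chevE6, chevE7, chevE8]) : reflAllB D = true :=
  mem_seven_cases (P := fun D => reflAllB D = true) reflAllB_G2 reflAllB_B2 reflAllB_D4 reflAllB_F4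
    reflAllB_E6 reflAllB_E7 reflAllB_E8 D hD

theorem rowOKB_of_mem (D : ChevalleyDatum)
    (hD : D ∈ [chevG2, chevB2, chevD4, chevF4, chevE6, chevE7, chevE8]) (k : ℕ) (hk : k < D.rank) :
    rowOKB D k = true := by
  have h := hxAllB_of_mem D hD
  unfold hxAllB at h
  rw [List.all_eq_true] at h
  exact rowOKB_of_hxOKB D k (h k (List.mem_range.mpr hk))

theorem reflFacts_of_mem (D : ChevalleyDatum)
    (hD : D ∈ [chevG2, chevB2, chevD4, chevF4, chevE6, chevE7, chevE8]) (i : ℕ) (hi : i < D.rank) :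
    ReflFacts D i := by
  have h := reflAllB_of_mem D hD
  unfold reflAllB at h
  rw [List.all_eq_true] at h
  exact reflFacts_of_reflOKB D i (fun k hk => rowOKB_of_mem D hD k hk) (h i (List.mem_range.mpr hi))

/-- `n_p h_{p_j}(t) = h_{w_p(p_j)}(t) n_p` -/
theorem n_h_comm_of_mem (D : ChevalleyDatum)
    (hD : D ∈ [chevG2, chevB2, chevD4, chevF4, chevE6, chevE7, chevE8]) (i j : ℕ) (hi : i < D.rank)
    (hj : j < D.rank) (F : Type*) [Field F] (t : F) (ht : t ≠ 0) :
    D.nMat F (D.simple i) 1 * D.hMat F (D.simple j) t =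
      D.hMat F (D.reflectRoot i (D.simple j)) t * D.nMat F (D.simple i) 1 := by
  have hFi := fundFacts_of_mem D hD i hi
  have hFj := fundFacts_of_mem D hD j hj
  have hR := reflFacts_of_mem D hD i hi
  exact n_h_comm D i j hj hFi hFj hR (rootFacts_of_mem D hD _ (hR.lt _ hFj.hp)) F t ht

end Cfsg.Agent.Lib.Helper7
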