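import Cfsg.Agent.Lib.Helper7.ChevRefl
set_option autoImplicit false
namespace Cfsg.Agent.Lib.Helper7
open Cfsg Cfsg.Lie
set_option maxRecDepth 1000000
theorem reflAllB_G2 : reflAllB chevG2 = true := by decide +kernel
theorem reflAllB_B2 : reflAllB chevB2 = true := by decide +kernel
theorem reflAllB_D4 : reflAllB chevD4 = true := by decide +kernel
theorem reflAllB_F4 : reflAllB chevF4 = true := by decide +kernel
theorem reflAllB_E6 : reflAllB chevE6 = true := by decide +kernel
end Cfsg.Agent.Lib.Helper7
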