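import Cfsg.Agent.Lib.Helper7.ChevLongCent

/-! The centraliser of a root element `x_{r₁}(1)` for a dominant root `r₁` whose root subgroup is
centralised by `U` (possibly only in a given characteristic) (helper7). -/

set_option autoImplicit false

namespace Cfsg.Agent.Lib.Helper7

open Cfsg Cfsg.Lie Matrix
open Cfsg.Agent.Lib.Helper3.BN

/-- all constants of the commutator formula for `(r, s)` are divisible by `m` -/
def commDvdB (D : ChevalleyDatum) (m : ℕ) (r s : ℕ) : Bool :=
  (D.commTerms r s).all fun c => decide ((m : ℤ) ∣ c.2.1)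

/-- table check: `r₁` is a positive root with `[X_{r₁}, X_s] = 1` modulo `m` for all positive `s`;
`j₀` is the only fundamental root not orthogonal to `r₁`, with `⟨r₁, p_{j₀}⟩ = 1`; `negL` contains the
negatives of the other fundamental roots and consists of roots `s ≠ ±r₁` with `[X_{r₁}, X_s] = 1` modulo `m` -/
def cent2OKB (D : ChevalleyDatum) (r₁ m j₀ : ℕ) (negL : List ℕ) : Bool :=
  decide (D.IsPosRoot r₁) && !decide (D.IsPosRoot (D.neg r₁)) &&
    ((List.range D.nroots).all fun s => !decide (D.IsPosRoot s) || s == r₁ || commDvdB D m r₁ s) &&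
    decide (j₀ < D.rank) && (D.cartan j₀ r₁ == 1) && (D.reflectRoot j₀ r₁ != r₁) &&
    ((List.range D.rank).all fun i => i == j₀ ||
      ((D.cartan i r₁ == 0) && negL.contains (D.neg (D.simple i)))) &&
    (negL.all fun s => decide (s < D.nroots) && (s != r₁) && (s != D.neg r₁) && commDvdB D m r₁ s)

theorem cent2OKB_spec (D : ChevalleyDatum) (r₁ m j₀ : ℕ) (negL : List ℕ) (h : cent2OKB D r₁ m j₀ negL = true) :
    D.IsPosRoot r₁ ∧ ¬ D.IsPosRoot (D.neg r₁) ∧
      (∀ s, D.IsPosRoot s → s ≠ r₁ → commDvdB D m r₁ s = true) ∧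
      j₀ < D.rank ∧ D.cartan j₀ r₁ = 1 ∧ D.reflectRoot j₀ r₁ ≠ r₁ ∧
      (∀ i < D.rank, i ≠ j₀ → D.cartan i r₁ = 0 ∧ D.neg (D.simple i) ∈ negL) ∧
      (∀ s ∈ negL, s < D.nroots ∧ s ≠ r₁ ∧ s ≠ D.neg r₁ ∧ commDvdB D m r₁ s = true) := by
  unfold cent2OKB at h
  simp only [Bool.and_eq_true, decide_eq_true_eq, beq_iff_eq, bne_iff_ne, List.all_eq_true, List.mem_range,
    Bool.or_eq_true, Bool.not_eq_true', decide_eq_false_iff_not, List.contains_iff_mem] at h
  obtain ⟨⟨⟨⟨⟨⟨⟨h1, h2⟩, h3⟩, h4⟩, h5⟩, h6⟩, h7⟩, h8⟩ := h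
  refine ⟨h1, h2, fun s hs hne => ?_, h4, h5, h6, fun i hi hne => ?_, fun s hs => ?_⟩
  · rcases h3 s hs.1 with (h | h) | h
    · exact absurd hs h
    · exact absurd h hne
    · exact h
  · rcases h7 i hi with h | h
    · exact absurd h hne
    · exact h
  · obtain ⟨⟨⟨a, b⟩, c⟩, d⟩ := h8 s hs
    exact ⟨a, b, c, d⟩

section
variable (D : ChevalleyDatum) (hD : D ∈ [chevG2, chevB2, chevD4, chevF4, chevE6, chevE7, chevE8])
variable (F : Type*) [Field F]
include hD

theorem wordGL_eq_one_of_zero (w : List (ℕ × F)) (h : ∀ e ∈ w, e.2 = 0) : wordGL D hD F w = 1 := by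
  unfold wordGL
  apply List.prod_eq_one
  intro g hg
  rw [List.mem_map] at hg
  obtain ⟨e, he, rfl⟩ := hg
  rw [h e he, xGL_zero]

/-- if all constants vanish in `F`, the root elements commute -/
theorem xGL_comm_of_commDvdB (m : ℕ) (hm : (m : F) = 0) (r s : ℕ) (hr : r < D.nroots) (hs : s < D.nroots)
    (hsr : s ≠ r) (hsn : s ≠ D.neg r) (h : commDvdB D m r s = true) (t u : F) :
    xGL D hD F s u * xGL D hD F r t = xGL D hD F r t * xGL D hD F s u := by
  rw [comm_formula_GL D hD F r s hr hs hsr hsn t u, wordGL_eq_one_of_zero, mul_one]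
  intro e he
  unfold ChevalleyDatum.commWord at he
  rw [List.mem_map] at he
  obtain ⟨c, hc, rfl⟩ := he
  unfold commDvdB at h
  rw [List.all_eq_true] at h
  have := h c hc
  rw [decide_eq_true_eq] at this
  obtain ⟨k, hk⟩ := this
  show ((c.2.1 : ℤ) : F) * (-t) ^ c.2.2.1 * u ^ c.2.2.2 = 0
  rw [hk]
  push_cast
  rw [hm]
  ring

/-- `U` centralises the root elements `x_{r₁}(t)` -/
theorem pos_comm_root (r₁ m j₀ : ℕ) (negL : List ℕ) (hm : (m : F) = 0) (hC : cent2OKB D r₁ m j₀ negL = true)
    (u : GL D.Idx F) (hu : u ∈ D.posUnipotent F) (t : F) :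
    u * xGL D hD F r₁ t = xGL D hD F r₁ t * u := by
  obtain ⟨hpos, hnegnp, hcomm, -⟩ := cent2OKB_spec D r₁ m j₀ negL hC
  unfold ChevalleyDatum.posUnipotent at hu
  induction hu using Subgroup.closure_induction with
  | mem g hg =>
    obtain ⟨r, v, hr, hgm⟩ := hg
    have hg' : g = xGL D hD F r v := Units.ext (by rw [hgm, coe_xGL])
    rw [hg']
    by_cases hrr : r = r₁
    · rw [hrr, xGL_mul, xGL_mul, add_comm]
    · have hne : r ≠ D.neg r₁ := by
        rintro rfl; exact hnegnp hr
      exact xGL_comm_of_commDvdB D hD F m hm r₁ r hpos.1 hr.1 hrr hne (hcomm r hr hrr) t v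
  | one => simp
  | mul a b _ _ iha ihb => rw [mul_assoc, ihb, ← mul_assoc, iha, mul_assoc]
  | inv a _ iha =>
    rw [← mul_right_inj a, ← mul_assoc, mul_inv_cancel, one_mul, ← mul_assoc, iha, mul_assoc,
      mul_inv_cancel, mul_one]

/-- the stabiliser of the root subgroup `X_{r₁}`, in parametrised form -/
def rootStab (r₁ : ℕ) : Subgroup (GL D.Idx F) where
  carrier := {b | Sends D hD F b r₁ r₁}
  one_mem' := sends_one _
  mul_mem' := fun ha hb => Sends.mul hb ha
  inv_mem' := fun ha => Sends.inv ha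

/-- `B` normalises `X_{r₁}` -/
theorem borel_sends_root (r₁ m j₀ : ℕ) (negL : List ℕ) (hm : (m : F) = 0)
    (hC : cent2OKB D r₁ m j₀ negL = true) (b : GL D.Idx F) (hb : b ∈ D.borelSubgroup F) :
    Sends D hD F b r₁ r₁ := by
  have hpos := (cent2OKB_spec D r₁ m j₀ negL hC).1
  have h : D.borelSubgroup F ≤ rootStab D hD F r₁ := by
    unfold ChevalleyDatum.borelSubgroup
    apply sup_le
    · intro u hu
      refine ⟨1, one_ne_zero, fun t => ?_⟩
      rw [one_mul, pos_comm_root D hD F r₁ m j₀ negL hm hC u hu t, mul_assoc, mul_inv_cancel, mul_one]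
    · intro h hh; exact (actsAs_diag D hD F h hh).sends _ hpos.1
  exact h hb

/-- `⟨U, X_s : s ∈ negL⟩` centralises the root elements `x_{r₁}(t)` -/
theorem centGen_comm_root (r₁ m j₀ : ℕ) (negL : List ℕ) (hm : (m : F) = 0)
    (hC : cent2OKB D r₁ m j₀ negL = true) (r : GL D.Idx F)
    (hr : r ∈ centGen D F negL) (t : F) :
    r * xGL D hD F r₁ t = xGL D hD F r₁ t * r := by
  obtain ⟨hpos, hnegnp, hcomm, hj₀, hcar, hrefl, hJ, hneg⟩ := cent2OKB_spec D r₁ m j₀ negL hC
  apply centGen_comm_of_gens _ (fun u hu => pos_comm_root D hD F r₁ m j₀ negL hm hC u hu t) _ r hr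
  rintro g ⟨s, hs, c, hgm⟩
  have hg' : g = xGL D hD F s c := Units.ext (by rw [hgm, coe_xGL])
  obtain ⟨hs1, hs2, hs3, hs4⟩ := hneg s hs
  rw [hg']
  exact xGL_comm_of_commDvdB D hD F m hm r₁ s hpos.1 hs1 hs2 hs3 hs4 t c

/-- products of `h_{p_i}(c_i)` with `c_{j₀} = 1` lie in `⟨U, X_s : s ∈ negL⟩` -/
theorem hWord_flatMap_mem_centGen' (j₀ : ℕ) (negL : List ℕ)
    (hJ : ∀ i < D.rank, i ≠ j₀ → D.neg (D.simple i) ∈ negL) (c : ℕ → F)
    (hc : c j₀ = 1) (L : List ℕ) (hL : ∀ i ∈ L, i < D.rank) :
    wordGL D hD F (L.flatMap fun i => D.hWord (D.simple i) (c i)) ∈ centGen D F negL := by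
  induction L with
  | nil =>
    have : wordGL D hD F ([] : List (ℕ × F)) = 1 := by simp [wordGL]
    rw [List.flatMap_nil, this]
    exact Subgroup.one_mem _
  | cons a L ih =>
    rw [List.flatMap_cons, wordGL_append]
    apply Subgroup.mul_mem _ _ (ih (fun i hi => hL i (List.mem_cons_of_mem _ hi)))
    have ha : a < D.rank := hL a List.mem_cons_self
    by_cases haj : a = j₀
    · rw [haj, hc, hGL_one]
      exact Subgroup.one_mem _
    · apply wordGL_mem_centGen
      intro e he
      have hp := (parFacts_of_mem D hD).simplePos a ha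
      have hn := hJ a ha haj
      unfold ChevalleyDatum.hWord ChevalleyDatum.nWord at he
      simp only [List.cons_append, List.nil_append, List.mem_cons, List.not_mem_nil, or_false] at he
      rcases he with rfl | rfl | rfl | rfl | rfl | rfl
      · exact Or.inl hp
      · exact Or.inr hn
      · exact Or.inl hp
      · exact Or.inl hp
      · exact Or.inr hn
      · exact Or.inl hp

/-- the centraliser in `G` of the root element `x_{r₁}(1)` is `⟨U, X_s : s ∈ negL⟩` -/
theorem centralizer_root (r₁ m j₀ : ℕ) (negL : List ℕ) (hm : (m : F) = 0)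
    (hC : cent2OKB D r₁ m j₀ negL = true) (t : GL D.Idx F)
    (ht : (t : Matrix D.Idx D.Idx F) = D.x F r₁ 1) :
    D.group F ⊓ Subgroup.centralizer {t} = centGen D F negL := by
  obtain ⟨hpos, hnegnp, hcomm, hj₀, hcar, hrefl, hJ, hneg⟩ := cent2OKB_spec D r₁ m j₀ negL hC
  have ht' : t = xGL D hD F r₁ 1 := Units.ext (by rw [ht, coe_xGL])
  apply le_antisymm
  · intro g hg
    rw [Subgroup.mem_inf, Subgroup.mem_centralizer_singleton_iff] at hg
    obtain ⟨hgG, hgt⟩ := hg
    -- step (i): `g` normalises the root subgroup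
    have hgS : Sends D hD F g r₁ r₁ := by
      obtain ⟨b, hb, n, hn, u, hu, hgeq⟩ := canon_exists D hD F g hgG
      have huU := uMinus_le_posUnipotent D F n hu
      obtain ⟨L, hL, hact⟩ := exists_actsAs D hD F n hn
      have hs : reflWord D L r₁ < D.nroots := (hact _ hpos.1).1
      have hsn := hact.sends _ hpos.1
      have hsb := borel_sends_root D hD F r₁ m j₀ negL hm hC b hb
      have hsu := borel_sends_root D hD F r₁ m j₀ negL hm hC u (posUnipotent_le_borel D hD F huU)
      have hut := pos_comm_root D hD F r₁ m j₀ negL hm hC u huU 1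
      rw [← ht'] at hut
      have key : n * t * n⁻¹ = b⁻¹ * t * b⁻¹⁻¹ := by
        have e1 : b * n * t * u = t * b * n * u := by
          calc b * n * t * u = b * n * (t * u) := by group
            _ = b * n * (u * t) := by rw [hut]
            _ = (b * n * u) * t := by group
            _ = t * (b * n * u) := by rw [← hgeq, hgt]
            _ = t * b * n * u := by group
        have e2 := mul_right_cancel e1
        calc n * t * n⁻¹ = b⁻¹ * (b * n * t) * n⁻¹ := by group
          _ = b⁻¹ * (t * b * n) * n⁻¹ := by rw [e2]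
          _ = b⁻¹ * t * b⁻¹⁻¹ := by group
      have hroot : reflWord D L r₁ = r₁ := by
        obtain ⟨c, hc, h1⟩ := hsn
        obtain ⟨c', hc', h1'⟩ := hsb.inv
        have h2 := (h1 1).symm.trans ((ht' ▸ key).trans (h1' 1))
        exact xGL_root_inj D hD F _ _ hs hpos.1 _ _ (by simpa using hc) h2
      rw [hroot] at hsn
      have := (hsu.mul hsn).mul hsb
      rwa [← mul_assoc, ← hgeq] at this
    -- step (ii): the stabiliser is a parabolic subgroup
    obtain ⟨P, hP⟩ : ∃ P, P = chevBNPair D hD F := ⟨_, rfl⟩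
    obtain ⟨M, hMdef⟩ : ∃ M : Subgroup ↥(D.group F), M = (rootStab D hD F r₁).subgroupOf (D.group F) :=
      ⟨_, rfl⟩
    have hPB : ∀ g : ↥(D.group F), g ∈ P.B ↔ (g : GL D.Idx F) ∈ D.borelSubgroup F := by
      rw [hP]; intro g; rw [chevBNPair_B, Subgroup.mem_subgroupOf]
    have hM : P.B ≤ M := by
      intro b hb
      rw [hMdef, Subgroup.mem_subgroupOf]
      exact borel_sends_root D hD F r₁ m j₀ negL hm hC _ ((hPB b).mp hb)
    have h1 := subgroup_eq_parabolic P M hM
    have hgM : (⟨g, hgG⟩ : ↥(D.group F)) ∈ M := by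
      rw [hMdef, Subgroup.mem_subgroupOf]; exact hgS
    rw [h1] at hgM
    have hle : P.parabolic {s | s ∈ P.S ∧ s ∈ M} ≤
        (D.diagonalSubgroup F ⊔ centGen D F negL).subgroupOf (D.group F) := by
      unfold BNPair.parabolic
      apply sup_le
      · intro b hb
        rw [Subgroup.mem_subgroupOf]
        have hb' := (hPB b).mp hb
        have hBle : D.borelSubgroup F ≤ D.diagonalSubgroup F ⊔ centGen D F negL := by
          unfold ChevalleyDatum.borelSubgroup
          exact sup_le (le_trans (le_sup_left : D.posUnipotent F ≤ centGen D F negL) le_sup_right)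
            le_sup_left
        exact hBle hb'
      · rw [Subgroup.closure_le]
        rintro s ⟨hs, hsM⟩
        have hs' : s ∈ fundSet D F := by rw [hP] at hs; exact hs
        obtain ⟨i, hi, hsm⟩ := hs'
        have hsn := coe_eq_nFund_of_mem_fundSet D hD F s i hsm
        rw [hMdef, Subgroup.mem_subgroupOf, hsn] at hsM
        have hact := (actsAs_nFund D hD F i hi).sends _ hpos.1
        have hlt : D.reflectRoot i r₁ < D.nroots := (actsAs_nFund D hD F i hi _ hpos.1).1
        have hroot := Sends.root_eq D hD F hlt hpos.1 hact hsM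
        have hij : i ≠ j₀ := by rintro rfl; exact hrefl hroot
        show s ∈ (D.diagonalSubgroup F ⊔ centGen D F negL).subgroupOf (D.group F)
        rw [Subgroup.mem_subgroupOf, hsn]
        apply Subgroup.mem_sup_right
        unfold nFund
        apply wordGL_mem_centGen
        intro e he
        have hp := (parFacts_of_mem D hD).simplePos i hi
        have hn := (hJ i hi hij).2
        unfold ChevalleyDatum.nWord at he
        simp only [List.mem_cons, List.not_mem_nil, or_false] at he
        rcases he with rfl | rfl | rfl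
        · exact Or.inl hp
        · exact Or.inr hn
        · exact Or.inl hp
    -- step (iii): split off the diagonal part
    have hg2 := hle hgM
    rw [Subgroup.mem_subgroupOf] at hg2
    have hg3 : g ∈ ((D.diagonalSubgroup F ⊔ centGen D F negL : Subgroup (GL D.Idx F)) :
        Set (GL D.Idx F)) := hg2
    rw [Subgroup.coe_mul_of_left_le_normalizer_right _ _ (diagonal_le_normalizer_centGen D hD F negL)] at hg3
    obtain ⟨h, hh, r, hr, hgeq⟩ := Set.mem_mul.mp hg3
    have hrt := centGen_comm_root D hD F r₁ m j₀ negL hm hC r hr 1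
    rw [← ht'] at hrt
    have hht : h * t = t * h := by
      have : h * t * r = t * h * r := by
        rw [mul_assoc, ← hrt, ← mul_assoc, hgeq, hgt, ← hgeq, mul_assoc]
      exact mul_right_cancel this
    obtain ⟨c, hc, hhm⟩ := mem_diagonalSubgroup_prodChar D hD F h hh
    have hχ := chainChar_prodChar D hD F (List.range D.rank) (fun i hi => List.mem_range.mp hi) c hc
    have hcomm1 := diagGL_xGL_comm D hD F h _ hχ hhm r₁ 1
    rw [← ht', hht, ht'] at hcomm1
    have hχ1 := xGL_param_inj D hD F _ hpos.1 _ _ (mul_right_cancel hcomm1)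
    have hcj : c j₀ = 1 := by
      unfold prodChar at hχ1
      rw [prod_range_single (fun i => c i ^ D.cartan i r₁) j₀ D.rank ?_, if_pos hj₀, hcar,
        mul_one, zpow_one] at hχ1
      · exact hχ1.symm
      · intro i hi hij
        show c i ^ D.cartan i r₁ = 1
        rw [(hJ i hi hij).1, zpow_zero]
    have hh' : h = wordGL D hD F ((List.range D.rank).flatMap fun i => D.hWord (D.simple i) (c i)) := by
      apply Units.ext
      rw [coe_wordGL, hhm, wordMat_flatMap_hWord D hD F c _ (fun i hi => ⟨List.mem_range.mp hi, hc i⟩)]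
    rw [← hgeq]
    apply Subgroup.mul_mem _ _ hr
    rw [hh']
    exact hWord_flatMap_mem_centGen' D hD F j₀ negL (fun i hi hij => (hJ i hi hij).2) c hcj _
      (fun i hi => List.mem_range.mp hi)
  · intro r hr
    rw [Subgroup.mem_inf, Subgroup.mem_centralizer_singleton_iff]
    constructor
    · have hle : centGen D F negL ≤ D.group F := by
        unfold centGen
        apply sup_le (le_trans (posUnipotent_le_borel D hD F) (borel_le_group D hD F))
        rw [Subgroup.closure_le]
        rintro g ⟨s, hs, c, hgm⟩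
        have hg' : g = xGL D hD F s c := Units.ext (by rw [hgm, coe_xGL])
        rw [hg']
        exact xGL_mem_group D hD F s c
      exact hle hr
    · rw [ht']
      exact centGen_comm_root D hD F r₁ m j₀ negL hm hC r hr 1

omit hD in
/-- `⟨U, X_s : s ∈ [a, b, c]⟩` as a supremum of root subgroups -/
theorem centGen_three (a b c : ℕ) :
    centGen D F [a, b, c] = D.posUnipotent F ⊔ D.rootSubgroup F a ⊔ D.rootSubgroup F b ⊔ D.rootSubgroup F c := by
  unfold centGen ChevalleyDatum.rootSubgroup
  apply le_antisymm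
  · apply sup_le
    · exact le_trans le_sup_left (le_trans le_sup_left le_sup_left)
    · rw [Subgroup.closure_le]
      rintro g ⟨s, hs, t, hg⟩
      simp only [List.mem_cons, List.not_mem_nil, or_false] at hs
      rcases hs with rfl | rfl | rfl
      · exact (le_trans (le_trans le_sup_right le_sup_left) le_sup_left :
          Subgroup.closure _ ≤ _) (Subgroup.subset_closure ⟨t, hg⟩)
      · exact (le_trans le_sup_right le_sup_left : Subgroup.closure _ ≤ _)
          (Subgroup.subset_closure ⟨t, hg⟩)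
      · exact (le_sup_right : Subgroup.closure _ ≤ _) (Subgroup.subset_closure ⟨t, hg⟩)
  · have hsub : ∀ s ∈ [a, b, c], Subgroup.closure {g : GL D.Idx F | ∃ t : F,
        (g : Matrix D.Idx D.Idx F) = D.x F s t} ≤ D.posUnipotent F ⊔ Subgroup.closure
          {g : GL D.Idx F | ∃ s ∈ [a, b, c], ∃ c : F, (g : Matrix D.Idx D.Idx F) = D.x F s c} := by
      intro s hs
      refine le_trans (Subgroup.closure_mono ?_) le_sup_right
      rintro g ⟨t, hg⟩
      exact ⟨s, hs, t, hg⟩
    apply sup_le (sup_le (sup_le le_sup_left (hsub a (by simp))) (hsub b (by simp))) (hsub c (by simp))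

omit hD in
/-- `⟨U, X_a⟩` as a supremum -/
theorem centGen_one (a : ℕ) :
    centGen D F [a] = D.posUnipotent F ⊔ D.rootSubgroup F a := by
  unfold centGen ChevalleyDatum.rootSubgroup
  congr 2
  ext g
  simp

end

end Cfsg.Agent.Lib.Helper7
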