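import Cfsg.Agent.Lib.Helper7.ChevSL

set_option autoImplicit false

namespace Cfsg.Agent.Lib.Helper7

open Cfsg Cfsg.Lie Matrix

/-- the generic (slow) check for a root `r` -/
def rootGenB (D : ChevalleyDatum) (r : ℕ) : Bool :=
  decide (r < D.nroots) && decide (D.neg r < D.nroots) && r != D.neg r && D.neg (D.neg r) == r &&
  (List.range D.rank).all (fun k =>
    (D.coroot.getD (D.neg r) #[]).getD k 0 == - (D.coroot.getD r #[]).getD k 0) &&
  (List.range D.nroots).all fun s => s == r || s == D.neg r ||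
    (strCheck D r (D.neg r) s &&
      ((strJw D r s : ℤ) - (strJ D (D.neg r) s : ℤ) == - carR D r s) &&
      strW D r (D.neg r) (strW D r (D.neg r) s) == s &&
      carR D r (strW D r (D.neg r) s) == - carR D r s &&
      strEta D r (D.neg r) s * strEta D r (D.neg r) (strW D r (D.neg r) s) == (-1) ^ (carR D r s).natAbs)

theorem rootFacts_of_rootGenB (D : ChevalleyDatum) (r : ℕ) (hadd : AddHyp D r)
    (hhx : ∀ k < D.rank, HxFacts D k) (h : rootGenB D r = true) : RootFacts D r := by
  unfold rootGenB at h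
  simp only [Bool.and_eq_true, decide_eq_true_eq, bne_iff_ne, beq_iff_eq] at h
  obtain ⟨⟨⟨⟨⟨hr, hrb⟩, hne⟩, hnn⟩, hcor⟩, hall⟩ := h
  rw [List.all_eq_true] at hcor hall
  have hcarNeg : ∀ k < D.rank, D.cartan k (D.neg r) = - D.cartan k r :=
    fun k hk => (hhx k hk).negCar r hr hrb
  refine ⟨hr, hrb, ⟨?_, rfl, hnn.symm, ?_, ?_, hadd.1⟩, ?_, ?_, ?_⟩
  · intro hh; exact hne (congrArg Fin.val hh)
  · intro k hk
    have := hcor k (List.mem_range.mpr hk)
    simpa using this
  · intro k hk; exact hcarNeg k hk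
  · unfold carR
    rw [← sum_range_eq_list]
    exact hadd.1
  · unfold carR
    rw [list_sum_map_neg (List.range D.rank) (fun k => D.cartan k r) (fun k => D.cartan k (D.neg r)) _
      (fun k hk => hcarNeg k (List.mem_range.mp hk))]
    have : ((List.range D.rank).map fun k => (D.coroot.getD r #[]).getD k 0 * D.cartan k r).sum = 2 := by
      rw [← sum_range_eq_list]
      exact hadd.1
    rw [this]
  · intro s hs hs1 hs2
    have h1 := hall s (List.mem_range.mpr hs)
    simp only [Bool.or_eq_true, beq_iff_eq, Bool.and_eq_true] at h1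
    rcases h1 with (h1 | h1) | h1
    · exact absurd h1 hs1
    · exact absurd h1 hs2
    · obtain ⟨⟨⟨⟨g1, g2⟩, g3⟩, g4⟩, g5⟩ := h1
      exact ⟨g1, g2, g3, g4, g5⟩

/-- the generic check for the roots in `[lo, lo+len)` -/
def rootGenRangeB (D : ChevalleyDatum) (lo len : ℕ) : Bool := (List.range' lo len).all (rootGenB D)

theorem rootGenB_of_range (D : ChevalleyDatum) (lo len : ℕ) (h : rootGenRangeB D lo len = true) (r : ℕ)
    (h1 : lo ≤ r) (h2 : r < lo + len) : rootGenB D r = true := by
  unfold rootGenRangeB at h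
  rw [List.all_eq_true] at h
  apply h r
  rw [List.mem_range'_1]
  exact ⟨h1, h2⟩

theorem rootSLB_of_range (D : ChevalleyDatum) (lo len : ℕ) (h : slRangeB D lo len = true) (r : ℕ)
    (h1 : lo ≤ r) (h2 : r < lo + len) : rootSLB D ((List.range D.rank).map (rowPack D)) r = true := by
  unfold slRangeB at h
  rw [forceAll_eq, List.all_eq_true] at h
  apply h r
  rw [List.mem_range'_1]
  exact ⟨h1, h2⟩

end Cfsg.Agent.Lib.Helper7
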