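import Cfsg.Agent.Lib.Helper7.ChevSL1

set_option autoImplicit false

namespace Cfsg.Agent.Lib.Helper7

open Cfsg Cfsg.Lie Matrix

/-- the whole check for a root `r` of a simply-laced datum (`packs` the packed rows of Cartan integers) -/
def rootSLB (D : ChevalleyDatum) (packs : List ℕ) (r : ℕ) : Bool :=
  decide (r < D.nroots) && decide (D.neg r < D.nroots) && r != D.neg r && D.neg (D.neg r) == r &&
  (D.chain.getD r #[]).toList.all slEntryOK && (D.chain.getD (D.neg r) #[]).toList.all slEntryOK &&
  (List.range D.rank).all (fun k =>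
    (D.coroot.getD (D.neg r) #[]).getD k 0 == - (D.coroot.getD r #[]).getD k 0) &&
  ((List.range D.rank).all (fun k => decide (0 ≤ (D.coroot.getD r #[]).getD k 0)) ||
    (List.range D.rank).all (fun k => decide ((D.coroot.getD r #[]).getD k 0 ≤ 0))) &&
  withMask (slTab (D.chain.getD r #[]).toList) fun Tr =>
  withMask (slTab (D.chain.getD (D.neg r) #[]).toList) fun Tb =>
  withMask (16 * (cabsL D r).sum) fun S16 =>
    (List.range D.nroots).all fun s => s == r || s == D.neg r ||
      (slStrB D.nroots r (D.neg r) Tr Tb s &&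
        linkB (cabsL D r) packs ((List.range D.rank).all (fun k => decide (0 ≤ (D.coroot.getD r #[]).getD k 0)))
          S16 s
          (16 + (if Tb / 1024 ^ s % 1024 = 0 then 0 else 1) - (if Tr / 1024 ^ s % 1024 = 0 then 0 else 1)))

theorem list_sum_map_neg (L : List ℕ) (f g : ℕ → ℤ) (c : ℕ → ℤ) (h : ∀ k ∈ L, g k = - f k) :
    (L.map fun k => c k * g k).sum = - (L.map fun k => c k * f k).sum := by
  induction L with
  | nil => simp
  | cons a L ih =>
    simp only [List.map_cons, List.sum_cons]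
    rw [ih (fun k hk => h k (List.mem_cons_of_mem _ hk)), h a (List.mem_cons_self ..)]
    ring

theorem rootFacts_of_rootSLB (D : ChevalleyDatum) (r : ℕ) (hadd : AddHyp D r)
    (hsr : sortedB ((D.chain.getD r #[]).toList.map Prod.fst) = true)
    (hsb : sortedB ((D.chain.getD (D.neg r) #[]).toList.map Prod.fst) = true)
    (hrow : ∀ k < D.rank, rowOKB D k = true) (hhx : ∀ k < D.rank, HxFacts D k)
    (h : rootSLB D ((List.range D.rank).map (rowPack D)) r = true) : RootFacts D r := by
  unfold rootSLB at h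
  simp only [withMask_eq] at h
  simp only [Bool.and_eq_true, decide_eq_true_eq, bne_iff_ne, beq_iff_eq] at h
  obtain ⟨⟨⟨⟨⟨⟨⟨⟨hr, hrb⟩, hne⟩, hnn⟩, hokr⟩, hokb⟩, hcor⟩, hsign⟩, hall⟩ := h
  rw [List.all_eq_true] at hokr hokb hcor hall
  set Tr := slTab (D.chain.getD r #[]).toList with hTr
  set Tb := slTab (D.chain.getD (D.neg r) #[]).toList with hTb
  have hccr : ∀ s, ccAll D r s = slDec (Tr / 1024 ^ s % 1024) := fun s =>
    slTab_eq _ hsr hokr s
  have hccb : ∀ s, ccAll D (D.neg r) s = slDec (Tb / 1024 ^ s % 1024) := fun s =>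
    slTab_eq _ hsb hokb s
  -- sign of the coroot coefficients
  set pos := (List.range D.rank).all (fun k => decide (0 ≤ (D.coroot.getD r #[]).getD k 0)) with hposdef
  have hpos : pos = true → ∀ k < D.rank, 0 ≤ (D.coroot.getD r #[]).getD k 0 := by
    intro hp k hk
    rw [hposdef, List.all_eq_true] at hp
    simpa using hp k (List.mem_range.mpr hk)
  have hneg : pos = false → ∀ k < D.rank, (D.coroot.getD r #[]).getD k 0 ≤ 0 := by
    intro hp k hk
    rw [Bool.or_eq_true, hp] at hsign
    rcases hsign with h0 | h0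
    · exact absurd h0 (by simp)
    · rw [List.all_eq_true] at h0
      simpa using h0 k (List.mem_range.mpr hk)
  have hcarNeg : ∀ k < D.rank, D.cartan k (D.neg r) = - D.cartan k r :=
    fun k hk => (hhx k hk).negCar r hr hrb
  have key : ∀ s < D.nroots, s ≠ r → s ≠ D.neg r →
      slStrB D.nroots r (D.neg r) Tr Tb s = true ∧ carR D r s = slA Tr Tb s := by
    intro s hs hs1 hs2
    have h1 := hall s (List.mem_range.mpr hs)
    simp only [Bool.or_eq_true, beq_iff_eq, Bool.and_eq_true] at h1
    rcases h1 with (h1 | h1) | h1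
    · exact absurd h1 hs1
    · exact absurd h1 hs2
    · refine ⟨h1.1, ?_⟩
      rw [link_facts D r s _ hrow hs pos hpos hneg h1.2]
      unfold slA
      by_cases ha : Tr / 1024 ^ s % 1024 = 0 <;> by_cases hb : Tb / 1024 ^ s % 1024 = 0 <;>
        simp [ha, hb]
  refine ⟨hr, hrb, ⟨?_, rfl, hnn.symm, ?_, ?_, hadd.1⟩, ?_, ?_, ?_⟩
  · intro hh; exact hne (congrArg Fin.val hh)
  · intro k hk
    have := hcor k (List.mem_range.mpr hk)
    simpa using this
  · intro k hk; exact hcarNeg k hk
  · unfold carR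
    rw [← sum_range_eq_list]
    exact hadd.1
  · unfold carR
    rw [list_sum_map_neg (List.range D.rank) (fun k => D.cartan k r) (fun k => D.cartan k (D.neg r)) _
      (fun k hk => hcarNeg k (List.mem_range.mp hk))]
    have : ((List.range D.rank).map fun k => (D.coroot.getD r #[]).getD k 0 * D.cartan k r).sum = 2 := by
      rw [← sum_range_eq_list]
      exact hadd.1
    rw [this]
  · intro s hs hs1 hs2
    obtain ⟨k1, k2⟩ := key s hs hs1 hs2
    obtain ⟨g1, g2, g3, g4, g5⟩ := slStr_facts D r (D.neg r) Tr Tb hccr hccb s hs hs1 hs2 k1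
    obtain ⟨hw1, hw2, hw3⟩ := strW_lt_of_strCheck D _ _ s g1
    obtain ⟨-, k2'⟩ := key _ hw1 hw2 hw3
    refine ⟨g1, ?_, g3, ?_, ?_⟩
    · rw [k2]; exact g2
    · rw [k2, k2']; exact g4
    · rw [k2]; exact g5

end Cfsg.Agent.Lib.Helper7

namespace Cfsg.Agent.Lib.Helper7
open Cfsg Cfsg.Lie
/-- all roots in the range `[lo, lo+len)` -/
def slRangeB (D : ChevalleyDatum) (lo len : ℕ) : Bool :=
  forceAll ((List.range D.rank).map (rowPack D)) fun packs =>
    (List.range' lo len).all fun r => rootSLB D packs r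
end Cfsg.Agent.Lib.Helper7
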