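import Cfsg.Agent.Lib.Helper7.ChevFund
import Cfsg.Agent.Lib.Helper7.ChevHx

set_option autoImplicit false

namespace Cfsg.Agent.Lib.Helper7

open Cfsg Cfsg.Lie Matrix

/-- keyed packing in base 1024: `Σ d · 1024 ^ key` -/
def kpack : List (ℕ × ℕ) → ℕ
  | [] => 0
  | e :: l => e.2 * 1024 ^ e.1 + kpack l

theorem kpack_dvd (a : ℕ) : ∀ l : List (ℕ × ℕ), (∀ e ∈ l, a < e.1) → 1024 ^ (a + 1) ∣ kpack l
  | [], _ => by simp [kpack]
  | e :: l, h => by
    have h1 : a < e.1 := h e (List.mem_cons_self ..)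
    have ih := kpack_dvd a l (fun x hx => h x (List.mem_cons_of_mem _ hx))
    unfold kpack
    apply dvd_add
    · exact Dvd.dvd.mul_left (pow_dvd_pow 1024 h1) _
    · exact ih

theorem digit_of_dvd (P s : ℕ) (h : 1024 ^ (s + 1) ∣ P) : P / 1024 ^ s % 1024 = 0 := by
  obtain ⟨m, rfl⟩ := h
  rw [pow_succ, mul_assoc, Nat.mul_div_cancel_left _ (by positivity)]
  simp

theorem digit_head (d a Q : ℕ) (hd : d < 1024) (hQ : 1024 ^ (a + 1) ∣ Q) :
    (d * 1024 ^ a + Q) / 1024 ^ a % 1024 = d := by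
  obtain ⟨m, rfl⟩ := hQ
  have : d * 1024 ^ a + 1024 ^ (a + 1) * m = 1024 ^ a * (d + 1024 * m) := by ring
  rw [this, Nat.mul_div_cancel_left _ (by positivity), Nat.add_mul_mod_self_left, Nat.mod_eq_of_lt hd]

theorem digit_tail (d a Q s : ℕ) (hd : d < 1024) (hQ : 1024 ^ (a + 1) ∣ Q) (hs : a < s) :
    (d * 1024 ^ a + Q) / 1024 ^ s = Q / 1024 ^ s := by
  obtain ⟨m, rfl⟩ := hQ
  obtain ⟨k, rfl⟩ : ∃ k, s = a + 1 + k := ⟨s - (a + 1), by omega⟩
  rw [pow_add 1024 (a + 1) k, ← Nat.div_div_eq_div_mul, ← Nat.div_div_eq_div_mul,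
    Nat.add_mul_div_left _ _ (by positivity : 0 < 1024 ^ (a + 1)),
    Nat.mul_div_cancel_left _ (by positivity : 0 < 1024 ^ (a + 1))]
  have : d * 1024 ^ a / 1024 ^ (a + 1) = 0 := by
    apply Nat.div_eq_of_lt
    rw [pow_succ, mul_comm (1024 ^ a) 1024]
    exact Nat.mul_lt_mul_of_pos_right hd (by positivity)
  rw [this, zero_add]

theorem kpack_digit_mem : ∀ (l : List (ℕ × ℕ)), (l.map Prod.fst).Pairwise (· < ·) → (∀ e ∈ l, e.2 < 1024) →
    ∀ e ∈ l, kpack l / 1024 ^ e.1 % 1024 = e.2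
  | [], _, _, e, he => by simp at he
  | x :: l, hs, hd, e, he => by
    rw [List.map_cons, List.pairwise_cons] at hs
    have hgt : ∀ y ∈ l, x.1 < y.1 := fun y hy => hs.1 _ (List.mem_map.mpr ⟨y, hy, rfl⟩)
    have hdv := kpack_dvd x.1 l hgt
    have hx : x.2 < 1024 := hd x (List.mem_cons_self ..)
    unfold kpack
    rcases List.mem_cons.mp he with rfl | he'
    · exact digit_head _ _ _ hx hdv
    · rw [digit_tail _ _ _ _ hx hdv (hgt e he')]
      exact kpack_digit_mem l hs.2 (fun y hy => hd y (List.mem_cons_of_mem _ hy)) e he'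

theorem kpack_digit_not_mem : ∀ (l : List (ℕ × ℕ)), (l.map Prod.fst).Pairwise (· < ·) → (∀ e ∈ l, e.2 < 1024) →
    ∀ s, s ∉ l.map Prod.fst → kpack l / 1024 ^ s % 1024 = 0
  | [], _, _, s, _ => by simp [kpack]
  | x :: l, hs, hd, s, hns => by
    rw [List.map_cons, List.pairwise_cons] at hs
    have hgt : ∀ y ∈ l, x.1 < y.1 := fun y hy => hs.1 _ (List.mem_map.mpr ⟨y, hy, rfl⟩)
    have hdv := kpack_dvd x.1 l hgt
    have hx : x.2 < 1024 := hd x (List.mem_cons_self ..)
    rw [List.map_cons, List.mem_cons, not_or] at hns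
    rcases lt_or_gt_of_ne hns.1 with hlt | hgt'
    · -- s < x.1
      apply digit_of_dvd
      unfold kpack
      apply dvd_add
      · exact Dvd.dvd.mul_left (pow_dvd_pow 1024 hlt) _
      · exact kpack_dvd s l (fun y hy => lt_trans hlt (hgt y hy))
    · unfold kpack
      rw [digit_tail _ _ _ _ hx hdv hgt']
      exact kpack_digit_not_mem l hs.2 (fun y hy => hd y (List.mem_cons_of_mem _ hy)) s hns.2

/-- simply-laced entry encoding -/
def slEnc (e : ℕ × Array (ℕ × ℤ)) : ℕ × ℕ :=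
  (e.1, match e.2.toList with
        | [(u, a)] => 2 * (u + 1) + (if a = 1 then 1 else 0)
        | _ => 0)

def slEntryOK (e : ℕ × Array (ℕ × ℤ)) : Bool :=
  match e.2.toList with
  | [(u, a)] => (a == 1 || a == -1) && decide (u < 511)
  | _ => false

def slDec (d : ℕ) : List (ℕ × ℕ × ℤ) :=
  if d = 0 then [] else [(d / 2 - 1, 1, if d % 2 = 1 then 1 else -1)]

theorem slDec_enc (e : ℕ × Array (ℕ × ℤ)) (h : slEntryOK e = true) :
    slDec (slEnc e).2 = entryList e ∧ (slEnc e).2 < 1024 := by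
  unfold slEntryOK at h
  unfold slEnc entryList slDec
  split at h
  · rename_i u a heq
    simp only [Bool.and_eq_true, Bool.or_eq_true, beq_iff_eq, decide_eq_true_eq] at h
    obtain ⟨ha, hu⟩ := h
    rw [heq]
    simp only [List.zipIdx_cons, List.zipIdx_nil, List.map_cons, List.map_nil, zero_add]
    rcases ha with rfl | rfl
    · simp only [if_true]
      constructor
      · have h1 : ¬ (2 * (u + 1) + 1 = 0) := by omega
        have h2 : (2 * (u + 1) + 1) / 2 - 1 = u := by omega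
        have h3 : (2 * (u + 1) + 1) % 2 = 1 := by omega
        rw [if_neg h1, h2, h3]; rfl
      · omega
    · have hm : ¬ ((-1 : ℤ) = 1) := by decide
      simp only [hm, if_false, add_zero]
      constructor
      · have h1 : ¬ (2 * (u + 1) = 0) := by omega
        have h2 : (2 * (u + 1)) / 2 - 1 = u := by omega
        have h3 : ¬ ((2 * (u + 1)) % 2 = 1) := by omega
        rw [if_neg h1, h2, if_neg h3]
      · omega
  · exact absurd h (by simp)


/-- the packed simply-laced chain table of a chain list -/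
def slTab (L : List (ℕ × Array (ℕ × ℤ))) : ℕ := kpack (L.map slEnc)

theorem slTab_eq (L : List (ℕ × Array (ℕ × ℤ))) (hsort : sortedB (L.map Prod.fst) = true)
    (hok : ∀ e ∈ L, slEntryOK e = true) (s : ℕ) :
    (L.filter (fun e => e.1 = s)).flatMap entryList = slDec (slTab L / 1024 ^ s % 1024) := by
  have hpw := pairwise_of_sortedB _ hsort
  have hnd : (L.map Prod.fst).Nodup := hpw.imp (fun hab => ne_of_lt hab)
  have hkeys : (L.map slEnc).map Prod.fst = L.map Prod.fst := by
    rw [List.map_map]; rfl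
  have hpw' : ((L.map slEnc).map Prod.fst).Pairwise (· < ·) := by rw [hkeys]; exact hpw
  have hd : ∀ x ∈ L.map slEnc, x.2 < 1024 := by
    intro x hx
    rw [List.mem_map] at hx
    obtain ⟨e, he, rfl⟩ := hx
    exact (slDec_enc e (hok e he)).2
  unfold slTab
  by_cases hmem : s ∈ L.map Prod.fst
  · rw [List.mem_map] at hmem
    obtain ⟨e, he, rfl⟩ := hmem
    rw [filter_key_eq_singleton L hnd e he]
    have h1 := kpack_digit_mem (L.map slEnc) hpw' hd (slEnc e) (List.mem_map.mpr ⟨e, he, rfl⟩)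
    have h2 : (slEnc e).1 = e.1 := rfl
    rw [h2] at h1
    rw [h1, (slDec_enc e (hok e he)).1]
    simp
  · have : L.filter (fun e => e.1 = s) = [] := by
      rw [List.filter_eq_nil_iff]
      intro x hx hxe
      apply hmem
      rw [List.mem_map]
      exact ⟨x, hx, by simpa using hxe⟩
    rw [this, kpack_digit_not_mem (L.map slEnc) hpw' hd s (by rw [hkeys]; exact hmem)]
    rfl

theorem str_single (D : ChevalleyDatum) (r rb s : ℕ) (h1 : ccAll D r s = []) (h2 : ccAll D rb s = [])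
    (hs : s < D.nroots) (hsr : s ≠ r) (hsrb : s ≠ rb) :
    strCheck D r rb s = true ∧ strW D r rb s = s ∧ strEta D r rb s = 1 ∧ strJw D r s = 0 ∧ strJ D rb s = 0 := by
  have hL : strList D r rb s = [s] := by unfold strList; rw [h1, h2]; rfl
  have hjw : strJw D r s = 0 := by unfold strJw; rw [h1]; rfl
  have hj : strJ D rb s = 0 := by unfold strJ; rw [h2]; rfl
  have hcz1 : czL D [s] r 0 0 = 1 := by unfold czL; simp [h1]
  have hcz2 : czL D [s] rb 0 0 = 1 := by unfold czL; simp [h2]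
  have hc : cL D [s] r rb 0 0 = 1 := by
    unfold cL; simp [hcz1, hcz2]
  have he : strEta D r rb s = 1 := by unfold strEta; rw [hL, hjw, hj, hc]
  refine ⟨?_, ?_, he, hjw, hj⟩
  · unfold strCheck
    rw [he, hL, hjw, hj]
    simp [nodupB, hs, hsr, hsrb, h1, h2, hc]
  · unfold strW; rw [hL, hjw]; rfl

theorem str_pair (D : ChevalleyDatum) (r rb s0 s1 : ℕ) (a b : ℤ)
    (h1 : ccAll D r s0 = [(s1, 1, a)]) (h2 : ccAll D rb s0 = [])
    (h3 : ccAll D r s1 = []) (h4 : ccAll D rb s1 = [(s0, 1, b)]) (hab : a * b = 1)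
    (hs0 : s0 < D.nroots) (hs0r : s0 ≠ r) (hs0rb : s0 ≠ rb)
    (hs1 : s1 < D.nroots) (hs1r : s1 ≠ r) (hs1rb : s1 ≠ rb) (hne : s0 ≠ s1) :
    (strCheck D r rb s0 = true ∧ strW D r rb s0 = s1 ∧ strEta D r rb s0 = a ∧ strJw D r s0 = 1 ∧
      strJ D rb s0 = 0) ∧
    (strCheck D r rb s1 = true ∧ strW D r rb s1 = s0 ∧ strEta D r rb s1 = -b ∧ strJw D r s1 = 0 ∧
      strJ D rb s1 = 1) := by
  have hL0 : strList D r rb s0 = [s0, s1] := by unfold strList; rw [h1, h2]; rfl
  have hL1 : strList D r rb s1 = [s0, s1] := by unfold strList; rw [h3, h4]; rfl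
  have hjw0 : strJw D r s0 = 1 := by unfold strJw; rw [h1]; rfl
  have hj0 : strJ D rb s0 = 0 := by unfold strJ; rw [h2]; rfl
  have hjw1 : strJw D r s1 = 0 := by unfold strJw; rw [h3]; rfl
  have hj1 : strJ D rb s1 = 1 := by unfold strJ; rw [h4]; rfl
  have hne' : s1 ≠ s0 := hne.symm
  have c00 : czL D [s0, s1] r 0 0 = 1 := by unfold czL; simp [h1, hne']
  have c10 : czL D [s0, s1] r 1 0 = a := by unfold czL; simp [h1]
  have c01 : czL D [s0, s1] r 0 1 = 0 := by unfold czL; simp [h3]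
  have c11 : czL D [s0, s1] r 1 1 = 1 := by unfold czL; simp [h3]
  have b00 : czL D [s0, s1] rb 0 0 = 1 := by unfold czL; simp [h2]
  have b10 : czL D [s0, s1] rb 1 0 = 0 := by unfold czL; simp [h2]
  have b01 : czL D [s0, s1] rb 0 1 = b := by unfold czL; simp [h4]
  have b11 : czL D [s0, s1] rb 1 1 = 1 := by unfold czL; simp [h4, hne]
  have hrange : List.range 2 = [0, 1] := rfl
  have C00 : cL D [s0, s1] r rb 0 0 = 0 := by
    unfold cL
    simp only [List.length_cons, List.length_nil, hrange, List.map_cons, List.map_nil, List.sum_cons, List.sum_nil,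
      c00, c10, c01, c11, b00, b10, b01, b11]
    linear_combination (-1 : ℤ) * hab
  have C10 : cL D [s0, s1] r rb 1 0 = a := by
    unfold cL
    simp only [List.length_cons, List.length_nil, hrange, List.map_cons, List.map_nil, List.sum_cons, List.sum_nil,
      c00, c10, c01, c11, b00, b10, b01, b11]
    linear_combination (-a) * hab
  have C01 : cL D [s0, s1] r rb 0 1 = -b := by
    unfold cL
    simp only [List.length_cons, List.length_nil, hrange, List.map_cons, List.map_nil, List.sum_cons, List.sum_nil,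
      c00, c10, c01, c11, b00, b10, b01, b11]
    ring
  have C11 : cL D [s0, s1] r rb 1 1 = 0 := by
    unfold cL
    simp only [List.length_cons, List.length_nil, hrange, List.map_cons, List.map_nil, List.sum_cons, List.sum_nil,
      c00, c10, c01, c11, b00, b10, b01, b11]
    linear_combination (-1 : ℤ) * hab
  have he0 : strEta D r rb s0 = a := by unfold strEta; rw [hL0, hjw0, hj0, C10]
  have he1 : strEta D r rb s1 = -b := by unfold strEta; rw [hL1, hjw1, hj1, C01]
  refine ⟨⟨?_, ?_, he0, hjw0, hj0⟩, ⟨?_, ?_, he1, hjw1, hj1⟩⟩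
  · unfold strCheck
    rw [he0, hL0, hjw0, hj0]
    simp [nodupB, hs0, hs0r, hs0rb, hs1, hs1r, hs1rb, hne, h1, h2, h3, h4, C00, C10, hrange]
  · unfold strW; rw [hL0, hjw0]; rfl
  · unfold strCheck
    rw [he1, hL1, hjw1, hj1]
    simp [nodupB, hs0, hs0r, hs0rb, hs1, hs1r, hs1rb, hne, h1, h2, h3, h4, C01, C11, hrange]
  · unfold strW; rw [hL1, hjw1]; rfl

end Cfsg.Agent.Lib.Helper7
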