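import Cfsg.Agent.Lib.Helper7.ChevBlock
import Cfsg.Agent.Lib.Helper7.ChevWordGL

/-! The exceptional ("special") automorphism of a Chevalley group whose adjoint module has an invariant
coordinate subspace `I`, with the action on the quotient matching the action on `I` (helper7). -/

set_option autoImplicit false

namespace Cfsg.Agent.Lib.Helper7

open Cfsg Cfsg.Lie Matrix

section
variable (D : ChevalleyDatum) (hD : D ∈ [chevG2, chevB2, chevD4, chevF4, chevE6, chevE7, chevE8])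
variable (F : Type*) [Field F] {k : ℕ} (ιI ιQ : Fin k → D.Idx)
variable (hbij : Function.Bijective (Sum.elim ιI ιQ))
variable (hC : ∀ r < D.nroots, ∀ t : F, blkC ιI ιQ (D.x F r t) = 0)
include hD hbij hC

theorem blkC_group (g : GL D.Idx F) (hg : g ∈ D.group F) :
    blkC ιI ιQ (g : Matrix D.Idx D.Idx F) = 0 ∧
      blkC ιI ιQ ((g⁻¹ : GL D.Idx F) : Matrix D.Idx D.Idx F) = 0 := by
  unfold ChevalleyDatum.group at hg
  induction hg using Subgroup.closure_induction with
  | mem g hg =>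
    obtain ⟨r, t, h⟩ := hg
    have hg' : g = xGL D hD F r.val t := Units.ext (by rw [h, coe_xGL, x_eq_xMat D F r.val r.isLt])
    rw [hg', xGL_inv, coe_xGL, coe_xGL]
    exact ⟨hC r.val r.isLt t, hC r.val r.isLt (-t)⟩
  | one =>
    rw [inv_one]
    exact ⟨blkC_one ιI ιQ hbij, blkC_one ιI ιQ hbij⟩
  | mul g g' _ _ ih ih' =>
    rw [_root_.mul_inv_rev]
    exact ⟨blkC_mul ιI ιQ hbij _ _ ih.1 ih'.1, blkC_mul ιI ιQ hbij _ _ ih'.2 ih.2⟩
  | inv g _ ih =>
    rw [inv_inv]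
    exact ⟨ih.2, ih.1⟩

/-- the action on the invariant subspace -/
def psiI : ↥(D.group F) →* Matrix (Fin k) (Fin k) F where
  toFun g := blkA ιI ((g : GL D.Idx F) : Matrix D.Idx D.Idx F)
  map_one' := blkA_one ιI (injI ιI ιQ hbij)
  map_mul' g g' := blkA_mul ιI ιQ hbij _ _ (blkC_group D hD F ιI ιQ hbij hC g' g'.2).1

/-- the action on the quotient -/
def psiQ : ↥(D.group F) →* Matrix (Fin k) (Fin k) F where
  toFun g := blkD ιQ ((g : GL D.Idx F) : Matrix D.Idx D.Idx F)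
  map_one' := blkD_one ιQ (injQ ιI ιQ hbij)
  map_mul' g g' := blkD_mul ιI ιQ hbij _ _ (blkC_group D hD F ιI ιQ hbij hC g g.2).1

/-- the generators of the Chevalley group, in the subtype -/
def xSub (r : ℕ) (t : F) : ↥(D.group F) := ⟨xGL D hD F r t, xGL_mem_group D hD F r t⟩

omit hbij hC in
theorem closure_xSub :
    Subgroup.closure {g : ↥(D.group F) | ∃ r < D.nroots, ∃ t : F, g = xSub D hD F r t} = ⊤ := by
  rw [eq_top_iff]
  rintro ⟨g, hg⟩ -
  have hg' := hg
  unfold ChevalleyDatum.group at hg'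
  suffices h : ∀ (hg : g ∈ D.group F), (⟨g, hg⟩ : ↥(D.group F)) ∈
      Subgroup.closure {g : ↥(D.group F) | ∃ r < D.nroots, ∃ t : F, g = xSub D hD F r t} from h hg
  induction hg' using Subgroup.closure_induction with
  | mem g hg0 =>
    intro hg1
    obtain ⟨r, t, h⟩ := hg0
    apply Subgroup.subset_closure
    refine ⟨r.val, r.isLt, t, Subtype.ext (Units.ext ?_)⟩
    show (g : Matrix D.Idx D.Idx F) = D.x F r.val t
    rw [h, x_eq_xMat D F r.val r.isLt]
  | one => intro _; exact Subgroup.one_mem _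
  | mul g g' h1 h2 ih ih' =>
    intro _
    have e1 : g ∈ D.group F := h1
    have e2 : g' ∈ D.group F := h2
    exact Subgroup.mul_mem _ (ih e1 e1) (ih' e2 e2)
  | inv g h1 ih =>
    intro _
    have e1 : g ∈ D.group F := h1
    exact Subgroup.inv_mem _ (ih e1 e1)

variable (ρ lam : ℕ → ℕ) (p : ℕ)
variable (hρlt : ∀ r < D.nroots, ρ r < D.nroots) (hρρ : ∀ r < D.nroots, ρ (ρ r) = r)
variable (hlam : ∀ r < D.nroots, lam (ρ r) * lam r = p)
variable (hrel : ∀ r < D.nroots, ∀ t : F, blkD ιQ (D.x F r t) = blkA ιI (D.x F (ρ r) (t ^ lam r)))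
variable (hperf : ∀ x : F, ∃ y : F, y ^ p = x)
variable (hIinj : Function.Injective (psiI D hD F ιI ιQ hbij hC))
variable (hQinj : Function.Injective (psiQ D hD F ιI ιQ hbij hC))
include hρlt hρρ hlam hrel hperf hIinj hQinj

/-- the special automorphism: `x_r(t) ↦ x_{ρ r}(t ^ lam r)` -/
theorem exists_specialAut : ∃ σ : ↥(D.group F) ≃* ↥(D.group F), ∀ r < D.nroots, ∀ t : F,
    σ (xSub D hD F r t) = xSub D hD F (ρ r) (t ^ lam r) := by
  obtain ⟨fI, hfI⟩ : ∃ f : ↥(D.group F) →* (Matrix (Fin k) (Fin k) F)ˣ,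
      f = (psiI D hD F ιI ιQ hbij hC).toHomUnits := ⟨_, rfl⟩
  obtain ⟨fQ, hfQ⟩ : ∃ f : ↥(D.group F) →* (Matrix (Fin k) (Fin k) F)ˣ,
      f = (psiQ D hD F ιI ιQ hbij hC).toHomUnits := ⟨_, rfl⟩
  have hfIv : ∀ g, ((fI g : (Matrix (Fin k) (Fin k) F)ˣ) : Matrix (Fin k) (Fin k) F) =
      psiI D hD F ιI ιQ hbij hC g := fun g => by rw [hfI]; rfl
  have hfQv : ∀ g, ((fQ g : (Matrix (Fin k) (Fin k) F)ˣ) : Matrix (Fin k) (Fin k) F) =
      psiQ D hD F ιI ιQ hbij hC g := fun g => by rw [hfQ]; rfl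
  have hfIinj : Function.Injective fI := by
    intro g g' h
    apply hIinj
    rw [← hfIv, ← hfIv, h]
  have hfQinj : Function.Injective fQ := by
    intro g g' h
    apply hQinj
    rw [← hfQv, ← hfQv, h]
  have hgenrel : ∀ r < D.nroots, ∀ t : F, fQ (xSub D hD F r t) = fI (xSub D hD F (ρ r) (t ^ lam r)) := by
    intro r hr t
    apply Units.ext
    rw [hfIv, hfQv]
    exact hrel r hr t
  have hrange : fQ.range = fI.range := by
    rw [MonoidHom.range_eq_map, MonoidHom.range_eq_map, ← closure_xSub D hD F, MonoidHom.map_closure,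
      MonoidHom.map_closure]
    apply le_antisymm
    · rw [Subgroup.closure_le]
      rintro _ ⟨g, ⟨r, hr, t, rfl⟩, rfl⟩
      rw [hgenrel r hr t]
      exact Subgroup.subset_closure ⟨_, ⟨ρ r, hρlt r hr, _, rfl⟩, rfl⟩
    · rw [Subgroup.closure_le]
      rintro _ ⟨g, ⟨r, hr, t, rfl⟩, rfl⟩
      obtain ⟨y, hy⟩ := hperf t
      have h1 := hgenrel (ρ r) (hρlt r hr) (y ^ lam r)
      rw [hρρ r hr, ← pow_mul, Nat.mul_comm, hlam r hr, hy] at h1
      rw [← h1]
      exact Subgroup.subset_closure ⟨_, ⟨ρ r, hρlt r hr, _, rfl⟩, rfl⟩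
  refine ⟨(MonoidHom.ofInjective hfQinj).trans ((MulEquiv.subgroupCongr hrange).trans
    (MonoidHom.ofInjective hfIinj).symm), ?_⟩
  intro r hr t
  apply hfIinj
  rw [← hgenrel r hr t]
  show fI ((MonoidHom.ofInjective hfIinj).symm _) = _
  rw [MonoidHom.apply_ofInjective_symm]
  rfl

end

end Cfsg.Agent.Lib.Helper7
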