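import Cfsg.Prelude.Def_SteinbergCover
import Cfsg.Agent.Lib.Helper7.ChevPerfTab

/-! The group presented by Steinberg's relations (R1), (R2) is perfect (helper7). -/

set_option autoImplicit false

namespace Cfsg.Agent.Lib.Helper7

open Cfsg Cfsg.Lie

/-- certificate steps: `(0, a, b)` — the commutator formula of `a`, `b` has a single term, with coefficient `±1` and
exponents `(1, 1)`; `(1, a, b)` — its first two terms have coefficients `±1` and exponents `(1, 1)`, `(1, 2)`, the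
others belong to roots already dealt with -/
def stDeadL (D : ChevalleyDatum) : List ℕ → List (ℕ × ℕ × ℕ) → List ℕ
  | acc, [] => acc
  | acc, (k, a, b) :: L =>
    if decide (a < D.nroots) && decide (b < D.nroots) && (b != a) && (b != D.neg a) then
      (if k = 0 then
        (if (D.commTerms a b == [((D.commTerms a b).headD (0, 0, 0, 0))]) &&
            (((D.commTerms a b).headD (0, 0, 0, 0)).2.2 == (1, 1)) &&
            ((((D.commTerms a b).headD (0, 0, 0, 0)).2.1 == 1) || (((D.commTerms a b).headD (0, 0, 0, 0)).2.1 == -1))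
          then stDeadL D (((D.commTerms a b).headD (0, 0, 0, 0)).1 :: acc) L else stDeadL D acc L)
      else
        (if (D.commTerms a b == ((D.commTerms a b).headD (0, 0, 0, 0)) ::
              ((D.commTerms a b).tail.headD (0, 0, 0, 0)) :: (D.commTerms a b).tail.tail) &&
            (((D.commTerms a b).headD (0, 0, 0, 0)).2.2 == (1, 1)) &&
            (((D.commTerms a b).tail.headD (0, 0, 0, 0)).2.2 == (1, 2)) &&
            ((((D.commTerms a b).headD (0, 0, 0, 0)).2.1 == 1) || (((D.commTerms a b).headD (0, 0, 0, 0)).2.1 == -1)) &&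
            ((((D.commTerms a b).tail.headD (0, 0, 0, 0)).2.1 == 1) ||
              (((D.commTerms a b).tail.headD (0, 0, 0, 0)).2.1 == -1)) &&
            ((D.commTerms a b).tail.tail.all fun c => acc.contains c.1)
          then stDeadL D (((D.commTerms a b).headD (0, 0, 0, 0)).1 ::
            ((D.commTerms a b).tail.headD (0, 0, 0, 0)).1 :: acc) L else stDeadL D acc L))
    else stDeadL D acc L

def stDeadAllB (D : ChevalleyDatum) (cert : List (ℕ × ℕ × ℕ)) : Bool :=
  (List.range D.nroots).all fun r => (stDeadL D [] cert).contains r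

theorem stDeadL_induction (D : ChevalleyDatum) (P : ℕ → Prop)
    (h0 : ∀ a b r : ℕ, ∀ C : ℤ, a < D.nroots → b < D.nroots → b ≠ a → b ≠ D.neg a → (C = 1 ∨ C = -1) →
      D.commTerms a b = [(r, C, 1, 1)] → P r)
    (h1 : ∀ a b r₁ r₂ : ℕ, ∀ C₁ C₂ : ℤ, ∀ rest : List (ℕ × ℤ × ℕ × ℕ), a < D.nroots → b < D.nroots → b ≠ a →
      b ≠ D.neg a → (C₁ = 1 ∨ C₁ = -1) → (C₂ = 1 ∨ C₂ = -1) →
      D.commTerms a b = (r₁, C₁, 1, 1) :: (r₂, C₂, 1, 2) :: rest → (∀ c ∈ rest, P c.1) → P r₁ ∧ P r₂) :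
    ∀ (cert : List (ℕ × ℕ × ℕ)) (acc : List ℕ), (∀ s ∈ acc, P s) → ∀ s ∈ stDeadL D acc cert, P s := by
  intro cert
  induction cert with
  | nil => intro acc h; exact h
  | cons e L ih =>
    obtain ⟨k, a, b⟩ := e
    intro acc h
    unfold stDeadL
    split_ifs with hv hk hc hc
    · simp only [Bool.and_eq_true, decide_eq_true_eq, bne_iff_ne, ne_eq] at hv
      obtain ⟨⟨⟨ha, hb⟩, hba⟩, hbn⟩ := hv
      obtain ⟨c, hcdef⟩ : ∃ c, c = (D.commTerms a b).headD (0, 0, 0, 0) := ⟨_, rfl⟩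
      rw [← hcdef] at hc ⊢
      simp only [Bool.and_eq_true, Bool.or_eq_true, beq_iff_eq] at hc
      obtain ⟨⟨hT, h11⟩, hC⟩ := hc
      obtain ⟨r, C, i, j⟩ := c
      simp only [Prod.mk.injEq] at h11
      obtain ⟨rfl, rfl⟩ := h11
      apply ih
      intro s hs
      rcases List.mem_cons.mp hs with rfl | hs
      · exact h0 a b s C ha hb hba hbn hC hT
      · exact h s hs
    · exact ih acc h
    · simp only [Bool.and_eq_true, decide_eq_true_eq, bne_iff_ne, ne_eq] at hv
      obtain ⟨⟨⟨ha, hb⟩, hba⟩, hbn⟩ := hv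
      obtain ⟨c₁, hc₁⟩ : ∃ c, c = (D.commTerms a b).headD (0, 0, 0, 0) := ⟨_, rfl⟩
      obtain ⟨c₂, hc₂⟩ : ∃ c, c = (D.commTerms a b).tail.headD (0, 0, 0, 0) := ⟨_, rfl⟩
      obtain ⟨rest, hrest⟩ : ∃ c, c = (D.commTerms a b).tail.tail := ⟨_, rfl⟩
      rw [← hc₁, ← hc₂, ← hrest] at hc
      rw [← hc₁, ← hc₂]
      simp only [Bool.and_eq_true, Bool.or_eq_true, beq_iff_eq, List.all_eq_true, List.contains_iff_mem] at hc
      obtain ⟨⟨⟨⟨⟨hT, h11⟩, h12⟩, hC1⟩, hC2⟩, hr⟩ := hc
      obtain ⟨r₁, C₁, i₁, j₁⟩ := c₁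
      obtain ⟨r₂, C₂, i₂, j₂⟩ := c₂
      simp only [Prod.mk.injEq] at h11 h12
      obtain ⟨rfl, rfl⟩ := h11
      obtain ⟨rfl, rfl⟩ := h12
      have := h1 a b r₁ r₂ C₁ C₂ rest ha hb hba hbn hC1 hC2 hT (fun c hc => h c.1 (hr c hc))
      apply ih
      intro s hs
      rcases List.mem_cons.mp hs with rfl | hs
      · exact this.1
      · rcases List.mem_cons.mp hs with rfl | hs
        · exact this.2
        · exact h s hs
    · exact ih acc h
    · exact ih acc h

section
variable (D : ChevalleyDatum) (K : Type*) [Field K]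

/-- the image of `x̄_r(t)` in the abelianisation -/
def scAb (r : ℕ) (t : K) : Abelianization (D.SteinbergCover K) := Abelianization.of (D.scGen K r t)

theorem scAb_oob (r : ℕ) (hr : ¬ r < D.nroots) (t : K) : scAb D K r t = 1 := by
  unfold scAb ChevalleyDatum.scGen ChevalleyDatum.stX
  rw [dif_neg hr, map_one, map_one]

theorem scAb_add' (r : ℕ) (hr : r < D.nroots) (t₁ t₂ : K) :
    scAb D K r t₁ * scAb D K r t₂ = scAb D K r (t₁ + t₂) := by
  unfold scAb ChevalleyDatum.scGen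
  rw [← map_mul, ← map_mul]
  congr 1
  apply PresentedGroup.mk_eq_mk_of_mul_inv_mem
  left
  exact ⟨r, t₁, t₂, hr, rfl⟩

theorem scAb_add (r : ℕ) (t₁ t₂ : K) :
    scAb D K r t₁ * scAb D K r t₂ = scAb D K r (t₁ + t₂) := by
  by_cases hr : r < D.nroots
  · exact scAb_add' D K r hr t₁ t₂
  · rw [scAb_oob D K r hr, scAb_oob D K r hr, scAb_oob D K r hr, mul_one]

theorem scAb_word (w : List (ℕ × K)) :
    Abelianization.of (PresentedGroup.mk (D.steinbergRelsAB K) (D.stWord w)) =
      (w.map fun p => scAb D K p.1 p.2).prod := by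
  unfold ChevalleyDatum.stWord scAb ChevalleyDatum.scGen
  rw [map_list_prod, map_list_prod, List.map_map, List.map_map]
  rfl

theorem scAb_comm (r s : ℕ) (hr : r < D.nroots) (hs : s < D.nroots) (hsr : s ≠ r) (hsn : s ≠ D.neg r) (t u : K) :
    ((D.commWord K r s t u).map fun p => scAb D K p.1 p.2).prod = 1 := by
  rw [← scAb_word]
  have h : PresentedGroup.mk (D.steinbergRelsAB K)
      ((D.stX s u)⁻¹ * (D.stX r t)⁻¹ * D.stX s u * D.stX r t * (D.stWord (D.commWord K r s t u))⁻¹) = 1 := by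
    apply PresentedGroup.one_of_mem
    right
    exact ⟨r, s, t, u, hr, hs, hsr, hsn, rfl⟩
  rw [map_mul, map_inv, mul_inv_eq_one] at h
  rw [← h]
  simp only [map_mul, map_inv]
  rw [mul_comm ((Abelianization.of (PresentedGroup.mk (D.steinbergRelsAB K) (D.stX s u)))⁻¹)]
  simp

/-- `x̄_r(t)` lies in the derived subgroup for all `t` -/
def Dead (r : ℕ) : Prop := ∀ t : K, scAb D K r t = 1

theorem dead_of_single (a b r : ℕ) (C : ℤ) (ha : a < D.nroots) (hb : b < D.nroots) (hba : b ≠ a)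
    (hbn : b ≠ D.neg a) (hC : C = 1 ∨ C = -1) (h : D.commTerms a b = [(r, C, 1, 1)]) : Dead D K r := by
  intro t
  have h1 := scAb_comm D K a b ha hb hba hbn (-(C : K) * t) 1
  unfold ChevalleyDatum.commWord at h1
  rw [h] at h1
  simp only [List.map_cons, List.map_nil, List.prod_cons, List.prod_nil, mul_one, pow_one, one_pow] at h1
  have e : (C : K) * -(-(C : K) * t) = t := by
    rcases hC with h | h <;> rw [h] <;> push_cast <;> ring
  rwa [e] at h1

theorem scAb_zero (r : ℕ) : scAb D K r 0 = 1 := by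
  have := scAb_add D K r 0 0
  rw [add_zero] at this
  exact mul_eq_left.mp this |>.symm ▸ rfl

theorem dead_of_pair (hK : ∃ x : K, x ≠ 0 ∧ x ≠ 1) (a b r₁ r₂ : ℕ) (C₁ C₂ : ℤ) (rest : List (ℕ × ℤ × ℕ × ℕ))
    (ha : a < D.nroots) (hb : b < D.nroots) (hba : b ≠ a) (hbn : b ≠ D.neg a) (hC₁ : C₁ = 1 ∨ C₁ = -1)
    (hC₂ : C₂ = 1 ∨ C₂ = -1) (h : D.commTerms a b = (r₁, C₁, 1, 1) :: (r₂, C₂, 1, 2) :: rest)
    (hrest : ∀ c ∈ rest, Dead D K c.1) :
    Dead D K r₁ ∧ Dead D K r₂ := by
  obtain ⟨x, hx0, hx1⟩ := hK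
  -- the basic relation
  have key : ∀ t u : K, scAb D K r₁ ((C₁ : K) * (-t) * u) * scAb D K r₂ ((C₂ : K) * (-t) * u ^ 2) = 1 := by
    intro t u
    have h1 := scAb_comm D K a b ha hb hba hbn t u
    unfold ChevalleyDatum.commWord at h1
    rw [h] at h1
    simp only [List.map_cons, List.prod_cons, pow_one] at h1
    have h2 : ((rest.map fun c => (c.1, (c.2.1 : K) * (-t) ^ c.2.2.1 * u ^ c.2.2.2)).map
        fun p => scAb D K p.1 p.2).prod = 1 := by
      apply List.prod_eq_one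
      intro y hy
      rw [List.map_map, List.mem_map] at hy
      obtain ⟨c, hc, rfl⟩ := hy
      exact hrest c hc _
    rw [h2, mul_one] at h1
    exact h1
  have hdead2 : Dead D K r₂ := by
    intro t
    -- use (t', 1) and (-t'/x, x)
    have hx1' : 1 - x ≠ 0 := sub_ne_zero.mpr (Ne.symm hx1)
    obtain ⟨t', ht'⟩ : ∃ t' : K, (C₂ : K) * (-t') * (1 - x) = t := by
      refine ⟨-(C₂ : K) * t / (1 - x), ?_⟩
      have hC : (C₂ : K) * (C₂ : K) = 1 := by
        rcases hC₂ with h | h <;> rw [h] <;> push_cast <;> ring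
      field_simp
      linear_combination (t) * hC
    have k1 := key t' 1
    have k2 := key (-t' / x) x
    have e1 : (C₁ : K) * (-(-t' / x)) * x = -((C₁ : K) * (-t') * 1) := by field_simp
    have e2 : (C₂ : K) * (-(-t' / x)) * x ^ 2 = -((C₂ : K) * (-t') * x) := by field_simp
    rw [e1, e2] at k2
    have k3 : scAb D K r₁ ((C₁ : K) * (-t') * 1) * scAb D K r₂ ((C₂ : K) * (-t') * 1 ^ 2) *
        (scAb D K r₁ (-((C₁ : K) * (-t') * 1)) * scAb D K r₂ (-((C₂ : K) * (-t') * x))) = 1 := by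
      rw [k1, k2, one_mul]
    have k4 : scAb D K r₁ ((C₁ : K) * (-t') * 1) * scAb D K r₂ ((C₂ : K) * (-t') * 1 ^ 2) *
        (scAb D K r₁ (-((C₁ : K) * (-t') * 1)) * scAb D K r₂ (-((C₂ : K) * (-t') * x))) =
        scAb D K r₂ t := by
      rw [mul_mul_mul_comm, scAb_add D K r₁, scAb_add D K r₂, add_neg_cancel, scAb_zero D K r₁,
        one_mul]
      congr 1
      rw [← ht']; ring
    rw [k4] at k3
    exact k3
  refine ⟨?_, hdead2⟩
  intro t
  have hC : (C₁ : K) * (C₁ : K) = 1 := by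
    rcases hC₁ with h | h <;> rw [h] <;> push_cast <;> ring
  have k1 := key (-(C₁ : K) * t) 1
  rw [hdead2, mul_one] at k1
  have e : (C₁ : K) * -(-(C₁ : K) * t) * 1 = t := by linear_combination t * hC
  rwa [e] at k1

theorem stCover_perfect_of_dead (h : ∀ r < D.nroots, Dead D K r) : commutator (D.SteinbergCover K) = ⊤ := by
  rw [eq_top_iff]
  intro x _
  apply PresentedGroup.generated_by
  rintro ⟨⟨r, hr⟩, t⟩
  rw [← Abelianization.ker_of, MonoidHom.mem_ker]
  have := h r hr t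
  unfold scAb ChevalleyDatum.scGen ChevalleyDatum.stX at this
  rw [dif_pos hr] at this
  exact this

theorem dead_all_of_perf1B (cert : List (ℕ × ℕ)) (h : perf1B D cert = true) : ∀ r < D.nroots, Dead D K r := by
  intro r hr
  unfold perf1B at h
  simp only [List.all_eq_true, List.mem_range, Bool.and_eq_true, decide_eq_true_eq, bne_iff_ne,
    Bool.or_eq_true, beq_iff_eq] at h
  obtain ⟨⟨⟨⟨ha, hb⟩, hba⟩, hbn⟩, h1⟩ := h r hr
  rcases h1 with h1 | h1
  · exact dead_of_single D K _ _ r 1 ha hb hba hbn (Or.inl rfl) h1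
  · exact dead_of_single D K _ _ r (-1) ha hb hba hbn (Or.inr rfl) h1

theorem dead_all_of_stDeadAllB (hK : ∃ x : K, x ≠ 0 ∧ x ≠ 1) (cert : List (ℕ × ℕ × ℕ))
    (h : stDeadAllB D cert = true) : ∀ r < D.nroots, Dead D K r := by
  have key : ∀ s ∈ stDeadL D [] cert, Dead D K s := by
    apply stDeadL_induction D (Dead D K)
    · intro a b r C ha hb hba hbn hC hT
      exact dead_of_single D K a b r C ha hb hba hbn hC hT
    · intro a b r₁ r₂ C₁ C₂ rest ha hb hba hbn hC₁ hC₂ hT hrest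
      exact dead_of_pair D K hK a b r₁ r₂ C₁ C₂ rest ha hb hba hbn hC₁ hC₂ hT hrest
    · intro s hs; simp at hs
  intro r hr
  unfold stDeadAllB at h
  rw [List.all_eq_true] at h
  have := h r (List.mem_range.mpr hr)
  rw [List.contains_iff_mem] at this
  exact key r this

end

end Cfsg.Agent.Lib.Helper7
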