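import Cfsg.Agent.Lib.Helper7.ChevJLongTabA
import Cfsg.Agent.Lib.Helper7.ChevJLongTabE7
import Cfsg.Agent.Lib.Helper7.ChevJLongTabE8
import Cfsg.Agent.Lib.Helper7.ChevLong
import Cfsg.Agent.Lib.Helper7.ChevLevi2
import Cfsg.Agent.Lib.Helper7.ChevBN
import Cfsg.Agent.Lib.Helper7.ChevBV
import Cfsg.Agent.Lib.Helper7.ChevCanon
import Cfsg.Agent.Lib.Helper7.ChevPar
import Cfsg.Agent.Lib.Helper7.ChevCore
import Cfsg.Agent.Lib.Helper27.ParBN

/-! S2314 (helper27's plan), the Chevalley crux: for every set `J` of distinguished generators of the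
(B,N)-pair of a Chevalley group, `O = U_J` and `n = n_{w_J}⁻¹` (`w_J` the longest element of `W_J`) satisfy the
hypotheses `hOU hOn hn hlong hcrux` of `Cfsg.Agent.Lib.Helper27.StCount.rel_sum` (helper7). -/

set_option autoImplicit false

namespace Cfsg.Agent.Lib.Helper7

open Cfsg Cfsg.Lie Matrix
open Cfsg.Agent.Lib.Helper3.BN

/-- for every set `J` of fundamental roots a word in `J` representing the longest element of `W_J` -/
theorem exists_jlong (D : ChevalleyDatum)
    (hD : D ∈ [chevG2, chevB2, chevD4, chevF4, chevE6, chevE7, chevE8]) (J : Set ℕ) :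
    ∃ w : List ℕ, (∀ i ∈ w, i < D.rank ∧ i ∈ J) ∧
      (∀ s, D.IsPosRoot s → D.InRootSub J s → D.IsNegRoot (actW D w s)) ∧
      (∀ j < D.rank, j ∈ J → D.IsPosRoot (actW D w (D.neg (D.simple j)))) := by
  have key : ∀ m < 2 ^ D.rank, ∃ w, JLongFacts D m w :=
    mem_seven_cases (P := fun D => ∀ m < 2 ^ D.rank, ∃ w, JLongFacts D m w)
      (fun m hm => ⟨_, jlongFacts_of_jlongB _ _ jlongB_G2 m hm⟩)
      (fun m hm => ⟨_, jlongFacts_of_jlongB _ _ jlongB_B2 m hm⟩)
      (fun m hm => ⟨_, jlongFacts_of_jlongB _ _ jlongB_D4 m hm⟩)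
      (fun m hm => ⟨_, jlongFacts_of_jlongB _ _ jlongB_F4 m hm⟩)
      (fun m hm => ⟨_, jlongFacts_of_jlongB _ _ jlongB_E6 m hm⟩)
      (fun m hm => ⟨_, jlongFacts_of_jlongB _ _ jlongB_E7 m hm⟩)
      (fun m hm => ⟨_, jlongFacts_of_jlongB _ _ jlongB_E8 m hm⟩) D hD
  obtain ⟨m, hm, hmJ⟩ := exists_mask J D.rank
  obtain ⟨w, hw⟩ := key m hm
  refine ⟨w, ?_, ?_, ?_⟩
  · intro i hi
    obtain ⟨h1, h2⟩ := hw.lt i hi
    exact ⟨h1, (hmJ i h1).mp h2⟩
  · intro s hs hin
    apply hw.posneg s hs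
    intro i hi hbit
    apply hin.2 i hi
    intro hiJ
    rw [(hmJ i hi).mpr hiJ] at hbit
    exact absurd hbit (by simp)
  · intro j hj hjJ
    exact hw.simp j hj ((hmJ j hj).mpr hjJ)

section
variable (D : ChevalleyDatum) (hD : D ∈ [chevG2, chevB2, chevD4, chevF4, chevE6, chevE7, chevE8])
variable (F : Type*) [Field F]
include hD

/-- the positive root subgroups inside the Levi subgroup -/
def uLevi (J : Set ℕ) : Subgroup (GL D.Idx F) :=
  Subgroup.closure {g | ∃ (r : ℕ) (t : F), D.IsPosRoot r ∧ D.InRootSub J r ∧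
    (g : Matrix D.Idx D.Idx F) = D.x F r t}

omit hD in
theorem uJ_le_posUnipotent (J : Set ℕ) : D.unipotentRadical F J ≤ D.posUnipotent F := by
  unfold ChevalleyDatum.unipotentRadical ChevalleyDatum.posUnipotent
  apply Subgroup.closure_mono
  rintro g ⟨r, t, hr, -, hg⟩
  exact ⟨r, t, hr, hg⟩

omit hD in
theorem posUnipotent_le_uJ_sup (J : Set ℕ) :
    D.posUnipotent F ≤ D.unipotentRadical F J ⊔ uLevi D F J := by
  classical
  unfold ChevalleyDatum.posUnipotent
  rw [Subgroup.closure_le]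
  rintro g ⟨r, t, hr, hg⟩
  by_cases hin : D.InRootSub J r
  · apply Subgroup.mem_sup_right
    apply Subgroup.subset_closure
    exact ⟨r, t, hr, hin, hg⟩
  · apply Subgroup.mem_sup_left
    apply Subgroup.subset_closure
    exact ⟨r, t, hr, hin, hg⟩

theorem uLevi_le_parabolic (J : Set ℕ) : uLevi D F J ≤ D.parabolicSubgroup F J := by
  unfold uLevi
  rw [Subgroup.closure_le]
  rintro g ⟨r, t, hr, -, hg⟩
  have : g = xGL D hD F r t := Units.ext (by rw [hg, coe_xGL])
  rw [this]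
  exact xGL_pos_mem_parabolic D hD F J r hr t

theorem nLongGL_mem_parabolic (J : Set ℕ) (w : List ℕ) (hw : ∀ i ∈ w, i < D.rank ∧ i ∈ J) :
    nLongGL D hD F w ∈ D.parabolicSubgroup F J := by
  unfold nLongGL
  apply Subgroup.list_prod_mem
  intro g hg
  rw [List.mem_map] at hg
  obtain ⟨i, hi, rfl⟩ := hg
  exact nGL_mem_parabolic D hD F J i (hw i hi).1 (hw i hi).2

/-- `n_w U_L n_w⁻¹ ≤ V` -/
theorem conj_uLevi_le (J : Set ℕ) (w : List ℕ) (hw : ∀ i ∈ w, i < D.rank)
    (hpn : ∀ s, D.IsPosRoot s → D.InRootSub J s → D.IsNegRoot (actW D w s))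
    (u : GL D.Idx F) (hu : u ∈ uLevi D F J) :
    nLongGL D hD F w * u * (nLongGL D hD F w)⁻¹ ∈ D.negUnipotent F := by
  have h : uLevi D F J ≤ (D.negUnipotent F).comap (MulAut.conj (nLongGL D hD F w)).toMonoidHom := by
    unfold uLevi
    rw [Subgroup.closure_le]
    rintro g ⟨r, t, hr, hin, hg⟩
    have hg' : g = xGL D hD F r t := Units.ext (by rw [hg, coe_xGL])
    obtain ⟨ε, _, hcomm⟩ := nLongGL_xGL_comm D hD F w hw r hr.1
    show nLongGL D hD F w * g * (nLongGL D hD F w)⁻¹ ∈ D.negUnipotent F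
    rw [hg', hcomm t, mul_assoc, mul_inv_cancel, mul_one]
    unfold ChevalleyDatum.negUnipotent
    apply Subgroup.subset_closure
    exact ⟨actW D w r, ε * t, hpn r hr hin, coe_xGL D hD F _ _⟩
  exact h hu

/-- the crux in `GL`: `U ∩ n_w⁻¹ B n_w ≤ U_J` -/
theorem crux_GL (W : List (List ℤ)) (hW : coefOKB D W = true) (J : Set ℕ) (w : List ℕ)
    (hw : ∀ i ∈ w, i < D.rank ∧ i ∈ J)
    (hpn : ∀ s, D.IsPosRoot s → D.InRootSub J s → D.IsNegRoot (actW D w s))
    (u : GL D.Idx F) (hu : u ∈ D.posUnipotent F)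
    (h : nLongGL D hD F w * u * (nLongGL D hD F w)⁻¹ ∈ D.borelSubgroup F) :
    u ∈ D.unipotentRadical F J := by
  have hnorm := parabolic_le_normalizer_uJ D hD F W hW J
  have hLn : uLevi D F J ≤ Subgroup.normalizer (D.unipotentRadical F J : Set (GL D.Idx F)) :=
    le_trans (uLevi_le_parabolic D hD F J) hnorm
  have hu' := posUnipotent_le_uJ_sup D F J hu
  rw [← SetLike.mem_coe, Subgroup.coe_mul_of_right_le_normalizer_left _ _ hLn] at hu'
  obtain ⟨u₁, hu₁, u₂, hu₂, rfl⟩ := hu'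
  set n := nLongGL D hD F w with hn
  have hnP : n ∈ D.parabolicSubgroup F J := nLongGL_mem_parabolic D hD F J w hw
  have h1 : n * u₁ * n⁻¹ ∈ D.unipotentRadical F J :=
    (Subgroup.mem_normalizer_iff.mp (hnorm hnP) u₁).mp hu₁
  have h1B : n * u₁ * n⁻¹ ∈ D.borelSubgroup F :=
    posUnipotent_le_borel D hD F (uJ_le_posUnipotent D F J h1)
  have h2V : n * u₂ * n⁻¹ ∈ D.negUnipotent F :=
    conj_uLevi_le D hD F J w (fun i hi => (hw i hi).1) hpn u₂ hu₂
  have h2B : n * u₂ * n⁻¹ ∈ D.borelSubgroup F := by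
    have e : n * u₂ * n⁻¹ = (n * u₁ * n⁻¹)⁻¹ * (n * (u₁ * u₂) * n⁻¹) := by group
    rw [e]
    exact Subgroup.mul_mem _ (Subgroup.inv_mem _ h1B) h
  have h3 : n * u₂ * n⁻¹ ∈ D.borelSubgroup F ⊓ D.negUnipotent F := Subgroup.mem_inf.mpr ⟨h2B, h2V⟩
  rw [borel_inf_negUnipotent D hD F, Subgroup.mem_bot] at h3
  have h4 : u₂ = 1 := by
    have : u₂ = n⁻¹ * (n * u₂ * n⁻¹) * n := by group
    rw [this, h3]; group
  rw [h4]
  show u₁ * 1 ∈ D.unipotentRadical F J
  rw [mul_one]
  exact hu₁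

end


section
variable (D : ChevalleyDatum) (hD : D ∈ [chevG2, chevB2, chevD4, chevF4, chevE6, chevE7, chevE8])
variable (F : Type*) [Field F]
include hD

open Cfsg.Agent.Lib.Helper27.ParBN

/-- the index set of a set of distinguished generators -/
def idxSet (J : Set ↥(D.group F)) : Set ℕ :=
  {i | i < D.rank ∧ ∃ s ∈ J, (s : GL D.Idx F) = nFund D hD F i}

theorem nLong_mem_closure (J : Set ↥(D.group F)) (w : List ℕ)
    (hw : ∀ i ∈ w, i < D.rank ∧ i ∈ idxSet D hD F J) (h : nLongGL D hD F w ∈ D.group F) :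
    (⟨nLongGL D hD F w, h⟩ : ↥(D.group F)) ∈ Subgroup.closure J := by
  induction w with
  | nil =>
    have : (⟨nLongGL D hD F [], h⟩ : ↥(D.group F)) = 1 := by
      apply Subtype.ext
      show nLongGL D hD F [] = 1
      unfold nLongGL; simp
    rw [this]; exact Subgroup.one_mem _
  | cons i w ih =>
    obtain ⟨-, -, s, hs, hsn⟩ := hw i (List.mem_cons_self ..)
    have hw' : ∀ j ∈ w, j < D.rank ∧ j ∈ idxSet D hD F J := fun j hj => hw j (List.mem_cons_of_mem _ hj)
    have h' : nLongGL D hD F w ∈ D.group F := nLongGL_mem_group D hD F w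
    have e : (⟨nLongGL D hD F (i :: w), h⟩ : ↥(D.group F)) = s * ⟨nLongGL D hD F w, h'⟩ := by
      apply Subtype.ext
      show nLongGL D hD F (i :: w) = (s : GL D.Idx F) * nLongGL D hD F w
      rw [hsn]
      unfold nLongGL nFund
      rw [List.map_cons, List.prod_cons]
    rw [e]
    exact Subgroup.mul_mem _ (Subgroup.subset_closure hs) (ih hw' h')

/-- **the Chevalley crux** for helper27's `rel_sum` -/
theorem chev_crux (J : Set ↥(D.group F)) (hJ : J ⊆ (chevBNPair D hD F).S) :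
    ∃ (O : Subgroup ↥(D.group F)) (n : ↥(D.group F)),
      O ≤ (D.posUnipotent F).subgroupOf (D.group F) ∧
      (∀ x ∈ (chevBNPair D hD F).parabolic J, ∀ o ∈ O, x * o * x⁻¹ ∈ O) ∧
      n ∈ NJ (chevBNPair D hD F) J ∧
      (∀ s ∈ J, ∃ g ∈ dc (chevBNPair D hD F) n, s * g ∈ dc (chevBNPair D hD F) n) ∧
      (∀ u ∈ (D.posUnipotent F).subgroupOf (D.group F),
        n⁻¹ * u * n ∈ (chevBNPair D hD F).B → u ∈ O) := by
  obtain ⟨W, hW⟩ := exists_coefW D hD
  obtain ⟨w, hw, hpn, hsp⟩ := exists_jlong D hD (idxSet D hD F J)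
  have hwlt : ∀ i ∈ w, i < D.rank := fun i hi => (hw i hi).1
  have hnorm := parabolic_le_normalizer_uJ D hD F W hW (idxSet D hD F J)
  have hg : nLongGL D hD F w ∈ D.group F := nLongGL_mem_group D hD F w
  set g : ↥(D.group F) := ⟨nLongGL D hD F w, hg⟩ with hgdef
  have hpar : (chevBNPair D hD F).parabolic J ≤
      (D.parabolicSubgroup F (idxSet D hD F J)).subgroupOf (D.group F) := by
    unfold BNPair.parabolic
    apply sup_le
    · rw [chevBNPair_B]
      intro x hx
      rw [Subgroup.mem_subgroupOf] at hx ⊢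
      unfold ChevalleyDatum.parabolicSubgroup
      exact Subgroup.mem_sup_left hx
    · rw [Subgroup.closure_le]
      intro s hs
      rw [SetLike.mem_coe, Subgroup.mem_subgroupOf]
      obtain ⟨i, hi, hsm⟩ := hJ hs
      have hsn := coe_eq_nFund_of_mem_fundSet D hD F s i hsm
      unfold ChevalleyDatum.parabolicSubgroup
      apply Subgroup.mem_sup_right
      apply Subgroup.subset_closure
      exact ⟨i, ⟨hi, s, hs, hsn⟩, hi, hsm⟩
  refine ⟨(D.unipotentRadical F (idxSet D hD F J)).subgroupOf (D.group F), g⁻¹, ?_, ?_, ?_, ?_, ?_⟩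
  · intro x hx
    rw [Subgroup.mem_subgroupOf] at hx ⊢
    exact uJ_le_posUnipotent D F _ hx
  · intro x hx o ho
    rw [Subgroup.mem_subgroupOf] at ho ⊢
    have hx' := hpar hx
    rw [Subgroup.mem_subgroupOf] at hx'
    have := (Subgroup.mem_normalizer_iff.mp (hnorm hx') (o : GL D.Idx F)).mp ho
    simpa using this
  · apply Subgroup.inv_mem
    exact closure_le_NJ _ J (nLong_mem_closure D hD F J w hw hg)
  · intro s hs
    obtain ⟨i, hi, hsm⟩ := hJ hs
    have hsn : (s : GL D.Idx F) = nFund D hD F i := coe_eq_nFund_of_mem_fundSet D hD F s i hsm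
    have hiJ : i ∈ idxSet D hD F J := ⟨hi, s, hs, hsn⟩
    have hpos : D.IsPosRoot (D.simple i) := (parFacts_of_mem D hD).simplePos i hi
    have hneg : D.IsNegRoot (D.neg (D.simple i)) := posNegOK_of_mem D hD (D.simple i) hpos.1 hpos
    have hrpos : D.IsPosRoot (actW D w (D.neg (D.simple i))) := hsp i hi hiJ
    obtain ⟨ε, _, hcomm⟩ := nLongGL_xGL_comm D hD F w hwlt (D.neg (D.simple i)) hneg.1
    have hb1 : xGL D hD F (D.simple i) (-1) ∈ D.borelSubgroup F := xGL_pos_mem_borel D hD F _ hpos _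
    have hb2 : xGL D hD F (D.simple i) 1 ∈ D.borelSubgroup F := xGL_pos_mem_borel D hD F _ hpos _
    have hb3 : xGL D hD F (actW D w (D.neg (D.simple i))) (ε * (-1)) ∈ D.borelSubgroup F :=
      xGL_pos_mem_borel D hD F _ hrpos _
    set b : ↥(D.group F) := ⟨xGL D hD F (D.simple i) (-1), xGL_mem_group D hD F _ _⟩ with hb
    have hbB : b ∈ (chevBNPair D hD F).B := by
      rw [chevBNPair_B, Subgroup.mem_subgroupOf]; exact hb1
    refine ⟨b * g⁻¹, ?_, ?_⟩
    · rw [mem_dc]
      exact ⟨b, hbB, 1, Subgroup.one_mem _, by rw [mul_one]⟩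
    · rw [mem_dc]
      refine ⟨⟨xGL D hD F (D.simple i) 1, xGL_mem_group D hD F _ _⟩, ?_,
        ⟨xGL D hD F (actW D w (D.neg (D.simple i))) (ε * (-1)), xGL_mem_group D hD F _ _⟩, ?_, ?_⟩
      · rw [chevBNPair_B, Subgroup.mem_subgroupOf]; exact hb2
      · rw [chevBNPair_B, Subgroup.mem_subgroupOf]; exact hb3
      · apply Subtype.ext
        show (s : GL D.Idx F) * (xGL D hD F (D.simple i) (-1) * (nLongGL D hD F w)⁻¹) =
          xGL D hD F (D.simple i) 1 * (nLongGL D hD F w)⁻¹ *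
            xGL D hD F (actW D w (D.neg (D.simple i))) (ε * (-1))
        rw [hsn]
        unfold nFund
        rw [nGL_eq, inv_one]
        have h1 : xGL D hD F (D.simple i) 1 * xGL D hD F (D.simple i) (-1) = 1 := by
          rw [xGL_mul, add_neg_cancel, xGL_zero]
        have h2 : xGL D hD F (D.neg (D.simple i)) (-1) * (nLongGL D hD F w)⁻¹ =
            (nLongGL D hD F w)⁻¹ * xGL D hD F (actW D w (D.neg (D.simple i))) (ε * (-1)) := by
          have := hcomm (-1)
          calc xGL D hD F (D.neg (D.simple i)) (-1) * (nLongGL D hD F w)⁻¹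
              = (nLongGL D hD F w)⁻¹ * (nLongGL D hD F w * xGL D hD F (D.neg (D.simple i)) (-1)) *
                  (nLongGL D hD F w)⁻¹ := by group
            _ = (nLongGL D hD F w)⁻¹ * xGL D hD F (actW D w (D.neg (D.simple i))) (ε * (-1)) := by
                rw [this]; group
        calc xGL D hD F (D.simple i) 1 * xGL D hD F (D.neg (D.simple i)) (-1) * xGL D hD F (D.simple i) 1 *
              (xGL D hD F (D.simple i) (-1) * (nLongGL D hD F w)⁻¹)
            = xGL D hD F (D.simple i) 1 * xGL D hD F (D.neg (D.simple i)) (-1) *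
                (xGL D hD F (D.simple i) 1 * xGL D hD F (D.simple i) (-1)) * (nLongGL D hD F w)⁻¹ := by
              group
          _ = xGL D hD F (D.simple i) 1 *
                (xGL D hD F (D.neg (D.simple i)) (-1) * (nLongGL D hD F w)⁻¹) := by
              rw [h1]; group
          _ = xGL D hD F (D.simple i) 1 * (nLongGL D hD F w)⁻¹ *
                xGL D hD F (actW D w (D.neg (D.simple i))) (ε * (-1)) := by rw [h2]; group
  · intro u hu hB
    rw [Subgroup.mem_subgroupOf] at hu ⊢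
    rw [inv_inv, chevBNPair_B, Subgroup.mem_subgroupOf] at hB
    have hB' : nLongGL D hD F w * (u : GL D.Idx F) * (nLongGL D hD F w)⁻¹ ∈ D.borelSubgroup F := by
      simpa using hB
    exact crux_GL D hD F W hW (idxSet D hD F J) w hw hpn (u : GL D.Idx F) hu hB'

end

end Cfsg.Agent.Lib.Helper7
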