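import Cfsg.Agent.Lib.Helper7.ChevAdd

/-!
The elements `n_r(t) = x_r(t) x_{-r}(-t⁻¹) x_r(t)` of a Chevalley datum: action on the span of the `h_i`, `e_r`,
`e_{-r}` (rank one part) and on the span of an `r`-string of roots (helper7).
-/

set_option autoImplicit false

namespace Cfsg.Agent.Lib.Helper7

open Cfsg Cfsg.Lie Matrix

section str
variable (D : ChevalleyDatum) (F : Type*) [Field F] {m : ℕ} (σ : Fin m → Fin D.nroots)

/-- inclusion of the span of the root vectors `e_{σ j}` -/
def Jmat : Matrix D.Idx (Fin m) F := Matrix.of fun row j => if row = Sum.inr (σ j) then 1 else 0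

/-- restriction of `x_r(t)` to the span of the `e_{σ j}` -/
def Ares (r : Fin D.nroots) (t : F) : Matrix (Fin m) (Fin m) F :=
  Matrix.of fun k j => D.xMat F r t (Sum.inr (σ k)) (Sum.inr (σ j))

theorem mul_Jmat_apply (N : Matrix D.Idx D.Idx F) (row : D.Idx) (j : Fin m) :
    (N * Jmat D F σ) row j = N row (Sum.inr (σ j)) := by
  rw [Matrix.mul_apply]
  have : ∀ col, N row col * Jmat D F σ col j = N row col * (if col = Sum.inr (σ j) then 1 else 0) := fun _ => rfl
  rw [Finset.sum_congr rfl (fun x _ => this x), sum_mul_ite, mul_one]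

theorem xMat_mul_Jmat (r : Fin D.nroots) (hσ : Function.Injective σ) (hσr : ∀ j, σ j ≠ r)
    (hσrb : ∀ j, (σ j).val ≠ D.negIdx.getD r.val 0)
    (hcl : ∀ j, ∀ x ∈ ccAll D r.val (σ j).val, ∃ k, x.1 = (σ k).val) (t : F) :
    D.xMat F r t * Jmat D F σ = Jmat D F σ * Ares D F σ r t := by
  ext row j
  rw [mul_Jmat_apply, Matrix.mul_apply]
  rcases row with i | u
  · rw [xMat_inl_gen D F r t (σ j) (hσr j) (hσrb j)]
    symm
    apply Finset.sum_eq_zero
    intro k _
    simp [Jmat]
  · by_cases h : ∃ k, u = σ k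
    · obtain ⟨k, rfl⟩ := h
      rw [Finset.sum_eq_single k]
      · simp [Jmat, Ares]
      · intro k' _ hk'
        have : ¬ (Sum.inr (σ k) : D.Idx) = Sum.inr (σ k') := by
          intro hh
          exact hk' (hσ (Sum.inr.inj hh)).symm
        simp [Jmat, this]
      · intro hh; exact absurd (Finset.mem_univ _) hh
    · push Not at h
      rw [xMat_inr_gen D F r t (σ j) (hσr j) (hσrb j), if_neg (h j), zero_add]
      have h1 : polyAt t (ccAll D r.val (σ j).val) u.val = 0 := by
        unfold polyAt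
        apply List.sum_eq_zero
        intro y hy
        rw [List.mem_map] at hy
        obtain ⟨x, hx, rfl⟩ := hy
        obtain ⟨k, hk⟩ := hcl j x hx
        have : ¬ x.1 = u.val := by
          intro hh
          exact h k (Fin.ext (by rw [← hh, hk]))
        rw [if_neg this]
      rw [h1]
      symm
      apply Finset.sum_eq_zero
      intro k _
      have : ¬ (Sum.inr u : D.Idx) = Sum.inr (σ k) := fun hh => h k (Sum.inr.inj hh)
      simp [Jmat, this]

/-- integer coefficient matrix of the restriction of `x_r` to the string -/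
def coefZ (r : ℕ) : Matrix (Fin m) (Fin m) ℤ :=
  Matrix.of fun k j => (if k = j then 1 else 0) +
    (((ccAll D r (σ j).val).filter (fun x => x.1 = (σ k).val)).map (fun x => x.2.2)).sum

/-- the entries of the restriction of `x_r(t)` to a string are graded: `(k,j)` entry is an integer times
`t ^ (d * (k - j))`, when the targets of the chains move the position by `d` times the exponent -/
theorem Ares_entry (r : Fin D.nroots) (hσ : Function.Injective σ) (hσr : ∀ j, σ j ≠ r)
    (hσrb : ∀ j, (σ j).val ≠ D.negIdx.getD r.val 0) (d : ℤ)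
    (hexp : ∀ j, ∀ x ∈ ccAll D r.val (σ j).val, ∃ k : Fin m, x.1 = (σ k).val ∧ (k : ℤ) = (j : ℤ) + d * x.2.1)
    (hd : d = 1 ∨ d = -1)
    (t : F) (k j : Fin m) :
    Ares D F σ r t k j = ((coefZ D σ r.val k j : ℤ) : F) * t ^ (d * ((k : ℤ) - (j : ℤ))) := by
  unfold Ares coefZ
  simp only [Matrix.of_apply]
  rw [xMat_inr_gen D F r t (σ j) (hσr j) (hσrb j)]
  rw [Int.cast_add, add_mul]
  congr 1
  · by_cases hkj : k = j
    · subst hkj; simp
    · have : ¬ σ k = σ j := fun h => hkj (hσ h)
      simp [hkj, this]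
  · unfold polyAt
    rw [sum_filter_map_eq, Int.cast_list_sum, List.map_map, ← List.sum_map_mul_right]
    congr 1
    apply List.map_congr_left
    intro x hx
    simp only [Function.comp]
    by_cases hxk : x.1 = (σ k).val
    · rw [if_pos hxk, if_pos hxk]
      obtain ⟨k', hk', hpos⟩ := hexp j x hx
      have : k' = k := hσ (Fin.ext (by rw [← hk', hxk]))
      subst this
      congr 1
      have e : d * ((k' : ℤ) - (j : ℤ)) = ((x.2.1 : ℕ) : ℤ) := by
        rw [hpos]
        rcases hd with rfl | rfl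
        · ring
        · ring
      rw [e, zpow_natCast]
    · rw [if_neg hxk, if_neg hxk, Int.cast_zero, zero_mul]

theorem graded_mul (X Y : Matrix (Fin m) (Fin m) F) (ξ υ : Matrix (Fin m) (Fin m) ℤ) (t : F) (ht : t ≠ 0)
    (hX : ∀ k j, X k j = ((ξ k j : ℤ) : F) * t ^ ((k : ℤ) - (j : ℤ)))
    (hY : ∀ k j, Y k j = ((υ k j : ℤ) : F) * t ^ ((k : ℤ) - (j : ℤ))) (k j : Fin m) :
    (X * Y) k j = (((ξ * υ) k j : ℤ) : F) * t ^ ((k : ℤ) - (j : ℤ)) := by
  rw [Matrix.mul_apply, Matrix.mul_apply, Int.cast_sum, Finset.sum_mul]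
  apply Finset.sum_congr rfl
  intro a _
  rw [hX, hY, Int.cast_mul]
  have : t ^ ((k : ℤ) - (j : ℤ)) = t ^ ((k : ℤ) - (a : ℤ)) * t ^ ((a : ℤ) - (j : ℤ)) := by
    rw [← zpow_add₀ ht]; congr 1; ring
  rw [this]; ring

theorem neg_inv_zpow (t : F) (k j : ℕ) :
    (-t⁻¹) ^ (-1 * ((k : ℤ) - (j : ℤ))) = (((-1 : ℤ) ^ (k + j) : ℤ) : F) * t ^ ((k : ℤ) - (j : ℤ)) := by
  have h1 : (-t⁻¹ : F) = (-1) * t⁻¹ := by ring
  rw [h1, mul_zpow, _root_.inv_zpow', neg_mul, one_mul, neg_neg, mul_comm ((-1 : F) ^ _)]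
  rw [mul_comm (Int.cast _)]
  congr 1
  rw [Int.cast_pow, Int.cast_neg, Int.cast_one]
  rcases Nat.even_or_odd (k + j) with he | ho
  · rw [he.neg_one_pow]
    have : Even (-((k : ℤ) - (j : ℤ))) := by
      obtain ⟨c, hc⟩ := he
      exact ⟨(j : ℤ) - c, by have : ((k + j : ℕ) : ℤ) = ((c + c : ℕ) : ℤ) := by rw [hc]
                             push_cast at this; linarith⟩
    exact this.neg_one_zpow
  · rw [ho.neg_one_pow]
    have : Odd (-((k : ℤ) - (j : ℤ))) := by
      obtain ⟨c, hc⟩ := ho
      exact ⟨(j : ℤ) - c - 1, by have : ((k + j : ℕ) : ℤ) = ((2 * c + 1 : ℕ) : ℤ) := by rw [hc]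
                                 push_cast at this; linarith⟩
    exact this.neg_one_zpow

/-- the twisted coefficient matrix of the restriction of `x_{-r}(-t⁻¹)` -/
def coefTw (rb : ℕ) : Matrix (Fin m) (Fin m) ℤ :=
  Matrix.of fun k j => coefZ D σ rb k j * (-1) ^ (k.val + j.val)

/-- the integer matrix describing `n_r(t)` on the string -/
def Cmat (r rb : ℕ) : Matrix (Fin m) (Fin m) ℤ := coefZ D σ r * coefTw D σ rb * coefZ D σ r

/-- hypotheses making `σ` an `r`-string -/
structure IsString (r rb : Fin D.nroots) : Prop where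
  inj : Function.Injective σ
  ne_r : ∀ j, σ j ≠ r
  ne_rb : ∀ j, σ j ≠ rb
  hrb : rb.val = D.negIdx.getD r.val 0
  hr : r.val = D.negIdx.getD rb.val 0
  up : ∀ j, ∀ x ∈ ccAll D r.val (σ j).val, ∃ k : Fin m, x.1 = (σ k).val ∧ (k : ℤ) = (j : ℤ) + 1 * x.2.1
  dn : ∀ j, ∀ x ∈ ccAll D rb.val (σ j).val, ∃ k : Fin m, x.1 = (σ k).val ∧ (k : ℤ) = (j : ℤ) + (-1) * x.2.1

theorem nTriple_mul_Jmat (r rb : Fin D.nroots) (h : IsString D σ r rb) (t u : F) :
    D.xMat F r t * D.xMat F rb u * D.xMat F r t * Jmat D F σ =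
      Jmat D F σ * (Ares D F σ r t * Ares D F σ rb u * Ares D F σ r t) := by
  have h1 := xMat_mul_Jmat D F σ r h.inj h.ne_r (fun j hh => h.ne_rb j (Fin.ext (hh.trans h.hrb.symm)))
    (fun j x hx => let ⟨k, hk, _⟩ := h.up j x hx; ⟨k, hk⟩) t
  have h2 := xMat_mul_Jmat D F σ rb h.inj h.ne_rb (fun j hh => h.ne_r j (Fin.ext (hh.trans h.hr.symm)))
    (fun j x hx => let ⟨k, hk, _⟩ := h.dn j x hx; ⟨k, hk⟩) u
  rw [Matrix.mul_assoc, h1, ← Matrix.mul_assoc, Matrix.mul_assoc (D.xMat F r t), h2, ← Matrix.mul_assoc, h1]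
  simp only [Matrix.mul_assoc]

theorem nTriple_res (r rb : Fin D.nroots) (h : IsString D σ r rb) (t : F) (ht : t ≠ 0) (k j : Fin m) :
    (Ares D F σ r t * Ares D F σ rb (-t⁻¹) * Ares D F σ r t) k j =
      ((Cmat D σ r.val rb.val k j : ℤ) : F) * t ^ ((k : ℤ) - (j : ℤ)) := by
  have hA : ∀ k j, Ares D F σ r t k j = ((coefZ D σ r.val k j : ℤ) : F) * t ^ ((k : ℤ) - (j : ℤ)) := by
    intro k j
    have := Ares_entry D F σ r h.inj h.ne_r (fun j hh => h.ne_rb j (Fin.ext (hh.trans h.hrb.symm))) 1 h.up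
      (Or.inl rfl) t k j
    rwa [one_mul] at this
  have hB : ∀ k j, Ares D F σ rb (-t⁻¹) k j = ((coefTw D σ rb.val k j : ℤ) : F) * t ^ ((k : ℤ) - (j : ℤ)) := by
    intro k j
    have := Ares_entry D F σ rb h.inj h.ne_rb (fun j hh => h.ne_r j (Fin.ext (hh.trans h.hr.symm))) (-1) h.dn
      (Or.inr rfl) (-t⁻¹) k j
    rw [this, neg_inv_zpow F t]
    unfold coefTw
    simp only [Matrix.of_apply, Int.cast_mul]
    ring
  unfold Cmat
  exact graded_mul F _ _ _ _ t ht (graded_mul F _ _ _ _ t ht hA hB) hA k j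

/-- the columns of `x_r(t) x_{-r}(-t⁻¹) x_r(t)` at the members of an `r`-string -/
theorem nTriple_col (r rb : Fin D.nroots) (h : IsString D σ r rb) (t : F) (ht : t ≠ 0) (row : D.Idx)
    (j : Fin m) :
    (D.xMat F r t * D.xMat F rb (-t⁻¹) * D.xMat F r t) row (Sum.inr (σ j)) =
      ∑ k, (if row = Sum.inr (σ k) then ((Cmat D σ r.val rb.val k j : ℤ) : F) * t ^ ((k : ℤ) - (j : ℤ)) else 0) := by
  rw [← mul_Jmat_apply D F σ (D.xMat F r t * D.xMat F rb (-t⁻¹) * D.xMat F r t) row j,
    nTriple_mul_Jmat D F σ r rb h, Matrix.mul_apply]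
  apply Finset.sum_congr rfl
  intro k _
  rw [nTriple_res D F σ r rb h t ht]
  simp only [Jmat, Matrix.of_apply]
  split_ifs <;> simp

end str

section rank1
variable (D : ChevalleyDatum) (F : Type*) [Field F] (r rb : Fin D.nroots)

/-- a vector in the span of the `h_i`, `e_r`, `e_{-r}` -/
def wvec (a : Fin D.rank → F) (x y : F) : D.Idx → F
  | Sum.inl i => a i
  | Sum.inr s => if s = r then x else if s = rb then y else 0

/-- coroot coefficients of `r` in `F` -/
def corF (r : ℕ) : Fin D.rank → F := fun i => (((D.coroot.getD r #[]).getD i.val 0 : ℤ) : F)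

/-- Cartan integers `A_{p_i, r}` in `F` -/
def carF (r : ℕ) : Fin D.rank → F := fun i => (((D.cartanSR.getD i.val #[]).getD r 0 : ℤ) : F)

theorem sum_two_ite {n : ℕ} (f : Fin n → F) (r rb : Fin n) (hne : r ≠ rb) (x y : F) :
    ∑ s, f s * (if s = r then x else if s = rb then y else 0) = f r * x + f rb * y := by
  have : ∀ s, f s * (if s = r then x else if s = rb then y else 0)
      = f s * (if s = r then x else 0) + f s * (if s = rb then y else 0) := by
    intro s
    by_cases h1 : s = r
    · have : ¬ s = rb := fun h => hne (h1.symm.trans h)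
      simp [h1, hne]
    · simp [h1]
  rw [Finset.sum_congr rfl (fun s _ => this s), Finset.sum_add_distrib, sum_mul_ite, sum_mul_ite]

/-- action of `x_r(t)` on the span of the `h_i`, `e_r`, `e_{-r}` -/
theorem xMat_mulVec_wvec (hne : r ≠ rb) (hrb : rb.val = D.negIdx.getD r.val 0) (t : F)
    (a : Fin D.rank → F) (x y : F) :
    (D.xMat F r t).mulVec (wvec D F r rb a x y) =
      wvec D F r rb (fun i => a i + t * y * corF D F r.val i)
        (x - t * (∑ i, carF D F r.val i * a i) - t ^ 2 * y) y := by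
  funext row
  rw [Matrix.mulVec, dotProduct, Fintype.sum_sum_type]
  have e2 : ∀ s : Fin D.nroots, D.xMat F r t row (Sum.inr s) * wvec D F r rb a x y (Sum.inr s)
      = D.xMat F r t row (Sum.inr s) * (if s = r then x else if s = rb then y else 0) := fun s => rfl
  rw [Finset.sum_congr rfl (fun s _ => e2 s), sum_two_ite F _ r rb hne]
  rcases row with i' | u
  · have e1 : ∀ i : Fin D.rank, D.xMat F r t (Sum.inl i') (Sum.inl i) * wvec D F r rb a x y (Sum.inl i)
        = a i * (if i = i' then 1 else 0) := fun i => by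
      rw [xMat_inl_inl]
      show (if i' = i then (1:F) else 0) * a i = _
      by_cases h : i' = i
      · simp [h]
      · have : ¬ i = i' := fun hh => h hh.symm
        simp [h, this]
    rw [Finset.sum_congr rfl (fun s _ => e1 s), sum_mul_ite, xMat_inl_self,
      xMat_inl_neg D F r t rb hne.symm hrb]
    show _ = a i' + t * y * corF D F r.val i'
    unfold corF
    ring
  · have e1 : ∀ i : Fin D.rank, D.xMat F r t (Sum.inr u) (Sum.inl i) * wvec D F r rb a x y (Sum.inl i)
        = (if u = r then -t else 0) * (carF D F r.val i * a i) := fun i => by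
      rw [xMat_inr_inl]
      show _ * a i = _
      unfold carF
      by_cases h : u = r
      · simp only [h, if_true]; ring
      · simp only [h, if_false]; ring
    rw [Finset.sum_congr rfl (fun s _ => e1 s), ← Finset.mul_sum, xMat_inr_self,
      xMat_inr_neg D F r t rb hne.symm hrb]
    show _ = if u = r then _ else if u = rb then y else 0
    by_cases h1 : u = r
    · have : ¬ r = rb := hne
      simp only [h1, if_true, this, if_false]; ring
    · by_cases h2 : u = rb
      · have h3 : ¬ rb = r := fun h => hne h.symm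
        simp only [h2, h3, if_true, if_false]; ring
      · simp only [h1, h2, if_false]; ring

theorem wvec_swap (hne : r ≠ rb) (a : Fin D.rank → F) (x y : F) :
    wvec D F rb r a y x = wvec D F r rb a x y := by
  funext row
  rcases row with i | s
  · rfl
  · show (if s = rb then y else if s = r then x else 0) = if s = r then x else if s = rb then y else 0
    by_cases h1 : s = r
    · have : ¬ s = rb := fun h => hne (h1.symm.trans h)
      simp [h1, hne]
    · simp [h1]

/-- rank one table conditions for the pair `r`, `-r` -/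
structure RankOne : Prop where
  hne : r ≠ rb
  hrb : rb.val = D.negIdx.getD r.val 0
  hr : r.val = D.negIdx.getD rb.val 0
  cor : ∀ i < D.rank, (D.coroot.getD rb.val #[]).getD i 0 = - (D.coroot.getD r.val #[]).getD i 0
  car : ∀ i < D.rank, (D.cartanSR.getD i #[]).getD rb.val 0 = - (D.cartanSR.getD i #[]).getD r.val 0
  two : ∑ i ∈ Finset.range D.rank, (D.coroot.getD r.val #[]).getD i 0 * (D.cartanSR.getD i #[]).getD r.val 0 = 2

theorem xMat_rb_mulVec_wvec (h : RankOne D r rb) (u : F) (a : Fin D.rank → F) (x y : F) :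
    (D.xMat F rb u).mulVec (wvec D F r rb a x y) =
      wvec D F r rb (fun i => a i - u * x * corF D F r.val i) x
        (y + u * (∑ i, carF D F r.val i * a i) - u ^ 2 * x) := by
  rw [← wvec_swap D F r rb h.hne, xMat_mulVec_wvec D F rb r h.hne.symm h.hr, ← wvec_swap D F r rb h.hne]
  have hc : ∀ i, corF D F rb.val i = - corF D F r.val i := by
    intro i; unfold corF; rw [h.cor i.val i.isLt, Int.cast_neg]
  have ha : ∀ i, carF D F rb.val i = - carF D F r.val i := by
    intro i; unfold carF; rw [h.car i.val i.isLt, Int.cast_neg]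
  congr 1
  · funext i; rw [hc]; ring
  · simp_rw [ha]
    rw [Finset.sum_congr rfl (fun i _ => neg_mul (carF D F r.val i) (a i)), Finset.sum_neg_distrib]
    ring

theorem sum_car_cor (h : RankOne D r rb) : ∑ i, carF D F r.val i * corF D F r.val i = 2 := by
  have h1 := congrArg (Int.cast (R := F)) h.two
  rw [Int.cast_sum] at h1
  unfold carF corF
  rw [Fin.sum_univ_eq_sum_range (fun i => (((D.cartanSR.getD i #[]).getD r.val 0 : ℤ) : F) *
    (((D.coroot.getD r.val #[]).getD i 0 : ℤ) : F)) D.rank]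
  rw [← Int.cast_ofNat (R := F) (n := 2), ← h1]
  apply Finset.sum_congr rfl
  intro i _
  rw [Int.cast_mul, mul_comm]

/-- the action of `n_r(t)` on the span of the `h_i`, `e_r`, `e_{-r}` -/
theorem nTriple_mulVec_wvec (h : RankOne D r rb) (t : F) (ht : t ≠ 0) (a : Fin D.rank → F) (x y : F) :
    (D.xMat F r t * D.xMat F rb (-t⁻¹) * D.xMat F r t).mulVec (wvec D F r rb a x y) =
      wvec D F r rb (fun i => a i - (∑ k, carF D F r.val k * a k) * corF D F r.val i)
        (-(t ^ 2) * y) (-(t ^ 2)⁻¹ * x) := by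
  rw [← Matrix.mulVec_mulVec, ← Matrix.mulVec_mulVec, xMat_mulVec_wvec D F r rb h.hne h.hrb,
    xMat_rb_mulVec_wvec D F r rb h, xMat_mulVec_wvec D F r rb h.hne h.hrb]
  have h2 := sum_car_cor D F r rb h
  have hs1 : ∑ i, carF D F r.val i * (a i + t * y * corF D F r.val i)
      = (∑ i, carF D F r.val i * a i) + 2 * t * y := by
    simp_rw [mul_add]
    rw [Finset.sum_add_distrib]
    congr 1
    have : ∀ i, carF D F r.val i * (t * y * corF D F r.val i) = t * y * (carF D F r.val i * corF D F r.val i) :=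
      fun i => by ring
    rw [Finset.sum_congr rfl (fun i _ => this i), ← Finset.mul_sum, h2]; ring
  set S := ∑ i, carF D F r.val i * a i with hS
  have hs2 : ∀ z : F, ∑ i, carF D F r.val i * (a i + t * y * corF D F r.val i - z * corF D F r.val i)
      = S + 2 * t * y - 2 * z := by
    intro z
    have : ∀ i, carF D F r.val i * (a i + t * y * corF D F r.val i - z * corF D F r.val i)
        = carF D F r.val i * (a i + t * y * corF D F r.val i) - z * (carF D F r.val i * corF D F r.val i) :=
      fun i => by ring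
    rw [Finset.sum_congr rfl (fun i _ => this i), Finset.sum_sub_distrib, hs1, ← Finset.mul_sum, h2]; ring
  simp only [hs1]
  rw [hs2]
  congr 1
  · funext i
    field_simp
    ring
  · field_simp
    ring
  · field_simp
    ring

end rank1

end Cfsg.Agent.Lib.Helper7
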