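import Cfsg.Agent.Lib.Helper7.ChevString

/-! A decidable check, on the tables of a Chevalley datum, that `n_r(t)` acts monomially on `e_s`
(`s ≠ ±r`), and the bridge to the matrix statement (helper7). -/

set_option autoImplicit false

namespace Cfsg.Agent.Lib.Helper7

open Cfsg Cfsg.Lie Matrix

/-- the `r`-string through `s` as a list of root indices, from bottom to top -/
def strList (D : ChevalleyDatum) (r rb s : ℕ) : List ℕ :=
  ((ccAll D rb s).map (fun x => x.1)).reverse ++ s :: (ccAll D r s).map (fun x => x.1)

/-- list version of `coefZ` -/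
def czL (D : ChevalleyDatum) (L : List ℕ) (r : ℕ) (k a : ℕ) : ℤ :=
  (if k = a then 1 else 0) +
    (((ccAll D r (L.getD a 0)).filter (fun x => x.1 = L.getD k 0)).map (fun x => x.2.2)).sum

/-- list version of `Cmat` -/
def cL (D : ChevalleyDatum) (L : List ℕ) (r rb : ℕ) (k j : ℕ) : ℤ :=
  ((List.range L.length).map fun b =>
    ((List.range L.length).map fun a => czL D L r k a * (czL D L rb a b * (-1) ^ (a + b))).sum *
      czL D L r b j).sum

theorem sum_range_eq_list' {M : Type*} [AddCommMonoid M] (f : ℕ → M) (n : ℕ) :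
    ∑ i ∈ Finset.range n, f i = ((List.range n).map f).sum := by
  induction n with
  | zero => simp
  | succ n ih => rw [Finset.sum_range_succ, List.range_succ, List.map_append, List.sum_append, ih]; simp

theorem Cmat_eq_cL (D : ChevalleyDatum) (L : List ℕ) (hall : ∀ x ∈ L, x < D.nroots) (r rb : ℕ)
    (k j : Fin L.length) :
    Cmat D (fun k : Fin L.length => (⟨L.get k, hall _ (L.get_mem k)⟩ : Fin D.nroots)) r rb k j
      = cL D L r rb k.val j.val := by
  have hget : ∀ a : Fin L.length, L.getD a.val 0 = L.get a := by
    intro a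
    rw [List.getD_eq_getElem _ _ a.isLt]; rfl
  have hcz : ∀ (r' : ℕ) (k a : Fin L.length),
      coefZ D (fun k : Fin L.length => (⟨L.get k, hall _ (L.get_mem k)⟩ : Fin D.nroots)) r' k a
        = czL D L r' k.val a.val := by
    intro r' k a
    unfold coefZ czL
    simp only [Matrix.of_apply, hget]
    congr 1
    by_cases h : k = a
    · simp [h]
    · have : ¬ k.val = a.val := fun hh => h (Fin.ext hh)
      simp [h, this]
  have inner : ∀ b : Fin L.length,
      (coefZ D (fun k : Fin L.length => (⟨L.get k, hall _ (L.get_mem k)⟩ : Fin D.nroots)) r *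
        coefTw D (fun k : Fin L.length => (⟨L.get k, hall _ (L.get_mem k)⟩ : Fin D.nroots)) rb) k b
        = ((List.range L.length).map fun a => czL D L r k.val a * (czL D L rb a b.val * (-1) ^ (a + b.val))).sum := by
    intro b
    rw [Matrix.mul_apply]
    have : ∀ a : Fin L.length,
        coefZ D (fun k : Fin L.length => (⟨L.get k, hall _ (L.get_mem k)⟩ : Fin D.nroots)) r k a *
          coefTw D (fun k : Fin L.length => (⟨L.get k, hall _ (L.get_mem k)⟩ : Fin D.nroots)) rb a b
          = (fun a' : ℕ => czL D L r k.val a' * (czL D L rb a' b.val * (-1) ^ (a' + b.val))) a.val := by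
      intro a
      unfold coefTw
      simp only [Matrix.of_apply, hcz]
    rw [Finset.sum_congr rfl (fun a _ => this a),
      Fin.sum_univ_eq_sum_range (fun a' : ℕ => czL D L r k.val a' * (czL D L rb a' b.val * (-1) ^ (a' + b.val))),
      sum_range_eq_list']
  unfold Cmat cL
  rw [Matrix.mul_apply]
  have outer : ∀ b : Fin L.length,
      (coefZ D (fun k : Fin L.length => (⟨L.get k, hall _ (L.get_mem k)⟩ : Fin D.nroots)) r *
        coefTw D (fun k : Fin L.length => (⟨L.get k, hall _ (L.get_mem k)⟩ : Fin D.nroots)) rb) k b *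
        coefZ D (fun k : Fin L.length => (⟨L.get k, hall _ (L.get_mem k)⟩ : Fin D.nroots)) r b j
        = (fun b' : ℕ => ((List.range L.length).map fun a => czL D L r k.val a *
            (czL D L rb a b' * (-1) ^ (a + b'))).sum * czL D L r b' j.val) b.val := by
    intro b
    rw [inner b, hcz]
  rw [Finset.sum_congr rfl (fun b _ => outer b),
    Fin.sum_univ_eq_sum_range (fun b' : ℕ => ((List.range L.length).map fun a => czL D L r k.val a *
            (czL D L rb a b' * (-1) ^ (a + b'))).sum * czL D L r b' j.val),
    sum_range_eq_list']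

def nodupB : List ℕ → Bool
  | [] => true
  | a :: l => !(l.contains a) && nodupB l

theorem nodup_of_nodupB : ∀ l : List ℕ, nodupB l = true → l.Nodup
  | [], _ => List.nodup_nil
  | a :: l, h => by
    simp only [nodupB, Bool.and_eq_true, Bool.not_eq_true', List.contains_eq_mem, decide_eq_false_iff_not] at h
    exact List.nodup_cons.mpr ⟨h.1, nodup_of_nodupB l h.2⟩

/-- position of the image of `s` under the reflection in `r` inside its string -/
def strJ (D : ChevalleyDatum) (rb s : ℕ) : ℕ := (ccAll D rb s).length
def strJw (D : ChevalleyDatum) (r s : ℕ) : ℕ := (ccAll D r s).length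

/-- the reflected root `w_r(s)` read off the string -/
def strW (D : ChevalleyDatum) (r rb s : ℕ) : ℕ := (strList D r rb s).getD (strJw D r s) 0

/-- the sign `η` with `n_r(t) e_s = η t^{..} e_{w_r(s)}` -/
def strEta (D : ChevalleyDatum) (r rb s : ℕ) : ℤ :=
  cL D (strList D r rb s) r rb (strJw D r s) (strJ D rb s)

/-- the decidable check that the string through `s` is well formed and `n_r` acts monomially on `e_s` -/
def strCheck (D : ChevalleyDatum) (r rb s : ℕ) : Bool :=
  nodupB (strList D r rb s) &&
  (strList D r rb s).all (fun x => decide (x < D.nroots) && x != r && x != rb) &&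
  (List.range (strList D r rb s).length).all (fun idx =>
    (ccAll D r ((strList D r rb s).getD idx 0)).all (fun x =>
      decide (idx + x.2.1 < (strList D r rb s).length) && (strList D r rb s).getD (idx + x.2.1) 0 == x.1) &&
    (ccAll D rb ((strList D r rb s).getD idx 0)).all (fun x =>
      decide (x.2.1 ≤ idx) && (strList D r rb s).getD (idx - x.2.1) 0 == x.1)) &&
  (List.range (strList D r rb s).length).all (fun k =>
    cL D (strList D r rb s) r rb k (strJ D rb s) ==
      if k = strJw D r s then strEta D r rb s else 0)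

theorem strCheck_col (D : ChevalleyDatum) (F : Type*) [Field F] (r rb : Fin D.nroots) (hR : RankOne D r rb)
    (s : Fin D.nroots) (hs : strCheck D r.val rb.val s.val = true) (t : F) (ht : t ≠ 0) :
    ∃ hw : strW D r.val rb.val s.val < D.nroots, ∀ row : D.Idx,
      (D.xMat F r t * D.xMat F rb (-t⁻¹) * D.xMat F r t) row (Sum.inr s) =
        if row = Sum.inr ⟨strW D r.val rb.val s.val, hw⟩ then
          ((strEta D r.val rb.val s.val : ℤ) : F) *
            t ^ ((strJw D r.val s.val : ℤ) - (strJ D rb.val s.val : ℤ)) else 0 := by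
  unfold strCheck at hs
  simp only [Bool.and_eq_true, List.all_eq_true, decide_eq_true_eq, bne_iff_ne, beq_iff_eq,
    List.mem_range] at hs
  obtain ⟨⟨⟨hnd, hall⟩, hchains⟩, hC⟩ := hs
  have hnd' := nodup_of_nodupB _ hnd
  set L := strList D r.val rb.val s.val with hL
  have hlt : ∀ x ∈ L, x < D.nroots := fun x hx => (hall x hx).1.1
  -- the string as a function
  let σ : Fin L.length → Fin D.nroots := fun k => ⟨L.get k, hlt _ (L.get_mem k)⟩
  have hget : ∀ a : Fin L.length, L.getD a.val 0 = L.get a := by
    intro a
    rw [List.getD_eq_getElem _ _ a.isLt]; rfl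
  have hstr : IsString D σ r rb := by
    refine ⟨?_, ?_, ?_, hR.hrb, hR.hr, ?_, ?_⟩
    · intro a b hab
      have : L.get a = L.get b := congrArg Fin.val hab
      exact (List.nodup_iff_injective_get.mp hnd') this
    · intro j hj
      exact (hall _ (L.get_mem j)).1.2 (congrArg Fin.val hj)
    · intro j hj
      exact (hall _ (L.get_mem j)).2 (congrArg Fin.val hj)
    · intro j x hx
      obtain ⟨h1a, h1b⟩ := (hchains j.val j.isLt).1 x (by rw [hget]; exact hx)
      refine ⟨⟨j.val + x.2.1, h1a⟩, ?_, ?_⟩
      · show x.1 = L.get ⟨j.val + x.2.1, h1a⟩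
        rw [← h1b, List.getD_eq_getElem _ _ h1a]; rfl
      · push_cast; ring
    · intro j x hx
      obtain ⟨h1a, h1b⟩ := (hchains j.val j.isLt).2 x (by rw [hget]; exact hx)
      have hlt' : j.val - x.2.1 < L.length := lt_of_le_of_lt (Nat.sub_le _ _) j.isLt
      refine ⟨⟨j.val - x.2.1, hlt'⟩, ?_, ?_⟩
      · show x.1 = L.get ⟨j.val - x.2.1, hlt'⟩
        rw [← h1b, List.getD_eq_getElem _ _ hlt']; rfl
      · show ((j.val - x.2.1 : ℕ) : ℤ) = _
        rw [Nat.cast_sub h1a]; ring
  -- positions
  have hlen : L.length = strJ D rb.val s.val + 1 + strJw D r.val s.val := by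
    rw [hL]; unfold strList strJ strJw
    simp only [List.length_append, List.length_reverse, List.length_map, List.length_cons]
    ring
  have hj0 : strJ D rb.val s.val < L.length := by omega
  have hjw : strJw D r.val s.val < L.length := by omega
  have hσj0 : σ ⟨strJ D rb.val s.val, hj0⟩ = s := by
    apply Fin.ext
    show L.get ⟨strJ D rb.val s.val, hj0⟩ = s.val
    show L[strJ D rb.val s.val] = s.val
    simp only [hL]
    unfold strList strJ
    rw [List.getElem_append_right (by simp)]
    simp
  have hw : strW D r.val rb.val s.val < D.nroots := by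
    unfold strW
    rw [← hL, List.getD_eq_getElem _ _ hjw]
    exact hlt _ (List.getElem_mem _)
  refine ⟨hw, ?_⟩
  intro row
  have hσw : σ ⟨strJw D r.val s.val, hjw⟩ = ⟨strW D r.val rb.val s.val, hw⟩ := by
    apply Fin.ext
    show L.get ⟨strJw D r.val s.val, hjw⟩ = strW D r.val rb.val s.val
    unfold strW
    rw [← hL, List.getD_eq_getElem _ _ hjw]; rfl
  have hcol := nTriple_col D F σ r rb hstr t ht row ⟨strJ D rb.val s.val, hj0⟩
  rw [hσj0] at hcol
  rw [hcol, Finset.sum_eq_single (⟨strJw D r.val s.val, hjw⟩ : Fin L.length)]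
  · rw [hσw, Cmat_eq_cL D L hlt]
    have := hC (strJw D r.val s.val) hjw
    rw [if_pos rfl] at this
    rw [this]
  · intro k _ hk
    rw [Cmat_eq_cL D L hlt]
    have := hC k.val k.isLt
    have hne : ¬ k.val = strJw D r.val s.val := fun hh => hk (Fin.ext hh)
    rw [if_neg hne] at this
    rw [this]
    simp
  · intro hh; exact absurd (Finset.mem_univ _) hh

end Cfsg.Agent.Lib.Helper7
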