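import Cfsg.Agent.Lib.Helper7.ChevTwist0

/-! Twisted groups: counting the `σ`-fixed elements of `U` (helper7). -/

set_option autoImplicit false

namespace Cfsg.Agent.Lib.Helper7

open Cfsg Cfsg.Lie Matrix

/-- the shape of a class of positive roots: a fixed root, a swapped pair or a 3-cycle -/
def ClassShape (ρ' : ℕ → ℕ) (ε : ℕ → ℤ) (m : ℕ) (S : List ℕ) : Prop :=
  (∃ r, S = [r] ∧ ρ' r = r ∧ ε r = 1) ∨
  (m = 2 ∧ ∃ r s, S = [r, s] ∧ r ≠ s ∧ ρ' r = s ∧ ρ' s = r ∧ ε r * ε s = 1) ∨
  (m = 3 ∧ ∃ r s v, S = [r, s, v] ∧ r ≠ s ∧ r ≠ v ∧ s ≠ v ∧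
    ((ρ' r = v ∧ ρ' s = r ∧ ρ' v = s) ∨ (ρ' r = s ∧ ρ' s = v ∧ ρ' v = r)) ∧ ε r * ε s * ε v = 1)

theorem ClassShape.stable {ρ' : ℕ → ℕ} {ε : ℕ → ℤ} {m : ℕ} {S : List ℕ} (h : ClassShape ρ' ε m S) :
    ∀ r ∈ S, ρ' r ∈ S := by
  rcases h with ⟨r, rfl, h1, -⟩ | ⟨-, r, s, rfl, -, h1, h2, -⟩ | ⟨-, r, s, v, rfl, -, -, -, h, -⟩
  · intro x hx
    rw [List.mem_singleton] at hx
    rw [hx, h1]; simp
  · intro x hx
    simp only [List.mem_cons, List.not_mem_nil, or_false] at hx
    rcases hx with rfl | rfl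
    · rw [h1]; simp
    · rw [h2]; simp
  · intro x hx
    simp only [List.mem_cons, List.not_mem_nil, or_false] at hx
    rcases h with ⟨h1, h2, h3⟩ | ⟨h1, h2, h3⟩
    · rcases hx with rfl | rfl | rfl
      · rw [h1]; simp
      · rw [h2]; simp
      · rw [h3]; simp
    · rcases hx with rfl | rfl | rfl
      · rw [h1]; simp
      · rw [h2]; simp
      · rw [h3]; simp

section
variable (ρ' : ℕ → ℕ) (ε : ℕ → ℤ) (K : Type*) [Field K] (φ : K ≃+* K)

/-- the twisting constraints on the parameters, for a list of classes -/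
def TwOk (l : List (List ℕ)) (t : ℕ → K) : Prop :=
  (∀ r, r ∉ l.flatten → t r = 0) ∧ ∀ r ∈ l.flatten, t r = twistFn ρ' ε K φ t r

theorem twOk_congr (l l' : List (List ℕ)) (h : ∀ r, r ∈ l.flatten ↔ r ∈ l'.flatten) (t : ℕ → K) :
    TwOk ρ' ε K φ l t ↔ TwOk ρ' ε K φ l' t := by
  unfold TwOk
  constructor
  · rintro ⟨h1, h2⟩
    exact ⟨fun r hr => h1 r (fun hc => hr ((h r).mp hc)), fun r hr => h2 r ((h r).mpr hr)⟩
  · rintro ⟨h1, h2⟩
    exact ⟨fun r hr => h1 r (fun hc => hr ((h r).mpr hc)), fun r hr => h2 r ((h r).mp hr)⟩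

theorem card_twOk_nil : Nat.card {t : ℕ → K // TwOk ρ' ε K φ [] t} = 1 := by
  have : Unique {t : ℕ → K // TwOk ρ' ε K φ [] t} := by
    refine ⟨⟨⟨fun _ => 0, fun _ _ => rfl, fun r hr => by simp at hr⟩⟩, ?_⟩
    rintro ⟨t, ht, -⟩
    apply Subtype.ext
    funext r
    exact ht r (by simp)
  exact Nat.card_unique

theorem intCast_mul_map (e : ℤ) (x : K) : φ (((e : ℤ) : K) * x) = ((e : ℤ) : K) * φ x := by
  rw [map_mul, map_intCast]

/-- the fixed class -/
theorem card_twOk_one (r : ℕ) (h1 : ρ' r = r) (h2 : ε r = 1) :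
    Nat.card {t : ℕ → K // TwOk ρ' ε K φ [[r]] t} = Nat.card {a : K // φ a = a} := by
  apply Nat.card_congr
  refine ⟨fun t => ⟨t.1 r, ?_⟩, fun a => ⟨fun y => if y = r then a.1 else 0, ?_, ?_⟩, ?_, ?_⟩
  · have := t.2.2 r (by simp)
    unfold twistFn at this
    rw [h1, h2] at this
    simpa using this.symm
  · intro y hy
    have : y ≠ r := by simpa using hy
    beta_reduce
    rw [if_neg this]
  · intro y hy
    have : y = r := by simpa using hy
    unfold twistFn
    beta_reduce
    rw [this, h1, h2, if_pos rfl, a.2]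
    simp
  · rintro ⟨t, ht1, ht2⟩
    apply Subtype.ext
    funext y
    show (if y = r then t r else 0) = t y
    by_cases hy : y = r
    · rw [if_pos hy, hy]
    · rw [if_neg hy]; exact (ht1 y (by simpa using hy)).symm
  · rintro ⟨a, ha⟩
    apply Subtype.ext
    show (if r = r then a else 0) = a
    rw [if_pos rfl]

/-- the swapped pair -/
theorem card_twOk_two (r s : ℕ) (hrs : r ≠ s) (h1 : ρ' r = s) (h2 : ρ' s = r) (h3 : ε r * ε s = 1)
    (hφ : ∀ a, φ (φ a) = a) :
    Nat.card {t : ℕ → K // TwOk ρ' ε K φ [[r, s]] t} = Nat.card K := by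
  have h3' : ((ε s : ℤ) : K) * ((ε r : ℤ) : K) = 1 := by
    rw [← Int.cast_mul, mul_comm, h3, Int.cast_one]
  apply Nat.card_congr
  refine ⟨fun t => t.1 r, fun a => ⟨fun y => if y = r then a else if y = s then ((ε r : ℤ) : K) * φ a else 0,
    ?_, ?_⟩, ?_, ?_⟩
  · intro y hy
    have : y ≠ r ∧ y ≠ s := by simpa using hy
    beta_reduce
    rw [if_neg this.1, if_neg this.2]
  · intro y hy
    have : y = r ∨ y = s := by simpa using hy
    unfold twistFn
    beta_reduce
    rcases this with rfl | rfl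
    · rw [h1, if_pos rfl, if_neg (Ne.symm hrs), if_pos rfl, intCast_mul_map, hφ, ← mul_assoc, h3', one_mul]
    · rw [h2, if_neg (Ne.symm hrs), if_pos rfl, if_pos rfl]
  · rintro ⟨t, ht1, ht2⟩
    apply Subtype.ext
    funext y
    show (if y = r then t r else if y = s then ((ε r : ℤ) : K) * φ (t r) else 0) = t y
    by_cases hy : y = r
    · rw [if_pos hy, hy]
    · rw [if_neg hy]
      by_cases hy' : y = s
      · rw [if_pos hy', hy']
        have := ht2 s (by simp)
        unfold twistFn at this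
        rw [h2] at this
        exact this.symm
      · rw [if_neg hy']; exact (ht1 y (by simpa using ⟨hy, hy'⟩)).symm
  · intro a
    show (if r = r then a else _) = a
    rw [if_pos rfl]

/-- the 3-cycle -/
theorem card_twOk_three (r s v : ℕ) (hrs : r ≠ s) (hrv : r ≠ v) (hsv : s ≠ v)
    (h1 : ρ' r = v) (h2 : ρ' s = r) (h3 : ρ' v = s) (h4 : ε r * ε s * ε v = 1)
    (hφ : ∀ a, φ (φ (φ a)) = a) :
    Nat.card {t : ℕ → K // TwOk ρ' ε K φ [[r, s, v]] t} = Nat.card K := by
  have h4' : ((ε v : ℤ) : K) * (((ε s : ℤ) : K) * ((ε r : ℤ) : K)) = 1 := by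
    rw [← Int.cast_mul, ← Int.cast_mul]
    have : ε v * (ε s * ε r) = ε r * ε s * ε v := by ring
    rw [this, h4, Int.cast_one]
  apply Nat.card_congr
  refine ⟨fun t => t.1 r, fun a => ⟨fun y => if y = r then a else if y = s then ((ε r : ℤ) : K) * φ a else
    if y = v then ((ε s : ℤ) : K) * (((ε r : ℤ) : K) * φ (φ a)) else 0, ?_, ?_⟩, ?_, ?_⟩
  · intro y hy
    have : y ≠ r ∧ y ≠ s ∧ y ≠ v := by simpa using hy
    beta_reduce
    rw [if_neg this.1, if_neg this.2.1, if_neg this.2.2]
  · intro y hy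
    have : y = r ∨ y = s ∨ y = v := by simpa using hy
    unfold twistFn
    beta_reduce
    rcases this with rfl | rfl | rfl
    · rw [h1, if_pos rfl, if_neg (Ne.symm hrv), if_neg (Ne.symm hsv), if_pos rfl, intCast_mul_map,
        intCast_mul_map, hφ, ← mul_assoc, ← mul_assoc, mul_assoc ((ε v : ℤ) : K), h4', one_mul]
    · rw [h2, if_neg (Ne.symm hrs), if_pos rfl, if_pos rfl]
    · rw [h3, if_neg (Ne.symm hrv), if_neg (Ne.symm hsv), if_pos rfl, if_neg (Ne.symm hrs), if_pos rfl,
        intCast_mul_map]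
  · rintro ⟨t, ht1, ht2⟩
    apply Subtype.ext
    funext y
    show (if y = r then t r else if y = s then ((ε r : ℤ) : K) * φ (t r) else
      if y = v then ((ε s : ℤ) : K) * (((ε r : ℤ) : K) * φ (φ (t r))) else 0) = t y
    have hs := ht2 s (by simp)
    have hv := ht2 v (by simp)
    unfold twistFn at hs hv
    rw [h2] at hs
    rw [h3] at hv
    by_cases hy : y = r
    · rw [if_pos hy, hy]
    · rw [if_neg hy]
      by_cases hy' : y = s
      · rw [if_pos hy', hy']
        exact hs.symm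
      · rw [if_neg hy']
        by_cases hy'' : y = v
        · rw [if_pos hy'', hy'', hv, hs, intCast_mul_map]
        · rw [if_neg hy'']; exact (ht1 y (by simpa using ⟨hy, hy', hy''⟩)).symm
  · intro a
    show (if r = r then a else _) = a
    rw [if_pos rfl]

/-- the number of parameter families of one class -/
theorem card_twOk_class (m q : ℕ) (hK : Nat.card K = q ^ m) (hfix : Nat.card {a : K // φ a = a} = q)
    (hφ : ∀ a, φ^[m] a = a) (S : List ℕ) (hS : ClassShape ρ' ε m S) :
    Nat.card {t : ℕ → K // TwOk ρ' ε K φ [S] t} = q ^ S.length := by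
  rcases hS with ⟨r, rfl, h1, h2⟩ | ⟨hm, r, s, rfl, hrs, h1, h2, h3⟩ |
    ⟨hm, r, s, v, rfl, hrs, hrv, hsv, h, h4⟩
  · rw [card_twOk_one ρ' ε K φ r h1 h2, hfix]; simp
  · have hφ2 : ∀ a, φ (φ a) = a := by
      intro a; have := hφ a; rw [hm] at this; exact this
    rw [card_twOk_two ρ' ε K φ r s hrs h1 h2 h3 hφ2, hK, hm]; rfl
  · have hφ3 : ∀ a, φ (φ (φ a)) = a := by
      intro a; have := hφ a; rw [hm] at this; exact this
    rcases h with ⟨h1, h2, h3⟩ | ⟨h1, h2, h3⟩
    · rw [card_twOk_three ρ' ε K φ r s v hrs hrv hsv h1 h2 h3 h4 hφ3, hK, hm]; rfl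
    · have hcongr : ∀ t : ℕ → K, TwOk ρ' ε K φ [[r, s, v]] t ↔ TwOk ρ' ε K φ [[r, v, s]] t := by
        intro t
        apply twOk_congr
        intro x
        simp only [List.flatten_cons, List.flatten_nil, List.append_nil, List.mem_cons, List.not_mem_nil,
          or_false]
        tauto
      rw [Nat.card_congr (Equiv.subtypeEquivRight hcongr)]
      have h4' : ε r * ε v * ε s = 1 := by rw [← h4]; ring
      rw [card_twOk_three ρ' ε K φ r v s hrv hrs (Ne.symm hsv) h1 h3 h2 h4' hφ3, hK, hm]; rfl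

/-- the number of parameter families -/
theorem card_twOk (m q : ℕ) (hK : Nat.card K = q ^ m) (hfix : Nat.card {a : K // φ a = a} = q)
    (hφ : ∀ a, φ^[m] a = a) : ∀ (l : List (List ℕ)), l.flatten.Nodup → (∀ S ∈ l, ClassShape ρ' ε m S) →
    Nat.card {t : ℕ → K // TwOk ρ' ε K φ l t} = q ^ l.flatten.length
  | [], _, _ => by rw [card_twOk_nil]; simp
  | S :: l, hnd, hsh => by
    have ih := card_twOk m q hK hfix hφ l (by
      rw [List.flatten_cons] at hnd
      exact (List.nodup_append.mp hnd).2.1) (fun S' hS' => hsh S' (List.mem_cons_of_mem _ hS'))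
    have hcl := card_twOk_class ρ' ε K φ m q hK hfix hφ S (hsh S List.mem_cons_self)
    have hstS : ∀ r ∈ S, ρ' r ∈ S := (hsh S List.mem_cons_self).stable
    have hstl : ∀ r ∈ l.flatten, ρ' r ∈ l.flatten := by
      intro r hr
      obtain ⟨S', hS', hrS'⟩ := List.mem_flatten.mp hr
      exact List.mem_flatten.mpr ⟨S', hS', (hsh S' (List.mem_cons_of_mem _ hS')).stable r hrS'⟩
    have hdisj : ∀ r ∈ S, r ∉ l.flatten := by
      intro r hr hr'
      rw [List.flatten_cons] at hnd
      exact (List.nodup_append.mp hnd).2.2 r hr r hr' rfl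
    have hflat : ∀ r, r ∈ (S :: l).flatten ↔ r ∈ S ∨ r ∈ l.flatten := by
      intro r; rw [List.flatten_cons, List.mem_append]
    have hflat1 : ∀ r, r ∈ [S].flatten ↔ r ∈ S := by
      intro r; simp
    have e : {t : ℕ → K // TwOk ρ' ε K φ (S :: l) t} ≃
        {a : ℕ → K // TwOk ρ' ε K φ [S] a} × {b : ℕ → K // TwOk ρ' ε K φ l b} := by
      refine ⟨fun t => (⟨fun r => if r ∈ S then t.1 r else 0, ?_, ?_⟩,
        ⟨fun r => if r ∈ S then 0 else t.1 r, ?_, ?_⟩),
        fun p => ⟨fun r => if r ∈ S then p.1.1 r else p.2.1 r, ?_, ?_⟩, ?_, ?_⟩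
      · intro r hr
        rw [hflat1] at hr
        beta_reduce
        rw [if_neg hr]
      · intro r hr
        rw [hflat1] at hr
        unfold twistFn
        beta_reduce
        rw [if_pos hr, if_pos (hstS r hr)]
        exact t.2.2 r ((hflat r).mpr (Or.inl hr))
      · intro r hr
        beta_reduce
        by_cases hrS : r ∈ S
        · rw [if_pos hrS]
        · rw [if_neg hrS]
          exact t.2.1 r (fun hc => by
            rcases (hflat r).mp hc with h | h
            · exact hrS h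
            · exact hr h)
      · intro r hr
        have hrS : r ∉ S := fun hc => hdisj r hc hr
        have hrS' : ρ' r ∉ S := fun hc => hdisj _ hc (hstl r hr)
        unfold twistFn
        beta_reduce
        rw [if_neg hrS, if_neg hrS']
        exact t.2.2 r ((hflat r).mpr (Or.inr hr))
      · intro r hr
        have hr' : r ∉ S ∧ r ∉ l.flatten := by
          constructor
          · intro hc; exact hr ((hflat r).mpr (Or.inl hc))
          · intro hc; exact hr ((hflat r).mpr (Or.inr hc))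
        beta_reduce
        rw [if_neg hr'.1]
        exact p.2.2.1 r hr'.2
      · intro r hr
        unfold twistFn
        beta_reduce
        rcases (hflat r).mp hr with h | h
        · rw [if_pos h, if_pos (hstS r h)]
          exact p.1.2.2 r ((hflat1 r).mpr h)
        · have hrS : r ∉ S := fun hc => hdisj r hc h
          have hrS' : ρ' r ∉ S := fun hc => hdisj _ hc (hstl r h)
          rw [if_neg hrS, if_neg hrS']
          exact p.2.2.2 r h
      · rintro ⟨t, ht⟩
        apply Subtype.ext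
        funext r
        show (if r ∈ S then (if r ∈ S then t r else 0) else (if r ∈ S then 0 else t r)) = t r
        by_cases hrS : r ∈ S
        · rw [if_pos hrS, if_pos hrS]
        · rw [if_neg hrS, if_neg hrS]
      · rintro ⟨⟨a, ha1, ha2⟩, ⟨b, hb1, hb2⟩⟩
        apply Prod.ext
        · apply Subtype.ext
          funext r
          show (if r ∈ S then (if r ∈ S then a r else b r) else 0) = a r
          by_cases hrS : r ∈ S
          · rw [if_pos hrS, if_pos hrS]
          · rw [if_neg hrS]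
            exact (ha1 r (fun hc => hrS ((hflat1 r).mp hc))).symm
        · apply Subtype.ext
          funext r
          show (if r ∈ S then 0 else (if r ∈ S then a r else b r)) = b r
          by_cases hrS : r ∈ S
          · rw [if_pos hrS]
            exact (hb1 r (hdisj r hrS)).symm
          · rw [if_neg hrS, if_neg hrS]
    rw [Nat.card_congr e, Nat.card_prod, hcl, ih, List.flatten_cons, List.length_append, pow_add]

end

end Cfsg.Agent.Lib.Helper7
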