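import Cfsg.Agent.Lib.Helper7.ChevTwist2

/-! Twisted groups: `U ∩ G¹ = U_σ` and `|U ∩ G¹| = q^N` (helper7). -/

set_option autoImplicit false

namespace Cfsg.Agent.Lib.Helper7

open Cfsg Cfsg.Lie Matrix

/-- table check of the certificate: every class is mapped into a simple class by a word in the `w_J` -/
def certOKB (D : ChevalleyDatum) (simpIdx simpCls cls : List (List ℕ)) (cert : List (List ℕ × ℕ)) : Bool :=
  (List.range cls.length).all fun k =>
    (cert.getD k ([], 0)).1.all (fun J => decide (J < simpIdx.length)) &&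
    decide ((cert.getD k ([], 0)).2 < simpCls.length) &&
    (certImg D simpIdx (cert.getD k ([], 0)).1 (cls.getD k [])).all fun r =>
      (simpCls.getD (cert.getD k ([], 0)).2 []).contains r

theorem certOKB_spec (D : ChevalleyDatum) (simpIdx simpCls cls : List (List ℕ)) (cert : List (List ℕ × ℕ))
    (h : certOKB D simpIdx simpCls cls cert = true) (S : List ℕ) (hS : S ∈ cls) :
    ∃ L : List ℕ, (∀ J ∈ L, J < simpIdx.length) ∧ ∃ J₀ ∈ simpCls, ∀ r ∈ certImg D simpIdx L S, r ∈ J₀ := by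
  unfold certOKB at h
  rw [List.all_eq_true] at h
  obtain ⟨k, hk, rfl⟩ := List.getElem_of_mem hS
  have := h k (List.mem_range.mpr hk)
  simp only [Bool.and_eq_true, List.all_eq_true, decide_eq_true_eq, List.contains_iff_mem] at this
  obtain ⟨⟨h1, h2⟩, h3⟩ := this
  refine ⟨_, h1, (simpCls.getD (cert.getD k ([], 0)).2 []), ?_, ?_⟩
  · rw [List.getD_eq_getElem _ _ h2]
    exact List.getElem_mem h2
  · intro r hr
    apply h3
    rw [List.getD_eq_getElem _ _ hk]
    exact hr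

section
variable (D : ChevalleyDatum) (hD : D ∈ [chevG2, chevB2, chevD4, chevF4, chevE6, chevE7, chevE8])
variable (pv pv' ρ ρ' : ℕ → ℕ) (ε : ℕ → ℤ) (hG : GraphFacts D pv pv' ρ ρ' ε)
variable (K : Type*) [Field K] (φ : K ≃+* K)
variable (A : ℕ → ℤ) (hA : ChainAdd D A) (hO : PosFacts D A) (cls : List (List ℕ))
variable (hT : TwistFacts D ρ ρ' A cls)

/-- what is needed of the twisted group `G¹` -/
structure TwistGroupFacts (G1 : Subgroup (GL D.Idx K)) (simpIdx simpCls : List (List ℕ)) : Prop where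
  le_fix : G1 ≤ fixSigma D pv pv' ρ ρ' ε hG K φ
  simple_cls : ∀ J ∈ simpCls, J ∈ cls
  simple_mem : ∀ J ∈ simpCls, ∀ t : ℕ → K, (∀ r ∈ J, t r = twistFn ρ' ε K φ t r) →
    ordProd D hD K J t ∈ G1
  n_lt : ∀ Jidx ∈ simpIdx, ∀ i ∈ Jidx, i < D.rank
  n_mem : ∀ Jidx ∈ simpIdx, nWordGL D hD K Jidx ∈ G1

include hD hA hO hT

omit pv pv' ε hG φ in
theorem flatten_nodup : cls.flatten.Nodup := by
  apply List.Pairwise.imp _ hT.good.sorted
  intro a b hab h
  rw [h] at hab
  exact lt_irrefl _ hab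

omit pv pv' ε hG φ in
theorem ordProd_sublist (l' l : List ℕ) (h : l'.Sublist l) (hnd : l.Nodup) (t : ℕ → K)
    (hz : ∀ r ∈ l, r ∉ l' → t r = 0) : ordProd D hD K l t = ordProd D hD K l' t := by
  induction h with
  | slnil => rfl
  | @cons l₁ l₂ r h ih =>
    have hnd' := List.nodup_cons.mp hnd
    have hr : r ∉ l₁ := fun hc => hnd'.1 (h.subset hc)
    rw [ordProd_cons, hz r List.mem_cons_self hr, xGL_zero, one_mul]
    exact ih hnd'.2 (fun s hs hs' => hz s (List.mem_cons_of_mem _ hs) hs')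
  | @cons_cons l₁ l₂ r h ih =>
    have hnd' := List.nodup_cons.mp hnd
    rw [ordProd_cons, ordProd_cons]
    congr 1
    apply ih hnd'.2
    intro s hs hs'
    apply hz s (List.mem_cons_of_mem _ hs)
    intro hc
    rcases List.mem_cons.mp hc with rfl | hc'
    · exact hnd'.1 hs
    · exact hs' hc'

omit pv pv' ε hG φ in
/-- uniqueness of ordered products over one class -/
theorem ordProd_class_inj (S : List ℕ) (hS : S ∈ cls) (t u : ℕ → K)
    (h : ordProd D hD K S t = ordProd D hD K S u) : ∀ r ∈ S, t r = u r := by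
  classical
  have hnd := flatten_nodup D hD ρ ρ' A hA hO cls hT
  have hsub := List.sublist_flatten_of_mem hS
  have e1 := ordProd_sublist D hD ρ ρ' K A hA hO cls hT S cls.flatten hsub hnd
    (fun r => if r ∈ S then t r else 0) (fun r _ hr => if_neg hr)
  have e2 := ordProd_sublist D hD ρ ρ' K A hA hO cls hT S cls.flatten hsub hnd
    (fun r => if r ∈ S then u r else 0) (fun r _ hr => if_neg hr)
  have c1 : ordProd D hD K S (fun r => if r ∈ S then t r else 0) = ordProd D hD K S t :=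
    ordProd_congr D hD K S _ _ (fun r hr => if_pos hr)
  have c2 : ordProd D hD K S (fun r => if r ∈ S then u r else 0) = ordProd D hD K S u :=
    ordProd_congr D hD K S _ _ (fun r hr => if_pos hr)
  have h' : ordProd D hD K cls.flatten (fun r => if r ∈ S then t r else 0) =
      ordProd D hD K cls.flatten (fun r => if r ∈ S then u r else 0) := by
    rw [e1, e2, c1, c2, h]
  intro r hr
  have := ordProd_injA D hD K A hA hO _ hT.good _ _ h' r (hsub.subset hr)
  simpa [hr] using this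

omit pv pv' ε hG φ in
theorem class_pos (S : List ℕ) (hS : S ∈ cls) : ∀ r ∈ S, D.IsPosRoot r :=
  fun r hr => hT.good.pos r (List.mem_flatten.mpr ⟨S, hS, hr⟩)

omit pv pv' ε hG φ in
theorem class_commute (S : List ℕ) (hS : S ∈ cls) :
    ∀ r ∈ S, ∀ s ∈ S, ∀ a b : K, Commute (xGL D hD K r a) (xGL D hD K s b) := by
  intro r hr s hs a b
  have hpr := class_pos D hD ρ ρ' A hA hO cls hT S hS r hr
  have hps := class_pos D hD ρ ρ' A hA hO cls hT S hS s hs
  by_cases hrs : r = s
  · rw [hrs]; exact commute_xGL_same D hD K s a b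
  · have hsn : s ≠ D.neg r := by
      intro h
      have hN := negOK_of_mem D hD r hpr.1
      have h1 := hA.negA r hpr.1 hN.1
      have h2 := hO.pos r hpr
      have h3 := hO.pos s hps
      rw [h] at h3
      omega
    exact xGL_comm_of_nil D hD K r s hpr.1 hps.1 (Ne.symm hrs) hsn (hT.comm S hS r hr s hs hrs) a b

variable (G1 : Subgroup (GL D.Idx K)) (simpIdx simpCls : List (List ℕ))
variable (hF : TwistGroupFacts D hD pv pv' ρ ρ' ε hG K φ cls G1 simpIdx simpCls)
include hF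

/-- `σ`-fixed elements of a product of root subgroups that a word in the `w_J` maps into a simple class
lie in `G¹` -/
theorem fixed_mem_of_cert : ∀ (L : List ℕ), (∀ J ∈ L, J < simpIdx.length) → ∀ (S' : List ℕ),
    (∀ r ∈ S', r < D.nroots) → ∀ J₀ ∈ simpCls, (∀ r ∈ certImg D simpIdx L S', r ∈ J₀) →
    ∀ g ∈ Subgroup.closure (gensL D K S') ⊓ fixSigma D pv pv' ρ ρ' ε hG K φ, g ∈ G1
  | [], _, S', _, J₀, hJ₀, himg, g, hg => by
    rw [Subgroup.mem_inf] at hg
    have hJcls := hF.simple_cls J₀ hJ₀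
    have hle : Subgroup.closure (gensL D K S') ≤ Subgroup.closure (gensL D K J₀) := by
      apply Subgroup.closure_mono
      rintro x ⟨r, hr, a, hx⟩
      exact ⟨r, himg r hr, a, hx⟩
    have hndJ : J₀.Nodup :=
      (List.nodup_flatten.mp (flatten_nodup D hD ρ ρ' A hA hO cls hT)).1 J₀ hJcls
    obtain ⟨t, ht⟩ := mem_closure_gensL_comm D hD K J₀ hndJ
      (class_commute D hD ρ ρ' K A hA hO cls hT J₀ hJcls) g (hle hg.1)
    have hfix := hg.2
    rw [mem_fixSigma, ht, sigmaGL_ordProd_class D hD pv pv' ρ ρ' ε hG K φ J₀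
      (class_pos D hD ρ ρ' A hA hO cls hT J₀ hJcls) (hT.perm J₀ hJcls) (hT.comm J₀ hJcls) ⟨A, hA, hO⟩] at hfix
    have hcon := ordProd_class_inj D hD ρ ρ' K A hA hO cls hT J₀ hJcls _ _ hfix
    rw [ht]
    exact hF.simple_mem J₀ hJ₀ t (fun r hr => (hcon r hr).symm)
  | J :: L, hL, S', hS', J₀, hJ₀, himg, g, hg => by
    rw [Subgroup.mem_inf] at hg
    have hJ : J < simpIdx.length := hL J List.mem_cons_self
    have hJmem : simpIdx.getD J [] ∈ simpIdx := by
      rw [List.getD_eq_getElem _ _ hJ]; exact List.getElem_mem hJ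
    have hnG := hF.n_mem _ hJmem
    have hact := actsAs_nWordGL D hD K _ (hF.n_lt _ hJmem)
    have hconj := conj_closure_gensL D hD K _ _ hact S' hS' g hg.1
    have hfixn := hF.le_fix hnG
    have hfixg' : nWordGL D hD K (simpIdx.getD J []) * g * (nWordGL D hD K (simpIdx.getD J []))⁻¹ ∈
        fixSigma D pv pv' ρ ρ' ε hG K φ :=
      Subgroup.mul_mem _ (Subgroup.mul_mem _ hfixn hg.2) (Subgroup.inv_mem _ hfixn)
    have ih := fixed_mem_of_cert L (fun J' hJ' => hL J' (List.mem_cons_of_mem _ hJ'))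
      (S'.map (reflWord D (simpIdx.getD J []))) (by
        intro r hr
        rw [List.mem_map] at hr
        obtain ⟨s, hs, rfl⟩ := hr
        exact (hact s (hS' s hs)).1) J₀ hJ₀ himg _ (Subgroup.mem_inf.mpr ⟨hconj, hfixg'⟩)
    have e : g = (nWordGL D hD K (simpIdx.getD J []))⁻¹ *
        (nWordGL D hD K (simpIdx.getD J []) * g * (nWordGL D hD K (simpIdx.getD J []))⁻¹) *
          nWordGL D hD K (simpIdx.getD J []) := by group
    rw [e]
    exact Subgroup.mul_mem _ (Subgroup.mul_mem _ (Subgroup.inv_mem _ hnG) ih) hnG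

/-- the `σ`-fixed elements of `U` lie in `G¹` -/
theorem posUnipotent_inf_fixSigma_le (cert : List (List ℕ × ℕ))
    (hcert : certOKB D simpIdx simpCls cls cert = true) :
    D.posUnipotent K ⊓ fixSigma D pv pv' ρ ρ' ε hG K φ ≤ G1 := by
  intro g hg
  rw [Subgroup.mem_inf] at hg
  obtain ⟨t, -, rfl⟩ := exists_ordProd_flatten D hD ρ ρ' K A hA hO cls hT g hg.1
  have hcon := (ordProd_mem_fixSigma_iff D hD pv pv' ρ ρ' ε hG K φ A hA hO cls hT t).mp hg.2
  rw [ordProd_flatten]
  apply Subgroup.list_prod_mem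
  intro x hx
  rw [List.mem_map] at hx
  obtain ⟨S, hS, rfl⟩ := hx
  obtain ⟨L, hL, J₀, hJ₀, himg⟩ := certOKB_spec D simpIdx simpCls cls cert hcert S hS
  have hpos := class_pos D hD ρ ρ' A hA hO cls hT S hS
  apply fixed_mem_of_cert D hD pv pv' ρ ρ' ε hG K φ A hA hO cls hT G1 simpIdx simpCls hF L hL S
    (fun r hr => (hpos r hr).1) J₀ hJ₀ himg
  rw [Subgroup.mem_inf]
  refine ⟨ordProd_mem D hD K S t, ?_⟩
  rw [mem_fixSigma, sigmaGL_ordProd_class D hD pv pv' ρ ρ' ε hG K φ S hpos (hT.perm S hS) (hT.comm S hS)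
    ⟨A, hA, hO⟩]
  apply ordProd_congr
  intro r hr
  exact (hcon r (List.mem_flatten.mpr ⟨S, hS, hr⟩)).symm

/-- `U ∩ G¹ = U_σ` -/
theorem posUnipotent_inf_twisted (cert : List (List ℕ × ℕ))
    (hcert : certOKB D simpIdx simpCls cls cert = true) :
    D.posUnipotent K ⊓ G1 = D.posUnipotent K ⊓ fixSigma D pv pv' ρ ρ' ε hG K φ := by
  apply le_antisymm
  · exact inf_le_inf_left _ hF.le_fix
  · exact le_inf inf_le_left
      (posUnipotent_inf_fixSigma_le D hD pv pv' ρ ρ' ε hG K φ A hA hO cls hT G1 simpIdx simpCls hF cert hcert)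

omit G1 simpIdx simpCls hF in
/-- `|U_σ| = q^N` -/
theorem card_posUnipotent_inf_fixSigma (m q : ℕ) (hK : Nat.card K = q ^ m)
    (hfix : Nat.card {a : K // φ a = a} = q) (hφ : ∀ a, φ^[m] a = a)
    (hsh : ∀ S ∈ cls, ClassShape ρ' ε m S) :
    Nat.card ↥(D.posUnipotent K ⊓ fixSigma D pv pv' ρ ρ' ε hG K φ) = q ^ cls.flatten.length := by
  have hnd := flatten_nodup D hD ρ ρ' A hA hO cls hT
  rw [← card_twOk ρ' ε K φ m q hK hfix hφ cls hnd hsh]
  symm
  apply Nat.card_congr
  refine Equiv.ofBijective (fun t => ⟨ordProd D hD K cls.flatten t.1, ?_⟩) ⟨?_, ?_⟩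
  · rw [Subgroup.mem_inf]
    exact ⟨ordProd_mem_posUnipotent D hD K _ hT.good.pos _,
      (ordProd_mem_fixSigma_iff D hD pv pv' ρ ρ' ε hG K φ A hA hO cls hT t.1).mpr t.2.2⟩
  · rintro ⟨t, ht1, ht2⟩ ⟨u, hu1, hu2⟩ h
    have h' : ordProd D hD K cls.flatten t = ordProd D hD K cls.flatten u := congrArg Subtype.val h
    apply Subtype.ext
    funext r
    by_cases hr : r ∈ cls.flatten
    · exact ordProd_injA D hD K A hA hO _ hT.good _ _ h' r hr
    · show t r = u r
      rw [ht1 r hr, hu1 r hr]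
  · rintro ⟨g, hg⟩
    rw [Subgroup.mem_inf] at hg
    obtain ⟨t, ht0, rfl⟩ := exists_ordProd_flatten D hD ρ ρ' K A hA hO cls hT g hg.1
    exact ⟨⟨t, ht0, (ordProd_mem_fixSigma_iff D hD pv pv' ρ ρ' ε hG K φ A hA hO cls hT t).mp hg.2⟩, rfl⟩

end

end Cfsg.Agent.Lib.Helper7
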