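import Cfsg.Agent.Lib.Helper7.ChevTwistRank3

/-! Twisted groups: the rank one computation for a simple class (helper7). -/

set_option autoImplicit false

namespace Cfsg.Agent.Lib.Helper7

open Cfsg Cfsg.Lie Matrix

theorem conj_list_prod {G : Type*} [Group G] (n : G) (L : List G) :
    n * L.prod * n⁻¹ = (L.map fun g => n * g * n⁻¹).prod := by
  induction L with
  | nil => simp
  | cons a L ih =>
    simp only [List.prod_cons, List.map_cons]
    rw [← ih]; group

section
variable (D : ChevalleyDatum) (hD : D ∈ [chevG2, chevB2, chevD4, chevF4, chevE6, chevE7, chevE8])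
variable (K : Type*) [Field K]
include hD

theorem ordProd_eq_prod (S : List ℕ) (t : ℕ → K) :
    ordProd D hD K S t = (S.map fun r => xGL D hD K r (t r)).prod := by
  unfold ordProd wordGL
  rw [List.map_map]
  rfl

/-- `x_{-r}(u) = x_r(u⁻¹) h_r(-u⁻¹) n_r x_r(u⁻¹)` -/
theorem xGL_neg_eq_prod (r : ℕ) (u : K) (hu : u ≠ 0) :
    xGL D hD K (D.neg r) u = xGL D hD K r u⁻¹ * wordGL D hD K (D.hWord r (-u⁻¹)) *
      wordGL D hD K (D.nWord r 1) * xGL D hD K r u⁻¹ := by
  have h1 := nGL_eq D hD K r (-u⁻¹)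
  have e1 : -(-u⁻¹)⁻¹ = u := by
    rw [inv_neg, inv_inv, neg_neg]
  rw [e1] at h1
  have h2 := nGL_eq_hGL_mul D hD K r (-u⁻¹)
  rw [h1] at h2
  have e2 : (xGL D hD K r (-u⁻¹))⁻¹ = xGL D hD K r u⁻¹ := by rw [xGL_inv, neg_neg]
  have h3 : xGL D hD K (D.neg r) u = (xGL D hD K r (-u⁻¹))⁻¹ *
      (wordGL D hD K (D.hWord r (-u⁻¹)) * wordGL D hD K (D.nWord r 1)) * (xGL D hD K r (-u⁻¹))⁻¹ := by
    rw [← h2]; group
  rw [h3, e2]; group

/-- the shuffle: a product of commuting rank one expressions -/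
theorem class_shuffle (Jidx : List ℕ) (hC : SimpClassFacts D Jidx) (u : ℕ → K)
    (hu : ∀ r ∈ Jidx.map D.simple, u r ≠ 0) :
    ((Jidx.map D.simple).map fun r => xGL D hD K (D.neg r) (u r)).prod =
      ordProd D hD K (Jidx.map D.simple) (fun r => (u r)⁻¹) *
        ((Jidx.map D.simple).map fun r => wordGL D hD K (D.hWord r (-(u r)⁻¹))).prod *
        nWordGL D hD K Jidx * ordProd D hD K (Jidx.map D.simple) (fun r => (u r)⁻¹) := by
  have hcomm : ∀ a ∈ Jidx.map D.simple, ∀ b ∈ Jidx.map D.simple, a ≠ b → ∀ x ∈ rk1 D K a, ∀ y ∈ rk1 D K b,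
      Commute x y := by
    intro a ha b hb hab x hx y hy
    rw [List.mem_map] at ha hb
    obtain ⟨i, hi, rfl⟩ := ha
    obtain ⟨j, hj, rfl⟩ := hb
    have hij : i ≠ j := by rintro rfl; exact hab rfl
    have h1 := hC.nc i hi j hj hij
    have h2 := hC.nc j hj i hi (Ne.symm hij)
    apply commute_of_mem_closure _ _ _ x hx y hy
    rintro a ⟨r', hr', ta, ham⟩ b ⟨s', hs', tb, hbm⟩
    have ha : a = xGL D hD K r' ta := Units.ext (by rw [ham, coe_xGL])
    have hb : b = xGL D hD K s' tb := Units.ext (by rw [hbm, coe_xGL])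
    rw [ha, hb]
    simp only [List.mem_cons, List.not_mem_nil, or_false] at hr' hs'
    rcases hr' with rfl | rfl <;> rcases hs' with rfl | rfl
    · exact h1.1.commute D hD K _ _
    · exact h1.2.1.commute D hD K _ _
    · exact (h2.2.1.commute D hD K _ _).symm
    · exact h1.2.2.commute D hD K _ _
  have e1 : ((Jidx.map D.simple).map fun r => xGL D hD K (D.neg r) (u r)) =
      (Jidx.map D.simple).map fun r => (xGL D hD K r (u r)⁻¹ * wordGL D hD K (D.hWord r (-(u r)⁻¹)) *
        wordGL D hD K (D.nWord r 1)) * xGL D hD K r (u r)⁻¹ := by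
    apply List.map_congr_left
    intro r hr
    exact xGL_neg_eq_prod D hD K r (u r) (hu r hr)
  rw [e1, prod_map_mul_of_commute _ _ _ hC.nodup, prod_map_mul_of_commute _ _ _ hC.nodup,
    prod_map_mul_of_commute _ _ _ hC.nodup]
  · rw [ordProd_eq_prod]
    have e2 : ((Jidx.map D.simple).map fun r => wordGL D hD K (D.nWord r 1)).prod = nWordGL D hD K Jidx := by
      unfold nWordGL
      rw [List.map_map]
      rfl
    rw [e2]
  · intro a ha b hb hab
    exact hcomm a ha b hb hab _ (hGL_mem_rk1 D K hD a _) _ (xGL_mem_rk1 D K hD b _)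
  · intro a ha b hb hab
    exact hcomm a ha b hb hab _ (nGL_mem_rk1 D K hD a _) _
      (Subgroup.mul_mem _ (xGL_mem_rk1 D K hD b _) (hGL_mem_rk1 D K hD b _))
  · intro a ha b hb hab
    exact hcomm a ha b hb hab _ (xGL_mem_rk1 D K hD a _) _
      (Subgroup.mul_mem _ (Subgroup.mul_mem _ (xGL_mem_rk1 D K hD b _) (hGL_mem_rk1 D K hD b _))
        (nGL_mem_rk1 D K hD b _))

/-- ordered products over a simple class lie in `U_{n_J}⁻` -/
theorem ordProd_simple_class_mem_uMinus (Jidx : List ℕ) (hC : SimpClassFacts D Jidx) (t : ℕ → K) :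
    ordProd D hD K (Jidx.map D.simple) t ∈ uMinus D K (nWordGL D hD K Jidx) := by
  rw [ordProd_eq_prod]
  apply Subgroup.list_prod_mem
  intro g hg
  rw [List.mem_map] at hg
  obtain ⟨r, hr, rfl⟩ := hg
  unfold uMinus
  apply Subgroup.subset_closure
  refine ⟨r, t r, simple_class_pos D hD Jidx hC r hr, ?_, coe_xGL D hD K _ _⟩
  rw [map_conj_le_iff D hD K]
  intro a
  apply conj_simple_class_mem_neg D hD K Jidx hC
  apply Subgroup.subset_closure
  exact ⟨r, hr, a, coe_xGL D hD K _ _⟩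

end

end Cfsg.Agent.Lib.Helper7
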