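import Cfsg.Agent.Lib.Helper7.ChevTwistBN0
import Cfsg.Agent.Lib.Helper7.TwBN

/-! Twisted groups: the hypotheses of the closure argument (helper7). -/

set_option autoImplicit false

namespace Cfsg.Agent.Lib.Helper7

open Cfsg Cfsg.Lie Matrix

section
variable (D : ChevalleyDatum) (hD : D ∈ [chevG2, chevB2, chevD4, chevF4, chevE6, chevE7, chevE8])
variable (pv pv' ρ ρ' : ℕ → ℕ) (ε : ℕ → ℤ) (hG : GraphFacts D pv pv' ρ ρ' ε)
variable (K : Type*) [Field K] (φ : K ≃+* K)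
variable (A : ℕ → ℤ) (hA : ChainAdd D A) (hO : PosFacts D A) (cls : List (List ℕ))
variable (hT : TwistFacts D ρ ρ' A cls)
variable (G1 : Subgroup (GL D.Idx K)) (simpIdx simpCls : List (List ℕ))
variable (hF : TwistGroupFacts D hD pv pv' ρ ρ' ε hG K φ cls G1 simpIdx simpCls)
include hD

omit A hA hO cls hT G1 simpIdx simpCls hF in
/-- `σ` preserves the group generated by the root subgroups of a `ρ`-stable list -/
theorem sigma_closure_gensL (L : List ℕ) (hL : ∀ r ∈ L, r < D.nroots) (hstab : ∀ r ∈ L, ρ r ∈ L)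
    (g : GL D.Idx K) (hg : g ∈ Subgroup.closure (gensL D K L)) :
    sigmaGL D pv pv' ρ ρ' ε hG K φ g ∈ Subgroup.closure (gensL D K L) := by
  induction hg using Subgroup.closure_induction with
  | mem x hx =>
    obtain ⟨r, hr, t, hxm⟩ := hx
    have hx' : x = xGL D hD K r t := Units.ext (by rw [hxm, coe_xGL])
    rw [hx', sigmaGL_xGL D hD pv pv' ρ ρ' ε hG K φ r (hL r hr)]
    apply Subgroup.subset_closure
    exact ⟨ρ r, hstab r hr, _, coe_xGL D hD K _ _⟩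
  | one => rw [map_one]; exact Subgroup.one_mem _
  | mul a b _ _ iha ihb => rw [map_mul]; exact Subgroup.mul_mem _ iha ihb
  | inv a _ iha => rw [map_inv]; exact Subgroup.inv_mem _ iha

include hA hO hT hF

/-- the `σ`-fixed elements of the root subgroups of a simple class lie in `G¹` -/
theorem class_fixed_le (S : List ℕ) (hS : S ∈ simpCls) (x : GL D.Idx K)
    (hx : x ∈ Subgroup.closure (gensL D K S) ⊓ fixSigma D pv pv' ρ ρ' ε hG K φ) : x ∈ G1 := by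
  obtain ⟨t, rfl, ht⟩ := class_fixed_param D hD pv pv' ρ ρ' ε hG K φ A hA hO cls hT S
    (hF.simple_cls S hS) x hx
  exact hF.simple_mem S hS t ht

variable (Jidx : List ℕ) (hC : SimpClassFacts D Jidx) (hJ : Jidx ∈ simpIdx)
  (hJS : Jidx.map D.simple ∈ simpCls)
include hC hJ hJS

/-- decomposition of `B ∩ G¹` along a simple class -/
theorem borel_decomp_class (b : GL D.Idx K) (hb : b ∈ D.borelSubgroup K ⊓ G1) :
    ∃ c ∈ D.borelSubgroup K ⊓ G1,
      ∃ x ∈ Subgroup.closure (gensL D K (Jidx.map D.simple)) ⊓ fixSigma D pv pv' ρ ρ' ε hG K φ,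
        b = c * x ∧ nWordGL D hD K Jidx * c * (nWordGL D hD K Jidx)⁻¹ ∈ D.borelSubgroup K ⊓ G1 := by
  rw [Subgroup.mem_inf] at hb
  obtain ⟨hbB, hbG⟩ := hb
  have hbB' : b ∈ ((D.borelSubgroup K : Subgroup (GL D.Idx K)) : Set (GL D.Idx K)) := hbB
  rw [borel_eq_mul D hD K] at hbB'
  obtain ⟨h, hh, u, hu, rfl⟩ := Set.mem_mul.mp hbB'
  obtain ⟨c, hc, x, hx, rfl⟩ := posUnipotent_decomp D hD K A hA hO Jidx hC u hu
  have hScls := hF.simple_cls _ hJS
  have hρpos := rho_pos_of_twistFacts D ρ ρ' A cls hT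
  have hSlt := simple_class_lt D hD Jidx hC
  obtain ⟨nJ, hnJ⟩ : ∃ n, n = nWordGL D hD K Jidx := ⟨_, rfl⟩
  have hnG : nJ ∈ G1 := by rw [hnJ]; exact hF.n_mem _ hJ
  have hnN : nJ ∈ D.monomialSubgroup K := by
    rw [hnJ]; exact nWordGL_mem_monomial D hD K _ hC.lt
  rw [← hnJ]
  have hbfix := hF.le_fix hbG
  rw [mem_fixSigma, map_mul, map_mul] at hbfix
  have hσh := sigma_diagonal D hD pv pv' ρ ρ' ε hG K φ h hh
  have hSstab : ∀ r ∈ Jidx.map D.simple, ρ r ∈ Jidx.map D.simple :=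
    fun r hr => (hT.perm _ hScls).subset (List.mem_map_of_mem hr)
  have hσx := sigma_closure_gensL D hD pv pv' ρ ρ' ε hG K φ _ hSlt hSstab x hx
  have hRstab : ∀ r ∈ restL D (Jidx.map D.simple), ρ r ∈ restL D (Jidx.map D.simple) := by
    intro r hr
    have hr' := (mem_restL D _ r).mp hr
    rw [mem_restL]
    refine ⟨hρpos r hr'.1, fun hmem => hr'.2 ?_⟩
    have := rhoInv_mem_of_perm D pv pv' ρ ρ' ε hG _ hSlt (hT.perm _ hScls) _ hmem
    rwa [hG.ρinv r hr'.1.1] at this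
  have hσc := sigma_closure_gensL D hD pv pv' ρ ρ' ε hG K φ _
    (fun r hr => ((mem_restL D _ r).mp hr).1.1) hRstab c hc
  obtain ⟨σh, hσhd⟩ : ∃ y, y = sigmaGL D pv pv' ρ ρ' ε hG K φ h := ⟨_, rfl⟩
  obtain ⟨σc, hσcd⟩ : ∃ y, y = sigmaGL D pv pv' ρ ρ' ε hG K φ c := ⟨_, rfl⟩
  obtain ⟨σx, hσxd⟩ : ∃ y, y = sigmaGL D pv pv' ρ ρ' ε hG K φ x := ⟨_, rfl⟩
  rw [← hσhd] at hσh hbfix
  rw [← hσcd] at hσc hbfix
  rw [← hσxd] at hσx hbfix
  have e : x * σx⁻¹ = (h * c)⁻¹ * (σh * σc) := by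
    have : σh * σc = h * (c * x) * σx⁻¹ := by rw [← hbfix]; group
    rw [this]; group
  have hdn := monomialSubgroup_le_normalizer_diagonal D hD K hnN
  have hconjH : ∀ k ∈ D.diagonalSubgroup K, nJ * k * nJ⁻¹ ∈ D.borelSubgroup K := by
    intro k hk
    exact diagonal_le_borel D hD K ((hdn k).mp hk)
  have hconjU : ∀ k ∈ Subgroup.closure (gensL D K (restL D (Jidx.map D.simple))),
      nJ * k * nJ⁻¹ ∈ D.borelSubgroup K := by
    intro k hk
    rw [hnJ]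
    exact posUnipotent_le_borel D hD K (conj_restL_mem_pos D hD K Jidx hC k hk)
  have h1 : nJ * (x * σx⁻¹) * nJ⁻¹ ∈ D.negUnipotent K := by
    rw [hnJ]
    exact conj_simple_class_mem_neg D hD K Jidx hC _ (Subgroup.mul_mem _ hx (Subgroup.inv_mem _ hσx))
  have h2 : nJ * ((h * c)⁻¹ * (σh * σc)) * nJ⁻¹ ∈ D.borelSubgroup K := by
    have e2 : nJ * ((h * c)⁻¹ * (σh * σc)) * nJ⁻¹ =
        (nJ * c * nJ⁻¹)⁻¹ * (nJ * h * nJ⁻¹)⁻¹ * (nJ * σh * nJ⁻¹) * (nJ * σc * nJ⁻¹) := by group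
    rw [e2]
    exact Subgroup.mul_mem _ (Subgroup.mul_mem _ (Subgroup.mul_mem _
      (Subgroup.inv_mem _ (hconjU c hc)) (Subgroup.inv_mem _ (hconjH h hh))) (hconjH σh hσh)) (hconjU σc hσc)
  have h3 : nJ * (x * σx⁻¹) * nJ⁻¹ = 1 := by
    have : nJ * (x * σx⁻¹) * nJ⁻¹ ∈ D.borelSubgroup K ⊓ D.negUnipotent K :=
      Subgroup.mem_inf.mpr ⟨by rw [e]; exact h2, h1⟩
    rwa [borel_inf_negUnipotent D hD K, Subgroup.mem_bot] at this
  have hxfix : σx = x := by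
    have : x * σx⁻¹ = 1 := by
      have e3 : x * σx⁻¹ = nJ⁻¹ * (nJ * (x * σx⁻¹) * nJ⁻¹) * nJ := by group
      rw [e3, h3]; group
    exact (mul_inv_eq_one.mp this).symm
  have hxX : x ∈ Subgroup.closure (gensL D K (Jidx.map D.simple)) ⊓ fixSigma D pv pv' ρ ρ' ε hG K φ := by
    rw [Subgroup.mem_inf, mem_fixSigma, ← hσxd]
    exact ⟨hx, hxfix⟩
  have hxG : x ∈ G1 :=
    class_fixed_le D hD pv pv' ρ ρ' ε hG K φ A hA hO cls hT G1 simpIdx simpCls hF _ hJS x hxX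
  have hcG : h * c ∈ G1 := by
    have : h * c = h * (c * x) * x⁻¹ := by group
    rw [this]
    exact Subgroup.mul_mem _ hbG (Subgroup.inv_mem _ hxG)
  have hcB : h * c ∈ D.borelSubgroup K := by
    apply Subgroup.mul_mem _ (diagonal_le_borel D hD K hh)
    apply posUnipotent_le_borel D hD K
    rw [posUnipotent_eq_sup_restL D hD K Jidx hC]
    exact Subgroup.mem_sup_left hc
  refine ⟨h * c, Subgroup.mem_inf.mpr ⟨hcB, hcG⟩, x, hxX, by group, ?_⟩
  rw [Subgroup.mem_inf]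
  constructor
  · have : nJ * (h * c) * nJ⁻¹ = (nJ * h * nJ⁻¹) * (nJ * c * nJ⁻¹) := by group
    rw [this]
    exact Subgroup.mul_mem _ (hconjH h hh) (hconjU c hc)
  · exact Subgroup.mul_mem _ (Subgroup.mul_mem _ hnG hcG) (Subgroup.inv_mem _ hnG)

end

end Cfsg.Agent.Lib.Helper7
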