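import Cfsg.Agent.Lib.Helper7.ChevTwistBN1

/-! Twisted groups: rank one property and the dichotomy for words (helper7). -/

set_option autoImplicit false

namespace Cfsg.Agent.Lib.Helper7

open Cfsg Cfsg.Lie Matrix

section
variable (D : ChevalleyDatum) (hD : D ∈ [chevG2, chevB2, chevD4, chevF4, chevE6, chevE7, chevE8])
variable (pv pv' ρ ρ' : ℕ → ℕ) (ε : ℕ → ℤ) (hG : GraphFacts D pv pv' ρ ρ' ε)
variable (K : Type*) [Field K] (φ : K ≃+* K)
variable (A : ℕ → ℤ) (hA : ChainAdd D A) (hO : PosFacts D A) (cls : List (List ℕ))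
variable (hT : TwistFacts D ρ ρ' A cls)
variable (G1 : Subgroup (GL D.Idx K)) (simpIdx simpCls : List (List ℕ))
variable (hF : TwistGroupFacts D hD pv pv' ρ ρ' ε hG K φ cls G1 simpIdx simpCls)
variable (m : ℕ) (hsh : ∀ S ∈ cls, ClassShape ρ' ε m S)
variable (Jidx : List ℕ) (hC : SimpClassFacts D Jidx) (hJ : Jidx ∈ simpIdx)
  (hJS : Jidx.map D.simple ∈ simpCls)
include hD hA hO hT hF hsh hC hJ hJS

/-- the rank one property: `n_J x n_J⁻¹ ∈ B¹ n_J X_J` for `1 ≠ x ∈ X_J` -/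
theorem rank_one_class (x : GL D.Idx K)
    (hx : x ∈ Subgroup.closure (gensL D K (Jidx.map D.simple)) ⊓ fixSigma D pv pv' ρ ρ' ε hG K φ)
    (hx1 : x ≠ 1) :
    ∃ b₁ ∈ D.borelSubgroup K ⊓ G1,
      ∃ x₂ ∈ Subgroup.closure (gensL D K (Jidx.map D.simple)) ⊓ fixSigma D pv pv' ρ ρ' ε hG K φ,
        nWordGL D hD K Jidx * x * (nWordGL D hD K Jidx)⁻¹ = b₁ * nWordGL D hD K Jidx * x₂ := by
  have hScls := hF.simple_cls _ hJS
  have hρpos := rho_pos_of_twistFacts D ρ ρ' A cls hT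
  have hSlt := simple_class_lt D hD Jidx hC
  have hxG : x ∈ G1 :=
    class_fixed_le D hD pv pv' ρ ρ' ε hG K φ A hA hO cls hT G1 simpIdx simpCls hF _ hJS x hx
  have hxfix : x ∈ fixSigma D pv pv' ρ ρ' ε hG K φ := (Subgroup.mem_inf.mp hx).2
  obtain ⟨t, hxt, ht⟩ := class_fixed_param D hD pv pv' ρ ρ' ε hG K φ A hA hO cls hT _ hScls x hx
  have ht0 := class_param_ne_zero D hD pv pv' ρ ρ' ε hG K φ A hA hO cls hT m _ hScls (hsh _ hScls) t ht
    (by rw [← hxt]; exact hx1)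
  have hact := actsAs_nWordGL D hD K Jidx hC.lt
  have hnG : nWordGL D hD K Jidx ∈ G1 := hF.n_mem _ hJ
  have hnN : nWordGL D hD K Jidx ∈ D.monomialSubgroup K := nWordGL_mem_monomial D hD K _ hC.lt
  have hnfix := hF.le_fix hnG
  obtain ⟨nJ, hnJ⟩ : ∃ n, n = nWordGL D hD K Jidx := ⟨_, rfl⟩
  rw [← hnJ] at hact hnG hnN hnfix ⊢
  have hc : ∀ r ∈ Jidx.map D.simple, ∃ c : K, c ≠ 0 ∧
      ∀ a : K, nJ * xGL D hD K r a * nJ⁻¹ = xGL D hD K (D.neg r) (c * a) := by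
    intro r hr
    obtain ⟨-, c, hc0, hcc⟩ := hact r (hSlt r hr)
    rw [List.mem_map] at hr
    obtain ⟨i, hi, rfl⟩ := hr
    rw [hC.neg i hi] at hcc
    exact ⟨c, hc0, hcc⟩
  choose! c hc0 hcc using hc
  -- the conjugate as a product of negative root elements
  have hy : nJ * x * nJ⁻¹ = ((Jidx.map D.simple).map fun r => xGL D hD K (D.neg r) (c r * t r)).prod := by
    rw [hxt, ordProd_eq_prod, conj_list_prod, List.map_map]
    congr 1
    apply List.map_congr_left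
    intro r hr
    exact hcc r hr (t r)
  have hu0 : ∀ r ∈ Jidx.map D.simple, c r * t r ≠ 0 := fun r hr => mul_ne_zero (hc0 r hr) (ht0 r hr)
  rw [class_shuffle D hD K Jidx hC (fun r => c r * t r) hu0, ← hnJ] at hy
  obtain ⟨X₁, hX₁⟩ : ∃ X, X = ordProd D hD K (Jidx.map D.simple) (fun r => (c r * t r)⁻¹) := ⟨_, rfl⟩
  obtain ⟨h, hh⟩ : ∃ h, h = ((Jidx.map D.simple).map fun r =>
      wordGL D hD K (D.hWord r (-(c r * t r)⁻¹))).prod := ⟨_, rfl⟩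
  rw [← hX₁, ← hh] at hy
  have hhH : h ∈ D.diagonalSubgroup K := by
    rw [hh]
    apply Subgroup.list_prod_mem
    intro g hg
    rw [List.mem_map] at hg
    obtain ⟨r, hr, rfl⟩ := hg
    exact hGL_mem_diagonalSubgroup D hD K r (hSlt r hr) _ (neg_ne_zero.mpr (inv_ne_zero (hu0 r hr)))
  have hX₁S : X₁ ∈ Subgroup.closure (gensL D K (Jidx.map D.simple)) := by
    rw [hX₁]; exact ordProd_mem D hD K _ _
  have hX₁U : X₁ ∈ D.posUnipotent K := by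
    rw [hX₁]; exact ordProd_mem_posUnipotent D hD K _ (simple_class_pos D hD Jidx hC) _
  have hX₁m : X₁ ∈ uMinus D K nJ := by
    rw [hX₁, hnJ]; exact ordProd_simple_class_mem_uMinus D hD K Jidx hC _
  have hbB : X₁ * h ∈ D.borelSubgroup K :=
    Subgroup.mul_mem _ (posUnipotent_le_borel D hD K hX₁U) (diagonal_le_borel D hD K hhH)
  have hyfix : X₁ * h * nJ * X₁ ∈ fixSigma D pv pv' ρ ρ' ε hG K φ := by
    rw [← hy]
    exact Subgroup.mul_mem _ (Subgroup.mul_mem _ hnfix hxfix) (Subgroup.inv_mem _ hnfix)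
  have hfc := fixed_canon D hD pv pv' ρ ρ' ε hG K φ hρpos (X₁ * h) nJ X₁ hbB hnN hX₁m hnfix hyfix
  have hX₁X : X₁ ∈ Subgroup.closure (gensL D K (Jidx.map D.simple)) ⊓ fixSigma D pv pv' ρ ρ' ε hG K φ :=
    Subgroup.mem_inf.mpr ⟨hX₁S, hfc.2⟩
  have hX₁G : X₁ ∈ G1 :=
    class_fixed_le D hD pv pv' ρ ρ' ε hG K φ A hA hO cls hT G1 simpIdx simpCls hF _ hJS X₁ hX₁X
  refine ⟨X₁ * h, Subgroup.mem_inf.mpr ⟨hbB, ?_⟩, X₁, hX₁X, hy⟩
  have : X₁ * h = (nJ * x * nJ⁻¹) * X₁⁻¹ * nJ⁻¹ := by rw [hy]; group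
  rw [this]
  exact Subgroup.mul_mem _ (Subgroup.mul_mem _ (Subgroup.mul_mem _ (Subgroup.mul_mem _ hnG hxG)
    (Subgroup.inv_mem _ hnG)) (Subgroup.inv_mem _ hX₁G)) (Subgroup.inv_mem _ hnG)

end

end Cfsg.Agent.Lib.Helper7
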