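import Cfsg.Agent.Lib.Helper7.ChevTwistBN3

/-! Twisted groups: the closure data and the cell decomposition of `G¹` (helper7). -/

set_option autoImplicit false

namespace Cfsg.Agent.Lib.Helper7

open Cfsg Cfsg.Lie Matrix

section
variable (D : ChevalleyDatum) (hD : D ∈ [chevG2, chevB2, chevD4, chevF4, chevE6, chevE7, chevE8])
variable (pv pv' ρ ρ' : ℕ → ℕ) (ε : ℕ → ℤ) (hG : GraphFacts D pv pv' ρ ρ' ε)
variable (K : Type*) [Field K] (φ : K ≃+* K)
variable (A : ℕ → ℤ) (hA : ChainAdd D A) (hO : PosFacts D A) (cls : List (List ℕ))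
variable (hT : TwistFacts D ρ ρ' A cls)
variable (G1 : Subgroup (GL D.Idx K)) (simpIdx simpCls : List (List ℕ))
variable (hF : TwistGroupFacts D hD pv pv' ρ ρ' ε hG K φ cls G1 simpIdx simpCls)
variable (m : ℕ) (hsh : ∀ S ∈ cls, ClassShape ρ' ε m S)
variable (hB : TwistBNFacts D simpIdx simpCls)
  (hinv : ∀ J ∈ simpIdx, ∀ s < D.nroots, reflWord D J (reflWord D J s) = s)

/-- the class representatives `n_J` -/
noncomputable def clsRep (J : Fin simpIdx.length) : GL D.Idx K := nWordGL D hD K (simpIdx.get J)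

/-- the `σ`-fixed part of the root subgroups of a simple class -/
def clsX (J : Fin simpIdx.length) : Subgroup (GL D.Idx K) :=
  Subgroup.closure (gensL D K ((simpIdx.get J).map D.simple)) ⊓ fixSigma D pv pv' ρ ρ' ε hG K φ

include hD

omit pv pv' ρ ρ' ε hG φ A hA hO cls hT G1 simpCls hF m hsh hB hinv in
theorem nW_clsRep (L : List (Fin simpIdx.length)) :
    TwBN.nW (clsRep D hD K simpIdx) L = nWordGL D hD K (L.flatMap fun J => simpIdx.get J) := by
  induction L with
  | nil => simp [TwBN.nW, nWordGL]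
  | cons J L ih =>
    rw [TwBN.nW_cons, ih, List.flatMap_cons, nWordGL_append]
    rfl

include hB in
omit pv pv' ρ ρ' ε hG φ A hA hO cls hT G1 hF m hsh hinv in
theorem flatMap_lt (L : List (Fin simpIdx.length)) :
    ∀ i ∈ L.flatMap (fun J => simpIdx.get J), i < D.rank := by
  intro i hi
  rw [List.mem_flatMap] at hi
  obtain ⟨J, -, hiJ⟩ := hi
  exact (hB.facts _ (List.get_mem simpIdx J)).lt i hiJ

include hF hB in
omit A hA hO hT m hsh hinv in
theorem nW_mem_G1 (L : List (Fin simpIdx.length)) : TwBN.nW (clsRep D hD K simpIdx) L ∈ G1 := by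
  induction L with
  | nil => rw [TwBN.nW_nil]; exact Subgroup.one_mem _
  | cons J L ih =>
    rw [TwBN.nW_cons]
    exact Subgroup.mul_mem _ (hF.n_mem _ (List.get_mem simpIdx J)) ih

include hA hO hT hF hsh hB hinv

/-- the hypotheses of the closure argument hold for `B¹ = B ∩ G¹` -/
theorem twisted_closureData :
    TwBN.ClosureData (D.borelSubgroup K ⊓ G1) (clsRep D hD K simpIdx)
      (clsX D pv pv' ρ ρ' ε hG K φ simpIdx) := by
  have hρpos := rho_pos_of_twistFacts D ρ ρ' A cls hT
  have hJmem : ∀ J : Fin simpIdx.length, simpIdx.get J ∈ simpIdx := fun J => List.get_mem simpIdx J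
  have hJS : ∀ J : Fin simpIdx.length, (simpIdx.get J).map D.simple ∈ simpCls := by
    intro J
    rw [hB.cls_eq]
    exact List.mem_map_of_mem (hJmem J)
  refine ⟨?_, ?_, ?_, ?_⟩
  · intro J
    have hC := hB.facts _ (hJmem J)
    have hnG : clsRep D hD K simpIdx J ∈ G1 := hF.n_mem _ (hJmem J)
    have hnN : clsRep D hD K simpIdx J ∈ D.monomialSubgroup K := nWordGL_mem_monomial D hD K _ hC.lt
    have hact := actsAs_nWordGL D hD K _ hC.lt
    have h2 := ActsAs.mul D K hact hact
    have hH := mem_diagonal_of_actsAs_id D hD K _ (Subgroup.mul_mem _ hnN hnN) _ h2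
      (fun s hs => hinv _ (hJmem J) s hs)
    exact Subgroup.mem_inf.mpr ⟨diagonal_le_borel D hD K hH, Subgroup.mul_mem _ hnG hnG⟩
  · intro J b hb
    exact borel_decomp_class D hD pv pv' ρ ρ' ε hG K φ A hA hO cls hT G1 simpIdx simpCls hF _
      (hB.facts _ (hJmem J)) (hJmem J) (hJS J) b hb
  · intro J x hx hx1
    exact rank_one_class D hD pv pv' ρ ρ' ε hG K φ A hA hO cls hT G1 simpIdx simpCls hF m hsh _
      (hB.facts _ (hJmem J)) (hJmem J) (hJS J) x hx hx1
  · intro J L
    have hC := hB.facts _ (hJmem J)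
    have hScls := hF.simple_cls _ (hJS J)
    have hSlt := simple_class_lt D hD _ hC
    obtain ⟨M, hM⟩ : ∃ M, M = L.flatMap (fun J => simpIdx.get J) := ⟨_, rfl⟩
    have hMlt : ∀ i ∈ M, i < D.rank := by rw [hM]; exact flatMap_lt D hD simpIdx simpCls hB L
    have hnL : TwBN.nW (clsRep D hD K simpIdx) L = nWordGL D hD K M := by rw [hM]; exact nW_clsRep D hD K simpIdx L
    have hnLG : TwBN.nW (clsRep D hD K simpIdx) L ∈ G1 :=
      nW_mem_G1 D hD pv pv' ρ ρ' ε hG K φ cls G1 simpIdx simpCls hF hB L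
    have hnJG : clsRep D hD K simpIdx J ∈ G1 := hF.n_mem _ (hJmem J)
    have hact := actsAs_nWordGL_inv D hD K M hMlt
    rw [← hnL] at hact
    have hfix : (TwBN.nW (clsRep D hD K simpIdx) L)⁻¹ ∈ fixSigma D pv pv' ρ ρ' ε hG K φ :=
      Subgroup.inv_mem _ (hF.le_fix hnLG)
    have hxG : ∀ x ∈ clsX D pv pv' ρ ρ' ε hG K φ simpIdx J, x ∈ G1 := fun x hx =>
      class_fixed_le D hD pv pv' ρ ρ' ε hG K φ A hA hO cls hT G1 simpIdx simpCls hF _ (hJS J) x hx
    rcases sign_dichotomy D hD pv pv' ρ ρ' ε hG K φ hρpos _ hfix _ hact m _ hSlt (hsh _ hScls) with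
      hpos | hneg
    · left
      intro x hx
      have hx' := (Subgroup.mem_inf.mp hx).1
      have h1 := conj_closure_gensL D hD K _ _ hact _ hSlt x hx'
      rw [inv_inv] at h1
      refine Subgroup.mem_inf.mpr ⟨?_, Subgroup.mul_mem _ (Subgroup.mul_mem _ (Subgroup.inv_mem _ hnLG)
        (hxG x hx)) hnLG⟩
      apply posUnipotent_le_borel D hD K
      have hle : Subgroup.closure (gensL D K (((simpIdx.get J).map D.simple).map (reflWord D M.reverse))) ≤
          D.posUnipotent K := by
        rw [Subgroup.closure_le]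
        rintro g ⟨r, hr, a, hg⟩
        have hg' : g = xGL D hD K r a := Units.ext (by rw [hg, coe_xGL])
        rw [List.mem_map] at hr
        obtain ⟨s, hs, rfl⟩ := hr
        rw [hg']
        exact xGL_pos_mem D hD K _ (hpos s hs) _
      exact hle h1
    · right
      intro x hx
      have hx' := (Subgroup.mem_inf.mp hx).1
      rw [TwBN.nW_cons]
      have hact2 := ActsAs.mul D K hact (actsAs_nWordGL_inv D hD K _ hC.lt)
      have e : (TwBN.nW (clsRep D hD K simpIdx) L)⁻¹ * (nWordGL D hD K (simpIdx.get J))⁻¹ =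
          (clsRep D hD K simpIdx J * TwBN.nW (clsRep D hD K simpIdx) L)⁻¹ := by
        rw [_root_.mul_inv_rev]; rfl
      rw [e] at hact2
      have h1 := conj_closure_gensL D hD K _ _ hact2 _ hSlt x hx'
      rw [inv_inv] at h1
      refine Subgroup.mem_inf.mpr ⟨?_, Subgroup.mul_mem _ (Subgroup.mul_mem _ (Subgroup.inv_mem _
        (Subgroup.mul_mem _ hnJG hnLG)) (hxG x hx)) (Subgroup.mul_mem _ hnJG hnLG)⟩
      apply posUnipotent_le_borel D hD K
      have hle : Subgroup.closure (gensL D K (((simpIdx.get J).map D.simple).map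
          (reflWord D M.reverse ∘ reflWord D (simpIdx.get J).reverse))) ≤ D.posUnipotent K := by
        rw [Subgroup.closure_le]
        rintro g ⟨r, hr, a, hg⟩
        have hg' : g = xGL D hD K r a := Units.ext (by rw [hg, coe_xGL])
        rw [List.mem_map] at hr
        obtain ⟨s, hs, rfl⟩ := hr
        rw [hg']
        have hsn := hneg s hs
        rw [List.mem_map] at hs
        obtain ⟨i, hi, rfl⟩ := hs
        show xGL D hD K (reflWord D M.reverse (reflWord D (simpIdx.get J).reverse (D.simple i))) a ∈ _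
        rw [hC.negr i hi, reflWord_neg D hD M.reverse (fun j hj => hMlt j (List.mem_reverse.mp hj)) _
          (fundFacts_of_mem D hD i (hC.lt i hi)).hp]
        exact xGL_pos_mem D hD K _ ((negInvOK_of_mem D hD _ hsn.1).2.2 hsn) _
      exact hle h1

/-- every element of `⟨B¹, n_J⟩` lies in a cell `B¹ n_L B¹` -/
theorem twisted_cells (g : GL D.Idx K)
    (hg : g ∈ Subgroup.closure (((D.borelSubgroup K ⊓ G1 : Subgroup (GL D.Idx K)) : Set (GL D.Idx K)) ∪
      Set.range (clsRep D hD K simpIdx))) :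
    ∃ L : List (Fin simpIdx.length), ∃ b ∈ D.borelSubgroup K ⊓ G1, ∃ b' ∈ D.borelSubgroup K ⊓ G1,
      g = b * TwBN.nW (clsRep D hD K simpIdx) L * b' :=
  TwBN.mem_cellSet_of_mem_closure
    (twisted_closureData D hD pv pv' ρ ρ' ε hG K φ A hA hO cls hT G1 simpIdx simpCls hF m hsh hB hinv) g hg

end

end Cfsg.Agent.Lib.Helper7
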