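import Cfsg.Agent.Lib.Helper7.ChevTwistBN5

/-! Twisted groups: the `(B,N)`-pair of `G¹` (helper7). -/

set_option autoImplicit false

namespace Cfsg.Agent.Lib.Helper7

open Cfsg Cfsg.Lie Matrix

section
variable (D : ChevalleyDatum) (hD : D ∈ [chevG2, chevB2, chevD4, chevF4, chevE6, chevE7, chevE8])
variable (pv pv' ρ ρ' : ℕ → ℕ) (ε : ℕ → ℤ) (hG : GraphFacts D pv pv' ρ ρ' ε)
variable (K : Type*) [Field K] (φ : K ≃+* K)
variable (A : ℕ → ℤ) (hA : ChainAdd D A) (hO : PosFacts D A) (cls : List (List ℕ))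
variable (hT : TwistFacts D ρ ρ' A cls)
variable (G1 : Subgroup (GL D.Idx K)) (simpIdx simpCls : List (List ℕ))
variable (hF : TwistGroupFacts D hD pv pv' ρ ρ' ε hG K φ cls G1 simpIdx simpCls)
variable (m : ℕ) (hsh : ∀ S ∈ cls, ClassShape ρ' ε m S)
variable (hB : TwistBNFacts D simpIdx simpCls)
  (hinv : ∀ J ∈ simpIdx, ∀ s < D.nroots, reflWord D J (reflWord D J s) = s)
  (hgen : G1 ≤ Subgroup.closure (((D.borelSubgroup K ⊓ G1 : Subgroup (GL D.Idx K)) : Set (GL D.Idx K)) ∪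
      Set.range (clsRep D hD K simpIdx)))
  (hne : ∀ J : Fin simpIdx.length, ∃ x ∈ clsX D pv pv' ρ ρ' ε hG K φ simpIdx J, x ≠ 1)
  (hinj : ∀ J J' : Fin simpIdx.length,
    (∀ s < D.nroots, reflWord D (simpIdx.get J) s = reflWord D (simpIdx.get J') s) → J = J')

/-- the set of distinguished generators of the twisted `(B,N)`-pair -/
def twS : Set ↥G1 := {s : ↥G1 | ∃ J : Fin simpIdx.length, (s : GL D.Idx K) = clsRep D hD K simpIdx J}

include hF hB in
omit A hA hO hT m hsh hinv hgen hne hinj in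
theorem nW_sub_mem_closure (L : List (Fin simpIdx.length))
    (h : TwBN.nW (clsRep D hD K simpIdx) L ∈ G1) :
    (⟨TwBN.nW (clsRep D hD K simpIdx) L, h⟩ : ↥G1) ∈ Subgroup.closure (twS D hD K G1 simpIdx) := by
  induction L with
  | nil =>
    have : (⟨TwBN.nW (clsRep D hD K simpIdx) [], h⟩ : ↥G1) = 1 :=
      Subtype.ext (TwBN.nW_nil (clsRep D hD K simpIdx))
    rw [this]; exact Subgroup.one_mem _
  | cons J L ih =>
    have h1 : clsRep D hD K simpIdx J ∈ G1 := hF.n_mem _ (List.get_mem simpIdx J)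
    have h2 : TwBN.nW (clsRep D hD K simpIdx) L ∈ G1 :=
      nW_mem_G1 D hD pv pv' ρ ρ' ε hG K φ cls G1 simpIdx simpCls hF hB L
    have : (⟨TwBN.nW (clsRep D hD K simpIdx) (J :: L), h⟩ : ↥G1) =
        ⟨clsRep D hD K simpIdx J, h1⟩ * ⟨TwBN.nW (clsRep D hD K simpIdx) L, h2⟩ :=
      Subtype.ext (TwBN.nW_cons _ _ _)
    rw [this]
    exact Subgroup.mul_mem _ (Subgroup.subset_closure ⟨J, rfl⟩) (ih h2)

include hD hA hO hT hF hsh hB hinv hgen hne hinj

/-- the `(B,N)`-pair of the twisted group `G¹`, with `B¹ = B ∩ G¹` and `N¹ = N ∩ G¹` -/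
noncomputable def twistedBNPair : Cfsg.BNPair ↥G1 where
  B := (D.borelSubgroup K ⊓ G1).subgroupOf G1
  N := (D.monomialSubgroup K ⊓ G1).subgroupOf G1
  S := twS D hD K G1 simpIdx
  sup_eq_top := by
    rw [eq_top_iff]
    intro g _
    obtain ⟨L, b, hb, b', hb', he⟩ := twisted_cells' D hD pv pv' ρ ρ' ε hG K φ A hA hO cls hT G1 simpIdx simpCls
      hF m hsh hB hinv hgen g.1 g.2
    have hnG := nW_mem_G1 D hD pv pv' ρ ρ' ε hG K φ cls G1 simpIdx simpCls hF hB L
    have hnN := nW_mem_monomial D hD pv pv' ρ ρ' ε hG K φ A hA hO cls hT G1 simpIdx simpCls hF hB L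
    have e : g = ⟨b, (Subgroup.mem_inf.mp hb).2⟩ * ⟨TwBN.nW (clsRep D hD K simpIdx) L, hnG⟩ *
        ⟨b', (Subgroup.mem_inf.mp hb').2⟩ := Subtype.ext he
    rw [e]
    apply Subgroup.mul_mem
    · apply Subgroup.mul_mem
      · exact Subgroup.mem_sup_left (Subgroup.mem_subgroupOf.mpr hb)
      · exact Subgroup.mem_sup_right (Subgroup.mem_subgroupOf.mpr (Subgroup.mem_inf.mpr ⟨hnN, hnG⟩))
    · exact Subgroup.mem_sup_left (Subgroup.mem_subgroupOf.mpr hb')
  conj_mem := by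
    intro n hn t ht
    rw [Subgroup.mem_subgroupOf] at hn ⊢
    rw [Subgroup.mem_inf, Subgroup.mem_subgroupOf, Subgroup.mem_subgroupOf] at ht
    have htH : (t : GL D.Idx K) ∈ D.diagonalSubgroup K := by
      rw [← borel_inf_monomial D hD K]
      exact Subgroup.mem_inf.mpr ⟨(Subgroup.mem_inf.mp ht.1).1, (Subgroup.mem_inf.mp ht.2).1⟩
    have := monomialSubgroup_le_normalizer_diagonal D hD K (Subgroup.mem_inf.mp hn).1
    rw [Subgroup.mem_set_normalizer_iff] at this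
    exact Subgroup.mem_inf.mpr ⟨diagonal_le_borel D hD K ((this _).mp htH), (n * t * n⁻¹).2⟩
  subset := by
    rintro s ⟨J, hs⟩
    show s ∈ (D.monomialSubgroup K ⊓ G1).subgroupOf G1
    rw [Subgroup.mem_subgroupOf, Subgroup.mem_inf]
    refine ⟨?_, s.2⟩
    rw [hs]
    exact nWordGL_mem_monomial D hD K _ (hB.facts _ (List.get_mem simpIdx J)).lt
  sq_mem := by
    rintro s ⟨J, hs⟩
    rw [Subgroup.mem_subgroupOf]
    show (s : GL D.Idx K) * (s : GL D.Idx K) ∈ D.borelSubgroup K ⊓ G1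
    rw [hs]
    exact (twisted_closureData D hD pv pv' ρ ρ' ε hG K φ A hA hO cls hT G1 simpIdx simpCls hF m hsh hB hinv).sq J
  inj := by
    rintro s ⟨J, hs⟩ s' ⟨J', hs'⟩ h
    rw [Subgroup.mem_subgroupOf] at h
    have h' : (s : GL D.Idx K)⁻¹ * (s' : GL D.Idx K) ∈ D.borelSubgroup K ⊓ G1 := h
    rw [hs, hs'] at h'
    have hC := hB.facts _ (List.get_mem simpIdx J)
    have hC' := hB.facts _ (List.get_mem simpIdx J')
    have hN : (clsRep D hD K simpIdx J)⁻¹ * clsRep D hD K simpIdx J' ∈ D.monomialSubgroup K :=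
      Subgroup.mul_mem _ (Subgroup.inv_mem _ (nWordGL_mem_monomial D hD K _ hC.lt))
        (nWordGL_mem_monomial D hD K _ hC'.lt)
    have hH : (clsRep D hD K simpIdx J)⁻¹ * clsRep D hD K simpIdx J' ∈ D.diagonalSubgroup K := by
      rw [← borel_inf_monomial D hD K]
      exact Subgroup.mem_inf.mpr ⟨(Subgroup.mem_inf.mp h').1, hN⟩
    have h1 := actsAs_diag D hD K _ hH
    have h2 := ActsAs.mul D K (actsAs_nWordGL_inv D hD K _ hC.lt) (actsAs_nWordGL D hD K _ hC'.lt)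
    have hJJ : J = J' := by
      apply hinj
      intro s hs
      have h3 := ActsAs.unique D hD K h2 h1 s hs
      have h4 : reflWord D (simpIdx.get J).reverse (reflWord D (simpIdx.get J') s) = s := h3
      have h5 := reflWord_reverse_cancel D hD (simpIdx.get J) hC.lt (reflWord D (simpIdx.get J') s)
        (reflWord_lt' D hD _ hC'.lt s hs)
      rw [h4] at h5
      exact h5
    apply Subtype.ext
    rw [hs, hs', hJJ]
  closure_sup := by
    apply le_antisymm
    · apply sup_le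
      · rw [Subgroup.closure_le]
        rintro s ⟨J, hs⟩
        show s ∈ (D.monomialSubgroup K ⊓ G1).subgroupOf G1
        rw [Subgroup.mem_subgroupOf, Subgroup.mem_inf]
        refine ⟨?_, s.2⟩
        rw [hs]
        exact nWordGL_mem_monomial D hD K _ (hB.facts _ (List.get_mem simpIdx J)).lt
      · exact inf_le_right
    · intro n hn
      rw [Subgroup.mem_subgroupOf] at hn
      obtain ⟨L, hL⟩ := monomial_inf_twisted D hD pv pv' ρ ρ' ε hG K φ A hA hO cls hT G1 simpIdx simpCls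
        hF m hsh hB hinv hgen n.1 hn
      have hnG := nW_mem_G1 D hD pv pv' ρ ρ' ε hG K φ cls G1 simpIdx simpCls hF hB L
      have e : n = ⟨TwBN.nW (clsRep D hD K simpIdx) L, hnG⟩ *
          ⟨(TwBN.nW (clsRep D hD K simpIdx) L)⁻¹ * n.1, (Subgroup.mem_inf.mp hL).2⟩ := by
        apply Subtype.ext
        show n.1 = TwBN.nW (clsRep D hD K simpIdx) L * ((TwBN.nW (clsRep D hD K simpIdx) L)⁻¹ * n.1)
        group
      rw [e]
      apply Subgroup.mul_mem
      · exact Subgroup.mem_sup_left (nW_sub_mem_closure D hD pv pv' ρ ρ' ε hG K φ cls G1 simpIdx simpCls hF hB L hnG)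
      · apply Subgroup.mem_sup_right
        rw [Subgroup.mem_inf, Subgroup.mem_subgroupOf, Subgroup.mem_subgroupOf]
        have hH := (Subgroup.mem_inf.mp hL).1
        have hG1 := (Subgroup.mem_inf.mp hL).2
        have hle : D.diagonalSubgroup K ≤ D.monomialSubgroup K := by
          unfold ChevalleyDatum.monomialSubgroup; exact le_sup_left
        exact ⟨Subgroup.mem_inf.mpr ⟨diagonal_le_borel D hD K hH, hG1⟩, Subgroup.mem_inf.mpr ⟨hle hH, hG1⟩⟩
  mul_mem_union := by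
    rintro s ⟨J, hs⟩ n hn b hb
    rw [Subgroup.mem_subgroupOf] at hn hb
    obtain ⟨L, hL⟩ := monomial_inf_twisted D hD pv pv' ρ ρ' ε hG K φ A hA hO cls hT G1 simpIdx simpCls
      hF m hsh hB hinv hgen n.1 hn
    obtain ⟨h, hh⟩ : ∃ h, h = (TwBN.nW (clsRep D hD K simpIdx) L)⁻¹ * n.1 := ⟨_, rfl⟩
    rw [← hh] at hL
    have hn_eq : n.1 = TwBN.nW (clsRep D hD K simpIdx) L * h := by rw [hh]; group
    have hhB : h ∈ D.borelSubgroup K ⊓ G1 :=
      Subgroup.mem_inf.mpr ⟨diagonal_le_borel D hD K (Subgroup.mem_inf.mp hL).1, (Subgroup.mem_inf.mp hL).2⟩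
    have hcd := twisted_closureData D hD pv pv' ρ ρ' ε hG K φ A hA hO cls hT G1 simpIdx simpCls hF m hsh hB hinv
    rcases TwBN.s_mul_cell hcd J L b.1 hb with ⟨b₁, hb₁, b₂, hb₂, he⟩ | ⟨b₁, hb₁, b₂, hb₂, he⟩
    · left
      rw [DoubleCoset.mem_doubleCoset]
      have hb₂' : h⁻¹ * b₂ * h ∈ D.borelSubgroup K ⊓ G1 :=
        Subgroup.mul_mem _ (Subgroup.mul_mem _ (Subgroup.inv_mem _ hhB) hb₂) hhB
      refine ⟨⟨b₁, (Subgroup.mem_inf.mp hb₁).2⟩, Subgroup.mem_subgroupOf.mpr hb₁,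
        ⟨h⁻¹ * b₂ * h, (Subgroup.mem_inf.mp hb₂').2⟩, Subgroup.mem_subgroupOf.mpr hb₂', ?_⟩
      apply Subtype.ext
      show (s : GL D.Idx K) * b.1 * n.1 = b₁ * ((s : GL D.Idx K) * n.1) * (h⁻¹ * b₂ * h)
      rw [hn_eq, hs]
      rw [TwBN.nW_cons] at he
      calc clsRep D hD K simpIdx J * b.1 * (TwBN.nW (clsRep D hD K simpIdx) L * h)
          = (clsRep D hD K simpIdx J * b.1 * TwBN.nW (clsRep D hD K simpIdx) L) * h := by group
        _ = (b₁ * (clsRep D hD K simpIdx J * TwBN.nW (clsRep D hD K simpIdx) L) * b₂) * h := by rw [he]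
        _ = _ := by group
    · right
      rw [DoubleCoset.mem_doubleCoset]
      have hb₂' : h⁻¹ * b₂ * h ∈ D.borelSubgroup K ⊓ G1 :=
        Subgroup.mul_mem _ (Subgroup.mul_mem _ (Subgroup.inv_mem _ hhB) hb₂) hhB
      refine ⟨⟨b₁, (Subgroup.mem_inf.mp hb₁).2⟩, Subgroup.mem_subgroupOf.mpr hb₁,
        ⟨h⁻¹ * b₂ * h, (Subgroup.mem_inf.mp hb₂').2⟩, Subgroup.mem_subgroupOf.mpr hb₂', ?_⟩
      apply Subtype.ext
      show (s : GL D.Idx K) * b.1 * n.1 = b₁ * n.1 * (h⁻¹ * b₂ * h)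
      rw [hn_eq, hs]
      calc clsRep D hD K simpIdx J * b.1 * (TwBN.nW (clsRep D hD K simpIdx) L * h)
          = (clsRep D hD K simpIdx J * b.1 * TwBN.nW (clsRep D hD K simpIdx) L) * h := by group
        _ = (b₁ * TwBN.nW (clsRep D hD K simpIdx) L * b₂) * h := by rw [he]
        _ = _ := by group
  conj_ne := by
    rintro s ⟨J, hs⟩ heq
    obtain ⟨x, hx, hx1⟩ := hne J
    have hC := hB.facts _ (List.get_mem simpIdx J)
    have hJS : (simpIdx.get J).map D.simple ∈ simpCls := by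
      rw [hB.cls_eq]; exact List.mem_map_of_mem (List.get_mem simpIdx J)
    have hxG : x ∈ G1 :=
      class_fixed_le D hD pv pv' ρ ρ' ε hG K φ A hA hO cls hT G1 simpIdx simpCls hF _ hJS x hx
    have hxS := (Subgroup.mem_inf.mp hx).1
    have hxU : x ∈ D.posUnipotent K := by
      rw [posUnipotent_eq_sup_restL D hD K _ hC]
      exact Subgroup.mem_sup_right hxS
    have hxB : (⟨x, hxG⟩ : ↥G1) ∈ (((D.borelSubgroup K ⊓ G1).subgroupOf G1 : Subgroup ↥G1) : Set ↥G1) := by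
      show (⟨x, hxG⟩ : ↥G1) ∈ (D.borelSubgroup K ⊓ G1).subgroupOf G1
      rw [Subgroup.mem_subgroupOf]
      exact Subgroup.mem_inf.mpr ⟨posUnipotent_le_borel D hD K hxU, hxG⟩
    have h1 : s * ⟨x, hxG⟩ * s ∈ (fun b : ↥G1 => s * b * s) ''
        (((D.borelSubgroup K ⊓ G1).subgroupOf G1 : Subgroup ↥G1) : Set ↥G1) := ⟨_, hxB, rfl⟩
    rw [heq] at h1
    have h2 : s * ⟨x, hxG⟩ * s ∈ (D.borelSubgroup K ⊓ G1).subgroupOf G1 := h1
    rw [Subgroup.mem_subgroupOf] at h2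
    have h3 : (s : GL D.Idx K) * x * (s : GL D.Idx K) ∈ D.borelSubgroup K := (Subgroup.mem_inf.mp h2).1
    rw [hs] at h3
    have hsq := ((twisted_closureData D hD pv pv' ρ ρ' ε hG K φ A hA hO cls hT G1 simpIdx simpCls
      hF m hsh hB hinv).sq J)
    have h4 : clsRep D hD K simpIdx J * x * (clsRep D hD K simpIdx J)⁻¹ ∈ D.borelSubgroup K := by
      have e : clsRep D hD K simpIdx J * x * (clsRep D hD K simpIdx J)⁻¹ =
          (clsRep D hD K simpIdx J * x * clsRep D hD K simpIdx J) *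
            (clsRep D hD K simpIdx J * clsRep D hD K simpIdx J)⁻¹ := by group
      rw [e]
      exact Subgroup.mul_mem _ h3 (Subgroup.inv_mem _ (Subgroup.mem_inf.mp hsq).1)
    have h5 := conj_simple_class_mem_neg D hD K _ hC x hxS
    have h6 : clsRep D hD K simpIdx J * x * (clsRep D hD K simpIdx J)⁻¹ ∈
        D.borelSubgroup K ⊓ D.negUnipotent K := Subgroup.mem_inf.mpr ⟨h4, h5⟩
    rw [borel_inf_negUnipotent D hD K, Subgroup.mem_bot] at h6
    apply hx1
    have e : x = (clsRep D hD K simpIdx J)⁻¹ *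
        (clsRep D hD K simpIdx J * x * (clsRep D hD K simpIdx J)⁻¹) * clsRep D hD K simpIdx J := by group
    rw [e, h6]; group

end

end Cfsg.Agent.Lib.Helper7
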