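import Cfsg.Agent.Lib.Helper7.ChevTwistBN8

/-! Twisted groups: existence of the `(B,N)`-pair of the group generated by `twWords` (helper7). -/

set_option autoImplicit false

namespace Cfsg.Agent.Lib.Helper7

open Cfsg Cfsg.Lie Matrix

section
variable (D : ChevalleyDatum) (hD : D ∈ [chevG2, chevB2, chevD4, chevF4, chevE6, chevE7, chevE8])
variable (pv pv' ρ ρ' : List ℕ) (ε : List ℤ) (w : List ℤ) (cls : List (List ℕ)) (m : ℕ)
variable (L1 : List ℕ) (L2 : List (ℕ × ℕ)) (L3 : List (ℕ × ℕ × ℕ)) (simpIdx simpCls : List (List ℕ))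
variable (cert : List (List ℕ × ℕ))
variable (hT : TwistTab D pv pv' ρ ρ' ε w cls m L1 L2 L3 simpIdx simpCls cert)
variable (hT2 : TwistTab2 D L1 L2 L3 simpIdx simpCls)
variable (K : Type*) [Field K] (φ : K ≃+* K)
include hD hT hT2

/-- the twisted group is generated by `B ∩ G¹` and the `n_J` -/
theorem twGroup_le_closure (hφ : ∀ a, φ^[m] a = a) :
    D.genSubgroup K (twWords K φ L1 L2 L3) ≤
      Subgroup.closure (((D.borelSubgroup K ⊓ D.genSubgroup K (twWords K φ L1 L2 L3) :
        Subgroup (GL D.Idx K)) : Set (GL D.Idx K)) ∪ Set.range (clsRep D hD K simpIdx)) := by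
  have hF := twistGroupFacts_of_tab D hD pv pv' ρ ρ' ε w cls m L1 L2 L3 simpIdx simpCls cert hT K φ hφ
  have hB := twistBNFacts_of_tab2 D L1 L2 L3 simpIdx simpCls hT2
  obtain ⟨G1, hG1⟩ : ∃ G, G = D.genSubgroup K (twWords K φ L1 L2 L3) := ⟨_, rfl⟩
  rw [← hG1] at hF ⊢
  have hgen : G1 = Subgroup.closure {g : GL D.Idx K | ∃ w ∈ twWords K φ L1 L2 L3,
      (g : Matrix D.Idx D.Idx K) = D.wordMat K w} := by rw [hG1]; rfl
  conv_lhs => rw [hgen]
  rw [Subgroup.closure_le]
  rintro g ⟨wd, hwd, hgm⟩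
  have hg : g = wordGL D hD K wd := Units.ext (by rw [hgm, coe_wordGL])
  have hgG : g ∈ G1 := by
    rw [hgen]; exact Subgroup.subset_closure ⟨wd, hwd, hgm⟩
  obtain ⟨J, hJ⟩ := tw_cov_of_tab2 D L1 L2 L3 simpIdx simpCls hT2 K φ wd hwd
  have hC := hB.facts _ (List.get_mem simpIdx J)
  rcases hJ with hJ | hJ
  · apply Subgroup.subset_closure
    left
    rw [SetLike.mem_coe, Subgroup.mem_inf]
    refine ⟨?_, hgG⟩
    apply posUnipotent_le_borel D hD K
    rw [posUnipotent_eq_sup_restL D hD K _ hC]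
    apply Subgroup.mem_sup_right
    rw [hg]
    exact wordGL_mem_closure_gensL D hD K _ wd hJ
  · have hgS : g ∈ Subgroup.closure (gensL D K ((simpIdx.get J).map fun i => D.neg (D.simple i))) := by
      rw [hg]; exact wordGL_mem_closure_gensL D hD K _ wd hJ
    have hnG : clsRep D hD K simpIdx J ∈ G1 := hF.n_mem _ (List.get_mem simpIdx J)
    have hact := actsAs_nWordGL_inv D hD K _ hC.lt
    have hlt : ∀ r ∈ (simpIdx.get J).map (fun i => D.neg (D.simple i)), r < D.nroots := by
      intro r hr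
      rw [List.mem_map] at hr
      obtain ⟨i, hi, rfl⟩ := hr
      exact (fundFacts_of_mem D hD i (hC.lt i hi)).hpb
    have h1 := conj_closure_gensL D hD K _ _ hact _ hlt g hgS
    rw [inv_inv] at h1
    have hU : (nWordGL D hD K (simpIdx.get J))⁻¹ * g * nWordGL D hD K (simpIdx.get J) ∈ D.posUnipotent K := by
      have hle : Subgroup.closure (gensL D K (((simpIdx.get J).map fun i => D.neg (D.simple i)).map
          (reflWord D (simpIdx.get J).reverse))) ≤ D.posUnipotent K := by
        rw [Subgroup.closure_le]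
        rintro y ⟨r, hr, a, hy⟩
        have hy' : y = xGL D hD K r a := Units.ext (by rw [hy, coe_xGL])
        rw [List.map_map, List.mem_map] at hr
        obtain ⟨i, hi, rfl⟩ := hr
        rw [hy']
        have hF' := fundFacts_of_mem D hD i (hC.lt i hi)
        show xGL D hD K (reflWord D (simpIdx.get J).reverse (D.neg (D.simple i))) a ∈ _
        rw [reflWord_neg D hD _ (fun j hj => hC.lt j (List.mem_reverse.mp hj)) _ hF'.hp, hC.negr i hi]
        have e : D.neg (D.neg (D.simple i)) = D.simple i := (negInvOK_of_mem D hD _ hF'.hp).1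
        rw [e]
        exact xGL_pos_mem D hD K _ ((parFacts_of_mem D hD).simplePos i (hC.lt i hi)) _
      exact hle h1
    have e : g = clsRep D hD K simpIdx J *
        ((nWordGL D hD K (simpIdx.get J))⁻¹ * g * nWordGL D hD K (simpIdx.get J)) *
          (clsRep D hD K simpIdx J)⁻¹ := by
      show g = nWordGL D hD K (simpIdx.get J) * _ * (nWordGL D hD K (simpIdx.get J))⁻¹
      group
    rw [e]
    have hn : clsRep D hD K simpIdx J ∈ Subgroup.closure (((D.borelSubgroup K ⊓ G1 :
        Subgroup (GL D.Idx K)) : Set (GL D.Idx K)) ∪ Set.range (clsRep D hD K simpIdx)) :=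
      Subgroup.subset_closure (Or.inr ⟨J, rfl⟩)
    apply Subgroup.mul_mem _ (Subgroup.mul_mem _ hn ?_) (Subgroup.inv_mem _ hn)
    apply Subgroup.subset_closure
    left
    rw [SetLike.mem_coe, Subgroup.mem_inf]
    refine ⟨posUnipotent_le_borel D hD K hU, ?_⟩
    exact Subgroup.mul_mem _ (Subgroup.mul_mem _ (Subgroup.inv_mem _ hnG) hgG) hnG

end

end Cfsg.Agent.Lib.Helper7
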