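import Cfsg.Agent.Lib.Helper7.ChevTwistBN10
import Cfsg.Agent.Lib.Helper7.ChevCore
import Cfsg.Agent.Lib.Helper7.ChevHCard

/-! Twisted groups: the normal core of `B¹ = B ∩ G¹` in `G¹` is trivial (helper7). -/

set_option autoImplicit false

namespace Cfsg.Agent.Lib.Helper7

open Cfsg Cfsg.Lie Matrix

section
variable (D : ChevalleyDatum) (hD : D ∈ [chevG2, chevB2, chevD4, chevF4, chevE6, chevE7, chevE8])
variable (K : Type*) [Field K]
include hD

theorem nLongGL_eq_nWordGL (w : List ℕ) : nLongGL D hD K w = nWordGL D hD K w := rfl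

theorem nWordGL_flatten_mem (G1 : Subgroup (GL D.Idx K)) (Js : List (List ℕ))
    (h : ∀ J ∈ Js, nWordGL D hD K J ∈ G1) : nWordGL D hD K Js.flatten ∈ G1 := by
  induction Js with
  | nil =>
    have : nWordGL D hD K ([] : List (List ℕ)).flatten = 1 := by simp [nWordGL]
    rw [this]; exact Subgroup.one_mem _
  | cons J Js ih =>
    rw [List.flatten_cons, nWordGL_append]
    exact Subgroup.mul_mem _ (h J List.mem_cons_self) (ih (fun J' hJ' => h J' (List.mem_cons_of_mem _ hJ')))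

/-- conjugation of an ordered product by a diagonal element -/
theorem diagGL_conj_ordProd (k : GL D.Idx K) (χ : ℕ → K) (hχ : ChainChar D K χ)
    (hk : (k : Matrix D.Idx D.Idx K) = diagChar D K χ) (S : List ℕ) (t : ℕ → K) :
    k * ordProd D hD K S t * k⁻¹ = ordProd D hD K S (fun r => χ r * t r) := by
  rw [ordProd_eq_prod, ordProd_eq_prod, conj_list_prod, List.map_map]
  congr 1
  apply List.map_congr_left
  intro r _
  show k * xGL D hD K r (t r) * k⁻¹ = _
  rw [diagGL_xGL_comm D hD K k χ hχ hk r (t r), mul_assoc, mul_inv_cancel, mul_one]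

/-- a diagonal element whose character is trivial on the fundamental roots is trivial -/
theorem diagonal_eq_one_of_simple (A R : List (List ℤ)) (hR : rootCoefOKB D A R = true)
    (k : GL D.Idx K) (hk : k ∈ D.diagonalSubgroup K) (χ : ℕ → K)
    (hkm : (k : Matrix D.Idx D.Idx K) = diagChar D K χ)
    (h1 : ∀ i < D.rank, χ (D.simple i) = 1) : k = 1 := by
  obtain ⟨c, hc⟩ := hOf_surj D hD K k hk
  have hm := coe_hOf D hD K c
  rw [hc, hkm] at hm
  have hz : ∀ i : Fin D.rank, zact (cartanA D) c i = 1 := by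
    intro i
    have hi := (fundFacts_of_mem D hD i.val i.isLt).hp
    have h2 := congrFun (Matrix.diagonal_injective hm) (Sum.inr ⟨D.simple i, hi⟩)
    simp only [Sum.elim_inr] at h2
    rw [← unitChar_simple D K c i]
    apply Units.ext
    rw [← h2, h1 i.val i.isLt]
    rfl
  apply Units.ext
  rw [← hc, coe_hOf D hD K c]
  show diagChar D K _ = 1
  unfold diagChar
  rw [← Matrix.diagonal_one]
  congr 1
  funext x
  rcases x with j | s
  · rfl
  · simp only [Sum.elim_inr]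
    rw [unitChar_root D K A R hR c s.val s.isLt]
    simp [hz]

end

section
variable (D : ChevalleyDatum) (hD : D ∈ [chevG2, chevB2, chevD4, chevF4, chevE6, chevE7, chevE8])
variable (pv pv' ρ ρ' : List ℕ) (ε : List ℤ) (w : List ℤ) (cls : List (List ℕ)) (m : ℕ)
variable (L1 : List ℕ) (L2 : List (ℕ × ℕ)) (L3 : List (ℕ × ℕ × ℕ)) (simpIdx simpCls : List (List ℕ))
variable (cert : List (List ℕ × ℕ))
variable (hT : TwistTab D pv pv' ρ ρ' ε w cls m L1 L2 L3 simpIdx simpCls cert)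
variable (hT2 : TwistTab2 D L1 L2 L3 simpIdx simpCls)
variable (K : Type*) [Field K] (φ : K ≃+* K)
include hD hT hT2

/-- the element of a simple class with all parameters `1` lies in `G¹` -/
theorem ordProd_one_mem_twGroup (hφ : ∀ a, φ^[m] a = a) (J : List ℕ) (hJ : J ∈ simpIdx) :
    ordProd D hD K (J.map D.simple) (fun _ => 1) ∈ D.genSubgroup K (twWords K φ L1 L2 L3) := by
  have hG := graphFacts_of_graphOKB D pv pv' ρ ρ' ε hT.graph
  obtain ⟨hTw, hpos⟩ := twistFacts_of_twistOKB D ρ ρ' w cls hT.twist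
  have hgen := genFacts_of_twGenOKB D ρ ε L1 L2 L3 hT.gen
  have hF := twistGroupFacts_of_tab D hD pv pv' ρ ρ' ε w cls m L1 L2 L3 simpIdx simpCls cert hT K φ hφ
  have hB := twistBNFacts_of_tab2 D L1 L2 L3 simpIdx simpCls hT2
  have hJS : J.map D.simple ∈ simpCls := by
    rw [hB.cls_eq]; exact List.mem_map_of_mem hJ
  have hC := hB.facts _ hJ
  have hScls := hF.simple_cls _ hJS
  have hss := List.all_eq_true.mp hT.ssh _ hJS
  simp only [Bool.and_eq_true] at hss
  obtain ⟨hne, hε⟩ := eps_one_of_simpShape hgen (simpShape_of_simpShapeB L1 L2 L3 _ hss.1)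
  have hSlt := simple_class_lt D hD _ hC
  have hcompat : ∀ r ∈ J.map D.simple,
      (fun _ : ℕ => (1 : K)) r = twistFn (fun r => ρ'.getD r 0) (fun r => ε.getD r 0) K φ (fun _ => 1) r := by
    intro r hr
    have hmem := rhoInv_mem_of_perm D _ _ _ _ _ hG _ hSlt (hTw.perm _ hScls) r hr
    unfold twistFn
    rw [map_one, mul_one]
    have h1 : ε.getD (ρ'.getD r 0) 0 = 1 := hε _ hmem
    show (1 : K) = ((ε.getD (ρ'.getD r 0) 0 : ℤ) : K)
    rw [h1]; simp
  exact hF.simple_mem _ hJS (fun _ => 1) hcompat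

/-- the normal core of `B ∩ G¹` in the twisted group `G¹` is trivial -/
theorem twGroup_core_eq_bot (hφ : ∀ a, φ^[m] a = a) (A R : List (List ℤ)) (hR : rootCoefOKB D A R = true)
    (Js : List (List ℕ)) (hJs : ∀ J ∈ Js, J ∈ simpIdx) (hL : LongFacts D Js.flatten)
    (hcov : ∀ i < D.rank, ∃ J ∈ simpIdx, i ∈ J) :
    ((D.borelSubgroup K ⊓ D.genSubgroup K (twWords K φ L1 L2 L3)).subgroupOf
        (D.genSubgroup K (twWords K φ L1 L2 L3))).normalCore = ⊥ := by
  have hG := graphFacts_of_graphOKB D pv pv' ρ ρ' ε hT.graph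
  obtain ⟨hTw, hpos⟩ := twistFacts_of_twistOKB D ρ ρ' w cls hT.twist
  have hA := chainAdd_linF D hD w
  have hO : PosFacts D (linF D w) := ⟨hpos, hT.prim⟩
  have hF := twistGroupFacts_of_tab D hD pv pv' ρ ρ' ε w cls m L1 L2 L3 simpIdx simpCls cert hT K φ hφ
  have hB := twistBNFacts_of_tab2 D L1 L2 L3 simpIdx simpCls hT2
  obtain ⟨G1, hG1⟩ : ∃ G1, G1 = D.genSubgroup K (twWords K φ L1 L2 L3) := ⟨_, rfl⟩
  rw [← hG1] at hF ⊢
  obtain ⟨Kc, hKc⟩ : ∃ Kc, Kc = ((D.borelSubgroup K ⊓ G1).subgroupOf G1).normalCore := ⟨_, rfl⟩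
  rw [← hKc]
  haveI hKn : Kc.Normal := by rw [hKc]; infer_instance
  have hn0 : nWordGL D hD K Js.flatten ∈ G1 :=
    nWordGL_flatten_mem D hD K G1 Js (fun J hJ => hF.n_mem J (hJs J hJ))
  -- conjugates of elements of the core lie in `B`
  have hB' : ∀ k ∈ Kc, ∀ g : GL D.Idx K, g ∈ G1 →
      g * ((k : ↥G1) : GL D.Idx K) * g⁻¹ ∈ D.borelSubgroup K := by
    intro k hk g hg
    rw [hKc] at hk
    have := hk ⟨g, hg⟩
    rw [Subgroup.mem_subgroupOf] at this
    exact (Subgroup.mem_inf.mp this).1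
  -- every element of the core lies in `H`
  have hKH : ∀ k ∈ Kc, ((k : ↥G1) : GL D.Idx K) ∈ D.diagonalSubgroup K := by
    intro k hk
    obtain ⟨n, hn⟩ : ∃ n, n = nWordGL D hD K Js.flatten := ⟨_, rfl⟩
    rw [← hn] at hn0
    have hkB : (k : GL D.Idx K) ∈ D.borelSubgroup K := by
      have := hB' k hk 1 (one_mem _)
      rwa [one_mul, inv_one, mul_one] at this
    have hkB' : (k : GL D.Idx K) ∈ D.negUnipotent K ⊔ D.diagonalSubgroup K := by
      rw [← conj_borel_eq D hD K Js.flatten hL, Subgroup.mem_map, nLongGL_eq_nWordGL, ← hn]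
      refine ⟨n⁻¹ * (k : GL D.Idx K) * n, ?_, ?_⟩
      · have := hB' k hk n⁻¹ (inv_mem hn0)
        rwa [inv_inv] at this
      · show n * (n⁻¹ * (k : GL D.Idx K) * n) * n⁻¹ = k
        group
    rw [← borel_inf_negBorel D hD K]
    exact Subgroup.mem_inf.mpr ⟨hkB, hkB'⟩
  rw [Subgroup.eq_bot_iff_forall]
  intro k hk
  obtain ⟨χ, hχ, hkm⟩ := mem_diagonalSubgroup_char D hD K _ (hKH k hk)
  have hχ1 : ∀ i < D.rank, χ (D.simple i) = 1 := by
    intro i hi
    obtain ⟨J, hJ, hiJ⟩ := hcov i hi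
    have hJS : J.map D.simple ∈ simpCls := by
      rw [hB.cls_eq]; exact List.mem_map_of_mem hJ
    have hC := hB.facts _ hJ
    have hScls := hF.simple_cls _ hJS
    obtain ⟨g, hg⟩ : ∃ g, g = ordProd D hD K (J.map D.simple) (fun _ => 1) := ⟨_, rfl⟩
    have hgG : g ∈ G1 := by
      rw [hg, hG1]
      exact ordProd_one_mem_twGroup D hD pv pv' ρ ρ' ε w cls m L1 L2 L3 simpIdx simpCls cert hT hT2 K φ hφ J hJ
    have hgU : g ∈ D.posUnipotent K := by
      rw [hg]; exact ordProd_mem_posUnipotent D hD K _ (simple_class_pos D hD J hC) _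
    have h1 : (⟨g, hgG⟩ : ↥G1) * k * (⟨g, hgG⟩ : ↥G1)⁻¹ ∈ Kc := hKn.conj_mem k hk ⟨g, hgG⟩
    have h2 := hKH _ h1
    have h3 : (((⟨g, hgG⟩ : ↥G1) * k * (⟨g, hgG⟩ : ↥G1)⁻¹ : ↥G1) : GL D.Idx K) =
        g * (k : GL D.Idx K) * g⁻¹ := rfl
    rw [h3] at h2
    have hkH := hKH k hk
    have h4 : g * (k : GL D.Idx K) * g⁻¹ * (k : GL D.Idx K)⁻¹ ∈ D.diagonalSubgroup K :=
      Subgroup.mul_mem _ h2 (Subgroup.inv_mem _ hkH)
    have h5 : (k : GL D.Idx K) * g⁻¹ * (k : GL D.Idx K)⁻¹ ∈ D.posUnipotent K := by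
      have hnorm := diagonalSubgroup_le_normalizer_posUnipotent D hD K hkH
      rw [Subgroup.mem_set_normalizer_iff] at hnorm
      exact (hnorm _).mp (Subgroup.inv_mem _ hgU)
    have h6 : g * (k : GL D.Idx K) * g⁻¹ * (k : GL D.Idx K)⁻¹ ∈ D.posUnipotent K := by
      have : g * (k : GL D.Idx K) * g⁻¹ * (k : GL D.Idx K)⁻¹ =
          g * ((k : GL D.Idx K) * g⁻¹ * (k : GL D.Idx K)⁻¹) := by group
      rw [this]
      exact Subgroup.mul_mem _ hgU h5
    have h7 : g * (k : GL D.Idx K) * g⁻¹ * (k : GL D.Idx K)⁻¹ = 1 := by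
      have : g * (k : GL D.Idx K) * g⁻¹ * (k : GL D.Idx K)⁻¹ ∈
          D.posUnipotent K ⊓ D.diagonalSubgroup K := Subgroup.mem_inf.mpr ⟨h6, h4⟩
      rw [posUnipotent_inf_diagonalSubgroup D hD K] at this
      exact Subgroup.mem_bot.mp this
    have h8 : (k : GL D.Idx K) * g * (k : GL D.Idx K)⁻¹ = g := by
      have e : (k : GL D.Idx K) * g * (k : GL D.Idx K)⁻¹ =
          (g * (k : GL D.Idx K) * g⁻¹ * (k : GL D.Idx K)⁻¹)⁻¹ * g := by group
      rw [e, h7, inv_one, one_mul]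
    rw [hg, diagGL_conj_ordProd D hD K _ χ hχ hkm] at h8
    have h9 := ordProd_class_inj D hD _ _ K (linF D w) hA hO cls hTw _ hScls _ _ h8
      (D.simple i) (List.mem_map_of_mem hiJ)
    simpa using h9
  apply Subtype.ext
  exact diagonal_eq_one_of_simple D hD K A R hR _ (hKH k hk) χ hkm hχ1

end

end Cfsg.Agent.Lib.Helper7
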