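import Cfsg.Agent.Lib.Helper7.ChevTwistBN1

/-! Twisted groups: the orders of `B ∩ G¹` and of the cells `B¹ n_J B¹` (helper7). -/

set_option autoImplicit false

namespace Cfsg.Agent.Lib.Helper7

open Cfsg Cfsg.Lie Matrix

section
variable (D : ChevalleyDatum) (hD : D ∈ [chevG2, chevB2, chevD4, chevF4, chevE6, chevE7, chevE8])
variable (pv pv' ρ ρ' : ℕ → ℕ) (ε : ℕ → ℤ) (hG : GraphFacts D pv pv' ρ ρ' ε)
variable (K : Type*) [Field K] (φ : K ≃+* K)
variable (A : ℕ → ℤ) (hA : ChainAdd D A) (hO : PosFacts D A) (cls : List (List ℕ))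
variable (hT : TwistFacts D ρ ρ' A cls)
variable (G1 : Subgroup (GL D.Idx K)) (simpIdx simpCls : List (List ℕ))
variable (hF : TwistGroupFacts D hD pv pv' ρ ρ' ε hG K φ cls G1 simpIdx simpCls)
include hD hA hO hT hF

/-- `|X_S ∩ Fix| = q^{|S|}` for a simple class `S` -/
theorem card_class_fixed (m q : ℕ) (hK : Nat.card K = q ^ m) (hfix : Nat.card {a : K // φ a = a} = q)
    (hφ : ∀ a, φ^[m] a = a) (S : List ℕ) (hS : S ∈ simpCls) (hsh : ClassShape ρ' ε m S) :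
    Nat.card ↥(Subgroup.closure (gensL D K S) ⊓ fixSigma D pv pv' ρ ρ' ε hG K φ) = q ^ S.length := by
  classical
  rw [← card_twOk_class ρ' ε K φ m q hK hfix hφ S hsh]
  symm
  apply Nat.card_congr
  have hflat : ∀ r, r ∈ [S].flatten ↔ r ∈ S := by intro r; simp
  refine Equiv.ofBijective (fun t => ⟨ordProd D hD K S t.1, ?_⟩) ⟨?_, ?_⟩
  · rw [Subgroup.mem_inf]
    refine ⟨ordProd_mem D hD K S t.1, hF.le_fix (hF.simple_mem S hS t.1 ?_)⟩
    intro r hr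
    exact t.2.2 r ((hflat r).mpr hr)
  · rintro ⟨t, ht1, ht2⟩ ⟨u, hu1, hu2⟩ h
    have h' : ordProd D hD K S t = ordProd D hD K S u := congrArg Subtype.val h
    apply Subtype.ext
    funext r
    by_cases hr : r ∈ S
    · exact ordProd_class_inj D hD ρ ρ' K A hA hO cls hT S (hF.simple_cls S hS) _ _ h' r hr
    · show t r = u r
      rw [ht1 r (fun hc => hr ((hflat r).mp hc)), hu1 r (fun hc => hr ((hflat r).mp hc))]
  · rintro ⟨g, hg⟩
    obtain ⟨t, rfl, ht⟩ := class_fixed_param D hD pv pv' ρ ρ' ε hG K φ A hA hO cls hT S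
      (hF.simple_cls S hS) g hg
    have hst : ∀ r ∈ S, ρ' r ∈ S := hsh.stable
    refine ⟨⟨fun r => if r ∈ S then t r else 0, ?_, ?_⟩, ?_⟩
    · intro r hr
      exact if_neg (fun hc => hr ((hflat r).mpr hc))
    · intro r hr
      have hr' := (hflat r).mp hr
      show (if r ∈ S then t r else 0) = ((ε (ρ' r) : ℤ) : K) * φ (if ρ' r ∈ S then t (ρ' r) else 0)
      rw [if_pos hr', if_pos (hst r hr')]
      exact ht r hr'
    · apply Subtype.ext
      show ordProd D hD K S (fun r => if r ∈ S then t r else 0) = ordProd D hD K S t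
      exact ordProd_congr D hD K S _ _ (fun r hr => if_pos hr)

/-- `|B ∩ G¹| = |H ∩ G¹| |U ∩ Fix|` -/
theorem card_borel_inf_twisted (cert : List (List ℕ × ℕ)) (hcert : certOKB D simpIdx simpCls cls cert = true) :
    Nat.card ↥(D.borelSubgroup K ⊓ G1) = Nat.card ↥(D.diagonalSubgroup K ⊓ G1) *
      Nat.card ↥(D.posUnipotent K ⊓ fixSigma D pv pv' ρ ρ' ε hG K φ) := by
  have hUG := posUnipotent_inf_twisted D hD pv pv' ρ ρ' ε hG K φ A hA hO cls hT G1 simpIdx simpCls hF cert hcert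
  have hρpos := rho_pos_of_twistFacts D ρ ρ' A cls hT
  rw [← Nat.card_prod]
  symm
  apply Nat.card_congr
  have huG : ∀ u : ↥(D.posUnipotent K ⊓ fixSigma D pv pv' ρ ρ' ε hG K φ), (u : GL D.Idx K) ∈ G1 := by
    intro u
    have : (u : GL D.Idx K) ∈ D.posUnipotent K ⊓ G1 := by rw [hUG]; exact u.2
    exact (Subgroup.mem_inf.mp this).2
  refine Equiv.ofBijective (fun p => ⟨(p.1 : GL D.Idx K) * (p.2 : GL D.Idx K), ?_⟩) ⟨?_, ?_⟩
  · rw [Subgroup.mem_inf]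
    exact ⟨Subgroup.mul_mem _ (diagonal_le_borel D hD K (Subgroup.mem_inf.mp p.1.2).1)
      (posUnipotent_le_borel D hD K (Subgroup.mem_inf.mp p.2.2).1),
      Subgroup.mul_mem _ (Subgroup.mem_inf.mp p.1.2).2 (huG p.2)⟩
  · rintro ⟨⟨h, hh⟩, ⟨u, hu⟩⟩ ⟨⟨h', hh'⟩, ⟨u', hu'⟩⟩ he
    have he' : h * u = h' * u' := congrArg Subtype.val he
    have e : u * u'⁻¹ = h⁻¹ * h' := by
      have : u = h⁻¹ * (h' * u') := by rw [← he']; group
      rw [this]; group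
    have hm : u * u'⁻¹ ∈ D.posUnipotent K ⊓ D.diagonalSubgroup K := by
      rw [Subgroup.mem_inf]
      refine ⟨Subgroup.mul_mem _ (Subgroup.mem_inf.mp hu).1 (Subgroup.inv_mem _ (Subgroup.mem_inf.mp hu').1), ?_⟩
      rw [e]
      exact Subgroup.mul_mem _ (Subgroup.inv_mem _ (Subgroup.mem_inf.mp hh).1) (Subgroup.mem_inf.mp hh').1
    rw [posUnipotent_inf_diagonalSubgroup D hD K, Subgroup.mem_bot] at hm
    have hu1 : u = u' := mul_inv_eq_one.mp hm
    have hh1 : h = h' := by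
      rw [hm] at e
      exact (inv_mul_eq_one.mp e.symm)
    subst hu1 hh1
    rfl
  · rintro ⟨b, hb⟩
    rw [Subgroup.mem_inf] at hb
    obtain ⟨hbB, hbG⟩ := hb
    have hbB' : b ∈ ((D.borelSubgroup K : Subgroup (GL D.Idx K)) : Set (GL D.Idx K)) := hbB
    rw [borel_eq_mul D hD K] at hbB'
    obtain ⟨h, hh, u, hu, rfl⟩ := Set.mem_mul.mp hbB'
    obtain ⟨hhf, huf⟩ := fixed_borel D hD pv pv' ρ ρ' ε hG K φ hρpos h u hh hu (hF.le_fix hbG)
    have hu2 : u ∈ D.posUnipotent K ⊓ fixSigma D pv pv' ρ ρ' ε hG K φ := Subgroup.mem_inf.mpr ⟨hu, huf⟩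
    have huG1 : u ∈ G1 := huG ⟨u, hu2⟩
    have hhG1 : h ∈ G1 := by
      have : h = h * u * u⁻¹ := by group
      rw [this]
      exact Subgroup.mul_mem _ hbG (Subgroup.inv_mem _ huG1)
    exact ⟨(⟨h, Subgroup.mem_inf.mpr ⟨hh, hhG1⟩⟩, ⟨u, hu2⟩), rfl⟩

variable (Jidx : List ℕ) (hC : SimpClassFacts D Jidx) (hJ : Jidx ∈ simpIdx)
  (hJS : Jidx.map D.simple ∈ simpCls)
include hC hJ hJS

/-- `|B¹ n_J B¹| = |B¹| |X_J ∩ Fix|` -/
theorem card_cell_class :
    Nat.card {g : GL D.Idx K // ∃ b ∈ D.borelSubgroup K ⊓ G1, ∃ b' ∈ D.borelSubgroup K ⊓ G1,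
      g = b * nWordGL D hD K Jidx * b'} = Nat.card ↥(D.borelSubgroup K ⊓ G1) *
      Nat.card ↥(Subgroup.closure (gensL D K (Jidx.map D.simple)) ⊓ fixSigma D pv pv' ρ ρ' ε hG K φ) := by
  rw [← Nat.card_prod]
  symm
  apply Nat.card_congr
  have hxB : ∀ x ∈ Subgroup.closure (gensL D K (Jidx.map D.simple)) ⊓ fixSigma D pv pv' ρ ρ' ε hG K φ,
      x ∈ D.borelSubgroup K ⊓ G1 := by
    intro x hx
    rw [Subgroup.mem_inf]
    refine ⟨posUnipotent_le_borel D hD K ?_,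
      class_fixed_le D hD pv pv' ρ ρ' ε hG K φ A hA hO cls hT G1 simpIdx simpCls hF _ hJS x hx⟩
    rw [posUnipotent_eq_sup_restL D hD K Jidx hC]
    exact Subgroup.mem_sup_right (Subgroup.mem_inf.mp hx).1
  refine Equiv.ofBijective (fun p => ⟨(p.1 : GL D.Idx K) * nWordGL D hD K Jidx * (p.2 : GL D.Idx K), ?_⟩)
    ⟨?_, ?_⟩
  · exact ⟨p.1.1, p.1.2, p.2.1, hxB _ p.2.2, rfl⟩
  · rintro ⟨⟨b, hb⟩, ⟨x, hx⟩⟩ ⟨⟨b', hb'⟩, ⟨x', hx'⟩⟩ he
    have he' : b * nWordGL D hD K Jidx * x = b' * nWordGL D hD K Jidx * x' := congrArg Subtype.val he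
    have e : nWordGL D hD K Jidx * (x * x'⁻¹) * (nWordGL D hD K Jidx)⁻¹ = b⁻¹ * b' := by
      have : b' = b * nWordGL D hD K Jidx * x * x'⁻¹ * (nWordGL D hD K Jidx)⁻¹ := by rw [he']; group
      rw [this]; group
    have hm : nWordGL D hD K Jidx * (x * x'⁻¹) * (nWordGL D hD K Jidx)⁻¹ ∈
        D.borelSubgroup K ⊓ D.negUnipotent K := by
      rw [Subgroup.mem_inf]
      refine ⟨?_, conj_simple_class_mem_neg D hD K Jidx hC _ (Subgroup.mul_mem _ (Subgroup.mem_inf.mp hx).1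
        (Subgroup.inv_mem _ (Subgroup.mem_inf.mp hx').1))⟩
      rw [e]
      exact Subgroup.mul_mem _ (Subgroup.inv_mem _ (Subgroup.mem_inf.mp hb).1) (Subgroup.mem_inf.mp hb').1
    rw [borel_inf_negUnipotent D hD K, Subgroup.mem_bot] at hm
    have hx1 : x = x' := by
      have : x * x'⁻¹ = 1 := by
        have e3 : x * x'⁻¹ = (nWordGL D hD K Jidx)⁻¹ *
            (nWordGL D hD K Jidx * (x * x'⁻¹) * (nWordGL D hD K Jidx)⁻¹) * nWordGL D hD K Jidx := by group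
        rw [e3, hm]; group
      exact mul_inv_eq_one.mp this
    have hb1 : b = b' := by
      rw [hm] at e
      exact (inv_mul_eq_one.mp e.symm)
    subst hx1 hb1
    rfl
  · rintro ⟨g, b, hb, b', hb', rfl⟩
    obtain ⟨c, hc, x, hx, rfl, hcc⟩ := borel_decomp_class D hD pv pv' ρ ρ' ε hG K φ A hA hO cls hT G1 simpIdx
      simpCls hF Jidx hC hJ hJS b' hb'
    refine ⟨(⟨b * (nWordGL D hD K Jidx * c * (nWordGL D hD K Jidx)⁻¹), Subgroup.mul_mem _ hb hcc⟩, ⟨x, hx⟩), ?_⟩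
    apply Subtype.ext
    show b * (nWordGL D hD K Jidx * c * (nWordGL D hD K Jidx)⁻¹) * nWordGL D hD K Jidx * x =
      b * nWordGL D hD K Jidx * (c * x)
    group

end

end Cfsg.Agent.Lib.Helper7
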