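import Cfsg.Agent.Lib.Helper7.ChevTwistCore

/-! Twisted groups: the `σ`-fixed points of the Chevalley group lie in the group generated by the fixed root
class elements, given the table fact on the `ρ`-stable part of the Weyl group and the torus (helper7). -/

set_option autoImplicit false

namespace Cfsg.Agent.Lib.Helper7

open Cfsg Cfsg.Lie Matrix

section
variable (D : ChevalleyDatum) (hD : D ∈ [chevG2, chevB2, chevD4, chevF4, chevE6, chevE7, chevE8])
variable (K : Type*) [Field K]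
include hD

/-- `U_n⁻` only depends on the class of `n` modulo `H` -/
theorem uMinus_diag_mul (h n : GL D.Idx K) (hh : h ∈ D.diagonalSubgroup K) :
    uMinus D K (h * n) = uMinus D K n := by
  have hnorm := diagonalSubgroup_le_normalizer_negUnipotent D hD K
  have key : ∀ r : ℕ, ((D.rootSubgroup K r).map (MulAut.conj (h * n)).toMonoidHom ≤ D.negUnipotent K ↔
      (D.rootSubgroup K r).map (MulAut.conj n).toMonoidHom ≤ D.negUnipotent K) := by
    intro r
    rw [map_conj_le_iff D hD K, map_conj_le_iff D hD K]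
    constructor
    · intro h1 t
      have h2 := (Subgroup.mem_set_normalizer_iff.mp (hnorm (Subgroup.inv_mem _ hh)) _).mp (h1 t)
      have e : h⁻¹ * (h * n * xGL D hD K r t * (h * n)⁻¹) * h⁻¹⁻¹ = n * xGL D hD K r t * n⁻¹ := by group
      rwa [e] at h2
    · intro h1 t
      have h2 := (Subgroup.mem_set_normalizer_iff.mp (hnorm hh) _).mp (h1 t)
      have e : h * (n * xGL D hD K r t * n⁻¹) * h⁻¹ = h * n * xGL D hD K r t * (h * n)⁻¹ := by group
      rwa [e] at h2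
  unfold uMinus
  congr 1
  ext x
  constructor
  · rintro ⟨r, t, hr, hle, hx⟩
    exact ⟨r, t, hr, (key r).mp hle, hx⟩
  · rintro ⟨r, t, hr, hle, hx⟩
    exact ⟨r, t, hr, (key r).mpr hle, hx⟩

end

section
variable (D : ChevalleyDatum) (hD : D ∈ [chevG2, chevB2, chevD4, chevF4, chevE6, chevE7, chevE8])
variable (pv pv' ρ ρ' : ℕ → ℕ) (ε : ℕ → ℤ) (hG : GraphFacts D pv pv' ρ ρ' ε)
variable (K : Type*) [Field K] (φ : K ≃+* K)
include hD

/-- the action on the roots of an element of `N` whose class modulo `H` is `σ`-fixed commutes with `ρ` -/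
theorem actsAs_comm_rho_mod (n : GL D.Idx K)
    (hn : n⁻¹ * sigmaGL D pv pv' ρ ρ' ε hG K φ n ∈ D.diagonalSubgroup K) (g : ℕ → ℕ)
    (hact : ActsAs D hD K n g) (r : ℕ) (hr : r < D.nroots) : g (ρ r) = ρ (g r) := by
  have hact' : ActsAs D hD K (sigmaGL D pv pv' ρ ρ' ε hG K φ n) (g ∘ id) := by
    have := ActsAs.mul D K hact (actsAs_diag D hD K _ hn)
    have e : n * (n⁻¹ * sigmaGL D pv pv' ρ ρ' ε hG K φ n) = sigmaGL D pv pv' ρ ρ' ε hG K φ n := by group
    rwa [e] at this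
  obtain ⟨hlt1, c1, hc1, h1⟩ := hact r hr
  obtain ⟨hlt2, c2, hc2, h2⟩ := hact' (ρ r) (hG.ρlt r hr)
  have e1 : sigmaGL D pv pv' ρ ρ' ε hG K φ (n * xGL D hD K r 1 * n⁻¹) =
      xGL D hD K (g (ρ r)) (c2 * (((ε r : ℤ) : K) * φ 1)) := by
    rw [map_mul, map_mul, map_inv, sigmaGL_xGL D hD pv pv' ρ ρ' ε hG K φ r hr, h2]
    rfl
  have e2 : sigmaGL D pv pv' ρ ρ' ε hG K φ (n * xGL D hD K r 1 * n⁻¹) =
      xGL D hD K (ρ (g r)) (((ε (g r) : ℤ) : K) * φ (c1 * 1)) := by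
    rw [h1, sigmaGL_xGL D hD pv pv' ρ ρ' ε hG K φ _ hlt1]
  rw [e1] at e2
  have hlt2' : g (ρ r) < D.nroots := hlt2
  apply xGL_root_inj D hD K _ _ hlt2' (hG.ρlt _ hlt1) _ _ _ e2
  apply mul_ne_zero hc2
  apply mul_ne_zero (eps_cast_ne_zero D pv pv' ρ ρ' ε hG K r hr)
  rw [map_one]; exact one_ne_zero

end

section
variable (D : ChevalleyDatum) (hD : D ∈ [chevG2, chevB2, chevD4, chevF4, chevE6, chevE7, chevE8])
variable (pv pv' ρ ρ' : ℕ → ℕ) (ε : ℕ → ℤ) (hG : GraphFacts D pv pv' ρ ρ' ε)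
variable (K : Type*) [Field K] (φ : K ≃+* K)
variable (A : ℕ → ℤ) (hA : ChainAdd D A) (hO : PosFacts D A) (cls : List (List ℕ))
variable (hT : TwistFacts D ρ ρ' A cls)
variable (G1 : Subgroup (GL D.Idx K)) (simpIdx simpCls : List (List ℕ))
variable (hF : TwistGroupFacts D hD pv pv' ρ ρ' ε hG K φ cls G1 simpIdx simpCls)
include hD hA hO hT hF

/-- the `σ`-fixed points of the Chevalley group lie in `G¹` -/
theorem group_inf_fixSigma_le (cert : List (List ℕ × ℕ))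
    (hcert : certOKB D simpIdx simpCls cls cert = true)
    (hW : ∀ L : List ℕ, (∀ i ∈ L, i < D.rank) →
      (∀ s < D.nroots, reflWord D L (ρ s) = ρ (reflWord D L s)) →
        ∃ Js : List (List ℕ), (∀ J ∈ Js, J ∈ simpIdx) ∧
          ∀ s < D.nroots, reflWord D L s = reflWord D Js.flatten s)
    (hTor : D.diagonalSubgroup K ⊓ fixSigma D pv pv' ρ ρ' ε hG K φ ≤ G1) :
    D.group K ⊓ fixSigma D pv pv' ρ ρ' ε hG K φ ≤ G1 := by
  intro g hg
  rw [Subgroup.mem_inf] at hg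
  obtain ⟨hgG, hfix⟩ := hg
  have hρ := rho_pos_of_twistFacts D ρ ρ' A cls hT
  obtain ⟨b, hb, n, hn, u, hu, rfl⟩ := canon_exists D hD K g hgG
  -- the class of `n` is `σ`-stable
  have hσ : sigmaGL D pv pv' ρ ρ' ε hG K φ b * sigmaGL D pv pv' ρ ρ' ε hG K φ n *
      sigmaGL D pv pv' ρ ρ' ε hG K φ u = b * n * u := by
    rw [← map_mul, ← map_mul]; exact hfix
  have hcu := canon_unique D hD K _ b _ n _ u (sigma_borel D hD pv pv' ρ ρ' ε hG K φ hρ b hb) hb
    (sigma_monomial D hD pv pv' ρ ρ' ε hG K φ n hn) hn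
    (sigma_uMinus D hD pv pv' ρ ρ' ε hG K φ hρ n u hu) hu hσ
  have hnH : n⁻¹ * sigmaGL D pv pv' ρ ρ' ε hG K φ n ∈ D.diagonalSubgroup K := by
    have := Subgroup.inv_mem _ hcu.1
    have e : ((sigmaGL D pv pv' ρ ρ' ε hG K φ n)⁻¹ * n)⁻¹ = n⁻¹ * sigmaGL D pv pv' ρ ρ' ε hG K φ n := by
      group
    rwa [e] at this
  obtain ⟨L, hL, hact⟩ := exists_actsAs D hD K n hn
  have hcomm := actsAs_comm_rho_mod D hD pv pv' ρ ρ' ε hG K φ n hnH _ hact
  obtain ⟨Js, hJs, hJe⟩ := hW L hL hcomm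
  have hlt : ∀ i ∈ Js.flatten, i < D.rank := by
    intro i hi
    obtain ⟨J, hJ, hiJ⟩ := List.mem_flatten.mp hi
    exact hF.n_lt J (hJs J hJ) i hiJ
  obtain ⟨nw, hnw⟩ : ∃ x, x = nWordGL D hD K Js.flatten := ⟨_, rfl⟩
  have hnwG : nw ∈ G1 := by
    rw [hnw]
    exact nWordGL_flatten_mem D hD K G1 Js (fun J hJ => hF.n_mem J (hJs J hJ))
  have hnwN : nw ∈ D.monomialSubgroup K := by
    rw [hnw]; exact nWordGL_mem_monomial D hD K _ hlt
  have hnwA : ActsAs D hD K nw (reflWord D Js.flatten) := by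
    rw [hnw]; exact actsAs_nWordGL D hD K _ hlt
  have hnwAi : ActsAs D hD K nw⁻¹ (reflWord D Js.flatten.reverse) := by
    rw [hnw]; exact actsAs_nWordGL_inv D hD K _ hlt
  -- `n = h₀ n_w`
  obtain ⟨h0, hh0⟩ : ∃ x, x = n * nw⁻¹ := ⟨_, rfl⟩
  have hh0H : h0 ∈ D.diagonalSubgroup K := by
    rw [hh0]
    apply mem_diagonal_of_actsAs_id D hD K _
      (Subgroup.mul_mem _ hn (Subgroup.inv_mem _ hnwN)) _ (ActsAs.mul D K hact hnwAi)
    intro s hs
    have h1 := ActsAs.mul D K hnwA hnwAi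
    rw [mul_inv_cancel] at h1
    have h2 := ActsAs.unique D hD K h1 (actsAs_diag D hD K 1 (Subgroup.one_mem _)) s hs
    obtain ⟨hlt', -⟩ := hnwAi s hs
    show reflWord D L (reflWord D Js.flatten.reverse s) = s
    rw [hJe _ hlt']
    exact h2
  have hn_eq : n = h0 * nw := by rw [hh0]; group
  have hu' : u ∈ uMinus D K nw := by
    rw [hn_eq, uMinus_diag_mul D hD K h0 nw hh0H] at hu
    exact hu
  have hb' : b * h0 ∈ D.borelSubgroup K :=
    Subgroup.mul_mem _ hb (diagonal_le_borel D hD K hh0H)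
  have hg_eq : b * n * u = (b * h0) * nw * u := by rw [hn_eq]; group
  rw [hg_eq] at hfix ⊢
  obtain ⟨hbf, huf⟩ := fixed_canon D hD pv pv' ρ ρ' ε hG K φ hρ (b * h0) nw u hb' hnwN hu'
    (hF.le_fix hnwG) hfix
  have hUle := posUnipotent_inf_fixSigma_le D hD pv pv' ρ ρ' ε hG K φ A hA hO cls hT G1 simpIdx simpCls hF
    cert hcert
  have huG : u ∈ G1 :=
    hUle (Subgroup.mem_inf.mpr ⟨uMinus_le_posUnipotent D K nw hu', huf⟩)
  have hbG : b * h0 ∈ G1 := by
    have hB' : b * h0 ∈ ((D.borelSubgroup K : Subgroup (GL D.Idx K)) : Set (GL D.Idx K)) := hb'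
    rw [borel_eq_mul D hD K] at hB'
    obtain ⟨h, hh, u1, hu1, he⟩ := Set.mem_mul.mp hB'
    rw [← he] at hbf ⊢
    obtain ⟨hhf, hu1f⟩ := fixed_borel D hD pv pv' ρ ρ' ε hG K φ hρ h u1 hh hu1 hbf
    exact Subgroup.mul_mem _ (hTor (Subgroup.mem_inf.mpr ⟨hh, hhf⟩))
      (hUle (Subgroup.mem_inf.mpr ⟨hu1, hu1f⟩))
  exact Subgroup.mul_mem _ (Subgroup.mul_mem _ hbG hnwG) huG

end

end Cfsg.Agent.Lib.Helper7
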