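import Cfsg.Agent.Lib.Helper7.ChevTwistRank1

/-! Twisted groups: decomposition of `B ∩ G¹` along a simple class (helper7). -/

set_option autoImplicit false

namespace Cfsg.Agent.Lib.Helper7

open Cfsg Cfsg.Lie Matrix

section
variable (D : ChevalleyDatum) (hD : D ∈ [chevG2, chevB2, chevD4, chevF4, chevE6, chevE7, chevE8])
variable (pv pv' ρ ρ' : ℕ → ℕ) (ε : ℕ → ℤ) (hG : GraphFacts D pv pv' ρ ρ' ε)
variable (K : Type*) [Field K] (φ : K ≃+* K)
variable (A : ℕ → ℤ) (hA : ChainAdd D A) (hO : PosFacts D A) (cls : List (List ℕ))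
variable (hT : TwistFacts D ρ ρ' A cls)

omit hG in
include hT in
/-- `ρ` permutes the positive roots -/
theorem rho_pos_of_twistFacts : ∀ r, D.IsPosRoot r → D.IsPosRoot (ρ r) := by
  intro r hr
  have hmem := hT.all r hr
  obtain ⟨S, hS, hrS⟩ := List.mem_flatten.mp hmem
  have : ρ r ∈ S := (hT.perm S hS).subset (List.mem_map_of_mem hrS)
  exact hT.good.pos _ (List.mem_flatten.mpr ⟨S, hS, this⟩)

include hG in
omit hT in
/-- `ρ'` maps a `ρ`-stable list into itself -/
theorem rhoInv_mem_of_perm (S : List ℕ) (hS : ∀ r ∈ S, r < D.nroots) (hperm : (S.map ρ).Perm S) (s : ℕ)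
    (hs : s ∈ S) : ρ' s ∈ S := by
  have : s ∈ S.map ρ := hperm.symm.subset hs
  rw [List.mem_map] at this
  obtain ⟨s', hs', rfl⟩ := this
  rw [hG.ρinv s' (hS s' hs')]
  exact hs'

include hD hA hO hT

/-- a `σ`-fixed element of the group generated by the root subgroups of a class is an ordered product
with twisted parameters -/
theorem class_fixed_param (S : List ℕ) (hS : S ∈ cls) (x : GL D.Idx K)
    (hx : x ∈ Subgroup.closure (gensL D K S) ⊓ fixSigma D pv pv' ρ ρ' ε hG K φ) :
    ∃ t : ℕ → K, x = ordProd D hD K S t ∧ ∀ r ∈ S, t r = twistFn ρ' ε K φ t r := by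
  rw [Subgroup.mem_inf] at hx
  have hndS : S.Nodup :=
    (List.nodup_flatten.mp (flatten_nodup D hD ρ ρ' A hA hO cls hT)).1 S hS
  obtain ⟨t, ht⟩ := mem_closure_gensL_comm D hD K S hndS
    (class_commute D hD ρ ρ' K A hA hO cls hT S hS) x hx.1
  have hfix := hx.2
  rw [mem_fixSigma, ht, sigmaGL_ordProd_class D hD pv pv' ρ ρ' ε hG K φ S
    (class_pos D hD ρ ρ' A hA hO cls hT S hS) (hT.perm S hS) (hT.comm S hS) ⟨A, hA, hO⟩] at hfix
  have hcon := ordProd_class_inj D hD ρ ρ' K A hA hO cls hT S hS _ _ hfix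
  exact ⟨t, ht, fun r hr => (hcon r hr).symm⟩

include hG in
/-- the parameters of a nontrivial twisted ordered product over a class are all nonzero -/
theorem class_param_ne_zero (m : ℕ) (S : List ℕ) (hS : S ∈ cls) (hsh : ClassShape ρ' ε m S) (t : ℕ → K)
    (ht : ∀ r ∈ S, t r = twistFn ρ' ε K φ t r) (hne : ordProd D hD K S t ≠ 1) : ∀ r ∈ S, t r ≠ 0 := by
  have hlt : ∀ r ∈ S, r < D.nroots := fun r hr => (class_pos D hD ρ ρ' A hA hO cls hT S hS r hr).1
  have hz : ∀ a ∈ S, ∀ b ∈ S, ρ' a = b → (t a = 0 ↔ t b = 0) := by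
    intro a ha b hb hab
    have h1 := ht a ha
    unfold twistFn at h1
    rw [hab] at h1
    have he := eps_cast_ne_zero D pv pv' ρ ρ' ε hG K b (hlt b hb)
    constructor
    · intro h0
      rw [h0] at h1
      have := (mul_eq_zero.mp h1.symm).resolve_left he
      exact (map_eq_zero_iff φ φ.injective).mp this
    · intro h0
      rw [h1, h0, map_zero, mul_zero]
  rcases hsh with ⟨r, rfl, -, -⟩ | ⟨-, r, s, rfl, -, h1, h2, -⟩ | ⟨-, r, s, v, rfl, -, -, -, h, -⟩
  · intro x hx h0
    rw [List.mem_singleton] at hx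
    subst hx
    apply hne
    rw [ordProd_cons, ordProd_nil, h0, xGL_zero, mul_one]
  · have e := hz r (by simp) s (by simp) h1
    intro x hx h0
    apply hne
    have hr0 : t r = 0 := by
      simp only [List.mem_cons, List.not_mem_nil, or_false] at hx
      rcases hx with rfl | rfl
      · exact h0
      · exact e.mpr h0
    rw [ordProd_cons, ordProd_cons, ordProd_nil, hr0, e.mp hr0, xGL_zero, xGL_zero, mul_one, mul_one]
  · have hall : t r = 0 → t s = 0 ∧ t v = 0 := by
      intro h0
      rcases h with ⟨h1, h2, h3⟩ | ⟨h1, h2, h3⟩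
      · have e1 := hz r (by simp) v (by simp) h1
        have e2 := hz s (by simp) r (by simp) h2
        exact ⟨e2.mpr h0, e1.mp h0⟩
      · have e1 := hz r (by simp) s (by simp) h1
        have e3 := hz v (by simp) r (by simp) h3
        exact ⟨e1.mp h0, e3.mpr h0⟩
    have hr : ∀ x ∈ [r, s, v], t x = 0 → t r = 0 := by
      intro x hx h0
      simp only [List.mem_cons, List.not_mem_nil, or_false] at hx
      rcases h with ⟨h1, h2, h3⟩ | ⟨h1, h2, h3⟩
      · have e1 := hz r (by simp) v (by simp) h1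
        have e2 := hz s (by simp) r (by simp) h2
        have e3 := hz v (by simp) s (by simp) h3
        rcases hx with rfl | rfl | rfl
        · exact h0
        · exact e2.mp h0
        · exact e1.mpr h0
      · have e1 := hz r (by simp) s (by simp) h1
        have e2 := hz s (by simp) v (by simp) h2
        have e3 := hz v (by simp) r (by simp) h3
        rcases hx with rfl | rfl | rfl
        · exact h0
        · exact e1.mpr h0
        · exact e3.mp h0
    intro x hx h0
    apply hne
    have hr0 := hr x hx h0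
    obtain ⟨hs0, hv0⟩ := hall hr0
    rw [ordProd_cons, ordProd_cons, ordProd_cons, ordProd_nil, hr0, hs0, hv0, xGL_zero, xGL_zero, xGL_zero,
      mul_one, mul_one, mul_one]

end

end Cfsg.Agent.Lib.Helper7
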