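import Cfsg.Agent.Lib.Helper7.ChevTwistRank2

/-! Twisted groups: the unipotent radical attached to a simple class (helper7). -/

set_option autoImplicit false

namespace Cfsg.Agent.Lib.Helper7

open Cfsg Cfsg.Lie Matrix

/-- the positive roots outside a list -/
def restL (D : ChevalleyDatum) (S : List ℕ) : List ℕ := D.posRoots.filter fun r => !S.contains r

theorem mem_restL (D : ChevalleyDatum) (S : List ℕ) (r : ℕ) : r ∈ restL D S ↔ D.IsPosRoot r ∧ r ∉ S := by
  unfold restL
  rw [List.mem_filter, mem_posRoots]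
  simp

section
variable (D : ChevalleyDatum) (hD : D ∈ [chevG2, chevB2, chevD4, chevF4, chevE6, chevE7, chevE8])
variable (K : Type*) [Field K]
variable (A : ℕ → ℤ) (hA : ChainAdd D A) (hO : PosFacts D A)
variable (Jidx : List ℕ) (hC : SimpClassFacts D Jidx)
include hD hC

omit A hA hO in
theorem simple_class_lt : ∀ r ∈ Jidx.map D.simple, r < D.nroots := by
  intro r hr
  rw [List.mem_map] at hr
  obtain ⟨i, hi, rfl⟩ := hr
  exact (fundFacts_of_mem D hD i (hC.lt i hi)).hp

omit A hA hO in
theorem simple_class_pos : ∀ r ∈ Jidx.map D.simple, D.IsPosRoot r := by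
  intro r hr
  rw [List.mem_map] at hr
  obtain ⟨i, hi, rfl⟩ := hr
  exact (parFacts_of_mem D hD).simplePos i (hC.lt i hi)

omit A hA hO in
/-- `n_J` maps the root subgroups of the class into `V` -/
theorem conj_simple_class_mem_neg (x : GL D.Idx K)
    (hx : x ∈ Subgroup.closure (gensL D K (Jidx.map D.simple))) :
    nWordGL D hD K Jidx * x * (nWordGL D hD K Jidx)⁻¹ ∈ D.negUnipotent K := by
  have hact := actsAs_nWordGL D hD K Jidx hC.lt
  have h1 := conj_closure_gensL D hD K _ _ hact _ (simple_class_lt D hD Jidx hC) x hx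
  have hle : Subgroup.closure (gensL D K ((Jidx.map D.simple).map (reflWord D Jidx))) ≤ D.negUnipotent K := by
    rw [Subgroup.closure_le]
    rintro g ⟨r, hr, a, hg⟩
    have hg' : g = xGL D hD K r a := Units.ext (by rw [hg, coe_xGL])
    rw [List.map_map, List.mem_map] at hr
    obtain ⟨i, hi, rfl⟩ := hr
    rw [hg']
    show xGL D hD K (reflWord D Jidx (D.simple i)) a ∈ _
    rw [hC.neg i hi]
    exact xGL_neg_mem D hD K _ (upFacts_of_mem D hD i (hC.lt i hi)).negSimple _
  exact hle h1

omit A hA hO in
/-- `n_J` maps the root subgroups of the other positive roots into `U` -/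
theorem conj_restL_mem_pos (x : GL D.Idx K)
    (hx : x ∈ Subgroup.closure (gensL D K (restL D (Jidx.map D.simple)))) :
    nWordGL D hD K Jidx * x * (nWordGL D hD K Jidx)⁻¹ ∈ D.posUnipotent K := by
  have hact := actsAs_nWordGL D hD K Jidx hC.lt
  have hlt : ∀ r ∈ restL D (Jidx.map D.simple), r < D.nroots :=
    fun r hr => ((mem_restL D _ r).mp hr).1.1
  have h1 := conj_closure_gensL D hD K _ _ hact _ hlt x hx
  have hle : Subgroup.closure (gensL D K ((restL D (Jidx.map D.simple)).map (reflWord D Jidx))) ≤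
      D.posUnipotent K := by
    rw [Subgroup.closure_le]
    rintro g ⟨r, hr, a, hg⟩
    have hg' : g = xGL D hD K r a := Units.ext (by rw [hg, coe_xGL])
    rw [List.mem_map] at hr
    obtain ⟨s, hs, rfl⟩ := hr
    rw [hg']
    have hs' := (mem_restL D _ s).mp hs
    exact xGL_pos_mem D hD K _ (hC.pos s hs'.1.1 hs'.1 hs'.2) _
  exact hle h1

include hA hO

/-- the root subgroups of the class normalise the group generated by the other positive root subgroups -/
theorem simple_class_le_normalizer_restL :
    Subgroup.closure (gensL D K (Jidx.map D.simple)) ≤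
      Subgroup.normalizer (Subgroup.closure (gensL D K (restL D (Jidx.map D.simple))) : Set (GL D.Idx K)) := by
  rw [Subgroup.closure_le]
  rintro g ⟨a, ha, u, hg⟩
  have hg' : g = xGL D hD K a u := Units.ext (by rw [hg, coe_xGL])
  rw [hg']
  rw [List.mem_map] at ha
  obtain ⟨i, hi, rfl⟩ := ha
  have hilt := hC.lt i hi
  have hF := fundFacts_of_mem D hD i hilt
  have key : ∀ u : K, ∀ y ∈ gensL D K (restL D (Jidx.map D.simple)),
      xGL D hD K (D.simple i) u * y * (xGL D hD K (D.simple i) u)⁻¹ ∈
        Subgroup.closure (gensL D K (restL D (Jidx.map D.simple))) := by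
    rintro u y ⟨r, hr, t, hym⟩
    have hy : y = xGL D hD K r t := Units.ext (by rw [hym, coe_xGL])
    have hr' := (mem_restL D _ r).mp hr
    have hne : r ≠ D.simple i := by
      rintro rfl
      exact hr'.2 (List.mem_map_of_mem hi)
    have hnn : r ≠ D.neg (D.simple i) := by
      rintro rfl
      have h1 := hO.pos _ hr'.1
      have h2 := A_neg_of_negA D hD A hA hO _ (upFacts_of_mem D hD i hilt).negSimple
      omega
    rw [hy, xGL_conj_xGL D hD K _ r hF.hp hr'.1.1 hne hnn u t]
    apply Subgroup.mul_mem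
    · apply Subgroup.subset_closure
      exact ⟨r, hr, t, coe_xGL D hD K _ _⟩
    · unfold wordGL
      apply Subgroup.list_prod_mem
      intro g hg
      rw [List.mem_map] at hg
      obtain ⟨p, hp, rfl⟩ := hg
      unfold ChevalleyDatum.commWord at hp
      rw [List.mem_map] at hp
      obtain ⟨c, hc, rfl⟩ := hp
      have := hC.norm i hi r hr'.1.1 hr'.1 hr'.2 c hc
      apply Subgroup.subset_closure
      exact ⟨c.1, (mem_restL D _ _).mpr this, _, coe_xGL D hD K _ _⟩
  apply mem_normalizer_closure
  · exact key u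
  · intro y hy
    rw [xGL_inv]
    exact key (-u) y hy

omit hA hO in
/-- `U` is generated by the class root subgroups and the other positive root subgroups -/
theorem posUnipotent_eq_sup_restL :
    D.posUnipotent K = Subgroup.closure (gensL D K (restL D (Jidx.map D.simple))) ⊔
      Subgroup.closure (gensL D K (Jidx.map D.simple)) := by
  rw [← Subgroup.closure_union, posUnipotent_eq_closure_gensL]
  congr 1
  ext g
  constructor
  · rintro ⟨r, hr, t, hg⟩
    by_cases hrS : r ∈ Jidx.map D.simple
    · exact Or.inr ⟨r, hrS, t, hg⟩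
    · exact Or.inl ⟨r, (mem_restL D _ r).mpr ⟨(mem_posRoots D r).mp hr, hrS⟩, t, hg⟩
  · rintro (⟨r, hr, t, hg⟩ | ⟨r, hr, t, hg⟩)
    · exact ⟨r, (mem_posRoots D r).mpr ((mem_restL D _ r).mp hr).1, t, hg⟩
    · exact ⟨r, (mem_posRoots D r).mpr (simple_class_pos D hD Jidx hC r hr), t, hg⟩

/-- every element of `U` is a product `c x` with `c ∈ U_J` and `x` in the class root subgroups -/
theorem posUnipotent_decomp (u : GL D.Idx K) (hu : u ∈ D.posUnipotent K) :
    ∃ c ∈ Subgroup.closure (gensL D K (restL D (Jidx.map D.simple))),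
      ∃ x ∈ Subgroup.closure (gensL D K (Jidx.map D.simple)), u = c * x := by
  rw [posUnipotent_eq_sup_restL D hD K Jidx hC] at hu
  have hu' : u ∈ ((Subgroup.closure (gensL D K (restL D (Jidx.map D.simple))) ⊔
      Subgroup.closure (gensL D K (Jidx.map D.simple)) : Subgroup (GL D.Idx K)) : Set (GL D.Idx K)) := hu
  rw [Subgroup.coe_mul_of_right_le_normalizer_left _ _
    (simple_class_le_normalizer_restL D hD K A hA hO Jidx hC)] at hu'
  obtain ⟨c, hc, x, hx, rfl⟩ := Set.mem_mul.mp hu'
  exact ⟨c, hc, x, hx, rfl⟩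

end

end Cfsg.Agent.Lib.Helper7
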