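import Cfsg.Agent.Lib.Helper7.ChevTwistTab
import Cfsg.Agent.Lib.Helper7.ChevGraphTab
import Cfsg.Agent.Lib.Helper7.ChevOrdTab
import Cfsg.Prelude.Def_LieTwisted

/-! Twisted groups: the tables for type D4 (helper7). -/

set_option autoImplicit false
set_option maxRecDepth 100000

namespace Cfsg.Agent.Lib.Helper7

open Cfsg Cfsg.Lie Matrix

def twW_D4 : List ℤ := [110007, 202014, 110009, 110010]
def twCls_D4 : List (List ℕ) := [[18, 13, 12], [14], [19, 16, 15], [21, 20, 17], [22], [23]]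
def twSimpIdx_D4 : List (List ℕ) := [[1], [0, 2, 3]]
def twSimpCls_D4 : List (List ℕ) := [[14], [18, 13, 12]]
def twCert_D4 : List (List ℕ × ℕ) := [([], 1), ([], 0), ([0], 1), ([1, 0], 1), ([1], 0), ([0, 1], 0)]

theorem twistOKB_D4 : twistOKB chevD4 grRho_D4_1 twW_D4 twCls_D4 = true := by decide +kernel
theorem twShape_D4 : (twCls_D4.all fun S => classShapeB grRhoInv_D4_1 grEps_D4_1 3 S) = true := by decide +kernel
theorem twGenOKB_D4 : twGenOKB chevD4 grRho_D4_1 grEps_D4_1 [d4p2, d4m2] [] [(d4p1, d4p3, d4p4), (d4m1, d4m3, d4m4)] = true := by decide +kernel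
theorem twNsh_D4 : (twSimpIdx_D4.all fun J => nShapeB chevD4 [d4p2, d4m2] [] [(d4p1, d4p3, d4p4), (d4m1, d4m3, d4m4)] J) = true := by decide +kernel
theorem twSsh_D4 : (twSimpCls_D4.all fun J => simpShapeB [d4p2, d4m2] [] [(d4p1, d4p3, d4p4), (d4m1, d4m3, d4m4)] J && twCls_D4.contains J) = true := by decide +kernel
theorem twCertOKB_D4 : certOKB chevD4 twSimpIdx_D4 twSimpCls_D4 twCls_D4 twCert_D4 = true := by decide +kernel

theorem twistTab_D4 : TwistTab chevD4 grPv_D4_1 grPvInv_D4_1 grRho_D4_1 grRhoInv_D4_1 grEps_D4_1 twW_D4 twCls_D4 3 [d4p2, d4m2] [] [(d4p1, d4p3, d4p4), (d4m1, d4m3, d4m4)] twSimpIdx_D4 twSimpCls_D4 twCert_D4 where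
  graph := graphOKB_D4_1
  prim := (ordFacts_of_ordOKB _ _ ordOKB_D4).prim
  twist := twistOKB_D4
  shape := twShape_D4
  gen := twGenOKB_D4
  nsh := twNsh_D4
  ssh := twSsh_D4
  cert := twCertOKB_D4
  m2 := fun h => absurd rfl h
  m3 := fun _ => rfl

theorem twCls_D4_length : twCls_D4.flatten.length = 12 := by decide

end Cfsg.Agent.Lib.Helper7
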