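import Cfsg.Agent.Lib.Helper7.ChevTwistTab
import Cfsg.Agent.Lib.Helper7.ChevGraphTab
import Cfsg.Agent.Lib.Helper7.ChevOrdTab
import Cfsg.Prelude.Def_LieTwisted

/-! Twisted groups: the tables for type E6 (helper7). -/

set_option autoImplicit false
set_option maxRecDepth 100000

namespace Cfsg.Agent.Lib.Helper7

open Cfsg Cfsg.Lie Matrix

def twW_E6 : List ℤ := [104019, 163028, 199038, 289055, 199041, 104023]
def twCls_E6 : List (List ℕ) := [[42, 37], [56, 36], [57, 38], [39], [43, 40], [44], [58, 41], [59, 45], [46], [60], [47], [50, 48], [51], [61, 49], [62, 52], [53], [63], [64, 54], [67, 55], [65], [68, 66], [69], [70], [71]]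
def twSimpIdx_E6 : List (List ℕ) := [[1], [3], [0, 5], [2, 4]]
def twSimpCls_E6 : List (List ℕ) := [[46], [39], [56, 36], [42, 37]]
def twCert_E6 : List (List ℕ × ℕ) := [([], 3), ([], 2), ([2], 3), ([], 1), ([1], 3), ([3], 1), ([1, 2], 3), ([3, 1, 2], 3), ([], 0), ([2, 3], 1), ([0], 1), ([0, 1], 3), ([0, 3], 1), ([0, 1, 2], 3), ([0, 3, 1, 2], 3), ([1, 0, 3], 1), ([0, 2, 3], 1), ([1, 0, 3, 1, 2], 3), ([3, 1, 0, 3, 1, 2], 3), ([1, 0, 2, 3], 1), ([2, 3, 1, 0, 3, 1, 2], 3), ([3, 1, 0, 2, 3], 1), ([1, 3, 1, 0, 2, 3], 1), ([0, 1, 3, 1, 0, 2, 3], 1)]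

theorem twistOKB_E6 : twistOKB chevE6 grRho_E6_1 twW_E6 twCls_E6 = true := by decide +kernel
theorem twShape_E6 : (twCls_E6.all fun S => classShapeB grRhoInv_E6_1 grEps_E6_1 2 S) = true := by decide +kernel
theorem twGenOKB_E6 : twGenOKB chevE6 grRho_E6_1 grEps_E6_1 [e6p2, e6m2, e6p4, e6m4] [(e6p1, e6p6), (e6m1, e6m6), (e6p3, e6p5), (e6m3, e6m5)] [] = true := by decide +kernel
theorem twNsh_E6 : (twSimpIdx_E6.all fun J => nShapeB chevE6 [e6p2, e6m2, e6p4, e6m4] [(e6p1, e6p6), (e6m1, e6m6), (e6p3, e6p5), (e6m3, e6m5)] [] J) = true := by decide +kernel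
theorem twSsh_E6 : (twSimpCls_E6.all fun J => simpShapeB [e6p2, e6m2, e6p4, e6m4] [(e6p1, e6p6), (e6m1, e6m6), (e6p3, e6p5), (e6m3, e6m5)] [] J && twCls_E6.contains J) = true := by decide +kernel
theorem twCertOKB_E6 : certOKB chevE6 twSimpIdx_E6 twSimpCls_E6 twCls_E6 twCert_E6 = true := by decide +kernel

theorem twistTab_E6 : TwistTab chevE6 grPv_E6_1 grPvInv_E6_1 grRho_E6_1 grRhoInv_E6_1 grEps_E6_1 twW_E6 twCls_E6 2 [e6p2, e6m2, e6p4, e6m4] [(e6p1, e6p6), (e6m1, e6m6), (e6p3, e6p5), (e6m3, e6m5)] [] twSimpIdx_E6 twSimpCls_E6 twCert_E6 where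
  graph := graphOKB_E6_1
  prim := (ordFacts_of_ordOKB _ _ ordOKB_E6).prim
  twist := twistOKB_E6
  shape := twShape_E6
  gen := twGenOKB_E6
  nsh := twNsh_E6
  ssh := twSsh_E6
  cert := twCertOKB_E6
  m2 := fun _ => rfl
  m3 := fun h => absurd rfl h

theorem twCls_E6_length : twCls_E6.flatten.length = 36 := by decide

end Cfsg.Agent.Lib.Helper7
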