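import Cfsg.Agent.Lib.Helper7.ChevTwistTorusE6b

/-! The order of the torus `H ∩ ²E₆(q)`: the parametrization and its kernel (helper7). -/

set_option autoImplicit false
set_option maxRecDepth 100000

namespace Cfsg.Agent.Lib.Helper7

open Cfsg Cfsg.Lie Matrix

section
variable (K : Type*) [Field K] (φ : K ≃+* K)

/-- the units fixed by `φ` -/
def fixUE6 : Subgroup Kˣ where
  carrier := {u | φ (u : K) = u}
  one_mem' := by simp
  mul_mem' := by
    intro a b ha hb
    simp only [Set.mem_setOf_eq] at *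
    rw [Units.val_mul, map_mul, ha, hb]
  inv_mem' := by
    intro a ha
    simp only [Set.mem_setOf_eq] at *
    rw [Units.val_inv_eq_inv_val, map_inv₀, ha]

theorem card_fixUE6 [Finite K] (q : ℕ) (hfix : Nat.card {a : K // φ a = a} = q) :
    Nat.card (fixUE6 K φ) = q - 1 := by
  rw [← card_fixed_ne_zero K φ q hfix]
  apply Nat.card_congr
  exact
    { toFun := fun u => ⟨(u.1 : K), u.2, Units.ne_zero _⟩
      invFun := fun a => ⟨Units.mk0 a.1 a.2.2, a.2.1⟩
      left_inv := fun u => Subtype.ext (Units.ext rfl)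
      right_inv := fun a => Subtype.ext rfl }

/-- the parameter group of the torus -/
abbrev ParE6 := ↥(fixUE6 K φ) × ↥(fixUE6 K φ) × Kˣ × Kˣ

/-- the twisted parameter family of `(μ₁, μ₃, λ₀, λ₂)` -/
def cE6 (p : ParE6 K φ) : ℕ → K := fun i =>
  if i = 0 then (p.2.2.1 : K) else if i = 1 then ((p.1 : Kˣ) : K) else if i = 2 then (p.2.2.2 : K)
  else if i = 3 then ((p.2.1 : Kˣ) : K) else if i = 4 then φ (p.2.2.2 : K) else if i = 5 then φ (p.2.2.1 : K)
  else 1

theorem cE6_ne_zero (p : ParE6 K φ) (i : ℕ) : cE6 K φ p i ≠ 0 := by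
  unfold cE6
  split_ifs
  · exact Units.ne_zero _
  · exact Units.ne_zero _
  · exact Units.ne_zero _
  · exact Units.ne_zero _
  · exact (map_ne_zero φ).mpr (Units.ne_zero _)
  · exact (map_ne_zero φ).mpr (Units.ne_zero _)
  · exact one_ne_zero

theorem cE6_mul (p p' : ParE6 K φ) (i : ℕ) : cE6 K φ (p * p') i = cE6 K φ p i * cE6 K φ p' i := by
  unfold cE6
  split_ifs <;> simp

theorem cE6_one (i : ℕ) : cE6 K φ (1 : ParE6 K φ) i = 1 := by
  unfold cE6
  split_ifs <;> simp

/-- the parametrization of the torus -/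
noncomputable def psiE6 : ParE6 K φ →* GL chevE6.Idx K where
  toFun p := hC chevE6 chevE6_mem K (cE6 K φ p)
  map_one' := by
    rw [← hC_one chevE6 chevE6_mem K]
    apply hC_congr
    intro i _
    exact cE6_one K φ i
  map_mul' p p' := by
    rw [hC_mul chevE6 chevE6_mem K _ _ (fun i _ => cE6_ne_zero K φ p i) (fun i _ => cE6_ne_zero K φ p' i)]
    apply hC_congr
    intro i _
    exact cE6_mul K φ p p' i

theorem psiE6_apply (p : ParE6 K φ) : psiE6 K φ p = hC chevE6 chevE6_mem K (cE6 K φ p) := rfl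

theorem range_psiE6 (hφ : ∀ a, φ (φ a) = a) :
    (psiE6 K φ).range = twTorus chevE6 chevE6_mem K (fun j => grPv_E6_1.getD j 0) φ := by
  ext g
  constructor
  · rintro ⟨p, rfl⟩
    refine ⟨cE6 K φ p, ?_, rfl⟩
    intro i hi
    refine ⟨cE6_ne_zero K φ p i, ?_⟩
    have hi6 : i < 6 := hi
    interval_cases i
    · show cE6 K φ p 5 = φ (cE6 K φ p 0)
      simp [cE6]
    · show cE6 K φ p 1 = φ (cE6 K φ p 1)
      simp only [cE6]
      simp
      exact p.1.2.symm
    · show cE6 K φ p 4 = φ (cE6 K φ p 2)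
      simp [cE6]
    · show cE6 K φ p 3 = φ (cE6 K φ p 3)
      simp only [cE6]
      simp
      exact p.2.1.2.symm
    · show cE6 K φ p 2 = φ (cE6 K φ p 4)
      simp [cE6, hφ]
    · show cE6 K φ p 0 = φ (cE6 K φ p 5)
      simp [cE6, hφ]
  · rintro ⟨c, hc, rfl⟩
    have hc0 : ∀ i < 6, c i ≠ 0 := fun i hi => (hc i hi).1
    have h1 : c 1 = φ (c 1) := (hc 1 (by decide)).2
    have h3 : c 3 = φ (c 3) := (hc 3 (by decide)).2
    have h5 : c 5 = φ (c 0) := (hc 0 (by decide)).2
    have h4 : c 4 = φ (c 2) := (hc 2 (by decide)).2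
    refine ⟨(⟨Units.mk0 (c 1) (hc0 1 (by decide)), h1.symm⟩, ⟨Units.mk0 (c 3) (hc0 3 (by decide)), h3.symm⟩,
      Units.mk0 (c 0) (hc0 0 (by decide)), Units.mk0 (c 2) (hc0 2 (by decide))), ?_⟩
    rw [psiE6_apply]
    apply hC_congr
    intro i hi
    have hi6 : i < 6 := hi
    interval_cases i
    · simp [cE6]
    · simp [cE6]
    · simp [cE6]
    · simp [cE6]
    · simp [cE6, h4]
    · simp [cE6, h5]

end

end Cfsg.Agent.Lib.Helper7
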