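import Cfsg.Agent.Lib.Helper7.ChevSylow
import Cfsg.Agent.Lib.Helper6.ChevStX1

/-! Leaf L2 of S2441 (helper7): for the seven Chevalley types, `|U| = p ^ v_p(|G|)` and `0 < v_p(|G|)`,
in the shape `Uc D F` used by `Cfsg.Agent.S2318.chevSplit`. -/

set_option autoImplicit false

namespace Cfsg.Agent.Lib.Helper7.ChevUSylow

open Cfsg Cfsg.Lie
open Cfsg.Agent.Lib.Helper7 Cfsg.Agent.Lib.Helper6.ChevSt Cfsg.Agent.Lib.Helper6.ChevStX1

section
variable (D : ChevalleyDatum) (hD : D ∈ [chevG2, chevB2, chevD4, chevF4, chevE6, chevE7, chevE8])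
variable (F : Type*) [Field F] [Fintype F]

include hD

/-- the number of positive roots is positive -/
theorem nroots_half_pos : 0 < D.nroots / 2 := by
  simp only [List.mem_cons, List.not_mem_nil, or_false] at hD
  rcases hD with rfl | rfl | rfl | rfl | rfl | rfl | rfl <;> decide

/-- `|U| = p ^ v_p(|G|)`: the `hUsyl` hypothesis of `SplitBNDefZero.card_defect_zero_blocks_eq_one`
for `R := Cfsg.Agent.S2318.chevSplit D hD F`. -/
theorem card_Uc (p : ℕ) [Fact p.Prime] [CharP F p] :
    Nat.card (Uc D F) = p ^ (Nat.card ↥(D.group F)).factorization p := by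
  obtain ⟨P, hP⟩ := posUnipotent_sylow D hD F p
  have hfin : Finite ↥(D.group F) := finite_group D F
  have h := P.card_eq_multiplicity
  rw [← h]
  show Nat.card ((D.posUnipotent F).subgroupOf (D.group F)) = Nat.card (P : Subgroup ↥(D.group F))
  rw [hP]

/-- `|U| = q ^ N` in the `Uc` shape -/
theorem card_Uc_eq_pow : Nat.card (Uc D F) = Fintype.card F ^ (D.nroots / 2) := by
  have hUG : D.posUnipotent F ≤ D.group F :=
    le_trans (posUnipotent_le_borel D hD F) (borel_le_group D hD F)
  show Nat.card ((D.posUnipotent F).subgroupOf (D.group F)) = _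
  rw [Nat.card_congr (Subgroup.subgroupOfEquivOfLe hUG).toEquiv, card_posUnipotent D hD F]

/-- `0 < v_p(|G|)` -/
theorem factorization_pos (p : ℕ) [Fact p.Prime] [CharP F p] :
    0 < (Nat.card ↥(D.group F)).factorization p := by
  rcases Nat.eq_zero_or_pos ((Nat.card ↥(D.group F)).factorization p) with h0 | hpos
  · exfalso
    have h1 := card_Uc D hD F p
    rw [h0, pow_zero, card_Uc_eq_pow D hD F] at h1
    have hq : 1 < Fintype.card F := Fintype.one_lt_card
    have : 1 < Fintype.card F ^ (D.nroots / 2) := Nat.one_lt_pow (nroots_half_pos D hD).ne' hq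
    omega
  · exact hpos

/-- `p ∣ |G|` -/
theorem prime_dvd_card (p : ℕ) [Fact p.Prime] [CharP F p] : p ∣ Nat.card ↥(D.group F) := by
  have h := factorization_pos D hD F p
  exact Nat.dvd_of_factorization_pos h.ne'

/-- `U` is a `p`-group (same as `Cfsg.Agent.Lib.Helper6.ChevStX1.hUp`, from the Sylow fact) -/
theorem isPGroup_Uc (p : ℕ) [Fact p.Prime] [CharP F p] : IsPGroup p (Uc D F) := by
  obtain ⟨P, hP⟩ := posUnipotent_sylow D hD F p
  show IsPGroup p ((D.posUnipotent F).subgroupOf (D.group F))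
  rw [← hP]
  exact P.isPGroup'

/-- the Sylow subgroup with carrier `Uc D F` -/
theorem exists_sylow_eq_Uc (p : ℕ) [Fact p.Prime] [CharP F p] :
    ∃ P : Sylow p ↥(D.group F), (P : Subgroup ↥(D.group F)) = Uc D F :=
  posUnipotent_sylow D hD F p

end

end Cfsg.Agent.Lib.Helper7.ChevUSylow
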