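import Cfsg.Agent.Lib.Helper7.ChevBasic

/-! The commutator terms of a fundamental root `±p` with a positive root `s ≠ p` are positive roots
different from `p`: table check (helper7). -/

set_option autoImplicit false
namespace Cfsg.Agent.Lib.Helper7
open Cfsg Cfsg.Lie

/-- check for the `i`-th fundamental root -/
def upOKB (D : ChevalleyDatum) (i : ℕ) : Bool :=
  decide (D.IsNegRoot (D.neg (D.simple i))) && (List.range D.nroots).all fun s =>
    !decide (D.IsPosRoot s) || s == D.simple i ||
      (!decide (D.IsNegRoot s) &&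
        (D.commTerms (D.simple i) s).all (fun c => decide (D.IsPosRoot c.1) && c.1 != D.simple i) &&
        (D.commTerms (D.neg (D.simple i)) s).all (fun c => decide (D.IsPosRoot c.1) && c.1 != D.simple i))

def upAllB (D : ChevalleyDatum) : Bool := (List.range D.rank).all (upOKB D)

structure UpFacts (D : ChevalleyDatum) (i : ℕ) : Prop where
  negSimple : D.IsNegRoot (D.neg (D.simple i))
  notNeg : ∀ s, D.IsPosRoot s → s ≠ D.simple i → ¬ D.IsNegRoot s
  pos : ∀ s, D.IsPosRoot s → s ≠ D.simple i → ∀ c ∈ D.commTerms (D.simple i) s,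
    D.IsPosRoot c.1 ∧ c.1 ≠ D.simple i
  neg : ∀ s, D.IsPosRoot s → s ≠ D.simple i → ∀ c ∈ D.commTerms (D.neg (D.simple i)) s,
    D.IsPosRoot c.1 ∧ c.1 ≠ D.simple i

theorem upFacts_of_upOKB (D : ChevalleyDatum) (i : ℕ) (h : upOKB D i = true) : UpFacts D i := by
  unfold upOKB at h
  simp only [List.all_eq_true, List.mem_range, Bool.or_eq_true, Bool.not_eq_true', decide_eq_false_iff_not,
    beq_iff_eq, Bool.and_eq_true, decide_eq_true_eq, bne_iff_ne] at h
  obtain ⟨h0, h⟩ := h
  refine ⟨h0, ?_, ?_, ?_⟩
  · intro s hs hne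
    rcases h s hs.1 with (h1 | h1) | h1
    · exact absurd hs h1
    · exact absurd h1 hne
    · exact h1.1.1
  · intro s hs hne
    rcases h s hs.1 with (h1 | h1) | h1
    · exact absurd hs h1
    · exact absurd h1 hne
    · exact h1.1.2
  · intro s hs hne
    rcases h s hs.1 with (h1 | h1) | h1
    · exact absurd hs h1
    · exact absurd h1 hne
    · exact h1.2

theorem upFacts_of_upAllB (D : ChevalleyDatum) (h : upAllB D = true) (i : ℕ) (hi : i < D.rank) : UpFacts D i := by
  unfold upAllB at h
  rw [List.all_eq_true] at h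
  exact upFacts_of_upOKB D i (h i (List.mem_range.mpr hi))

theorem upAllB_G2 : upAllB chevG2 = true := by decide +kernel
theorem upAllB_B2 : upAllB chevB2 = true := by decide +kernel
theorem upAllB_D4 : upAllB chevD4 = true := by decide +kernel
theorem upAllB_F4 : upAllB chevF4 = true := by decide +kernel

end Cfsg.Agent.Lib.Helper7
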