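import Cfsg.Agent.Lib.Helper7.ChevUp0

/-! table checks for `UpFacts`, types E (helper7) -/

set_option autoImplicit false
namespace Cfsg.Agent.Lib.Helper7
open Cfsg Cfsg.Lie

theorem upAllB_E6 : upAllB chevE6 = true := by decide +kernel
theorem upAllB_E7 : upAllB chevE7 = true := by decide +kernel
theorem upAllB_E8 : upAllB chevE8 = true := by decide +kernel

theorem upFacts_of_mem (D : ChevalleyDatum)
    (hD : D ∈ [chevG2, chevB2, chevD4, chevF4, chevE6, chevE7, chevE8]) :
    ∀ i < D.rank, UpFacts D i :=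
  mem_seven_cases (P := fun D => ∀ i < D.rank, UpFacts D i)
    (upFacts_of_upAllB _ upAllB_G2) (upFacts_of_upAllB _ upAllB_B2) (upFacts_of_upAllB _ upAllB_D4)
    (upFacts_of_upAllB _ upAllB_F4) (upFacts_of_upAllB _ upAllB_E6) (upFacts_of_upAllB _ upAllB_E7)
    (upFacts_of_upAllB _ upAllB_E8) D hD

end Cfsg.Agent.Lib.Helper7
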