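import Cfsg.Agent.Lib.Helper7.ChevWeylEnum

/-! Enumeration of a Weyl group by a chain of coset representatives (helper7).

Every `w` is written uniquely as `d₁ d₂ ⋯ d_k` with `d_j` in the `j`-th level; the `j`-th level is a set of
representatives for the orbit of a test root under the group generated by the reflections of the level. -/

set_option autoImplicit false

namespace Cfsg.Agent.Lib.Helper7

open Cfsg Cfsg.Lie

/-- composition of maps given as lists: `(comp p q)[x] = p[q[x]]` -/
def comp (p q : List ℕ) : List ℕ := q.map fun x => p.getD x 0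

theorem comp_length (p q : List ℕ) : (comp p q).length = q.length := List.length_map _

theorem getD_comp (p q : List ℕ) (x : ℕ) (hx : x < q.length) :
    (comp p q).getD x 0 = p.getD (q.getD x 0) 0 := by
  unfold comp
  rw [List.getD_eq_getElem _ _ (by rw [List.length_map]; exact hx), List.getElem_map,
    List.getD_eq_getElem _ _ hx]

theorem comp_assoc (a b c : List ℕ) (hc : ∀ x ∈ c, x < b.length) :
    comp (comp a b) c = comp a (comp b c) := by
  unfold comp
  rw [List.map_map]
  apply List.map_congr_left
  intro x hx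
  exact getD_comp a b x (hc x hx)

/-- a list of length `n` with entries below `n` -/
def Valid (n : ℕ) (p : List ℕ) : Prop := p.length = n ∧ ∀ x ∈ p, x < n

theorem valid_range (n : ℕ) : Valid n (List.range n) :=
  ⟨List.length_range, fun _ hx => List.mem_range.mp hx⟩

theorem comp_range_left (n : ℕ) (p : List ℕ) (hp : ∀ x ∈ p, x < n) : comp (List.range n) p = p := by
  unfold comp
  conv_rhs => rw [← List.map_id p]
  apply List.map_congr_left
  intro x hx
  simp [List.getD_eq_getElem?_getD, hp x hx]

theorem comp_range_right (p : List ℕ) : comp p (List.range p.length) = p := by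
  unfold comp
  apply List.ext_getElem
  · simp
  · intro i h1 h2
    simp [List.getD_eq_getElem?_getD, h2]

theorem valid_comp (n : ℕ) (p q : List ℕ) (hp : Valid n p) (hq : Valid n q) : Valid n (comp p q) := by
  refine ⟨by rw [comp_length]; exact hq.1, ?_⟩
  intro x hx
  unfold comp at hx
  rw [List.mem_map] at hx
  obtain ⟨y, hy, rfl⟩ := hx
  have hy' : y < p.length := by rw [hp.1]; exact hq.2 y hy
  rw [List.getD_eq_getElem _ _ hy']
  exact hp.2 _ (List.getElem_mem _)

/-- one level of a chain -/
structure ChainLevel where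
  /-- the representatives, as lists of images of the roots; the first is the identity -/
  elems : List (List ℕ)
  /-- their inverses -/
  invs : List (List ℕ)
  /-- their lengths -/
  dep : List ℕ
  /-- the test root -/
  test : ℕ
  /-- the reflections acting on this level -/
  gens : List ℕ
  /-- `act[e][i] = (0, e')` if `s_i d_e = d_{e'}`, `(1, i')` if `s_i d_e = d_e s_{i'}` -/
  act : List (List (ℕ × ℕ))

/-- the generators of the first level -/
def headGens : List ChainLevel → List ℕ
  | [] => []
  | L :: _ => L.gens

/-- the check of one level -/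
def levelOKB (n : ℕ) (refls : List (List ℕ)) (L : ChainLevel) (later : List ChainLevel) : Bool :=
  decide (0 < L.elems.length) && (L.elems.getD 0 [] == List.range n) && (L.dep.getD 0 0 == 0) &&
  decide (L.test < n) && decide ((L.elems.map fun d => d.getD L.test 0).Nodup) &&
  ((headGens later).all fun i => L.gens.contains i) &&
  (later.all fun L' => L'.elems.all fun d => d.getD L.test 0 == L.test) &&
  (List.range L.elems.length).all fun e =>
    ((L.elems.getD e []).all fun x => decide (x < n)) &&
    (comp (L.invs.getD e []) (L.elems.getD e []) == List.range n) &&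
    (e == 0 || L.gens.any fun i =>
      ((L.act.getD e []).getD i (2, 0)).1 == 0 &&
      L.dep.getD ((L.act.getD e []).getD i (2, 0)).2 0 + 1 == L.dep.getD e 0) &&
    L.gens.all fun i =>
      (((L.act.getD e []).getD i (2, 0)).1 == 0 &&
        decide (((L.act.getD e []).getD i (2, 0)).2 < L.elems.length) &&
        (L.elems.getD ((L.act.getD e []).getD i (2, 0)).2 [] == comp (refls.getD i []) (L.elems.getD e [])) &&
        (L.dep.getD ((L.act.getD e []).getD i (2, 0)).2 0 == L.dep.getD e 0 + 1 ||
          L.dep.getD ((L.act.getD e []).getD i (2, 0)).2 0 + 1 == L.dep.getD e 0)) ||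
      (((L.act.getD e []).getD i (2, 0)).1 == 1 &&
        (headGens later).contains ((L.act.getD e []).getD i (2, 0)).2 &&
        (comp (refls.getD i []) (L.elems.getD e []) ==
          comp (L.elems.getD e []) (refls.getD ((L.act.getD e []).getD i (2, 0)).2 [])))

/-- the check of a chain -/
def chainOKB (n : ℕ) (refls : List (List ℕ)) : List ChainLevel → Bool
  | [] => true
  | L :: Ls => levelOKB n refls L Ls && chainOKB n refls Ls

/-- the facts checked by `levelOKB` -/
structure LevelFacts (n : ℕ) (refls : List (List ℕ)) (L : ChainLevel) (later : List ChainLevel) : Prop where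
  pos : 0 < L.elems.length
  idEl : L.elems.getD 0 [] = List.range n
  idDep : L.dep.getD 0 0 = 0
  testLt : L.test < n
  testInj : (L.elems.map fun d => d.getD L.test 0).Nodup
  gensSub : ∀ i ∈ headGens later, i ∈ L.gens
  laterFix : ∀ L' ∈ later, ∀ d ∈ L'.elems, d.getD L.test 0 = L.test
  elLt : ∀ e < L.elems.length, ∀ x ∈ L.elems.getD e [], x < n
  elInv : ∀ e < L.elems.length, comp (L.invs.getD e []) (L.elems.getD e []) = List.range n
  desc : ∀ e < L.elems.length, e ≠ 0 → ∃ i ∈ L.gens, ∃ e' < L.elems.length,
    L.elems.getD e' [] = comp (refls.getD i []) (L.elems.getD e []) ∧ L.dep.getD e' 0 + 1 = L.dep.getD e 0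
  step : ∀ e < L.elems.length, ∀ i ∈ L.gens,
    (∃ e' < L.elems.length, L.elems.getD e' [] = comp (refls.getD i []) (L.elems.getD e []) ∧
      (L.dep.getD e' 0 = L.dep.getD e 0 + 1 ∨ L.dep.getD e' 0 + 1 = L.dep.getD e 0)) ∨
    (∃ i' ∈ headGens later, comp (refls.getD i []) (L.elems.getD e []) =
      comp (L.elems.getD e []) (refls.getD i' []))

theorem levelFacts_of_OKB (n : ℕ) (refls : List (List ℕ)) (L : ChainLevel) (later : List ChainLevel)
    (h : levelOKB n refls L later = true) : LevelFacts n refls L later := by
  unfold levelOKB at h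
  simp only [Bool.and_eq_true, List.all_eq_true, List.mem_range, decide_eq_true_eq, beq_iff_eq,
    Bool.or_eq_true, List.any_eq_true, List.contains_iff_mem] at h
  obtain ⟨⟨⟨⟨⟨⟨⟨h1, h2⟩, h3⟩, h4⟩, h5⟩, h6⟩, h7⟩, h8⟩ := h
  refine ⟨h1, h2, h3, h4, h5, h6, h7, ?_, ?_, ?_, ?_⟩
  · intro e he x hx; exact (h8 e he).1.1.1 x hx
  · intro e he; exact (h8 e he).1.1.2
  · intro e he hne
    rcases (h8 e he).1.2 with h' | ⟨i, hi, hk, hd⟩
    · exact absurd h' hne
    · rcases (h8 e he).2 i hi with ⟨⟨⟨_, hlt⟩, hel⟩, _⟩ | ⟨⟨hk', _⟩, _⟩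
      · exact ⟨i, hi, _, hlt, hel, hd⟩
      · rw [hk] at hk'; exact absurd hk' (by decide)
  · intro e he i hi
    rcases (h8 e he).2 i hi with ⟨⟨⟨_, hlt⟩, hel⟩, hd⟩ | ⟨⟨_, hm⟩, hc⟩
    · exact Or.inl ⟨_, hlt, hel, hd⟩
    · exact Or.inr ⟨_, hm, hc⟩

/-- normal forms: one index per level -/
def IsNF : List ChainLevel → List ℕ → Prop
  | [], es => es = []
  | _ :: _, [] => False
  | L :: Ls, e :: es => e < L.elems.length ∧ IsNF Ls es

/-- the permutation of a normal form -/
def nfPerm (n : ℕ) : List ChainLevel → List ℕ → List ℕ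
  | L :: Ls, e :: es => comp (L.elems.getD e []) (nfPerm n Ls es)
  | _, _ => List.range n

/-- the length of a normal form -/
def nfDep : List ChainLevel → List ℕ → ℕ
  | L :: Ls, e :: es => L.dep.getD e 0 + nfDep Ls es
  | _, _ => 0

/-- the normal form of the identity -/
def nfZero (Ls : List ChainLevel) : List ℕ := List.replicate Ls.length 0

section
variable (n : ℕ) (refls : List (List ℕ))

theorem chain_valid : ∀ (Ls : List ChainLevel), chainOKB n refls Ls = true →
    ∀ es, IsNF Ls es → Valid n (nfPerm n Ls es)
  | [], _, es, _ => by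
    cases es <;> exact valid_range n
  | L :: Ls, h, [], hes => absurd hes (by simp [IsNF])
  | L :: Ls, h, e :: es, hes => by
    unfold chainOKB at h
    rw [Bool.and_eq_true] at h
    have hL := levelFacts_of_OKB n refls L Ls h.1
    have ih := chain_valid Ls h.2 es hes.2
    show Valid n (comp (L.elems.getD e []) (nfPerm n Ls es))
    have hinv := hL.elInv e hes.1
    have hlen : (L.elems.getD e []).length = n := by
      have := congrArg List.length hinv
      rwa [comp_length, List.length_range] at this
    exact valid_comp n _ _ ⟨hlen, hL.elLt e hes.1⟩ ih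

theorem chain_fix (r : ℕ) (hr : r < n) : ∀ (Ls : List ChainLevel), chainOKB n refls Ls = true →
    (∀ L' ∈ Ls, ∀ d ∈ L'.elems, d.getD r 0 = r) → ∀ es, IsNF Ls es → (nfPerm n Ls es).getD r 0 = r
  | [], _, _, es, _ => by
    have : nfPerm n [] es = List.range n := by cases es <;> rfl
    rw [this]
    simp [List.getD_eq_getElem?_getD, hr]
  | L :: Ls, h, hfix, [], hes => absurd hes (by simp [IsNF])
  | L :: Ls, h, hfix, e :: es, hes => by
    have h' := h
    unfold chainOKB at h'
    rw [Bool.and_eq_true] at h'
    have ih := chain_fix r hr Ls h'.2 (fun L' hL' => hfix L' (List.mem_cons_of_mem _ hL')) es hes.2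
    have hv := chain_valid n refls Ls h'.2 es hes.2
    show (comp (L.elems.getD e []) (nfPerm n Ls es)).getD r 0 = r
    rw [getD_comp _ _ r (by rw [hv.1]; exact hr), ih]
    have hmem : L.elems.getD e [] ∈ L.elems := by
      rw [List.getD_eq_getElem _ _ hes.1]; exact List.getElem_mem _
    exact hfix L List.mem_cons_self _ hmem

theorem chain_inj : ∀ (Ls : List ChainLevel), chainOKB n refls Ls = true →
    ∀ es es', IsNF Ls es → IsNF Ls es' → nfPerm n Ls es = nfPerm n Ls es' → es = es'
  | [], _, es, es', hes, hes', _ => by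
    have h1 : es = [] := hes
    have h2 : es' = [] := hes'
    rw [h1, h2]
  | L :: Ls, h, [], _, hes, _, _ => absurd hes (by simp [IsNF])
  | L :: Ls, h, _ :: _, [], _, hes', _ => absurd hes' (by simp [IsNF])
  | L :: Ls, h, e :: es, e' :: es', hes, hes', heq => by
    have h' := h
    unfold chainOKB at h'
    rw [Bool.and_eq_true] at h'
    have hL := levelFacts_of_OKB n refls L Ls h'.1
    have hv := chain_valid n refls Ls h'.2 es hes.2
    have hv' := chain_valid n refls Ls h'.2 es' hes'.2
    have hf := chain_fix n refls L.test hL.testLt Ls h'.2 hL.laterFix es hes.2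
    have hf' := chain_fix n refls L.test hL.testLt Ls h'.2 hL.laterFix es' hes'.2
    have heq' : comp (L.elems.getD e []) (nfPerm n Ls es) = comp (L.elems.getD e' []) (nfPerm n Ls es') := heq
    have h1 : (comp (L.elems.getD e []) (nfPerm n Ls es)).getD L.test 0 =
        (comp (L.elems.getD e' []) (nfPerm n Ls es')).getD L.test 0 := by rw [heq']
    rw [getD_comp _ _ _ (by rw [hv.1]; exact hL.testLt), getD_comp _ _ _ (by rw [hv'.1]; exact hL.testLt),
      hf, hf'] at h1
    have hee : e = e' := by
      have hlen : (L.elems.map fun d => d.getD L.test 0).length = L.elems.length := List.length_map _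
      have := (List.Nodup.getElem_inj_iff hL.testInj (i := e) (j := e')
        (hi := by rw [hlen]; exact hes.1) (hj := by rw [hlen]; exact hes'.1)).mp
      apply this
      rw [List.getElem_map, List.getElem_map, ← List.getD_eq_getElem _ [] hes.1,
        ← List.getD_eq_getElem _ [] hes'.1]
      exact h1
    subst hee
    have hinv := hL.elInv e hes.1
    have hlen : (L.elems.getD e []).length = n := by
      have := congrArg List.length hinv
      rwa [comp_length, List.length_range] at this
    have h2 := congrArg (comp (L.invs.getD e [])) heq'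
    rw [← comp_assoc _ _ _ (by intro x hx; rw [hlen]; exact hv.2 x hx),
      ← comp_assoc _ _ _ (by intro x hx; rw [hlen]; exact hv'.2 x hx), hinv,
      comp_range_left n _ hv.2, comp_range_left n _ hv'.2] at h2
    rw [chain_inj Ls h'.2 es es' hes.2 hes'.2 h2]

theorem chain_step : ∀ (Ls : List ChainLevel), chainOKB n refls Ls = true →
    ∀ i ∈ headGens Ls, ∀ es, IsNF Ls es → ∃ es', IsNF Ls es' ∧
      nfPerm n Ls es' = comp (refls.getD i []) (nfPerm n Ls es) ∧
      (nfDep Ls es' = nfDep Ls es + 1 ∨ nfDep Ls es' + 1 = nfDep Ls es)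
  | [], _, i, hi, _, _ => absurd hi (by simp [headGens])
  | L :: Ls, h, i, hi, [], hes => absurd hes (by simp [IsNF])
  | L :: Ls, h, i, hi, e :: es, hes => by
    have h' := h
    unfold chainOKB at h'
    rw [Bool.and_eq_true] at h'
    have hL := levelFacts_of_OKB n refls L Ls h'.1
    have hv := chain_valid n refls Ls h'.2 es hes.2
    have hinv := hL.elInv e hes.1
    have hlen : (L.elems.getD e []).length = n := by
      have := congrArg List.length hinv
      rwa [comp_length, List.length_range] at this
    have hassoc : comp (refls.getD i []) (comp (L.elems.getD e []) (nfPerm n Ls es)) =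
        comp (comp (refls.getD i []) (L.elems.getD e [])) (nfPerm n Ls es) :=
      (comp_assoc _ _ _ (by intro x hx; rw [hlen]; exact hv.2 x hx)).symm
    rcases hL.step e hes.1 i hi with ⟨e', he', hel, hd⟩ | ⟨i', hi', hc⟩
    · refine ⟨e' :: es, ⟨he', hes.2⟩, ?_, ?_⟩
      · show comp (L.elems.getD e' []) (nfPerm n Ls es) =
          comp (refls.getD i []) (comp (L.elems.getD e []) (nfPerm n Ls es))
        rw [hassoc, hel]
      · show L.dep.getD e' 0 + nfDep Ls es = L.dep.getD e 0 + nfDep Ls es + 1 ∨
          L.dep.getD e' 0 + nfDep Ls es + 1 = L.dep.getD e 0 + nfDep Ls es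
        omega
    · obtain ⟨es', hes', hp, hd⟩ := chain_step Ls h'.2 i' hi' es hes.2
      refine ⟨e :: es', ⟨hes.1, hes'⟩, ?_, ?_⟩
      · show comp (L.elems.getD e []) (nfPerm n Ls es') =
          comp (refls.getD i []) (comp (L.elems.getD e []) (nfPerm n Ls es))
        rw [hassoc, hc, hp]
        have hrl : ∀ x ∈ nfPerm n Ls es, x < (refls.getD i' []).length := by
          intro x hx
          have h3 := congrArg List.length hc
          rw [comp_length, comp_length, hlen] at h3
          rw [← h3]; exact hv.2 x hx
        exact (comp_assoc _ _ _ hrl).symm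
      · show L.dep.getD e 0 + nfDep Ls es' = L.dep.getD e 0 + nfDep Ls es + 1 ∨
          L.dep.getD e 0 + nfDep Ls es' + 1 = L.dep.getD e 0 + nfDep Ls es
        omega

theorem isNF_zero : ∀ (Ls : List ChainLevel), chainOKB n refls Ls = true → IsNF Ls (nfZero Ls)
  | [], _ => rfl
  | L :: Ls, h => by
    unfold chainOKB at h
    rw [Bool.and_eq_true] at h
    exact ⟨(levelFacts_of_OKB n refls L Ls h.1).pos, isNF_zero Ls h.2⟩

theorem nfPerm_zero : ∀ (Ls : List ChainLevel), chainOKB n refls Ls = true →
    nfPerm n Ls (nfZero Ls) = List.range n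
  | [], _ => rfl
  | L :: Ls, h => by
    unfold chainOKB at h
    rw [Bool.and_eq_true] at h
    show comp (L.elems.getD 0 []) (nfPerm n Ls (nfZero Ls)) = List.range n
    rw [nfPerm_zero Ls h.2, (levelFacts_of_OKB n refls L Ls h.1).idEl]
    exact comp_range_left n _ (valid_range n).2

theorem nfDep_zero : ∀ (Ls : List ChainLevel), chainOKB n refls Ls = true → nfDep Ls (nfZero Ls) = 0
  | [], _ => rfl
  | L :: Ls, h => by
    unfold chainOKB at h
    rw [Bool.and_eq_true] at h
    show L.dep.getD 0 0 + nfDep Ls (nfZero Ls) = 0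
    rw [nfDep_zero Ls h.2, (levelFacts_of_OKB n refls L Ls h.1).idDep]

theorem chain_desc : ∀ (Ls : List ChainLevel), chainOKB n refls Ls = true →
    ∀ es, IsNF Ls es → es ≠ nfZero Ls → ∃ i ∈ headGens Ls, ∃ es', IsNF Ls es' ∧
      nfPerm n Ls es' = comp (refls.getD i []) (nfPerm n Ls es) ∧ nfDep Ls es' + 1 = nfDep Ls es
  | [], _, es, hes, hne => absurd hes hne
  | L :: Ls, h, [], hes, _ => absurd hes (by simp [IsNF])
  | L :: Ls, h, e :: es, hes, hne => by
    have h' := h
    unfold chainOKB at h'
    rw [Bool.and_eq_true] at h'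
    have hL := levelFacts_of_OKB n refls L Ls h'.1
    have hv := chain_valid n refls Ls h'.2 es hes.2
    have hinv := hL.elInv e hes.1
    have hlen : (L.elems.getD e []).length = n := by
      have := congrArg List.length hinv
      rwa [comp_length, List.length_range] at this
    have hassoc : ∀ i, comp (refls.getD i []) (comp (L.elems.getD e []) (nfPerm n Ls es)) =
        comp (comp (refls.getD i []) (L.elems.getD e [])) (nfPerm n Ls es) :=
      fun i => (comp_assoc _ _ _ (by intro x hx; rw [hlen]; exact hv.2 x hx)).symm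
    by_cases he0 : e = 0
    · subst he0
      have hne' : es ≠ nfZero Ls := by
        intro hh; apply hne; rw [hh]; rfl
      obtain ⟨i, hi, es', hes', hp, hd⟩ := chain_desc Ls h'.2 es hes.2 hne'
      have hv' := chain_valid n refls Ls h'.2 es' hes'
      refine ⟨i, hL.gensSub i hi, 0 :: es', ⟨hes.1, hes'⟩, ?_, ?_⟩
      · show comp (L.elems.getD 0 []) (nfPerm n Ls es') =
          comp (refls.getD i []) (comp (L.elems.getD 0 []) (nfPerm n Ls es))
        rw [hL.idEl, comp_range_left n _ hv'.2, comp_range_left n _ hv.2, hp]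
      · show L.dep.getD 0 0 + nfDep Ls es' + 1 = L.dep.getD 0 0 + nfDep Ls es
        omega
    · obtain ⟨i, hi, e', he', hel, hd⟩ := hL.desc e hes.1 he0
      refine ⟨i, hi, e' :: es, ⟨he', hes.2⟩, ?_, ?_⟩
      · show comp (L.elems.getD e' []) (nfPerm n Ls es) =
          comp (refls.getD i []) (comp (L.elems.getD e []) (nfPerm n Ls es))
        rw [hassoc, hel]
      · show L.dep.getD e' 0 + nfDep Ls es + 1 = L.dep.getD e 0 + nfDep Ls es
        omega

end

end Cfsg.Agent.Lib.Helper7
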