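import Cfsg.Agent.Lib.Helper7.ChevWeylChain2
import Cfsg.Agent.Lib.Helper7.ChevOrder1

/-! Weighted lengths on a chain of coset representatives of a Weyl group (helper7). -/

set_option autoImplicit false

namespace Cfsg.Agent.Lib.Helper7

open Cfsg Cfsg.Lie

/-- the weight of a normal form -/
def nfWt : List ChainLevel → List (List ℕ) → List ℕ → ℕ
  | _ :: Ls, W :: Ws, e :: es => W.getD e 0 + nfWt Ls Ws es
  | _, _, _ => 0

/-- the check of the weights of one level: descents inside the level add the weight of the reflection -/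
def levelWtOKB (refls : List (List ℕ)) (wgt : List ℕ) (L : ChainLevel) (W : List ℕ) : Bool :=
  (W.getD 0 0 == 0) && (List.range L.elems.length).all fun e => L.gens.all fun i =>
    (List.range L.elems.length).all fun e' =>
      !((L.elems.getD e' [] == comp (refls.getD i []) (L.elems.getD e [])) &&
        (L.dep.getD e' 0 + 1 == L.dep.getD e 0)) ||
      (W.getD e 0 == W.getD e' 0 + wgt.getD i 0)

theorem levelWt_of_OKB (refls : List (List ℕ)) (wgt : List ℕ) (L : ChainLevel) (W : List ℕ)
    (h : levelWtOKB refls wgt L W = true) :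
    W.getD 0 0 = 0 ∧ ∀ e < L.elems.length, ∀ i ∈ L.gens, ∀ e' < L.elems.length,
      L.elems.getD e' [] = comp (refls.getD i []) (L.elems.getD e []) →
      L.dep.getD e' 0 + 1 = L.dep.getD e 0 → W.getD e 0 = W.getD e' 0 + wgt.getD i 0 := by
  unfold levelWtOKB at h
  simp only [Bool.and_eq_true, List.all_eq_true, List.mem_range, beq_iff_eq, Bool.or_eq_true,
    Bool.not_eq_true', Bool.and_eq_false_iff, beq_eq_false_iff_ne] at h
  refine ⟨h.1, ?_⟩
  intro e he i hi e' he' hel hd
  rcases h.2 e he i hi e' he' with (h1 | h1) | h1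
  · exact absurd hel h1
  · exact absurd hd h1
  · exact h1

/-- the check of the weights of a chain -/
def chainWtOKB (refls : List (List ℕ)) (wgt : List ℕ) : List ChainLevel → List (List ℕ) → Bool
  | [], [] => true
  | L :: Ls, W :: Ws => levelWtOKB refls wgt L W && chainWtOKB refls wgt Ls Ws
  | _, _ => false

section
variable (n : ℕ) (refls : List (List ℕ)) (wgt : List ℕ)

theorem nfWt_zero : ∀ (Ls : List ChainLevel) (Ws : List (List ℕ)), chainWtOKB refls wgt Ls Ws = true →
    nfWt Ls Ws (nfZero Ls) = 0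
  | [], _, _ => rfl
  | _ :: _, [], h => by simp [chainWtOKB] at h
  | L :: Ls, W :: Ws, h => by
    unfold chainWtOKB at h
    rw [Bool.and_eq_true] at h
    show W.getD 0 0 + nfWt Ls Ws (nfZero Ls) = 0
    rw [nfWt_zero Ls Ws h.2, (levelWt_of_OKB refls wgt L W h.1).1]

theorem chain_desc_wt : ∀ (Ls : List ChainLevel) (Ws : List (List ℕ)), chainOKB n refls Ls = true →
    chainWtOKB refls wgt Ls Ws = true →
    ∀ es, IsNF Ls es → es ≠ nfZero Ls → ∃ i ∈ headGens Ls, ∃ es', IsNF Ls es' ∧
      nfPerm n Ls es' = comp (refls.getD i []) (nfPerm n Ls es) ∧ nfDep Ls es' + 1 = nfDep Ls es ∧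
      nfWt Ls Ws es = nfWt Ls Ws es' + wgt.getD i 0
  | [], _, _, _, es, hes, hne => absurd hes hne
  | _ :: _, [], _, hw, _, _, _ => by simp [chainWtOKB] at hw
  | L :: Ls, W :: Ws, h, hw, [], hes, _ => absurd hes (by simp [IsNF])
  | L :: Ls, W :: Ws, h, hw, e :: es, hes, hne => by
    have h' := h
    unfold chainOKB at h'
    rw [Bool.and_eq_true] at h'
    have hw' := hw
    unfold chainWtOKB at hw'
    rw [Bool.and_eq_true] at hw'
    have hL := levelFacts_of_OKB n refls L Ls h'.1
    have hLW := levelWt_of_OKB refls wgt L W hw'.1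
    have hv := chain_valid n refls Ls h'.2 es hes.2
    have hinv := hL.elInv e hes.1
    have hlen : (L.elems.getD e []).length = n := by
      have := congrArg List.length hinv
      rwa [comp_length, List.length_range] at this
    have hassoc : ∀ i, comp (refls.getD i []) (comp (L.elems.getD e []) (nfPerm n Ls es)) =
        comp (comp (refls.getD i []) (L.elems.getD e [])) (nfPerm n Ls es) :=
      fun i => (comp_assoc _ _ _ (by intro x hx; rw [hlen]; exact hv.2 x hx)).symm
    by_cases he0 : e = 0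
    · subst he0
      have hne' : es ≠ nfZero Ls := by
        intro hh; apply hne; rw [hh]; rfl
      obtain ⟨i, hi, es', hes', hp, hd, hwt⟩ := chain_desc_wt Ls Ws h'.2 hw'.2 es hes.2 hne'
      have hv' := chain_valid n refls Ls h'.2 es' hes'
      refine ⟨i, hL.gensSub i hi, 0 :: es', ⟨hes.1, hes'⟩, ?_, ?_, ?_⟩
      · show comp (L.elems.getD 0 []) (nfPerm n Ls es') =
          comp (refls.getD i []) (comp (L.elems.getD 0 []) (nfPerm n Ls es))
        rw [hL.idEl, comp_range_left n _ hv'.2, comp_range_left n _ hv.2, hp]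
      · show L.dep.getD 0 0 + nfDep Ls es' + 1 = L.dep.getD 0 0 + nfDep Ls es
        omega
      · show W.getD 0 0 + nfWt Ls Ws es = W.getD 0 0 + nfWt Ls Ws es' + wgt.getD i 0
        omega
    · obtain ⟨i, hi, e', he', hel, hd⟩ := hL.desc e hes.1 he0
      refine ⟨i, hi, e' :: es, ⟨he', hes.2⟩, ?_, ?_, ?_⟩
      · show comp (L.elems.getD e' []) (nfPerm n Ls es) =
          comp (refls.getD i []) (comp (L.elems.getD e []) (nfPerm n Ls es))
        rw [hassoc, hel]
      · show L.dep.getD e' 0 + nfDep Ls es + 1 = L.dep.getD e 0 + nfDep Ls es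
        omega
      · show W.getD e 0 + nfWt Ls Ws es = W.getD e' 0 + nfWt Ls Ws es + wgt.getD i 0
        have := hLW.2 e hes.1 i hi e' he' hel hd
        omega

end

/-- the weighted polynomial of a chain -/
def chainWtPoly (q : ℕ) : List ChainLevel → List (List ℕ) → ℕ
  | L :: Ls, W :: Ws => (∑ e ∈ Finset.range L.elems.length, q ^ W.getD e 0) * chainWtPoly q Ls Ws
  | _, _ => 1

theorem sum_nfFin_wt (q : ℕ) (refls : List (List ℕ)) (wgt : List ℕ) :
    ∀ (Ls : List ChainLevel) (Ws : List (List ℕ)), chainWtOKB refls wgt Ls Ws = true →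
      ∑ es ∈ nfFin Ls, q ^ nfWt Ls Ws es = chainWtPoly q Ls Ws
  | [], [], _ => by
    show ∑ es ∈ ({[]} : Finset (List ℕ)), q ^ nfWt [] [] es = 1
    rw [Finset.sum_singleton]; rfl
  | [], _ :: _, h => by simp [chainWtOKB] at h
  | _ :: _, [], h => by simp [chainWtOKB] at h
  | L :: Ls, W :: Ws, h => by
    unfold chainWtOKB at h
    rw [Bool.and_eq_true] at h
    show ∑ es ∈ (Finset.range L.elems.length ×ˢ nfFin Ls).image (fun p => p.1 :: p.2),
      q ^ nfWt (L :: Ls) (W :: Ws) es = _
    rw [Finset.sum_image (by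
      intro p _ p' _ h
      have h1 : p.1 :: p.2 = p'.1 :: p'.2 := h
      rw [List.cons.injEq] at h1
      exact Prod.ext h1.1 h1.2), Finset.sum_product]
    show ∑ e ∈ Finset.range L.elems.length, ∑ es ∈ nfFin Ls, q ^ (W.getD e 0 + nfWt Ls Ws es) = _
    simp only [pow_add]
    rw [← Finset.sum_mul_sum, sum_nfFin_wt q refls wgt Ls Ws h.2]
    rfl

/-- histograms of the weights of the levels -/
def chainWtHistOKB : List ChainLevel → List (List ℕ) → List (ℕ × List ℕ) → Bool
  | [], [], [] => true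
  | L :: Ls, W :: Ws, KH :: Hs =>
    decide (W.length = L.elems.length) && (W.all fun x => decide (x < KH.1)) &&
    (((List.range KH.1).map fun k => W.count k) == KH.2) && chainWtHistOKB Ls Ws Hs
  | _, _, _ => false

theorem chainWtPoly_eq_histPoly (q : ℕ) : ∀ (Ls : List ChainLevel) (Ws : List (List ℕ))
    (Hs : List (ℕ × List ℕ)), chainWtHistOKB Ls Ws Hs = true → chainWtPoly q Ls Ws = histPoly q Hs
  | [], [], [], _ => rfl
  | [], [], _ :: _, h => by simp [chainWtHistOKB] at h
  | [], _ :: _, _, h => by simp [chainWtHistOKB] at h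
  | _ :: _, [], _, h => by simp [chainWtHistOKB] at h
  | _ :: _, _ :: _, [], h => by simp [chainWtHistOKB] at h
  | L :: Ls, W :: Ws, KH :: Hs, h => by
    unfold chainWtHistOKB at h
    simp only [Bool.and_eq_true, List.all_eq_true, decide_eq_true_eq, beq_iff_eq] at h
    obtain ⟨⟨⟨h1, h2⟩, h3⟩, h4⟩ := h
    show (∑ e ∈ Finset.range L.elems.length, q ^ W.getD e 0) * chainWtPoly q Ls Ws =
      (∑ k ∈ Finset.range KH.1, KH.2.getD k 0 * q ^ k) * histPoly q Hs
    rw [chainWtPoly_eq_histPoly q Ls Ws Hs h4, ← list_sum_range_nat, ← h1,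
      map_getD_range (fun x => q ^ x) W, sum_pow_hist q W KH.1 h2]
    congr 1
    apply Finset.sum_congr rfl
    intro k hk
    rw [← h3]
    simp [List.getD_eq_getElem?_getD, Finset.mem_range.mp hk]

/-- the weights on the enumeration of a Weyl group by a chain -/
theorem enum_wt_of_chain (D : ChevalleyDatum) (C : WeylChain) (h : weylChainOKB D C = true)
    (wgt : List ℕ) (Ws : List (List ℕ)) (hw : chainWtOKB C.refls wgt C.levels Ws = true) :
    nfWt C.levels Ws (nfZero C.levels) = 0 ∧
    ∀ e ∈ nfFin C.levels, e ≠ nfZero C.levels → ∃ i < D.rank, ∃ e' ∈ nfFin C.levels,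
      nfPerm D.nroots C.levels e' = (nfPerm D.nroots C.levels e).map (D.reflectRoot i) ∧
      nfDep C.levels e' + 1 = nfDep C.levels e ∧
      nfWt C.levels Ws e = nfWt C.levels Ws e' + wgt.getD i 0 := by
  refine ⟨nfWt_zero C.refls wgt C.levels Ws hw, ?_⟩
  unfold weylChainOKB at h
  simp only [Bool.and_eq_true, List.all_eq_true, List.mem_range, decide_eq_true_eq, beq_iff_eq,
    List.contains_iff_mem] at h
  obtain ⟨⟨⟨hrefl, hall⟩, hlt⟩, hch⟩ := h
  have hreflget : ∀ i < D.rank, ∀ p : List ℕ, (∀ x ∈ p, x < D.nroots) →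
      comp (C.refls.getD i []) p = p.map (D.reflectRoot i) := by
    intro i hi p hp
    unfold comp
    apply List.map_congr_left
    intro x hx
    rw [hrefl]
    simp [List.getD_eq_getElem?_getD, hi, hp x hx]
  intro e he hne
  have hv := chain_valid _ _ _ hch e ((mem_nfFin _ _).mp he)
  obtain ⟨i, hi, e', he', hp, hd, hwt⟩ :=
    chain_desc_wt _ _ wgt _ Ws hch hw e ((mem_nfFin _ _).mp he) hne
  refine ⟨i, hlt i hi, e', (mem_nfFin _ _).mpr he', ?_, hd, hwt⟩
  rw [hp, hreflget i (hlt i hi) _ hv.2]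

end Cfsg.Agent.Lib.Helper7
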