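import Cfsg.Agent.Lib.Helper7.ChevWeylPerm2

/-! Enumeration of the Weyl group by a breadth-first table: `Σ_w q^{ℓ(w)}` (helper7). -/

set_option autoImplicit false

namespace Cfsg.Agent.Lib.Helper7

open Cfsg Cfsg.Lie Matrix
open Cfsg.Agent.Lib.Helper3.BN Cfsg.Agent.Lib.Helper3.WordLen

/-- a breadth-first enumeration of a Weyl group acting on the roots -/
structure WeylTable where
  /-- the elements, as lists of images of the roots -/
  elems : List (List ℕ)
  /-- `nxt[e][i]` is the index of `s_i ∘ elems[e]` -/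
  nxt : List (List ℕ)
  /-- the depth (word length) of each element -/
  dep : List ℕ
  /-- the index of the identity -/
  idIdx : ℕ
  /-- the fundamental reflections as lists -/
  refls : List (List ℕ)

/-- the table check -/
def tabOKB (D : ChevalleyDatum) (T : WeylTable) : Bool :=
  (T.refls == (List.range D.rank).map fun i => (List.range D.nroots).map (D.reflectRoot i)) &&
  decide (T.idIdx < T.elems.length) && (T.elems.getD T.idIdx [] == List.range D.nroots) &&
  (T.dep.getD T.idIdx 0 == 0) && decide T.elems.Nodup &&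
  (List.range T.elems.length).all fun e =>
    ((T.elems.getD e []).all fun x => decide (x < D.nroots)) &&
    (e == T.idIdx || (T.dep.getD e 0 != 0 && (List.range D.rank).any fun i =>
      T.dep.getD ((T.nxt.getD e []).getD i 0) 0 + 1 == T.dep.getD e 0)) &&
    (List.range D.rank).all fun i =>
      decide ((T.nxt.getD e []).getD i 0 < T.elems.length) &&
      (T.elems.getD ((T.nxt.getD e []).getD i 0) [] ==
        (T.elems.getD e []).map fun x => (T.refls.getD i []).getD x 0) &&
      decide (T.dep.getD ((T.nxt.getD e []).getD i 0) 0 ≤ T.dep.getD e 0 + 1) &&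
      decide (T.dep.getD e 0 ≤ T.dep.getD ((T.nxt.getD e []).getD i 0) 0 + 1)

structure TabFacts (D : ChevalleyDatum) (T : WeylTable) : Prop where
  idLt : T.idIdx < T.elems.length
  idEl : T.elems.getD T.idIdx [] = List.range D.nroots
  idDep : T.dep.getD T.idIdx 0 = 0
  nodup : T.elems.Nodup
  elLt : ∀ e < T.elems.length, ∀ x ∈ T.elems.getD e [], x < D.nroots
  depPos : ∀ e < T.elems.length, e ≠ T.idIdx → T.dep.getD e 0 ≠ 0 ∧ ∃ i < D.rank,
    T.dep.getD ((T.nxt.getD e []).getD i 0) 0 + 1 = T.dep.getD e 0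
  nxtLt : ∀ e < T.elems.length, ∀ i < D.rank, (T.nxt.getD e []).getD i 0 < T.elems.length
  nxtEl : ∀ e < T.elems.length, ∀ i < D.rank, T.elems.getD ((T.nxt.getD e []).getD i 0) [] =
    (T.elems.getD e []).map (D.reflectRoot i)
  dep1 : ∀ e < T.elems.length, ∀ i < D.rank,
    T.dep.getD ((T.nxt.getD e []).getD i 0) 0 ≤ T.dep.getD e 0 + 1
  dep2 : ∀ e < T.elems.length, ∀ i < D.rank,
    T.dep.getD e 0 ≤ T.dep.getD ((T.nxt.getD e []).getD i 0) 0 + 1

theorem tabFacts_of_tabOKB (D : ChevalleyDatum) (T : WeylTable) (h : tabOKB D T = true) : TabFacts D T := by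
  unfold tabOKB at h
  simp only [Bool.and_eq_true, List.all_eq_true, List.mem_range, decide_eq_true_eq, beq_iff_eq,
    Bool.or_eq_true, bne_iff_ne, List.any_eq_true] at h
  obtain ⟨⟨⟨⟨⟨hrefl, h1⟩, h2⟩, h3⟩, h4⟩, h5⟩ := h
  have hreflget : ∀ i < D.rank, ∀ x < D.nroots, (T.refls.getD i []).getD x 0 = D.reflectRoot i x := by
    intro i hi x hx
    rw [hrefl]
    simp [List.getD_eq_getElem?_getD, hi, hx]
  refine ⟨h1, h2, h3, h4, ?_, ?_, ?_, ?_, ?_, ?_⟩
  · intro e he x hx; exact (h5 e he).1.1 x hx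
  · intro e he hne
    rcases (h5 e he).1.2 with h' | ⟨h', i, hi, h''⟩
    · exact absurd h' hne
    · exact ⟨h', i, hi, h''⟩
  · intro e he i hi; exact ((h5 e he).2 i hi).1.1.1
  · intro e he i hi
    rw [((h5 e he).2 i hi).1.1.2]
    apply List.map_congr_left
    intro x hx
    exact hreflget i hi x ((h5 e he).1.1 x hx)
  · intro e he i hi; exact ((h5 e he).2 i hi).1.2
  · intro e he i hi; exact ((h5 e he).2 i hi).2

end Cfsg.Agent.Lib.Helper7
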