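import Cfsg.Agent.Lib.Helper7.ChevWeylChainD4
import Cfsg.Agent.Lib.Helper7.ChevWeylChain2
import Cfsg.Agent.Lib.Helper7.ChevWeylEnum
import Cfsg.Agent.Lib.Helper7.ChevTwistTabD4

/-! The part of the Weyl group of `D₄` commuting with the triality symmetry `ρ` is dihedral of order 12, generated
by the two class reflections: the table check (helper7, after helper11's `F4WeylTab`). -/

set_option autoImplicit false
set_option maxRecDepth 100000

namespace Cfsg.Agent.Lib.Helper7.D4G2

open Cfsg Cfsg.Lie Matrix Cfsg.Agent.Lib.Helper7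

/-- the triality symmetry on the roots -/
def rhoD4 (s : ℕ) : ℕ := grRho_D4_1.getD s 0

/-- the two class words: `w_{J₀} = s₂`, `w_{J₁} = s₁ s₃ s₄` -/
def wJ (J : ℕ) : List ℕ := if J = 0 then [1] else [0, 2, 3]

/-- the word in the fundamental reflections of a word in the classes -/
def flatW (L : List ℕ) : List ℕ := (L.map wJ).flatten

/-- the permutation of the roots of a word in the fundamental reflections, as a list -/
def permW (L : List ℕ) : List ℕ := (List.range 24).map (reflWord chevD4 L)

/-- the alternating word of length `k` starting with `J` -/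
def altW (J : ℕ) : ℕ → List ℕ
  | 0 => []
  | k + 1 => J :: altW (1 - J) k

/-- the 12 reduced words of the dihedral group -/
def words12 : List (List ℕ) := (List.range 7).map (altW 0) ++ (List.range' 1 5).map (altW 1)

/-- their permutations -/
def perms12 : List (List ℕ) := words12.map fun L => permW (flatW L)

theorem wJ_mem (J : ℕ) : wJ J ∈ twSimpIdx_D4 := by
  unfold wJ
  split_ifs <;> decide

/-- the normal forms as a list -/
def nfList : List ChainLevel → List (List ℕ)
  | [] => [[]]
  | L :: Ls => (List.range L.elems.length).flatMap fun e => (nfList Ls).map fun es => e :: es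

theorem mem_nfList : ∀ (Ls : List ChainLevel) (es : List ℕ), IsNF Ls es → es ∈ nfList Ls
  | [], es, h => by
    have : es = [] := h
    rw [this]; exact List.mem_singleton.mpr rfl
  | L :: Ls, [], h => absurd h (by simp [IsNF])
  | L :: Ls, e :: es, h => by
    have h' : e < L.elems.length ∧ IsNF Ls es := h
    show e :: es ∈ (List.range L.elems.length).flatMap fun e => (nfList Ls).map fun es => e :: es
    rw [List.mem_flatMap]
    exact ⟨e, List.mem_range.mpr h'.1, List.mem_map.mpr ⟨es, mem_nfList Ls es h'.2, rfl⟩⟩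

/-- the check for one normal form -/
def rhoChk (e : List ℕ) : Bool :=
  !(([18, 14, 13, 12] : List ℕ).all fun s => (nfPerm 24 weylChain_D4.levels e).getD (rhoD4 s) 0 ==
      rhoD4 ((nfPerm 24 weylChain_D4.levels e).getD s 0)) ||
    perms12.contains (nfPerm 24 weylChain_D4.levels e)

theorem rhoChk_all : (nfList weylChain_D4.levels).all rhoChk = true := by decide +kernel

theorem weylD4_comm_rho_aux (e : List ℕ) (he : e ∈ nfFin weylChain_D4.levels)
    (h : ∀ s < 24, (nfPerm 24 weylChain_D4.levels e).getD (rhoD4 s) 0 =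
        rhoD4 ((nfPerm 24 weylChain_D4.levels e).getD s 0)) :
    nfPerm 24 weylChain_D4.levels e ∈ perms12 := by
  have h1 := List.all_eq_true.mp rhoChk_all e (mem_nfList _ _ ((mem_nfFin _ _).mp he))
  unfold rhoChk at h1
  rw [Bool.or_eq_true] at h1
  rcases h1 with h1 | h1
  · exfalso
    rw [Bool.not_eq_true', ← Bool.not_eq_true, List.all_eq_true] at h1
    apply h1
    intro s hs
    rw [beq_iff_eq]
    exact h s (by revert hs; revert s; decide)
  · exact List.contains_iff_mem.mp h1

theorem getD_map_range' (f : ℕ → ℕ) (n s : ℕ) (hs : s < n) : ((List.range n).map f).getD s 0 = f s := by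
  simp [List.getD_eq_getElem?_getD, hs]

theorem permW_getD (L : List ℕ) (s : ℕ) (hs : s < 24) : (permW L).getD s 0 = reflWord chevD4 L s :=
  getD_map_range' _ _ _ hs

theorem rhoD4_lt (s : ℕ) (hs : s < 24) : rhoD4 s < 24 := by
  revert hs; revert s; decide

/-- an element of the Weyl group of `D₄` commuting with the triality `ρ` is a word in the two class reflections -/
theorem weylD4_comm_rho (L : List ℕ) (hL : ∀ i ∈ L, i < chevD4.rank)
    (hcomm : ∀ s < chevD4.nroots, reflWord chevD4 L (rhoD4 s) = rhoD4 (reflWord chevD4 L s)) :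
    ∃ Js : List (List ℕ), (∀ J ∈ Js, J ∈ twSimpIdx_D4) ∧
      ∀ s < chevD4.nroots, reflWord chevD4 L s = reflWord chevD4 Js.flatten s := by
  have hE := weylEnum_of_chain chevD4 weylChain_D4 weylChainOKB_D4
  obtain ⟨e, he, hp⟩ := enum_word chevD4 _ _ _ _ hE L hL
  have hp' : nfPerm 24 weylChain_D4.levels e = permW L := hp
  have h1 := weylD4_comm_rho_aux e he (by
    intro s hs
    rw [hp', permW_getD _ _ (rhoD4_lt s hs), permW_getD _ _ hs]
    exact hcomm s hs)
  rw [hp'] at h1
  unfold perms12 at h1
  rw [List.mem_map] at h1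
  obtain ⟨w, -, hwe⟩ := h1
  refine ⟨w.map wJ, ?_, fun s hs => ?_⟩
  · intro J hJ
    rw [List.mem_map] at hJ
    obtain ⟨j, -, rfl⟩ := hJ
    exact wJ_mem j
  · have hs' : s < 24 := hs
    have := congrArg (fun l : List ℕ => l.getD s 0) hwe
    simp only [permW_getD _ _ hs'] at this
    exact this.symm

end Cfsg.Agent.Lib.Helper7.D4G2
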