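import Cfsg.Agent.Lib.Helper7.ChevTwistFix
import Cfsg.Agent.Lib.Helper7.D4WeylTab
import Cfsg.Agent.Lib.Helper7.ChevTwistHD4b

/-! The fixed points of the triality graph automorphism of `D₄(K)` are generated by the fixed root class
elements (helper7). -/

set_option autoImplicit false
set_option maxRecDepth 100000

namespace Cfsg.Agent.Lib.Helper7.D4G2

open Cfsg Cfsg.Lie Matrix Cfsg.Agent.Lib.Helper7

section
variable (K : Type*) [Field K]

local notation "hGD4" => graphFacts_of_graphOKB chevD4 grPv_D4_1 grPvInv_D4_1 grRho_D4_1 grRhoInv_D4_1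
  grEps_D4_1 twistTab_D4.graph

local notation "FixD4" => fixSigma chevD4 _ _ _ _ _ hGD4 K (RingEquiv.refl K)

local notation "G0D4" => chevD4.genSubgroup K (twWords K (RingEquiv.refl K) [d4p2, d4m2] []
  [(d4p1, d4p3, d4p4), (d4m1, d4m3, d4m4)])

theorem refl_iter (a : K) : (RingEquiv.refl K)^[3] a = a := rfl

theorem g0_le_group : G0D4 ≤ chevD4.group K := by
  unfold ChevalleyDatum.genSubgroup
  rw [Subgroup.closure_le]
  rintro g ⟨w, -, hg⟩
  have : g = wordGL chevD4 chevD4_mem K w := Units.ext (by rw [hg, coe_wordGL])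
  rw [this]
  exact wordGL_mem_group chevD4 chevD4_mem K w

theorem g0_le_fix : G0D4 ≤ FixD4 :=
  (twistGroupFacts_of_tab chevD4 chevD4_mem _ _ _ _ _ _ _ _ _ _ _ _ _ _ twistTab_D4 K (RingEquiv.refl K)
    (refl_iter K)).le_fix

theorem torus_algebra (a b : K) (ha : a ≠ 0) (hb : b ≠ 0) :
    a * ((a ^ 3 * b ^ 2)⁻¹ * (a ^ 2 * b) ^ 2)⁻¹ = 1 ∧
      b * ((a ^ 3 * b ^ 2) ^ 2 * ((a ^ 2 * b)⁻¹ * ((a ^ 2 * b)⁻¹ * (a ^ 2 * b)⁻¹)))⁻¹ = 1 := by
  constructor <;> field_simp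

/-- the fixed points of the torus lie in `G⁰` -/
theorem torus_le : chevD4.diagonalSubgroup K ⊓ FixD4 ≤ G0D4 := by
  intro h hh
  rw [Subgroup.mem_inf] at hh
  obtain ⟨hH, hfix⟩ := hh
  obtain ⟨χ, hχ, hm⟩ := mem_diagonalSubgroup_char chevD4 chevD4_mem K h hH
  have ha : χ 18 ≠ 0 := hχ.ne0 18 (by decide)
  have hb : χ 14 ≠ 0 := hχ.ne0 14 (by decide)
  obtain ⟨mu, hmu⟩ : ∃ x, x = χ 18 ^ 3 * χ 14 ^ 2 := ⟨_, rfl⟩
  obtain ⟨lam, hlam⟩ : ∃ x, x = χ 18 ^ 2 * χ 14 := ⟨_, rfl⟩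
  have hmu0 : mu ≠ 0 := by rw [hmu]; exact mul_ne_zero (pow_ne_zero _ ha) (pow_ne_zero _ hb)
  have hlam0 : lam ≠ 0 := by rw [hlam]; exact mul_ne_zero (pow_ne_zero _ ha) hb
  obtain ⟨t, ht⟩ : ∃ x, x = tD4 K (RingEquiv.refl K) mu lam := ⟨_, rfl⟩
  have htG : t ∈ G0D4 := by rw [ht]; exact tD4_mem_G1 K _ mu lam hmu0 rfl hlam0
  have htH : t ∈ chevD4.diagonalSubgroup K := by rw [ht]; exact tD4_mem_H K _ mu lam hmu0 hlam0
  obtain ⟨ψ, hψ, hmt⟩ := mem_diagonalSubgroup_char chevD4 chevD4_mem K t htH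
  have hψs : ∀ s < chevD4.nroots, ψ s = prodChar chevD4 K [1] (fun _ => mu) s *
      prodChar chevD4 K [0, 2, 3] (tripleC K (RingEquiv.refl K) 0 2 lam) s := by
    intro s hs
    have e1 := tD4_conj K (RingEquiv.refl K) mu lam hmu0 hlam0 s 1
    rw [← ht] at e1
    have e2 : t * xGL chevD4 chevD4_mem K s 1 * t⁻¹ = xGL chevD4 chevD4_mem K s (ψ s * 1) := by
      rw [diagGL_xGL_comm chevD4 chevD4_mem K t ψ hψ hmt s 1]; group
    rw [e2] at e1
    have := xGL_param_inj chevD4 chevD4_mem K s hs _ _ e1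
    rw [mul_one, mul_one] at this
    exact this
  have h18 : ψ 18 = mu⁻¹ * lam ^ 2 := by rw [hψs 18 (by decide), tD4_char_p1]
  have h14 : ψ 14 = mu ^ 2 * (lam⁻¹ * (lam⁻¹ * lam⁻¹)) := by
    rw [hψs 14 (by decide), tD4_char_p2]; rfl
  have hk : h * t⁻¹ = 1 := by
    apply fixed_diag_eq_one chevD4 chevD4_mem _ _ _ _ _ hGD4 K (RingEquiv.refl K) hcA_D4 hcR_D4
      rootCoefOKB_D4 _ (Subgroup.mul_mem _ hH (Subgroup.inv_mem _ htH))
      (Subgroup.mul_mem _ hfix (Subgroup.inv_mem _ (g0_le_fix K htG)))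
      (fun s => χ s * (ψ s)⁻¹) (hχ.mul hψ.inv)
      (by rw [Units.val_mul, hm, coe_inv_of_diagChar chevD4 K _ ψ hψ.ne0 hmt, diagChar_mul])
      [1, 0] (by decide)
    intro j hj
    simp only [List.mem_cons, List.not_mem_nil, or_false] at hj
    obtain ⟨e18, e14⟩ := torus_algebra K (χ 18) (χ 14) ha hb
    rcases hj with rfl | rfl
    · have e : chevD4.simple 1 = 14 := by decide
      rw [e, h14, hmu, hlam]
      exact e14
    · have e : chevD4.simple 0 = 18 := by decide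
      rw [e, h18, hmu, hlam]
      exact e18
  have : h = t := mul_inv_eq_one.mp hk
  rw [this]; exact htG

/-- the fixed points of the triality on `D₄(K)` are the group generated by the fixed root class elements -/
theorem group_inf_fix_eq : chevD4.group K ⊓ FixD4 = G0D4 := by
  apply le_antisymm
  · obtain ⟨hTw, hpos⟩ := twistFacts_of_twistOKB chevD4 grRho_D4_1 grRhoInv_D4_1 twW_D4 twCls_D4
      twistTab_D4.twist
    have hA := chainAdd_linF chevD4 chevD4_mem twW_D4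
    have hO : PosFacts chevD4 (linF chevD4 twW_D4) := ⟨hpos, twistTab_D4.prim⟩
    have hF := twistGroupFacts_of_tab chevD4 chevD4_mem _ _ _ _ _ _ _ _ _ _ _ _ _ _ twistTab_D4 K
      (RingEquiv.refl K) (refl_iter K)
    exact group_inf_fixSigma_le chevD4 chevD4_mem _ _ _ _ _ hGD4 K (RingEquiv.refl K) (linF chevD4 twW_D4)
      hA hO twCls_D4 hTw _ twSimpIdx_D4 twSimpCls_D4 hF twCert_D4 twistTab_D4.cert
      (fun L hL hcomm => weylD4_comm_rho L hL hcomm) (torus_le K)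
  · exact le_inf (g0_le_group K) (g0_le_fix K)

end

end Cfsg.Agent.Lib.Helper7.D4G2
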