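import Cfsg.Agent.Lib.Helper7.PolyVec
import Cfsg.Agent.Lib.Helper7.ChevWordGL

/-! The embedding of the adjoint module of `G₂` into that of `D₄` as the fixed points of the triality, and the
action of the generators of the fixed point group on it (helper7). -/

set_option autoImplicit false
set_option maxRecDepth 100000

namespace Cfsg.Agent.Lib.Helper7.D4G2

open Cfsg Cfsg.Lie Matrix Cfsg.Agent.Lib.Helper7

/-- the root of `G₂` to which a root of `D₄` restricts -/
def jClsL : List ℕ := [0, 1, 2, 2, 3, 4, 2, 3, 3, 5, 4, 4, 7, 7, 6, 8, 8, 9, 7, 8, 9, 9, 10, 11]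

/-- the signs of the embedding -/
def jSgnL : List ℤ := [-1, -1, -1, -1, 1, 1, 1, -1, -1, 1, 1, 1, 1, 1, 1, -1, -1, 1, 1, 1, -1, -1, -1, -1]

/-- the column of the only non-zero entry of a row of `J` -/
def jCol : chevD4.Idx → chevG2.Idx
  | Sum.inl i => Sum.inl (if i.val = 1 then ⟨1, by decide⟩ else ⟨0, by decide⟩)
  | Sum.inr r => Sum.inr ⟨jClsL.getD r.val 0 % 12, Nat.mod_lt _ (by decide)⟩

/-- the only non-zero entry of a row of `J` -/
def jSgn : chevD4.Idx → ℤ
  | Sum.inl _ => 1
  | Sum.inr r => jSgnL.getD r.val 0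

/-- a row of `J` with non-zero entry in a given column -/
def jRow : chevG2.Idx → chevD4.Idx
  | Sum.inl j => Sum.inl (if j.val = 1 then ⟨1, by decide⟩ else ⟨0, by decide⟩)
  | Sum.inr s => Sum.inr ⟨(jClsL.findIdx fun x => x == s.val) % 24, Nat.mod_lt _ (by decide)⟩

theorem jCol_jRow : ∀ k : chevG2.Idx, jCol (jRow k) = k := by decide +kernel

theorem jSgn_cases : ∀ row : chevD4.Idx, jSgn row = 1 ∨ jSgn row = -1 := by decide +kernel

/-- all indices -/
def allIdx (D : ChevalleyDatum) : List D.Idx :=
  (List.finRange D.rank).map Sum.inl ++ (List.finRange D.nroots).map Sum.inr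

theorem mem_allIdx (D : ChevalleyDatum) (i : D.Idx) : i ∈ allIdx D := by
  unfold allIdx
  rcases i with i | s
  · exact List.mem_append_left _ (List.mem_map.mpr ⟨i, List.mem_finRange i, rfl⟩)
  · exact List.mem_append_right _ (List.mem_map.mpr ⟨s, List.mem_finRange s, rfl⟩)

/-- the check of the identity `X(t) J = J x_s(t)` for a word `X` of root elements of `D₄` -/
def genChk (wd : List (ℕ × ℤ)) (s : ℕ) : Bool :=
  (allIdx chevG2).all fun c =>
    let v := PV.applyW chevD4 wd (PV.vmk chevD4 fun row => if jCol row = c then [jSgn row] else [])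
    (allIdx chevD4).all fun row =>
      PV.pEq (PV.vget chevD4 v row)
        (PV.pSmul (jSgn row) (PV.pMulTerms (polyEntry chevG2 s (jCol row) c) [1]))

section
variable (F : Type*) [Field F]

/-- the embedding `J` of the adjoint module of `G₂` -/
def Jmat : Matrix chevD4.Idx chevG2.Idx F := fun row k => if jCol row = k then ((jSgn row : ℤ) : F) else 0

theorem Jmat_mul_apply (M : Matrix chevG2.Idx chevG2.Idx F) (row : chevD4.Idx) (c : chevG2.Idx) :
    (Jmat F * M) row c = ((jSgn row : ℤ) : F) * M (jCol row) c := by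
  rw [Matrix.mul_apply, Finset.sum_eq_single (jCol row)]
  · unfold Jmat; rw [if_pos rfl]
  · intro k _ hk
    unfold Jmat
    rw [if_neg (fun h => hk h.symm), zero_mul]
  · intro h; exact absurd (Finset.mem_univ _) h

theorem jSgn_cast_ne_zero (row : chevD4.Idx) : ((jSgn row : ℤ) : F) ≠ 0 := by
  rcases jSgn_cases row with h | h <;> rw [h] <;> simp

/-- `J` is injective -/
theorem Jmat_mul_cancel (M M' : Matrix chevG2.Idx chevG2.Idx F) (h : Jmat F * M = Jmat F * M') : M = M' := by
  ext k c
  have h1 := congrFun (congrFun h (jRow k)) c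
  rw [Jmat_mul_apply, Jmat_mul_apply, jCol_jRow] at h1
  exact mul_left_cancel₀ (jSgn_cast_ne_zero F _) h1

/-- the identity `X(t) J = J x_s(t)` from the check -/
theorem gen_identity (wd : List (ℕ × ℤ)) (hwd : ∀ p ∈ wd, p.1 < chevD4.nroots) (s : ℕ)
    (hs : s < chevG2.nroots) (h : genChk wd s = true) (t : F) :
    PV.wordMatK chevD4 F t wd * Jmat F = Jmat F * chevG2.x F s t := by
  ext row c
  rw [Jmat_mul_apply]
  unfold genChk at h
  rw [List.all_eq_true] at h
  have h1 := h c (mem_allIdx chevG2 c)
  simp only [List.all_eq_true] at h1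
  have h2 := h1 row (mem_allIdx chevD4 row)
  have hrep := PV.rep_applyW chevD4 F t wd hwd _ _
    (PV.rep_vmk chevD4 F t (fun row => if jCol row = c then [jSgn row] else []))
  have h3 := hrep row
  have e0 : (fun i : chevD4.Idx => PV.pEval F (if jCol i = c then [jSgn i] else []) t) =
      fun i => Jmat F i c := by
    funext i
    unfold Jmat
    split_ifs
    · simp [PV.pEval_cons, PV.pEval_nil]
    · rfl
  rw [e0] at h3
  have e1 : (PV.wordMatK chevD4 F t wd * Jmat F) row c =
      (PV.wordMatK chevD4 F t wd).mulVec (fun i => Jmat F i c) row := rfl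
  rw [e1, h3, PV.pEval_eq_of_pEq F _ _ h2 t, PV.pEval_smul, PV.pEval_mulTerms,
    x_apply_eq chevG2 F s hs]
  simp [PV.pEval_cons, PV.pEval_nil]

end

theorem genChk_p2 : genChk [(14, 1)] 6 = true := by decide +kernel

theorem genChk_m2 : genChk [(9, 1)] 5 = true := by decide +kernel

theorem genChk_p134 : genChk [(18, 1), (13, 1), (12, 1)] 7 = true := by decide +kernel

theorem genChk_m134 : genChk [(5, 1), (10, 1), (11, 1)] 4 = true := by decide +kernel

end Cfsg.Agent.Lib.Helper7.D4G2
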