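import Mathlib
import Cfsg.Agent.Lib.Helper3.BNSimple

/-! Isomorphisms from subgroups of a product projecting bijectively (Goursat), and a normal subgroup of a group
with `(B,N)`-pair is trivial or meets a cell `B s B` modulo `B` (helper7). -/

set_option autoImplicit false

namespace Cfsg.Agent.Lib.Helper7

open Cfsg

/-- a subgroup of `G × H` whose two projections are injective gives an isomorphism between its images -/
theorem nonempty_mulEquiv_of_graph {G H : Type*} [Group G] [Group H] (Γ : Subgroup (G × H))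
    (A : Subgroup G) (B : Subgroup H)
    (hA : Γ.map (MonoidHom.fst G H) = A) (hB : Γ.map (MonoidHom.snd G H) = B)
    (h1 : ∀ p ∈ Γ, p.1 = 1 → p.2 = 1) (h2 : ∀ p ∈ Γ, p.2 = 1 → p.1 = 1) : Nonempty (↥A ≃* ↥B) := by
  have hfA : ∀ p : ↥Γ, (p : G × H).1 ∈ A := fun p => by
    rw [← hA]; exact ⟨p.1, p.2, rfl⟩
  have hfB : ∀ p : ↥Γ, (p : G × H).2 ∈ B := fun p => by
    rw [← hB]; exact ⟨p.1, p.2, rfl⟩
  let f1 : ↥Γ →* ↥A := ((MonoidHom.fst G H).comp Γ.subtype).codRestrict A hfA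
  let f2 : ↥Γ →* ↥B := ((MonoidHom.snd G H).comp Γ.subtype).codRestrict B hfB
  have hinj1 : Function.Injective f1 := by
    rw [injective_iff_map_eq_one]
    intro p hp
    have hp1 : (p : G × H).1 = 1 := congrArg Subtype.val hp
    have hp2 := h1 p.1 p.2 hp1
    exact Subtype.ext (Prod.ext hp1 hp2)
  have hinj2 : Function.Injective f2 := by
    rw [injective_iff_map_eq_one]
    intro p hp
    have hp2 : (p : G × H).2 = 1 := congrArg Subtype.val hp
    have hp1 := h2 p.1 p.2 hp2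
    exact Subtype.ext (Prod.ext hp1 hp2)
  have hsurj1 : Function.Surjective f1 := by
    rintro ⟨a, ha⟩
    rw [← hA] at ha
    obtain ⟨p, hp, rfl⟩ := ha
    exact ⟨⟨p, hp⟩, rfl⟩
  have hsurj2 : Function.Surjective f2 := by
    rintro ⟨b, hb⟩
    rw [← hB] at hb
    obtain ⟨p, hp, rfl⟩ := hb
    exact ⟨⟨p, hp⟩, rfl⟩
  exact ⟨(MulEquiv.ofBijective f1 ⟨hinj1, hsurj1⟩).symm.trans (MulEquiv.ofBijective f2 ⟨hinj2, hsurj2⟩)⟩

/-- a normal subgroup of a group with a `(B,N)`-pair whose `B` has trivial core is trivial, or some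
distinguished generator lies in `Z B` -/
theorem normal_eq_bot_or_exists {G : Type*} [Group G] (P : Cfsg.BNPair G) (Z : Subgroup G) [hZ : Z.Normal]
    (hcore : P.B.normalCore = ⊥) :
    Z = ⊥ ∨ ∃ s ∈ P.S, ∃ z ∈ Z, ∃ b ∈ P.B, s = z * b := by
  have hMP := Cfsg.Agent.Lib.Helper3.BN.subgroup_eq_parabolic P (Z ⊔ P.B) le_sup_right
  by_cases hX : {s | s ∈ P.S ∧ s ∈ Z ⊔ P.B} = (∅ : Set G)
  · left
    rw [hX, Cfsg.Agent.Lib.Helper3.BN.parabolic_empty] at hMP
    have hle : Z ≤ P.B := by rw [← hMP]; exact le_sup_left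
    have := (Subgroup.normal_le_normalCore (H := P.B) (N := Z)).mpr hle
    rw [hcore] at this
    exact le_bot_iff.mp this
  · right
    obtain ⟨s, hs⟩ := Set.nonempty_iff_ne_empty.mpr hX
    obtain ⟨hsS, hsM⟩ := hs
    have hsM' : s ∈ ((Z ⊔ P.B : Subgroup G) : Set G) := hsM
    rw [Subgroup.normal_mul] at hsM'
    obtain ⟨z, hz, b, hb, rfl⟩ := Set.mem_mul.mp hsM'
    exact ⟨_, hsS, z, hz, b, hb, rfl⟩

end Cfsg.Agent.Lib.Helper7
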