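import Cfsg.Agent.Lib.Helper7.D4G2a
import Cfsg.Agent.Lib.Helper7.D4FixA
import Cfsg.Agent.Lib.Helper7.GraphIso
import Cfsg.Agent.Lib.Helper7.ChevFundGen
import Cfsg.Agent.Lib.Helper7.ChevTwistCoreTab

/-! The fixed point group of the triality of `D₄(K)` is isomorphic to `G₂(K)`: the graph of the isomorphism
(helper7). -/

set_option autoImplicit false
set_option maxRecDepth 100000

namespace Cfsg.Agent.Lib.Helper7.D4G2

open Cfsg Cfsg.Lie Matrix Cfsg.Agent.Lib.Helper7

theorem g2mem : chevG2 ∈ [chevG2, chevB2, chevD4, chevF4, chevE6, chevE7, chevE8] := by simp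

section
variable (K : Type*) [Field K]

local notation "G0D4" => chevD4.genSubgroup K (twWords K (RingEquiv.refl K) [d4p2, d4m2] []
  [(d4p1, d4p3, d4p4), (d4m1, d4m3, d4m4)])

local notation "X4" => xGL chevD4 chevD4_mem K

local notation "X2" => xGL chevG2 g2mem K

/-- the pairs of corresponding generators -/
def genPairs : Set (GL chevD4.Idx K × GL chevG2.Idx K) :=
  {p | ∃ t : K, p = (X4 14 t, X2 6 t)} ∪ {p | ∃ t : K, p = (X4 9 t, X2 5 t)} ∪
  {p | ∃ t : K, p = (X4 18 t * X4 13 t * X4 12 t, X2 7 t)} ∪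
  {p | ∃ t : K, p = (X4 5 t * X4 10 t * X4 11 t, X2 4 t)}

/-- the pairs `(g, M)` with `g J = J M` -/
def relSub : Subgroup (GL chevD4.Idx K × GL chevG2.Idx K) where
  carrier := {p | (p.1 : Matrix chevD4.Idx chevD4.Idx K) * Jmat K = Jmat K * (p.2 : Matrix chevG2.Idx chevG2.Idx K)}
  one_mem' := by
    show ((1 : GL chevD4.Idx K) : Matrix chevD4.Idx chevD4.Idx K) * Jmat K =
      Jmat K * ((1 : GL chevG2.Idx K) : Matrix chevG2.Idx chevG2.Idx K)
    rw [Units.val_one, Units.val_one, Matrix.one_mul, Matrix.mul_one]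
  mul_mem' := by
    intro p q hp hq
    show ((p.1 * q.1 : GL chevD4.Idx K) : Matrix chevD4.Idx chevD4.Idx K) * Jmat K =
      Jmat K * ((p.2 * q.2 : GL chevG2.Idx K) : Matrix chevG2.Idx chevG2.Idx K)
    have hp' : (p.1 : Matrix chevD4.Idx chevD4.Idx K) * Jmat K = Jmat K * (p.2 : Matrix chevG2.Idx chevG2.Idx K) := hp
    have hq' : (q.1 : Matrix chevD4.Idx chevD4.Idx K) * Jmat K = Jmat K * (q.2 : Matrix chevG2.Idx chevG2.Idx K) := hq
    rw [Units.val_mul, Units.val_mul, Matrix.mul_assoc, hq', ← Matrix.mul_assoc, hp', Matrix.mul_assoc]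
  inv_mem' := by
    intro p hp
    show ((p.1⁻¹ : GL chevD4.Idx K) : Matrix chevD4.Idx chevD4.Idx K) * Jmat K =
      Jmat K * ((p.2⁻¹ : GL chevG2.Idx K) : Matrix chevG2.Idx chevG2.Idx K)
    have hp' : (p.1 : Matrix chevD4.Idx chevD4.Idx K) * Jmat K = Jmat K * (p.2 : Matrix chevG2.Idx chevG2.Idx K) := hp
    have e1 : ((p.1⁻¹ : GL chevD4.Idx K) : Matrix chevD4.Idx chevD4.Idx K) * (p.1 : Matrix chevD4.Idx chevD4.Idx K) = 1 := by
      rw [← Units.val_mul, inv_mul_cancel, Units.val_one]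
    have e2 : (p.2 : Matrix chevG2.Idx chevG2.Idx K) * ((p.2⁻¹ : GL chevG2.Idx K) : Matrix chevG2.Idx chevG2.Idx K) = 1 := by
      rw [← Units.val_mul, mul_inv_cancel, Units.val_one]
    calc ((p.1⁻¹ : GL chevD4.Idx K) : Matrix chevD4.Idx chevD4.Idx K) * Jmat K
        = ((p.1⁻¹ : GL chevD4.Idx K) : Matrix chevD4.Idx chevD4.Idx K) * (Jmat K *
            ((p.2 : Matrix chevG2.Idx chevG2.Idx K) * ((p.2⁻¹ : GL chevG2.Idx K) : Matrix chevG2.Idx chevG2.Idx K))) := by
          rw [e2, Matrix.mul_one]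
      _ = ((p.1⁻¹ : GL chevD4.Idx K) : Matrix chevD4.Idx chevD4.Idx K) * ((p.1 : Matrix chevD4.Idx chevD4.Idx K) * Jmat K) *
            ((p.2⁻¹ : GL chevG2.Idx K) : Matrix chevG2.Idx chevG2.Idx K) := by
          rw [hp']; simp only [Matrix.mul_assoc]
      _ = Jmat K * ((p.2⁻¹ : GL chevG2.Idx K) : Matrix chevG2.Idx chevG2.Idx K) := by
          rw [← Matrix.mul_assoc _ _ (Jmat K), e1, Matrix.one_mul]

theorem mem_relSub (p : GL chevD4.Idx K × GL chevG2.Idx K) :
    p ∈ relSub K ↔ (p.1 : Matrix chevD4.Idx chevD4.Idx K) * Jmat K =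
      Jmat K * (p.2 : Matrix chevG2.Idx chevG2.Idx K) := Iff.rfl

/-- the graph of the isomorphism -/
def gam : Subgroup (GL chevD4.Idx K × GL chevG2.Idx K) := Subgroup.closure (genPairs K)

theorem wordMatK_one (r : ℕ) (t : K) : PV.wordMatK chevD4 K t [(r, 1)] = chevD4.x K r t := by
  unfold PV.wordMatK
  simp

theorem wordMatK_three (a b c : ℕ) (t : K) : PV.wordMatK chevD4 K t [(a, 1), (b, 1), (c, 1)] =
    chevD4.x K a t * chevD4.x K b t * chevD4.x K c t := by
  unfold PV.wordMatK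
  simp [Matrix.mul_assoc]

theorem gam_le_rel : gam K ≤ relSub K := by
  unfold gam
  rw [Subgroup.closure_le]
  intro p hp
  rw [SetLike.mem_coe, mem_relSub]
  rcases hp with ((⟨t, rfl⟩ | ⟨t, rfl⟩) | ⟨t, rfl⟩) | ⟨t, rfl⟩
  · have := gen_identity K [(14, 1)] (by decide) 6 (by decide) genChk_p2 t
    rw [wordMatK_one] at this
    rw [coe_xGL, coe_xGL]; exact this
  · have := gen_identity K [(9, 1)] (by decide) 5 (by decide) genChk_m2 t
    rw [wordMatK_one] at this
    rw [coe_xGL, coe_xGL]; exact this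
  · have := gen_identity K [(18, 1), (13, 1), (12, 1)] (by decide) 7 (by decide) genChk_p134 t
    rw [wordMatK_three] at this
    rw [Units.val_mul, Units.val_mul, coe_xGL, coe_xGL, coe_xGL, coe_xGL]; exact this
  · have := gen_identity K [(5, 1), (10, 1), (11, 1)] (by decide) 4 (by decide) genChk_m134 t
    rw [wordMatK_three] at this
    rw [Units.val_mul, Units.val_mul, coe_xGL, coe_xGL, coe_xGL, coe_xGL]; exact this

theorem fst_mem_g0 (p : GL chevD4.Idx K × GL chevG2.Idx K) (hp : p ∈ genPairs K) : p.1 ∈ G0D4 := by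
  apply Subgroup.subset_closure
  rcases hp with ((⟨t, rfl⟩ | ⟨t, rfl⟩) | ⟨t, rfl⟩) | ⟨t, rfl⟩
  · refine ⟨[(14, t)], Or.inl (Or.inl ⟨t, rfl, 14, by decide, rfl⟩), ?_⟩
    rw [coe_xGL]; simp [ChevalleyDatum.wordMat]
  · refine ⟨[(9, t)], Or.inl (Or.inl ⟨t, rfl, 9, by decide, rfl⟩), ?_⟩
    rw [coe_xGL]; simp [ChevalleyDatum.wordMat]
  · refine ⟨[(18, t), (13, t), (12, t)], Or.inr ⟨t, (18, 13, 12), by decide, rfl⟩, ?_⟩
    rw [Units.val_mul, Units.val_mul, coe_xGL, coe_xGL, coe_xGL]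
    simp [ChevalleyDatum.wordMat, Matrix.mul_assoc]
  · refine ⟨[(5, t), (10, t), (11, t)], Or.inr ⟨t, (5, 10, 11), by decide, rfl⟩, ?_⟩
    rw [Units.val_mul, Units.val_mul, coe_xGL, coe_xGL, coe_xGL]
    simp [ChevalleyDatum.wordMat, Matrix.mul_assoc]

theorem gam_map_fst : (gam K).map (MonoidHom.fst (GL chevD4.Idx K) (GL chevG2.Idx K)) = G0D4 := by
  unfold gam
  rw [MonoidHom.map_closure]
  apply le_antisymm
  · rw [Subgroup.closure_le]
    rintro g ⟨p, hp, rfl⟩
    exact fst_mem_g0 K p hp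
  · unfold ChevalleyDatum.genSubgroup
    rw [Subgroup.closure_le]
    rintro g ⟨w, hw, hg⟩
    apply Subgroup.subset_closure
    rcases hw with (⟨t, -, r, hr, rfl⟩ | ⟨t, rs, hrs, rfl⟩) | ⟨t, rs, hrs, rfl⟩
    · simp only [d4p2, d4m2, List.mem_cons, List.not_mem_nil, or_false] at hr
      rcases hr with rfl | rfl
      · have : g = X4 14 t := Units.ext (by rw [hg, coe_xGL]; simp [ChevalleyDatum.wordMat])
        rw [this]
        exact ⟨(X4 14 t, X2 6 t), Or.inl (Or.inl (Or.inl ⟨t, rfl⟩)), rfl⟩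
      · have : g = X4 9 t := Units.ext (by rw [hg, coe_xGL]; simp [ChevalleyDatum.wordMat])
        rw [this]
        exact ⟨(X4 9 t, X2 5 t), Or.inl (Or.inl (Or.inr ⟨t, rfl⟩)), rfl⟩
    · simp at hrs
    · simp only [d4p1, d4p3, d4p4, d4m1, d4m3, d4m4, List.mem_cons, List.not_mem_nil, or_false] at hrs
      rcases hrs with rfl | rfl
      · have : g = X4 18 t * X4 13 t * X4 12 t := Units.ext (by
          rw [hg, Units.val_mul, Units.val_mul, coe_xGL, coe_xGL, coe_xGL]
          simp [ChevalleyDatum.wordMat, Matrix.mul_assoc])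
        rw [this]
        exact ⟨(X4 18 t * X4 13 t * X4 12 t, X2 7 t), Or.inl (Or.inr ⟨t, rfl⟩), rfl⟩
      · have : g = X4 5 t * X4 10 t * X4 11 t := Units.ext (by
          rw [hg, Units.val_mul, Units.val_mul, coe_xGL, coe_xGL, coe_xGL]
          simp [ChevalleyDatum.wordMat, Matrix.mul_assoc])
        rw [this]
        exact ⟨(X4 5 t * X4 10 t * X4 11 t, X2 4 t), Or.inr ⟨t, rfl⟩, rfl⟩

theorem gam_map_snd : (gam K).map (MonoidHom.snd (GL chevD4.Idx K) (GL chevG2.Idx K)) = chevG2.group K := by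
  unfold gam
  rw [MonoidHom.map_closure]
  apply le_antisymm
  · rw [Subgroup.closure_le]
    rintro g ⟨p, hp, rfl⟩
    rcases hp with ((⟨t, rfl⟩ | ⟨t, rfl⟩) | ⟨t, rfl⟩) | ⟨t, rfl⟩ <;>
      exact xGL_mem_group chevG2 g2mem K _ _
  · refine (group_le_fundRootGen chevG2 g2mem K).trans ?_
    unfold fundRootGen
    rw [Subgroup.closure_le]
    rintro g ⟨i, t, hi, hg⟩
    apply Subgroup.subset_closure
    have hi' : i = 0 ∨ i = 1 := by
      have : i < 2 := hi
      omega
    have e0 : chevG2.simple 0 = 7 := by decide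
    have e1 : chevG2.simple 1 = 6 := by decide
    have e0' : chevG2.neg 7 = 4 := by decide
    have e1' : chevG2.neg 6 = 5 := by decide
    rcases hi' with rfl | rfl
    · rw [e0, e0'] at hg
      rcases hg with hg | hg
      · have : g = X2 7 t := Units.ext (by rw [hg, coe_xGL])
        rw [this]
        exact ⟨(X4 18 t * X4 13 t * X4 12 t, X2 7 t), Or.inl (Or.inr ⟨t, rfl⟩), rfl⟩
      · have : g = X2 4 t := Units.ext (by rw [hg, coe_xGL])
        rw [this]
        exact ⟨(X4 5 t * X4 10 t * X4 11 t, X2 4 t), Or.inr ⟨t, rfl⟩, rfl⟩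
    · rw [e1, e1'] at hg
      rcases hg with hg | hg
      · have : g = X2 6 t := Units.ext (by rw [hg, coe_xGL])
        rw [this]
        exact ⟨(X4 14 t, X2 6 t), Or.inl (Or.inl (Or.inl ⟨t, rfl⟩)), rfl⟩
      · have : g = X2 5 t := Units.ext (by rw [hg, coe_xGL])
        rw [this]
        exact ⟨(X4 9 t, X2 5 t), Or.inl (Or.inl (Or.inr ⟨t, rfl⟩)), rfl⟩

/-- an element of the graph with trivial first component is trivial -/
theorem gam_fst_one (p : GL chevD4.Idx K × GL chevG2.Idx K) (hp : p ∈ gam K) (h1 : p.1 = 1) : p.2 = 1 := by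
  have := (mem_relSub K p).mp (gam_le_rel K hp)
  rw [h1, Units.val_one, Matrix.one_mul] at this
  apply Units.ext
  rw [Units.val_one]
  apply Jmat_mul_cancel K
  rw [Matrix.mul_one]
  exact this.symm

/-- the entries of an element of `B` in rows of lower level vanish -/
theorem borel_apply_zero (D : ChevalleyDatum) (hD : D ∈ [chevG2, chevB2, chevD4, chevF4, chevE6, chevE7, chevE8])
    (b : GL D.Idx K) (hb : b ∈ D.borelSubgroup K) (i j : D.Idx) (hij : levelFn D i < levelFn D j) :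
    (b : Matrix D.Idx D.Idx K) i j = 0 := by
  have hB' : b ∈ ((D.borelSubgroup K : Subgroup (GL D.Idx K)) : Set (GL D.Idx K)) := hb
  rw [borel_eq_mul D hD K] at hB'
  obtain ⟨h, hh, u, hu, rfl⟩ := Set.mem_mul.mp hB'
  obtain ⟨χ, -, hhm⟩ := mem_diagonalSubgroup_char D hD K h hh
  have hlevU : Level (levelFn D) 1 ((u : Matrix D.Idx D.Idx K) - 1) :=
    mem_unitriSubgroup.mp (posUnipotent_le_unitri D (triOK_of_mem D hD) K hu)
  have hne : i ≠ j := fun e => by rw [e] at hij; exact lt_irrefl _ hij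
  have hu0 : (u : Matrix D.Idx D.Idx K) i j = 0 := by
    have := hlevU i j (by omega)
    rw [Matrix.sub_apply, Matrix.one_apply_ne hne, sub_zero] at this
    exact this
  rw [Units.val_mul, hhm]
  unfold diagChar
  rw [Matrix.diagonal_mul, hu0, mul_zero]

theorem pEval_one (p : List ℤ) : PV.pEval K p 1 = ((p.sum : ℤ) : K) := by
  induction p with
  | nil => simp [PV.pEval_nil]
  | cons c p ih => rw [PV.pEval_cons, ih, List.sum_cons]; push_cast; ring

end

/-- the check that an entry of `n J` is `-1` -/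
def nChk (wd : List (ℕ × ℤ)) (c : chevG2.Idx) (row : chevD4.Idx) : Bool :=
  (PV.vget chevD4 (PV.applyW chevD4 wd (PV.vmk chevD4 fun r => if jCol r = c then [jSgn r] else []))
    row).sum == -1

theorem nChk_0 : nChk [(14, 1), (9, -1), (14, 1)] (Sum.inr ⟨6, by decide⟩) (Sum.inr ⟨9, by decide⟩) = true := by
  decide +kernel

theorem nChk_1 : nChk [(18, 1), (5, -1), (18, 1), (13, 1), (10, -1), (13, 1), (12, 1), (11, -1), (12, 1)]
    (Sum.inr ⟨7, by decide⟩) (Sum.inr ⟨5, by decide⟩) = true := by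
  decide +kernel

theorem lvl_0 : ∀ k : chevD4.Idx, jCol k = Sum.inr ⟨6, by decide⟩ →
    levelFn chevD4 (Sum.inr ⟨9, by decide⟩) < levelFn chevD4 k := by decide +kernel

theorem lvl_1 : ∀ k : chevD4.Idx, jCol k = Sum.inr ⟨7, by decide⟩ →
    levelFn chevD4 (Sum.inr ⟨5, by decide⟩) < levelFn chevD4 k := by decide +kernel

section
variable (K : Type*) [Field K]

local notation "G0D4" => chevD4.genSubgroup K (twWords K (RingEquiv.refl K) [d4p2, d4m2] []
  [(d4p1, d4p3, d4p4), (d4m1, d4m3, d4m4)])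

theorem n_entry (wd : List (ℕ × ℤ)) (hwd : ∀ p ∈ wd, p.1 < chevD4.nroots) (c : chevG2.Idx)
    (row : chevD4.Idx) (h : nChk wd c row = true) :
    (PV.wordMatK chevD4 K 1 wd * Jmat K) row c = -1 := by
  have hrep := PV.rep_applyW chevD4 K 1 wd hwd _ _
    (PV.rep_vmk chevD4 K 1 (fun row => if jCol row = c then [jSgn row] else []))
  have h3 := hrep row
  have e0 : (fun i : chevD4.Idx => PV.pEval K (if jCol i = c then [jSgn i] else []) 1) =
      fun i => Jmat K i c := by
    funext i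
    unfold Jmat
    split_ifs
    · simp [PV.pEval_cons, PV.pEval_nil]
    · rfl
  rw [e0] at h3
  have e1 : (PV.wordMatK chevD4 K 1 wd * Jmat K) row c =
      (PV.wordMatK chevD4 K 1 wd).mulVec (fun i => Jmat K i c) row := rfl
  rw [e1, h3, pEval_one]
  unfold nChk at h
  rw [beq_iff_eq] at h
  rw [h]; simp

/-- an entry of `b J` vanishes for `b` in the Borel subgroup -/
theorem borel_entry (b : GL chevD4.Idx K) (hb : b ∈ chevD4.borelSubgroup K) (c : chevG2.Idx)
    (row : chevD4.Idx) (hlvl : ∀ k : chevD4.Idx, jCol k = c → levelFn chevD4 row < levelFn chevD4 k) :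
    ((b : Matrix chevD4.Idx chevD4.Idx K) * Jmat K) row c = 0 := by
  rw [Matrix.mul_apply]
  apply Finset.sum_eq_zero
  intro k _
  by_cases hk : jCol k = c
  · rw [borel_apply_zero K chevD4 chevD4_mem b hb row k (hlvl k hk), zero_mul]
  · unfold Jmat; rw [if_neg hk, mul_zero]

theorem nWordGL_0 : ((nWordGL chevD4 chevD4_mem K [1] : GL chevD4.Idx K) : Matrix chevD4.Idx chevD4.Idx K) =
    PV.wordMatK chevD4 K 1 [(14, 1), (9, -1), (14, 1)] := by
  have e1 : chevD4.simple 1 = 14 := by decide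
  have e2 : chevD4.neg 14 = 9 := by decide
  unfold nWordGL nFund
  simp only [List.map_cons, List.map_nil, List.prod_cons, List.prod_nil, mul_one, coe_wordGL]
  unfold ChevalleyDatum.nWord ChevalleyDatum.wordMat PV.wordMatK
  rw [e1, e2]
  simp

theorem nWordGL_1 : ((nWordGL chevD4 chevD4_mem K [0, 2, 3] : GL chevD4.Idx K) : Matrix chevD4.Idx chevD4.Idx K) =
    PV.wordMatK chevD4 K 1 [(18, 1), (5, -1), (18, 1), (13, 1), (10, -1), (13, 1), (12, 1), (11, -1), (12, 1)] := by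
  have e1 : chevD4.simple 0 = 18 := by decide
  have e2 : chevD4.neg 18 = 5 := by decide
  have e3 : chevD4.simple 2 = 13 := by decide
  have e4 : chevD4.neg 13 = 10 := by decide
  have e5 : chevD4.simple 3 = 12 := by decide
  have e6 : chevD4.neg 12 = 11 := by decide
  unfold nWordGL nFund
  simp only [List.map_cons, List.map_nil, List.prod_cons, List.prod_nil, mul_one, coe_wordGL, Units.val_mul]
  unfold ChevalleyDatum.nWord ChevalleyDatum.wordMat PV.wordMatK
  rw [e1, e2, e3, e4, e5, e6]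
  simp [Matrix.mul_assoc]

/-- the elements of `G⁰` acting trivially on the image of `J` -/
def kerSub : Subgroup ↥G0D4 where
  carrier := {g | ((g : GL chevD4.Idx K), (1 : GL chevG2.Idx K)) ∈ gam K}
  one_mem' := by
    show (((1 : ↥G0D4) : GL chevD4.Idx K), (1 : GL chevG2.Idx K)) ∈ gam K
    exact Subgroup.one_mem _
  mul_mem' := by
    intro a b ha hb
    show (((a * b : ↥G0D4) : GL chevD4.Idx K), (1 : GL chevG2.Idx K)) ∈ gam K
    have ha' : ((a : GL chevD4.Idx K), (1 : GL chevG2.Idx K)) ∈ gam K := ha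
    have hb' : ((b : GL chevD4.Idx K), (1 : GL chevG2.Idx K)) ∈ gam K := hb
    have := Subgroup.mul_mem _ ha' hb'
    simpa using this
  inv_mem' := by
    intro a ha
    show (((a⁻¹ : ↥G0D4) : GL chevD4.Idx K), (1 : GL chevG2.Idx K)) ∈ gam K
    have ha' : ((a : GL chevD4.Idx K), (1 : GL chevG2.Idx K)) ∈ gam K := ha
    have := Subgroup.inv_mem _ ha'
    simpa using this

theorem mem_kerSub (g : ↥G0D4) :
    g ∈ kerSub K ↔ ((g : GL chevD4.Idx K), (1 : GL chevG2.Idx K)) ∈ gam K := Iff.rfl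

theorem exists_partner (y : GL chevD4.Idx K) (hy : y ∈ G0D4) : ∃ M : GL chevG2.Idx K, (y, M) ∈ gam K := by
  rw [← gam_map_fst K] at hy
  obtain ⟨q, hq, rfl⟩ := hy
  exact ⟨q.2, hq⟩

instance kerSub_normal : (kerSub K).Normal := by
  constructor
  intro g hg y
  obtain ⟨M, hM⟩ := exists_partner K y.1 y.2
  rw [mem_kerSub] at hg ⊢
  have h1 : (y.1, M) * ((g : GL chevD4.Idx K), (1 : GL chevG2.Idx K)) * (y.1, M)⁻¹ ∈ gam K :=
    Subgroup.mul_mem _ (Subgroup.mul_mem _ hM hg) (Subgroup.inv_mem _ hM)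
  have e : (y.1, M) * ((g : GL chevD4.Idx K), (1 : GL chevG2.Idx K)) * (y.1, M)⁻¹ =
      (((y * g * y⁻¹ : ↥G0D4) : GL chevD4.Idx K), (1 : GL chevG2.Idx K)) := by
    apply Prod.ext
    · simp
    · simp
  rw [e] at h1
  exact h1

/-- the distinguished generators do not lie in `Z B` -/
theorem not_mem_kerSub_mul (J : List ℕ) (c : chevG2.Idx) (row : chevD4.Idx) (wd : List (ℕ × ℤ))
    (hwd : ∀ p ∈ wd, p.1 < chevD4.nroots)
    (hn : ((nWordGL chevD4 chevD4_mem K J : GL chevD4.Idx K) : Matrix chevD4.Idx chevD4.Idx K) =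
      PV.wordMatK chevD4 K 1 wd)
    (hchk : nChk wd c row = true)
    (hlvl : ∀ k : chevD4.Idx, jCol k = c → levelFn chevD4 row < levelFn chevD4 k)
    (z b : ↥G0D4) (hz : z ∈ kerSub K) (hb : (b : GL chevD4.Idx K) ∈ chevD4.borelSubgroup K)
    (h : nWordGL chevD4 chevD4_mem K J = (z : GL chevD4.Idx K) * (b : GL chevD4.Idx K)) : False := by
  obtain ⟨M, hM⟩ := exists_partner K b.1 b.2
  rw [mem_kerSub] at hz
  have hrz := (mem_relSub K _).mp (gam_le_rel K hz)
  have hrb := (mem_relSub K _).mp (gam_le_rel K hM)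
  simp only [Units.val_one, Matrix.mul_one] at hrz
  have e1 : ((nWordGL chevD4 chevD4_mem K J : GL chevD4.Idx K) : Matrix chevD4.Idx chevD4.Idx K) * Jmat K =
      ((b : GL chevD4.Idx K) : Matrix chevD4.Idx chevD4.Idx K) * Jmat K := by
    rw [h, Units.val_mul, Matrix.mul_assoc, hrb, ← Matrix.mul_assoc, hrz, ← hrb]
  have e2 := congrFun (congrFun e1 row) c
  rw [hn, n_entry K wd hwd c row hchk, borel_entry K b.1 hb c row hlvl] at e2
  have : (1 : K) = 0 := by
    have := congrArg (fun x => -x) e2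
    simpa using this
  exact one_ne_zero this

/-- an element of the graph with trivial second component is trivial -/
theorem gam_snd_one (p : GL chevD4.Idx K × GL chevG2.Idx K) (hp : p ∈ gam K) (h2 : p.2 = 1) : p.1 = 1 := by
  obtain ⟨P, hPB, -, hPS⟩ := exists_twistedBNPair chevD4 chevD4_mem _ _ _ _ _ _ _ _ _ _ _ _ _ _
    twistTab_D4 twistTab2_D4 K (RingEquiv.refl K) (refl_iter K)
  have hcore : P.B.normalCore = ⊥ := by
    rw [hPB]; exact twD4_core_eq_bot K (RingEquiv.refl K) (refl_iter K)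
  have hp1 : p.1 ∈ G0D4 := by
    rw [← gam_map_fst K]; exact ⟨p, hp, rfl⟩
  have hpZ : (⟨p.1, hp1⟩ : ↥G0D4) ∈ kerSub K := by
    rw [mem_kerSub]
    show (p.1, (1 : GL chevG2.Idx K)) ∈ gam K
    rw [← h2]; exact hp
  rcases normal_eq_bot_or_exists P (kerSub K) hcore with hZ | ⟨s, hs, z, hz, b, hb, hsz⟩
  · rw [hZ, Subgroup.mem_bot] at hpZ
    exact congrArg Subtype.val hpZ
  · exfalso
    rw [hPS] at hs
    obtain ⟨J, hJ⟩ := hs
    rw [hPB, Subgroup.mem_subgroupOf, Subgroup.mem_inf] at hb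
    have hsz' : (s : GL chevD4.Idx K) = (z : GL chevD4.Idx K) * (b : GL chevD4.Idx K) := by
      rw [hsz]; rfl
    rw [hJ] at hsz'
    unfold clsRep at hsz'
    have hJc : J = ⟨0, by decide⟩ ∨ J = ⟨1, by decide⟩ := by
      have : ∀ J : Fin twSimpIdx_D4.length, J = ⟨0, by decide⟩ ∨ J = ⟨1, by decide⟩ := by decide
      exact this J
    rcases hJc with rfl | rfl
    · exact not_mem_kerSub_mul K [1] _ _ _ (by decide) (nWordGL_0 K) nChk_0 lvl_0 z b hz hb.1 hsz'
    · exact not_mem_kerSub_mul K [0, 2, 3] _ _ _ (by decide) (nWordGL_1 K) nChk_1 lvl_1 z b hz hb.1 hsz'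

/-- the fixed point group of the triality of `D₄(K)` is isomorphic to `G₂(K)` -/
theorem g0_equiv_g2 : Nonempty (↥G0D4 ≃* ↥(chevG2.group K)) :=
  nonempty_mulEquiv_of_graph (gam K) _ _ (gam_map_fst K) (gam_map_snd K) (gam_fst_one K) (gam_snd_one K)

end

end Cfsg.Agent.Lib.Helper7.D4G2
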