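import Cfsg.Agent.Lib.Helper7.D4G2b
import Cfsg.Agent.Lib.Helper7.ChevDiagSymTab

/-! The fixed points of a triality graph automorphism of `D₄(F)` form a group isomorphic to `G₂(F)` (helper7). -/

set_option autoImplicit false
set_option maxRecDepth 100000

namespace Cfsg.Agent.Lib.Helper7.D4G2

open Cfsg Cfsg.Lie Matrix Cfsg.Agent.Lib.Helper7

theorem d4_graphExp (c i j : ℕ) (hi : i < 4) (hj : j < 4) : chevD4.graphExp c i j = 1 := by
  have h : ∀ k < 4, chevD4.isLong (chevD4.simple k) = false := by decide +kernel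
  unfold ChevalleyDatum.graphExp
  rw [h i hi, h j hj]
  rfl

section
variable (F : Type*) [Field F]

local notation "hGD4" => graphFacts_of_graphOKB chevD4 grPv_D4_1 grPvInv_D4_1 grRho_D4_1 grRhoInv_D4_1
  grEps_D4_1 twistTab_D4.graph

local notation "SigD4" => sigmaGL chevD4 _ _ _ _ _ hGD4 F (RingEquiv.refl F)

local notation "G0D4" => chevD4.genSubgroup F (twWords F (RingEquiv.refl F) [d4p2, d4m2] []
  [(d4p1, d4p3, d4p4), (d4m1, d4m3, d4m4)])

/-- an automorphism acting on the fundamental root elements as the triality `0 → 2 → 3 → 0` is the restriction of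
`σ` -/
theorem aut_eq_sigma (τ : ↥(chevD4.group F) ≃* ↥(chevD4.group F)) (π : Equiv.Perm (Fin chevD4.rank))
    (hπ : ∀ i : Fin chevD4.rank, (π i).val = grPv_D4_1.getD i.val 0)
    (hτ : ∀ (g : ↥(chevD4.group F)) (i : Fin chevD4.rank) (t : F),
      (((g : GL chevD4.Idx F) : Matrix chevD4.Idx chevD4.Idx F) = chevD4.x F (chevD4.simple i) t →
        ((τ g : GL chevD4.Idx F) : Matrix chevD4.Idx chevD4.Idx F) = chevD4.x F (chevD4.simple (π i)) t) ∧
      (((g : GL chevD4.Idx F) : Matrix chevD4.Idx chevD4.Idx F) = chevD4.x F (chevD4.neg (chevD4.simple i)) t →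
        ((τ g : GL chevD4.Idx F) : Matrix chevD4.Idx chevD4.Idx F) =
          chevD4.x F (chevD4.neg (chevD4.simple (π i))) t))
    (y : ↥(chevD4.group F)) : ((τ y : ↥(chevD4.group F)) : GL chevD4.Idx F) = SigD4 (y : GL chevD4.Idx F) := by
  have hS := graphSimpleB_D4_1
  unfold graphSimpleB at hS
  rw [List.all_eq_true] at hS
  apply fundRootGen_induction chevD4 chevD4_mem F
    (fun y => ((τ y : ↥(chevD4.group F)) : GL chevD4.Idx F) = SigD4 (y : GL chevD4.Idx F))
  · intro i t hi g hg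
    have hi' := hS i (List.mem_range.mpr hi)
    simp only [Bool.and_eq_true, beq_iff_eq] at hi'
    obtain ⟨⟨⟨e1, e2⟩, -⟩, -⟩ := hi'
    have hF := fundFacts_of_mem chevD4 chevD4_mem i hi
    have hg' : (g : GL chevD4.Idx F) = xGL chevD4 chevD4_mem F (chevD4.simple i) t :=
      Units.ext (by rw [hg, coe_xGL])
    have h1 := (hτ g ⟨i, hi⟩ t).1 hg
    rw [hπ ⟨i, hi⟩] at h1
    show ((τ g : ↥(chevD4.group F)) : GL chevD4.Idx F) = SigD4 (g : GL chevD4.Idx F)
    rw [hg', sigmaGL_xGL chevD4 chevD4_mem _ _ _ _ _ hGD4 F (RingEquiv.refl F) _ hF.hp]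
    apply Units.ext
    rw [h1, coe_xGL]
    show chevD4.x F (chevD4.simple (grPv_D4_1.getD i 0)) t =
      chevD4.x F (grRho_D4_1.getD (chevD4.simple i) 0) (((grEps_D4_1.getD (chevD4.simple i) 0 : ℤ) : F) * t)
    rw [e1, e2, Int.cast_one, one_mul]
  · intro i t hi g hg
    have hi' := hS i (List.mem_range.mpr hi)
    simp only [Bool.and_eq_true, beq_iff_eq] at hi'
    obtain ⟨⟨-, e3⟩, e4⟩ := hi'
    have hF := fundFacts_of_mem chevD4 chevD4_mem i hi
    have hg' : (g : GL chevD4.Idx F) = xGL chevD4 chevD4_mem F (chevD4.neg (chevD4.simple i)) t :=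
      Units.ext (by rw [hg, coe_xGL])
    have h1 := (hτ g ⟨i, hi⟩ t).2 hg
    rw [hπ ⟨i, hi⟩] at h1
    show ((τ g : ↥(chevD4.group F)) : GL chevD4.Idx F) = SigD4 (g : GL chevD4.Idx F)
    rw [hg', sigmaGL_xGL chevD4 chevD4_mem _ _ _ _ _ hGD4 F (RingEquiv.refl F) _ hF.hpb]
    apply Units.ext
    rw [h1, coe_xGL]
    show chevD4.x F (chevD4.neg (chevD4.simple (grPv_D4_1.getD i 0))) t =
      chevD4.x F (grRho_D4_1.getD (chevD4.neg (chevD4.simple i)) 0)
        (((grEps_D4_1.getD (chevD4.neg (chevD4.simple i)) 0 : ℤ) : F) * t)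
    rw [e3, e4, Int.cast_one, one_mul]
  · simp only [map_one, Subgroup.coe_one]
  · intro a b ha hb
    simp only [map_mul, Subgroup.coe_mul, ha, hb]
  · intro a ha
    simp only [map_inv, Subgroup.coe_inv, ha]

/-- the fixed points of such an automorphism form a group isomorphic to `G₂(F)` -/
theorem fix_equiv_g2 (τ : ↥(chevD4.group F) ≃* ↥(chevD4.group F)) (π : Equiv.Perm (Fin chevD4.rank))
    (hπ : ∀ i : Fin chevD4.rank, (π i).val = grPv_D4_1.getD i.val 0)
    (hτ : ∀ (g : ↥(chevD4.group F)) (i : Fin chevD4.rank) (t : F),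
      (((g : GL chevD4.Idx F) : Matrix chevD4.Idx chevD4.Idx F) = chevD4.x F (chevD4.simple i) t →
        ((τ g : GL chevD4.Idx F) : Matrix chevD4.Idx chevD4.Idx F) = chevD4.x F (chevD4.simple (π i)) t) ∧
      (((g : GL chevD4.Idx F) : Matrix chevD4.Idx chevD4.Idx F) = chevD4.x F (chevD4.neg (chevD4.simple i)) t →
        ((τ g : GL chevD4.Idx F) : Matrix chevD4.Idx chevD4.Idx F) =
          chevD4.x F (chevD4.neg (chevD4.simple (π i))) t)) :
    Nonempty (↥(MonoidHom.eqLocus τ.toMonoidHom (MonoidHom.id ↥(chevD4.group F))) ≃* ↥(chevG2.group F)) := by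
  have hσ := aut_eq_sigma F τ π hπ hτ
  have heq : MonoidHom.eqLocus τ.toMonoidHom (MonoidHom.id ↥(chevD4.group F)) =
      (G0D4).subgroupOf (chevD4.group F) := by
    ext y
    rw [Subgroup.mem_subgroupOf, ← group_inf_fix_eq F, Subgroup.mem_inf, mem_fixSigma, ← hσ y]
    constructor
    · intro h
      have h' : τ y = y := h
      exact ⟨y.2, by rw [h']⟩
    · rintro ⟨-, h⟩
      show τ y = y
      exact Subtype.ext h
  obtain ⟨e⟩ := g0_equiv_g2 F
  exact ⟨(MulEquiv.subgroupCongr heq).trans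
    ((Subgroup.subgroupOfEquivOfLe (g0_le_group F)).trans e)⟩

/-- an automorphism acting on the fundamental root elements through an involutory permutation is an involution -/
theorem aut_sq_eq_one (τ : ↥(chevD4.group F) ≃* ↥(chevD4.group F)) (π : Equiv.Perm (Fin chevD4.rank))
    (hππ : ∀ i, π (π i) = i)
    (hτ : ∀ (g : ↥(chevD4.group F)) (i : Fin chevD4.rank) (t : F),
      (((g : GL chevD4.Idx F) : Matrix chevD4.Idx chevD4.Idx F) = chevD4.x F (chevD4.simple i) t →
        ((τ g : GL chevD4.Idx F) : Matrix chevD4.Idx chevD4.Idx F) = chevD4.x F (chevD4.simple (π i)) t) ∧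
      (((g : GL chevD4.Idx F) : Matrix chevD4.Idx chevD4.Idx F) = chevD4.x F (chevD4.neg (chevD4.simple i)) t →
        ((τ g : GL chevD4.Idx F) : Matrix chevD4.Idx chevD4.Idx F) =
          chevD4.x F (chevD4.neg (chevD4.simple (π i))) t))
    (y : ↥(chevD4.group F)) : τ (τ y) = y := by
  apply fundRootGen_induction chevD4 chevD4_mem F (fun y => τ (τ y) = y)
  · intro i t hi g hg
    have h1 := (hτ g ⟨i, hi⟩ t).1 hg
    have h2 := (hτ (τ g) (π ⟨i, hi⟩) t).1 h1
    rw [hππ] at h2
    apply Subtype.ext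
    apply Units.ext
    rw [h2, hg]
  · intro i t hi g hg
    have h1 := (hτ g ⟨i, hi⟩ t).2 hg
    have h2 := (hτ (τ g) (π ⟨i, hi⟩) t).2 h1
    rw [hππ] at h2
    apply Subtype.ext
    apply Units.ext
    rw [h2, hg]
  · simp only [map_one]
  · intro a b ha hb
    simp only [map_mul, ha, hb]
  · intro a ha
    simp only [map_inv, ha]

/-- the inverse of an automorphism acting on the fundamental root elements through `π` acts through `π⁻¹` -/
theorem aut_symm (τ : ↥(chevD4.group F) ≃* ↥(chevD4.group F)) (π : Equiv.Perm (Fin chevD4.rank))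
    (hτ : ∀ (g : ↥(chevD4.group F)) (i : Fin chevD4.rank) (t : F),
      (((g : GL chevD4.Idx F) : Matrix chevD4.Idx chevD4.Idx F) = chevD4.x F (chevD4.simple i) t →
        ((τ g : GL chevD4.Idx F) : Matrix chevD4.Idx chevD4.Idx F) = chevD4.x F (chevD4.simple (π i)) t) ∧
      (((g : GL chevD4.Idx F) : Matrix chevD4.Idx chevD4.Idx F) = chevD4.x F (chevD4.neg (chevD4.simple i)) t →
        ((τ g : GL chevD4.Idx F) : Matrix chevD4.Idx chevD4.Idx F) =
          chevD4.x F (chevD4.neg (chevD4.simple (π i))) t))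
    (g : ↥(chevD4.group F)) (i : Fin chevD4.rank) (t : F) :
      (((g : GL chevD4.Idx F) : Matrix chevD4.Idx chevD4.Idx F) = chevD4.x F (chevD4.simple i) t →
        ((τ.symm g : GL chevD4.Idx F) : Matrix chevD4.Idx chevD4.Idx F) =
          chevD4.x F (chevD4.simple (π.symm i)) t) ∧
      (((g : GL chevD4.Idx F) : Matrix chevD4.Idx chevD4.Idx F) = chevD4.x F (chevD4.neg (chevD4.simple i)) t →
        ((τ.symm g : GL chevD4.Idx F) : Matrix chevD4.Idx chevD4.Idx F) =
          chevD4.x F (chevD4.neg (chevD4.simple (π.symm i))) t) := by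
  constructor
  · intro hg
    obtain ⟨g', hg'⟩ : ∃ g' : ↥(chevD4.group F), g' =
        ⟨xGL chevD4 chevD4_mem F (chevD4.simple (π.symm i)) t, xGL_mem_group chevD4 chevD4_mem F _ _⟩ := ⟨_, rfl⟩
    have hm : ((g' : GL chevD4.Idx F) : Matrix chevD4.Idx chevD4.Idx F) =
        chevD4.x F (chevD4.simple (π.symm i)) t := by rw [hg']; exact coe_xGL chevD4 chevD4_mem F _ _
    have h1 := (hτ g' (π.symm i) t).1 hm
    rw [Equiv.apply_symm_apply] at h1
    have h2 : τ g' = g := Subtype.ext (Units.ext (by rw [h1, hg]))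
    have h3 : τ.symm g = g' := by rw [← h2, MulEquiv.symm_apply_apply]
    rw [h3]; exact hm
  · intro hg
    obtain ⟨g', hg'⟩ : ∃ g' : ↥(chevD4.group F), g' =
        ⟨xGL chevD4 chevD4_mem F (chevD4.neg (chevD4.simple (π.symm i))) t,
          xGL_mem_group chevD4 chevD4_mem F _ _⟩ := ⟨_, rfl⟩
    have hm : ((g' : GL chevD4.Idx F) : Matrix chevD4.Idx chevD4.Idx F) =
        chevD4.x F (chevD4.neg (chevD4.simple (π.symm i))) t := by
      rw [hg']; exact coe_xGL chevD4 chevD4_mem F _ _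
    have h1 := (hτ g' (π.symm i) t).2 hm
    rw [Equiv.apply_symm_apply] at h1
    have h2 : τ g' = g := Subtype.ext (Units.ext (by rw [h1, hg]))
    have h3 : τ.symm g = g' := by rw [← h2, MulEquiv.symm_apply_apply]
    rw [h3]; exact hm

end

end Cfsg.Agent.Lib.Helper7.D4G2
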