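import Cfsg.Agent.Lib.Helper7.ChevBlock

/-! Columns of products of root elements with pairwise inert roots (helper7). -/

set_option autoImplicit false

namespace Cfsg.Agent.Lib.Helper7.G2Inv

open Cfsg Cfsg.Lie Matrix
open Cfsg.Agent.Lib.Helper7

/-- `x_r(t)` fixes the basis vector `e_s` -/
def Inert (D : ChevalleyDatum) (r s : ℕ) : Prop :=
  r < D.nroots ∧ s < D.nroots ∧ s ≠ r ∧ s ≠ D.negIdx.getD r 0 ∧ ∀ u < D.nroots, D.chainCoeff r s u = []

instance (D : ChevalleyDatum) (r s : ℕ) : Decidable (Inert D r s) :=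
  inferInstanceAs (Decidable (_ ∧ _))

section
variable (D : ChevalleyDatum) (F : Type*) [Field F]

/-- the basis vector `h_i` -/
def vH (i : Fin D.rank) : D.Idx → F := Pi.single (Sum.inl i) 1

/-- the basis vector `e_s` -/
def vE (s : ℕ) (hs : s < D.nroots) : D.Idx → F := Pi.single (Sum.inr ⟨s, hs⟩) 1

theorem x_mulVec_vH (r : ℕ) (hr : r < D.nroots) (t : F) (i : Fin D.rank) :
    D.x F r t *ᵥ vH D F i = vH D F i - (((D.cartan i.val r : ℤ) : F) * t) • vE D F r hr := by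
  unfold vH vE
  rw [Matrix.mulVec_single_one]
  funext row
  show D.x F r t row (Sum.inl i) = _
  rw [x_apply_eq D F r hr]
  rcases row with i' | u
  · simp only [polyEntry, Pi.sub_apply, Pi.smul_apply, smul_eq_mul]
    by_cases h : i' = i
    · subst h
      simp [evalL_single]
    · have h' : (Sum.inl i' : D.Idx) ≠ Sum.inl i := by
        intro hh; exact h (Sum.inl.inj hh)
      rw [if_neg h, Pi.single_eq_of_ne h']
      simp [evalL_nil]
  · simp only [polyEntry, Pi.sub_apply, Pi.smul_apply, smul_eq_mul]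
    by_cases h : u.val = r
    · have hu : u = ⟨r, hr⟩ := Fin.ext h
      subst hu
      rw [if_pos rfl, evalL_single]
      simp [ChevalleyDatum.cartan]
    · have h' : (Sum.inr u : D.Idx) ≠ Sum.inr ⟨r, hr⟩ := by
        intro hh; exact h (congrArg Fin.val (Sum.inr.inj hh))
      rw [if_neg h, Pi.single_eq_of_ne h']
      simp [evalL_nil]

theorem x_mulVec_vE (r s : ℕ) (h : Inert D r s) (t : F) :
    D.x F r t *ᵥ vE D F s h.2.1 = vE D F s h.2.1 := by
  obtain ⟨hr, hs, hsr, hsn, hch⟩ := h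
  unfold vE
  rw [Matrix.mulVec_single_one]
  funext row
  show D.x F r t row (Sum.inr ⟨s, hs⟩) = _
  rw [x_apply_eq D F r hr]
  rcases row with i | u
  · simp only [polyEntry]
    rw [if_neg hsr, if_neg hsn]
    simp [evalL_nil]
  · simp only [polyEntry]
    rw [if_neg hsr, if_neg hsn, hch u.val u.isLt, List.append_nil]
    by_cases hu : u = ⟨s, hs⟩
    · subst hu
      simp [evalL_single]
    · have h' : (Sum.inr u : D.Idx) ≠ Sum.inr ⟨s, hs⟩ := by
        intro hh; exact hu (Sum.inr.inj hh)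
      rw [if_neg hu, Pi.single_eq_of_ne h']
      simp [evalL_nil]

/-- the column `h_i` of a product of three root elements with pairwise inert roots -/
theorem col3 (r1 r2 r3 : ℕ) (h12 : Inert D r1 r2) (h13 : Inert D r1 r3) (h23 : Inert D r2 r3)
    (c1 c2 c3 : F) (i : Fin D.rank) :
    (D.x F r1 c1 * D.x F r2 c2 * D.x F r3 c3) *ᵥ vH D F i =
      vH D F i - (((D.cartan i.val r1 : ℤ) : F) * c1) • vE D F r1 h12.1
        - (((D.cartan i.val r2 : ℤ) : F) * c2) • vE D F r2 h12.2.1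
        - (((D.cartan i.val r3 : ℤ) : F) * c3) • vE D F r3 h13.2.1 := by
  rw [← Matrix.mulVec_mulVec, ← Matrix.mulVec_mulVec, x_mulVec_vH D F r3 h13.2.1,
    Matrix.mulVec_sub, Matrix.mulVec_smul, x_mulVec_vE D F r2 r3 h23, x_mulVec_vH D F r2 h12.2.1,
    Matrix.mulVec_sub, Matrix.mulVec_sub, Matrix.mulVec_smul, Matrix.mulVec_smul,
    x_mulVec_vE D F r1 r3 h13, x_mulVec_vE D F r1 r2 h12, x_mulVec_vH D F r1 h12.1]

/-- comparing the coordinate `e_{r1}` of two such products -/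
theorem root_mem_of_prod_eq (r1 r2 r3 s1 s2 s3 : ℕ) (h12 : Inert D r1 r2) (h13 : Inert D r1 r3)
    (h23 : Inert D r2 r3) (k12 : Inert D s1 s2) (k13 : Inert D s1 s3) (k23 : Inert D s2 s3)
    (c1 c2 c3 d1 d2 d3 : F)
    (hM : D.x F r1 c1 * D.x F r2 c2 * D.x F r3 c3 = D.x F s1 d1 * D.x F s2 d2 * D.x F s3 d3)
    (i : Fin D.rank) (hA : ((D.cartan i.val r1 : ℤ) : F) ≠ 0) (hc1 : c1 ≠ 0) :
    r1 = s1 ∨ r1 = s2 ∨ r1 = s3 := by
  by_contra hcon
  push Not at hcon
  obtain ⟨n1, n2, n3⟩ := hcon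
  have e1 := col3 D F r1 r2 r3 h12 h13 h23 c1 c2 c3 i
  have e2 := col3 D F s1 s2 s3 k12 k13 k23 d1 d2 d3 i
  rw [hM, e2] at e1
  have e3 := congrFun e1 (Sum.inr ⟨r1, h12.1⟩)
  have ne : ∀ s (hs : s < D.nroots), r1 ≠ s → vE D F s hs (Sum.inr ⟨r1, h12.1⟩) = 0 := by
    intro s hs hne
    unfold vE
    apply Pi.single_eq_of_ne
    intro hh
    exact hne (congrArg Fin.val (Sum.inr.inj hh))
  have e0 : vH D F i (Sum.inr ⟨r1, h12.1⟩) = 0 := by
    unfold vH
    apply Pi.single_eq_of_ne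
    intro hh; cases hh
  have e4 : vE D F r1 h12.1 (Sum.inr ⟨r1, h12.1⟩) = 1 := by
    unfold vE
    exact Pi.single_eq_same _ _
  simp only [Pi.sub_apply, Pi.smul_apply, smul_eq_mul] at e3
  rw [e0, ne s1 k12.1 n1, ne s2 k12.2.1 n2, ne s3 k13.2.1 n3, ne r2 h12.2.1 (Ne.symm h12.2.2.1),
    ne r3 h13.2.1 (Ne.symm h13.2.2.1), e4] at e3
  simp only [mul_zero, sub_zero, mul_one, zero_sub] at e3
  have : ((D.cartan i.val r1 : ℤ) : F) * c1 = 0 := by
    have := e3; simpa using this.symm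
  rcases mul_eq_zero.mp this with h | h
  · exact hA h
  · exact hc1 h

end

end Cfsg.Agent.Lib.Helper7.G2Inv
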