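import Cfsg.Agent.Lib.Helper7.D4InvId2
import Cfsg.Agent.Lib.Helper7.G2InvCol
import Cfsg.Agent.Lib.Helper7.ChevTwistOrderD4
import Cfsg.Agent.Lib.Helper7.ChevLongCent

/-! The two classes of involutions of `³D₄(q)`, `q` even (helper7). -/

set_option autoImplicit false
set_option maxRecDepth 100000

namespace Cfsg.Agent.Lib.Helper7.D4Inv

open Cfsg Cfsg.Lie Matrix
open Cfsg.Agent.Lib.Helper7 Cfsg.Agent.Lib.Helper7.MV Cfsg.Agent.Lib.Helper7.G2Inv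

section
variable (K : Type*) [Field K] (φ : K ≃+* K)

local notation "G1D4" => chevD4.genSubgroup K (twWords K φ [d4p2, d4m2] []
  [(d4p1, d4p3, d4p4), (d4m1, d4m3, d4m4)])

/-- conjugacy in `³D₄(q)` of elements of the ambient group -/
def Cj (x y : GL chevD4.Idx K) : Prop := ∃ h ∈ G1D4, h * x * h⁻¹ = y

variable {K φ}

theorem Cj.refl (x : GL chevD4.Idx K) : Cj K φ x x := ⟨1, Subgroup.one_mem _, by simp⟩

theorem Cj.trans {x y z : GL chevD4.Idx K} (h1 : Cj K φ x y) (h2 : Cj K φ y z) : Cj K φ x z := by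
  obtain ⟨a, ha, rfl⟩ := h1
  obtain ⟨b, hb, rfl⟩ := h2
  exact ⟨b * a, Subgroup.mul_mem _ hb ha, by group⟩

theorem Cj.of_eq {x y : GL chevD4.Idx K} (h : x = y) : Cj K φ x y := h ▸ Cj.refl x

theorem Cj.symm {x y : GL chevD4.Idx K} (h : Cj K φ x y) : Cj K φ y x := by
  obtain ⟨a, ha, rfl⟩ := h
  exact ⟨a⁻¹, Subgroup.inv_mem _ ha, by group⟩

theorem cj_of_mem (h : GL chevD4.Idx K) (hh : h ∈ G1D4) (x : GL chevD4.Idx K) : Cj K φ x (h * x * h⁻¹) :=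
  ⟨h, hh, rfl⟩

variable (K φ)

theorem G1_le_group : G1D4 ≤ chevD4.group K := by
  unfold ChevalleyDatum.genSubgroup
  rw [Subgroup.closure_le]
  rintro g ⟨w, -, hg⟩
  have : g = wordGL chevD4 chevD4_mem K w := Units.ext (by rw [hg, coe_wordGL])
  rw [this]
  exact wordGL_mem_group chevD4 chevD4_mem K w

/-! ### membership of the twisted root elements -/

theorem XA_mem (s : K) : XA K φ s ∈ G1D4 :=
  wordGL_mem_twGroup chevD4 chevD4_mem K φ _ _ _ (XAW K φ s) (Or.inr ⟨s, (d4p1, d4p3, d4p4), by simp, rfl⟩)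

theorem XB_mem (c : K) (hc : φ c = c) : XB K φ c ∈ G1D4 :=
  wordGL_mem_twGroup chevD4 chevD4_mem K φ _ _ _ (XBW K φ c) (Or.inl (Or.inl ⟨c, hc, d4p2, by simp, rfl⟩))

theorem nb_mem : nWordGL chevD4 chevD4_mem K [1] ∈ G1D4 := nWordGL_mem_twD4 K φ [1] (by decide)

theorem na_mem : nWordGL chevD4 chevD4_mem K [0, 2, 3] ∈ G1D4 := nWordGL_mem_twD4 K φ [0, 2, 3] (by decide)

theorem nba_mem : nWordGL chevD4 chevD4_mem K [1, 0, 2, 3] ∈ G1D4 := by
  have : nWordGL chevD4 chevD4_mem K [1, 0, 2, 3] =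
      nWordGL chevD4 chevD4_mem K [1] * nWordGL chevD4 chevD4_mem K [0, 2, 3] :=
    nWordGL_append chevD4 chevD4_mem K [1] [0, 2, 3]
  rw [this]
  exact Subgroup.mul_mem _ (nb_mem K φ) (na_mem K φ)

theorem nab_mem : nWordGL chevD4 chevD4_mem K [0, 2, 3, 1] ∈ G1D4 := by
  have : nWordGL chevD4 chevD4_mem K [0, 2, 3, 1] =
      nWordGL chevD4 chevD4_mem K [0, 2, 3] * nWordGL chevD4 chevD4_mem K [1] :=
    nWordGL_append chevD4 chevD4_mem K [0, 2, 3] [1]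
  rw [this]
  exact Subgroup.mul_mem _ (na_mem K φ) (nb_mem K φ)

variable [CharP K 2]

omit φ in
theorem pm_mul (c : ℤ) (hc : c = 1 ∨ c = -1) (x : K) : ((c : ℤ) : K) * x = x := by
  rcases hc with rfl | rfl
  · simp
  · simp [CharTwo.neg_eq]

omit φ in
/-- conjugation of a word by a Weyl group representative, in characteristic two -/
theorem weyl_word (L : List ℕ) (hL : ∀ i ∈ L, i < chevD4.rank) :
    ∀ w : List (ℕ × K), (∀ e ∈ w, e.1 < chevD4.nroots) →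
      nWordGL chevD4 chevD4_mem K L * wordGL chevD4 chevD4_mem K w * (nWordGL chevD4 chevD4_mem K L)⁻¹ =
        wordGL chevD4 chevD4_mem K (w.map fun e => (reflWord chevD4 L e.1, e.2))
  | [], _ => by simp [wordGL_nil]
  | e :: w, hw => by
    have ih := weyl_word L hL w (fun e' he' => hw e' (List.mem_cons_of_mem _ he'))
    obtain ⟨c, hc, hct⟩ := nWordGL_conj_xGL_sign chevD4 chevD4_mem K L hL e.1 (hw e List.mem_cons_self)
    have key := hct e.2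
    rw [pm_mul K c hc] at key
    rw [wordGL_cons, List.map_cons, wordGL_cons, ← ih, ← key]
    group

theorem nfW_lt (t u v w y z : K) : ∀ e ∈ nfW K φ t u v w y z, e.1 < chevD4.nroots := by
  intro e he
  unfold nfW at he
  simp only [List.mem_cons, List.not_mem_nil, or_false] at he
  rcases he with rfl | rfl | rfl | rfl | rfl | rfl | rfl | rfl | rfl | rfl | rfl | rfl <;> (dsimp only; decide)

theorem weyl_nf (L : List ℕ) (hL : ∀ i ∈ L, i < chevD4.rank) (t u v w y z : K) :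
    nWordGL chevD4 chevD4_mem K L * nf K φ t u v w y z * (nWordGL chevD4 chevD4_mem K L)⁻¹ =
      wordGL chevD4 chevD4_mem K ((nfW K φ t u v w y z).map fun e => (reflWord chevD4 L e.1, e.2)) := by
  unfold nf
  exact weyl_word K L hL _ (nfW_lt K φ t u v w y z)

/-! ### special cases of the normal form -/

omit [CharP K 2] in
theorem nf_XA (t : K) : nf K φ t 0 0 0 0 0 = XA K φ t := by
  unfold nf XA nfW XAW
  simp only [map_zero, wordGL_cons, wordGL_nil, xGL_zero, mul_one, one_mul]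

omit [CharP K 2] in
theorem nf_XB (u : K) : nf K φ 0 u 0 0 0 0 = XB K φ u := by
  unfold nf XB nfW XBW
  simp only [map_zero, wordGL_cons, wordGL_nil, xGL_zero, mul_one, one_mul]

omit [CharP K 2] in
theorem nf_XAB (v : K) : nf K φ 0 0 v 0 0 0 = XAB K φ v := by
  unfold nf XAB nfW XABW
  simp only [map_zero, wordGL_cons, wordGL_nil, xGL_zero, mul_one, one_mul]

omit [CharP K 2] in
theorem nf_XAAB (w : K) : nf K φ 0 0 0 w 0 0 = XAAB K φ w := by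
  unfold nf XAAB nfW XAABW
  simp only [map_zero, wordGL_cons, wordGL_nil, xGL_zero, mul_one, one_mul]

omit [CharP K 2] in
theorem nf_XY (y : K) : nf K φ 0 0 0 0 y 0 = XY K φ y := by
  unfold nf XY nfW XYW
  simp only [map_zero, wordGL_cons, wordGL_nil, xGL_zero, mul_one, one_mul]

omit [CharP K 2] in
theorem nf_XZ (z : K) : nf K φ 0 0 0 0 0 z = XZ K φ z := by
  unfold nf XZ nfW XZW
  simp only [map_zero, wordGL_cons, wordGL_nil, xGL_zero, mul_one, one_mul]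


omit [CharP K 2] in
theorem nf_one : nf K φ 0 0 0 0 0 0 = 1 := by
  rw [nf_XZ]
  unfold XZ XZW
  rw [wordGL_cons, wordGL_nil, xGL_zero, mul_one]

variable (hφ3 : ∀ a : K, φ (φ (φ a)) = a)
include hφ3

theorem cj_weyl (L : List ℕ) (hL : ∀ i ∈ L, i < chevD4.rank) (hn : nWordGL chevD4 chevD4_mem K L ∈ G1D4)
    (t u v w y z : K) (g' : GL chevD4.Idx K)
    (h : wordGL chevD4 chevD4_mem K ((nfW K φ t u v w y z).map fun e => (reflWord chevD4 L e.1, e.2)) = g') :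
    nWordGL chevD4 chevD4_mem K L * nf K φ t u v w y z * (nWordGL chevD4 chevD4_mem K L)⁻¹ = g' := by
  rw [weyl_nf K φ L hL, h]

theorem XAB_mem (s : K) : XAB K φ s ∈ G1D4 := by
  have h := cj_weyl K φ hφ3 [1] (by decide) (nb_mem K φ) s 0 0 0 0 0 _ (w5_id K φ hφ3 s)
  rw [nf_XAB, nf_XA] at h
  rw [← h]
  exact Subgroup.mul_mem _ (Subgroup.mul_mem _ (nb_mem K φ) (XA_mem K φ s)) (Subgroup.inv_mem _ (nb_mem K φ))

theorem XAAB_mem (s : K) : XAAB K φ s ∈ G1D4 := by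
  have h := cj_weyl K φ hφ3 [0, 2, 3] (by decide) (na_mem K φ) 0 0 (φ s) 0 0 0 _ (w6_id K φ hφ3 (φ s))
  rw [nf_XAAB, nf_XAB, hφ3] at h
  rw [← h]
  exact Subgroup.mul_mem _ (Subgroup.mul_mem _ (na_mem K φ) (XAB_mem K φ hφ3 (φ s)))
    (Subgroup.inv_mem _ (na_mem K φ))

theorem XY_mem (c : K) (hc : φ c = c) : XY K φ c ∈ G1D4 := by
  have h := cj_weyl K φ hφ3 [0, 2, 3] (by decide) (na_mem K φ) 0 c 0 0 0 0 _ (w7_id K φ hφ3 c hc)
  rw [nf_XY, nf_XB] at h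
  rw [← h]
  exact Subgroup.mul_mem _ (Subgroup.mul_mem _ (na_mem K φ) (XB_mem K φ c hc)) (Subgroup.inv_mem _ (na_mem K φ))

theorem XZ_mem (c : K) (hc : φ c = c) : XZ K φ c ∈ G1D4 := by
  have h := cj_weyl K φ hφ3 [1] (by decide) (nb_mem K φ) 0 0 0 0 c 0 _ (w3_id K φ hφ3 c hc)
  rw [nf_XZ, nf_XY] at h
  rw [← h]
  exact Subgroup.mul_mem _ (Subgroup.mul_mem _ (nb_mem K φ) (XY_mem K φ hφ3 c hc))
    (Subgroup.inv_mem _ (nb_mem K φ))

/-! ### the normal form -/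

/-- parameters of the normal form as a function on the roots -/
def tauNf (t u v w y z : K) : ℕ → K
  | 18 => t
  | 13 => φ t
  | 12 => φ (φ t)
  | 14 => u
  | 19 => v
  | 16 => φ v
  | 15 => φ (φ v)
  | 21 => w
  | 20 => φ (φ w)
  | 17 => φ w
  | 22 => y
  | 23 => z
  | _ => 0

omit [CharP K 2] hφ3 in
theorem ordProd_tauNf (t u v w y z : K) :
    ordProd chevD4 chevD4_mem K twCls_D4.flatten (tauNf K φ t u v w y z) = nf K φ t u v w y z := by
  unfold ordProd nf nfW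
  rfl


omit [CharP K 2] hφ3 in
theorem nf_mem_posUnipotent (t u v w y z : K) : nf K φ t u v w y z ∈ chevD4.posUnipotent K := by
  obtain ⟨hTw, -⟩ := twistFacts_of_twistOKB chevD4 grRho_D4_1 grRhoInv_D4_1 twW_D4 twCls_D4 twistTab_D4.twist
  rw [← ordProd_tauNf]
  exact ordProd_mem_posUnipotent chevD4 chevD4_mem K _ hTw.good.pos _

omit [CharP K 2] hφ3 in
theorem nf_inj (t u v w y z t' u' v' w' y' z' : K) (h : nf K φ t u v w y z = nf K φ t' u' v' w' y' z') :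
    t = t' ∧ u = u' ∧ v = v' ∧ w = w' ∧ y = y' ∧ z = z' := by
  obtain ⟨hTw, hpos⟩ := twistFacts_of_twistOKB chevD4 grRho_D4_1 grRhoInv_D4_1 twW_D4 twCls_D4 twistTab_D4.twist
  have hA := chainAdd_linF chevD4 chevD4_mem twW_D4
  have hO : PosFacts chevD4 (linF chevD4 twW_D4) := ⟨hpos, twistTab_D4.prim⟩
  rw [← ordProd_tauNf, ← ordProd_tauNf] at h
  have key := ordProd_injA chevD4 chevD4_mem K (linF chevD4 twW_D4) hA hO _ hTw.good _ _ h
  exact ⟨key 18 (by decide), key 14 (by decide), key 19 (by decide), key 21 (by decide), key 22 (by decide),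
    key 23 (by decide)⟩

/-- every element of `U¹` has a normal form -/
theorem exists_nf (g : GL chevD4.Idx K) (hgU : g ∈ chevD4.posUnipotent K) (hgG : g ∈ G1D4) :
    ∃ t u v w y z : K, φ u = u ∧ φ y = y ∧ φ z = z ∧ g = nf K φ t u v w y z := by
  have hT := twistTab_D4
  have hG := graphFacts_of_graphOKB chevD4 grPv_D4_1 grPvInv_D4_1 grRho_D4_1 grRhoInv_D4_1 grEps_D4_1 hT.graph
  obtain ⟨hTw, hpos⟩ := twistFacts_of_twistOKB chevD4 grRho_D4_1 grRhoInv_D4_1 twW_D4 twCls_D4 hT.twist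
  have hA := chainAdd_linF chevD4 chevD4_mem twW_D4
  have hO : PosFacts chevD4 (linF chevD4 twW_D4) := ⟨hpos, hT.prim⟩
  have hiter : ∀ a, φ^[3] a = a := fun a => hφ3 a
  have hF := twistGroupFacts_of_tab chevD4 chevD4_mem _ _ _ _ _ _ _ _ _ _ _ _ _ _ hT K φ hiter
  have hg : g ∈ chevD4.posUnipotent K ⊓ G1D4 := Subgroup.mem_inf.mpr ⟨hgU, hgG⟩
  rw [posUnipotent_inf_twisted chevD4 chevD4_mem _ _ _ _ _ hG K φ (linF chevD4 twW_D4) hA hO twCls_D4 hTw _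
    twSimpIdx_D4 twSimpCls_D4 hF twCert_D4 hT.cert] at hg
  obtain ⟨-, hgF⟩ := Subgroup.mem_inf.mp hg
  obtain ⟨τ, -, rfl⟩ := exists_ordProd_flatten chevD4 chevD4_mem _ _ K _ hA hO twCls_D4 hTw g hgU
  have hc := (ordProd_mem_fixSigma_iff chevD4 chevD4_mem _ _ _ _ _ hG K φ _ hA hO twCls_D4 hTw τ).mp hgF
  have tw : ∀ r a : ℕ, ∀ e : ℤ, r ∈ twCls_D4.flatten → grRhoInv_D4_1.getD r 0 = a → grEps_D4_1.getD a 0 = e →
      (e = 1 ∨ e = -1) → τ r = φ (τ a) := by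
    intro r a e hr ha he hpm
    have h1 := hc r hr
    unfold twistFn at h1
    simp only [ha, he] at h1
    rw [h1, pm_mul K e hpm]
  have c13 : τ 13 = φ (τ 18) := tw 13 18 1 (by decide) (by decide) (by decide) (Or.inl rfl)
  have c12 : τ 12 = φ (τ 13) := tw 12 13 1 (by decide) (by decide) (by decide) (Or.inl rfl)
  have c14 : τ 14 = φ (τ 14) := tw 14 14 1 (by decide) (by decide) (by decide) (Or.inl rfl)
  have c16 : τ 16 = φ (τ 19) := tw 16 19 (-1) (by decide) (by decide) (by decide) (Or.inr rfl)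
  have c15 : τ 15 = φ (τ 16) := tw 15 16 1 (by decide) (by decide) (by decide) (Or.inl rfl)
  have c17 : τ 17 = φ (τ 21) := tw 17 21 (-1) (by decide) (by decide) (by decide) (Or.inr rfl)
  have c20 : τ 20 = φ (τ 17) := tw 20 17 (-1) (by decide) (by decide) (by decide) (Or.inr rfl)
  have c22 : τ 22 = φ (τ 22) := tw 22 22 1 (by decide) (by decide) (by decide) (Or.inl rfl)
  have c23 : τ 23 = φ (τ 23) := tw 23 23 1 (by decide) (by decide) (by decide) (Or.inl rfl)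
  refine ⟨τ 18, τ 14, τ 19, τ 21, τ 22, τ 23, c14.symm, c22.symm, c23.symm, ?_⟩
  rw [← ordProd_tauNf]
  apply ordProd_congr
  intro r hr
  have hr' : r ∈ [18, 13, 12, 14, 19, 16, 15, 21, 20, 17, 22, 23] := hr
  simp only [List.mem_cons, List.not_mem_nil, or_false] at hr'
  rcases hr' with rfl | rfl | rfl | rfl | rfl | rfl | rfl | rfl | rfl | rfl | rfl | rfl
  · rfl
  · exact c13
  · show τ 12 = φ (φ (τ 18)); rw [c12, c13]
  · rfl
  · rfl
  · exact c16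
  · show τ 15 = φ (φ (τ 19)); rw [c15, c16]
  · rfl
  · show τ 20 = φ (φ (τ 21)); rw [c20, c17]
  · exact c17
  · rfl
  · rfl

/-- the long root parameters of an element of `U¹` in normal form are fixed by `φ` -/
theorem fixed_of_mem (t u v w y z : K) (h : nf K φ t u v w y z ∈ G1D4) : φ u = u ∧ φ y = y ∧ φ z = z := by
  obtain ⟨t', u', v', w', y', z', hu, hy, hz, e⟩ :=
    exists_nf K φ hφ3 _ (nf_mem_posUnipotent K φ t u v w y z) h
  obtain ⟨-, rfl, -, -, rfl, rfl⟩ := nf_inj K φ _ _ _ _ _ _ _ _ _ _ _ _ e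
  exact ⟨hu, hy, hz⟩


/-! ### conjugation by the torus -/

omit [CharP K 2] hφ3 in
theorem tD4_word (mu lam : K) (hmu0 : mu ≠ 0) (hlam : lam ≠ 0) : ∀ w : List (ℕ × K),
    tD4 K φ mu lam * wordGL chevD4 chevD4_mem K w * (tD4 K φ mu lam)⁻¹ =
      wordGL chevD4 chevD4_mem K (w.map fun e => (e.1, prodChar chevD4 K [1] (fun _ => mu) e.1 *
        (prodChar chevD4 K [0, 2, 3] (tripleC K φ 0 2 lam) e.1 * e.2)))
  | [] => by simp [wordGL_nil]
  | e :: w => by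
    rw [wordGL_cons, List.map_cons, wordGL_cons, ← tD4_word mu lam hmu0 hlam w,
      ← tD4_conj K φ mu lam hmu0 hlam e.1 e.2]
    group

omit [CharP K 2] hφ3 in
theorem chiA (lam : K) (r : ℕ) (c0 c2 c3 : ℤ) (h0 : chevD4.cartan 0 r = c0) (h2 : chevD4.cartan 2 r = c2)
    (h3 : chevD4.cartan 3 r = c3) :
    prodChar chevD4 K [0, 2, 3] (tripleC K φ 0 2 lam) r = lam ^ c0 * ((φ lam) ^ c2 * (φ (φ lam)) ^ c3) := by
  unfold prodChar
  simp only [List.map_cons, List.map_nil, List.prod_cons, List.prod_nil, mul_one, h0, h2, h3]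
  unfold tripleC
  rw [if_pos rfl, if_neg (by decide), if_pos rfl, if_neg (by decide), if_neg (by decide)]

omit [CharP K 2] hφ3 in
theorem chiB (mu : K) (r : ℕ) (c1 : ℤ) (h1 : chevD4.cartan 1 r = c1) :
    prodChar chevD4 K [1] (fun _ => mu) r = mu ^ c1 := by
  unfold prodChar
  simp only [List.map_cons, List.map_nil, List.prod_cons, List.prod_nil, mul_one, h1]

omit [CharP K 2] hφ3 in
theorem tripleC_one : tripleC K φ 0 2 1 = fun _ => 1 := by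
  funext x
  unfold tripleC
  split_ifs <;> simp

variable [Fintype K]

omit φ hφ3 in
theorem exists_sqrt (y : K) : ∃ s : K, s ^ 2 = y := by
  have : Fact (Nat.Prime 2) := ⟨Nat.prime_two⟩
  obtain ⟨s, hs⟩ := surjective_frobenius K 2 y
  exact ⟨s, hs⟩

omit φ hφ3 [Fintype K] in
theorem two_K : (2 : K) = 0 := by
  have := CharP.cast_eq_zero K 2
  exact_mod_cast this

omit φ hφ3 [Fintype K] in
theorem sq_inj (a b : K) (h : a ^ 2 = b ^ 2) : a = b := by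
  have h2 := two_K K
  have : (a - b) ^ 2 = 0 := by linear_combination h - (a * b - b ^ 2) * h2
  have := pow_eq_zero_iff (n := 2) (by norm_num) |>.mp this
  exact sub_eq_zero.mp this

omit hφ3 in
theorem cj_XA (t : K) (ht : t ≠ 0) : Cj K φ (XA K φ t) (XA K φ 1) := by
  obtain ⟨lam, hl⟩ := exists_sqrt K t⁻¹
  have hlam : lam ≠ 0 := by
    rintro rfl
    have : t⁻¹ = 0 := by rw [← hl]; simp
    exact ht (inv_eq_zero.mp this)
  refine ⟨tD4 K φ 1 lam, tD4_mem_G1 K φ 1 lam one_ne_zero (map_one φ) hlam, ?_⟩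
  unfold XA
  rw [tD4_word K φ 1 lam one_ne_zero hlam]
  congr 1
  unfold XAW
  simp only [List.map_cons, List.map_nil, prodChar_one, one_mul]
  rw [chiA K φ lam 18 2 0 0 (by decide +kernel) (by decide +kernel) (by decide +kernel),
    chiA K φ lam 13 0 2 0 (by decide +kernel) (by decide +kernel) (by decide +kernel),
    chiA K φ lam 12 0 0 2 (by decide +kernel) (by decide +kernel) (by decide +kernel)]
  have e1 : lam ^ 2 * t = 1 := by rw [hl]; exact inv_mul_cancel₀ ht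
  have e2 : (φ lam) ^ 2 * φ t = 1 := by rw [← map_pow, ← map_mul, e1, map_one]
  have e3 : (φ (φ lam)) ^ 2 * φ (φ t) = 1 := by rw [← map_pow, ← map_mul, e2, map_one]
  simp only [zpow_zero, mul_one, one_mul, map_one]
  have z2 : ∀ a : K, a ^ (2 : ℤ) = a ^ 2 := fun a => zpow_ofNat a 2
  rw [z2, z2, z2, e1, e2, e3]

theorem cj_XZ (z : K) (hz0 : z ≠ 0) (hz : φ z = z) : Cj K φ (XZ K φ z) (XZ K φ 1) := by
  have hmu0 : z⁻¹ ≠ 0 := inv_ne_zero hz0
  have hmu : φ z⁻¹ = z⁻¹ := by rw [map_inv₀, hz]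
  refine ⟨tD4 K φ z⁻¹ 1, tD4_mem_G1 K φ z⁻¹ 1 hmu0 hmu one_ne_zero, ?_⟩
  unfold XZ
  rw [tD4_word K φ z⁻¹ 1 hmu0 one_ne_zero]
  congr 1
  unfold XZW
  simp only [List.map_cons, List.map_nil, tripleC_one, prodChar_one, one_mul]
  rw [chiB K z⁻¹ 23 1 (by decide +kernel), zpow_one, inv_mul_cancel₀ hz0]

/-! ### the classification of the involutions of `U¹` -/

omit φ hφ3 [Fintype K] [CharP K 2] in
theorem conj_sq {G : Type*} [Group G] (h g : G) (h2 : g * g = 1) : (h * g * h⁻¹) * (h * g * h⁻¹) = 1 := by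
  have : (h * g * h⁻¹) * (h * g * h⁻¹) = h * (g * g) * h⁻¹ := by group
  rw [this, h2]; group

omit [Fintype K] in
theorem sq_conds (t u v w y z : K) (hu : φ u = u) (hy : φ y = y) (hz : φ z = z)
    (h2 : nf K φ t u v w y z * nf K φ t u v w y z = 1) :
    t * u = 0 ∧ t * φ t * u + t * φ v + φ t * v = 0 ∧
    t * φ t * φ (φ t) * u + t * φ t * φ (φ v) + t * φ (φ t) * φ v + t * φ w + φ t * φ (φ t) * v + φ t * φ (φ w) + φ (φ t) * w = 0 ∧
    t * φ t * φ (φ v) * u + t * φ (φ t) * φ v * u + t * φ v * φ (φ v) + t * φ w * u + φ t * φ (φ t) * v * u + φ t * v * φ (φ v) + φ t * φ (φ w) * u + φ (φ t) * v * φ v + φ (φ t) * w * u + v * φ w + φ v * φ (φ w) + φ (φ v) * w + u * y = 0 := by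
  rw [sq_id K φ hφ3 t v w u y z hu hy hz, ← nf_one K φ] at h2
  obtain ⟨-, -, h19, h21, h22, h23⟩ := nf_inj K φ _ _ _ _ _ _ _ _ _ _ _ _ h2
  exact ⟨h19, h21, h22, h23⟩

/-- one step of the reduction: conjugation by an element of `³D₄(q)` -/
theorem step (h g g' : GL chevD4.Idx K) (hh : h ∈ G1D4) (e : h * g * h⁻¹ = g') (hg : g ∈ G1D4)
    (h2 : g * g = 1) : g' ∈ G1D4 ∧ g' * g' = 1 ∧ Cj K φ g g' := by
  subst e
  exact ⟨Subgroup.mul_mem _ (Subgroup.mul_mem _ hh hg) (Subgroup.inv_mem _ hh), conj_sq h g h2, h, hh, rfl⟩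


/-- the product of a short root element and a commuting long root element is conjugate to a short root
element -/
theorem case_tz (t y z : K) (hmem : nf K φ t 0 0 0 y z ∈ G1D4)
    (h2 : nf K φ t 0 0 0 y z * nf K φ t 0 0 0 y z = 1) (ht : t ≠ 0) :
    Cj K φ (nf K φ t 0 0 0 y z) (XA K φ 1) := by
  have h2F := two_K K
  obtain ⟨-, hy, hz⟩ := fixed_of_mem K φ hφ3 _ _ _ _ _ _ hmem
  have hφt : φ t ≠ 0 := (map_ne_zero φ).mpr ht
  have hφφt : φ (φ t) ≠ 0 := (map_ne_zero φ).mpr hφt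
  obtain ⟨N, hN⟩ : ∃ N, N = t * φ t * φ (φ t) := ⟨_, rfl⟩
  have hN0 : N ≠ 0 := by rw [hN]; exact mul_ne_zero (mul_ne_zero ht hφt) hφφt
  have hNfix : φ N = N := by rw [hN, map_mul, map_mul, hφ3]; ring
  -- kill `z`
  obtain ⟨c, hc2⟩ := exists_sqrt K (z / N)
  have hc : φ c = c := by
    apply sq_inj K
    rw [← map_pow, hc2, map_div₀, hz, hNfix]
  have e3 := a3_id K φ hφ3 t y z c hy hz hc
  rw [← hN] at e3
  have hz3 : N * c ^ 2 + z = 0 := by
    rw [hc2]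
    field_simp
    linear_combination z * h2F
  rw [hz3] at e3
  obtain ⟨y3, hy3⟩ : ∃ y3, y3 = N * c + y := ⟨_, rfl⟩
  rw [← hy3] at e3
  obtain ⟨hm3, hs3, cj3⟩ := step K φ hφ3 _ _ _ (XAB_mem K φ hφ3 (t * c)) e3 hmem h2
  obtain ⟨-, hy3f, -⟩ := fixed_of_mem K φ hφ3 _ _ _ _ _ _ hm3
  -- kill `y`
  obtain ⟨s, hs⟩ : ∃ s, s = φ (φ (y3 / t)) := ⟨_, rfl⟩
  have e4 := a4_id K φ hφ3 t s y3 hy3f
  have hy4 : t * φ s + φ t * φ (φ s) + φ (φ t) * s + y3 = 0 := by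
    rw [hs]
    simp only [hφ3, map_div₀, hy3f]
    field_simp
    linear_combination 2 * y3 * h2F
  rw [hy4] at e4
  obtain ⟨-, -, cj4⟩ := step K φ hφ3 _ _ _ (XAAB_mem K φ hφ3 s) e4 hm3 hs3
  rw [nf_XA] at cj4
  exact cj3.trans (cj4.trans (cj_XA K φ t ht))

/-- involutions with nontrivial `X_a`-component are conjugate to short root elements -/
theorem case_t (t u v w y z : K) (hmem : nf K φ t u v w y z ∈ G1D4)
    (h2 : nf K φ t u v w y z * nf K φ t u v w y z = 1) (ht : t ≠ 0) :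
    Cj K φ (nf K φ t u v w y z) (XA K φ 1) := by
  have h2F := two_K K
  obtain ⟨hu, hy, hz⟩ := fixed_of_mem K φ hφ3 _ _ _ _ _ _ hmem
  obtain ⟨e19, e21, -, -⟩ := sq_conds K φ hφ3 t u v w y z hu hy hz h2
  have hu0 : u = 0 := by
    rcases mul_eq_zero.mp e19 with h | h
    · exact absurd h ht
    · exact h
  subst hu0
  have hφt : φ t ≠ 0 := (map_ne_zero φ).mpr ht
  have hφφt : φ (φ t) ≠ 0 := (map_ne_zero φ).mpr hφt
  obtain ⟨c, hcdef⟩ : ∃ c, c = v / t := ⟨_, rfl⟩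
  have hv : v = t * c := by rw [hcdef]; field_simp
  have hc : φ c = c := by
    rw [hcdef, map_div₀, div_eq_div_iff hφt ht]
    linear_combination e21 - φ t * v * h2F
  rw [hv] at hmem h2 ⊢
  -- kill `v`
  have e1 := a1_id K φ hφ3 t w y z c hy hz hc
  obtain ⟨w1, hw1⟩ : ∃ w1, w1 = t * φ t * c + w := ⟨_, rfl⟩
  obtain ⟨y1, hy1⟩ : ∃ y1, y1 = t * φ t * φ (φ t) * c + y := ⟨_, rfl⟩
  obtain ⟨z1, hz1⟩ : ∃ z1, z1 = t * φ t * φ (φ t) * c ^ 2 + y * c + z := ⟨_, rfl⟩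
  rw [← hw1, ← hy1, ← hz1] at e1
  obtain ⟨hm1, hs1, cj1⟩ := step K φ hφ3 _ _ _ (XB_mem K φ c hc) e1 hmem h2
  obtain ⟨-, hy1f, hz1f⟩ := fixed_of_mem K φ hφ3 _ _ _ _ _ _ hm1
  obtain ⟨-, -, e22, -⟩ := sq_conds K φ hφ3 t 0 0 w1 y1 z1 (map_zero φ) hy1f hz1f hs1
  simp only [map_zero, mul_zero, zero_mul, add_zero, zero_add] at e22
  -- kill `w`
  obtain ⟨s, hs⟩ : ∃ s, s = φ w1 * t ^ 2 / (t * φ t * φ (φ t)) := ⟨_, rfl⟩
  have hsw : t * φ s + φ t * s = w1 := by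
    rw [hs]
    simp only [map_div₀, map_mul, map_pow, hφ3]
    field_simp
    linear_combination e22 - φ (φ t) * w1 * h2F
  have e2 := a2_id K φ hφ3 t s y1 z1 hy1f hz1f
  rw [hsw] at e2
  obtain ⟨hm2, hs2, cj2⟩ := step K φ hφ3 _ _ _ (XAB_mem K φ hφ3 s) e2 hm1 hs1
  exact cj1.trans (cj2.trans (case_tz K φ hφ3 t _ _ hm2 hs2 ht))


/-- long root elements are conjugate to `x_{3a+2b}(1)` -/
theorem cj_XB (u : K) (hu0 : u ≠ 0) (hu : φ u = u) : Cj K φ (XB K φ u) (XZ K φ 1) := by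
  have h := cj_weyl K φ hφ3 [1, 0, 2, 3] (by decide) (nba_mem K φ) 0 u 0 0 0 0 _ (w2_id K φ hφ3 0 u hu)
  rw [nf_XB, map_zero, nf_XZ] at h
  exact (Cj.trans ⟨_, nba_mem K φ, h⟩ (cj_XZ K φ hφ3 u hu0 hu))

theorem cj_XY (y : K) (hy0 : y ≠ 0) (hy : φ y = y) : Cj K φ (XY K φ y) (XZ K φ 1) := by
  have h := cj_weyl K φ hφ3 [1] (by decide) (nb_mem K φ) 0 0 0 0 y 0 _ (w3_id K φ hφ3 y hy)
  rw [nf_XY, nf_XZ] at h
  exact (Cj.trans ⟨_, nb_mem K φ, h⟩ (cj_XZ K φ hφ3 y hy0 hy))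

/-- short root elements are conjugate to `x_a(1)` -/
theorem cj_XAAB (w : K) (hw : w ≠ 0) : Cj K φ (XAAB K φ w) (XA K φ 1) := by
  have h := cj_weyl K φ hφ3 [0, 2, 3, 1] (by decide) (nab_mem K φ) (φ w) 0 0 0 0 0 _ (w4_id K φ hφ3 (φ w))
  rw [nf_XA, hφ3, nf_XAAB] at h
  have c1 : Cj K φ (XA K φ (φ w)) (XAAB K φ w) := ⟨_, nab_mem K φ, h⟩
  exact c1.symm.trans (cj_XA K φ (φ w) ((map_ne_zero φ).mpr hw))

theorem case_u (u v w y z : K) (hmem : nf K φ 0 u v w y z ∈ G1D4)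
    (h2 : nf K φ 0 u v w y z * nf K φ 0 u v w y z = 1) (hu0 : u ≠ 0) :
    Cj K φ (nf K φ 0 u v w y z) (XZ K φ 1) ∨ Cj K φ (nf K φ 0 u v w y z) (XA K φ 1) := by
  have h2F := two_K K
  obtain ⟨hu, hy, hz⟩ := fixed_of_mem K φ hφ3 _ _ _ _ _ _ hmem
  obtain ⟨s, hs⟩ : ∃ s, s = v / u := ⟨_, rfl⟩
  have hv : v = s * u := by rw [hs]; field_simp
  rw [hv] at hmem h2 ⊢
  have e1 := b1_id K φ hφ3 w s u y z hu hy hz
  obtain ⟨w1, hw1⟩ : ∃ w1, w1 = w + s * φ s * u := ⟨_, rfl⟩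
  obtain ⟨y1, hy1⟩ : ∃ y1, y1 = w * φ (φ s) + φ w * s + φ (φ w) * φ s + y := ⟨_, rfl⟩
  obtain ⟨z1, hz1⟩ : ∃ z1, z1 = s * φ s * φ (φ s) * u ^ 2 + z := ⟨_, rfl⟩
  rw [← hw1, ← hy1, ← hz1] at e1
  obtain ⟨hm1, hs1, cj1⟩ := step K φ hφ3 _ _ _ (XA_mem K φ s) e1 hmem h2
  obtain ⟨-, hy1f, hz1f⟩ := fixed_of_mem K φ hφ3 _ _ _ _ _ _ hm1
  obtain ⟨-, -, -, e23⟩ := sq_conds K φ hφ3 0 u 0 w1 y1 z1 hu hy1f hz1f hs1
  simp only [map_zero, mul_zero, zero_mul, add_zero, zero_add] at e23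
  have hy10 : y1 = 0 := by
    rcases mul_eq_zero.mp e23 with h | h
    · exact absurd h hu0
    · exact h
  rw [hy10] at e1 hm1 hs1 cj1
  -- kill `z`
  obtain ⟨c, hc⟩ : ∃ c, c = z1 / u := ⟨_, rfl⟩
  have hcf : φ c = c := by rw [hc, map_div₀, hz1f, hu]
  have e2 := b2_id K φ hφ3 w1 u z1 c hu hz1f hcf
  have hz2 : u * c + z1 = 0 := by
    rw [hc]
    field_simp
    linear_combination z1 * h2F
  rw [hz2] at e2
  obtain ⟨hm2, hs2, cj2⟩ := step K φ hφ3 _ _ _ (XY_mem K φ hφ3 c hcf) e2 hm1 hs1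
  have cj12 := cj1.trans cj2
  by_cases hw0 : w1 = 0
  · left
    rw [hw0, nf_XB] at cj12
    exact cj12.trans (cj_XB K φ hφ3 u hu0 hu)
  · right
    have h := cj_weyl K φ hφ3 [1, 0, 2, 3] (by decide) (nba_mem K φ) 0 u 0 w1 0 0 _ (w2_id K φ hφ3 w1 u hu)
    obtain ⟨hm3, hs3, cj3⟩ := step K φ hφ3 _ _ _ (nba_mem K φ) h hm2 hs2
    exact cj12.trans (cj3.trans (case_tz K φ hφ3 (φ w1) 0 u hm3 hs3 ((map_ne_zero φ).mpr hw0)))

theorem case_v (v w y z : K) (hmem : nf K φ 0 0 v w y z ∈ G1D4)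
    (h2 : nf K φ 0 0 v w y z * nf K φ 0 0 v w y z = 1) (hv0 : v ≠ 0) :
    Cj K φ (nf K φ 0 0 v w y z) (XA K φ 1) := by
  obtain ⟨-, hy, hz⟩ := fixed_of_mem K φ hφ3 _ _ _ _ _ _ hmem
  have h := cj_weyl K φ hφ3 [1] (by decide) (nb_mem K φ) 0 0 v w y z _ (w1_id K φ hφ3 v w y z hy hz)
  obtain ⟨hm1, hs1, cj1⟩ := step K φ hφ3 _ _ _ (nb_mem K φ) h hmem h2
  exact cj1.trans (case_t K φ hφ3 v 0 0 w z y hm1 hs1 hv0)

theorem case_w (w y z : K) (hmem : nf K φ 0 0 0 w y z ∈ G1D4)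
    (h2 : nf K φ 0 0 0 w y z * nf K φ 0 0 0 w y z = 1) (hw0 : w ≠ 0) :
    Cj K φ (nf K φ 0 0 0 w y z) (XA K φ 1) := by
  have h2F := two_K K
  obtain ⟨-, hy, hz⟩ := fixed_of_mem K φ hφ3 _ _ _ _ _ _ hmem
  have hφw : φ w ≠ 0 := (map_ne_zero φ).mpr hw0
  have hφφw : φ (φ w) ≠ 0 := (map_ne_zero φ).mpr hφw
  -- kill `y`
  obtain ⟨s, hs⟩ : ∃ s, s = y / φ w := ⟨_, rfl⟩
  have e1 := d1_id K φ hφ3 w s y z hy hz
  have hy1 : w * φ (φ s) + φ w * s + φ (φ w) * φ s + y = 0 := by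
    rw [hs]
    simp only [map_div₀, hφ3, hy]
    field_simp
    linear_combination 2 * y * h2F
  rw [hy1] at e1
  obtain ⟨hm1, hs1, cj1⟩ := step K φ hφ3 _ _ _ (XA_mem K φ s) e1 hmem h2
  -- kill `z`
  obtain ⟨s', hs'⟩ : ∃ s', s' = z / φ w := ⟨_, rfl⟩
  have e2 := d2_id K φ hφ3 w s' z hz
  have hz1 : w * φ (φ s') + φ w * s' + φ (φ w) * φ s' + z = 0 := by
    rw [hs']
    simp only [map_div₀, hφ3, hz]
    field_simp
    linear_combination 2 * z * h2F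
  rw [hz1] at e2
  obtain ⟨-, -, cj2⟩ := step K φ hφ3 _ _ _ (XAB_mem K φ hφ3 s') e2 hm1 hs1
  rw [nf_XAAB] at cj2
  exact cj1.trans (cj2.trans (cj_XAAB K φ hφ3 w hw0))

theorem case_yz (y z : K) (hmem : nf K φ 0 0 0 0 y z ∈ G1D4)
    (h1 : nf K φ 0 0 0 0 y z ≠ 1) : Cj K φ (nf K φ 0 0 0 0 y z) (XZ K φ 1) := by
  have h2F := two_K K
  obtain ⟨-, hy, hz⟩ := fixed_of_mem K φ hφ3 _ _ _ _ _ _ hmem
  by_cases hy0 : y = 0
  · subst hy0
    have hz0 : z ≠ 0 := by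
      rintro rfl
      exact h1 (nf_one K φ)
    rw [nf_XZ]
    exact cj_XZ K φ hφ3 z hz0 hz
  · obtain ⟨c, hc⟩ : ∃ c, c = z / y := ⟨_, rfl⟩
    have hcf : φ c = c := by rw [hc, map_div₀, hz, hy]
    have e1 := e1_id K φ hφ3 y z c hy hz hcf
    have hz1 : y * c + z = 0 := by
      rw [hc]
      field_simp
      linear_combination z * h2F
    rw [hz1, nf_XY] at e1
    exact (Cj.trans ⟨_, XB_mem K φ c hcf, e1⟩ (cj_XY K φ hφ3 y hy0 hy))

/-- classification of the involutions of `U¹` up to conjugacy -/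
theorem invol_U (g : GL chevD4.Idx K) (hgU : g ∈ chevD4.posUnipotent K) (hgG : g ∈ G1D4)
    (h2 : g * g = 1) (h1 : g ≠ 1) : Cj K φ g (XZ K φ 1) ∨ Cj K φ g (XA K φ 1) := by
  obtain ⟨t, u, v, w, y, z, -, -, -, rfl⟩ := exists_nf K φ hφ3 g hgU hgG
  by_cases ht : t = 0
  · subst ht
    by_cases hu : u = 0
    · subst hu
      by_cases hv : v = 0
      · subst hv
        by_cases hw : w = 0
        · subst hw
          left
          exact case_yz K φ hφ3 y z hgG h1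
        · right
          exact case_w K φ hφ3 w y z hgG h2 hw
      · right
        exact case_v K φ hφ3 v w y z hgG h2 hv
    · exact case_u K φ hφ3 u v w y z hgG h2 hu
  · right
    exact case_t K φ hφ3 t u v w y z hgG h2 ht

end

end Cfsg.Agent.Lib.Helper7.D4Inv
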