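import Cfsg.Agent.Lib.Helper7.D4Inv

/-! The two classes of involutions of `³D₄(q)`, `q` even: Sylow argument and non-conjugacy (helper7). -/

set_option autoImplicit false
set_option maxRecDepth 100000

namespace Cfsg.Agent.Lib.Helper7.D4Inv

open Cfsg Cfsg.Lie Matrix
open Cfsg.Agent.Lib.Helper7 Cfsg.Agent.Lib.Helper7.MV Cfsg.Agent.Lib.Helper7.G2Inv

open scoped Pointwise

section
variable (K : Type*) [Field K] (φ : K ≃+* K)

local notation "G1D4" => chevD4.genSubgroup K (twWords K φ [d4p2, d4m2] []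
  [(d4p1, d4p3, d4p4), (d4m1, d4m3, d4m4)])

/-! ### the column `h_i` of the elements of the height three subgroup -/

theorem col5 (r1 r2 r3 r4 r5 : ℕ) (h12 : Inert chevD4 r1 r2) (h13 : Inert chevD4 r1 r3)
    (h14 : Inert chevD4 r1 r4) (h15 : Inert chevD4 r1 r5) (h23 : Inert chevD4 r2 r3)
    (h24 : Inert chevD4 r2 r4) (h25 : Inert chevD4 r2 r5) (h34 : Inert chevD4 r3 r4)
    (h35 : Inert chevD4 r3 r5) (h45 : Inert chevD4 r4 r5) (c1 c2 c3 c4 c5 : K) (i : Fin chevD4.rank) :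
    (chevD4.x K r1 c1 * (chevD4.x K r2 c2 * (chevD4.x K r3 c3 * (chevD4.x K r4 c4 *
        (chevD4.x K r5 c5 * 1))))) *ᵥ vH chevD4 K i =
      vH chevD4 K i - (((chevD4.cartan i.val r5 : ℤ) : K) * c5) • vE chevD4 K r5 h15.2.1
        - (((chevD4.cartan i.val r4 : ℤ) : K) * c4) • vE chevD4 K r4 h14.2.1
        - (((chevD4.cartan i.val r3 : ℤ) : K) * c3) • vE chevD4 K r3 h13.2.1
        - (((chevD4.cartan i.val r2 : ℤ) : K) * c2) • vE chevD4 K r2 h12.2.1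
        - (((chevD4.cartan i.val r1 : ℤ) : K) * c1) • vE chevD4 K r1 h12.1 := by
  rw [mul_one, ← Matrix.mulVec_mulVec, ← Matrix.mulVec_mulVec, ← Matrix.mulVec_mulVec, ← Matrix.mulVec_mulVec]
  simp only [x_mulVec_vH chevD4 K r5 h15.2.1, x_mulVec_vH chevD4 K r4 h14.2.1, x_mulVec_vH chevD4 K r3 h13.2.1,
    x_mulVec_vH chevD4 K r2 h12.2.1, x_mulVec_vH chevD4 K r1 h12.1, Matrix.mulVec_sub, Matrix.mulVec_smul,
    x_mulVec_vE chevD4 K r4 r5 h45, x_mulVec_vE chevD4 K r3 r5 h35, x_mulVec_vE chevD4 K r3 r4 h34,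
    x_mulVec_vE chevD4 K r2 r5 h25, x_mulVec_vE chevD4 K r2 r4 h24, x_mulVec_vE chevD4 K r2 r3 h23,
    x_mulVec_vE chevD4 K r1 r5 h15, x_mulVec_vE chevD4 K r1 r4 h14, x_mulVec_vE chevD4 K r1 r3 h13,
    x_mulVec_vE chevD4 K r1 r2 h12]
  abel

theorem inert_facts : Inert chevD4 21 20 ∧ Inert chevD4 21 17 ∧ Inert chevD4 21 22 ∧ Inert chevD4 21 23 ∧
    Inert chevD4 20 17 ∧ Inert chevD4 20 22 ∧ Inert chevD4 20 23 ∧ Inert chevD4 17 22 ∧ Inert chevD4 17 23 ∧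
    Inert chevD4 22 23 := by decide +kernel

/-- the column `h_{p₁}` of `q5` -/
theorem q5_col (k1 k3 k2 al be : K) :
    ((q5 K k1 k3 k2 al be : GL chevD4.Idx K) : Matrix chevD4.Idx chevD4.Idx K) *ᵥ
        vH chevD4 K ⟨0, by decide⟩ =
      vH chevD4 K ⟨0, by decide⟩ - (((chevD4.cartan 0 23 : ℤ) : K) * be) • vE chevD4 K 23 (by decide)
        - (((chevD4.cartan 0 22 : ℤ) : K) * al) • vE chevD4 K 22 (by decide)
        - (((chevD4.cartan 0 17 : ℤ) : K) * k2) • vE chevD4 K 17 (by decide)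
        - (((chevD4.cartan 0 20 : ℤ) : K) * k3) • vE chevD4 K 20 (by decide)
        - (((chevD4.cartan 0 21 : ℤ) : K) * k1) • vE chevD4 K 21 (by decide) := by
  obtain ⟨i1, i2, i3, i4, i5, i6, i7, i8, i9, i10⟩ := inert_facts
  unfold q5 q5W
  rw [coe_wordGL]
  unfold ChevalleyDatum.wordMat
  simp only [List.map_cons, List.map_nil, List.prod_cons, List.prod_nil]
  exact col5 K 21 20 17 22 23 i1 i2 i3 i4 i5 i6 i7 i8 i9 i10 k1 k3 k2 al be ⟨0, by decide⟩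

theorem highOKB_D4 : highOKB chevD4 = true := by decide +kernel

/-! ### conjugation of `q5` by the Borel subgroup -/

variable [CharP K 2]

omit φ in
theorem q5_conj_x (r : ℕ) (hr : r ∈ [18, 13, 12, 14, 19, 16, 15, 21, 20, 17, 22, 23]) (s k1 k3 k2 al be : K) :
    ∃ al' be' : K, xGL chevD4 chevD4_mem K r s * q5 K k1 k3 k2 al be * (xGL chevD4 chevD4_mem K r s)⁻¹ =
      q5 K k1 k3 k2 al' be' := by
  simp only [List.mem_cons, List.not_mem_nil, or_false] at hr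
  rcases hr with rfl | rfl | rfl | rfl | rfl | rfl | rfl | rfl | rfl | rfl | rfl | rfl
  · exact ⟨_, _, q18_id K s k1 k3 k2 al be⟩
  · exact ⟨_, _, q13_id K s k1 k3 k2 al be⟩
  · exact ⟨_, _, q12_id K s k1 k3 k2 al be⟩
  · exact ⟨_, _, q14_id K s k1 k3 k2 al be⟩
  · exact ⟨_, _, q19_id K s k1 k3 k2 al be⟩
  · exact ⟨_, _, q16_id K s k1 k3 k2 al be⟩
  · exact ⟨_, _, q15_id K s k1 k3 k2 al be⟩
  · exact ⟨_, _, q21_id K s k1 k3 k2 al be⟩
  · exact ⟨_, _, q20_id K s k1 k3 k2 al be⟩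
  · exact ⟨_, _, q17_id K s k1 k3 k2 al be⟩
  · exact ⟨_, _, q22_id K s k1 k3 k2 al be⟩
  · exact ⟨_, _, q23_id K s k1 k3 k2 al be⟩

omit φ in
theorem q5_conj_ordProd (τ : ℕ → K) : ∀ (l : List ℕ),
    (∀ r ∈ l, r ∈ [18, 13, 12, 14, 19, 16, 15, 21, 20, 17, 22, 23]) → ∀ (k1 k3 k2 al be : K),
    ∃ al' be' : K, ordProd chevD4 chevD4_mem K l τ * q5 K k1 k3 k2 al be *
        (ordProd chevD4 chevD4_mem K l τ)⁻¹ = q5 K k1 k3 k2 al' be'
  | [], _, k1, k3, k2, al, be => ⟨al, be, by rw [ordProd_nil]; group⟩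
  | r :: l, hl, k1, k3, k2, al, be => by
    obtain ⟨al1, be1, h1⟩ := q5_conj_ordProd τ l (fun r' hr' => hl r' (List.mem_cons_of_mem _ hr')) k1 k3 k2 al be
    obtain ⟨al2, be2, h2⟩ := q5_conj_x K r (hl r List.mem_cons_self) (τ r) k1 k3 k2 al1 be1
    refine ⟨al2, be2, ?_⟩
    rw [ordProd_cons, ← h2, ← h1]
    group

omit φ in
/-- conjugation of `q5` by an element of `U` -/
theorem conjU (u : GL chevD4.Idx K) (hu : u ∈ chevD4.posUnipotent K) (k1 k3 k2 al be : K) :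
    ∃ al' be' : K, u * q5 K k1 k3 k2 al be * u⁻¹ = q5 K k1 k3 k2 al' be' := by
  obtain ⟨hTw, hpos⟩ := twistFacts_of_twistOKB chevD4 grRho_D4_1 grRhoInv_D4_1 twW_D4 twCls_D4 twistTab_D4.twist
  have hA := chainAdd_linF chevD4 chevD4_mem twW_D4
  have hO : PosFacts chevD4 (linF chevD4 twW_D4) := ⟨hpos, twistTab_D4.prim⟩
  obtain ⟨τ, -, rfl⟩ := exists_ordProd_flatten chevD4 chevD4_mem _ _ K _ hA hO twCls_D4 hTw u hu
  exact q5_conj_ordProd K τ twCls_D4.flatten (fun r hr => hr) k1 k3 k2 al be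

omit φ [CharP K 2] in
theorem conjH (h : GL chevD4.Idx K) (χ : ℕ → K) (hχ : ChainChar chevD4 K χ)
    (hh : (h : Matrix chevD4.Idx chevD4.Idx K) = diagChar chevD4 K χ) (k1 k3 k2 al be : K) :
    h * q5 K k1 k3 k2 al be * h⁻¹ = q5 K (χ 21 * k1) (χ 20 * k3) (χ 17 * k2) (χ 22 * al) (χ 23 * be) := by
  have e : ∀ s t, h * xGL chevD4 chevD4_mem K s t * h⁻¹ = xGL chevD4 chevD4_mem K s (χ s * t) := by
    intro s t
    rw [diagGL_xGL_comm chevD4 chevD4_mem K h χ hχ hh, mul_assoc, mul_inv_cancel, mul_one]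
  unfold q5 q5W
  simp only [wordGL_cons, wordGL_nil, mul_one]
  rw [← e 21 k1, ← e 20 k3, ← e 17 k2, ← e 22 al, ← e 23 be]
  group

omit φ in
/-- `B` preserves the set of elements of `q5` with non-zero coordinates at the roots of height three -/
theorem borel_conj (b : GL chevD4.Idx K) (hb : b ∈ chevD4.borelSubgroup K) :
    ∃ c1 c3 c2 : K, c1 ≠ 0 ∧ c3 ≠ 0 ∧ c2 ≠ 0 ∧ ∀ k1 k3 k2 al be : K, ∃ al' be' : K,
      b * q5 K k1 k3 k2 al be * b⁻¹ = q5 K (c1 * k1) (c3 * k3) (c2 * k2) al' be' := by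
  have hb' : b ∈ ((chevD4.borelSubgroup K : Subgroup _) : Set (GL chevD4.Idx K)) := hb
  rw [borel_eq_mul chevD4 chevD4_mem K] at hb'
  obtain ⟨h, hh, u, hu, rfl⟩ := Set.mem_mul.mp hb'
  obtain ⟨χ, hχ, hhm⟩ := mem_diagonalSubgroup_char chevD4 chevD4_mem K h hh
  refine ⟨χ 21, χ 20, χ 17, hχ.ne0 21 (by decide), hχ.ne0 20 (by decide), hχ.ne0 17 (by decide),
    fun k1 k3 k2 al be => ?_⟩
  obtain ⟨al1, be1, h1⟩ := conjU K u hu k1 k3 k2 al be
  have e : h * u * q5 K k1 k3 k2 al be * (h * u)⁻¹ = h * (u * q5 K k1 k3 k2 al be * u⁻¹) * h⁻¹ := by group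
  rw [e, h1, conjH K h χ hχ hhm]
  exact ⟨_, _, rfl⟩

theorem cartan_vals : chevD4.cartan 0 21 = 1 ∧ chevD4.cartan 0 17 = -1 := by decide +kernel

omit φ in
/-- a long root element is not conjugate in `D₄(K)` to the product of the three root elements of height
three -/
theorem not_cj_amb : ¬ ∃ h ∈ chevD4.group K, h * xGL chevD4 chevD4_mem K 23 1 * h⁻¹ = q5 K 1 1 1 0 0 := by
  rintro ⟨h, hh, he⟩
  obtain ⟨b, hb, n, hn, u, hu, rfl⟩ := canon_exists chevD4 chevD4_mem K h hh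
  have huU := uMinus_le_posUnipotent chevD4 K n hu
  have hcomm : u * xGL chevD4 chevD4_mem K 23 1 = xGL chevD4 chevD4_mem K 23 1 * u :=
    pos_comm_high chevD4 chevD4_mem K highOKB_D4 u huU 1
  have key : n * xGL chevD4 chevD4_mem K 23 1 * n⁻¹ = b⁻¹ * q5 K 1 1 1 0 0 * b⁻¹⁻¹ := by
    rw [← he]
    have : b * n * u * xGL chevD4 chevD4_mem K 23 1 * (b * n * u)⁻¹ =
        b * n * (u * xGL chevD4 chevD4_mem K 23 1) * u⁻¹ * n⁻¹ * b⁻¹ := by group
    rw [this, hcomm]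
    group
  obtain ⟨L, hL, hact⟩ := exists_actsAs chevD4 chevD4_mem K n hn
  obtain ⟨w, hw⟩ : ∃ w, w = reflWord chevD4 L := ⟨_, rfl⟩
  rw [← hw] at hact
  obtain ⟨h23lt, k, hk, e23⟩ := hact 23 (by decide)
  obtain ⟨c1, c3, c2, hc1, hc3, hc2, hy⟩ := borel_conj K b⁻¹ (Subgroup.inv_mem _ hb)
  obtain ⟨α, β, hy1⟩ := hy 1 1 1 0 0
  rw [e23 1, hy1] at key
  have hM : chevD4.x K (w 23) (k * 1) =
      ((q5 K (c1 * 1) (c3 * 1) (c2 * 1) α β : GL chevD4.Idx K) : Matrix chevD4.Idx chevD4.Idx K) := by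
    rw [← key, coe_xGL]
  have e1 := x_mulVec_vH chevD4 K (w 23) h23lt (k * 1) ⟨0, by decide⟩
  rw [hM, q5_col] at e1
  have ne : ∀ s (hs : s < chevD4.nroots) r (hr : r < chevD4.nroots), r ≠ s →
      vE chevD4 K s hs (Sum.inr ⟨r, hr⟩) = 0 := by
    intro s hs r hr hne
    unfold vE
    apply Pi.single_eq_of_ne
    intro hh
    exact hne (congrArg Fin.val (Sum.inr.inj hh))
  have e0 : ∀ (i : Fin chevD4.rank) r (hr : r < chevD4.nroots), vH chevD4 K i (Sum.inr ⟨r, hr⟩) = 0 := by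
    intro i r hr
    unfold vH
    apply Pi.single_eq_of_ne
    intro hh; cases hh
  have e4 : ∀ r (hr : r < chevD4.nroots), vE chevD4 K r hr (Sum.inr ⟨r, hr⟩) = 1 := by
    intro r hr
    unfold vE
    exact Pi.single_eq_same _ _
  obtain ⟨a21, a17⟩ := cartan_vals
  have h21 := congrFun e1 (Sum.inr ⟨21, by decide⟩)
  have h17 := congrFun e1 (Sum.inr ⟨17, by decide⟩)
  simp only [Pi.sub_apply, Pi.smul_apply, smul_eq_mul] at h21 h17
  have w21 : w 23 = 21 := by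
    by_contra hne
    rw [e0, e4, ne 23 _ 21 _ (by omega), ne 22 _ 21 _ (by omega), ne 17 _ 21 _ (by omega),
      ne 20 _ 21 _ (by omega), ne (w 23) h23lt 21 _ (fun h => hne h.symm), a21] at h21
    apply hc1
    have := h21
    simp at this
    exact this
  have w17 : w 23 = 17 := by
    by_contra hne
    rw [e0, e4, ne 23 _ 17 _ (by omega), ne 22 _ 17 _ (by omega), ne 21 _ 17 _ (by omega),
      ne 20 _ 17 _ (by omega), ne (w 23) h23lt 17 _ (fun h => hne h.symm), a17] at h17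
    apply hc2
    have := h17
    simp at this
    exact this
  omega

end

section
variable (K : Type*) [Field K] (φ : K ≃+* K)

local notation "G1D4" => chevD4.genSubgroup K (twWords K φ [d4p2, d4m2] []
  [(d4p1, d4p3, d4p4), (d4m1, d4m3, d4m4)])

variable [CharP K 2] (hφ3 : ∀ a : K, φ (φ (φ a)) = a)
include hφ3

omit [CharP K 2] hφ3 in
theorem XZ_eq : XZ K φ 1 = xGL chevD4 chevD4_mem K 23 1 := by
  unfold XZ XZW
  rw [wordGL_cons, wordGL_nil, mul_one]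

omit [CharP K 2] hφ3 in
theorem XAAB_eq : XAAB K φ 1 = q5 K 1 1 1 0 0 := by
  unfold XAAB XAABW q5 q5W
  simp only [map_one, wordGL_cons, wordGL_nil, xGL_zero, mul_one]

variable [Fintype K]

/-- the long and the short root elements are not conjugate -/
theorem not_cj : ¬ Cj K φ (XZ K φ 1) (XA K φ 1) := by
  intro hc
  have h2 := hc.trans (cj_XAAB K φ hφ3 1 one_ne_zero).symm
  obtain ⟨h, hh, he⟩ := h2
  rw [XZ_eq, XAAB_eq] at he
  exact not_cj_amb K ⟨h, G1_le_group K φ hh, he⟩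

omit [Fintype K] in
theorem XZ_sq : XZ K φ 1 * XZ K φ 1 = 1 := by
  rw [← nf_XZ, sq_id K φ hφ3 0 0 0 0 0 1 (map_zero φ) (map_zero φ) (map_one φ)]
  simp only [map_zero, mul_zero, zero_mul, add_zero]
  exact nf_one K φ

omit [Fintype K] in
theorem XA_sq : XA K φ 1 * XA K φ 1 = 1 := by
  rw [← nf_XA, sq_id K φ hφ3 1 0 0 0 0 0 (map_zero φ) (map_zero φ) (map_zero φ)]
  simp only [map_zero, mul_zero, zero_mul, add_zero]
  exact nf_one K φ

omit [CharP K 2] hφ3 [Fintype K] in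
theorem XZ_ne : XZ K φ 1 ≠ 1 := by
  rw [← nf_XZ, ← nf_one K φ]
  intro h
  obtain ⟨-, -, -, -, -, h1⟩ := nf_inj K φ _ _ _ _ _ _ _ _ _ _ _ _ h
  exact one_ne_zero h1

omit [CharP K 2] hφ3 [Fintype K] in
theorem XA_ne : XA K φ 1 ≠ 1 := by
  rw [← nf_XA, ← nf_one K φ]
  intro h
  obtain ⟨h1, -⟩ := nf_inj K φ _ _ _ _ _ _ _ _ _ _ _ _ h
  exact one_ne_zero h1

omit [CharP K 2] hφ3 [Fintype K] in
theorem orderOf_two {G : Type*} [Group G] (g : G) (h2 : g * g = 1) (h1 : g ≠ 1) : orderOf g = 2 := by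
  have : Fact (Nat.Prime 2) := ⟨Nat.prime_two⟩
  apply orderOf_eq_prime
  · rw [pow_two, h2]
  · exact h1

omit hφ3 in
/-- every involution of `³D₄(q)` is conjugate to an element of `U¹` -/
theorem conj_into_U (q j : ℕ) (hj : 1 ≤ j) (hq : q = 2 ^ j) (hK : Fintype.card K = q ^ 3)
    (hiter : ∀ a, φ^[3] a = a) (hfix : Nat.card {a : K // φ a = a} = q)
    (g : GL chevD4.Idx K) (hg : g ∈ G1D4) (ho : orderOf g = 2) :
    ∃ h ∈ G1D4, h * g * h⁻¹ ∈ chevD4.posUnipotent K := by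
  have : Fact (Nat.Prime 2) := ⟨Nat.prime_two⟩
  have hUG : chevD4.posUnipotent K ⊓ G1D4 ≤ G1D4 := inf_le_right
  obtain ⟨U', hU'⟩ : ∃ U' : Subgroup ↥G1D4, U' = (chevD4.posUnipotent K ⊓ G1D4).subgroupOf G1D4 := ⟨_, rfl⟩
  have hcardU : Nat.card U' = 2 ^ (j * 12) := by
    rw [hU', Nat.card_congr (Subgroup.subgroupOfEquivOfLe hUG).toEquiv,
      card_posUnipotent_inf_twGroup chevD4 chevD4_mem _ _ _ _ _ _ _ _ _ _ _ _ _ _ twistTab_D4 K φ q
        (by rw [Nat.card_eq_fintype_card, hK]) hfix hiter, twCls_D4_length, hq, ← pow_mul]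
  have hcardG := card_twD4 K φ q hK hiter hfix
  rw [hq] at hcardG
  have hP1 : IsPGroup 2 U' := IsPGroup.of_card hcardU
  have hP2 : ¬ 2 ∣ U'.index := by
    have h1 := U'.card_mul_index
    rw [hcardU, hcardG] at h1
    have hpos : 0 < 2 ^ (j * 12) := by positivity
    have h2 : U'.index = ((2 ^ j) ^ 2 - 1) * ((2 ^ j) ^ 6 - 1) * ((2 ^ j) ^ 8 + (2 ^ j) ^ 4 + 1) := by
      apply Nat.eq_of_mul_eq_mul_left hpos
      rw [h1, pow_mul]
      ring
    rw [h2]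
    have hev : ∀ k : ℕ, 1 ≤ k → 2 ∣ (2 ^ j) ^ k := by
      intro k hk
      rw [← pow_mul]
      exact dvd_pow_self 2 (by have : 0 < j * k := Nat.mul_pos (by omega) (by omega); omega)
    have hodd : ∀ k : ℕ, 1 ≤ k → ¬ 2 ∣ (2 ^ j) ^ k - 1 := by
      intro k hk hdvd
      have h3 := hev k hk
      have h4 : 1 ≤ (2 ^ j) ^ k := Nat.one_le_pow _ _ (by positivity)
      omega
    intro hdvd
    rcases (Nat.Prime.dvd_mul Nat.prime_two).mp hdvd with h | h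
    · rcases (Nat.Prime.dvd_mul Nat.prime_two).mp h with h | h
      · exact hodd 2 (by omega) h
      · exact hodd 6 (by omega) h
    · have h8 := hev 8 (by omega)
      have h4 := hev 4 (by omega)
      omega
  obtain ⟨P, hP⟩ : ∃ P : Sylow 2 ↥G1D4, P = hP1.toSylow hP2 := ⟨_, rfl⟩
  have hg' : orderOf (⟨g, hg⟩ : ↥G1D4) = 2 := by
    rw [← ho]
    exact Subgroup.orderOf_mk g hg
  have hZ : IsPGroup 2 (Subgroup.zpowers (⟨g, hg⟩ : ↥G1D4)) := by
    apply IsPGroup.of_card (n := 1)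
    rw [Nat.card_zpowers, hg', pow_one]
  obtain ⟨Q, hQ⟩ := hZ.exists_le_sylow
  obtain ⟨k, hk⟩ := MulAction.exists_smul_eq ↥G1D4 Q P
  have hgQ : (⟨g, hg⟩ : ↥G1D4) ∈ (Q : Subgroup ↥G1D4) := hQ (Subgroup.mem_zpowers _)
  have h1 : MulAut.conj k • (⟨g, hg⟩ : ↥G1D4) ∈ MulAut.conj k • (Q : Subgroup ↥G1D4) :=
    Subgroup.smul_mem_pointwise_smul _ _ _ hgQ
  rw [← Sylow.coe_subgroup_smul, hk, hP, IsPGroup.toSylow_coe, hU', Subgroup.mem_subgroupOf] at h1
  refine ⟨k, k.2, ?_⟩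
  have h3 := (Subgroup.mem_inf.mp h1).1
  simpa [MulAut.smul_def, MulAut.conj_apply] using h3

/-- `³D₄(q)`, `q` even, has exactly two classes of involutions -/
theorem d4_invol_ncard (q j : ℕ) (hj : 1 ≤ j) (hq : q = 2 ^ j) (hK : Fintype.card K = q ^ 3)
    (hiter : ∀ a, φ^[3] a = a) (hfix : Nat.card {a : K // φ a = a} = q) :
    (ConjClasses.mk '' {g : ↥G1D4 | orderOf g = 2}).ncard = 2 := by
  obtain ⟨a, ha⟩ : ∃ a : ↥G1D4, a = ⟨XZ K φ 1, XZ_mem K φ hφ3 1 (map_one φ)⟩ := ⟨_, rfl⟩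
  obtain ⟨b, hb⟩ : ∃ b : ↥G1D4, b = ⟨XA K φ 1, XA_mem K φ 1⟩ := ⟨_, rfl⟩
  have hoa : orderOf a = 2 := by
    rw [ha, Subgroup.orderOf_mk]
    exact orderOf_two _ (XZ_sq K φ hφ3) (XZ_ne K φ)
  have hob : orderOf b = 2 := by
    rw [hb, Subgroup.orderOf_mk]
    exact orderOf_two _ (XA_sq K φ hφ3) (XA_ne K φ)
  have hne : ConjClasses.mk a ≠ ConjClasses.mk b := by
    intro h
    rw [ConjClasses.mk_eq_mk_iff_isConj, isConj_iff] at h
    obtain ⟨c, hc⟩ := h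
    apply not_cj K φ hφ3
    refine ⟨c.1, c.2, ?_⟩
    have := congrArg Subtype.val hc
    rw [ha, hb] at this
    simpa using this
  have hset : ConjClasses.mk '' {g : ↥G1D4 | orderOf g = 2} = {ConjClasses.mk a, ConjClasses.mk b} := by
    apply Set.Subset.antisymm
    · rintro _ ⟨g, hg, rfl⟩
      have hg2 : orderOf (g : GL chevD4.Idx K) = 2 := by rw [Subgroup.orderOf_coe]; exact hg
      obtain ⟨h, hh, hu⟩ := conj_into_U K φ q j hj hq hK hiter hfix g.1 g.2 hg2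
      have hgg : (g : GL chevD4.Idx K) * g = 1 := by
        have := pow_orderOf_eq_one (g : GL chevD4.Idx K)
        rwa [hg2, pow_two] at this
      have hs := conj_sq h (g : GL chevD4.Idx K) hgg
      have h1 : h * (g : GL chevD4.Idx K) * h⁻¹ ≠ 1 := by
        intro h1
        have : (g : GL chevD4.Idx K) = 1 := by
          have : (g : GL chevD4.Idx K) = h⁻¹ * (h * g * h⁻¹) * h := by group
          rw [this, h1]; group
        rw [this, orderOf_one] at hg2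
        omega
      have hm : h * (g : GL chevD4.Idx K) * h⁻¹ ∈ G1D4 :=
        Subgroup.mul_mem _ (Subgroup.mul_mem _ hh g.2) (Subgroup.inv_mem _ hh)
      have hcj : Cj K φ (g : GL chevD4.Idx K) (h * g * h⁻¹) := ⟨h, hh, rfl⟩
      rcases invol_U K φ hφ3 _ hu hm hs h1 with hc | hc
      · obtain ⟨k, hk, hke⟩ := hcj.trans hc
        left
        rw [ConjClasses.mk_eq_mk_iff_isConj, isConj_iff]
        refine ⟨⟨k, hk⟩, Subtype.ext ?_⟩
        rw [ha]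
        simpa using hke
      · obtain ⟨k, hk, hke⟩ := hcj.trans hc
        right
        rw [Set.mem_singleton_iff, ConjClasses.mk_eq_mk_iff_isConj, isConj_iff]
        refine ⟨⟨k, hk⟩, Subtype.ext ?_⟩
        rw [hb]
        simpa using hke
    · rintro x hx
      rcases hx with rfl | rfl
      · exact ⟨a, hoa, rfl⟩
      · exact ⟨b, hob, rfl⟩
  rw [hset, Set.ncard_pair hne]

end

end Cfsg.Agent.Lib.Helper7.D4Inv
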