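import Cfsg.Agent.Lib.Helper7.MvVec
import Cfsg.Agent.Lib.Helper7.ChevTwistHD4

/-! Definitions for the word identities in the unipotent subgroup of `³D₄(q)`, characteristic two (helper7). -/

set_option autoImplicit false

namespace Cfsg.Agent.Lib.Helper7.D4Inv

open Cfsg Cfsg.Lie Matrix
open Cfsg.Agent.Lib.Helper7 Cfsg.Agent.Lib.Helper7.MV

def XBW (K : Type*) [Field K] (_φ : K ≃+* K) (u : K) : List (ℕ × K) := [(14, u)]
def XYW (K : Type*) [Field K] (_φ : K ≃+* K) (y : K) : List (ℕ × K) := [(22, y)]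
def XZW (K : Type*) [Field K] (_φ : K ≃+* K) (z : K) : List (ℕ × K) := [(23, z)]

section
variable (K : Type*) [Field K] (φ : K ≃+* K)

/-- valuation of sixteen variables -/
def val16 (a0 a1 a2 a3 a4 a5 a6 a7 a8 a9 a10 a11 a12 a13 a14 a15 : K) : ℕ → K
  | 0 => a0
  | 1 => a1
  | 2 => a2
  | 3 => a3
  | 4 => a4
  | 5 => a5
  | 6 => a6
  | 7 => a7
  | 8 => a8
  | 9 => a9
  | 10 => a10
  | 11 => a11
  | 12 => a12
  | 13 => a13
  | 14 => a14
  | 15 => a15
  | _ => 0

theorem evalW_eq (ρ : ℕ → K) : ∀ (w : List (ℕ × List (List ℕ × ℤ))) (w' : List (ℕ × K)),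
    List.Forall₂ (fun x y => x.1 = y.1 ∧ pEval ρ x.2 = y.2) w w' → evalW ρ w = w'
  | _, _, List.Forall₂.nil => rfl
  | _, _, List.Forall₂.cons h hs => by
    have ih := evalW_eq ρ _ _ hs
    unfold evalW at ih ⊢
    rw [List.map_cons, ih]
    congr 1
    exact Prod.ext h.1 h.2

def XAW (t : K) : List (ℕ × K) := [(18, t), (13, φ t), (12, φ (φ t))]
def XABW (v : K) : List (ℕ × K) := [(19, v), (16, φ v), (15, φ (φ v))]
def XAABW (w : K) : List (ℕ × K) := [(21, w), (20, φ (φ w)), (17, φ w)]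

/-- the normal form of the elements of `U¹` -/
def nfW (t u v w y z : K) : List (ℕ × K) :=
  [(18, t), (13, φ t), (12, φ (φ t)), (14, u), (19, v), (16, φ v), (15, φ (φ v)),
    (21, w), (20, φ (φ w)), (17, φ w), (22, y), (23, z)]

noncomputable def XA (t : K) : GL chevD4.Idx K := wordGL chevD4 chevD4_mem K (XAW K φ t)
noncomputable def XB (u : K) : GL chevD4.Idx K := wordGL chevD4 chevD4_mem K (XBW K φ u)
noncomputable def XAB (v : K) : GL chevD4.Idx K := wordGL chevD4 chevD4_mem K (XABW K φ v)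
noncomputable def XAAB (w : K) : GL chevD4.Idx K := wordGL chevD4 chevD4_mem K (XAABW K φ w)
noncomputable def XY (y : K) : GL chevD4.Idx K := wordGL chevD4 chevD4_mem K (XYW K φ y)
noncomputable def XZ (z : K) : GL chevD4.Idx K := wordGL chevD4 chevD4_mem K (XZW K φ z)
noncomputable def nf (t u v w y z : K) : GL chevD4.Idx K := wordGL chevD4 chevD4_mem K (nfW K φ t u v w y z)

theorem wordGL_cons (r : ℕ) (t : K) (w : List (ℕ × K)) :
    wordGL chevD4 chevD4_mem K ((r, t) :: w) = xGL chevD4 chevD4_mem K r t * wordGL chevD4 chevD4_mem K w := by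
  unfold wordGL
  rw [List.map_cons, List.prod_cons]

theorem wordGL_nil : wordGL chevD4 chevD4_mem K [] = 1 := by
  unfold wordGL
  rfl

theorem wordGL_inv_rev : ∀ c : List (ℕ × K), (wordGL chevD4 chevD4_mem K c)⁻¹ =
    wordGL chevD4 chevD4_mem K (c.reverse.map fun e => (e.1, -e.2))
  | [] => by simp [wordGL_nil]
  | e :: c => by
    rw [wordGL_cons, _root_.mul_inv_rev, wordGL_inv_rev c, List.reverse_cons, List.map_append, wordGL_append,
      List.map_cons, List.map_nil, wordGL_cons, wordGL_nil, mul_one, xGL_inv]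

theorem conj_wordW (c w : List (ℕ × K)) :
    wordGL chevD4 chevD4_mem K c * wordGL chevD4 chevD4_mem K w * (wordGL chevD4 chevD4_mem K c)⁻¹ =
      wordGL chevD4 chevD4_mem K (c ++ w ++ (c.reverse.map fun e => (e.1, -e.2))) := by
  rw [wordGL_inv_rev, wordGL_append, wordGL_append]

variable [CharP K 2]

theorem two_eq_zero' : ((2 : ℕ) : K) = 0 := CharP.cast_eq_zero K 2

theorem wordGL_eq_of_chk (ρ : ℕ → K) (w1 w2 : List (ℕ × List (List ℕ × ℤ)))
    (h : wordEqChk chevD4 2 w1 w2 = true) :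
    wordGL chevD4 chevD4_mem K (evalW ρ w1) = wordGL chevD4 chevD4_mem K (evalW ρ w2) :=
  Units.ext (by rw [coe_wordGL, coe_wordGL]; exact wordMat_eq_of_chk chevD4 ρ 2 (two_eq_zero' K) w1 w2 h)

end

end Cfsg.Agent.Lib.Helper7.D4Inv
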