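import Cfsg.Agent.Lib.Helper7.D4InvDefs

/-! Word identities in `U¹` of `³D₄(q)`, characteristic two, part C (helper7). -/

set_option autoImplicit false

namespace Cfsg.Agent.Lib.Helper7.D4Inv

open Cfsg Cfsg.Lie Matrix
open Cfsg.Agent.Lib.Helper7 Cfsg.Agent.Lib.Helper7.MV

def a3L : List (ℕ × List (List ℕ × ℤ)) :=
  [(19, [([1,0,0,0,0,0,0,0,0,0,0,0,0,0,0,1], 1)]), (16, [([0,1,0,0,0,0,0,0,0,0,0,0,0,0,0,1], 1)]), (15, [([0,0,1,0,0,0,0,0,0,0,0,0,0,0,0,1], 1)]), (18, [([1,0,0,0,0,0,0,0,0,0,0,0,0,0,0,0], 1)]), (13, [([0,1,0,0,0,0,0,0,0,0,0,0,0,0,0,0], 1)]), (12, [([0,0,1,0,0,0,0,0,0,0,0,0,0,0,0,0], 1)]), (14, []), (19, []), (16, []), (15, []), (21, []), (20, []), (17, []), (22, [([0,0,0,0,0,0,0,0,0,0,0,0,0,1,0,0], 1)]), (23, [([0,0,0,0,0,0,0,0,0,0,0,0,0,0,1,0], 1)]), (15, [([0,0,1,0,0,0,0,0,0,0,0,0,0,0,0,1], -1)]), (16, [([0,1,0,0,0,0,0,0,0,0,0,0,0,0,0,1], -1)]), (19, [([1,0,0,0,0,0,0,0,0,0,0,0,0,0,0,1],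 -1)])]

def a3R : List (ℕ × List (List ℕ × ℤ)) :=
  [(18, [([1,0,0,0,0,0,0,0,0,0,0,0,0,0,0,0], 1)]), (13, [([0,1,0,0,0,0,0,0,0,0,0,0,0,0,0,0], 1)]), (12, [([0,0,1,0,0,0,0,0,0,0,0,0,0,0,0,0], 1)]), (14, []), (19, []), (16, []), (15, []), (21, []), (20, []), (17, []), (22, [([1,1,1,0,0,0,0,0,0,0,0,0,0,0,0,1], 1), ([0,0,0,0,0,0,0,0,0,0,0,0,0,1,0,0], 1)]), (23, [([1,1,1,0,0,0,0,0,0,0,0,0,0,0,0,2], 1), ([0,0,0,0,0,0,0,0,0,0,0,0,0,0,1,0], 1)])]

set_option maxRecDepth 100000 in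
theorem a3_chk : wordEqChk chevD4 2 a3L a3R = true := by decide +kernel

def a4L : List (ℕ × List (List ℕ × ℤ)) :=
  [(21, [([0,0,0,0,0,0,0,0,0,1,0,0,0,0,0,0], 1)]), (20, [([0,0,0,0,0,0,0,0,0,0,0,1,0,0,0,0], 1)]), (17, [([0,0,0,0,0,0,0,0,0,0,1,0,0,0,0,0], 1)]), (18, [([1,0,0,0,0,0,0,0,0,0,0,0,0,0,0,0], 1)]), (13, [([0,1,0,0,0,0,0,0,0,0,0,0,0,0,0,0], 1)]), (12, [([0,0,1,0,0,0,0,0,0,0,0,0,0,0,0,0], 1)]), (14, []), (19, []), (16, []), (15, []), (21, []), (20, []), (17, []), (22, [([0,0,0,0,0,0,0,0,0,0,0,0,0,1,0,0], 1)]), (23, []), (17, [([0,0,0,0,0,0,0,0,0,0,1,0,0,0,0,0], -1)]), (20, [([0,0,0,0,0,0,0,0,0,0,0,1,0,0,0,0], -1)]), (21, [([0,0,0,0,0,0,0,0,0,1,0,0,0,0,0,0], -1)])]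

def a4R : List (ℕ × List (List ℕ × ℤ)) :=
  [(18, [([1,0,0,0,0,0,0,0,0,0,0,0,0,0,0,0], 1)]), (13, [([0,1,0,0,0,0,0,0,0,0,0,0,0,0,0,0], 1)]), (12, [([0,0,1,0,0,0,0,0,0,0,0,0,0,0,0,0], 1)]), (14, []), (19, []), (16, []), (15, []), (21, []), (20, []), (17, []), (22, [([1,0,0,0,0,0,0,0,0,0,1,0,0,0,0,0], 1), ([0,1,0,0,0,0,0,0,0,0,0,1,0,0,0,0], 1), ([0,0,1,0,0,0,0,0,0,1,0,0,0,0,0,0], 1), ([0,0,0,0,0,0,0,0,0,0,0,0,0,1,0,0], 1)]), (23, [])]

set_option maxRecDepth 100000 in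
theorem a4_chk : wordEqChk chevD4 2 a4L a4R = true := by decide +kernel

section
variable (K : Type*) [Field K] (φ : K ≃+* K)

variable [CharP K 2]

variable (hφ3 : ∀ a : K, φ (φ (φ a)) = a)
include hφ3

theorem a3_id (t y z c : K) (hy : φ y = y) (hz : φ z = z) (hc : φ c = c) :
    XAB K φ (t * c) * nf K φ (t) (0) (0) (0) (y) (z) * (XAB K φ (t * c))⁻¹ =
      nf K φ (t) (0) (0) (0) (t * φ t * φ (φ t) * c + y) (t * φ t * φ (φ t) * c ^ 2 + z) := by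
  have key := wordGL_eq_of_chk K (val16 K (t) (φ t) (φ (φ t)) 0 0 0 0 0 0 0 0 0 0 (y) (z) (c)) a3L a3R a3_chk
  have eL : evalW (val16 K (t) (φ t) (φ (φ t)) 0 0 0 0 0 0 0 0 0 0 (y) (z) (c)) a3L =
      XABW K φ (t * c) ++ nfW K φ (t) (0) (0) (0) (y) (z) ++ ((XABW K φ (t * c)).reverse.map fun e => (e.1, -e.2)) := by
    apply evalW_eq
    unfold a3L XABW nfW
    simp only [List.cons_append, List.nil_append, List.reverse_cons, List.reverse_nil, List.map_cons, List.map_nil]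
    repeat' (first | exact List.Forall₂.nil | apply List.Forall₂.cons | refine And.intro rfl ?_)
    all_goals (simp only [pEval, mEval, List.map_cons, List.map_nil, List.sum_cons, List.sum_nil, val16]; (try simp only [map_add, map_mul, map_pow, map_zero, hφ3, hy, hz, hc]); (try push_cast); (try ring))
  have eR : evalW (val16 K (t) (φ t) (φ (φ t)) 0 0 0 0 0 0 0 0 0 0 (y) (z) (c)) a3R = nfW K φ (t) (0) (0) (0) (t * φ t * φ (φ t) * c + y) (t * φ t * φ (φ t) * c ^ 2 + z) := by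
    apply evalW_eq
    unfold a3R nfW
    repeat' (first | exact List.Forall₂.nil | apply List.Forall₂.cons | refine And.intro rfl ?_)
    all_goals (simp only [pEval, mEval, List.map_cons, List.map_nil, List.sum_cons, List.sum_nil, val16]; (try simp only [map_add, map_mul, map_pow, map_zero, hφ3, hy, hz, hc]); (try push_cast); (try ring))
  rw [eL, eR] at key
  unfold nf XAB
  rw [conj_wordW]
  exact key

theorem a4_id (t s y : K) (hy : φ y = y) :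
    XAAB K φ (s) * nf K φ (t) (0) (0) (0) (y) (0) * (XAAB K φ (s))⁻¹ =
      nf K φ (t) (0) (0) (0) (t * φ s + φ t * φ (φ s) + φ (φ t) * s + y) (0) := by
  have key := wordGL_eq_of_chk K (val16 K (t) (φ t) (φ (φ t)) 0 0 0 0 0 0 (s) (φ s) (φ (φ s)) 0 (y) 0 0) a4L a4R a4_chk
  have eL : evalW (val16 K (t) (φ t) (φ (φ t)) 0 0 0 0 0 0 (s) (φ s) (φ (φ s)) 0 (y) 0 0) a4L =
      XAABW K φ (s) ++ nfW K φ (t) (0) (0) (0) (y) (0) ++ ((XAABW K φ (s)).reverse.map fun e => (e.1, -e.2)) := by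
    apply evalW_eq
    unfold a4L XAABW nfW
    simp only [List.cons_append, List.nil_append, List.reverse_cons, List.reverse_nil, List.map_cons, List.map_nil]
    repeat' (first | exact List.Forall₂.nil | apply List.Forall₂.cons | refine And.intro rfl ?_)
    all_goals (simp only [pEval, mEval, List.map_cons, List.map_nil, List.sum_cons, List.sum_nil, val16]; (try simp only [map_add, map_mul, map_pow, map_zero, hφ3, hy]); (try push_cast); (try ring))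
  have eR : evalW (val16 K (t) (φ t) (φ (φ t)) 0 0 0 0 0 0 (s) (φ s) (φ (φ s)) 0 (y) 0 0) a4R = nfW K φ (t) (0) (0) (0) (t * φ s + φ t * φ (φ s) + φ (φ t) * s + y) (0) := by
    apply evalW_eq
    unfold a4R nfW
    repeat' (first | exact List.Forall₂.nil | apply List.Forall₂.cons | refine And.intro rfl ?_)
    all_goals (simp only [pEval, mEval, List.map_cons, List.map_nil, List.sum_cons, List.sum_nil, val16]; (try simp only [map_add, map_mul, map_pow, map_zero, hφ3, hy]); (try push_cast); (try ring))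
  rw [eL, eR] at key
  unfold nf XAAB
  rw [conj_wordW]
  exact key

end

end Cfsg.Agent.Lib.Helper7.D4Inv
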