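import Cfsg.Agent.Lib.Helper7.D4InvDefs

/-! Word identities in `U¹` of `³D₄(q)`, characteristic two, part D (helper7). -/

set_option autoImplicit false

namespace Cfsg.Agent.Lib.Helper7.D4Inv

open Cfsg Cfsg.Lie Matrix
open Cfsg.Agent.Lib.Helper7 Cfsg.Agent.Lib.Helper7.MV

def b1L : List (ℕ × List (List ℕ × ℤ)) :=
  [(18, [([0,0,0,0,0,0,0,0,0,1,0,0,0,0,0,0], 1)]), (13, [([0,0,0,0,0,0,0,0,0,0,1,0,0,0,0,0], 1)]), (12, [([0,0,0,0,0,0,0,0,0,0,0,1,0,0,0,0], 1)]), (18, []), (13, []), (12, []), (14, [([0,0,0,0,0,0,0,0,0,0,0,0,1,0,0,0], 1)]), (19, [([0,0,0,0,0,0,0,0,0,1,0,0,1,0,0,0], 1)]), (16, [([0,0,0,0,0,0,0,0,0,0,1,0,1,0,0,0], 1)]), (15, [([0,0,0,0,0,0,0,0,0,0,0,1,1,0,0,0], 1)]), (21, [([0,0,0,0,0,0,1,0,0,0,0,0,0,0,0,0], 1)]), (20, [([0,0,0,0,0,0,0,0,1,0,0,0,0,0,0,0], 1)]), (17, [([0,0,0,0,0,0,0,1,0,0,0,0,0,0,0,0], 1)]), (22, [([0,0,0,0,0,0,0,0,0,0,0,0,0,1,0,0], 1)]),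 (23, [([0,0,0,0,0,0,0,0,0,0,0,0,0,0,1,0], 1)]), (12, [([0,0,0,0,0,0,0,0,0,0,0,1,0,0,0,0], -1)]), (13, [([0,0,0,0,0,0,0,0,0,0,1,0,0,0,0,0], -1)]), (18, [([0,0,0,0,0,0,0,0,0,1,0,0,0,0,0,0], -1)])]

def b1R : List (ℕ × List (List ℕ × ℤ)) :=
  [(18, []), (13, []), (12, []), (14, [([0,0,0,0,0,0,0,0,0,0,0,0,1,0,0,0], 1)]), (19, []), (16, []), (15, []), (21, [([0,0,0,0,0,0,1,0,0,0,0,0,0,0,0,0], 1), ([0,0,0,0,0,0,0,0,0,1,1,0,1,0,0,0], 1)]), (20, [([0,0,0,0,0,0,0,0,1,0,0,0,0,0,0,0], 1), ([0,0,0,0,0,0,0,0,0,1,0,1,1,0,0,0], 1)]), (17, [([0,0,0,0,0,0,0,1,0,0,0,0,0,0,0,0], 1), ([0,0,0,0,0,0,0,0,0,0,1,1,1,0,0,0], 1)]), (22, [([0,0,0,0,0,0,1,0,0,0,0,1,0,0,0,0], 1), ([0,0,0,0,0,0,0,1,0,1,0,0,0,0,0,0], 1), ([0,0,0,0,0,0,0,0,1,0,1,0,0,0,0,0], 1), ([0,0,0,0,0,0,0,0,0,0,0,0,0,1,0,0], 1)]), (23, [([0,0,0,0,0,0,0,0,0,1,1,1,2,0,0,0], 1), ([0,0,0,0,0,0,0,0,0,0,0,0,0,0,1,0], 1)])]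

set_option maxRecDepth 100000 in
theorem b1_chk : wordEqChk chevD4 2 b1L b1R = true := by decide +kernel

def b2L : List (ℕ × List (List ℕ × ℤ)) :=
  [(22, [([0,0,0,0,0,0,0,0,0,0,0,0,0,0,0,1], 1)]), (18, []), (13, []), (12, []), (14, [([0,0,0,0,0,0,0,0,0,0,0,0,1,0,0,0], 1)]), (19, []), (16, []), (15, []), (21, [([0,0,0,0,0,0,1,0,0,0,0,0,0,0,0,0], 1)]), (20, [([0,0,0,0,0,0,0,0,1,0,0,0,0,0,0,0], 1)]), (17, [([0,0,0,0,0,0,0,1,0,0,0,0,0,0,0,0], 1)]), (22, []), (23, [([0,0,0,0,0,0,0,0,0,0,0,0,0,0,1,0], 1)]), (22, [([0,0,0,0,0,0,0,0,0,0,0,0,0,0,0,1], -1)])]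

def b2R : List (ℕ × List (List ℕ × ℤ)) :=
  [(18, []), (13, []), (12, []), (14, [([0,0,0,0,0,0,0,0,0,0,0,0,1,0,0,0], 1)]), (19, []), (16, []), (15, []), (21, [([0,0,0,0,0,0,1,0,0,0,0,0,0,0,0,0], 1)]), (20, [([0,0,0,0,0,0,0,0,1,0,0,0,0,0,0,0], 1)]), (17, [([0,0,0,0,0,0,0,1,0,0,0,0,0,0,0,0], 1)]), (22, []), (23, [([0,0,0,0,0,0,0,0,0,0,0,0,1,0,0,1], 1), ([0,0,0,0,0,0,0,0,0,0,0,0,0,0,1,0], 1)])]

set_option maxRecDepth 100000 in
theorem b2_chk : wordEqChk chevD4 2 b2L b2R = true := by decide +kernel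

section
variable (K : Type*) [Field K] (φ : K ≃+* K)

variable [CharP K 2]

variable (hφ3 : ∀ a : K, φ (φ (φ a)) = a)
include hφ3

theorem b1_id (w s u y z : K) (hu : φ u = u) (hy : φ y = y) (hz : φ z = z) :
    XA K φ (s) * nf K φ (0) (u) (s * u) (w) (y) (z) * (XA K φ (s))⁻¹ =
      nf K φ (0) (u) (0) (w + s * φ s * u) (w * φ (φ s) + φ w * s + φ (φ w) * φ s + y) (s * φ s * φ (φ s) * u ^ 2 + z) := by
  have key := wordGL_eq_of_chk K (val16 K 0 0 0 0 0 0 (w) (φ w) (φ (φ w)) (s) (φ s) (φ (φ s)) (u) (y) (z) 0) b1L b1R b1_chk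
  have eL : evalW (val16 K 0 0 0 0 0 0 (w) (φ w) (φ (φ w)) (s) (φ s) (φ (φ s)) (u) (y) (z) 0) b1L =
      XAW K φ (s) ++ nfW K φ (0) (u) (s * u) (w) (y) (z) ++ ((XAW K φ (s)).reverse.map fun e => (e.1, -e.2)) := by
    apply evalW_eq
    unfold b1L XAW nfW
    simp only [List.cons_append, List.nil_append, List.reverse_cons, List.reverse_nil, List.map_cons, List.map_nil]
    repeat' (first | exact List.Forall₂.nil | apply List.Forall₂.cons | refine And.intro rfl ?_)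
    all_goals (simp only [pEval, mEval, List.map_cons, List.map_nil, List.sum_cons, List.sum_nil, val16]; (try simp only [map_add, map_mul, map_pow, map_zero, hφ3, hu, hy, hz]); (try push_cast); (try ring))
  have eR : evalW (val16 K 0 0 0 0 0 0 (w) (φ w) (φ (φ w)) (s) (φ s) (φ (φ s)) (u) (y) (z) 0) b1R = nfW K φ (0) (u) (0) (w + s * φ s * u) (w * φ (φ s) + φ w * s + φ (φ w) * φ s + y) (s * φ s * φ (φ s) * u ^ 2 + z) := by
    apply evalW_eq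
    unfold b1R nfW
    repeat' (first | exact List.Forall₂.nil | apply List.Forall₂.cons | refine And.intro rfl ?_)
    all_goals (simp only [pEval, mEval, List.map_cons, List.map_nil, List.sum_cons, List.sum_nil, val16]; (try simp only [map_add, map_mul, map_pow, map_zero, hφ3, hu, hy, hz]); (try push_cast); (try ring))
  rw [eL, eR] at key
  unfold nf XA
  rw [conj_wordW]
  exact key

theorem b2_id (w u z c : K) (hu : φ u = u) (hz : φ z = z) (hc : φ c = c) :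
    XY K φ (c) * nf K φ (0) (u) (0) (w) (0) (z) * (XY K φ (c))⁻¹ =
      nf K φ (0) (u) (0) (w) (0) (u * c + z) := by
  have key := wordGL_eq_of_chk K (val16 K 0 0 0 0 0 0 (w) (φ w) (φ (φ w)) 0 0 0 (u) 0 (z) (c)) b2L b2R b2_chk
  have eL : evalW (val16 K 0 0 0 0 0 0 (w) (φ w) (φ (φ w)) 0 0 0 (u) 0 (z) (c)) b2L =
      XYW K φ (c) ++ nfW K φ (0) (u) (0) (w) (0) (z) ++ ((XYW K φ (c)).reverse.map fun e => (e.1, -e.2)) := by
    apply evalW_eq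
    unfold b2L XYW nfW
    simp only [List.cons_append, List.nil_append, List.reverse_cons, List.reverse_nil, List.map_cons, List.map_nil]
    repeat' (first | exact List.Forall₂.nil | apply List.Forall₂.cons | refine And.intro rfl ?_)
    all_goals (simp only [pEval, mEval, List.map_cons, List.map_nil, List.sum_cons, List.sum_nil, val16]; (try simp only [map_add, map_mul, map_pow, map_zero, hφ3, hu, hz, hc]); (try push_cast); (try ring))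
  have eR : evalW (val16 K 0 0 0 0 0 0 (w) (φ w) (φ (φ w)) 0 0 0 (u) 0 (z) (c)) b2R = nfW K φ (0) (u) (0) (w) (0) (u * c + z) := by
    apply evalW_eq
    unfold b2R nfW
    repeat' (first | exact List.Forall₂.nil | apply List.Forall₂.cons | refine And.intro rfl ?_)
    all_goals (simp only [pEval, mEval, List.map_cons, List.map_nil, List.sum_cons, List.sum_nil, val16]; (try simp only [map_add, map_mul, map_pow, map_zero, hφ3, hu, hz, hc]); (try push_cast); (try ring))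
  rw [eL, eR] at key
  unfold nf XY
  rw [conj_wordW]
  exact key

end

end Cfsg.Agent.Lib.Helper7.D4Inv
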