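import Cfsg.Agent.Lib.Helper7.D4InvDefs

/-! Word identities in `U¹` of `³D₄(q)`, characteristic two, part E (helper7). -/

set_option autoImplicit false

namespace Cfsg.Agent.Lib.Helper7.D4Inv

open Cfsg Cfsg.Lie Matrix
open Cfsg.Agent.Lib.Helper7 Cfsg.Agent.Lib.Helper7.MV

def d1L : List (ℕ × List (List ℕ × ℤ)) :=
  [(18, [([0,0,0,0,0,0,0,0,0,1,0,0,0,0,0,0], 1)]), (13, [([0,0,0,0,0,0,0,0,0,0,1,0,0,0,0,0], 1)]), (12, [([0,0,0,0,0,0,0,0,0,0,0,1,0,0,0,0], 1)]), (18, []), (13, []), (12, []), (14, []), (19, []), (16, []), (15, []), (21, [([0,0,0,0,0,0,1,0,0,0,0,0,0,0,0,0], 1)]), (20, [([0,0,0,0,0,0,0,0,1,0,0,0,0,0,0,0], 1)]), (17, [([0,0,0,0,0,0,0,1,0,0,0,0,0,0,0,0], 1)]), (22, [([0,0,0,0,0,0,0,0,0,0,0,0,0,1,0,0], 1)]), (23, [([0,0,0,0,0,0,0,0,0,0,0,0,0,0,1,0], 1)]), (12, [([0,0,0,0,0,0,0,0,0,0,0,1,0,0,0,0], -1)]), (13, [([0,0,0,0,0,0,0,0,0,0,1,0,0,0,0,0], -1)]), (18, [([0,0,0,0,0,0,0,0,0,1,0,0,0,0,0,0],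 -1)])]

def d1R : List (ℕ × List (List ℕ × ℤ)) :=
  [(18, []), (13, []), (12, []), (14, []), (19, []), (16, []), (15, []), (21, [([0,0,0,0,0,0,1,0,0,0,0,0,0,0,0,0], 1)]), (20, [([0,0,0,0,0,0,0,0,1,0,0,0,0,0,0,0], 1)]), (17, [([0,0,0,0,0,0,0,1,0,0,0,0,0,0,0,0], 1)]), (22, [([0,0,0,0,0,0,1,0,0,0,0,1,0,0,0,0], 1), ([0,0,0,0,0,0,0,1,0,1,0,0,0,0,0,0], 1), ([0,0,0,0,0,0,0,0,1,0,1,0,0,0,0,0], 1), ([0,0,0,0,0,0,0,0,0,0,0,0,0,1,0,0], 1)]), (23, [([0,0,0,0,0,0,0,0,0,0,0,0,0,0,1,0], 1)])]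

set_option maxRecDepth 100000 in
theorem d1_chk : wordEqChk chevD4 2 d1L d1R = true := by decide +kernel

def d2L : List (ℕ × List (List ℕ × ℤ)) :=
  [(19, [([0,0,0,0,0,0,0,0,0,1,0,0,0,0,0,0], 1)]), (16, [([0,0,0,0,0,0,0,0,0,0,1,0,0,0,0,0], 1)]), (15, [([0,0,0,0,0,0,0,0,0,0,0,1,0,0,0,0], 1)]), (18, []), (13, []), (12, []), (14, []), (19, []), (16, []), (15, []), (21, [([0,0,0,0,0,0,1,0,0,0,0,0,0,0,0,0], 1)]), (20, [([0,0,0,0,0,0,0,0,1,0,0,0,0,0,0,0], 1)]), (17, [([0,0,0,0,0,0,0,1,0,0,0,0,0,0,0,0], 1)]), (22, []), (23, [([0,0,0,0,0,0,0,0,0,0,0,0,0,0,1,0], 1)]), (15, [([0,0,0,0,0,0,0,0,0,0,0,1,0,0,0,0], -1)]), (16, [([0,0,0,0,0,0,0,0,0,0,1,0,0,0,0,0], -1)]), (19, [([0,0,0,0,0,0,0,0,0,1,0,0,0,0,0,0], -1)])]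

def d2R : List (ℕ × List (List ℕ × ℤ)) :=
  [(18, []), (13, []), (12, []), (14, []), (19, []), (16, []), (15, []), (21, [([0,0,0,0,0,0,1,0,0,0,0,0,0,0,0,0], 1)]), (20, [([0,0,0,0,0,0,0,0,1,0,0,0,0,0,0,0], 1)]), (17, [([0,0,0,0,0,0,0,1,0,0,0,0,0,0,0,0], 1)]), (22, []), (23, [([0,0,0,0,0,0,1,0,0,0,0,1,0,0,0,0], 1), ([0,0,0,0,0,0,0,1,0,1,0,0,0,0,0,0], 1), ([0,0,0,0,0,0,0,0,1,0,1,0,0,0,0,0], 1), ([0,0,0,0,0,0,0,0,0,0,0,0,0,0,1,0], 1)])]

set_option maxRecDepth 100000 in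
theorem d2_chk : wordEqChk chevD4 2 d2L d2R = true := by decide +kernel

def e1L : List (ℕ × List (List ℕ × ℤ)) :=
  [(14, [([0,0,0,0,0,0,0,0,0,0,0,0,0,0,0,1], 1)]), (18, []), (13, []), (12, []), (14, []), (19, []), (16, []), (15, []), (21, []), (20, []), (17, []), (22, [([0,0,0,0,0,0,0,0,0,0,0,0,0,1,0,0], 1)]), (23, [([0,0,0,0,0,0,0,0,0,0,0,0,0,0,1,0], 1)]), (14, [([0,0,0,0,0,0,0,0,0,0,0,0,0,0,0,1], -1)])]

def e1R : List (ℕ × List (List ℕ × ℤ)) :=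
  [(18, []), (13, []), (12, []), (14, []), (19, []), (16, []), (15, []), (21, []), (20, []), (17, []), (22, [([0,0,0,0,0,0,0,0,0,0,0,0,0,1,0,0], 1)]), (23, [([0,0,0,0,0,0,0,0,0,0,0,0,0,1,0,1], 1), ([0,0,0,0,0,0,0,0,0,0,0,0,0,0,1,0], 1)])]

set_option maxRecDepth 100000 in
theorem e1_chk : wordEqChk chevD4 2 e1L e1R = true := by decide +kernel

section
variable (K : Type*) [Field K] (φ : K ≃+* K)

variable [CharP K 2]

variable (hφ3 : ∀ a : K, φ (φ (φ a)) = a)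
include hφ3

theorem d1_id (w s y z : K) (hy : φ y = y) (hz : φ z = z) :
    XA K φ (s) * nf K φ (0) (0) (0) (w) (y) (z) * (XA K φ (s))⁻¹ =
      nf K φ (0) (0) (0) (w) (w * φ (φ s) + φ w * s + φ (φ w) * φ s + y) (z) := by
  have key := wordGL_eq_of_chk K (val16 K 0 0 0 0 0 0 (w) (φ w) (φ (φ w)) (s) (φ s) (φ (φ s)) 0 (y) (z) 0) d1L d1R d1_chk
  have eL : evalW (val16 K 0 0 0 0 0 0 (w) (φ w) (φ (φ w)) (s) (φ s) (φ (φ s)) 0 (y) (z) 0) d1L =
      XAW K φ (s) ++ nfW K φ (0) (0) (0) (w) (y) (z) ++ ((XAW K φ (s)).reverse.map fun e => (e.1, -e.2)) := by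
    apply evalW_eq
    unfold d1L XAW nfW
    simp only [List.cons_append, List.nil_append, List.reverse_cons, List.reverse_nil, List.map_cons, List.map_nil]
    repeat' (first | exact List.Forall₂.nil | apply List.Forall₂.cons | refine And.intro rfl ?_)
    all_goals (simp only [pEval, mEval, List.map_cons, List.map_nil, List.sum_cons, List.sum_nil, val16]; (try simp only [map_add, map_mul, map_pow, map_zero, hφ3, hy, hz]); (try push_cast); (try ring))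
  have eR : evalW (val16 K 0 0 0 0 0 0 (w) (φ w) (φ (φ w)) (s) (φ s) (φ (φ s)) 0 (y) (z) 0) d1R = nfW K φ (0) (0) (0) (w) (w * φ (φ s) + φ w * s + φ (φ w) * φ s + y) (z) := by
    apply evalW_eq
    unfold d1R nfW
    repeat' (first | exact List.Forall₂.nil | apply List.Forall₂.cons | refine And.intro rfl ?_)
    all_goals (simp only [pEval, mEval, List.map_cons, List.map_nil, List.sum_cons, List.sum_nil, val16]; (try simp only [map_add, map_mul, map_pow, map_zero, hφ3, hy, hz]); (try push_cast); (try ring))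
  rw [eL, eR] at key
  unfold nf XA
  rw [conj_wordW]
  exact key

theorem d2_id (w s z : K) (hz : φ z = z) :
    XAB K φ (s) * nf K φ (0) (0) (0) (w) (0) (z) * (XAB K φ (s))⁻¹ =
      nf K φ (0) (0) (0) (w) (0) (w * φ (φ s) + φ w * s + φ (φ w) * φ s + z) := by
  have key := wordGL_eq_of_chk K (val16 K 0 0 0 0 0 0 (w) (φ w) (φ (φ w)) (s) (φ s) (φ (φ s)) 0 0 (z) 0) d2L d2R d2_chk
  have eL : evalW (val16 K 0 0 0 0 0 0 (w) (φ w) (φ (φ w)) (s) (φ s) (φ (φ s)) 0 0 (z) 0) d2L =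
      XABW K φ (s) ++ nfW K φ (0) (0) (0) (w) (0) (z) ++ ((XABW K φ (s)).reverse.map fun e => (e.1, -e.2)) := by
    apply evalW_eq
    unfold d2L XABW nfW
    simp only [List.cons_append, List.nil_append, List.reverse_cons, List.reverse_nil, List.map_cons, List.map_nil]
    repeat' (first | exact List.Forall₂.nil | apply List.Forall₂.cons | refine And.intro rfl ?_)
    all_goals (simp only [pEval, mEval, List.map_cons, List.map_nil, List.sum_cons, List.sum_nil, val16]; (try simp only [map_add, map_mul, map_pow, map_zero, hφ3, hz]); (try push_cast); (try ring))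
  have eR : evalW (val16 K 0 0 0 0 0 0 (w) (φ w) (φ (φ w)) (s) (φ s) (φ (φ s)) 0 0 (z) 0) d2R = nfW K φ (0) (0) (0) (w) (0) (w * φ (φ s) + φ w * s + φ (φ w) * φ s + z) := by
    apply evalW_eq
    unfold d2R nfW
    repeat' (first | exact List.Forall₂.nil | apply List.Forall₂.cons | refine And.intro rfl ?_)
    all_goals (simp only [pEval, mEval, List.map_cons, List.map_nil, List.sum_cons, List.sum_nil, val16]; (try simp only [map_add, map_mul, map_pow, map_zero, hφ3, hz]); (try push_cast); (try ring))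
  rw [eL, eR] at key
  unfold nf XAB
  rw [conj_wordW]
  exact key

theorem e1_id (y z c : K) (hy : φ y = y) (hz : φ z = z) (hc : φ c = c) :
    XB K φ (c) * nf K φ (0) (0) (0) (0) (y) (z) * (XB K φ (c))⁻¹ =
      nf K φ (0) (0) (0) (0) (y) (y * c + z) := by
  have key := wordGL_eq_of_chk K (val16 K 0 0 0 0 0 0 0 0 0 0 0 0 0 (y) (z) (c)) e1L e1R e1_chk
  have eL : evalW (val16 K 0 0 0 0 0 0 0 0 0 0 0 0 0 (y) (z) (c)) e1L =
      XBW K φ (c) ++ nfW K φ (0) (0) (0) (0) (y) (z) ++ ((XBW K φ (c)).reverse.map fun e => (e.1, -e.2)) := by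
    apply evalW_eq
    unfold e1L XBW nfW
    simp only [List.cons_append, List.nil_append, List.reverse_cons, List.reverse_nil, List.map_cons, List.map_nil]
    repeat' (first | exact List.Forall₂.nil | apply List.Forall₂.cons | refine And.intro rfl ?_)
    all_goals (simp only [pEval, mEval, List.map_cons, List.map_nil, List.sum_cons, List.sum_nil, val16]; (try simp only [map_add, map_mul, map_pow, map_zero, hφ3, hy, hz, hc]); (try push_cast); (try ring))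
  have eR : evalW (val16 K 0 0 0 0 0 0 0 0 0 0 0 0 0 (y) (z) (c)) e1R = nfW K φ (0) (0) (0) (0) (y) (y * c + z) := by
    apply evalW_eq
    unfold e1R nfW
    repeat' (first | exact List.Forall₂.nil | apply List.Forall₂.cons | refine And.intro rfl ?_)
    all_goals (simp only [pEval, mEval, List.map_cons, List.map_nil, List.sum_cons, List.sum_nil, val16]; (try simp only [map_add, map_mul, map_pow, map_zero, hφ3, hy, hz, hc]); (try push_cast); (try ring))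
  rw [eL, eR] at key
  unfold nf XB
  rw [conj_wordW]
  exact key

end

end Cfsg.Agent.Lib.Helper7.D4Inv
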