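import Cfsg.Agent.Lib.Helper7.D4InvIdA
import Cfsg.Agent.Lib.Helper7.D4InvIdB
import Cfsg.Agent.Lib.Helper7.D4InvIdC
import Cfsg.Agent.Lib.Helper7.D4InvIdD
import Cfsg.Agent.Lib.Helper7.D4InvIdE

/-! Word identities in the unipotent subgroup of `³D₄(q)`, characteristic two (helper7): collects the parts. -/
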