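import Cfsg.Agent.Lib.Helper7.D4InvDefs

/-! Conjugation of the height three subgroup of `D₄` by root elements, characteristic two (helper7). -/

set_option autoImplicit false

namespace Cfsg.Agent.Lib.Helper7.D4Inv

open Cfsg Cfsg.Lie Matrix
open Cfsg.Agent.Lib.Helper7 Cfsg.Agent.Lib.Helper7.MV

def q12L : List (ℕ × List (List ℕ × ℤ)) :=
  [(12, [([1,0,0,0,0,0,0,0,0,0,0,0,0,0,0,0], 1)]), (21, [([0,1,0,0,0,0,0,0,0,0,0,0,0,0,0,0], 1)]), (20, [([0,0,1,0,0,0,0,0,0,0,0,0,0,0,0,0], 1)]), (17, [([0,0,0,1,0,0,0,0,0,0,0,0,0,0,0,0], 1)]), (22, [([0,0,0,0,1,0,0,0,0,0,0,0,0,0,0,0], 1)]), (23, [([0,0,0,0,0,1,0,0,0,0,0,0,0,0,0,0], 1)]), (12, [([1,0,0,0,0,0,0,0,0,0,0,0,0,0,0,0], -1)])]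

def q12R : List (ℕ × List (List ℕ × ℤ)) :=
  [(21, [([0,1,0,0,0,0,0,0,0,0,0,0,0,0,0,0], 1)]), (20, [([0,0,1,0,0,0,0,0,0,0,0,0,0,0,0,0], 1)]), (17, [([0,0,0,1,0,0,0,0,0,0,0,0,0,0,0,0], 1)]), (22, [([1,1,0,0,0,0,0,0,0,0,0,0,0,0,0,0], 1), ([0,0,0,0,1,0,0,0,0,0,0,0,0,0,0,0], 1)]), (23, [([0,0,0,0,0,1,0,0,0,0,0,0,0,0,0,0], 1)])]

set_option maxRecDepth 100000 in
theorem q12_chk : wordEqChk chevD4 2 q12L q12R = true := by decide +kernel

def q13L : List (ℕ × List (List ℕ × ℤ)) :=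
  [(13, [([1,0,0,0,0,0,0,0,0,0,0,0,0,0,0,0], 1)]), (21, [([0,1,0,0,0,0,0,0,0,0,0,0,0,0,0,0], 1)]), (20, [([0,0,1,0,0,0,0,0,0,0,0,0,0,0,0,0], 1)]), (17, [([0,0,0,1,0,0,0,0,0,0,0,0,0,0,0,0], 1)]), (22, [([0,0,0,0,1,0,0,0,0,0,0,0,0,0,0,0], 1)]), (23, [([0,0,0,0,0,1,0,0,0,0,0,0,0,0,0,0], 1)]), (13, [([1,0,0,0,0,0,0,0,0,0,0,0,0,0,0,0], -1)])]

def q13R : List (ℕ × List (List ℕ × ℤ)) :=
  [(21, [([0,1,0,0,0,0,0,0,0,0,0,0,0,0,0,0], 1)]), (20, [([0,0,1,0,0,0,0,0,0,0,0,0,0,0,0,0], 1)]), (17, [([0,0,0,1,0,0,0,0,0,0,0,0,0,0,0,0], 1)]), (22, [([1,0,1,0,0,0,0,0,0,0,0,0,0,0,0,0], 1), ([0,0,0,0,1,0,0,0,0,0,0,0,0,0,0,0], 1)]), (23, [([0,0,0,0,0,1,0,0,0,0,0,0,0,0,0,0], 1)])]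

set_option maxRecDepth 100000 in
theorem q13_chk : wordEqChk chevD4 2 q13L q13R = true := by decide +kernel

def q14L : List (ℕ × List (List ℕ × ℤ)) :=
  [(14, [([1,0,0,0,0,0,0,0,0,0,0,0,0,0,0,0], 1)]), (21, [([0,1,0,0,0,0,0,0,0,0,0,0,0,0,0,0], 1)]), (20, [([0,0,1,0,0,0,0,0,0,0,0,0,0,0,0,0], 1)]), (17, [([0,0,0,1,0,0,0,0,0,0,0,0,0,0,0,0], 1)]), (22, [([0,0,0,0,1,0,0,0,0,0,0,0,0,0,0,0], 1)]), (23, [([0,0,0,0,0,1,0,0,0,0,0,0,0,0,0,0], 1)]), (14, [([1,0,0,0,0,0,0,0,0,0,0,0,0,0,0,0], -1)])]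

def q14R : List (ℕ × List (List ℕ × ℤ)) :=
  [(21, [([0,1,0,0,0,0,0,0,0,0,0,0,0,0,0,0], 1)]), (20, [([0,0,1,0,0,0,0,0,0,0,0,0,0,0,0,0], 1)]), (17, [([0,0,0,1,0,0,0,0,0,0,0,0,0,0,0,0], 1)]), (22, [([0,0,0,0,1,0,0,0,0,0,0,0,0,0,0,0], 1)]), (23, [([1,0,0,0,1,0,0,0,0,0,0,0,0,0,0,0], 1), ([0,0,0,0,0,1,0,0,0,0,0,0,0,0,0,0], 1)])]

set_option maxRecDepth 100000 in
theorem q14_chk : wordEqChk chevD4 2 q14L q14R = true := by decide +kernel

def q15L : List (ℕ × List (List ℕ × ℤ)) :=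
  [(15, [([1,0,0,0,0,0,0,0,0,0,0,0,0,0,0,0], 1)]), (21, [([0,1,0,0,0,0,0,0,0,0,0,0,0,0,0,0], 1)]), (20, [([0,0,1,0,0,0,0,0,0,0,0,0,0,0,0,0], 1)]), (17, [([0,0,0,1,0,0,0,0,0,0,0,0,0,0,0,0], 1)]), (22, [([0,0,0,0,1,0,0,0,0,0,0,0,0,0,0,0], 1)]), (23, [([0,0,0,0,0,1,0,0,0,0,0,0,0,0,0,0], 1)]), (15, [([1,0,0,0,0,0,0,0,0,0,0,0,0,0,0,0], -1)])]

def q15R : List (ℕ × List (List ℕ × ℤ)) :=
  [(21, [([0,1,0,0,0,0,0,0,0,0,0,0,0,0,0,0], 1)]), (20, [([0,0,1,0,0,0,0,0,0,0,0,0,0,0,0,0], 1)]), (17, [([0,0,0,1,0,0,0,0,0,0,0,0,0,0,0,0], 1)]), (22, [([0,0,0,0,1,0,0,0,0,0,0,0,0,0,0,0], 1)]), (23, [([1,1,0,0,0,0,0,0,0,0,0,0,0,0,0,0], 1), ([0,0,0,0,0,1,0,0,0,0,0,0,0,0,0,0], 1)])]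

set_option maxRecDepth 100000 in
theorem q15_chk : wordEqChk chevD4 2 q15L q15R = true := by decide +kernel

def q16L : List (ℕ × List (List ℕ × ℤ)) :=
  [(16, [([1,0,0,0,0,0,0,0,0,0,0,0,0,0,0,0], 1)]), (21, [([0,1,0,0,0,0,0,0,0,0,0,0,0,0,0,0], 1)]), (20, [([0,0,1,0,0,0,0,0,0,0,0,0,0,0,0,0], 1)]), (17, [([0,0,0,1,0,0,0,0,0,0,0,0,0,0,0,0], 1)]), (22, [([0,0,0,0,1,0,0,0,0,0,0,0,0,0,0,0], 1)]), (23, [([0,0,0,0,0,1,0,0,0,0,0,0,0,0,0,0], 1)]), (16, [([1,0,0,0,0,0,0,0,0,0,0,0,0,0,0,0], -1)])]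

def q16R : List (ℕ × List (List ℕ × ℤ)) :=
  [(21, [([0,1,0,0,0,0,0,0,0,0,0,0,0,0,0,0], 1)]), (20, [([0,0,1,0,0,0,0,0,0,0,0,0,0,0,0,0], 1)]), (17, [([0,0,0,1,0,0,0,0,0,0,0,0,0,0,0,0], 1)]), (22, [([0,0,0,0,1,0,0,0,0,0,0,0,0,0,0,0], 1)]), (23, [([1,0,1,0,0,0,0,0,0,0,0,0,0,0,0,0], 1), ([0,0,0,0,0,1,0,0,0,0,0,0,0,0,0,0], 1)])]

set_option maxRecDepth 100000 in
theorem q16_chk : wordEqChk chevD4 2 q16L q16R = true := by decide +kernel

def q17L : List (ℕ × List (List ℕ × ℤ)) :=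
  [(17, [([1,0,0,0,0,0,0,0,0,0,0,0,0,0,0,0], 1)]), (21, [([0,1,0,0,0,0,0,0,0,0,0,0,0,0,0,0], 1)]), (20, [([0,0,1,0,0,0,0,0,0,0,0,0,0,0,0,0], 1)]), (17, [([0,0,0,1,0,0,0,0,0,0,0,0,0,0,0,0], 1)]), (22, [([0,0,0,0,1,0,0,0,0,0,0,0,0,0,0,0], 1)]), (23, [([0,0,0,0,0,1,0,0,0,0,0,0,0,0,0,0], 1)]), (17, [([1,0,0,0,0,0,0,0,0,0,0,0,0,0,0,0], -1)])]

def q17R : List (ℕ × List (List ℕ × ℤ)) :=
  [(21, [([0,1,0,0,0,0,0,0,0,0,0,0,0,0,0,0], 1)]), (20, [([0,0,1,0,0,0,0,0,0,0,0,0,0,0,0,0], 1)]), (17, [([0,0,0,1,0,0,0,0,0,0,0,0,0,0,0,0], 1)]), (22, [([0,0,0,0,1,0,0,0,0,0,0,0,0,0,0,0], 1)]), (23, [([0,0,0,0,0,1,0,0,0,0,0,0,0,0,0,0], 1)])]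

set_option maxRecDepth 100000 in
theorem q17_chk : wordEqChk chevD4 2 q17L q17R = true := by decide +kernel

def q18L : List (ℕ × List (List ℕ × ℤ)) :=
  [(18, [([1,0,0,0,0,0,0,0,0,0,0,0,0,0,0,0], 1)]), (21, [([0,1,0,0,0,0,0,0,0,0,0,0,0,0,0,0], 1)]), (20, [([0,0,1,0,0,0,0,0,0,0,0,0,0,0,0,0], 1)]), (17, [([0,0,0,1,0,0,0,0,0,0,0,0,0,0,0,0], 1)]), (22, [([0,0,0,0,1,0,0,0,0,0,0,0,0,0,0,0], 1)]), (23, [([0,0,0,0,0,1,0,0,0,0,0,0,0,0,0,0], 1)]), (18, [([1,0,0,0,0,0,0,0,0,0,0,0,0,0,0,0], -1)])]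

def q18R : List (ℕ × List (List ℕ × ℤ)) :=
  [(21, [([0,1,0,0,0,0,0,0,0,0,0,0,0,0,0,0], 1)]), (20, [([0,0,1,0,0,0,0,0,0,0,0,0,0,0,0,0], 1)]), (17, [([0,0,0,1,0,0,0,0,0,0,0,0,0,0,0,0], 1)]), (22, [([1,0,0,1,0,0,0,0,0,0,0,0,0,0,0,0], 1), ([0,0,0,0,1,0,0,0,0,0,0,0,0,0,0,0], 1)]), (23, [([0,0,0,0,0,1,0,0,0,0,0,0,0,0,0,0], 1)])]

set_option maxRecDepth 100000 in
theorem q18_chk : wordEqChk chevD4 2 q18L q18R = true := by decide +kernel

def q19L : List (ℕ × List (List ℕ × ℤ)) :=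
  [(19, [([1,0,0,0,0,0,0,0,0,0,0,0,0,0,0,0], 1)]), (21, [([0,1,0,0,0,0,0,0,0,0,0,0,0,0,0,0], 1)]), (20, [([0,0,1,0,0,0,0,0,0,0,0,0,0,0,0,0], 1)]), (17, [([0,0,0,1,0,0,0,0,0,0,0,0,0,0,0,0], 1)]), (22, [([0,0,0,0,1,0,0,0,0,0,0,0,0,0,0,0], 1)]), (23, [([0,0,0,0,0,1,0,0,0,0,0,0,0,0,0,0], 1)]), (19, [([1,0,0,0,0,0,0,0,0,0,0,0,0,0,0,0], -1)])]

def q19R : List (ℕ × List (List ℕ × ℤ)) :=
  [(21, [([0,1,0,0,0,0,0,0,0,0,0,0,0,0,0,0], 1)]), (20, [([0,0,1,0,0,0,0,0,0,0,0,0,0,0,0,0], 1)]), (17, [([0,0,0,1,0,0,0,0,0,0,0,0,0,0,0,0], 1)]), (22, [([0,0,0,0,1,0,0,0,0,0,0,0,0,0,0,0], 1)]), (23, [([1,0,0,1,0,0,0,0,0,0,0,0,0,0,0,0], 1), ([0,0,0,0,0,1,0,0,0,0,0,0,0,0,0,0], 1)])]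

set_option maxRecDepth 100000 in
theorem q19_chk : wordEqChk chevD4 2 q19L q19R = true := by decide +kernel

def q20L : List (ℕ × List (List ℕ × ℤ)) :=
  [(20, [([1,0,0,0,0,0,0,0,0,0,0,0,0,0,0,0], 1)]), (21, [([0,1,0,0,0,0,0,0,0,0,0,0,0,0,0,0], 1)]), (20, [([0,0,1,0,0,0,0,0,0,0,0,0,0,0,0,0], 1)]), (17, [([0,0,0,1,0,0,0,0,0,0,0,0,0,0,0,0], 1)]), (22, [([0,0,0,0,1,0,0,0,0,0,0,0,0,0,0,0], 1)]), (23, [([0,0,0,0,0,1,0,0,0,0,0,0,0,0,0,0], 1)]), (20, [([1,0,0,0,0,0,0,0,0,0,0,0,0,0,0,0], -1)])]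

def q20R : List (ℕ × List (List ℕ × ℤ)) :=
  [(21, [([0,1,0,0,0,0,0,0,0,0,0,0,0,0,0,0], 1)]), (20, [([0,0,1,0,0,0,0,0,0,0,0,0,0,0,0,0], 1)]), (17, [([0,0,0,1,0,0,0,0,0,0,0,0,0,0,0,0], 1)]), (22, [([0,0,0,0,1,0,0,0,0,0,0,0,0,0,0,0], 1)]), (23, [([0,0,0,0,0,1,0,0,0,0,0,0,0,0,0,0], 1)])]

set_option maxRecDepth 100000 in
theorem q20_chk : wordEqChk chevD4 2 q20L q20R = true := by decide +kernel

def q21L : List (ℕ × List (List ℕ × ℤ)) :=
  [(21, [([1,0,0,0,0,0,0,0,0,0,0,0,0,0,0,0], 1)]), (21, [([0,1,0,0,0,0,0,0,0,0,0,0,0,0,0,0], 1)]), (20, [([0,0,1,0,0,0,0,0,0,0,0,0,0,0,0,0], 1)]), (17, [([0,0,0,1,0,0,0,0,0,0,0,0,0,0,0,0], 1)]), (22, [([0,0,0,0,1,0,0,0,0,0,0,0,0,0,0,0], 1)]), (23, [([0,0,0,0,0,1,0,0,0,0,0,0,0,0,0,0], 1)]), (21, [([1,0,0,0,0,0,0,0,0,0,0,0,0,0,0,0], -1)])]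

def q21R : List (ℕ × List (List ℕ × ℤ)) :=
  [(21, [([0,1,0,0,0,0,0,0,0,0,0,0,0,0,0,0], 1)]), (20, [([0,0,1,0,0,0,0,0,0,0,0,0,0,0,0,0], 1)]), (17, [([0,0,0,1,0,0,0,0,0,0,0,0,0,0,0,0], 1)]), (22, [([0,0,0,0,1,0,0,0,0,0,0,0,0,0,0,0], 1)]), (23, [([0,0,0,0,0,1,0,0,0,0,0,0,0,0,0,0], 1)])]

set_option maxRecDepth 100000 in
theorem q21_chk : wordEqChk chevD4 2 q21L q21R = true := by decide +kernel

def q22L : List (ℕ × List (List ℕ × ℤ)) :=
  [(22, [([1,0,0,0,0,0,0,0,0,0,0,0,0,0,0,0], 1)]), (21, [([0,1,0,0,0,0,0,0,0,0,0,0,0,0,0,0], 1)]), (20, [([0,0,1,0,0,0,0,0,0,0,0,0,0,0,0,0], 1)]), (17, [([0,0,0,1,0,0,0,0,0,0,0,0,0,0,0,0], 1)]), (22, [([0,0,0,0,1,0,0,0,0,0,0,0,0,0,0,0], 1)]), (23, [([0,0,0,0,0,1,0,0,0,0,0,0,0,0,0,0], 1)]), (22, [([1,0,0,0,0,0,0,0,0,0,0,0,0,0,0,0], -1)])]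

def q22R : List (ℕ × List (List ℕ × ℤ)) :=
  [(21, [([0,1,0,0,0,0,0,0,0,0,0,0,0,0,0,0], 1)]), (20, [([0,0,1,0,0,0,0,0,0,0,0,0,0,0,0,0], 1)]), (17, [([0,0,0,1,0,0,0,0,0,0,0,0,0,0,0,0], 1)]), (22, [([0,0,0,0,1,0,0,0,0,0,0,0,0,0,0,0], 1)]), (23, [([0,0,0,0,0,1,0,0,0,0,0,0,0,0,0,0], 1)])]

set_option maxRecDepth 100000 in
theorem q22_chk : wordEqChk chevD4 2 q22L q22R = true := by decide +kernel

def q23L : List (ℕ × List (List ℕ × ℤ)) :=
  [(23, [([1,0,0,0,0,0,0,0,0,0,0,0,0,0,0,0], 1)]), (21, [([0,1,0,0,0,0,0,0,0,0,0,0,0,0,0,0], 1)]), (20, [([0,0,1,0,0,0,0,0,0,0,0,0,0,0,0,0], 1)]), (17, [([0,0,0,1,0,0,0,0,0,0,0,0,0,0,0,0], 1)]), (22, [([0,0,0,0,1,0,0,0,0,0,0,0,0,0,0,0], 1)]), (23, [([0,0,0,0,0,1,0,0,0,0,0,0,0,0,0,0], 1)]), (23, [([1,0,0,0,0,0,0,0,0,0,0,0,0,0,0,0], -1)])]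

def q23R : List (ℕ × List (List ℕ × ℤ)) :=
  [(21, [([0,1,0,0,0,0,0,0,0,0,0,0,0,0,0,0], 1)]), (20, [([0,0,1,0,0,0,0,0,0,0,0,0,0,0,0,0], 1)]), (17, [([0,0,0,1,0,0,0,0,0,0,0,0,0,0,0,0], 1)]), (22, [([0,0,0,0,1,0,0,0,0,0,0,0,0,0,0,0], 1)]), (23, [([0,0,0,0,0,1,0,0,0,0,0,0,0,0,0,0], 1)])]

set_option maxRecDepth 100000 in
theorem q23_chk : wordEqChk chevD4 2 q23L q23R = true := by decide +kernel

def r3L : List (ℕ × List (List ℕ × ℤ)) :=
  [(17, [([1,0,0], 1)]), (20, [([0,1,0], 1)]), (21, [([0,0,1], 1)])]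

def r3R : List (ℕ × List (List ℕ × ℤ)) :=
  [(21, [([0,0,1], 1)]), (20, [([0,1,0], 1)]), (17, [([1,0,0], 1)])]

set_option maxRecDepth 100000 in
theorem r3_chk : wordEqChk chevD4 2 r3L r3R = true := by decide +kernel

section
variable (K : Type*) [Field K] (φ : K ≃+* K)

/-- the elements of the subgroup generated by the root subgroups of height at least three -/
def q5W (k1 k3 k2 al be : K) : List (ℕ × K) := [(21, k1), (20, k3), (17, k2), (22, al), (23, be)]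

noncomputable def q5 (k1 k3 k2 al be : K) : GL chevD4.Idx K := wordGL chevD4 chevD4_mem K (q5W K k1 k3 k2 al be)

variable [CharP K 2]

theorem r3_id (a b c : K) :
    wordGL chevD4 chevD4_mem K [(17, a), (20, b), (21, c)] = wordGL chevD4 chevD4_mem K [(21, c), (20, b), (17, a)] := by
  have key := wordGL_eq_of_chk K (val16 K a b c 0 0 0 0 0 0 0 0 0 0 0 0 0) r3L r3R r3_chk
  have eL : evalW (val16 K a b c 0 0 0 0 0 0 0 0 0 0 0 0 0) r3L = [(17, a), (20, b), (21, c)] := by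
    apply evalW_eq
    unfold r3L
    repeat' (first | exact List.Forall₂.nil | apply List.Forall₂.cons | refine And.intro rfl ?_)
    all_goals (simp only [pEval, mEval, List.map_cons, List.map_nil, List.sum_cons, List.sum_nil, val16]; (try push_cast); (try ring))
  have eR : evalW (val16 K a b c 0 0 0 0 0 0 0 0 0 0 0 0 0) r3R = [(21, c), (20, b), (17, a)] := by
    apply evalW_eq
    unfold r3R
    repeat' (first | exact List.Forall₂.nil | apply List.Forall₂.cons | refine And.intro rfl ?_)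
    all_goals (simp only [pEval, mEval, List.map_cons, List.map_nil, List.sum_cons, List.sum_nil, val16]; (try push_cast); (try ring))
  rw [eL, eR] at key
  exact key

theorem q12_id (s k1 k3 k2 al be : K) :
    xGL chevD4 chevD4_mem K 12 s * q5 K k1 k3 k2 al be * (xGL chevD4 chevD4_mem K 12 s)⁻¹ =
      q5 K k1 k3 k2 (s * k1 + al) (be) := by
  have key := wordGL_eq_of_chk K (val16 K s k1 k3 k2 al be 0 0 0 0 0 0 0 0 0 0) q12L q12R q12_chk
  have eL : evalW (val16 K s k1 k3 k2 al be 0 0 0 0 0 0 0 0 0 0) q12L =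
      [(12, s)] ++ q5W K k1 k3 k2 al be ++ ([(12, s)].reverse.map fun e => (e.1, -e.2)) := by
    apply evalW_eq
    unfold q12L q5W
    simp only [List.cons_append, List.nil_append, List.reverse_cons, List.reverse_nil, List.map_cons, List.map_nil]
    repeat' (first | exact List.Forall₂.nil | apply List.Forall₂.cons | refine And.intro rfl ?_)
    all_goals (simp only [pEval, mEval, List.map_cons, List.map_nil, List.sum_cons, List.sum_nil, val16]; (try push_cast); (try ring))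
  have eR : evalW (val16 K s k1 k3 k2 al be 0 0 0 0 0 0 0 0 0 0) q12R = q5W K k1 k3 k2 (s * k1 + al) (be) := by
    apply evalW_eq
    unfold q12R q5W
    repeat' (first | exact List.Forall₂.nil | apply List.Forall₂.cons | refine And.intro rfl ?_)
    all_goals (simp only [pEval, mEval, List.map_cons, List.map_nil, List.sum_cons, List.sum_nil, val16]; (try push_cast); (try ring))
  rw [eL, eR] at key
  have e1 : xGL chevD4 chevD4_mem K 12 s = wordGL chevD4 chevD4_mem K [(12, s)] := by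
    rw [wordGL_cons, wordGL_nil, mul_one]
  unfold q5
  rw [e1, conj_wordW]
  exact key

theorem q13_id (s k1 k3 k2 al be : K) :
    xGL chevD4 chevD4_mem K 13 s * q5 K k1 k3 k2 al be * (xGL chevD4 chevD4_mem K 13 s)⁻¹ =
      q5 K k1 k3 k2 (s * k3 + al) (be) := by
  have key := wordGL_eq_of_chk K (val16 K s k1 k3 k2 al be 0 0 0 0 0 0 0 0 0 0) q13L q13R q13_chk
  have eL : evalW (val16 K s k1 k3 k2 al be 0 0 0 0 0 0 0 0 0 0) q13L =
      [(13, s)] ++ q5W K k1 k3 k2 al be ++ ([(13, s)].reverse.map fun e => (e.1, -e.2)) := by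
    apply evalW_eq
    unfold q13L q5W
    simp only [List.cons_append, List.nil_append, List.reverse_cons, List.reverse_nil, List.map_cons, List.map_nil]
    repeat' (first | exact List.Forall₂.nil | apply List.Forall₂.cons | refine And.intro rfl ?_)
    all_goals (simp only [pEval, mEval, List.map_cons, List.map_nil, List.sum_cons, List.sum_nil, val16]; (try push_cast); (try ring))
  have eR : evalW (val16 K s k1 k3 k2 al be 0 0 0 0 0 0 0 0 0 0) q13R = q5W K k1 k3 k2 (s * k3 + al) (be) := by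
    apply evalW_eq
    unfold q13R q5W
    repeat' (first | exact List.Forall₂.nil | apply List.Forall₂.cons | refine And.intro rfl ?_)
    all_goals (simp only [pEval, mEval, List.map_cons, List.map_nil, List.sum_cons, List.sum_nil, val16]; (try push_cast); (try ring))
  rw [eL, eR] at key
  have e1 : xGL chevD4 chevD4_mem K 13 s = wordGL chevD4 chevD4_mem K [(13, s)] := by
    rw [wordGL_cons, wordGL_nil, mul_one]
  unfold q5
  rw [e1, conj_wordW]
  exact key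

theorem q14_id (s k1 k3 k2 al be : K) :
    xGL chevD4 chevD4_mem K 14 s * q5 K k1 k3 k2 al be * (xGL chevD4 chevD4_mem K 14 s)⁻¹ =
      q5 K k1 k3 k2 (al) (s * al + be) := by
  have key := wordGL_eq_of_chk K (val16 K s k1 k3 k2 al be 0 0 0 0 0 0 0 0 0 0) q14L q14R q14_chk
  have eL : evalW (val16 K s k1 k3 k2 al be 0 0 0 0 0 0 0 0 0 0) q14L =
      [(14, s)] ++ q5W K k1 k3 k2 al be ++ ([(14, s)].reverse.map fun e => (e.1, -e.2)) := by
    apply evalW_eq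
    unfold q14L q5W
    simp only [List.cons_append, List.nil_append, List.reverse_cons, List.reverse_nil, List.map_cons, List.map_nil]
    repeat' (first | exact List.Forall₂.nil | apply List.Forall₂.cons | refine And.intro rfl ?_)
    all_goals (simp only [pEval, mEval, List.map_cons, List.map_nil, List.sum_cons, List.sum_nil, val16]; (try push_cast); (try ring))
  have eR : evalW (val16 K s k1 k3 k2 al be 0 0 0 0 0 0 0 0 0 0) q14R = q5W K k1 k3 k2 (al) (s * al + be) := by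
    apply evalW_eq
    unfold q14R q5W
    repeat' (first | exact List.Forall₂.nil | apply List.Forall₂.cons | refine And.intro rfl ?_)
    all_goals (simp only [pEval, mEval, List.map_cons, List.map_nil, List.sum_cons, List.sum_nil, val16]; (try push_cast); (try ring))
  rw [eL, eR] at key
  have e1 : xGL chevD4 chevD4_mem K 14 s = wordGL chevD4 chevD4_mem K [(14, s)] := by
    rw [wordGL_cons, wordGL_nil, mul_one]
  unfold q5
  rw [e1, conj_wordW]
  exact key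

theorem q15_id (s k1 k3 k2 al be : K) :
    xGL chevD4 chevD4_mem K 15 s * q5 K k1 k3 k2 al be * (xGL chevD4 chevD4_mem K 15 s)⁻¹ =
      q5 K k1 k3 k2 (al) (s * k1 + be) := by
  have key := wordGL_eq_of_chk K (val16 K s k1 k3 k2 al be 0 0 0 0 0 0 0 0 0 0) q15L q15R q15_chk
  have eL : evalW (val16 K s k1 k3 k2 al be 0 0 0 0 0 0 0 0 0 0) q15L =
      [(15, s)] ++ q5W K k1 k3 k2 al be ++ ([(15, s)].reverse.map fun e => (e.1, -e.2)) := by
    apply evalW_eq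
    unfold q15L q5W
    simp only [List.cons_append, List.nil_append, List.reverse_cons, List.reverse_nil, List.map_cons, List.map_nil]
    repeat' (first | exact List.Forall₂.nil | apply List.Forall₂.cons | refine And.intro rfl ?_)
    all_goals (simp only [pEval, mEval, List.map_cons, List.map_nil, List.sum_cons, List.sum_nil, val16]; (try push_cast); (try ring))
  have eR : evalW (val16 K s k1 k3 k2 al be 0 0 0 0 0 0 0 0 0 0) q15R = q5W K k1 k3 k2 (al) (s * k1 + be) := by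
    apply evalW_eq
    unfold q15R q5W
    repeat' (first | exact List.Forall₂.nil | apply List.Forall₂.cons | refine And.intro rfl ?_)
    all_goals (simp only [pEval, mEval, List.map_cons, List.map_nil, List.sum_cons, List.sum_nil, val16]; (try push_cast); (try ring))
  rw [eL, eR] at key
  have e1 : xGL chevD4 chevD4_mem K 15 s = wordGL chevD4 chevD4_mem K [(15, s)] := by
    rw [wordGL_cons, wordGL_nil, mul_one]
  unfold q5
  rw [e1, conj_wordW]
  exact key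

theorem q16_id (s k1 k3 k2 al be : K) :
    xGL chevD4 chevD4_mem K 16 s * q5 K k1 k3 k2 al be * (xGL chevD4 chevD4_mem K 16 s)⁻¹ =
      q5 K k1 k3 k2 (al) (s * k3 + be) := by
  have key := wordGL_eq_of_chk K (val16 K s k1 k3 k2 al be 0 0 0 0 0 0 0 0 0 0) q16L q16R q16_chk
  have eL : evalW (val16 K s k1 k3 k2 al be 0 0 0 0 0 0 0 0 0 0) q16L =
      [(16, s)] ++ q5W K k1 k3 k2 al be ++ ([(16, s)].reverse.map fun e => (e.1, -e.2)) := by
    apply evalW_eq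
    unfold q16L q5W
    simp only [List.cons_append, List.nil_append, List.reverse_cons, List.reverse_nil, List.map_cons, List.map_nil]
    repeat' (first | exact List.Forall₂.nil | apply List.Forall₂.cons | refine And.intro rfl ?_)
    all_goals (simp only [pEval, mEval, List.map_cons, List.map_nil, List.sum_cons, List.sum_nil, val16]; (try push_cast); (try ring))
  have eR : evalW (val16 K s k1 k3 k2 al be 0 0 0 0 0 0 0 0 0 0) q16R = q5W K k1 k3 k2 (al) (s * k3 + be) := by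
    apply evalW_eq
    unfold q16R q5W
    repeat' (first | exact List.Forall₂.nil | apply List.Forall₂.cons | refine And.intro rfl ?_)
    all_goals (simp only [pEval, mEval, List.map_cons, List.map_nil, List.sum_cons, List.sum_nil, val16]; (try push_cast); (try ring))
  rw [eL, eR] at key
  have e1 : xGL chevD4 chevD4_mem K 16 s = wordGL chevD4 chevD4_mem K [(16, s)] := by
    rw [wordGL_cons, wordGL_nil, mul_one]
  unfold q5
  rw [e1, conj_wordW]
  exact key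

theorem q17_id (s k1 k3 k2 al be : K) :
    xGL chevD4 chevD4_mem K 17 s * q5 K k1 k3 k2 al be * (xGL chevD4 chevD4_mem K 17 s)⁻¹ =
      q5 K k1 k3 k2 (al) (be) := by
  have key := wordGL_eq_of_chk K (val16 K s k1 k3 k2 al be 0 0 0 0 0 0 0 0 0 0) q17L q17R q17_chk
  have eL : evalW (val16 K s k1 k3 k2 al be 0 0 0 0 0 0 0 0 0 0) q17L =
      [(17, s)] ++ q5W K k1 k3 k2 al be ++ ([(17, s)].reverse.map fun e => (e.1, -e.2)) := by
    apply evalW_eq
    unfold q17L q5W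
    simp only [List.cons_append, List.nil_append, List.reverse_cons, List.reverse_nil, List.map_cons, List.map_nil]
    repeat' (first | exact List.Forall₂.nil | apply List.Forall₂.cons | refine And.intro rfl ?_)
    all_goals (simp only [pEval, mEval, List.map_cons, List.map_nil, List.sum_cons, List.sum_nil, val16]; (try push_cast); (try ring))
  have eR : evalW (val16 K s k1 k3 k2 al be 0 0 0 0 0 0 0 0 0 0) q17R = q5W K k1 k3 k2 (al) (be) := by
    apply evalW_eq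
    unfold q17R q5W
    repeat' (first | exact List.Forall₂.nil | apply List.Forall₂.cons | refine And.intro rfl ?_)
    all_goals (simp only [pEval, mEval, List.map_cons, List.map_nil, List.sum_cons, List.sum_nil, val16]; (try push_cast); (try ring))
  rw [eL, eR] at key
  have e1 : xGL chevD4 chevD4_mem K 17 s = wordGL chevD4 chevD4_mem K [(17, s)] := by
    rw [wordGL_cons, wordGL_nil, mul_one]
  unfold q5
  rw [e1, conj_wordW]
  exact key

theorem q18_id (s k1 k3 k2 al be : K) :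
    xGL chevD4 chevD4_mem K 18 s * q5 K k1 k3 k2 al be * (xGL chevD4 chevD4_mem K 18 s)⁻¹ =
      q5 K k1 k3 k2 (s * k2 + al) (be) := by
  have key := wordGL_eq_of_chk K (val16 K s k1 k3 k2 al be 0 0 0 0 0 0 0 0 0 0) q18L q18R q18_chk
  have eL : evalW (val16 K s k1 k3 k2 al be 0 0 0 0 0 0 0 0 0 0) q18L =
      [(18, s)] ++ q5W K k1 k3 k2 al be ++ ([(18, s)].reverse.map fun e => (e.1, -e.2)) := by
    apply evalW_eq
    unfold q18L q5W
    simp only [List.cons_append, List.nil_append, List.reverse_cons, List.reverse_nil, List.map_cons, List.map_nil]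
    repeat' (first | exact List.Forall₂.nil | apply List.Forall₂.cons | refine And.intro rfl ?_)
    all_goals (simp only [pEval, mEval, List.map_cons, List.map_nil, List.sum_cons, List.sum_nil, val16]; (try push_cast); (try ring))
  have eR : evalW (val16 K s k1 k3 k2 al be 0 0 0 0 0 0 0 0 0 0) q18R = q5W K k1 k3 k2 (s * k2 + al) (be) := by
    apply evalW_eq
    unfold q18R q5W
    repeat' (first | exact List.Forall₂.nil | apply List.Forall₂.cons | refine And.intro rfl ?_)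
    all_goals (simp only [pEval, mEval, List.map_cons, List.map_nil, List.sum_cons, List.sum_nil, val16]; (try push_cast); (try ring))
  rw [eL, eR] at key
  have e1 : xGL chevD4 chevD4_mem K 18 s = wordGL chevD4 chevD4_mem K [(18, s)] := by
    rw [wordGL_cons, wordGL_nil, mul_one]
  unfold q5
  rw [e1, conj_wordW]
  exact key

theorem q19_id (s k1 k3 k2 al be : K) :
    xGL chevD4 chevD4_mem K 19 s * q5 K k1 k3 k2 al be * (xGL chevD4 chevD4_mem K 19 s)⁻¹ =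
      q5 K k1 k3 k2 (al) (s * k2 + be) := by
  have key := wordGL_eq_of_chk K (val16 K s k1 k3 k2 al be 0 0 0 0 0 0 0 0 0 0) q19L q19R q19_chk
  have eL : evalW (val16 K s k1 k3 k2 al be 0 0 0 0 0 0 0 0 0 0) q19L =
      [(19, s)] ++ q5W K k1 k3 k2 al be ++ ([(19, s)].reverse.map fun e => (e.1, -e.2)) := by
    apply evalW_eq
    unfold q19L q5W
    simp only [List.cons_append, List.nil_append, List.reverse_cons, List.reverse_nil, List.map_cons, List.map_nil]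
    repeat' (first | exact List.Forall₂.nil | apply List.Forall₂.cons | refine And.intro rfl ?_)
    all_goals (simp only [pEval, mEval, List.map_cons, List.map_nil, List.sum_cons, List.sum_nil, val16]; (try push_cast); (try ring))
  have eR : evalW (val16 K s k1 k3 k2 al be 0 0 0 0 0 0 0 0 0 0) q19R = q5W K k1 k3 k2 (al) (s * k2 + be) := by
    apply evalW_eq
    unfold q19R q5W
    repeat' (first | exact List.Forall₂.nil | apply List.Forall₂.cons | refine And.intro rfl ?_)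
    all_goals (simp only [pEval, mEval, List.map_cons, List.map_nil, List.sum_cons, List.sum_nil, val16]; (try push_cast); (try ring))
  rw [eL, eR] at key
  have e1 : xGL chevD4 chevD4_mem K 19 s = wordGL chevD4 chevD4_mem K [(19, s)] := by
    rw [wordGL_cons, wordGL_nil, mul_one]
  unfold q5
  rw [e1, conj_wordW]
  exact key

theorem q20_id (s k1 k3 k2 al be : K) :
    xGL chevD4 chevD4_mem K 20 s * q5 K k1 k3 k2 al be * (xGL chevD4 chevD4_mem K 20 s)⁻¹ =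
      q5 K k1 k3 k2 (al) (be) := by
  have key := wordGL_eq_of_chk K (val16 K s k1 k3 k2 al be 0 0 0 0 0 0 0 0 0 0) q20L q20R q20_chk
  have eL : evalW (val16 K s k1 k3 k2 al be 0 0 0 0 0 0 0 0 0 0) q20L =
      [(20, s)] ++ q5W K k1 k3 k2 al be ++ ([(20, s)].reverse.map fun e => (e.1, -e.2)) := by
    apply evalW_eq
    unfold q20L q5W
    simp only [List.cons_append, List.nil_append, List.reverse_cons, List.reverse_nil, List.map_cons, List.map_nil]
    repeat' (first | exact List.Forall₂.nil | apply List.Forall₂.cons | refine And.intro rfl ?_)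
    all_goals (simp only [pEval, mEval, List.map_cons, List.map_nil, List.sum_cons, List.sum_nil, val16]; (try push_cast); (try ring))
  have eR : evalW (val16 K s k1 k3 k2 al be 0 0 0 0 0 0 0 0 0 0) q20R = q5W K k1 k3 k2 (al) (be) := by
    apply evalW_eq
    unfold q20R q5W
    repeat' (first | exact List.Forall₂.nil | apply List.Forall₂.cons | refine And.intro rfl ?_)
    all_goals (simp only [pEval, mEval, List.map_cons, List.map_nil, List.sum_cons, List.sum_nil, val16]; (try push_cast); (try ring))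
  rw [eL, eR] at key
  have e1 : xGL chevD4 chevD4_mem K 20 s = wordGL chevD4 chevD4_mem K [(20, s)] := by
    rw [wordGL_cons, wordGL_nil, mul_one]
  unfold q5
  rw [e1, conj_wordW]
  exact key

theorem q21_id (s k1 k3 k2 al be : K) :
    xGL chevD4 chevD4_mem K 21 s * q5 K k1 k3 k2 al be * (xGL chevD4 chevD4_mem K 21 s)⁻¹ =
      q5 K k1 k3 k2 (al) (be) := by
  have key := wordGL_eq_of_chk K (val16 K s k1 k3 k2 al be 0 0 0 0 0 0 0 0 0 0) q21L q21R q21_chk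
  have eL : evalW (val16 K s k1 k3 k2 al be 0 0 0 0 0 0 0 0 0 0) q21L =
      [(21, s)] ++ q5W K k1 k3 k2 al be ++ ([(21, s)].reverse.map fun e => (e.1, -e.2)) := by
    apply evalW_eq
    unfold q21L q5W
    simp only [List.cons_append, List.nil_append, List.reverse_cons, List.reverse_nil, List.map_cons, List.map_nil]
    repeat' (first | exact List.Forall₂.nil | apply List.Forall₂.cons | refine And.intro rfl ?_)
    all_goals (simp only [pEval, mEval, List.map_cons, List.map_nil, List.sum_cons, List.sum_nil, val16]; (try push_cast); (try ring))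
  have eR : evalW (val16 K s k1 k3 k2 al be 0 0 0 0 0 0 0 0 0 0) q21R = q5W K k1 k3 k2 (al) (be) := by
    apply evalW_eq
    unfold q21R q5W
    repeat' (first | exact List.Forall₂.nil | apply List.Forall₂.cons | refine And.intro rfl ?_)
    all_goals (simp only [pEval, mEval, List.map_cons, List.map_nil, List.sum_cons, List.sum_nil, val16]; (try push_cast); (try ring))
  rw [eL, eR] at key
  have e1 : xGL chevD4 chevD4_mem K 21 s = wordGL chevD4 chevD4_mem K [(21, s)] := by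
    rw [wordGL_cons, wordGL_nil, mul_one]
  unfold q5
  rw [e1, conj_wordW]
  exact key

theorem q22_id (s k1 k3 k2 al be : K) :
    xGL chevD4 chevD4_mem K 22 s * q5 K k1 k3 k2 al be * (xGL chevD4 chevD4_mem K 22 s)⁻¹ =
      q5 K k1 k3 k2 (al) (be) := by
  have key := wordGL_eq_of_chk K (val16 K s k1 k3 k2 al be 0 0 0 0 0 0 0 0 0 0) q22L q22R q22_chk
  have eL : evalW (val16 K s k1 k3 k2 al be 0 0 0 0 0 0 0 0 0 0) q22L =
      [(22, s)] ++ q5W K k1 k3 k2 al be ++ ([(22, s)].reverse.map fun e => (e.1, -e.2)) := by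
    apply evalW_eq
    unfold q22L q5W
    simp only [List.cons_append, List.nil_append, List.reverse_cons, List.reverse_nil, List.map_cons, List.map_nil]
    repeat' (first | exact List.Forall₂.nil | apply List.Forall₂.cons | refine And.intro rfl ?_)
    all_goals (simp only [pEval, mEval, List.map_cons, List.map_nil, List.sum_cons, List.sum_nil, val16]; (try push_cast); (try ring))
  have eR : evalW (val16 K s k1 k3 k2 al be 0 0 0 0 0 0 0 0 0 0) q22R = q5W K k1 k3 k2 (al) (be) := by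
    apply evalW_eq
    unfold q22R q5W
    repeat' (first | exact List.Forall₂.nil | apply List.Forall₂.cons | refine And.intro rfl ?_)
    all_goals (simp only [pEval, mEval, List.map_cons, List.map_nil, List.sum_cons, List.sum_nil, val16]; (try push_cast); (try ring))
  rw [eL, eR] at key
  have e1 : xGL chevD4 chevD4_mem K 22 s = wordGL chevD4 chevD4_mem K [(22, s)] := by
    rw [wordGL_cons, wordGL_nil, mul_one]
  unfold q5
  rw [e1, conj_wordW]
  exact key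

theorem q23_id (s k1 k3 k2 al be : K) :
    xGL chevD4 chevD4_mem K 23 s * q5 K k1 k3 k2 al be * (xGL chevD4 chevD4_mem K 23 s)⁻¹ =
      q5 K k1 k3 k2 (al) (be) := by
  have key := wordGL_eq_of_chk K (val16 K s k1 k3 k2 al be 0 0 0 0 0 0 0 0 0 0) q23L q23R q23_chk
  have eL : evalW (val16 K s k1 k3 k2 al be 0 0 0 0 0 0 0 0 0 0) q23L =
      [(23, s)] ++ q5W K k1 k3 k2 al be ++ ([(23, s)].reverse.map fun e => (e.1, -e.2)) := by
    apply evalW_eq
    unfold q23L q5W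
    simp only [List.cons_append, List.nil_append, List.reverse_cons, List.reverse_nil, List.map_cons, List.map_nil]
    repeat' (first | exact List.Forall₂.nil | apply List.Forall₂.cons | refine And.intro rfl ?_)
    all_goals (simp only [pEval, mEval, List.map_cons, List.map_nil, List.sum_cons, List.sum_nil, val16]; (try push_cast); (try ring))
  have eR : evalW (val16 K s k1 k3 k2 al be 0 0 0 0 0 0 0 0 0 0) q23R = q5W K k1 k3 k2 (al) (be) := by
    apply evalW_eq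
    unfold q23R q5W
    repeat' (first | exact List.Forall₂.nil | apply List.Forall₂.cons | refine And.intro rfl ?_)
    all_goals (simp only [pEval, mEval, List.map_cons, List.map_nil, List.sum_cons, List.sum_nil, val16]; (try push_cast); (try ring))
  rw [eL, eR] at key
  have e1 : xGL chevD4 chevD4_mem K 23 s = wordGL chevD4 chevD4_mem K [(23, s)] := by
    rw [wordGL_cons, wordGL_nil, mul_one]
  unfold q5
  rw [e1, conj_wordW]
  exact key

end

end Cfsg.Agent.Lib.Helper7.D4Inv
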