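import Cfsg.Agent.Lib.Helper7.D4InvDefs

/-! Weyl group conjugation identities in `D₄`, characteristic two, part 1 (helper7). -/

set_option autoImplicit false

namespace Cfsg.Agent.Lib.Helper7.D4Inv

open Cfsg Cfsg.Lie Matrix
open Cfsg.Agent.Lib.Helper7 Cfsg.Agent.Lib.Helper7.MV

def w1L : List (ℕ × List (List ℕ × ℤ)) :=
  [(19, []), (16, []), (15, []), (9, []), (18, [([0,0,0,1,0,0,0,0,0,0,0,0,0,0,0,0], 1)]), (13, [([0,0,0,0,1,0,0,0,0,0,0,0,0,0,0,0], 1)]), (12, [([0,0,0,0,0,1,0,0,0,0,0,0,0,0,0,0], 1)]), (21, [([0,0,0,0,0,0,1,0,0,0,0,0,0,0,0,0], 1)]), (20, [([0,0,0,0,0,0,0,0,1,0,0,0,0,0,0,0], 1)]), (17, [([0,0,0,0,0,0,0,1,0,0,0,0,0,0,0,0], 1)]), (23, [([0,0,0,0,0,0,0,0,0,0,0,0,0,1,0,0], 1)]), (22, [([0,0,0,0,0,0,0,0,0,0,0,0,0,0,1,0], 1)])]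

def w1R : List (ℕ × List (List ℕ × ℤ)) :=
  [(18, [([0,0,0,1,0,0,0,0,0,0,0,0,0,0,0,0], 1)]), (13, [([0,0,0,0,1,0,0,0,0,0,0,0,0,0,0,0], 1)]), (12, [([0,0,0,0,0,1,0,0,0,0,0,0,0,0,0,0], 1)]), (14, []), (19, []), (16, []), (15, []), (21, [([0,0,0,0,0,0,1,0,0,0,0,0,0,0,0,0], 1)]), (20, [([0,0,0,0,0,0,0,0,1,0,0,0,0,0,0,0], 1)]), (17, [([0,0,0,0,0,0,0,1,0,0,0,0,0,0,0,0], 1)]), (22, [([0,0,0,0,0,0,0,0,0,0,0,0,0,0,1,0], 1)]), (23, [([0,0,0,0,0,0,0,0,0,0,0,0,0,1,0,0], 1)])]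

set_option maxRecDepth 100000 in
theorem w1_chk : wordEqChk chevD4 2 w1L w1R = true := by decide +kernel

set_option maxRecDepth 100000 in
theorem w1_refl : [18, 13, 12, 14, 19, 16, 15, 21, 20, 17, 22, 23].map (reflWord chevD4 [1]) = [19, 16, 15, 9, 18, 13, 12, 21, 20, 17, 23, 22] := by decide +kernel

def w2L : List (ℕ × List (List ℕ × ℤ)) :=
  [(4, []), (7, []), (8, []), (23, [([0,0,0,0,0,0,0,0,0,0,0,0,1,0,0,0], 1)]), (17, []), (20, []), (21, []), (12, [([0,0,0,0,0,0,1,0,0,0,0,0,0,0,0,0], 1)]), (13, [([0,0,0,0,0,0,0,0,1,0,0,0,0,0,0,0], 1)]), (18, [([0,0,0,0,0,0,0,1,0,0,0,0,0,0,0,0], 1)]), (9, []), (22, [])]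

def w2R : List (ℕ × List (List ℕ × ℤ)) :=
  [(18, [([0,0,0,0,0,0,0,1,0,0,0,0,0,0,0,0], 1)]), (13, [([0,0,0,0,0,0,0,0,1,0,0,0,0,0,0,0], 1)]), (12, [([0,0,0,0,0,0,1,0,0,0,0,0,0,0,0,0], 1)]), (14, []), (19, []), (16, []), (15, []), (21, []), (20, []), (17, []), (22, []), (23, [([0,0,0,0,0,0,0,0,0,0,0,0,1,0,0,0], 1)])]

set_option maxRecDepth 100000 in
theorem w2_chk : wordEqChk chevD4 2 w2L w2R = true := by decide +kernel

set_option maxRecDepth 100000 in
theorem w2_refl : [18, 13, 12, 14, 19, 16, 15, 21, 20, 17, 22, 23].map (reflWord chevD4 [1, 0, 2, 3]) = [4, 7, 8, 23, 17, 20, 21, 12, 13, 18, 9, 22] := by decide +kernel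

section
variable (K : Type*) [Field K] (φ : K ≃+* K)

variable [CharP K 2]

variable (hφ3 : ∀ a : K, φ (φ (φ a)) = a)
include hφ3

theorem w1_id (v w y z : K) (hy : φ y = y) (hz : φ z = z) :
    wordGL chevD4 chevD4_mem K ((nfW K φ (0) (0) (v) (w) (y) (z)).map fun e => (reflWord chevD4 [1] e.1, e.2)) =
      nf K φ (v) (0) (0) (w) (z) (y) := by
  have key := wordGL_eq_of_chk K (val16 K 0 0 0 (v) (φ v) (φ (φ v)) (w) (φ w) (φ (φ w)) 0 0 0 0 (y) (z) 0) w1L w1R w1_chk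
  have hr := w1_refl
  simp only [List.map_cons, List.map_nil, List.cons.injEq, and_true] at hr
  obtain ⟨r0, r1, r2, r3, r4, r5, r6, r7, r8, r9, r10, r11⟩ := hr
  have eL : evalW (val16 K 0 0 0 (v) (φ v) (φ (φ v)) (w) (φ w) (φ (φ w)) 0 0 0 0 (y) (z) 0) w1L =
      ((nfW K φ (0) (0) (v) (w) (y) (z)).map fun e => (reflWord chevD4 [1] e.1, e.2)) := by
    apply evalW_eq
    unfold w1L nfW
    simp only [List.map_cons, List.map_nil, r0, r1, r2, r3, r4, r5, r6, r7, r8, r9, r10, r11]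
    repeat' (first | exact List.Forall₂.nil | apply List.Forall₂.cons | refine And.intro rfl ?_)
    all_goals (simp only [pEval, mEval, List.map_cons, List.map_nil, List.sum_cons, List.sum_nil, val16]; (try simp only [map_add, map_mul, map_pow, map_zero, hφ3, hy, hz]); (try push_cast); (try ring))
  have eR : evalW (val16 K 0 0 0 (v) (φ v) (φ (φ v)) (w) (φ w) (φ (φ w)) 0 0 0 0 (y) (z) 0) w1R = nfW K φ (v) (0) (0) (w) (z) (y) := by
    apply evalW_eq
    unfold w1R nfW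
    repeat' (first | exact List.Forall₂.nil | apply List.Forall₂.cons | refine And.intro rfl ?_)
    all_goals (simp only [pEval, mEval, List.map_cons, List.map_nil, List.sum_cons, List.sum_nil, val16]; (try simp only [map_add, map_mul, map_pow, map_zero, hφ3, hy, hz]); (try push_cast); (try ring))
  rw [eL, eR] at key
  unfold nf
  exact key

theorem w2_id (w u : K) (hu : φ u = u) :
    wordGL chevD4 chevD4_mem K ((nfW K φ (0) (u) (0) (w) (0) (0)).map fun e => (reflWord chevD4 [1, 0, 2, 3] e.1, e.2)) =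
      nf K φ (φ w) (0) (0) (0) (0) (u) := by
  have key := wordGL_eq_of_chk K (val16 K 0 0 0 0 0 0 (w) (φ w) (φ (φ w)) 0 0 0 (u) 0 0 0) w2L w2R w2_chk
  have hr := w2_refl
  simp only [List.map_cons, List.map_nil, List.cons.injEq, and_true] at hr
  obtain ⟨r0, r1, r2, r3, r4, r5, r6, r7, r8, r9, r10, r11⟩ := hr
  have eL : evalW (val16 K 0 0 0 0 0 0 (w) (φ w) (φ (φ w)) 0 0 0 (u) 0 0 0) w2L =
      ((nfW K φ (0) (u) (0) (w) (0) (0)).map fun e => (reflWord chevD4 [1, 0, 2, 3] e.1, e.2)) := by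
    apply evalW_eq
    unfold w2L nfW
    simp only [List.map_cons, List.map_nil, r0, r1, r2, r3, r4, r5, r6, r7, r8, r9, r10, r11]
    repeat' (first | exact List.Forall₂.nil | apply List.Forall₂.cons | refine And.intro rfl ?_)
    all_goals (simp only [pEval, mEval, List.map_cons, List.map_nil, List.sum_cons, List.sum_nil, val16]; (try simp only [map_add, map_mul, map_pow, map_zero, hφ3, hu]); (try push_cast); (try ring))
  have eR : evalW (val16 K 0 0 0 0 0 0 (w) (φ w) (φ (φ w)) 0 0 0 (u) 0 0 0) w2R = nfW K φ (φ w) (0) (0) (0) (0) (u) := by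
    apply evalW_eq
    unfold w2R nfW
    repeat' (first | exact List.Forall₂.nil | apply List.Forall₂.cons | refine And.intro rfl ?_)
    all_goals (simp only [pEval, mEval, List.map_cons, List.map_nil, List.sum_cons, List.sum_nil, val16]; (try simp only [map_add, map_mul, map_pow, map_zero, hφ3, hu]); (try push_cast); (try ring))
  rw [eL, eR] at key
  unfold nf
  exact key

end

end Cfsg.Agent.Lib.Helper7.D4Inv
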