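import Cfsg.Agent.Lib.Helper7.D4InvDefs

/-! Weyl group conjugation identities in `D₄`, characteristic two, part 2 (helper7). -/

set_option autoImplicit false

namespace Cfsg.Agent.Lib.Helper7.D4Inv

open Cfsg Cfsg.Lie Matrix
open Cfsg.Agent.Lib.Helper7 Cfsg.Agent.Lib.Helper7.MV

def w3L : List (ℕ × List (List ℕ × ℤ)) :=
  [(19, []), (16, []), (15, []), (9, []), (18, []), (13, []), (12, []), (21, []), (20, []), (17, []), (23, [([0,0,0,0,0,0,0,0,0,0,0,0,0,1,0,0], 1)]), (22, [])]

def w3R : List (ℕ × List (List ℕ × ℤ)) :=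
  [(18, []), (13, []), (12, []), (14, []), (19, []), (16, []), (15, []), (21, []), (20, []), (17, []), (22, []), (23, [([0,0,0,0,0,0,0,0,0,0,0,0,0,1,0,0], 1)])]

set_option maxRecDepth 100000 in
theorem w3_chk : wordEqChk chevD4 2 w3L w3R = true := by decide +kernel

set_option maxRecDepth 100000 in
theorem w3_refl : [18, 13, 12, 14, 19, 16, 15, 21, 20, 17, 22, 23].map (reflWord chevD4 [1]) = [19, 16, 15, 9, 18, 13, 12, 21, 20, 17, 23, 22] := by decide +kernel

def w4L : List (ℕ × List (List ℕ × ℤ)) :=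
  [(17, [([1,0,0,0,0,0,0,0,0,0,0,0,0,0,0,0], 1)]), (20, [([0,1,0,0,0,0,0,0,0,0,0,0,0,0,0,0], 1)]), (21, [([0,0,1,0,0,0,0,0,0,0,0,0,0,0,0,0], 1)]), (1, []), (5, []), (10, []), (11, []), (15, []), (16, []), (19, []), (23, []), (14, [])]

def w4R : List (ℕ × List (List ℕ × ℤ)) :=
  [(18, []), (13, []), (12, []), (14, []), (19, []), (16, []), (15, []), (21, [([0,0,1,0,0,0,0,0,0,0,0,0,0,0,0,0], 1)]), (20, [([0,1,0,0,0,0,0,0,0,0,0,0,0,0,0,0], 1)]), (17, [([1,0,0,0,0,0,0,0,0,0,0,0,0,0,0,0], 1)]), (22, []), (23, [])]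

set_option maxRecDepth 100000 in
theorem w4_chk : wordEqChk chevD4 2 w4L w4R = true := by decide +kernel

set_option maxRecDepth 100000 in
theorem w4_refl : [18, 13, 12, 14, 19, 16, 15, 21, 20, 17, 22, 23].map (reflWord chevD4 [0, 2, 3, 1]) = [17, 20, 21, 1, 5, 10, 11, 15, 16, 19, 23, 14] := by decide +kernel

section
variable (K : Type*) [Field K] (φ : K ≃+* K)

variable [CharP K 2]

variable (hφ3 : ∀ a : K, φ (φ (φ a)) = a)
include hφ3

theorem w3_id (y : K) (hy : φ y = y) :
    wordGL chevD4 chevD4_mem K ((nfW K φ (0) (0) (0) (0) (y) (0)).map fun e => (reflWord chevD4 [1] e.1, e.2)) =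
      nf K φ (0) (0) (0) (0) (0) (y) := by
  have key := wordGL_eq_of_chk K (val16 K 0 0 0 0 0 0 0 0 0 0 0 0 0 (y) 0 0) w3L w3R w3_chk
  have hr := w3_refl
  simp only [List.map_cons, List.map_nil, List.cons.injEq, and_true] at hr
  obtain ⟨r0, r1, r2, r3, r4, r5, r6, r7, r8, r9, r10, r11⟩ := hr
  have eL : evalW (val16 K 0 0 0 0 0 0 0 0 0 0 0 0 0 (y) 0 0) w3L =
      ((nfW K φ (0) (0) (0) (0) (y) (0)).map fun e => (reflWord chevD4 [1] e.1, e.2)) := by
    apply evalW_eq
    unfold w3L nfW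
    simp only [List.map_cons, List.map_nil, r0, r1, r2, r3, r4, r5, r6, r7, r8, r9, r10, r11]
    repeat' (first | exact List.Forall₂.nil | apply List.Forall₂.cons | refine And.intro rfl ?_)
    all_goals (simp only [pEval, mEval, List.map_cons, List.map_nil, List.sum_cons, List.sum_nil, val16]; (try simp only [map_add, map_mul, map_pow, map_zero, hφ3, hy]); (try push_cast); (try ring))
  have eR : evalW (val16 K 0 0 0 0 0 0 0 0 0 0 0 0 0 (y) 0 0) w3R = nfW K φ (0) (0) (0) (0) (0) (y) := by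
    apply evalW_eq
    unfold w3R nfW
    repeat' (first | exact List.Forall₂.nil | apply List.Forall₂.cons | refine And.intro rfl ?_)
    all_goals (simp only [pEval, mEval, List.map_cons, List.map_nil, List.sum_cons, List.sum_nil, val16]; (try simp only [map_add, map_mul, map_pow, map_zero, hφ3, hy]); (try push_cast); (try ring))
  rw [eL, eR] at key
  unfold nf
  exact key

theorem w4_id (t : K)  :
    wordGL chevD4 chevD4_mem K ((nfW K φ (t) (0) (0) (0) (0) (0)).map fun e => (reflWord chevD4 [0, 2, 3, 1] e.1, e.2)) =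
      nf K φ (0) (0) (0) (φ (φ t)) (0) (0) := by
  have key := wordGL_eq_of_chk K (val16 K (t) (φ t) (φ (φ t)) 0 0 0 0 0 0 0 0 0 0 0 0 0) w4L w4R w4_chk
  have hr := w4_refl
  simp only [List.map_cons, List.map_nil, List.cons.injEq, and_true] at hr
  obtain ⟨r0, r1, r2, r3, r4, r5, r6, r7, r8, r9, r10, r11⟩ := hr
  have eL : evalW (val16 K (t) (φ t) (φ (φ t)) 0 0 0 0 0 0 0 0 0 0 0 0 0) w4L =
      ((nfW K φ (t) (0) (0) (0) (0) (0)).map fun e => (reflWord chevD4 [0, 2, 3, 1] e.1, e.2)) := by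
    apply evalW_eq
    unfold w4L nfW
    simp only [List.map_cons, List.map_nil, r0, r1, r2, r3, r4, r5, r6, r7, r8, r9, r10, r11]
    repeat' (first | exact List.Forall₂.nil | apply List.Forall₂.cons | refine And.intro rfl ?_)
    all_goals (simp only [pEval, mEval, List.map_cons, List.map_nil, List.sum_cons, List.sum_nil, val16]; (try simp only [map_add, map_mul, map_pow, map_zero, hφ3]); (try push_cast); (try ring))
  have eR : evalW (val16 K (t) (φ t) (φ (φ t)) 0 0 0 0 0 0 0 0 0 0 0 0 0) w4R = nfW K φ (0) (0) (0) (φ (φ t)) (0) (0) := by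
    apply evalW_eq
    unfold w4R nfW
    repeat' (first | exact List.Forall₂.nil | apply List.Forall₂.cons | refine And.intro rfl ?_)
    all_goals (simp only [pEval, mEval, List.map_cons, List.map_nil, List.sum_cons, List.sum_nil, val16]; (try simp only [map_add, map_mul, map_pow, map_zero, hφ3]); (try push_cast); (try ring))
  rw [eL, eR] at key
  unfold nf
  exact key

end

end Cfsg.Agent.Lib.Helper7.D4Inv
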