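import Cfsg.Agent.Lib.Helper7.D4InvId
import Cfsg.Agent.Lib.Helper7.D4InvIdW1
import Cfsg.Agent.Lib.Helper7.D4InvIdW2
import Cfsg.Agent.Lib.Helper7.D4InvIdW3
import Cfsg.Agent.Lib.Helper7.D4InvIdQ

/-! Weyl group conjugation identities and conjugation of the height three subgroup in `D₄`, characteristic
two (helper7): collects the parts. -/
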