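import Cfsg.Agent.Lib.Helper7.D4InvDefs

/-! Word identities in `U¹` of `³D₄(q)`, characteristic two: squares (helper7). -/

set_option autoImplicit false

namespace Cfsg.Agent.Lib.Helper7.D4Inv

open Cfsg Cfsg.Lie Matrix
open Cfsg.Agent.Lib.Helper7 Cfsg.Agent.Lib.Helper7.MV

def sqL : List (ℕ × List (List ℕ × ℤ)) :=
  [(18, [([1,0,0,0,0,0,0,0,0,0,0,0,0,0,0,0], 1)]), (13, [([0,1,0,0,0,0,0,0,0,0,0,0,0,0,0,0], 1)]), (12, [([0,0,1,0,0,0,0,0,0,0,0,0,0,0,0,0], 1)]), (14, [([0,0,0,0,0,0,0,0,0,0,0,0,1,0,0,0], 1)]), (19, [([0,0,0,1,0,0,0,0,0,0,0,0,0,0,0,0], 1)]), (16, [([0,0,0,0,1,0,0,0,0,0,0,0,0,0,0,0], 1)]), (15, [([0,0,0,0,0,1,0,0,0,0,0,0,0,0,0,0], 1)]), (21, [([0,0,0,0,0,0,1,0,0,0,0,0,0,0,0,0], 1)]), (20, [([0,0,0,0,0,0,0,0,1,0,0,0,0,0,0,0], 1)]), (17, [([0,0,0,0,0,0,0,1,0,0,0,0,0,0,0,0], 1)]), (22, [([0,0,0,0,0,0,0,0,0,0,0,0,0,1,0,0],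 1)]), (23, [([0,0,0,0,0,0,0,0,0,0,0,0,0,0,1,0], 1)]), (18, [([1,0,0,0,0,0,0,0,0,0,0,0,0,0,0,0], 1)]), (13, [([0,1,0,0,0,0,0,0,0,0,0,0,0,0,0,0], 1)]), (12, [([0,0,1,0,0,0,0,0,0,0,0,0,0,0,0,0], 1)]), (14, [([0,0,0,0,0,0,0,0,0,0,0,0,1,0,0,0], 1)]), (19, [([0,0,0,1,0,0,0,0,0,0,0,0,0,0,0,0], 1)]), (16, [([0,0,0,0,1,0,0,0,0,0,0,0,0,0,0,0], 1)]), (15, [([0,0,0,0,0,1,0,0,0,0,0,0,0,0,0,0], 1)]), (21, [([0,0,0,0,0,0,1,0,0,0,0,0,0,0,0,0], 1)]), (20, [([0,0,0,0,0,0,0,0,1,0,0,0,0,0,0,0], 1)]), (17, [([0,0,0,0,0,0,0,1,0,0,0,0,0,0,0,0], 1)]), (22, [([0,0,0,0,0,0,0,0,0,0,0,0,0,1,0,0], 1)]), (23, [([0,0,0,0,0,0,0,0,0,0,0,0,0,0,1,0], 1)])]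

def sqR : List (ℕ × List (List ℕ × ℤ)) :=
  [(18, []), (13, []), (12, []), (14, []), (19, [([1,0,0,0,0,0,0,0,0,0,0,0,1,0,0,0], 1)]), (16, [([0,1,0,0,0,0,0,0,0,0,0,0,1,0,0,0], 1)]), (15, [([0,0,1,0,0,0,0,0,0,0,0,0,1,0,0,0], 1)]), (21, [([1,1,0,0,0,0,0,0,0,0,0,0,1,0,0,0], 1), ([1,0,0,0,1,0,0,0,0,0,0,0,0,0,0,0], 1), ([0,1,0,1,0,0,0,0,0,0,0,0,0,0,0,0], 1)]), (20, [([1,0,1,0,0,0,0,0,0,0,0,0,1,0,0,0], 1), ([1,0,0,0,0,1,0,0,0,0,0,0,0,0,0,0], 1), ([0,0,1,1,0,0,0,0,0,0,0,0,0,0,0,0], 1)]), (17, [([0,1,1,0,0,0,0,0,0,0,0,0,1,0,0,0], 1), ([0,1,0,0,0,1,0,0,0,0,0,0,0,0,0,0], 1), ([0,0,1,0,1,0,0,0,0,0,0,0,0,0,0,0], 1)]), (22, [([1,1,1,0,0,0,0,0,0,0,0,0,1,0,0,0], 1), ([1,1,0,0,0,1,0,0,0,0,0,0,0,0,0,0], 1), ([1,0,1,0,1,0,0,0,0,0,0,0,0,0,0,0], 1), ([1,0,0,0,0,0,0,1,0,0,0,0,0,0,0,0], 1), ([0,1,1,1,0,0,0,0,0,0,0,0,0,0,0,0],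 1), ([0,1,0,0,0,0,0,0,1,0,0,0,0,0,0,0], 1), ([0,0,1,0,0,0,1,0,0,0,0,0,0,0,0,0], 1)]), (23, [([1,1,0,0,0,1,0,0,0,0,0,0,1,0,0,0], 1), ([1,0,1,0,1,0,0,0,0,0,0,0,1,0,0,0], 1), ([1,0,0,0,1,1,0,0,0,0,0,0,0,0,0,0], 1), ([1,0,0,0,0,0,0,1,0,0,0,0,1,0,0,0], 1), ([0,1,1,1,0,0,0,0,0,0,0,0,1,0,0,0], 1), ([0,1,0,1,0,1,0,0,0,0,0,0,0,0,0,0], 1), ([0,1,0,0,0,0,0,0,1,0,0,0,1,0,0,0], 1), ([0,0,1,1,1,0,0,0,0,0,0,0,0,0,0,0], 1), ([0,0,1,0,0,0,1,0,0,0,0,0,1,0,0,0], 1), ([0,0,0,1,0,0,0,1,0,0,0,0,0,0,0,0], 1), ([0,0,0,0,1,0,0,0,1,0,0,0,0,0,0,0], 1), ([0,0,0,0,0,1,1,0,0,0,0,0,0,0,0,0], 1), ([0,0,0,0,0,0,0,0,0,0,0,0,1,1,0,0], 1)])]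

set_option maxRecDepth 100000 in
theorem sq_chk : wordEqChk chevD4 2 sqL sqR = true := by decide +kernel

section
variable (K : Type*) [Field K] (φ : K ≃+* K)

variable [CharP K 2]

variable (hφ3 : ∀ a : K, φ (φ (φ a)) = a)
include hφ3

/-- the square of an element of `U¹` -/
theorem sq_id (t v w u y z : K) (hu : φ u = u) (hy : φ y = y) (hz : φ z = z) :
    nf K φ t u v w y z * nf K φ t u v w y z = nf K φ (0) (0) (t * u) (t * φ t * u + t * φ v + φ t * v) (t * φ t * φ (φ t) * u + t * φ t * φ (φ v) + t * φ (φ t) * φ v + t * φ w + φ t * φ (φ t) * v + φ t * φ (φ w) + φ (φ t) * w) (t * φ t * φ (φ v) * u + t * φ (φ t) * φ v * u + t * φ v * φ (φ v) + t * φ w * u + φ t * φ (φ t) * v * u + φ t * v * φ (φ v) + φ t * φ (φ w) * u + φ (φ t) * v * φ v + φ (φ t) * w * u + v * φ w + φ v * φ (φ w) + φ (φ v) * w + u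 * y) := by
  have key := wordGL_eq_of_chk K (val16 K t (φ t) (φ (φ t)) v (φ v) (φ (φ v)) w (φ w) (φ (φ w)) 0 0 0 u y z 0) sqL sqR sq_chk
  have eL : evalW (val16 K t (φ t) (φ (φ t)) v (φ v) (φ (φ v)) w (φ w) (φ (φ w)) 0 0 0 u y z 0) sqL =
      nfW K φ t u v w y z ++ nfW K φ t u v w y z := by
    apply evalW_eq
    unfold sqL nfW
    simp only [List.cons_append, List.nil_append]
    repeat' (first | exact List.Forall₂.nil | apply List.Forall₂.cons | refine And.intro rfl ?_)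
    all_goals (simp only [pEval, mEval, List.map_cons, List.map_nil, List.sum_cons, List.sum_nil, val16]; (try simp only [map_add, map_mul, map_pow, map_zero, hφ3, hu, hy, hz]); (try push_cast); (try ring))
  have eR : evalW (val16 K t (φ t) (φ (φ t)) v (φ v) (φ (φ v)) w (φ w) (φ (φ w)) 0 0 0 u y z 0) sqR =
      nfW K φ (0) (0) (t * u) (t * φ t * u + t * φ v + φ t * v) (t * φ t * φ (φ t) * u + t * φ t * φ (φ v) + t * φ (φ t) * φ v + t * φ w + φ t * φ (φ t) * v + φ t * φ (φ w) + φ (φ t) * w) (t * φ t * φ (φ v) * u + t * φ (φ t) * φ v * u + t * φ v * φ (φ v) + t * φ w * u + φ t * φ (φ t) * v * u + φ t * v * φ (φ v) + φ t * φ (φ w) * u + φ (φ t) * v * φ v + φ (φ t) * w * u + v * φ w + φ v * φ (φ w) + φ (φ v) * w + u * y) := by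
    apply evalW_eq
    unfold sqR nfW
    repeat' (first | exact List.Forall₂.nil | apply List.Forall₂.cons | refine And.intro rfl ?_)
    all_goals (simp only [pEval, mEval, List.map_cons, List.map_nil, List.sum_cons, List.sum_nil, val16]; (try simp only [map_add, map_mul, map_pow, map_zero, hφ3, hu, hy, hz]); (try push_cast); (try ring))
  rw [eL, eR, wordGL_append] at key
  unfold nf
  exact key

end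

end Cfsg.Agent.Lib.Helper7.D4Inv
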