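import Mathlib
import Cfsg.Agent.Lib.Helper7.EOrdP7Core
import Cfsg.Agent.Lib.Helper9.EOrdLB
import Cfsg.Agent.Lib.Helper11.EOrdP4
import Cfsg.Agent.Lib.Helper24.EOrdP5

/-!
# S2264/S2265 leaf P7 (exact-signature wrapper)
-/

set_option autoImplicit false

namespace Cfsg.Agent.Lib.Helper7.EOrdP7

open Polynomial

variable {F : Type*} [Field F] [Fintype F]

/-- LEAF P7 (`m ≥ 3`, degree `2m` or `2m+1`): `P ∣ X^N - 1` with `(q-1)N ≤ q^(m+1)`. -/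
theorem poly_order_ge_three (P : F[X]) (m : ℕ) (hm : 3 ≤ m)
    (hdeg : P.natDegree = 2 * m ∨ (P.natDegree = 2 * m + 1 ∧ ringChar F ≠ 2))
    (hP0 : P.coeff 0 ≠ 0) (hmir : Associated P.mirror P) :
    ∃ N, 1 ≤ N ∧ (Fintype.card F - 1) * N ≤ Fintype.card F ^ (m + 1) ∧ P ∣ X ^ N - 1 :=
  Cfsg.Agent.Lib.Helper7.EOrdP7Core.poly_order_ge_three_of
    (fun q hq K hK => Cfsg.Agent.Lib.Helper9.EOrdLB.lcm_pow_add_one_le q hq K hK)
    (fun P hP0 hm h1 hm1 => Cfsg.Agent.Lib.Helper11.EOrdP4.main_induction P hP0 hm h1 hm1)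
    (fun P hP => Cfsg.Agent.Lib.Helper24.EOrdP5.exists_split P hP)
    P m hm hdeg hP0 hmir

end Cfsg.Agent.Lib.Helper7.EOrdP7
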