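import Mathlib
import Cfsg.Agent.Lib.Helper2.EQDefs
import Cfsg.Agent.Lib.Helper17.EQM11
import Cfsg.Agent.Lib.Helper6.EQR1
import Cfsg.Agent.Lib.Helper5.EQR3

/-!
# EQ leaf R8b (planner helper2; twin of helper9): the extra torus element `diag(c,1,1)` for `n = 3`
-/

set_option autoImplicit false
set_option linter.unusedSectionVars false

namespace Cfsg.Agent.Lib.Helper7.EQ

open Matrix Module Cfsg.Agent.Lib.Helper16.SLMin Cfsg.Agent.Lib.Helper16.SLMinSpine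
  Cfsg.Agent.Lib.Helper2.EQ

section R

variable {F : Type*} [Field F] [Fintype F] [DecidableEq F] {M : Type*} [AddCommGroup M]
  [Module ℂ M] [FiniteDimensional ℂ M]

variable {N : ℕ}

/-- the scalar by which `cj c` acts on the root group `X a b`. -/
def lam (c : Fˣ) (a b : Fin (N + 1)) : F :=
  (if a = 0 then (c : F) else 1) * (if b = 0 then ((c⁻¹ : Fˣ) : F) else 1)

omit [Fintype F] [DecidableEq F] in
theorem lam_ne_zero (c : Fˣ) (a b : Fin (N + 1)) : lam c a b ≠ 0 := by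
  unfold lam
  refine mul_ne_zero ?_ ?_ <;> split_ifs <;> simp

omit [Fintype F] [DecidableEq F] in
theorem lam_of_ne (c : Fˣ) {a b : Fin (N + 1)} (ha : a ≠ 0) (hb : b ≠ 0) : lam c a b = 1 := by
  unfold lam
  rw [if_neg ha, if_neg hb, mul_one]

omit [Fintype F] [DecidableEq F] [FiniteDimensional ℂ M] in
theorem D_X (ρ : Representation ℂ (SpecialLinearGroup (Fin (N + 1)) F) M) (c : Fˣ)
    (D : M ≃ₗ[ℂ] M) (hD : ∀ (g : SpecialLinearGroup (Fin (N + 1)) F) (x : M),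
      D (ρ g x) = ρ (cj c g) (D x)) (a b : Fin (N + 1)) (t : F) (x : M) :
    D (ρ (X a b t) x) = ρ (X a b (lam c a b * t)) (D x) := by
  rw [hD, Cfsg.Agent.Lib.Helper17.EQ.cj_X]
  rfl

omit [DecidableEq F] [FiniteDimensional ℂ M] in
theorem D_mem_Cfix (ρ : Representation ℂ (SpecialLinearGroup (Fin (N + 1)) F) M) (c : Fˣ)
    (D : M ≃ₗ[ℂ] M) (hD : ∀ (g : SpecialLinearGroup (Fin (N + 1)) F) (x : M),
      D (ρ g x) = ρ (cj c g) (D x)) {y : M} (hy : y ∈ Cfix ρ) : D y ∈ Cfix ρ := by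
  intro a b hab t
  have h := D_X ρ c D hD a b ((lam c a b)⁻¹ * t) y
  rw [hy a b hab, mul_inv_cancel_left₀ (lam_ne_zero c a b)] at h
  exact h.symm

omit [Fintype F] [DecidableEq F] [FiniteDimensional ℂ M] in
theorem D_mem_wtT (ρ : Representation ℂ (SpecialLinearGroup (Fin (N + 1)) F) M) (c : Fˣ)
    (D : M ≃ₗ[ℂ] M) (hD : ∀ (g : SpecialLinearGroup (Fin (N + 1)) F) (x : M),
      D (ρ g x) = ρ (cj c g) (D x)) (θ : Tor (N + 1) F →* ℂˣ) {y : M} (hy : y ∈ wtT ρ θ) :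
    D y ∈ wtT ρ θ := by
  intro t
  have h := hD (dg t) y
  rw [Cfsg.Agent.Lib.Helper17.EQ.cj_dg, hy t, map_smul] at h
  exact h.symm

theorem D_eX (ρ : Representation ℂ (SpecialLinearGroup (Fin (N + 1)) F) M) (c : Fˣ)
    (D : M ≃ₗ[ℂ] M) (hD : ∀ (g : SpecialLinearGroup (Fin (N + 1)) F) (x : M),
      D (ρ g x) = ρ (cj c g) (D x)) (a b : Fin (N + 1)) (z : M) :
    D (eX ρ a b z) = eX ρ a b (D z) :=
  Cfsg.Agent.Lib.Helper6.EQ.eX_comm ρ a b D.toLinearMap (lam c a b) (lam_ne_zero c a b)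
    (fun t x => D_X ρ c D hD a b t x) z

theorem Ti_ne_zero (ρ : Representation ℂ (SpecialLinearGroup (Fin (N + 1)) F) M) (i : Fin N)
    (θ : Tor (N + 1) F →* ℂˣ) {x : M} (hx : x ∈ Cfix ρ ⊓ wtT ρ θ) (hx0 : x ≠ 0) :
    Ti ρ i x ≠ 0 := by
  obtain ⟨γ, hγ⟩ := Cfsg.Agent.Lib.Helper5.EQ.Ti_quadratic ρ i θ hx
  intro h0
  rw [h0, map_zero, smul_zero, add_zero] at hγ
  have hq : (Fintype.card F : ℂ) ≠ 0 := Nat.cast_ne_zero.mpr Fintype.card_ne_zero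
  rcases smul_eq_zero.mp hγ.symm with h | h
  · exact (mul_ne_zero (Units.ne_zero _) (inv_ne_zero hq)) h
  · exact hx0 h

theorem D_Ti_of_ne (ρ : Representation ℂ (SpecialLinearGroup (Fin (N + 1)) F) M) (c : Fˣ)
    (D : M ≃ₗ[ℂ] M) (hD : ∀ (g : SpecialLinearGroup (Fin (N + 1)) F) (x : M),
      D (ρ g x) = ρ (cj c g) (D x)) (i : Fin N) (hi : i.castSucc ≠ 0) (x : M) :
    D (Ti ρ i x) = Ti ρ i (D x) := by
  rw [Cfsg.Agent.Lib.Helper6.EQ.Ti_apply, Cfsg.Agent.Lib.Helper6.EQ.Ti_apply, D_eX ρ c D hD, hD,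
    Cfsg.Agent.Lib.Helper17.EQ.cj_sd_ne c _ _ hi (Fin.succ_ne_zero i)]

theorem D_Ti_zero (ρ : Representation ℂ (SpecialLinearGroup (Fin 3) F) M) (c : Fˣ)
    (D : M ≃ₗ[ℂ] M) (hD : ∀ (g : SpecialLinearGroup (Fin 3) F) (x : M),
      D (ρ g x) = ρ (cj c g) (D x)) (x : M) :
    D (Ti ρ (0 : Fin 2) x) = Ti ρ (0 : Fin 2) (ρ (dg (hc 1 0 c)) (D x)) := by
  have hsd : cj c (sd (0 : Fin 3) 1 : SpecialLinearGroup (Fin 3) F) =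
      sd 0 1 * dg (hc 1 0 c) :=
    Cfsg.Agent.Lib.Helper17.EQ.cj_sd_zero (N := 2) c (by norm_num)
  rw [Cfsg.Agent.Lib.Helper6.EQ.Ti_apply, Cfsg.Agent.Lib.Helper6.EQ.Ti_apply,
    D_eX (N := 2) ρ c D hD, hD]
  change eX ρ 0 1 (ρ (cj c (sd (0 : Fin 3) 1)) (D x)) = eX ρ 0 1 (ρ (sd (0 : Fin 3) 1) _)
  rw [hsd, map_mul]
  rfl

/-- LEAF R8b. -/
theorem extra_torus_three (ρ : Representation ℂ (SpecialLinearGroup (Fin 3) F) M)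
    (θ : Tor 3 F →* ℂˣ)
    (h1 : finrank ℂ ↥(Cfix ρ ⊓ wtT ρ θ) = 1)
    (h2 : finrank ℂ ↥(Cfix ρ ⊓ wtT ρ (θ.comp (permTor (Equiv.swap (0 : Fin 3) 1)).toMonoidHom)) = 1)
    (heq : θ.comp (permTor (Equiv.swap (0 : Fin 3) 1)).toMonoidHom =
      θ.comp (permTor (Equiv.swap (1 : Fin 3) 2)).toMonoidHom)
    (c : Fˣ) (D : M ≃ₗ[ℂ] M) (hD : ∀ (g : SpecialLinearGroup (Fin 3) F) (x : M),
      D (ρ g x) = ρ (cj c g) (D x)) :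
    θ (hc 1 0 c) = 1 := by
  set θ' := θ.comp (permTor (Equiv.swap (0 : Fin 3) 1)).toMonoidHom with hθ'
  obtain ⟨⟨x, hx⟩, hx0, hspan⟩ := finrank_eq_one_iff'.mp h1
  have hx0' : x ≠ 0 := fun h => hx0 (Subtype.ext h)
  have hDx : D x ∈ Cfix ρ ⊓ wtT ρ θ :=
    ⟨D_mem_Cfix (N := 2) ρ c D hD hx.1, D_mem_wtT (N := 2) ρ c D hD θ hx.2⟩
  obtain ⟨δ, hδ⟩ := hspan ⟨D x, hDx⟩
  have hδx : D x = δ • x := (congrArg Subtype.val hδ).symm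
  have hδ0 : δ ≠ 0 := by
    intro h
    rw [h, zero_smul] at hδx
    exact hx0' (D.injective (by rw [hδx, map_zero]))
  obtain ⟨⟨v, hv⟩, hv0, hspan'⟩ := finrank_eq_one_iff'.mp h2
  have hDv : D v ∈ Cfix ρ ⊓ wtT ρ θ' :=
    ⟨D_mem_Cfix (N := 2) ρ c D hD hv.1, D_mem_wtT (N := 2) ρ c D hD θ' hv.2⟩
  obtain ⟨δ', hδ'⟩ := hspan' ⟨D v, hDv⟩
  have hδv : D v = δ' • v := (congrArg Subtype.val hδ').symm
  have key : ∀ y ∈ Cfix ρ ⊓ wtT ρ θ', D y = δ' • y := by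
    intro y hy
    obtain ⟨a, ha⟩ := hspan' ⟨y, hy⟩
    have hy' : y = a • v := (congrArg Subtype.val ha).symm
    rw [hy', map_smul, hδv, smul_comm]
  have hy0 : Ti ρ (0 : Fin 2) x ∈ Cfix ρ ⊓ wtT ρ θ' :=
    ⟨Cfsg.Agent.Lib.Helper6.EQ.Ti_mem_Cfix ρ 0 hx.1,
      Cfsg.Agent.Lib.Helper6.EQ.Ti_mem_wtT ρ 0 θ hx.2⟩
  have hy1 : Ti ρ (1 : Fin 2) x ∈ Cfix ρ ⊓ wtT ρ θ' := by
    refine ⟨Cfsg.Agent.Lib.Helper6.EQ.Ti_mem_Cfix ρ 1 hx.1, ?_⟩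
    change Ti ρ (1 : Fin 2) x ∈ wtT ρ θ'
    rw [heq]
    exact Cfsg.Agent.Lib.Helper6.EQ.Ti_mem_wtT ρ 1 θ hx.2
  have hy0ne : Ti ρ (0 : Fin 2) x ≠ 0 := Ti_ne_zero ρ 0 θ hx hx0'
  have hy1ne : Ti ρ (1 : Fin 2) x ≠ 0 := Ti_ne_zero ρ 1 θ hx hx0'
  have e1 : δ' • Ti ρ (1 : Fin 2) x = δ • Ti ρ (1 : Fin 2) x := by
    rw [← key _ hy1, D_Ti_of_ne ρ c D hD 1 (by decide) x, hδx, map_smul]
  have hδδ : δ' = δ := smul_left_injective ℂ hy1ne e1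
  have e0 : δ' • Ti ρ (0 : Fin 2) x =
      (δ * ((θ (hc 1 0 c) : ℂˣ) : ℂ)) • Ti ρ (0 : Fin 2) x := by
    rw [← key _ hy0, D_Ti_zero ρ c D hD x, hδx, map_smul, hx.2 (hc 1 0 c), map_smul, map_smul,
      smul_smul]
  have h3 : δ' = δ * ((θ (hc 1 0 c) : ℂˣ) : ℂ) := smul_left_injective ℂ hy0ne e0
  rw [hδδ] at h3
  have h4 : ((θ (hc 1 0 c) : ℂˣ) : ℂ) = 1 := by
    have h5 : δ * ((θ (hc 1 0 c) : ℂˣ) : ℂ) = δ * 1 := by rw [← h3, mul_one]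
    exact mul_left_cancel₀ hδ0 h5
  exact Units.ext h4

end R

end Cfsg.Agent.Lib.Helper7.EQ
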