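import Cfsg.Agent.Lib.Helper7.F4CentSpec
import Cfsg.Agent.Lib.Helper11.SemiCentK

/-! `F₄(q)`, `q` odd: the orders of the centralisers of `h_{p_0}(-1)` and `h_{p_3}(-1)` (helper7, on top of
helper11's generic `card_cent_diag`). -/

set_option autoImplicit false

namespace Cfsg.Agent.Lib.Helper7.SemiCent

open Cfsg Cfsg.Lie Matrix Cfsg.Agent.Lib.Helper7 Cfsg.Agent.Lib.Helper7.OddInv
open Cfsg.Agent.Lib.Helper11.ChevSL2

/-- the order of the centraliser of `h_{p_i}(-1)` in `F₄(q)` as a polynomial given by a histogram -/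
theorem f4_card_cent (F : Type*) [Field F] [Fintype F] (h2 : (-1 : F) ≠ 1) (i : ℕ) (hi : i < chevF4.rank)
    (psi : ℕ → Bool) (hspec : ∀ r < 48, (chevF4.cartan i r % 2 = 0 ↔ psi r = true))
    (plus : List ℕ) (hplus : chevF4.posRoots.filter psi = plus) (K : ℕ) (hK : plus.length < K) :
    Nat.card {g : GL chevF4.Idx F // g ∈ chevF4.group F ∧
        g * hF chevF4 memF4 F i (-1) = hF chevF4 memF4 F i (-1) * g} =
      (Fintype.card F - 1) ^ 4 * Fintype.card F ^ plus.length *
        ∑ k ∈ Finset.range K, (histP psi plus K).getD k 0 * Fintype.card F ^ k := by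
  have hT := weylEnum_of_chain chevF4 weylChain_F4 weylChainOKB_F4
  have hm1 : (-1 : F) ≠ 0 := neg_ne_zero.mpr one_ne_zero
  have hpres : ∀ e ∈ nfFin weylChain_F4.levels,
      (presP psi (nfPerm chevF4.nroots weylChain_F4.levels e) = true ↔ ∀ s < chevF4.nroots,
        (-1 : F) ^ (chevF4.cartan i ((nfPerm chevF4.nroots weylChain_F4.levels e).getD s 0)) =
          (-1 : F) ^ (chevF4.cartan i s)) :=
    fun e he => f4_hpres F h2 i psi hspec _ (hT.elLt e he)
  rw [Cfsg.Agent.Lib.Helper11.SemiCent.card_cent_diag chevF4 memF4 F _ _ _ _ hT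
    (hF chevF4 memF4 F i (-1)) (hF_mem_diagonal chevF4 memF4 F i hi _ hm1)
    (fun s => (-1 : F) ^ (chevF4.cartan i s)) (chainChar_hF chevF4 memF4 F i hi _ hm1)
    (coe_hF_diagChar chevF4 memF4 F i hi _ hm1)
    (fun e => presP psi (nfPerm chevF4.nroots weylChain_F4.levels e)) hpres psi
    (f4_hpsi F h2 i psi hspec), card_diagonal_F4, hplus, f4_sum_eq _ psi plus hplus K hK]

/-- `|C(h_{p_0}(-1))|` -/
theorem f4_card_cent_s (F : Type*) [Field F] [Fintype F] (h2 : (-1 : F) ≠ 1) :
    Nat.card {g : GL chevF4.Idx F // g ∈ chevF4.group F ∧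
        g * hF chevF4 memF4 F 0 (-1) = hF chevF4 memF4 F 0 (-1) * g} =
      Fintype.card F ^ 16 * (Fintype.card F ^ 2 - 1) * (Fintype.card F ^ 4 - 1) *
        (Fintype.card F ^ 6 - 1) * (Fintype.card F ^ 8 - 1) := by
  rw [f4_card_cent F h2 0 (by decide) psiS psiS_spec _ f4_plusS 17 (by decide), histS]
  exact f4_arith_s _ Fintype.card_pos

/-- `|C(h_{p_3}(-1))|` -/
theorem f4_card_cent_t (F : Type*) [Field F] [Fintype F] (h2 : (-1 : F) ≠ 1) :
    Nat.card {g : GL chevF4.Idx F // g ∈ chevF4.group F ∧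
        g * hF chevF4 memF4 F 3 (-1) = hF chevF4 memF4 F 3 (-1) * g} =
      Fintype.card F ^ 10 * (Fintype.card F ^ 2 - 1) ^ 2 * (Fintype.card F ^ 4 - 1) *
        (Fintype.card F ^ 6 - 1) := by
  rw [f4_card_cent F h2 3 (by decide) psiT psiT_spec _ f4_plusT 11 (by decide), histT]
  exact f4_arith_t _ Fintype.card_pos

theorem neg_one_ne_one_of_odd_card (F : Type*) [Field F] [Fintype F] (hodd : Odd (Fintype.card F)) :
    (-1 : F) ≠ 1 := by
  intro h
  have h2' : (2 : F) = 0 := by
    have : (1 : F) + 1 = 0 := by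
      nth_rewrite 1 [← h]; ring
    rw [← this]; norm_num
  have hc : ringChar F = 2 := by
    have : ringChar F ∣ 2 := by
      rw [← ringChar.spec]; exact_mod_cast h2'
    rcases (Nat.dvd_prime Nat.prime_two).mp this with h1 | h1
    · exfalso
      exact CharP.ringChar_ne_one (R := F) h1
    · exact h1
  have := FiniteField.even_card_of_char_two hc
  have := Nat.odd_iff.mp hodd
  omega

/-- **`F₄(q)`, `q` odd**: two classes of involutions, with their centraliser orders -/
theorem f4_main {F : Type*} [Field F] [Fintype F] (hOdd : Odd (Fintype.card F)) :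
    ∃ s t : ↥(chevF4.group F), orderOf s = 2 ∧ orderOf t = 2 ∧ ¬ IsConj s t ∧
      (∀ u : ↥(chevF4.group F), orderOf u = 2 → IsConj u s ∨ IsConj u t) ∧
      Nat.card (Subgroup.centralizer ({s} : Set ↥(chevF4.group F))) =
        Fintype.card F ^ 16 * (Fintype.card F ^ 2 - 1) * (Fintype.card F ^ 4 - 1) *
          (Fintype.card F ^ 6 - 1) * (Fintype.card F ^ 8 - 1) ∧
      Nat.card (Subgroup.centralizer ({t} : Set ↥(chevF4.group F))) =
        Fintype.card F ^ 10 * (Fintype.card F ^ 2 - 1) ^ 2 * (Fintype.card F ^ 4 - 1) *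
          (Fintype.card F ^ 6 - 1) := by
  have h2 := neg_one_ne_one_of_odd_card F hOdd
  exact f4_result_of_cards hOdd (f4_card_cent_s F h2) (f4_card_cent_t F h2)

end Cfsg.Agent.Lib.Helper7.SemiCent
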