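import Cfsg.Agent.Lib.Helper7.F4CentSum

/-! `F₄(q)`, `q` odd: the statement on the two classes of involutions, from the two centraliser
orders (helper7). -/

set_option autoImplicit false

namespace Cfsg.Agent.Lib.Helper7.SemiCent

open Cfsg Cfsg.Lie Matrix Cfsg.Agent.Lib.Helper7 Cfsg.Agent.Lib.Helper7.OddInv
open Cfsg.Agent.Lib.Helper11.ChevSL2

section
variable (F : Type*) [Field F]

theorem f4_hF_neg_one_sq (i : ℕ) (hi : i < chevF4.rank) :
    hF chevF4 memF4 F i (-1) * hF chevF4 memF4 F i (-1) = 1 := by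
  have hm1 : (-1 : F) ≠ 0 := neg_ne_zero.mpr one_ne_zero
  rw [← hF_mul chevF4 memF4 F i hi _ _ hm1 hm1]
  have : (-1 : F) * (-1) = 1 := by ring
  rw [this, hF_one]

theorem f4_hF_mem_group (i : ℕ) (hi : i < chevF4.rank) :
    hF chevF4 memF4 F i (-1) ∈ chevF4.group F := by
  have hm1 : (-1 : F) ≠ 0 := neg_ne_zero.mpr one_ne_zero
  exact borel_le_group chevF4 memF4 F
    (diagonal_le_borel chevF4 memF4 F (hF_mem_diagonal chevF4 memF4 F i hi _ hm1))

/-- `h_{p_i}(-1) ≠ 1` when `-1 ≠ 1`, given a root with odd Cartan integer -/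
theorem f4_hF_neg_one_ne_one (h2 : (-1 : F) ≠ 1) (i : ℕ) (hi : i < chevF4.rank) (s : ℕ)
    (hs : s < chevF4.nroots) (hodd : chevF4.cartan i s % 2 = 1) :
    hF chevF4 memF4 F i (-1) ≠ 1 := by
  have hm1 : (-1 : F) ≠ 0 := neg_ne_zero.mpr one_ne_zero
  intro h
  have h1 := coe_hF_diagChar chevF4 memF4 F i hi (-1) hm1
  rw [h, Units.val_one, ← diagChar_one chevF4 F] at h1
  have h3 := diagChar_inj chevF4 memF4 F _ _ h1 s hs
  have ho : Odd (chevF4.cartan i s) := Int.odd_iff.mpr hodd
  rw [ho.neg_one_zpow] at h3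
  exact h2 h3.symm

end

/-- the subtype of the elements of a subgroup commuting with one of them, and its centraliser -/
theorem card_centralizer_subtype {G : Type*} [Group G] (K : Subgroup G) (z : G) (hz : z ∈ K) :
    Nat.card (Subgroup.centralizer ({⟨z, hz⟩} : Set ↥K)) = Nat.card {g : G // g ∈ K ∧ g * z = z * g} := by
  apply Nat.card_congr
  refine ⟨fun g => ⟨(g.1 : G), g.1.2, ?_⟩, fun g => ⟨⟨g.1, g.2.1⟩, ?_⟩, ?_, ?_⟩
  · have := g.2
    rw [Subgroup.mem_centralizer_iff] at this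
    have h1 := this ⟨z, hz⟩ rfl
    have h2 := congrArg Subtype.val h1
    exact h2.symm
  · rw [Subgroup.mem_centralizer_iff]
    intro x hx
    rw [Set.mem_singleton_iff] at hx
    subst hx
    apply Subtype.ext
    exact g.2.2.symm
  · intro g; rfl
  · intro g; rfl

/-- conjugate elements have centralisers of the same order -/
theorem card_centralizer_of_isConj {G : Type*} [Group G] (s t : G) (h : IsConj s t) :
    Nat.card (Subgroup.centralizer ({s} : Set G)) = Nat.card (Subgroup.centralizer ({t} : Set G)) := by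
  obtain ⟨c, hc⟩ := isConj_iff.mp h
  apply Nat.card_congr
  refine ⟨fun g => ⟨c * g.1 * c⁻¹, ?_⟩, fun g => ⟨c⁻¹ * g.1 * c, ?_⟩, ?_, ?_⟩
  · rw [Subgroup.mem_centralizer_iff]
    intro x hx
    rw [Set.mem_singleton_iff] at hx
    subst hx
    have := g.2
    rw [Subgroup.mem_centralizer_iff] at this
    have h1 := this s rfl
    rw [← hc]
    calc c * s * c⁻¹ * (c * g.1 * c⁻¹) = c * (s * g.1) * c⁻¹ := by group
      _ = c * (g.1 * s) * c⁻¹ := by rw [h1]
      _ = c * g.1 * c⁻¹ * (c * s * c⁻¹) := by group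
  · rw [Subgroup.mem_centralizer_iff]
    intro x hx
    rw [Set.mem_singleton_iff] at hx
    rw [hx]
    have := g.2
    rw [Subgroup.mem_centralizer_iff] at this
    have h1 := this t rfl
    have h1' : (c * s * c⁻¹) * g.1 = g.1 * (c * s * c⁻¹) := by rw [hc]; exact h1
    have h2 : s * (c⁻¹ * g.1 * c) = c⁻¹ * (c * s * c⁻¹ * g.1) * c := by group
    have h3 : c⁻¹ * g.1 * c * s = c⁻¹ * (g.1 * (c * s * c⁻¹)) * c := by group
    rw [h2, h3, h1']
  · intro g
    apply Subtype.ext
    show c⁻¹ * (c * g.1 * c⁻¹) * c = g.1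
    group
  · intro g
    apply Subtype.ext
    show c * (c⁻¹ * g.1 * c) * c⁻¹ = g.1
    group

/-- **`F₄(q)`, `q` odd**: two classes of involutions, from the two centraliser orders -/
theorem f4_result_of_cards {F : Type*} [Field F] [Fintype F] (hOdd : Odd (Fintype.card F))
    (hS : Nat.card {g : GL chevF4.Idx F // g ∈ chevF4.group F ∧
        g * hF chevF4 memF4 F 0 (-1) = hF chevF4 memF4 F 0 (-1) * g} =
      Fintype.card F ^ 16 * (Fintype.card F ^ 2 - 1) * (Fintype.card F ^ 4 - 1) *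
        (Fintype.card F ^ 6 - 1) * (Fintype.card F ^ 8 - 1))
    (hT : Nat.card {g : GL chevF4.Idx F // g ∈ chevF4.group F ∧
        g * hF chevF4 memF4 F 3 (-1) = hF chevF4 memF4 F 3 (-1) * g} =
      Fintype.card F ^ 10 * (Fintype.card F ^ 2 - 1) ^ 2 * (Fintype.card F ^ 4 - 1) *
        (Fintype.card F ^ 6 - 1)) :
    ∃ s t : ↥(chevF4.group F), orderOf s = 2 ∧ orderOf t = 2 ∧ ¬ IsConj s t ∧
      (∀ u : ↥(chevF4.group F), orderOf u = 2 → IsConj u s ∨ IsConj u t) ∧
      Nat.card (Subgroup.centralizer ({s} : Set ↥(chevF4.group F))) =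
        Fintype.card F ^ 16 * (Fintype.card F ^ 2 - 1) * (Fintype.card F ^ 4 - 1) *
          (Fintype.card F ^ 6 - 1) * (Fintype.card F ^ 8 - 1) ∧
      Nat.card (Subgroup.centralizer ({t} : Set ↥(chevF4.group F))) =
        Fintype.card F ^ 10 * (Fintype.card F ^ 2 - 1) ^ 2 * (Fintype.card F ^ 4 - 1) *
          (Fintype.card F ^ 6 - 1) := by
  have hodd : Fintype.card F % 2 = 1 := Nat.odd_iff.mp hOdd
  -- `-1 ≠ 1`
  have h2 : (-1 : F) ≠ 1 := by
    intro h
    have h2' : (2 : F) = 0 := by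
      have : (1 : F) + 1 = 0 := by
        nth_rewrite 1 [← h]; ring
      rw [← this]; norm_num
    have hc : ringChar F = 2 := by
      have : ringChar F ∣ 2 := by
        rw [← ringChar.spec]; exact_mod_cast h2'
      rcases (Nat.dvd_prime Nat.prime_two).mp this with h1 | h1
      · exfalso
        exact CharP.ringChar_ne_one (R := F) h1
      · exact h1
    have := FiniteField.even_card_of_char_two hc
    omega
  have hq2 : 2 ≤ Fintype.card F := Fintype.one_lt_card
  have h0lt : (0 : ℕ) < chevF4.rank := by decide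
  have h3lt : (3 : ℕ) < chevF4.rank := by decide
  obtain ⟨s, hsdef⟩ : ∃ s : ↥(chevF4.group F), s = ⟨hF chevF4 memF4 F 0 (-1), f4_hF_mem_group F 0 h0lt⟩ :=
    ⟨_, rfl⟩
  obtain ⟨t, htdef⟩ : ∃ t : ↥(chevF4.group F), t = ⟨hF chevF4 memF4 F 3 (-1), f4_hF_mem_group F 3 h3lt⟩ :=
    ⟨_, rfl⟩
  have hsv : (s : GL chevF4.Idx F) = hF chevF4 memF4 F 0 (-1) := by rw [hsdef]
  have htv : (t : GL chevF4.Idx F) = hF chevF4 memF4 F 3 (-1) := by rw [htdef]
  have hs1 : s ≠ 1 := by
    intro h
    have := congrArg Subtype.val h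
    rw [hsv] at this
    exact f4_hF_neg_one_ne_one F h2 0 h0lt 27 (by decide) (by decide) this
  have ht1 : t ≠ 1 := by
    intro h
    have := congrArg Subtype.val h
    rw [htv] at this
    exact f4_hF_neg_one_ne_one F h2 3 h3lt 25 (by decide) (by decide) this
  have hss : s ^ 2 = 1 := by
    apply Subtype.ext
    rw [pow_two, Subgroup.coe_mul, hsv]
    exact f4_hF_neg_one_sq F 0 h0lt
  have htt : t ^ 2 = 1 := by
    apply Subtype.ext
    rw [pow_two, Subgroup.coe_mul, htv]
    exact f4_hF_neg_one_sq F 3 h3lt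
  have hos : orderOf s = 2 := orderOf_eq_prime hss hs1
  have hot : orderOf t = 2 := orderOf_eq_prime htt ht1
  have hcs := card_centralizer_subtype (chevF4.group F) _ (f4_hF_mem_group F 0 h0lt)
  have hct := card_centralizer_subtype (chevF4.group F) _ (f4_hF_mem_group F 3 h3lt)
  rw [hS, ← hsdef] at hcs
  rw [hT, ← htdef] at hct
  refine ⟨s, t, hos, hot, ?_, ?_, hcs, hct⟩
  · intro hconj
    have := card_centralizer_of_isConj s t hconj
    rw [hcs, hct] at this
    exact f4_arith_ne _ hq2 this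
  · intro u hu
    have hu2 : u ^ 2 = 1 := by rw [← hu]; exact pow_orderOf_eq_one u
    have hu1 : u ≠ 1 := by
      intro h
      rw [h, orderOf_one] at hu
      exact absurd hu (by norm_num)
    have huu : (u : GL chevF4.Idx F) * (u : GL chevF4.Idx F) = 1 := by
      have := congrArg Subtype.val hu2
      rw [pow_two] at this
      exact this
    have hu1' : (u : GL chevF4.Idx F) ≠ 1 := fun h => hu1 (Subtype.ext h)
    obtain ⟨g, hg, hcase⟩ := f4_invol_conj F hodd (u : GL chevF4.Idx F) u.2 huu hu1'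
    rcases hcase with e | e
    · left
      rw [isConj_iff]
      refine ⟨⟨g, hg⟩, Subtype.ext ?_⟩
      rw [hsv]; exact e
    · right
      rw [isConj_iff]
      refine ⟨⟨g, hg⟩, Subtype.ext ?_⟩
      rw [htv]; exact e

end Cfsg.Agent.Lib.Helper7.SemiCent
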