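import Cfsg.Agent.Lib.Helper7.F4CentFinal

/-! `F₄(q)`, `q` odd: the boolean data of the characters of `h_{p_i}(-1)` (helper7). -/

set_option autoImplicit false

namespace Cfsg.Agent.Lib.Helper7.SemiCent

open Cfsg Cfsg.Lie Matrix Cfsg.Agent.Lib.Helper7 Cfsg.Agent.Lib.Helper7.OddInv
open Cfsg.Agent.Lib.Helper11.ChevSL2

section
variable (F : Type*) [Field F]

theorem neg_one_zpow_eq_one_iff (h2 : (-1 : F) ≠ 1) (a : ℤ) : (-1 : F) ^ a = 1 ↔ a % 2 = 0 := by
  rcases Int.emod_two_eq_zero_or_one a with h | h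
  · have he : Even a := Int.even_iff.mpr h
    rw [he.neg_one_zpow]; simp [h]
  · have ho : Odd a := Int.odd_iff.mpr h
    rw [ho.neg_one_zpow]
    constructor
    · intro h'; exact absurd h' h2
    · intro h'; omega

theorem neg_one_zpow_eq_iff (h2 : (-1 : F) ≠ 1) (a b : ℤ) :
    (-1 : F) ^ a = (-1 : F) ^ b ↔ (a % 2 = 0 ↔ b % 2 = 0) := by
  rcases Int.emod_two_eq_zero_or_one a with ha | ha <;> rcases Int.emod_two_eq_zero_or_one b with hb | hb
  · rw [(Int.even_iff.mpr ha).neg_one_zpow, (Int.even_iff.mpr hb).neg_one_zpow]; simp [ha, hb]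
  · rw [(Int.even_iff.mpr ha).neg_one_zpow, (Int.odd_iff.mpr hb).neg_one_zpow]
    constructor
    · intro h'; exact absurd h'.symm h2
    · intro h'; omega
  · rw [(Int.odd_iff.mpr ha).neg_one_zpow, (Int.even_iff.mpr hb).neg_one_zpow]
    constructor
    · intro h'; exact absurd h' h2
    · intro h'; omega
  · rw [(Int.odd_iff.mpr ha).neg_one_zpow, (Int.odd_iff.mpr hb).neg_one_zpow]; simp [ha, hb]

/-- the specification of `psi` -/
theorem f4_hpsi (h2 : (-1 : F) ≠ 1) (i : ℕ) (psi : ℕ → Bool)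
    (hspec : ∀ r < 48, (chevF4.cartan i r % 2 = 0 ↔ psi r = true)) :
    ∀ r < chevF4.nroots, ((-1 : F) ^ (chevF4.cartan i r) = 1 ↔ psi r = true) := by
  intro r hr
  rw [neg_one_zpow_eq_one_iff F h2]
  exact hspec r hr

/-- the specification of `presP psi` -/
theorem f4_hpres (h2 : (-1 : F) ≠ 1) (i : ℕ) (psi : ℕ → Bool)
    (hspec : ∀ r < 48, (chevF4.cartan i r % 2 = 0 ↔ psi r = true)) (p : List ℕ)
    (hp : ∀ x ∈ p, x < chevF4.nroots) :
    presP psi p = true ↔ ∀ s < chevF4.nroots,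
      (-1 : F) ^ (chevF4.cartan i (p.getD s 0)) = (-1 : F) ^ (chevF4.cartan i s) := by
  have hn : chevF4.nroots = 48 := rfl
  have hget : ∀ s, p.getD s 0 < 48 := by
    intro s
    by_cases hs : s < p.length
    · rw [List.getD_eq_getElem _ _ hs]
      exact hp _ (List.getElem_mem _)
    · rw [List.getD_eq_default _ _ (by omega)]
      norm_num
  unfold presP
  rw [List.all_eq_true]
  constructor
  · intro h s hs
    have h1 := h s (List.mem_range.mpr hs)
    rw [beq_iff_eq] at h1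
    rw [neg_one_zpow_eq_iff F h2, hspec _ (hget s), hspec s hs, h1]
  · intro h s hs
    have hs' := List.mem_range.mp hs
    have h1 := h s hs'
    rw [neg_one_zpow_eq_iff F h2, hspec _ (hget s), hspec s hs'] at h1
    rw [beq_iff_eq, Bool.eq_iff_iff]
    exact h1

end

end Cfsg.Agent.Lib.Helper7.SemiCent
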