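import Cfsg.Agent.Lib.Helper7.OddInvE

/-! Involutions of Chevalley groups over finite fields of odd order (helper7), part H:
the action of the Weyl group on the involutions of `H`, by sign vectors on the fundamental roots. -/

set_option autoImplicit false

namespace Cfsg.Agent.Lib.Helper7.OddInv

open Cfsg Cfsg.Lie Matrix
open Cfsg.Agent.Lib.Helper7 Cfsg.Agent.Lib.Helper25.ChInv Cfsg.Agent.Lib.Helper11.SL2Hom
open Cfsg.Agent.Lib.Helper11.ChevSL2 Cfsg.Agent.Lib.Helper11.ChevParCent

/-- the sign of a boolean -/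
def sg (F : Type*) [Field F] (b : Bool) : F := if b then -1 else 1

theorem sg_ne_zero (F : Type*) [Field F] (b : Bool) : sg F b ≠ 0 := by
  cases b
  · exact one_ne_zero
  · exact neg_ne_zero.mpr one_ne_zero

theorem sg_step (F : Type*) [Field F] (bj bk : Bool) (a : ℤ) :
    ((sg F bj)⁻¹) ^ a * sg F bk = sg F (xor bk (bj && decide (a % 2 = 1))) := by
  cases bj
  · simp [sg]
  · have hinv : ((-1 : F))⁻¹ = -1 := by
      rw [inv_eq_iff_eq_inv]; norm_num
    rcases Int.emod_two_eq_zero_or_one a with h | h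
    · have he : Even a := Int.even_iff.mpr h
      cases bk <;> simp [sg, hinv, he.neg_one_zpow, h]
    · have ho : Odd a := Int.odd_iff.mpr h
      cases bk <;> simp [sg, hinv, ho.neg_one_zpow, h]

/-- the values given by a list of booleans -/
def valsL (F : Type*) [Field F] (l : List Bool) : ℕ → F := fun k => sg F (l.getD k false)

/-- the action of the `j`-th fundamental reflection on sign vectors -/
def stepL (D : ChevalleyDatum) (j : ℕ) (l : List Bool) : List Bool :=
  (List.range l.length).map fun k =>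
    xor (l.getD k false) (l.getD j false && decide (D.cartan j (D.simple k) % 2 = 1))

theorem stepL_length (D : ChevalleyDatum) (j : ℕ) (l : List Bool) : (stepL D j l).length = l.length := by
  unfold stepL; simp

theorem stepL_getD (D : ChevalleyDatum) (j : ℕ) (l : List Bool) (k : ℕ) (hk : k < l.length) :
    (stepL D j l).getD k false =
      xor (l.getD k false) (l.getD j false && decide (D.cartan j (D.simple k) % 2 = 1)) := by
  unfold stepL
  rw [List.getD_eq_getElem _ _ (by simpa using hk)]
  simp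

/-- the action of a word on sign vectors -/
def wordL (D : ChevalleyDatum) : List ℕ → List Bool → List Bool
  | [], l => l
  | j :: w, l => wordL D w (stepL D j l)

section
variable (D : ChevalleyDatum) (hD : D ∈ [chevG2, chevB2, chevD4, chevF4, chevE6, chevE7, chevE8])
variable (F : Type*) [Field F]
include hD

/-- `h ∈ H` has a character with the values `v k` at the fundamental roots -/
def HasVals (h : GL D.Idx F) (v : ℕ → F) : Prop :=
  h ∈ D.diagonalSubgroup F ∧ ∃ χ : ℕ → F, ChainChar D F χ ∧
    (h : Matrix D.Idx D.Idx F) = diagChar D F χ ∧ ∀ k < D.rank, χ (D.simple k) = v k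

theorem diagChar_inj (χ ψ : ℕ → F) (h : diagChar D F χ = diagChar D F ψ) (s : ℕ) (hs : s < D.nroots) :
    χ s = ψ s := by
  have h2 := congrFun (congrFun h (Sum.inr ⟨s, hs⟩)) (Sum.inr ⟨s, hs⟩)
  unfold diagChar at h2
  simpa using h2

/-- an element of `H` is determined by the values of its character at the fundamental roots -/
theorem HasVals.unique {h h' : GL D.Idx F} {v : ℕ → F} (hv : HasVals D F h v)
    (hv' : HasVals D F h' v) : h = h' := by
  obtain ⟨hm, χ, hχ, hh, hval⟩ := hv
  obtain ⟨hm', χ', hχ', hh', hval'⟩ := hv'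
  obtain ⟨w, hw⟩ := exists_parCentFacts D hD
  have hmem : h * h'⁻¹ ∈ D.diagonalSubgroup F := Subgroup.mul_mem _ hm (Subgroup.inv_mem _ hm')
  obtain ⟨ψ, hψ, hhψ⟩ := mem_diagonalSubgroup_char D hD F _ hmem
  have hrel : diagChar D F χ = diagChar D F (fun s => ψ s * χ' s) := by
    rw [← diagChar_mul, ← hhψ, ← hh', ← hh, ← Units.val_mul]
    congr 1
    group
  have h1 : h * h'⁻¹ = 1 := by
    apply eq_one_of_char_fund D hD F w hw ψ hψ _ hhψ
    intro k hk
    have hpk := (parFacts_of_mem D hD).simplePos k hk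
    have e := diagChar_inj D hD F _ _ hrel (D.simple k) hpk.1
    rw [hval k hk, hval' k hk] at e
    have hne : v k ≠ 0 := by
      rw [← hval k hk]; exact hχ.ne0 _ hpk.1
    have : ψ (D.simple k) * v k = 1 * v k := by rw [one_mul]; exact e.symm
    exact mul_right_cancel₀ hne this
  exact mul_inv_eq_one.mp h1

theorem hF_inv' (i : ℕ) (hi : i < D.rank) (c : F) (hc : c ≠ 0) :
    (hF D hD F i c)⁻¹ = hF D hD F i c⁻¹ := by
  apply inv_eq_of_mul_eq_one_right
  rw [← hF_mul D hD F i hi _ _ hc (inv_ne_zero hc), mul_inv_cancel₀ hc, hF_one]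

/-- conjugation by `n_j` -/
theorem HasVals.conj {h : GL D.Idx F} {v : ℕ → F} (hv : HasVals D F h v) (j : ℕ) (hj : j < D.rank) :
    HasVals D F (nFund D hD F j * h * (nFund D hD F j)⁻¹)
      (fun k => ((v j)⁻¹) ^ (D.cartan j (D.simple k)) * v k) := by
  obtain ⟨hm, χ, hχ, hh, hval⟩ := hv
  have hpj := (parFacts_of_mem D hD).simplePos j hj
  have hc : χ (D.simple j) ≠ 0 := hχ.ne0 _ hpj.1
  have hci : (χ (D.simple j))⁻¹ ≠ 0 := inv_ne_zero hc
  rw [nFund_conj_diag D hD F j hj h χ hχ hh, hF_inv' D hD F j hj _ hc]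
  refine ⟨Subgroup.mul_mem _ (hF_mem_diagonal D hD F j hj _ hci) hm,
    fun s => ((χ (D.simple j))⁻¹) ^ (D.cartan j s) * χ s,
    (chainChar_hF D hD F j hj _ hci).mul hχ, ?_, ?_⟩
  · rw [Units.val_mul, coe_hF_diagChar D hD F j hj _ hci, hh, diagChar_mul]
  · intro k hk
    show ((χ (D.simple j))⁻¹) ^ (D.cartan j (D.simple k)) * χ (D.simple k) = _
    rw [hval j hj, hval k hk]

/-- conjugation by `n_j`, on sign vectors -/
theorem hasVals_step {h : GL D.Idx F} (l : List Bool) (hl : l.length = D.rank)
    (hv : HasVals D F h (valsL F l)) (j : ℕ) (hj : j < D.rank) :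
    HasVals D F (nFund D hD F j * h * (nFund D hD F j)⁻¹) (valsL F (stepL D j l)) := by
  obtain ⟨hm, χ, hχ, hh, hval⟩ := HasVals.conj D hD F hv j hj
  refine ⟨hm, χ, hχ, hh, ?_⟩
  intro k hk
  rw [hval k hk]
  unfold valsL
  rw [stepL_getD D j l k (by rw [hl]; exact hk)]
  exact sg_step F _ _ _

/-- conjugation by a word -/
theorem hasVals_word : ∀ (w : List ℕ), (∀ j ∈ w, j < D.rank) → ∀ (h : GL D.Idx F) (l : List Bool),
    l.length = D.rank → HasVals D F h (valsL F l) →
    ∃ g ∈ D.group F, HasVals D F (g * h * g⁻¹) (valsL F (wordL D w l)) := by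
  intro w
  induction w with
  | nil =>
    intro _ h l _ hv
    refine ⟨1, Subgroup.one_mem _, ?_⟩
    have : (1 : GL D.Idx F) * h * 1⁻¹ = h := by group
    rw [this]; exact hv
  | cons j w ih =>
    intro hw h l hl hv
    have hj : j < D.rank := hw j List.mem_cons_self
    have hv1 := hasVals_step D hD F l hl hv j hj
    obtain ⟨g, hg, hv2⟩ := ih (fun j' hj' => hw j' (List.mem_cons_of_mem _ hj')) _ (stepL D j l)
      (by rw [stepL_length, hl]) hv1
    have hnj := monomial_le_group D hD F (nFund_mem_monomial D hD F j hj)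
    refine ⟨g * nFund D hD F j, Subgroup.mul_mem _ hg hnj, ?_⟩
    have e : g * nFund D hD F j * h * (g * nFund D hD F j)⁻¹ =
        g * (nFund D hD F j * h * (nFund D hD F j)⁻¹) * g⁻¹ := by group
    rw [e]
    exact hv2

/-- the sign vector of an involution of `H` -/
theorem exists_hasVals_of_invol (h : GL D.Idx F) (hh : h ∈ D.diagonalSubgroup F) (hsq : h * h = 1) :
    ∃ l : List Bool, l.length = D.rank ∧ HasVals D F h (valsL F l) := by
  classical
  obtain ⟨χ, hχ, hhm⟩ := mem_diagonalSubgroup_char D hD F h hh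
  refine ⟨(List.range D.rank).map fun k => decide (χ (D.simple k) ≠ 1), by simp, hh, χ, hχ, hhm, ?_⟩
  intro k hk
  have hpk := (parFacts_of_mem D hD).simplePos k hk
  have hsqk := char_sq_of_invol D hD F h χ hhm hsq (D.simple k) hpk.1
  unfold valsL
  rw [List.getD_eq_getElem _ _ (by simpa using hk)]
  simp only [List.getElem_map, List.getElem_range]
  rcases mul_self_eq_one_iff.mp hsqk with h1 | h1
  · rw [h1]; simp [sg]
  · rw [h1]
    by_cases h2 : (-1 : F) = 1 <;> simp [sg, h2]

/-- the identity has the trivial sign vector -/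
theorem hasVals_one (l : List Bool) (hl : ∀ b ∈ l, b = false) : HasVals D F 1 (valsL F l) := by
  refine ⟨Subgroup.one_mem _, fun _ => 1, chainChar_one D F, by rw [diagChar_one]; rfl, ?_⟩
  intro k _
  unfold valsL
  by_cases hk : k < l.length
  · rw [List.getD_eq_getElem _ _ hk, hl _ (List.getElem_mem _)]
    simp [sg]
  · rw [List.getD_eq_default _ _ (by omega)]
    simp [sg]

/-- the sign vector of `h_{p_i}(-1)` -/
theorem hasVals_hF_neg_one (i : ℕ) (hi : i < D.rank) :
    HasVals D F (hF D hD F i (-1))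
      (valsL F ((List.range D.rank).map fun k => decide (D.cartan i (D.simple k) % 2 = 1))) := by
  have hm1 : (-1 : F) ≠ 0 := neg_ne_zero.mpr one_ne_zero
  refine ⟨hF_mem_diagonal D hD F i hi _ hm1, fun s => (-1 : F) ^ D.cartan i s,
    chainChar_hF D hD F i hi _ hm1, coe_hF_diagChar D hD F i hi _ hm1, ?_⟩
  intro k hk
  unfold valsL
  rw [List.getD_eq_getElem _ _ (by simpa using hk)]
  simp only [List.getElem_map, List.getElem_range]
  rcases Int.emod_two_eq_zero_or_one (D.cartan i (D.simple k)) with h | h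
  · have he : Even (D.cartan i (D.simple k)) := Int.even_iff.mpr h
    simp [sg, he.neg_one_zpow, h]
  · have ho : Odd (D.cartan i (D.simple k)) := Int.odd_iff.mpr h
    simp [sg, ho.neg_one_zpow, h]

end

end Cfsg.Agent.Lib.Helper7.OddInv
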