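import Cfsg.Agent.Lib.Helper7.OddInvF4
import Cfsg.Agent.Lib.Helper7.OddInvH

/-! Involutions of `F₄(q)`, `q` odd (helper7): the involutions of `H` fall into two classes. -/

set_option autoImplicit false

namespace Cfsg.Agent.Lib.Helper7.OddInv

open Cfsg Cfsg.Lie Matrix
open Cfsg.Agent.Lib.Helper7 Cfsg.Agent.Lib.Helper25.ChInv Cfsg.Agent.Lib.Helper11.SL2Hom
open Cfsg.Agent.Lib.Helper11.ChevSL2 Cfsg.Agent.Lib.Helper11.ChevParCent

/-- every nonzero sign vector is moved to one of two representatives -/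
theorem f4_paths : ∀ a b c d : Bool, (a || b || c || d) = true →
    ∃ w : List ℕ, (∀ j ∈ w, j < chevF4.rank) ∧
      (wordL chevF4 w [a, b, c, d] = [false, true, false, false] ∨
        wordL chevF4 w [a, b, c, d] = [false, false, true, false]) := by
  intro a b c d
  cases a <;> cases b <;> cases c <;> cases d <;> intro h
  · exact absurd h (by decide)
  · exact ⟨[3, 2, 1, 0, 2, 1, 2], by decide, Or.inr (by decide)⟩
  · exact ⟨[], by decide, Or.inr (by decide)⟩
  · exact ⟨[2, 1, 0, 2, 1, 2], by decide, Or.inr (by decide)⟩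
  · exact ⟨[], by decide, Or.inl (by decide)⟩
  · exact ⟨[3, 2], by decide, Or.inr (by decide)⟩
  · exact ⟨[1, 0, 2, 1, 2], by decide, Or.inr (by decide)⟩
  · exact ⟨[2], by decide, Or.inr (by decide)⟩
  · exact ⟨[0, 1], by decide, Or.inl (by decide)⟩
  · exact ⟨[0, 1, 3, 2], by decide, Or.inr (by decide)⟩
  · exact ⟨[2, 1, 2], by decide, Or.inr (by decide)⟩
  · exact ⟨[0, 1, 2], by decide, Or.inr (by decide)⟩
  · exact ⟨[1], by decide, Or.inl (by decide)⟩
  · exact ⟨[1, 3, 2], by decide, Or.inr (by decide)⟩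
  · exact ⟨[0, 2, 1, 2], by decide, Or.inr (by decide)⟩
  · exact ⟨[1, 2], by decide, Or.inr (by decide)⟩

theorem f4_vec0 : ((List.range chevF4.rank).map fun k => decide (chevF4.cartan 0 (chevF4.simple k) % 2 = 1)) =
    [false, true, false, false] := by decide

theorem f4_vec3 : ((List.range chevF4.rank).map fun k => decide (chevF4.cartan 3 (chevF4.simple k) % 2 = 1)) =
    [false, false, true, false] := by decide

section
variable (F : Type*) [Field F]

/-- the involutions of `H` are conjugate to `h_{p_0}(-1)` or to `h_{p_3}(-1)` -/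
theorem f4_diag_invol (h : GL chevF4.Idx F) (hh : h ∈ chevF4.diagonalSubgroup F) (hsq : h * h = 1)
    (hne : h ≠ 1) :
    ∃ g ∈ chevF4.group F, g * h * g⁻¹ = hF chevF4 memF4 F 0 (-1) ∨
      g * h * g⁻¹ = hF chevF4 memF4 F 3 (-1) := by
  obtain ⟨l, hl, hv⟩ := exists_hasVals_of_invol chevF4 memF4 F h hh hsq
  rw [f4_rank] at hl
  match l, hl, hv with
  | [a, b, c, d], _, hv =>
    by_cases hz : (a || b || c || d) = true
    · obtain ⟨w, hw, hcase⟩ := f4_paths a b c d hz
      obtain ⟨g, hg, hv2⟩ := hasVals_word chevF4 memF4 F w hw h [a, b, c, d] (by rw [f4_rank]; rfl) hv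
      refine ⟨g, hg, ?_⟩
      rcases hcase with e | e
      · left
        rw [e] at hv2
        have h0 := hasVals_hF_neg_one chevF4 memF4 F 0 (by decide)
        rw [f4_vec0] at h0
        exact HasVals.unique chevF4 memF4 F hv2 h0
      · right
        rw [e] at hv2
        have h3 := hasVals_hF_neg_one chevF4 memF4 F 3 (by decide)
        rw [f4_vec3] at h3
        exact HasVals.unique chevF4 memF4 F hv2 h3
    · exfalso
      apply hne
      have h1 := hasVals_one chevF4 memF4 F [a, b, c, d] (by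
        intro x hx
        simp only [Bool.or_eq_true, not_or, Bool.not_eq_true] at hz
        simp only [List.mem_cons, List.not_mem_nil, or_false] at hx
        rcases hx with rfl | rfl | rfl | rfl
        · exact hz.1.1.1
        · exact hz.1.1.2
        · exact hz.1.2
        · exact hz.2)
      exact HasVals.unique chevF4 memF4 F hv h1

/-- **`F₄(q)`, `q` odd**: every involution is conjugate to `h_{p_0}(-1)` or to `h_{p_3}(-1)` -/
theorem f4_invol_conj [Fintype F] (hodd : Fintype.card F % 2 = 1) (u : GL chevF4.Idx F)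
    (hu : u ∈ chevF4.group F) (huu : u * u = 1) (hu1 : u ≠ 1) :
    ∃ g ∈ chevF4.group F, g * u * g⁻¹ = hF chevF4 memF4 F 0 (-1) ∨
      g * u * g⁻¹ = hF chevF4 memF4 F 3 (-1) := by
  obtain ⟨g, hg, hmem⟩ := f4_conj_diag F hodd u hu huu
  have hne : g * u * g⁻¹ ≠ 1 := by
    intro h
    apply hu1
    have : u = g⁻¹ * (g * u * g⁻¹) * g := by group
    rw [this, h]; group
  obtain ⟨g2, hg2, heq⟩ := f4_diag_invol F _ hmem (conj_sq g u huu) hne
  refine ⟨g2 * g, Subgroup.mul_mem _ hg2 hg, ?_⟩
  have e : g2 * g * u * (g2 * g)⁻¹ = g2 * (g * u * g⁻¹) * g2⁻¹ := by group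
  rw [e]
  exact heq

end

end Cfsg.Agent.Lib.Helper7.OddInv
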