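import Cfsg.Agent.Lib.Helper7.F4CentTab
import Cfsg.Agent.Lib.Helper7.OddInvF4b

/-! The sums over the Weyl group of `F₄` for the centralisers of the involutions of `H` (helper7). -/

set_option autoImplicit false

namespace Cfsg.Agent.Lib.Helper7.SemiCent

open Cfsg Cfsg.Lie Matrix Cfsg.Agent.Lib.Helper7 Cfsg.Agent.Lib.Helper7.OddInv
open Cfsg.Agent.Lib.Helper11.ChevSL2

/-- the sum over the stabiliser of `psi` in the Weyl group of `F₄` -/
theorem f4_sum_eq (q : ℕ) (psi : ℕ → Bool) (plus : List ℕ) (hplus : chevF4.posRoots.filter psi = plus)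
    (K : ℕ) (hK : plus.length < K) :
    (∑ e ∈ nfFin weylChain_F4.levels,
      if presP psi (nfPerm chevF4.nroots weylChain_F4.levels e) = true then
        q ^ (chevF4.posRoots.filter (fun r => psi r &&
          decide (chevF4.IsNegRoot ((nfPerm chevF4.nroots weylChain_F4.levels e).getD r 0)))).length
      else 0) = ∑ k ∈ Finset.range K, (histP psi plus K).getD k 0 * q ^ k := by
  have hn : chevF4.nroots = 48 := rfl
  rw [hn, sum_nfFin_eq]
  have h1 : ((nfList weylChain_F4.levels).map fun e =>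
      if presP psi (nfPerm 48 weylChain_F4.levels e) = true then
        q ^ (chevF4.posRoots.filter (fun r => psi r &&
          decide (chevF4.IsNegRoot ((nfPerm 48 weylChain_F4.levels e).getD r 0)))).length
      else 0) =
      (((nfList weylChain_F4.levels).map (nfPerm 48 weylChain_F4.levels)).map fun p =>
        if presP psi p = true then q ^ cntP plus p else 0) := by
    rw [List.map_map]
    apply List.map_congr_left
    intro e _
    show _ = if presP psi (nfPerm 48 weylChain_F4.levels e) = true then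
      q ^ cntP plus (nfPerm 48 weylChain_F4.levels e) else 0
    congr 2
    unfold cntP
    rw [← hplus, List.filter_filter]
    congr 1
    apply List.filter_congr
    intro r _
    rw [f4_isNegRoot, Bool.and_comm]
  rw [h1, sum_cond_pow q _ (presP psi) (cntP plus) K]
  · apply Finset.sum_congr rfl
    intro k hk
    congr 1
    unfold histP
    simp only
    rw [List.getD_eq_getElem _ _ (by simpa using Finset.mem_range.mp hk)]
    simp
  · intro p _ _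
    unfold cntP
    exact lt_of_le_of_lt (List.length_filter_le _ _) hK

/-- the arithmetic of the first class -/
theorem f4_arith_s (q : ℕ) (hq : 1 ≤ q) :
    (q - 1) ^ 4 * q ^ 16 * (∑ k ∈ Finset.range 17,
      ([1, 4, 9, 16, 24, 32, 39, 44, 46, 44, 39, 32, 24, 16, 9, 4, 1] : List ℕ).getD k 0 * q ^ k) =
      q ^ 16 * (q ^ 2 - 1) * (q ^ 4 - 1) * (q ^ 6 - 1) * (q ^ 8 - 1) := by
  have h2 : 1 ≤ q ^ 2 := Nat.one_le_pow _ _ hq
  have h4 : 1 ≤ q ^ 4 := Nat.one_le_pow _ _ hq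
  have h6 : 1 ≤ q ^ 6 := Nat.one_le_pow _ _ hq
  have h8 : 1 ≤ q ^ 8 := Nat.one_le_pow _ _ hq
  simp only [Finset.sum_range_succ, Finset.sum_range_zero, List.getD_cons_zero, List.getD_cons_succ]
  zify [hq, h2, h4, h6, h8]
  ring

/-- the arithmetic of the second class -/
theorem f4_arith_t (q : ℕ) (hq : 1 ≤ q) :
    (q - 1) ^ 4 * q ^ 10 * (∑ k ∈ Finset.range 11,
      ([1, 4, 8, 12, 15, 16, 15, 12, 8, 4, 1] : List ℕ).getD k 0 * q ^ k) =
      q ^ 10 * (q ^ 2 - 1) ^ 2 * (q ^ 4 - 1) * (q ^ 6 - 1) := by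
  have h2 : 1 ≤ q ^ 2 := Nat.one_le_pow _ _ hq
  have h4 : 1 ≤ q ^ 4 := Nat.one_le_pow _ _ hq
  have h6 : 1 ≤ q ^ 6 := Nat.one_le_pow _ _ hq
  simp only [Finset.sum_range_succ, Finset.sum_range_zero, List.getD_cons_zero, List.getD_cons_succ]
  zify [hq, h2, h4, h6]
  ring

/-- the two orders are different -/
theorem f4_arith_ne (q : ℕ) (hq : 2 ≤ q) :
    q ^ 16 * (q ^ 2 - 1) * (q ^ 4 - 1) * (q ^ 6 - 1) * (q ^ 8 - 1) ≠
      q ^ 10 * (q ^ 2 - 1) ^ 2 * (q ^ 4 - 1) * (q ^ 6 - 1) := by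
  have hq1 : 1 ≤ q := by omega
  have h2 : 2 ≤ q ^ 2 := by nlinarith
  have h4 : 2 ≤ q ^ 4 := by nlinarith [Nat.one_le_pow 2 q hq1, Nat.one_le_pow 4 q hq1]
  have h6 : 2 ≤ q ^ 6 := by nlinarith [Nat.one_le_pow 4 q hq1, Nat.one_le_pow 6 q hq1]
  have h10 : 1 ≤ q ^ 10 := Nat.one_le_pow _ _ hq1
  obtain ⟨a, ha⟩ : ∃ a, q ^ 2 - 1 = a + 1 := ⟨q ^ 2 - 2, by omega⟩
  obtain ⟨b, hb⟩ : ∃ b, q ^ 4 - 1 = b + 1 := ⟨q ^ 4 - 2, by omega⟩
  obtain ⟨c, hc⟩ : ∃ c, q ^ 6 - 1 = c + 1 := ⟨q ^ 6 - 2, by omega⟩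
  intro h
  have e1 : q ^ 16 * (q ^ 2 - 1) * (q ^ 4 - 1) * (q ^ 6 - 1) * (q ^ 8 - 1) =
      (q ^ 10 * (q ^ 2 - 1) * (q ^ 4 - 1) * (q ^ 6 - 1)) * (q ^ 6 * (q ^ 8 - 1)) := by ring
  have e2 : q ^ 10 * (q ^ 2 - 1) ^ 2 * (q ^ 4 - 1) * (q ^ 6 - 1) =
      (q ^ 10 * (q ^ 2 - 1) * (q ^ 4 - 1) * (q ^ 6 - 1)) * (q ^ 2 - 1) := by ring
  rw [e1, e2] at h
  have hpos : 0 < q ^ 10 * (q ^ 2 - 1) * (q ^ 4 - 1) * (q ^ 6 - 1) := by
    rw [ha, hb, hc]; positivity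
  have h3 := Nat.eq_of_mul_eq_mul_left hpos h
  have h8 : q ^ 8 = q ^ 2 * q ^ 6 := by ring
  have h5 : q ^ 2 - 1 < q ^ 6 * (q ^ 8 - 1) := by
    have : q ^ 8 - 1 ≥ q ^ 2 := by
      rw [h8]
      have : q ^ 2 * q ^ 6 ≥ q ^ 2 * 2 := Nat.mul_le_mul_left _ h6
      omega
    calc q ^ 2 - 1 < q ^ 2 := by omega
      _ ≤ q ^ 8 - 1 := this
      _ ≤ q ^ 6 * (q ^ 8 - 1) := Nat.le_mul_of_pos_left _ (by omega)
  omega

end Cfsg.Agent.Lib.Helper7.SemiCent
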