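import Cfsg.Agent.Lib.Helper7.ChevOrderF4

/-! Tables for the centralisers of the involutions of `H` in `F₄(q)`, `q` odd (helper7): sums over the
normal forms of the Weyl group, and the two histograms. -/

set_option autoImplicit false

namespace Cfsg.Agent.Lib.Helper7.SemiCent

open Cfsg Cfsg.Lie Cfsg.Agent.Lib.Helper7

/-- the list of normal forms -/
def nfList : List ChainLevel → List (List ℕ)
  | [] => [[]]
  | L :: Ls => (List.range L.elems.length).flatMap fun e => (nfList Ls).map fun es => e :: es

theorem sum_map_flatMap {α β : Type*} (l : List α) (f : α → List β) (g : β → ℕ) :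
    ((l.flatMap f).map g).sum = (l.map fun a => ((f a).map g).sum).sum := by
  induction l with
  | nil => simp
  | cons a l ih => simp [List.flatMap_cons, List.map_append, List.sum_append, ih]

/-- sums over the normal forms as list sums -/
theorem sum_nfFin_eq : ∀ (Ls : List ChainLevel) (g : List ℕ → ℕ),
    ∑ es ∈ nfFin Ls, g es = ((nfList Ls).map g).sum
  | [], g => by
    show ∑ es ∈ ({[]} : Finset (List ℕ)), g es = _
    rw [Finset.sum_singleton]
    simp [nfList]
  | L :: Ls, g => by
    show ∑ es ∈ (Finset.range L.elems.length ×ˢ nfFin Ls).image (fun p => p.1 :: p.2), g es = _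
    rw [Finset.sum_image (by
      intro p _ p' _ h
      have h1 : p.1 :: p.2 = p'.1 :: p'.2 := h
      rw [List.cons.injEq] at h1
      exact Prod.ext h1.1 h1.2), Finset.sum_product]
    show ∑ e ∈ Finset.range L.elems.length, ∑ es ∈ nfFin Ls, g (e :: es) = _
    unfold nfList
    rw [sum_map_flatMap, list_sum_range_nat]
    apply Finset.sum_congr rfl
    intro e _
    rw [sum_nfFin_eq Ls (fun es => g (e :: es)), List.map_map]
    rfl

/-- a conditional sum of powers, sorted by exponent -/
theorem sum_cond_pow {α : Type*} (q : ℕ) (l : List α) (p : α → Bool) (c : α → ℕ) (K : ℕ)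
    (hK : ∀ e ∈ l, p e = true → c e < K) :
    (l.map fun e => if p e = true then q ^ c e else 0).sum =
      ∑ k ∈ Finset.range K, ((l.filter p).map c).count k * q ^ k := by
  have h1 : (l.map fun e => if p e = true then q ^ c e else 0).sum =
      (((l.filter p).map c).map fun x => q ^ x).sum := by
    induction l with
    | nil => simp
    | cons a l ih =>
      have ih' := ih (fun e he => hK e (List.mem_cons_of_mem _ he))
      by_cases ha : p a = true
      · simp only [List.map_cons, List.sum_cons, if_pos ha, List.filter_cons_of_pos ha]
        rw [ih']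
      · simp only [List.map_cons, List.sum_cons, if_neg ha, List.filter_cons_of_neg ha, zero_add]
        rw [ih']
  rw [h1]
  apply sum_pow_hist
  intro x hx
  rw [List.mem_map] at hx
  obtain ⟨e, he, rfl⟩ := hx
  rw [List.mem_filter] at he
  exact hK e he.1 he.2

/-! ### the data of `F₄` -/

theorem f4_posRoots : chevF4.posRoots =
    [24, 25, 26, 27, 28, 29, 30, 31, 32, 33, 34, 35, 36, 37, 38, 39, 40, 41, 42, 43, 44, 45, 46, 47] := by
  decide

theorem f4_isNegRoot (x : ℕ) : decide (chevF4.IsNegRoot x) = decide (x < 24) := by
  by_cases hx : x < 48
  · revert x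
    decide
  · have h1 : ¬ chevF4.IsNegRoot x := fun h => hx h.1
    rw [decide_eq_false h1, decide_eq_false (by omega)]

/-- `χ(r) = 1` for the character of `h_{p_0}(-1)` -/
def psiS (r : ℕ) : Bool :=
  ([true, true, true, false, true, true, true, false, true, true, true, false, false, false, true, true, true,
    true, false, false, false, true, true, true, true, true, true, false, false, false, true, true, true, true,
    false, false, false, true, true, true, false, true, true, true, false, true, true, true] : List Bool).getD r false

/-- `χ(r) = 1` for the character of `h_{p_3}(-1)` -/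
def psiT (r : ℕ) : Bool :=
  ([false, false, true, true, true, false, false, true, true, false, false, false, false, true, true, true,
    false, false, false, false, true, false, false, true, true, false, false, true, false, false, false, false,
    true, true, true, false, false, false, false, true, true, false, false, true, true, true, false, false] :
    List Bool).getD r false

theorem psiS_spec : ∀ r < 48, (chevF4.cartan 0 r % 2 = 0 ↔ psiS r = true) := by decide
theorem psiT_spec : ∀ r < 48, (chevF4.cartan 3 r % 2 = 0 ↔ psiT r = true) := by decide

theorem f4_plusS : chevF4.posRoots.filter psiS =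
    [24, 25, 26, 30, 31, 32, 33, 37, 38, 39, 41, 42, 43, 45, 46, 47] := by decide
theorem f4_plusT : chevF4.posRoots.filter psiT = [24, 27, 32, 33, 34, 39, 40, 43, 44, 45] := by decide

/-- does the permutation `p` preserve `psi`? -/
def presP (psi : ℕ → Bool) (p : List ℕ) : Bool := (List.range 48).all fun s => psi (p.getD s 0) == psi s

/-- the number of roots of `plus` made negative by `p` -/
def cntP (plus : List ℕ) (p : List ℕ) : ℕ := (plus.filter fun r => decide (p.getD r 0 < 24)).length

/-- the histogram of the stabiliser of `psi` -/
def histP (psi : ℕ → Bool) (plus : List ℕ) (K : ℕ) : List ℕ :=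
  let l := ((nfList weylChain_F4.levels).map (nfPerm 48 weylChain_F4.levels)).filter (presP psi)
  let c := l.map (cntP plus)
  (List.range K).map fun k => c.count k

set_option maxRecDepth 100000 in
theorem histS : histP psiS [24, 25, 26, 30, 31, 32, 33, 37, 38, 39, 41, 42, 43, 45, 46, 47] 17 =
    [1, 4, 9, 16, 24, 32, 39, 44, 46, 44, 39, 32, 24, 16, 9, 4, 1] := by decide +kernel

set_option maxRecDepth 100000 in
theorem histT : histP psiT [24, 27, 32, 33, 34, 39, 40, 43, 44, 45] 11 =
    [1, 4, 8, 12, 15, 16, 15, 12, 8, 4, 1] := by decide +kernel

end Cfsg.Agent.Lib.Helper7.SemiCent
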