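/-
helper7: S4642 leaf PPOW `ppow_block` (planner helper2): `K ≤ L`, `L / K` a `p`-group, `K` a `p'`-group normalized
by `L`, `θ ∈ Irr(K)` invariant in `L`: the characters of `L` over `θ` form a block of `L` of full defect.
Route: transport to the group `↥L` with the normal subgroup `K.subgroupOf L`; unique covering block (helper23
`existsUnique_covering_block`), "same block ⇒ same constituents on a normal `p'`-subgroup" (helper6
`constituent_iff_of_sameBlock`), singleton blocks of a `p'`-group (helper17 `blockOf_eq_singleton_of_isDefZero`),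
and the lower bound for the defect of a covering block (helper6 `Fong.defect_lower_bound`).
-/
import Mathlib
import Cfsg.Prelude.Def_BrauerPairs
import Cfsg.Agent.Lib.Helper2.FongPTDefs
import Cfsg.Agent.Lib.Helper6.Fong
import Cfsg.Agent.Lib.Helper6.CliffordCorr
import Cfsg.Agent.Lib.Helper17.BlkDefZero

set_option autoImplicit false

namespace Cfsg.Agent.Lib.Helper7.FPTPPOW

open Cfsg Cfsg.Agent.CharLib Cfsg.Agent.Lib.Helper24 Cfsg.Agent.Lib.Helper23
  Cfsg.Agent.Lib.Helper6 Cfsg.Agent.Lib.Helper2.FongPT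
open scoped ComplexConjugate

universe u

variable {G : Type u} [Group G] [Fintype G] {p : ℕ} [hpp : Fact p.Prime] {M : Ideal AlgInt}

/-- the statement inside the group `H` for a normal `p'`-subgroup `N` of `p`-power index -/
theorem ppow_block_normal {H : Type u} [Group H] [Fintype H] (N : Subgroup H) [hN : N.Normal] [Fintype N]
    (hM : IsPModular p M) (hNp : ¬ p ∣ Nat.card N) (hidx : ∃ a : ℕ, N.index = p ^ a)
    (θ' : IrrCharacter N)
    (hinv : ∀ g : H, ∀ θ₂ : IrrCharacter N,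
      (∀ n : N, (θ₂ : N → ℂ) n = (θ' : N → ℂ) ⟨g * n * g⁻¹, hN.conj_mem n n.2 g⟩) → θ₂ = θ') :
    IsPBlock M {ψ : IrrCharacter H | classInner (fun n : N => (ψ : H → ℂ) n) (θ' : N → ℂ) ≠ 0} ∧
      blockDefect p {ψ : IrrCharacter H | classInner (fun n : N => (ψ : H → ℂ) n) (θ' : N → ℂ) ≠ 0} =
        (Nat.card H).factorization p := by
  classical
  have hprime : M.IsPrime := isPrime_of_isPModular hM
  have hp : p.Prime := hpp.out
  set b : Set (IrrCharacter N) := blockOf M (θ' : N → ℂ) with hbdef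
  have hb : IsPBlock M b := ⟨θ', rfl⟩
  have hfN : (Nat.card N).factorization p = 0 := Nat.factorization_eq_zero_of_not_dvd hNp
  have hbs : b = {θ'} := by
    apply Cfsg.Agent.Lib.Helper17.BlkDefZero.blockOf_eq_singleton_of_isDefZero p M hM θ'
    unfold Cfsg.Agent.Lib.Helper17.BlkDefZero.IsDefZero
    rw [hfN]
    exact Nat.zero_le _
  obtain ⟨B, ⟨hB, χ₀, hχ₀B, θ₁, hθ₁, hcov⟩, huniq⟩ := existsUnique_covering_block N p hM hidx b hb
  have hθ₁' : θ₁ = θ' := by
    rw [hbs] at hθ₁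
    exact hθ₁
  subst hθ₁'
  have hmemb : θ₁ ∈ b := by rw [hbs]; rfl
  have hSB : {ψ : IrrCharacter H | classInner (fun n : N => (ψ : H → ℂ) n) (θ₁ : N → ℂ) ≠ 0} = B := by
    ext ψ
    constructor
    · intro hψ
      have h1 := huniq (blockOf M (ψ : H → ℂ)) ⟨⟨ψ, rfl⟩, ψ, mem_blockOf_self ψ, θ₁, hmemb, hψ⟩
      rw [← h1]
      exact mem_blockOf_self ψ
    · intro hψ
      have hsame : SameBlock M (χ₀ : H → ℂ) (ψ : H → ℂ) := sameBlock_of_mem hM hB hχ₀B hψ
      exact (constituent_iff_of_sameBlock hM N hNp χ₀ ψ hsame θ₁.2).mp hcov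
  rw [hSB]
  refine ⟨hB, ?_⟩
  -- the defect
  have hcu : conjUnion N b = b := by
    apply Fong.conjUnion_eq_of_inv N b
    intro g θ hθ θ₂ h2
    rw [hbs] at hθ ⊢
    have : θ = θ₁ := hθ
    subst this
    exact hinv g θ₂ h2
  have hmax : ∀ χ' ∈ Fong.coverSet N b, blockDefect p (blockOf M (χ' : H → ℂ)) ≤ blockDefect p B := by
    rintro χ' ⟨θ, hθ, hχθ⟩
    have h1 := huniq (blockOf M (χ' : H → ℂ)) ⟨⟨χ', rfl⟩, χ', mem_blockOf_self χ', θ, hθ, hχθ⟩
    rw [h1]
  have hlow := Fong.defect_lower_bound N hM hb hcu B hB hmax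
  have hup : blockDefect p B ≤ (Nat.card H).factorization p := by
    unfold blockDefect
    exact Nat.sub_le _ _
  have hfH : (Nat.card H).factorization p = N.index.factorization p := by
    rw [← N.card_mul_index, Nat.factorization_mul Nat.card_pos.ne' Subgroup.index_ne_zero_of_finite,
      Finsupp.add_apply, hfN, zero_add]
  omega

/-- (PPOW) `K ≤ L`, `L / K` a `p`-group, `K` a `p'`-group normalized by `L`, `θ` invariant in `L`:
the characters of `L` over `θ` form a block of `L` of full defect. -/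
theorem ppow_block (hM : IsPModular p M) (K L : Subgroup G) (hKL : K ≤ L) [Fintype K]
    (hKn : ∀ l ∈ L, ∀ k ∈ K, l * k * l⁻¹ ∈ K)
    (hKp : ¬ p ∣ Nat.card K) (hLK : ∃ a : ℕ, K.relIndex L = p ^ a) (θ : IrrCharacter K)
    (hθ : ∀ g ∈ L, IsConjCharOf K g (θ : K → ℂ) (θ : K → ℂ)) :
    IsPBlock M (irrOverIn K L hKL (θ : K → ℂ)) ∧
      blockDefect p (irrOverIn K L hKL (θ : K → ℂ)) = (Nat.card L).factorization p := by
  classical
  let _ : Fintype ↥L := Fintype.ofFinite _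
  let N : Subgroup ↥L := K.subgroupOf L
  let _ : Fintype ↥N := Fintype.ofFinite _
  have hN : N.Normal := by
    constructor
    intro n hn g
    rw [Subgroup.mem_subgroupOf] at hn ⊢
    exact hKn g g.2 n hn
  let e : ↥N ≃* ↥K := Subgroup.subgroupOfEquivOfLe hKL
  have he : ∀ n : ↥N, ((e n : ↥K) : G) = ((n : ↥L) : G) := fun n => rfl
  have hNp : ¬ p ∣ Nat.card N := by
    rw [Nat.card_congr e.toEquiv]
    exact hKp
  let θ' : IrrCharacter ↥N := ⟨(θ : K → ℂ) ∘ e, isIrrCharacter_comp_mulEquiv' e θ.2⟩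
  have hinv : ∀ g : ↥L, ∀ θ₂ : IrrCharacter ↥N,
      (∀ n : ↥N, (θ₂ : ↥N → ℂ) n = (θ' : ↥N → ℂ) ⟨g * n * g⁻¹, hN.conj_mem n n.2 g⟩) → θ₂ = θ' := by
    intro g θ₂ h2
    apply Subtype.ext
    funext n
    rw [h2 n]
    exact hθ (g : G) g.2 (e n) (e ⟨g * n * g⁻¹, hN.conj_mem n n.2 g⟩) rfl
  have hset : irrOverIn K L hKL (θ : K → ℂ) =
      {ψ : IrrCharacter ↥L | classInner (fun n : ↥N => (ψ : ↥L → ℂ) n) (θ' : ↥N → ℂ) ≠ 0} := by
    ext ψ
    have h1 := classInner_comp_mulEquiv e (fun k : K => (ψ : ↥L → ℂ) ⟨(k : G), hKL k.2⟩) (θ : K → ℂ)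
    show classInner (fun k : K => (ψ : ↥L → ℂ) ⟨(k : G), hKL k.2⟩) (θ : K → ℂ) ≠ 0 ↔
      classInner (fun n : ↥N => (ψ : ↥L → ℂ) n) ((θ : K → ℂ) ∘ e) ≠ 0
    rw [← h1]
    rfl
  rw [hset]
  exact ppow_block_normal N hM hNp hLK θ' hinv

end Cfsg.Agent.Lib.Helper7.FPTPPOW
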