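import Cfsg.Agent.Lib.Helper7.G2ClsId
import Cfsg.Agent.Lib.Helper7.ChevOrderG2

/-! Conjugacy classes of involutions of `G₂(F)`, characteristic two (helper7). -/

set_option autoImplicit false

namespace Cfsg.Agent.Lib.Helper7.G2Cls

open Cfsg Cfsg.Lie Matrix
open Cfsg.Agent.Lib.Helper7 Cfsg.Agent.Lib.Helper7.G2Inv
open scoped Pointwise

section
variable (F : Type*) [Field F]

/-- conjugacy in `G₂(F)` -/
def Cj (x y : GL chevG2.Idx F) : Prop := ∃ h ∈ chevG2.group F, h * x * h⁻¹ = y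

variable {F}

theorem Cj.refl (x : GL chevG2.Idx F) : Cj F x x := ⟨1, Subgroup.one_mem _, by simp⟩

theorem Cj.trans {x y z : GL chevG2.Idx F} (h1 : Cj F x y) (h2 : Cj F y z) : Cj F x z := by
  obtain ⟨a, ha, rfl⟩ := h1
  obtain ⟨b, hb, rfl⟩ := h2
  exact ⟨b * a, Subgroup.mul_mem _ hb ha, by group⟩

theorem Cj.of_eq {x y : GL chevG2.Idx F} (h : x = y) : Cj F x y := h ▸ Cj.refl x

variable (F)

theorem cj_xGL (r : ℕ) (s : F) (x : GL chevG2.Idx F) :
    Cj F x (xGL chevG2 hG2 F r s * x * (xGL chevG2 hG2 F r s)⁻¹) :=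
  ⟨xGL chevG2 hG2 F r s, xGL_mem_group chevG2 hG2 F r s, rfl⟩

/-- the parameters of the normal form as a function of the root -/
def tau6 (b a c d e f : F) : ℕ → F
  | 6 => b
  | 7 => a
  | 8 => c
  | 9 => d
  | 10 => e
  | 11 => f
  | _ => 0

theorem ordProd_tau6 (b a c d e f : F) :
    ordProd chevG2 hG2 F chevG2.posRoots (tau6 F b a c d e f) = nf6 F b a c d e f := by
  unfold ordProd nf6
  rw [posRoots_G2]
  rfl

theorem exists_nf6 (u : GL chevG2.Idx F) (hu : u ∈ chevG2.posUnipotent F) :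
    ∃ b a c d e f : F, u = nf6 F b a c d e f := by
  obtain ⟨w, hO⟩ := exists_ordW chevG2 hG2
  have hA := chainAdd_linF chevG2 hG2 w
  have hG := goodL_posRoots chevG2
  rw [posUnipotent_eq_closure_gensL] at hu
  obtain ⟨τ, rfl⟩ := exists_ordProd chevG2 hG2 F _ hA hO _ hG u hu
  refine ⟨τ 6, τ 7, τ 8, τ 9, τ 10, τ 11, ?_⟩
  unfold ordProd nf6
  rw [posRoots_G2]
  rfl

theorem nf6_inj (b a c d e f b' a' c' d' e' f' : F) (h : nf6 F b a c d e f = nf6 F b' a' c' d' e' f') :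
    b = b' ∧ a = a' ∧ c = c' ∧ d = d' ∧ e = e' ∧ f = f' := by
  obtain ⟨w, hO⟩ := exists_ordW chevG2 hG2
  have hA := chainAdd_linF chevG2 hG2 w
  have hG := goodL_posRoots chevG2
  rw [← ordProd_tau6, ← ordProd_tau6] at h
  have key := ordProd_inj chevG2 hG2 F _ hA hO _ hG _ _ h
  rw [posRoots_G2] at key
  exact ⟨key 6 (by simp), key 7 (by simp), key 8 (by simp), key 9 (by simp), key 10 (by simp),
    key 11 (by simp)⟩

theorem nf6_mem (b a c d e f : F) : nf6 F b a c d e f ∈ chevG2.posUnipotent F := by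
  rw [← ordProd_tau6, posUnipotent_eq_closure_gensL]
  exact ordProd_mem chevG2 hG2 F _ _

theorem nf6_eq (b a c d e f : F) : nf6 F b a c d e f =
    xGL chevG2 hG2 F 6 b * (xGL chevG2 hG2 F 7 a * (xGL chevG2 hG2 F 8 c * (xGL chevG2 hG2 F 9 d *
      (xGL chevG2 hG2 F 10 e * xGL chevG2 hG2 F 11 f)))) := by
  unfold nf6
  simp only [wordGL_cons, wordGL_nil, mul_one]

theorem nf6_q3 (d e f : F) : nf6 F 0 0 0 d e f = q3 F d e f := by
  rw [nf6_eq, xGL_zero, xGL_zero, xGL_zero, one_mul, one_mul, one_mul]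
  unfold q3
  group

/-- conjugation by the torus element `h_{p_i}(λ)` -/
theorem cj_torus (i : ℕ) (hi : i < chevG2.rank) (lam : F) (hl : lam ≠ 0) (r : ℕ) (c : F) :
    Cj F (xGL chevG2 hG2 F r c) (xGL chevG2 hG2 F r (lam ^ chevG2.cartan i r * c)) := by
  have hχ := chainChar_prodChar chevG2 hG2 F [i] (by simpa using hi) (fun _ => lam) (fun _ => hl)
  have hm := wordMat_flatMap_hWord chevG2 hG2 F (fun _ => lam) [i] (by simpa using ⟨hi, hl⟩)
  obtain ⟨h, hh⟩ : ∃ h, h = wordGL chevG2 hG2 F ([i].flatMap fun j => chevG2.hWord (chevG2.simple j) lam) :=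
    ⟨_, rfl⟩
  have hhm : (h : Matrix chevG2.Idx chevG2.Idx F) =
      diagChar chevG2 F (prodChar chevG2 F [i] (fun _ => lam)) := by
    rw [hh, coe_wordGL, hm]
  have hhG : h ∈ chevG2.group F := by
    rw [hh]
    simp only [List.flatMap_cons, List.flatMap_nil, List.append_nil]
    exact borel_le_group chevG2 hG2 F (diagonal_le_borel chevG2 hG2 F
      (hGL_mem_diagonalSubgroup chevG2 hG2 F _ ((parFacts_of_mem chevG2 hG2).simplePos i hi).1 lam hl))
  refine ⟨h, hhG, ?_⟩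
  rw [diagGL_xGL_comm chevG2 hG2 F h _ hχ hhm, mul_assoc, mul_inv_cancel, mul_one]
  congr 1
  unfold prodChar
  simp


/-- conjugation by the Weyl element `n_{p_i}` -/
theorem cj_weyl1 (i : ℕ) (hi : i < chevG2.rank) (r : ℕ) (hr : r < chevG2.nroots) (c : F) :
    ∃ k : F, k ≠ 0 ∧ Cj F (xGL chevG2 hG2 F r c) (xGL chevG2 hG2 F (chevG2.reflectRoot i r) (k * c)) := by
  obtain ⟨-, k, hk, h⟩ := actsAs_nFund chevG2 hG2 F i hi r hr
  exact ⟨k, hk, nFund chevG2 hG2 F i, monomial_le_group chevG2 hG2 F (nFund_mem_monomial chevG2 hG2 F i hi), h c⟩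

theorem cj_weyl2 (i : ℕ) (hi : i < chevG2.rank) (r1 r2 : ℕ) (hr1 : r1 < chevG2.nroots)
    (hr2 : r2 < chevG2.nroots) (c1 c2 : F) :
    ∃ k1 k2 : F, k1 ≠ 0 ∧ k2 ≠ 0 ∧ Cj F (xGL chevG2 hG2 F r1 c1 * xGL chevG2 hG2 F r2 c2)
      (xGL chevG2 hG2 F (chevG2.reflectRoot i r1) (k1 * c1) *
        xGL chevG2 hG2 F (chevG2.reflectRoot i r2) (k2 * c2)) := by
  obtain ⟨-, k1, hk1, h1⟩ := actsAs_nFund chevG2 hG2 F i hi r1 hr1
  obtain ⟨-, k2, hk2, h2⟩ := actsAs_nFund chevG2 hG2 F i hi r2 hr2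
  refine ⟨k1, k2, hk1, hk2, nFund chevG2 hG2 F i,
    monomial_le_group chevG2 hG2 F (nFund_mem_monomial chevG2 hG2 F i hi), ?_⟩
  rw [← h1 c1, ← h2 c2]
  group

theorem refl_facts : chevG2.reflectRoot 0 8 = 9 ∧ chevG2.reflectRoot 1 7 = 8 ∧ chevG2.reflectRoot 1 10 = 11 ∧
    chevG2.reflectRoot 0 6 = 10 ∧ chevG2.reflectRoot 1 11 = 10 ∧ chevG2.reflectRoot 0 9 = 8 := by decide

theorem cartan_facts : chevG2.cartan 0 9 = 1 ∧ chevG2.cartan 1 11 = 1 := by decide

theorem cj_x9 (c : F) (hc : c ≠ 0) : Cj F (xGL chevG2 hG2 F 9 c) (xGL chevG2 hG2 F 9 1) := by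
  have h := cj_torus F 0 (by rw [rank_G2]; omega) c⁻¹ (inv_ne_zero hc) 9 c
  rw [cartan_facts.1, zpow_one, inv_mul_cancel₀ hc] at h
  exact h

theorem cj_x11 (c : F) (hc : c ≠ 0) : Cj F (xGL chevG2 hG2 F 11 c) (xGL chevG2 hG2 F 11 1) := by
  have h := cj_torus F 1 (by rw [rank_G2]; omega) c⁻¹ (inv_ne_zero hc) 11 c
  rw [cartan_facts.2, zpow_one, inv_mul_cancel₀ hc] at h
  exact h

theorem cj_x8 (c : F) (hc : c ≠ 0) : Cj F (xGL chevG2 hG2 F 8 c) (xGL chevG2 hG2 F 9 1) := by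
  obtain ⟨k, hk, h⟩ := cj_weyl1 F 0 (by rw [rank_G2]; omega) 8 (by rw [nroots_G2]; omega) c
  rw [refl_facts.1] at h
  exact h.trans (cj_x9 F _ (mul_ne_zero hk hc))

theorem cj_x7 (c : F) (hc : c ≠ 0) : Cj F (xGL chevG2 hG2 F 7 c) (xGL chevG2 hG2 F 9 1) := by
  obtain ⟨k, hk, h⟩ := cj_weyl1 F 1 (by rw [rank_G2]; omega) 7 (by rw [nroots_G2]; omega) c
  rw [refl_facts.2.1] at h
  exact h.trans (cj_x8 F _ (mul_ne_zero hk hc))

theorem cj_x10 (c : F) (hc : c ≠ 0) : Cj F (xGL chevG2 hG2 F 10 c) (xGL chevG2 hG2 F 11 1) := by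
  obtain ⟨k, hk, h⟩ := cj_weyl1 F 1 (by rw [rank_G2]; omega) 10 (by rw [nroots_G2]; omega) c
  rw [refl_facts.2.2.1] at h
  exact h.trans (cj_x11 F _ (mul_ne_zero hk hc))

theorem cj_x6 (c : F) (hc : c ≠ 0) : Cj F (xGL chevG2 hG2 F 6 c) (xGL chevG2 hG2 F 11 1) := by
  obtain ⟨k, hk, h⟩ := cj_weyl1 F 0 (by rw [rank_G2]; omega) 6 (by rw [nroots_G2]; omega) c
  rw [refl_facts.2.2.2.1] at h
  exact h.trans (cj_x10 F _ (mul_ne_zero hk hc))

theorem nf6_x8x10 (a f : F) : nf6 F 0 0 a 0 f 0 = xGL chevG2 hG2 F 8 a * xGL chevG2 hG2 F 10 f := by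
  rw [nf6_eq, xGL_zero, xGL_zero, xGL_zero, xGL_zero, one_mul, one_mul, one_mul, mul_one]

theorem nf6_x8 (a : F) : nf6 F 0 0 a 0 0 0 = xGL chevG2 hG2 F 8 a := by
  rw [nf6_x8x10, xGL_zero, mul_one]

section char2
variable [Fintype F] [CharP F 2]

theorem exists_sqrt (y : F) : ∃ s : F, s ^ 2 = y := by
  have : Fact (Nat.Prime 2) := ⟨Nat.prime_two⟩
  obtain ⟨s, hs⟩ := surjective_frobenius F 2 y
  exact ⟨s, hs⟩

/-- the product of commuting short and long root elements is conjugate to a short root element -/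
theorem cj_pair (a f : F) (ha : a ≠ 0) :
    Cj F (xGL chevG2 hG2 F 8 a * xGL chevG2 hG2 F 10 f) (xGL chevG2 hG2 F 9 1) := by
  obtain ⟨s, hs⟩ := exists_sqrt F (f / a)
  have e1 := p1_id F a s 0 0
  have hf : a * s ^ 2 = f := by rw [hs]; field_simp
  rw [hf] at e1
  have e2 := p2_id F a (a * s) 0 0
  have hf2 : a * (a * s) = a ^ 2 * s := by ring
  rw [hf2] at e2
  rw [← nf6_x8x10]
  refine (cj_xGL F 7 s _).trans ?_
  rw [e1]
  refine (cj_xGL F 9 (a * s) _).trans ?_
  rw [e2, nf6_x8]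
  exact cj_x8 F a ha


theorem two_F : (2 : F) = 0 := by
  have := CharP.cast_eq_zero F 2
  exact_mod_cast this

theorem nf6_one : nf6 F 0 0 0 0 0 0 = 1 := by
  rw [nf6_eq, xGL_zero, xGL_zero, xGL_zero, xGL_zero, xGL_zero, xGL_zero]
  group

theorem nf6_x7x11 (a f : F) : nf6 F 0 a 0 0 0 f = xGL chevG2 hG2 F 7 a * xGL chevG2 hG2 F 11 f := by
  rw [nf6_eq, xGL_zero, xGL_zero, xGL_zero, xGL_zero, one_mul, one_mul, one_mul, one_mul]

theorem nf6_x6x9 (b d : F) : nf6 F b 0 0 d 0 0 = xGL chevG2 hG2 F 6 b * xGL chevG2 hG2 F 9 d := by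
  rw [nf6_eq, xGL_zero, xGL_zero, xGL_zero, xGL_zero, one_mul, one_mul, mul_one, mul_one]

/-- classification of the involutions of `U` up to conjugacy -/
theorem invol_U (u : GL chevG2.Idx F) (hu : u ∈ chevG2.posUnipotent F) (h2 : u * u = 1) (h1 : u ≠ 1) :
    Cj F u (xGL chevG2 hG2 F 11 1) ∨ Cj F u (xGL chevG2 hG2 F 9 1) := by
  have h2F := two_F F
  obtain ⟨b, a, c, d, e, f, rfl⟩ := exists_nf6 F u hu
  have hz := z0_id F b a c d e f
  rw [h2, ← nf6_one F] at hz
  obtain ⟨-, -, h8, -, h10, h11⟩ := nf6_inj F _ _ _ _ _ _ _ _ _ _ _ _ hz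
  obtain ⟨n910, n911, n1011, n810, n811, n710, n711, n69, n611, n59⟩ := nc_facts
  by_cases ha : a = 0
  · subst ha
    have h11' : b * e + c * d = 0 := by rw [h11]; ring
    by_cases hb : b = 0
    · subst hb
      have hcd : c * d = 0 := by rw [← h11']; ring
      by_cases hc : c = 0
      · subst hc
        rw [nf6_q3] at h1 ⊢
        by_cases hd : d = 0
        · subst hd
          left
          by_cases he : e = 0
          · subst he
            have hf : f ≠ 0 := by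
              rintro rfl
              apply h1
              unfold q3
              rw [xGL_zero, xGL_zero, xGL_zero]; group
            rw [← x11_eq]
            exact cj_x11 F f hf
          · refine (cj_xGL F 6 (f / e) _).trans ?_
            rw [conj6]
            have : f + f / e * e = 0 := by
              field_simp
              linear_combination f * h2F
            rw [this, ← x10_eq]
            exact cj_x10 F e he
        · right
          refine (cj_xGL F 7 (e / d) _).trans ?_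
          rw [conj7]
          have e1 : e + 3 * (e / d) * d = 0 := by
            field_simp
            linear_combination 2 * e * h2F
          rw [e1]
          refine (cj_xGL F 8 (f / d) _).trans ?_
          rw [conj8]
          have e2 : f + 3 * (f / d) * d = 0 := by
            field_simp
            linear_combination 2 * f * h2F
          rw [e2, ← x9_eq]
          exact cj_x9 F d hd
      · right
        have hd : d = 0 := by
          rcases mul_eq_zero.mp hcd with h | h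
          · exact absurd h hc
          · exact h
        subst hd
        have e1 := b4_id F c (f / c) e
        have hf : c * (f / c) = f := by field_simp
        rw [hf] at e1
        refine (cj_xGL F 9 (f / c) _).trans ?_
        rw [e1, nf6_x8x10]
        exact cj_pair F c e hc
    · -- `b ≠ 0`
      have hc : c = b * (c / b) := by field_simp
      have he : e = c / b * d := by
        field_simp
        linear_combination h11' - c * d * h2F
      have e1 := b1_id F b (c / b) d f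
      rw [← hc, ← he] at e1
      obtain ⟨d', hd'⟩ : ∃ d', d' = b * (c / b) ^ 2 + d := ⟨_, rfl⟩
      obtain ⟨f', hf'⟩ : ∃ f', f' = b ^ 2 * (c / b) ^ 3 + f := ⟨_, rfl⟩
      rw [← hd', ← hf'] at e1
      have step1 : Cj F (nf6 F b 0 c d e f) (nf6 F b 0 0 d' 0 f') := by
        have := cj_xGL F 7 (c / b) (nf6 F b 0 c d e f)
        rwa [e1] at this
      have e2 := b2_id F b (f' / b) d' 0
      have hf2 : b * (f' / b) = f' := by field_simp
      rw [hf2] at e2
      have step2 : Cj F (nf6 F b 0 0 d' 0 f') (xGL chevG2 hG2 F 6 b * xGL chevG2 hG2 F 9 d') := by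
        have := cj_xGL F 10 (f' / b) (nf6 F b 0 0 d' 0 f')
        rwa [e2, nf6_x6x9] at this
      have step := step1.trans step2
      by_cases hd0 : d' = 0
      · left
        rw [hd0, xGL_zero, mul_one] at step
        exact step.trans (cj_x6 F b hb)
      · right
        obtain ⟨k1, k2, hk1, hk2, hcj⟩ := cj_weyl2 F 0 (by rw [rank_G2]; omega) 6 9 (by rw [nroots_G2]; omega)
          (by rw [nroots_G2]; omega) b d'
        rw [refl_facts.2.2.2.1, refl_facts.2.2.2.2.2] at hcj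
        refine step.trans (hcj.trans ?_)
        rw [← (n810.commute chevG2 hG2 F (k2 * d') (k1 * b)).eq]
        exact cj_pair F _ _ (mul_ne_zero hk2 hd0)
  · -- `a ≠ 0`
    right
    have hb : b = 0 := by
      rcases mul_eq_zero.mp h8.symm with h | h
      · exact h
      · exact absurd h ha
    subst hb
    have hd : d = a * c := by
      have h : a * (a * c + d) = 0 := by rw [h10]; ring
      rcases mul_eq_zero.mp h with h | h
      · exact absurd h ha
      · linear_combination h - a * c * h2F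
    have hc : c = a * (c / a) := by field_simp
    have hd2 : d = a ^ 2 * (c / a) := by rw [hd]; field_simp
    have e1 := a1_id F a (c / a) e f
    rw [← hc, ← hd2] at e1
    refine (cj_xGL F 6 (c / a) _).trans ?_
    rw [e1]
    obtain ⟨e', he'⟩ : ∃ e', e' = a ^ 3 * (c / a) + e := ⟨_, rfl⟩
    obtain ⟨f', hf'⟩ : ∃ f', f' = a ^ 3 * (c / a) ^ 2 + c / a * e + f := ⟨_, rfl⟩
    rw [← he', ← hf']
    have e2 := a2_id F a (e' / a) 0 f'
    have he2 : a * (e' / a) = e' := by field_simp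
    rw [he2] at e2
    refine (cj_xGL F 9 (e' / a) _).trans ?_
    rw [e2, nf6_x7x11]
    by_cases hf0 : f' = 0
    · rw [hf0, xGL_zero, mul_one]
      exact cj_x7 F a ha
    · obtain ⟨k1, k2, hk1, hk2, hcj⟩ := cj_weyl2 F 1 (by rw [rank_G2]; omega) 7 11 (by rw [nroots_G2]; omega)
        (by rw [nroots_G2]; omega) a f'
      rw [refl_facts.2.1, refl_facts.2.2.2.2.1] at hcj
      exact hcj.trans (cj_pair F _ _ (mul_ne_zero hk1 ha))


theorem card_F : ∃ n : ℕ, 1 ≤ n ∧ Fintype.card F = 2 ^ n := by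
  obtain ⟨n, -, hn⟩ := FiniteField.card F 2
  exact ⟨n, n.pos, hn⟩

/-- every involution of `G` is conjugate to an element of `U` -/
theorem conj_into_U (g : GL chevG2.Idx F) (hg : g ∈ chevG2.group F) (ho : orderOf g = 2) :
    ∃ h ∈ chevG2.group F, h * g * h⁻¹ ∈ chevG2.posUnipotent F := by
  have : Fact (Nat.Prime 2) := ⟨Nat.prime_two⟩
  obtain ⟨n, hn1, hq⟩ := card_F F
  have hUG : chevG2.posUnipotent F ≤ chevG2.group F :=
    le_trans (posUnipotent_le_borel chevG2 hG2 F) (borel_le_group chevG2 hG2 F)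
  obtain ⟨U', hU'⟩ : ∃ U' : Subgroup ↥(chevG2.group F),
      U' = (chevG2.posUnipotent F).subgroupOf (chevG2.group F) := ⟨_, rfl⟩
  have hcardU : Nat.card U' = 2 ^ (n * 6) := by
    rw [hU', Nat.card_congr (Subgroup.subgroupOfEquivOfLe hUG).toEquiv, card_posUnipotent chevG2 hG2 F, hq,
      ← pow_mul]
    rfl
  have hcardG := card_group_G2 F
  rw [hq] at hcardG
  have hP1 : IsPGroup 2 U' := IsPGroup.of_card hcardU
  have hP2 : ¬ 2 ∣ U'.index := by
    have h1 := U'.card_mul_index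
    rw [hcardU, hcardG, pow_mul, mul_assoc] at h1
    have hpos : 0 < (2 ^ n) ^ 6 := by positivity
    have h2 : U'.index = ((2 ^ n) ^ 2 - 1) * ((2 ^ n) ^ 6 - 1) :=
      Nat.eq_of_mul_eq_mul_left hpos h1
    rw [h2]
    have hodd : ∀ k : ℕ, 1 ≤ k → ¬ 2 ∣ (2 ^ n) ^ k - 1 := by
      intro k hk hdvd
      have h3 : 2 ∣ (2 ^ n) ^ k := by
        rw [← pow_mul]
        exact dvd_pow_self 2 (by have : 0 < n * k := Nat.mul_pos (by omega) (by omega); omega)
      have h4 : 1 ≤ (2 ^ n) ^ k := Nat.one_le_pow _ _ (by positivity)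
      omega
    intro hdvd
    rcases (Nat.Prime.dvd_mul Nat.prime_two).mp hdvd with h | h
    · exact hodd 2 (by omega) h
    · exact hodd 6 (by omega) h
  obtain ⟨P, hP⟩ : ∃ P : Sylow 2 ↥(chevG2.group F), P = hP1.toSylow hP2 := ⟨_, rfl⟩
  have hg' : orderOf (⟨g, hg⟩ : ↥(chevG2.group F)) = 2 := by
    rw [← ho]
    exact Subgroup.orderOf_mk g hg
  have hZ : IsPGroup 2 (Subgroup.zpowers (⟨g, hg⟩ : ↥(chevG2.group F))) := by
    apply IsPGroup.of_card (n := 1)
    rw [Nat.card_zpowers, hg', pow_one]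
  obtain ⟨Q, hQ⟩ := hZ.exists_le_sylow
  obtain ⟨k, hk⟩ := MulAction.exists_smul_eq ↥(chevG2.group F) Q P
  have hgQ : (⟨g, hg⟩ : ↥(chevG2.group F)) ∈ (Q : Subgroup ↥(chevG2.group F)) :=
    hQ (Subgroup.mem_zpowers _)
  have h1 : MulAut.conj k • (⟨g, hg⟩ : ↥(chevG2.group F)) ∈ MulAut.conj k • (Q : Subgroup ↥(chevG2.group F)) :=
    Subgroup.smul_mem_pointwise_smul _ _ _ hgQ
  rw [← Sylow.coe_subgroup_smul, hk, hP, IsPGroup.toSylow_coe, hU', Subgroup.mem_subgroupOf] at h1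
  refine ⟨k, k.2, ?_⟩
  simpa [MulAut.smul_def, MulAut.conj_apply] using h1

end char2

/-- the image of the highest root under an element of the Weyl group is a long root -/
def tabR : List ℕ → Prop
  | [_, _, _, _, _, _, _, _, _, _, _, p11] => p11 ≠ 9
  | _ => True

instance : DecidablePred tabR := fun p => by
  unfold tabR
  split <;> infer_instance

theorem tabR_all : ∀ p ∈ wTab, tabR p := by decide

theorem highOKB_G2 : highOKB chevG2 = true := by decide

/-- the long and the short root elements are not conjugate -/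
theorem not_cj_z_t : ¬ Cj F (xGL chevG2 hG2 F 11 1) (xGL chevG2 hG2 F 9 1) := by
  rintro ⟨h, hh, he⟩
  obtain ⟨b, hb, n, hn, u, hu, rfl⟩ := canon_exists chevG2 hG2 F h hh
  have huU := uMinus_le_posUnipotent chevG2 F n hu
  have hcomm : u * xGL chevG2 hG2 F 11 1 = xGL chevG2 hG2 F 11 1 * u :=
    pos_comm_high chevG2 hG2 F highOKB_G2 u huU 1
  have key : n * xGL chevG2 hG2 F 11 1 * n⁻¹ = b⁻¹ * xGL chevG2 hG2 F 9 1 * b⁻¹⁻¹ := by
    rw [← he]
    have : b * n * u * xGL chevG2 hG2 F 11 1 * (b * n * u)⁻¹ =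
        b * n * (u * xGL chevG2 hG2 F 11 1) * u⁻¹ * n⁻¹ * b⁻¹ := by group
    rw [this, hcomm]
    group
  obtain ⟨L, hL, hact⟩ := exists_actsAs chevG2 hG2 F n hn
  obtain ⟨w, hw⟩ : ∃ w, w = reflWord chevG2 L := ⟨_, rfl⟩
  rw [← hw] at hact
  obtain ⟨h11lt, k, hk, e11⟩ := hact 11 (by rw [nroots_G2]; omega)
  obtain ⟨k2, hk2, hy⟩ := borel_conj F b⁻¹ (Subgroup.inv_mem _ hb)
  obtain ⟨α, β, hy1⟩ := hy 1 0 0
  rw [← x9_eq] at hy1
  rw [e11 1, hy1] at key
  have hM : chevG2.x F (w 11) (k * 1) = chevG2.x F 9 (k2 * 1) * chevG2.x F 10 α * chevG2.x F 11 β := by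
    rw [← coe_q3, ← key, coe_xGL]
  obtain ⟨i12, i13, i23⟩ := inert_facts
  have e1 := x_mulVec_vH chevG2 F (w 11) h11lt (k * 1) ⟨0, by rw [rank_G2]; omega⟩
  have e2 := col3 chevG2 F 9 10 11 i12 i13 i23 (k2 * 1) α β ⟨0, by rw [rank_G2]; omega⟩
  rw [hM, e2] at e1
  have e3 := congrFun e1 (Sum.inr ⟨9, i12.1⟩)
  have ne : ∀ s (hs : s < chevG2.nroots), s ≠ 9 → vE chevG2 F s hs (Sum.inr ⟨9, i12.1⟩) = 0 := by
    intro s hs hne
    unfold vE
    apply Pi.single_eq_of_ne
    intro hh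
    exact hne (congrArg Fin.val (Sum.inr.inj hh)).symm
  have e0 : vH chevG2 F ⟨0, by rw [rank_G2]; omega⟩ (Sum.inr ⟨9, i12.1⟩) = 0 := by
    unfold vH
    apply Pi.single_eq_of_ne
    intro hh; cases hh
  have e4 : vE chevG2 F 9 i12.1 (Sum.inr ⟨9, i12.1⟩) = 1 := by
    unfold vE
    exact Pi.single_eq_same _ _
  have hp : [w 0, w 1, w 2, w 3, w 4, w 5, w 6, w 7, w 8, w 9, w 10, w 11] ∈ wTab := by
    rw [hw]
    exact reflWord_mem_wTab L (fun i hi => by have := hL i hi; rwa [rank_G2] at this)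
  have hne9 : w 11 ≠ 9 := tabR_all _ hp
  simp only [Pi.sub_apply, Pi.smul_apply, smul_eq_mul] at e3
  rw [e0, e4, ne 10 _ (by omega), ne 11 _ (by omega), ne (w 11) h11lt hne9, cartan_vals.1] at e3
  apply hk2
  have := e3
  simp at this
  exact this

theorem eq_of_coe_mem (y : GL chevG2.Idx F)
    (h : (y : Matrix chevG2.Idx chevG2.Idx F) ∈ [chevG2.x F 11 1, chevG2.x F 9 1]) :
    y = xGL chevG2 hG2 F 11 1 ∨ y = xGL chevG2 hG2 F 9 1 := by
  simp only [List.mem_cons, List.not_mem_nil, or_false] at h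
  rcases h with h | h
  · left; exact Units.ext (by rw [h, coe_xGL])
  · right; exact Units.ext (by rw [h, coe_xGL])

theorem orderOf_xGL_one [CharP F 2] (r : ℕ) (hr : r < chevG2.nroots) : orderOf (xGL chevG2 hG2 F r 1) = 2 := by
  have : Fact (Nat.Prime 2) := ⟨Nat.prime_two⟩
  apply orderOf_eq_prime
  · rw [pow_two, xGL_mul]
    have : (1 : F) + 1 = 0 := by
      have := CharP.cast_eq_zero F 2
      push_cast at this
      linear_combination this
    rw [this, xGL_zero]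
  · exact xGL_one_ne_one chevG2 hG2 F r hr

/-- the two classes of involutions of `G₂(F)`, `F` a finite field of characteristic two -/
theorem g2_invol_classes [Fintype F] [CharP F 2] :
    (∀ y : GL chevG2.Idx F, ((y : GL chevG2.Idx F) : Matrix chevG2.Idx chevG2.Idx F) ∈
        [chevG2.x F 11 1, chevG2.x F 9 1] → y ∈ chevG2.group F ∧ orderOf y = 2) ∧
    (∀ g ∈ chevG2.group F, orderOf g = 2 → ∃ y ∈ chevG2.group F,
      ((y : GL chevG2.Idx F) : Matrix chevG2.Idx chevG2.Idx F) ∈ [chevG2.x F 11 1, chevG2.x F 9 1] ∧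
        ∃ h ∈ chevG2.group F, h * g * h⁻¹ = y) ∧
    (∀ y₁ ∈ chevG2.group F, ∀ y₂ ∈ chevG2.group F,
      ((y₁ : GL chevG2.Idx F) : Matrix chevG2.Idx chevG2.Idx F) ∈ [chevG2.x F 11 1, chevG2.x F 9 1] →
      ((y₂ : GL chevG2.Idx F) : Matrix chevG2.Idx chevG2.Idx F) ∈ [chevG2.x F 11 1, chevG2.x F 9 1] →
      (∃ h ∈ chevG2.group F, h * y₁ * h⁻¹ = y₂) →
        ((y₁ : GL chevG2.Idx F) : Matrix chevG2.Idx chevG2.Idx F) =
          ((y₂ : GL chevG2.Idx F) : Matrix chevG2.Idx chevG2.Idx F)) := by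
  refine ⟨?_, ?_, ?_⟩
  · intro y hy
    rcases eq_of_coe_mem F y hy with rfl | rfl
    · exact ⟨xGL_mem_group chevG2 hG2 F 11 1, orderOf_xGL_one F 11 (by rw [nroots_G2]; omega)⟩
    · exact ⟨xGL_mem_group chevG2 hG2 F 9 1, orderOf_xGL_one F 9 (by rw [nroots_G2]; omega)⟩
  · intro g hg ho
    obtain ⟨h, hh, hu⟩ := conj_into_U F g hg ho
    have hg2 : g * g = 1 := by
      have := pow_orderOf_eq_one g
      rwa [ho, pow_two] at this
    have h2 : (h * g * h⁻¹) * (h * g * h⁻¹) = 1 := by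
      have : (h * g * h⁻¹) * (h * g * h⁻¹) = h * (g * g) * h⁻¹ := by group
      rw [this, hg2]; group
    have h1 : h * g * h⁻¹ ≠ 1 := by
      intro h1
      have : g = 1 := by
        have : g = h⁻¹ * (h * g * h⁻¹) * h := by group
        rw [this, h1]; group
      rw [this, orderOf_one] at ho
      omega
    have hcj : Cj F g (h * g * h⁻¹) := ⟨h, hh, rfl⟩
    rcases invol_U F _ hu h2 h1 with hc | hc
    · obtain ⟨k, hk, hke⟩ := hcj.trans hc
      exact ⟨xGL chevG2 hG2 F 11 1, xGL_mem_group chevG2 hG2 F 11 1, by rw [coe_xGL]; simp, k, hk, hke⟩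
    · obtain ⟨k, hk, hke⟩ := hcj.trans hc
      exact ⟨xGL chevG2 hG2 F 9 1, xGL_mem_group chevG2 hG2 F 9 1, by rw [coe_xGL]; simp, k, hk, hke⟩
  · intro y₁ _ y₂ _ hy₁ hy₂ hc
    rcases eq_of_coe_mem F y₁ hy₁ with rfl | rfl <;> rcases eq_of_coe_mem F y₂ hy₂ with rfl | rfl
    · rfl
    · exact absurd hc (not_cj_z_t F)
    · exfalso
      obtain ⟨h, hh, he⟩ := hc
      apply not_cj_z_t F
      refine ⟨h⁻¹, Subgroup.inv_mem _ hh, ?_⟩
      rw [← he]; group
    · rfl

end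

end Cfsg.Agent.Lib.Helper7.G2Cls
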