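import Cfsg.Agent.Lib.Helper7.G2InvCol
import Cfsg.Agent.Lib.Helper7.ChevRootCent
import Cfsg.Agent.Lib.Helper7.ChevTwistRank1

set_option autoImplicit false

namespace Cfsg.Agent.Lib.Helper7.G2Inv

open Cfsg Cfsg.Lie Matrix
open Cfsg.Agent.Lib.Helper7

theorem hG2 : chevG2 ∈ [chevG2, chevB2, chevD4, chevF4, chevE6, chevE7, chevE8] := List.mem_cons_self

/-- the Weyl group of type `G₂` as permutations of the roots -/
def wTab : List (List ℕ) :=
  [[0,1,2,3,4,5,6,7,8,9,10,11],[0,5,3,2,7,1,10,4,9,8,6,11],[1,0,2,4,3,6,5,8,7,9,11,10],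
   [1,6,4,2,8,0,11,3,9,7,5,10],[5,0,3,7,2,10,1,9,4,8,11,6],[5,10,7,3,9,0,11,2,8,4,1,6],
   [6,1,4,8,2,11,0,9,3,7,10,5],[6,11,8,4,9,1,10,2,7,3,0,5],[10,5,7,9,3,11,0,8,2,4,6,1],
   [10,11,9,7,8,5,6,3,4,2,0,1],[11,6,8,9,4,10,1,7,2,3,5,0],[11,10,9,8,7,6,5,4,3,2,1,0]]

theorem wTab_closed : ∀ p ∈ wTab, ∀ i < 2, p.map (chevG2.reflectRoot i) ∈ wTab := by decide

theorem reflWord_mem_wTab : ∀ L : List ℕ, (∀ i ∈ L, i < 2) →
    (List.range 12).map (reflWord chevG2 L) ∈ wTab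
  | [], _ => by decide
  | i :: L, hL => by
    have ih := reflWord_mem_wTab L (fun j hj => hL j (List.mem_cons_of_mem _ hj))
    have := wTab_closed _ ih i (hL i List.mem_cons_self)
    rw [List.map_map] at this
    exact this

/-- table facts on an element of the Weyl group -/
def tabP : List ℕ → Prop
  | [_, _, _, _, _, _, _, _, _, p9, p10, p11] =>
    Inert chevG2 p9 p10 ∧ Inert chevG2 p9 p11 ∧ Inert chevG2 p10 p11
  | _ => True

instance : DecidablePred tabP := fun p => by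
  unfold tabP
  split <;> infer_instance

theorem tabP_all : ∀ p ∈ wTab, tabP p := by decide

/-- if the image of `9` is in `{9, 10, 11}`, the element is `1` or `w_b` -/
def tabQ : List ℕ → Prop
  | [p0, p1, p2, p3, p4, p5, p6, p7, p8, p9, p10, p11] =>
    (p9 = 9 ∨ p9 = 10 ∨ p9 = 11) →
      [p0, p1, p2, p3, p4, p5, p6, p7, p8, p9, p10, p11] = [0,1,2,3,4,5,6,7,8,9,10,11] ∨
      [p0, p1, p2, p3, p4, p5, p6, p7, p8, p9, p10, p11] = [1,0,2,4,3,6,5,8,7,9,11,10]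
  | _ => True

instance : DecidablePred tabQ := fun p => by
  unfold tabQ
  split <;> infer_instance

theorem tabQ_all : ∀ p ∈ wTab, tabQ p := by decide

theorem cartan_odd : ∀ r < 12, ∃ i : Fin chevG2.rank, ¬ (2 : ℤ) ∣ chevG2.cartan i.val r := by decide

theorem reflB_tab : (List.range 12).map (chevG2.reflectRoot 1) = [1,0,2,4,3,6,5,8,7,9,11,10] := by decide

theorem neg_of_reflB : ∀ r < 12, chevG2.IsPosRoot r → chevG2.IsNegRoot (chevG2.reflectRoot 1 r) → r = 6 := by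
  decide


theorem nc_facts : NC chevG2 9 10 ∧ NC chevG2 9 11 ∧ NC chevG2 10 11 ∧ NC chevG2 8 10 ∧ NC chevG2 8 11 ∧
    NC chevG2 7 10 ∧ NC chevG2 7 11 ∧ NC chevG2 6 9 ∧ NC chevG2 6 11 ∧ NC chevG2 5 9 := by decide

theorem inert_facts : Inert chevG2 9 10 ∧ Inert chevG2 9 11 ∧ Inert chevG2 10 11 := by decide

theorem nroots_G2 : chevG2.nroots = 12 := by decide

theorem neg_facts : chevG2.neg 8 = 3 ∧ chevG2.neg 7 = 4 ∧ chevG2.neg 6 = 5 := by decide

theorem commTerms_facts : chevG2.commTerms 8 9 = [(11, 3, 1, 1)] ∧ chevG2.commTerms 7 9 = [(10, 3, 1, 1)] ∧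
    chevG2.commTerms 6 10 = [(11, 1, 1, 1)] := by decide

section
variable (F : Type*) [Field F]

/-- elements of `Q = X_9 X_10 X_11` -/
noncomputable def q3 (c α β : F) : GL chevG2.Idx F :=
  xGL chevG2 hG2 F 9 c * xGL chevG2 hG2 F 10 α * xGL chevG2 hG2 F 11 β

theorem q3_mul (c α β c' α' β' : F) :
    q3 F c α β * q3 F c' α' β' = q3 F (c + c') (α + α') (β + β') := by
  obtain ⟨n910, n911, n1011, -⟩ := nc_facts
  unfold q3
  have e1 := (n911.commute chevG2 hG2 F c' β).eq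
  have e2 := (n910.commute chevG2 hG2 F c' α).eq
  have e3 := (n1011.commute chevG2 hG2 F α' β).eq
  calc xGL chevG2 hG2 F 9 c * xGL chevG2 hG2 F 10 α * xGL chevG2 hG2 F 11 β *
        (xGL chevG2 hG2 F 9 c' * xGL chevG2 hG2 F 10 α' * xGL chevG2 hG2 F 11 β')
      = xGL chevG2 hG2 F 9 c * xGL chevG2 hG2 F 10 α * (xGL chevG2 hG2 F 11 β * xGL chevG2 hG2 F 9 c') *
          xGL chevG2 hG2 F 10 α' * xGL chevG2 hG2 F 11 β' := by group
    _ = xGL chevG2 hG2 F 9 c * (xGL chevG2 hG2 F 10 α * xGL chevG2 hG2 F 9 c') *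
          (xGL chevG2 hG2 F 11 β * xGL chevG2 hG2 F 10 α') * xGL chevG2 hG2 F 11 β' := by
        rw [← e1]; group
    _ = (xGL chevG2 hG2 F 9 c * xGL chevG2 hG2 F 9 c') * (xGL chevG2 hG2 F 10 α * xGL chevG2 hG2 F 10 α') *
          (xGL chevG2 hG2 F 11 β * xGL chevG2 hG2 F 11 β') := by
        rw [← e2, ← e3]; group
    _ = _ := by rw [xGL_mul, xGL_mul, xGL_mul]

theorem q3_comm (c α β c' α' β' : F) :
    q3 F c α β * q3 F c' α' β' = q3 F c' α' β' * q3 F c α β := by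
  rw [q3_mul, q3_mul, add_comm c, add_comm α, add_comm β]

theorem q3_inv (c α β : F) : (q3 F c α β)⁻¹ = q3 F (-c) (-α) (-β) := by
  rw [inv_eq_iff_mul_eq_one, q3_mul]
  unfold q3
  simp [xGL_zero]

theorem x9_eq (c : F) : xGL chevG2 hG2 F 9 c = q3 F c 0 0 := by
  unfold q3; rw [xGL_zero, xGL_zero, mul_one, mul_one]

theorem x10_eq (c : F) : xGL chevG2 hG2 F 10 c = q3 F 0 c 0 := by
  unfold q3; rw [xGL_zero, xGL_zero, mul_one, one_mul]

theorem x11_eq (c : F) : xGL chevG2 hG2 F 11 c = q3 F 0 0 c := by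
  unfold q3; rw [xGL_zero, xGL_zero, one_mul, one_mul]

/-- conjugation of an element of `Q` from the conjugates of its factors -/
theorem conj_q3 (A : GL chevG2.Idx F) (c α β f g h : F)
    (h9 : A * xGL chevG2 hG2 F 9 c * A⁻¹ = q3 F c f g)
    (h10 : A * xGL chevG2 hG2 F 10 α * A⁻¹ = q3 F 0 α h)
    (h11 : A * xGL chevG2 hG2 F 11 β * A⁻¹ = q3 F 0 0 β) :
    A * q3 F c α β * A⁻¹ = q3 F c (α + f) (β + g + h) := by
  have e : A * q3 F c α β * A⁻¹ = (A * xGL chevG2 hG2 F 9 c * A⁻¹) * (A * xGL chevG2 hG2 F 10 α * A⁻¹) *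
      (A * xGL chevG2 hG2 F 11 β * A⁻¹) := by unfold q3; group
  rw [e, h9, h10, h11, q3_mul, q3_mul]
  congr 1 <;> ring

theorem commWord_single (r s k : ℕ) (C : ℤ) (i j : ℕ) (h : chevG2.commTerms r s = [(k, C, i, j)])
    (t u : F) : wordGL chevG2 hG2 F (chevG2.commWord F r s t u) =
      xGL chevG2 hG2 F k ((C : F) * (-t) ^ i * u ^ j) := by
  unfold ChevalleyDatum.commWord
  rw [h]
  simp [wordGL]

theorem conj_of_nc {r s : ℕ} (h : NC chevG2 r s) (u t : F) :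
    xGL chevG2 hG2 F r u * xGL chevG2 hG2 F s t * (xGL chevG2 hG2 F r u)⁻¹ = xGL chevG2 hG2 F s t := by
  rw [(h.commute chevG2 hG2 F u t).eq, mul_assoc, mul_inv_cancel, mul_one]

theorem conj8 (u c α β : F) :
    xGL chevG2 hG2 F 8 u * q3 F c α β * (xGL chevG2 hG2 F 8 u)⁻¹ = q3 F c α (β + 3 * u * c) := by
  obtain ⟨n910, n911, n1011, n810, n811, n710, n711, n69, n611, n59⟩ := nc_facts
  have h9 : xGL chevG2 hG2 F 8 u * xGL chevG2 hG2 F 9 c * (xGL chevG2 hG2 F 8 u)⁻¹ =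
      q3 F c 0 (3 * u * c) := by
    rw [xGL_conj_xGL chevG2 hG2 F 8 9 (by rw [nroots_G2]; omega) (by rw [nroots_G2]; omega) (by omega) (by rw [neg_facts.1]; omega),
      commWord_single F 8 9 11 3 1 1 commTerms_facts.1, x9_eq, x11_eq, q3_mul]
    congr 1 <;> simp
  have h10 := (conj_of_nc F n810 u α).trans (x10_eq F α)
  have h11 := (conj_of_nc F n811 u β).trans (x11_eq F β)
  rw [conj_q3 F _ c α β 0 (3 * u * c) 0 h9 h10 h11]
  congr 1 <;> ring

theorem conj7 (u c α β : F) :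
    xGL chevG2 hG2 F 7 u * q3 F c α β * (xGL chevG2 hG2 F 7 u)⁻¹ = q3 F c (α + 3 * u * c) β := by
  obtain ⟨n910, n911, n1011, n810, n811, n710, n711, n69, n611, n59⟩ := nc_facts
  have h9 : xGL chevG2 hG2 F 7 u * xGL chevG2 hG2 F 9 c * (xGL chevG2 hG2 F 7 u)⁻¹ =
      q3 F c (3 * u * c) 0 := by
    rw [xGL_conj_xGL chevG2 hG2 F 7 9 (by rw [nroots_G2]; omega) (by rw [nroots_G2]; omega) (by omega) (by rw [neg_facts.2.1]; omega),
      commWord_single F 7 9 10 3 1 1 commTerms_facts.2.1, x9_eq, x10_eq, q3_mul]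
    congr 1 <;> simp
  have h10 := (conj_of_nc F n710 u α).trans (x10_eq F α)
  have h11 := (conj_of_nc F n711 u β).trans (x11_eq F β)
  rw [conj_q3 F _ c α β (3 * u * c) 0 0 h9 h10 h11]
  congr 1 <;> ring

theorem conj6 (u c α β : F) :
    xGL chevG2 hG2 F 6 u * q3 F c α β * (xGL chevG2 hG2 F 6 u)⁻¹ = q3 F c α (β + u * α) := by
  obtain ⟨n910, n911, n1011, n810, n811, n710, n711, n69, n611, n59⟩ := nc_facts
  have h10 : xGL chevG2 hG2 F 6 u * xGL chevG2 hG2 F 10 α * (xGL chevG2 hG2 F 6 u)⁻¹ =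
      q3 F 0 α (u * α) := by
    rw [xGL_conj_xGL chevG2 hG2 F 6 10 (by rw [nroots_G2]; omega) (by rw [nroots_G2]; omega) (by omega) (by rw [neg_facts.2.2]; omega),
      commWord_single F 6 10 11 1 1 1 commTerms_facts.2.2, x10_eq, x11_eq, q3_mul]
    congr 1 <;> simp
  have h9 := (conj_of_nc F n69 u c).trans (x9_eq F c)
  have h11 := (conj_of_nc F n611 u β).trans (x11_eq F β)
  rw [conj_q3 F _ c α β 0 0 (u * α) h9 h10 h11]
  congr 1 <;> ring

theorem posRoots_G2 : chevG2.posRoots = [6, 7, 8, 9, 10, 11] := by decide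

/-- conjugation of `Q` by an element of `U` -/
theorem conjU (u : GL chevG2.Idx F) (hu : u ∈ chevG2.posUnipotent F) :
    ∃ τ : ℕ → F, u = xGL chevG2 hG2 F 6 (τ 6) * (xGL chevG2 hG2 F 7 (τ 7) * (xGL chevG2 hG2 F 8 (τ 8) *
        q3 F (τ 9) (τ 10) (τ 11))) ∧
      ∀ c α β : F, u * q3 F c α β * u⁻¹ =
        q3 F c (α + 3 * τ 7 * c) (β + 3 * τ 8 * c + τ 6 * (α + 3 * τ 7 * c)) := by
  obtain ⟨w, hO⟩ := exists_ordW chevG2 hG2
  have hA := chainAdd_linF chevG2 hG2 w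
  have hG := goodL_posRoots chevG2
  rw [posUnipotent_eq_closure_gensL] at hu
  obtain ⟨τ, rfl⟩ := exists_ordProd chevG2 hG2 F _ hA hO _ hG u hu
  have e : ordProd chevG2 hG2 F chevG2.posRoots τ =
      xGL chevG2 hG2 F 6 (τ 6) * (xGL chevG2 hG2 F 7 (τ 7) * (xGL chevG2 hG2 F 8 (τ 8) *
        q3 F (τ 9) (τ 10) (τ 11))) := by
    rw [posRoots_G2, ordProd_cons, ordProd_cons, ordProd_cons, ordProd_cons, ordProd_cons, ordProd_cons,
      ordProd_nil, mul_one]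
    unfold q3
    group
  refine ⟨τ, e, fun c α β => ?_⟩
  rw [e]
  have e2 : xGL chevG2 hG2 F 6 (τ 6) * (xGL chevG2 hG2 F 7 (τ 7) * (xGL chevG2 hG2 F 8 (τ 8) *
        q3 F (τ 9) (τ 10) (τ 11))) * q3 F c α β *
      (xGL chevG2 hG2 F 6 (τ 6) * (xGL chevG2 hG2 F 7 (τ 7) * (xGL chevG2 hG2 F 8 (τ 8) *
        q3 F (τ 9) (τ 10) (τ 11))))⁻¹ =
      xGL chevG2 hG2 F 6 (τ 6) * (xGL chevG2 hG2 F 7 (τ 7) * (xGL chevG2 hG2 F 8 (τ 8) *
        (q3 F (τ 9) (τ 10) (τ 11) * q3 F c α β * (q3 F (τ 9) (τ 10) (τ 11))⁻¹) *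
        (xGL chevG2 hG2 F 8 (τ 8))⁻¹) * (xGL chevG2 hG2 F 7 (τ 7))⁻¹) * (xGL chevG2 hG2 F 6 (τ 6))⁻¹ := by
    group
  rw [e2, q3_comm F (τ 9), mul_assoc (q3 F c α β), mul_inv_cancel, mul_one, conj8, conj7, conj6]


theorem conjH (h : GL chevG2.Idx F) (χ : ℕ → F) (hχ : ChainChar chevG2 F χ)
    (hh : (h : Matrix chevG2.Idx chevG2.Idx F) = diagChar chevG2 F χ) (c α β : F) :
    h * q3 F c α β * h⁻¹ = q3 F (χ 9 * c) (χ 10 * α) (χ 11 * β) := by
  have e : ∀ s t, h * xGL chevG2 hG2 F s t * h⁻¹ = xGL chevG2 hG2 F s (χ s * t) := by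
    intro s t
    rw [diagGL_xGL_comm chevG2 hG2 F h χ hχ hh, mul_assoc, mul_inv_cancel, mul_one]
  have e' : h * q3 F c α β * h⁻¹ = (h * xGL chevG2 hG2 F 9 c * h⁻¹) * (h * xGL chevG2 hG2 F 10 α * h⁻¹) *
      (h * xGL chevG2 hG2 F 11 β * h⁻¹) := by unfold q3; group
  rw [e', e, e, e]
  rfl

/-- `B` stabilises the set of elements of `Q` with non-zero `X_9`-coordinate -/
theorem borel_conj (b : GL chevG2.Idx F) (hb : b ∈ chevG2.borelSubgroup F) :
    ∃ k : F, k ≠ 0 ∧ ∀ c α β : F, ∃ α' β' : F, b * q3 F c α β * b⁻¹ = q3 F (k * c) α' β' := by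
  have hb' : b ∈ ((chevG2.borelSubgroup F : Subgroup _) : Set (GL chevG2.Idx F)) := hb
  rw [borel_eq_mul chevG2 hG2 F] at hb'
  obtain ⟨h, hh, u, hu, rfl⟩ := Set.mem_mul.mp hb'
  obtain ⟨χ, hχ, hhm⟩ := mem_diagonalSubgroup_char chevG2 hG2 F h hh
  obtain ⟨τ, -, hconj⟩ := conjU F u hu
  refine ⟨χ 9, hχ.ne0 9 (by rw [nroots_G2]; omega), fun c α β => ?_⟩
  have e : h * u * q3 F c α β * (h * u)⁻¹ = h * (u * q3 F c α β * u⁻¹) * h⁻¹ := by group
  rw [e, hconj, conjH F h χ hχ hhm]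
  exact ⟨_, _, rfl⟩

theorem cartan_vals : chevG2.cartan 0 9 = 1 ∧ chevG2.cartan 1 9 = 0 ∧ chevG2.cartan 1 10 = -1 ∧
    chevG2.cartan 1 11 = 1 := by decide

theorem coe_q3 (c α β : F) : ((q3 F c α β : GL chevG2.Idx F) : Matrix chevG2.Idx chevG2.Idx F) =
    chevG2.x F 9 c * chevG2.x F 10 α * chevG2.x F 11 β := by
  unfold q3
  rw [Units.val_mul, Units.val_mul, coe_xGL, coe_xGL, coe_xGL]

theorem q3_inj (c α β c' α' β' : F) (h : q3 F c α β = q3 F c' α' β') : c = c' ∧ α = α' ∧ β = β' := by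
  obtain ⟨i12, i13, i23⟩ := inert_facts
  obtain ⟨a09, a19, a110, a111⟩ := cartan_vals
  have hM : chevG2.x F 9 c * chevG2.x F 10 α * chevG2.x F 11 β =
      chevG2.x F 9 c' * chevG2.x F 10 α' * chevG2.x F 11 β' := by
    rw [← coe_q3, ← coe_q3, h]
  have ne : ∀ s (hs : s < chevG2.nroots) r (hr : r < chevG2.nroots), r ≠ s →
      vE chevG2 F s hs (Sum.inr ⟨r, hr⟩) = 0 := by
    intro s hs r hr hne
    unfold vE
    apply Pi.single_eq_of_ne
    intro hh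
    exact hne (congrArg Fin.val (Sum.inr.inj hh))
  have e0 : ∀ (i : Fin chevG2.rank) r (hr : r < chevG2.nroots), vH chevG2 F i (Sum.inr ⟨r, hr⟩) = 0 := by
    intro i r hr
    unfold vH
    apply Pi.single_eq_of_ne
    intro hh; cases hh
  have e4 : ∀ r (hr : r < chevG2.nroots), vE chevG2 F r hr (Sum.inr ⟨r, hr⟩) = 1 := by
    intro r hr
    unfold vE
    exact Pi.single_eq_same _ _
  have k0 := col3 chevG2 F 9 10 11 i12 i13 i23 c α β ⟨0, by decide⟩
  have k0' := col3 chevG2 F 9 10 11 i12 i13 i23 c' α' β' ⟨0, by decide⟩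
  have k1 := col3 chevG2 F 9 10 11 i12 i13 i23 c α β ⟨1, by decide⟩
  have k1' := col3 chevG2 F 9 10 11 i12 i13 i23 c' α' β' ⟨1, by decide⟩
  rw [hM, k0'] at k0
  rw [hM, k1'] at k1
  have h9 := congrFun k0 (Sum.inr ⟨9, i12.1⟩)
  have h10 := congrFun k1 (Sum.inr ⟨10, i12.2.1⟩)
  have h11 := congrFun k1 (Sum.inr ⟨11, i13.2.1⟩)
  simp only [Pi.sub_apply, Pi.smul_apply, smul_eq_mul] at h9 h10 h11
  rw [e0, e4, ne 10 _ 9 _ (by omega), ne 11 _ 9 _ (by omega), a09] at h9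
  rw [e0, e4, ne 9 _ 10 _ (by omega), ne 11 _ 10 _ (by omega), a110] at h10
  rw [e0, e4, ne 9 _ 11 _ (by omega), ne 10 _ 11 _ (by omega), a111] at h11
  refine ⟨?_, ?_, ?_⟩
  · have := h9; simp at this; exact this.symm
  · have := h10; simp at this; exact this.symm
  · have := h11; simp at this; exact this.symm

theorem rank_G2 : chevG2.rank = 2 := by decide

/-- an element of `N` conjugating an element of `Q` with non-zero `X_9`-coordinate into `Q` acts on the roots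
as `1` or as `w_b` -/
theorem weyl_step [CharP F 2] (n : GL chevG2.Idx F) (hn : n ∈ chevG2.monomialSubgroup F)
    (k1 α1 β1 k2 α2 β2 : F) (hk1 : k1 ≠ 0) (h : n * q3 F k1 α1 β1 * n⁻¹ = q3 F k2 α2 β2) :
    ∃ f : ℕ → ℕ, ActsAs chevG2 hG2 F n f ∧
      ((∀ s < 12, f s = s) ∨ (∀ s < 12, f s = chevG2.reflectRoot 1 s)) := by
  obtain ⟨L, hL, hact⟩ := exists_actsAs chevG2 hG2 F n hn
  refine ⟨reflWord chevG2 L, hact, ?_⟩
  obtain ⟨w, hw⟩ : ∃ w, w = reflWord chevG2 L := ⟨_, rfl⟩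
  rw [← hw] at hact ⊢
  obtain ⟨h9lt, c9, hc9, e9⟩ := hact 9 (by rw [nroots_G2]; omega)
  obtain ⟨h10lt, c10, hc10, e10⟩ := hact 10 (by rw [nroots_G2]; omega)
  obtain ⟨h11lt, c11, hc11, e11⟩ := hact 11 (by rw [nroots_G2]; omega)
  have e : n * q3 F k1 α1 β1 * n⁻¹ = xGL chevG2 hG2 F (w 9) (c9 * k1) * xGL chevG2 hG2 F (w 10) (c10 * α1) *
      xGL chevG2 hG2 F (w 11) (c11 * β1) := by
    have : n * q3 F k1 α1 β1 * n⁻¹ = (n * xGL chevG2 hG2 F 9 k1 * n⁻¹) * (n * xGL chevG2 hG2 F 10 α1 * n⁻¹) *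
        (n * xGL chevG2 hG2 F 11 β1 * n⁻¹) := by unfold q3; group
    rw [this, e9, e10, e11]
  rw [e] at h
  have hM : chevG2.x F (w 9) (c9 * k1) * chevG2.x F (w 10) (c10 * α1) * chevG2.x F (w 11) (c11 * β1) =
      chevG2.x F 9 k2 * chevG2.x F 10 α2 * chevG2.x F 11 β2 := by
    rw [← coe_q3, ← h, Units.val_mul, Units.val_mul, coe_xGL, coe_xGL, coe_xGL]
  have hp : [w 0, w 1, w 2, w 3, w 4, w 5, w 6, w 7, w 8, w 9, w 10, w 11] ∈ wTab := by
    rw [hw]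
    exact reflWord_mem_wTab L (fun i hi => by have := hL i hi; rwa [rank_G2] at this)
  obtain ⟨i12, i13, i23⟩ : Inert chevG2 (w 9) (w 10) ∧ Inert chevG2 (w 9) (w 11) ∧
      Inert chevG2 (w 10) (w 11) := tabP_all _ hp
  obtain ⟨i, hi⟩ := cartan_odd (w 9) (by rw [nroots_G2] at h9lt; exact h9lt)
  have hA : ((chevG2.cartan i.val (w 9) : ℤ) : F) ≠ 0 := by
    intro h0
    rw [CharP.intCast_eq_zero_iff F 2] at h0
    exact hi (by exact_mod_cast h0)
  have hmem := root_mem_of_prod_eq chevG2 F (w 9) (w 10) (w 11) 9 10 11 i12 i13 i23 inert_facts.1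
    inert_facts.2.1 inert_facts.2.2 _ _ _ _ _ _ hM i hA (mul_ne_zero hc9 hk1)
  have hQ : [w 0, w 1, w 2, w 3, w 4, w 5, w 6, w 7, w 8, w 9, w 10, w 11] = [0,1,2,3,4,5,6,7,8,9,10,11] ∨
      [w 0, w 1, w 2, w 3, w 4, w 5, w 6, w 7, w 8, w 9, w 10, w 11] = [1,0,2,4,3,6,5,8,7,9,11,10] :=
    tabQ_all _ hp hmem
  rcases hQ with hQ | hQ
  · left
    simp only [List.cons.injEq, and_true] at hQ
    obtain ⟨q0, q1, q2, q3, q4, q5, q6, q7, q8, q9, q10, q11⟩ := hQ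
    intro s hs
    interval_cases s <;> assumption
  · right
    have hr : [chevG2.reflectRoot 1 0, chevG2.reflectRoot 1 1, chevG2.reflectRoot 1 2, chevG2.reflectRoot 1 3,
        chevG2.reflectRoot 1 4, chevG2.reflectRoot 1 5, chevG2.reflectRoot 1 6, chevG2.reflectRoot 1 7,
        chevG2.reflectRoot 1 8, chevG2.reflectRoot 1 9, chevG2.reflectRoot 1 10, chevG2.reflectRoot 1 11] =
        [1,0,2,4,3,6,5,8,7,9,11,10] := reflB_tab
    have hQ' := hQ.trans hr.symm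
    simp only [List.cons.injEq, and_true] at hQ'
    obtain ⟨q0, q1, q2, q3, q4, q5, q6, q7, q8, q9, q10, q11⟩ := hQ'
    intro s hs
    interval_cases s <;> assumption


theorem pos_not_neg : ∀ r < 12, chevG2.IsPosRoot r → ¬ chevG2.IsNegRoot r := by decide

theorem reflB_invol : ∀ s < 12, chevG2.reflectRoot 1 s < 12 ∧
    chevG2.reflectRoot 1 (chevG2.reflectRoot 1 s) = s := by decide

theorem uMinus_le (n : GL chevG2.Idx F) (f : ℕ → ℕ) (hact : ActsAs chevG2 hG2 F n f)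
    (hf : (∀ s < 12, f s = s) ∨ (∀ s < 12, f s = chevG2.reflectRoot 1 s)) :
    uMinus chevG2 F n ≤ chevG2.rootSubgroup F 6 := by
  unfold uMinus
  rw [Subgroup.closure_le]
  rintro x ⟨r, t, hr, hle, hx⟩
  have hx' : x = xGL chevG2 hG2 F r t := Units.ext (by rw [hx, coe_xGL])
  rw [map_conj_le_iff chevG2 hG2 F] at hle
  obtain ⟨hlt, c, hc, hconj⟩ := hact r hr.1
  have hneg : chevG2.IsNegRoot (f r) := by
    apply isNegRoot_of_mem chevG2 hG2 F _ hlt
    intro t'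
    have := hle (c⁻¹ * t')
    rw [hconj, ← mul_assoc, mul_inv_cancel₀ hc, one_mul] at this
    exact this
  have hr12 : r < 12 := hr.1
  rcases hf with hf | hf
  · rw [hf r hr12] at hneg
    exact absurd hneg (pos_not_neg r hr12 hr)
  · rw [hf r hr12] at hneg
    have := neg_of_reflB r hr12 hr hneg
    subst this
    rw [hx']
    exact (mem_rootSubgroup_iff chevG2 hG2 F 6 _).mpr ⟨t, rfl⟩

/-- the centraliser of `x_9(1)` -/
def cent9 : Subgroup (GL chevG2.Idx F) :=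
  chevG2.rootSubgroup F 9 ⊔ chevG2.rootSubgroup F 10 ⊔ chevG2.rootSubgroup F 11 ⊔ chevG2.rootSubgroup F 6 ⊔
    chevG2.rootSubgroup F 5

theorem rootSubgroup_le_cent9 (r : ℕ) (hr : r = 9 ∨ r = 10 ∨ r = 11 ∨ r = 6 ∨ r = 5) :
    chevG2.rootSubgroup F r ≤ cent9 F := by
  unfold cent9
  rcases hr with rfl | rfl | rfl | rfl | rfl
  · exact le_trans le_sup_left (le_trans le_sup_left (le_trans le_sup_left le_sup_left))
  · exact le_trans le_sup_right (le_trans le_sup_left (le_trans le_sup_left le_sup_left))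
  · exact le_trans le_sup_right (le_trans le_sup_left le_sup_left)
  · exact le_trans le_sup_right le_sup_left
  · exact le_sup_right

theorem xGL_mem_cent9 (r : ℕ) (hr : r = 9 ∨ r = 10 ∨ r = 11 ∨ r = 6 ∨ r = 5) (t : F) :
    xGL chevG2 hG2 F r t ∈ cent9 F :=
  rootSubgroup_le_cent9 F r hr ((mem_rootSubgroup_iff chevG2 hG2 F r _).mpr ⟨t, rfl⟩)

theorem q3_mem_cent9 (c α β : F) : q3 F c α β ∈ cent9 F := by
  unfold q3
  exact Subgroup.mul_mem _ (Subgroup.mul_mem _ (xGL_mem_cent9 F 9 (by simp) c) (xGL_mem_cent9 F 10 (by simp) α))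
    (xGL_mem_cent9 F 11 (by simp) β)

theorem comm9 (r : ℕ) (hr : r = 9 ∨ r = 10 ∨ r = 11 ∨ r = 6 ∨ r = 5) (t c : F) :
    xGL chevG2 hG2 F 9 c * xGL chevG2 hG2 F r t = xGL chevG2 hG2 F r t * xGL chevG2 hG2 F 9 c := by
  obtain ⟨n910, n911, n1011, n810, n811, n710, n711, n69, n611, n59⟩ := nc_facts
  rcases hr with rfl | rfl | rfl | rfl | rfl
  · rw [xGL_mul, xGL_mul, add_comm]
  · exact (n910.commute chevG2 hG2 F c t).eq
  · exact (n911.commute chevG2 hG2 F c t).eq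
  · exact (n69.commute chevG2 hG2 F t c).eq.symm
  · exact (n59.commute chevG2 hG2 F t c).eq.symm

theorem cent9_le (c : F) :
    cent9 F ≤ chevG2.group F ⊓ Subgroup.centralizer {xGL chevG2 hG2 F 9 c} := by
  have key : ∀ r, (r = 9 ∨ r = 10 ∨ r = 11 ∨ r = 6 ∨ r = 5) →
      chevG2.rootSubgroup F r ≤ chevG2.group F ⊓ Subgroup.centralizer {xGL chevG2 hG2 F 9 c} := by
    intro r hr x hx
    obtain ⟨t, rfl⟩ := (mem_rootSubgroup_iff chevG2 hG2 F r x).mp hx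
    rw [Subgroup.mem_inf, Subgroup.mem_centralizer_singleton_iff]
    exact ⟨xGL_mem_group chevG2 hG2 F r t, (comm9 F r hr t c).symm⟩
  unfold cent9
  exact sup_le (sup_le (sup_le (sup_le (key 9 (by simp)) (key 10 (by simp))) (key 11 (by simp)))
    (key 6 (by simp))) (key 5 (by simp))

theorem cent9_comm (m : GL chevG2.Idx F) (hm : m ∈ cent9 F) (c : F) :
    xGL chevG2 hG2 F 9 c * m = m * xGL chevG2 hG2 F 9 c := by
  have := cent9_le F c hm
  rw [Subgroup.mem_inf, Subgroup.mem_centralizer_singleton_iff] at this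
  exact this.2.symm

theorem simple_G2 : chevG2.simple 1 = 6 ∧ chevG2.simple 0 = 7 := by decide

theorem nFund_mem_cent9 : nFund chevG2 hG2 F 1 ∈ cent9 F := by
  unfold nFund
  rw [nGL_eq, simple_G2.1, neg_facts.2.2]
  exact Subgroup.mul_mem _ (Subgroup.mul_mem _ (xGL_mem_cent9 F 6 (by simp) _) (xGL_mem_cent9 F 5 (by simp) _))
    (xGL_mem_cent9 F 6 (by simp) _)

theorem rk1_le_cent9 : rk1 chevG2 F 6 ≤ cent9 F := by
  unfold rk1
  rw [Subgroup.closure_le]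
  rintro x ⟨r, hr, t, hx⟩
  have hx' : x = xGL chevG2 hG2 F r t := Units.ext (by rw [hx, coe_xGL])
  rw [hx']
  rw [neg_facts.2.2] at hr
  simp only [List.mem_cons, List.not_mem_nil, or_false] at hr
  rcases hr with rfl | rfl
  · exact xGL_mem_cent9 F 6 (by simp) t
  · exact xGL_mem_cent9 F 5 (by simp) t

theorem range_rank : List.range chevG2.rank = [0, 1] := by decide

/-- the centraliser of `x_9(1)` in `B` -/
theorem borel_cent [CharP F 2] (b : GL chevG2.Idx F) (hb : b ∈ chevG2.borelSubgroup F)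
    (hbt : xGL chevG2 hG2 F 9 1 * b = b * xGL chevG2 hG2 F 9 1) : b ∈ cent9 F := by
  have hb' : b ∈ ((chevG2.borelSubgroup F : Subgroup _) : Set (GL chevG2.Idx F)) := hb
  rw [borel_eq_mul chevG2 hG2 F] at hb'
  obtain ⟨h, hh, u, hu, rfl⟩ := Set.mem_mul.mp hb'
  obtain ⟨cc, hcc, hhm⟩ := mem_diagonalSubgroup_prodChar chevG2 hG2 F h hh
  have hχ := chainChar_prodChar chevG2 hG2 F (List.range chevG2.rank) (fun i hi => List.mem_range.mp hi) cc hcc
  obtain ⟨χ, hχdef⟩ : ∃ χ, χ = prodChar chevG2 F (List.range chevG2.rank) cc := ⟨_, rfl⟩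
  rw [← hχdef] at hχ hhm
  obtain ⟨τ, hu_eq, hconj⟩ := conjU F u hu
  have e : h * u * q3 F 1 0 0 * (h * u)⁻¹ = q3 F (χ 9 * 1) (χ 10 * (0 + 3 * τ 7 * 1))
      (χ 11 * (0 + 3 * τ 8 * 1 + τ 6 * (0 + 3 * τ 7 * 1))) := by
    have : h * u * q3 F 1 0 0 * (h * u)⁻¹ = h * (u * q3 F 1 0 0 * u⁻¹) * h⁻¹ := by group
    rw [this, hconj, conjH F h χ hχ hhm]
  have e2 : h * u * q3 F 1 0 0 * (h * u)⁻¹ = q3 F 1 0 0 := by
    rw [← x9_eq, ← hbt]; group
  rw [e2] at e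
  obtain ⟨e9, e10, e11⟩ := q3_inj F _ _ _ _ _ _ e
  have h2 : (2 : F) = 0 := by
    have := CharP.cast_eq_zero F 2
    exact_mod_cast this
  have h3 : (3 : F) = 1 := by linear_combination h2
  have hχ10 : χ 10 ≠ 0 := hχ.ne0 10 (by rw [nroots_G2]; omega)
  have hχ11 : χ 11 ≠ 0 := hχ.ne0 11 (by rw [nroots_G2]; omega)
  have hτ7 : τ 7 = 0 := by
    rw [h3] at e10
    rcases mul_eq_zero.mp e10.symm with h0 | h0
    · exact absurd h0 hχ10
    · simpa using h0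
  have hτ8 : τ 8 = 0 := by
    rw [h3, hτ7] at e11
    rcases mul_eq_zero.mp e11.symm with h0 | h0
    · exact absurd h0 hχ11
    · simpa using h0
  have hc0 : cc 0 = 1 := by
    have : χ 9 = cc 0 := by
      rw [hχdef]
      unfold prodChar
      rw [range_rank]
      simp [cartan_vals.1, cartan_vals.2.1]
    rw [← this]
    simpa using e9.symm
  have hh' : h = wordGL chevG2 hG2 F ((List.range chevG2.rank).flatMap fun i =>
      chevG2.hWord (chevG2.simple i) (cc i)) := by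
    apply Units.ext
    rw [coe_wordGL, hhm, hχdef,
      wordMat_flatMap_hWord chevG2 hG2 F cc _ (fun i hi => ⟨List.mem_range.mp hi, hcc i⟩)]
  apply Subgroup.mul_mem
  · rw [hh', range_rank]
    simp only [List.flatMap_cons, List.flatMap_nil, List.append_nil]
    rw [wordGL_append, hc0, hGL_one, one_mul, simple_G2.1]
    exact rk1_le_cent9 F (hGL_mem_rk1 chevG2 F hG2 6 (cc 1))
  · rw [hu_eq, hτ7, hτ8, xGL_zero, xGL_zero, one_mul, one_mul]
    exact Subgroup.mul_mem _ (xGL_mem_cent9 F 6 (by simp) _) (q3_mem_cent9 F _ _ _)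

omit [Field F] in
theorem comm_of_mul {G : Type*} [Group G] (t b m g : G) (hg : g = b * m) (hgt : t * g = g * t)
    (hmt : t * m = m * t) : t * b = b * t := by
  subst hg
  have : t * b * m = b * t * m := by
    calc t * b * m = t * (b * m) := by group
      _ = b * m * t := hgt
      _ = b * (m * t) := by group
      _ = b * (t * m) := by rw [hmt]
      _ = b * t * m := by group
  exact mul_right_cancel this

/-- the centraliser of `x_9(1)` in `G` -/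
theorem centralizer_x9 [CharP F 2] (t : GL chevG2.Idx F)
    (ht : (t : Matrix chevG2.Idx chevG2.Idx F) = chevG2.x F 9 1) :
    chevG2.group F ⊓ Subgroup.centralizer {t} = cent9 F := by
  have ht' : t = xGL chevG2 hG2 F 9 1 := Units.ext (by rw [ht, coe_xGL])
  rw [ht']
  apply le_antisymm _ (cent9_le F 1)
  intro g hg
  rw [Subgroup.mem_inf, Subgroup.mem_centralizer_singleton_iff] at hg
  obtain ⟨hgG, hgt'⟩ := hg
  have hgt := hgt'.symm
  obtain ⟨b, hb, n, hn, u, hu, hgeq⟩ := canon_exists chevG2 hG2 F g hgG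
  have huU := uMinus_le_posUnipotent chevG2 F n hu
  obtain ⟨k1, hk1, hy⟩ := borel_conj F u (posUnipotent_le_borel chevG2 hG2 F huU)
  obtain ⟨α1, β1, hy1⟩ := hy 1 0 0
  obtain ⟨k2, hk2, hy'⟩ := borel_conj F b⁻¹ (Subgroup.inv_mem _ hb)
  obtain ⟨α2, β2, hy2⟩ := hy' 1 0 0
  have key : n * q3 F (k1 * 1) α1 β1 * n⁻¹ = q3 F (k2 * 1) α2 β2 := by
    rw [← hy1, ← hy2, ← x9_eq]
    have e1 : xGL chevG2 hG2 F 9 1 * (b * n * u) = (b * n * u) * xGL chevG2 hG2 F 9 1 := by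
      rw [← hgeq]; exact hgt
    calc n * (u * xGL chevG2 hG2 F 9 1 * u⁻¹) * n⁻¹
        = b⁻¹ * ((b * n * u) * xGL chevG2 hG2 F 9 1) * u⁻¹ * n⁻¹ := by group
      _ = b⁻¹ * (xGL chevG2 hG2 F 9 1 * (b * n * u)) * u⁻¹ * n⁻¹ := by rw [e1]
      _ = b⁻¹ * xGL chevG2 hG2 F 9 1 * b⁻¹⁻¹ := by group
  obtain ⟨f, hact, hf⟩ := weyl_step F n hn _ _ _ _ _ _ (mul_ne_zero hk1 one_ne_zero) key
  have hu6 : u ∈ cent9 F := rootSubgroup_le_cent9 F 6 (by simp) (uMinus_le F n f hact hf hu)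
  rcases hf with hf | hf
  · have hnH : n ∈ chevG2.diagonalSubgroup F :=
      mem_diagonal_of_actsAs_id chevG2 hG2 F n hn f hact (by rw [nroots_G2]; exact hf)
    have hbn : b * n ∈ chevG2.borelSubgroup F :=
      Subgroup.mul_mem _ hb (diagonal_le_borel chevG2 hG2 F hnH)
    have hut := cent9_comm F u hu6 1
    have hbnt : xGL chevG2 hG2 F 9 1 * (b * n) = (b * n) * xGL chevG2 hG2 F 9 1 := by
      have : xGL chevG2 hG2 F 9 1 * (b * n) * u = (b * n) * xGL chevG2 hG2 F 9 1 * u := by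
        calc xGL chevG2 hG2 F 9 1 * (b * n) * u = xGL chevG2 hG2 F 9 1 * (b * n * u) := by group
          _ = (b * n * u) * xGL chevG2 hG2 F 9 1 := by rw [← hgeq]; exact hgt
          _ = (b * n) * (u * xGL chevG2 hG2 F 9 1) := by group
          _ = (b * n) * (xGL chevG2 hG2 F 9 1 * u) := by rw [hut]
          _ = _ := by group
      exact mul_right_cancel this
    rw [hgeq]
    exact Subgroup.mul_mem _ (borel_cent F (b * n) hbn hbnt) hu6
  · have hact' : ActsAs chevG2 hG2 F (n * (nFund chevG2 hG2 F 1)⁻¹) (f ∘ chevG2.reflectRoot 1) :=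
      ActsAs.mul chevG2 F hact (actsAs_nFund_inv chevG2 hG2 F 1 (by rw [rank_G2]; omega))
    have hn'H : n * (nFund chevG2 hG2 F 1)⁻¹ ∈ chevG2.diagonalSubgroup F := by
      apply mem_diagonal_of_actsAs_id chevG2 hG2 F _ (Subgroup.mul_mem _ hn (Subgroup.inv_mem _
        (nFund_mem_monomial chevG2 hG2 F 1 (by rw [rank_G2]; omega)))) _ hact'
      intro s hs
      rw [nroots_G2] at hs
      show f (chevG2.reflectRoot 1 s) = s
      rw [hf _ (reflB_invol s hs).1]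
      exact (reflB_invol s hs).2
    have hm : nFund chevG2 hG2 F 1 * u ∈ cent9 F := Subgroup.mul_mem _ (nFund_mem_cent9 F) hu6
    have hmt := cent9_comm F _ hm 1
    have hbn : b * (n * (nFund chevG2 hG2 F 1)⁻¹) ∈ chevG2.borelSubgroup F :=
      Subgroup.mul_mem _ hb (diagonal_le_borel chevG2 hG2 F hn'H)
    have hgeq' : g = (b * (n * (nFund chevG2 hG2 F 1)⁻¹)) * (nFund chevG2 hG2 F 1 * u) := by
      rw [hgeq]; group
    have hbnt : xGL chevG2 hG2 F 9 1 * (b * (n * (nFund chevG2 hG2 F 1)⁻¹)) =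
        (b * (n * (nFund chevG2 hG2 F 1)⁻¹)) * xGL chevG2 hG2 F 9 1 :=
      comm_of_mul _ _ _ g hgeq' hgt hmt
    rw [hgeq']
    exact Subgroup.mul_mem _ (borel_cent F _ hbn hbnt) hm

end

end Cfsg.Agent.Lib.Helper7.G2Inv
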