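import Cfsg.Agent.Lib.Helper7.MvVec
import Cfsg.Agent.Lib.Helper7.G2Inv

/-! Word identities in the unipotent subgroup of `G₂(F)`, characteristic two (helper7). -/

set_option autoImplicit false

namespace Cfsg.Agent.Lib.Helper7.G2Cls

open Cfsg Cfsg.Lie Matrix
open Cfsg.Agent.Lib.Helper7 Cfsg.Agent.Lib.Helper7.MV Cfsg.Agent.Lib.Helper7.G2Inv

section
variable (F : Type*) [Field F]

/-- valuation of three variables -/
def val3 (a b c : F) : ℕ → F
  | 0 => a
  | 1 => b
  | 2 => c
  | _ => 0

/-- valuation of four variables -/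
def val4 (a b c d : F) : ℕ → F
  | 0 => a
  | 1 => b
  | 2 => c
  | 3 => d
  | _ => 0

/-- valuation of six variables -/
def val6 (a b c d e f : F) : ℕ → F
  | 0 => a
  | 1 => b
  | 2 => c
  | 3 => d
  | 4 => e
  | 5 => f
  | _ => 0

theorem evalW_eq (ρ : ℕ → F) : ∀ (w : List (ℕ × List (List ℕ × ℤ))) (w' : List (ℕ × F)),
    List.Forall₂ (fun x y => x.1 = y.1 ∧ pEval ρ x.2 = y.2) w w' → evalW ρ w = w'
  | _, _, List.Forall₂.nil => rfl
  | _, _, List.Forall₂.cons h hs => by
    have ih := evalW_eq ρ _ _ hs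
    unfold evalW at ih ⊢
    rw [List.map_cons, ih]
    congr 1
    exact Prod.ext h.1 h.2

/-- the elements of `U` in normal form -/
noncomputable def nf6 (b a c d e f : F) : GL chevG2.Idx F :=
  wordGL chevG2 hG2 F [(6, b), (7, a), (8, c), (9, d), (10, e), (11, f)]

theorem wordGL_cons (r : ℕ) (t : F) (w : List (ℕ × F)) :
    wordGL chevG2 hG2 F ((r, t) :: w) = xGL chevG2 hG2 F r t * wordGL chevG2 hG2 F w := by
  unfold wordGL
  rw [List.map_cons, List.prod_cons]

theorem wordGL_nil : wordGL chevG2 hG2 F [] = 1 := by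
  unfold wordGL
  rfl

theorem conj_word (r : ℕ) (s : F) (w : List (ℕ × F)) :
    xGL chevG2 hG2 F r s * wordGL chevG2 hG2 F w * (xGL chevG2 hG2 F r s)⁻¹ =
      wordGL chevG2 hG2 F ((r, s) :: (w ++ [(r, -s)])) := by
  rw [wordGL_cons, wordGL_append, wordGL_cons, wordGL_nil, mul_one, xGL_inv, mul_assoc]

variable [CharP F 2]

theorem two_eq_zero' : ((2 : ℕ) : F) = 0 := CharP.cast_eq_zero F 2

theorem wordGL_eq_of_chk (ρ : ℕ → F) (w1 w2 : List (ℕ × List (List ℕ × ℤ)))
    (h : wordEqChk chevG2 2 w1 w2 = true) :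
    wordGL chevG2 hG2 F (evalW ρ w1) = wordGL chevG2 hG2 F (evalW ρ w2) :=
  Units.ext (by rw [coe_wordGL, coe_wordGL]; exact wordMat_eq_of_chk chevG2 ρ 2 (two_eq_zero' F) w1 w2 h)

def z0L : List (ℕ × List (List ℕ × ℤ)) :=
  [(6, [([1,0,0,0,0,0], 1)]), (7, [([0,1,0,0,0,0], 1)]), (8, [([0,0,1,0,0,0], 1)]), (9, [([0,0,0,1,0,0], 1)]), (10, [([0,0,0,0,1,0], 1)]), (11, [([0,0,0,0,0,1], 1)]), (6, [([1,0,0,0,0,0], 1)]), (7, [([0,1,0,0,0,0], 1)]), (8, [([0,0,1,0,0,0], 1)]), (9, [([0,0,0,1,0,0], 1)]), (10, [([0,0,0,0,1,0], 1)]), (11, [([0,0,0,0,0,1], 1)])]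

def z0R : List (ℕ × List (List ℕ × ℤ)) :=
  [(6, []), (7, []), (8, [([1,1,0,0,0,0], 1)]), (9, [([1,2,0,0,0,0], 1)]), (10, [([1,3,0,0,0,0], 1), ([0,2,1,0,0,0], 1), ([0,1,0,1,0,0], 1)]), (11, [([2,3,0,0,0,0], 1), ([1,0,0,0,1,0], 1), ([0,1,2,0,0,0], 1), ([0,0,1,1,0,0], 1)])]

set_option maxRecDepth 100000 in
theorem z0_chk : wordEqChk chevG2 2 z0L z0R = true := by decide +kernel

/-- the square of an element of `U` -/
theorem z0_id (b a c d e f : F) :
    nf6 F b a c d e f * nf6 F b a c d e f =
      nf6 F 0 0 (b * a) (b * a ^ 2) (b * a ^ 3 + a ^ 2 * c + a * d)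
        (b ^ 2 * a ^ 3 + b * e + a * c ^ 2 + c * d) := by
  have key := wordGL_eq_of_chk F (val6 F b a c d e f) z0L z0R z0_chk
  have eL : evalW (val6 F b a c d e f) z0L = [(6, b), (7, a), (8, c), (9, d), (10, e), (11, f)] ++
      [(6, b), (7, a), (8, c), (9, d), (10, e), (11, f)] := by
    apply evalW_eq
    unfold z0L
    repeat' (first | exact List.Forall₂.nil | apply List.Forall₂.cons | refine And.intro rfl ?_)
    all_goals first | (simp only [pEval, mEval, List.map_cons, List.map_nil, List.sum_cons, List.sum_nil, val6]; done) | (simp only [pEval, mEval, List.map_cons, List.map_nil, List.sum_cons, List.sum_nil, val6]; push_cast; ring)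
  have eR : evalW (val6 F b a c d e f) z0R = [(6, 0), (7, 0), (8, b * a), (9, b * a ^ 2),
      (10, b * a ^ 3 + a ^ 2 * c + a * d), (11, b ^ 2 * a ^ 3 + b * e + a * c ^ 2 + c * d)] := by
    apply evalW_eq
    unfold z0R
    repeat' (first | exact List.Forall₂.nil | apply List.Forall₂.cons | refine And.intro rfl ?_)
    all_goals first | (simp only [pEval, mEval, List.map_cons, List.map_nil, List.sum_cons, List.sum_nil, val6]; done) | (simp only [pEval, mEval, List.map_cons, List.map_nil, List.sum_cons, List.sum_nil, val6]; push_cast; ring)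
  rw [eL, eR, wordGL_append] at key
  unfold nf6
  exact key

def a1L : List (ℕ × List (List ℕ × ℤ)) :=
  [(6, [([0,1,0,0], 1)]), (6, []), (7, [([1,0,0,0], 1)]), (8, [([1,1,0,0], 1)]), (9, [([2,1,0,0], 1)]), (10, [([0,0,1,0], 1)]), (11, [([0,0,0,1], 1)]), (6, [([0,1,0,0], -1)])]

def a1R : List (ℕ × List (List ℕ × ℤ)) :=
  [(6, []), (7, [([1,0,0,0], 1)]), (8, []), (9, []), (10, [([3,1,0,0], 1), ([0,0,1,0], 1)]), (11, [([3,2,0,0], 1), ([0,1,1,0], 1), ([0,0,0,1], 1)])]

set_option maxRecDepth 100000 in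
theorem a1_chk : wordEqChk chevG2 2 a1L a1R = true := by decide +kernel

theorem a1_id (a s e f : F) :
    xGL chevG2 hG2 F 6 (s) * nf6 F (0) (a) (a * s) (a ^ 2 * s) (e) (f) * (xGL chevG2 hG2 F 6 (s))⁻¹ =
      nf6 F (0) (a) (0) (0) (a ^ 3 * s + e) (a ^ 3 * s ^ 2 + s * e + f) := by
  have key := wordGL_eq_of_chk F (val4 F a s e f) a1L a1R a1_chk
  have eL : evalW (val4 F a s e f) a1L = [(6, s), (6, 0), (7, a), (8, a * s), (9, a ^ 2 * s), (10, e), (11, f), (6, -(s))] := by
    apply evalW_eq
    unfold a1L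
    repeat' (first | exact List.Forall₂.nil | apply List.Forall₂.cons | refine And.intro rfl ?_)
    all_goals first | (simp only [pEval, mEval, List.map_cons, List.map_nil, List.sum_cons, List.sum_nil, val4]; done) | (simp only [pEval, mEval, List.map_cons, List.map_nil, List.sum_cons, List.sum_nil, val4]; push_cast; ring)
  have eR : evalW (val4 F a s e f) a1R = [(6, 0), (7, a), (8, 0), (9, 0), (10, a ^ 3 * s + e), (11, a ^ 3 * s ^ 2 + s * e + f)] := by
    apply evalW_eq
    unfold a1R
    repeat' (first | exact List.Forall₂.nil | apply List.Forall₂.cons | refine And.intro rfl ?_)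
    all_goals first | (simp only [pEval, mEval, List.map_cons, List.map_nil, List.sum_cons, List.sum_nil, val4]; done) | (simp only [pEval, mEval, List.map_cons, List.map_nil, List.sum_cons, List.sum_nil, val4]; push_cast; ring)
  rw [eL, eR] at key
  unfold nf6
  rw [conj_word]
  exact key

def a2L : List (ℕ × List (List ℕ × ℤ)) :=
  [(9, [([0,1,0,0], 1)]), (6, []), (7, [([1,0,0,0], 1)]), (8, []), (9, []), (10, [([1,1,0,0], 1)]), (11, [([0,0,0,1], 1)]), (9, [([0,1,0,0], -1)])]

def a2R : List (ℕ × List (List ℕ × ℤ)) :=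
  [(6, []), (7, [([1,0,0,0], 1)]), (8, []), (9, []), (10, []), (11, [([0,0,0,1], 1)])]

set_option maxRecDepth 100000 in
theorem a2_chk : wordEqChk chevG2 2 a2L a2R = true := by decide +kernel

theorem a2_id (a s e f : F) :
    xGL chevG2 hG2 F 9 (s) * nf6 F (0) (a) (0) (0) (a * s) (f) * (xGL chevG2 hG2 F 9 (s))⁻¹ =
      nf6 F (0) (a) (0) (0) (0) (f) := by
  have key := wordGL_eq_of_chk F (val4 F a s e f) a2L a2R a2_chk
  have eL : evalW (val4 F a s e f) a2L = [(9, s), (6, 0), (7, a), (8, 0), (9, 0), (10, a * s), (11, f), (9, -(s))] := by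
    apply evalW_eq
    unfold a2L
    repeat' (first | exact List.Forall₂.nil | apply List.Forall₂.cons | refine And.intro rfl ?_)
    all_goals first | (simp only [pEval, mEval, List.map_cons, List.map_nil, List.sum_cons, List.sum_nil, val4]; done) | (simp only [pEval, mEval, List.map_cons, List.map_nil, List.sum_cons, List.sum_nil, val4]; push_cast; ring)
  have eR : evalW (val4 F a s e f) a2R = [(6, 0), (7, a), (8, 0), (9, 0), (10, 0), (11, f)] := by
    apply evalW_eq
    unfold a2R
    repeat' (first | exact List.Forall₂.nil | apply List.Forall₂.cons | refine And.intro rfl ?_)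
    all_goals first | (simp only [pEval, mEval, List.map_cons, List.map_nil, List.sum_cons, List.sum_nil, val4]; done) | (simp only [pEval, mEval, List.map_cons, List.map_nil, List.sum_cons, List.sum_nil, val4]; push_cast; ring)
  rw [eL, eR] at key
  unfold nf6
  rw [conj_word]
  exact key

def p1L : List (ℕ × List (List ℕ × ℤ)) :=
  [(7, [([0,1,0,0], 1)]), (6, []), (7, []), (8, [([1,0,0,0], 1)]), (9, []), (10, [([1,2,0,0], 1)]), (11, []), (7, [([0,1,0,0], -1)])]

def p1R : List (ℕ × List (List ℕ × ℤ)) :=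
  [(6, []), (7, []), (8, [([1,0,0,0], 1)]), (9, []), (10, []), (11, [([2,1,0,0], 1)])]

set_option maxRecDepth 100000 in
theorem p1_chk : wordEqChk chevG2 2 p1L p1R = true := by decide +kernel

theorem p1_id (a s e f : F) :
    xGL chevG2 hG2 F 7 (s) * nf6 F (0) (0) (a) (0) (a * s ^ 2) (0) * (xGL chevG2 hG2 F 7 (s))⁻¹ =
      nf6 F (0) (0) (a) (0) (0) (a ^ 2 * s) := by
  have key := wordGL_eq_of_chk F (val4 F a s e f) p1L p1R p1_chk
  have eL : evalW (val4 F a s e f) p1L = [(7, s), (6, 0), (7, 0), (8, a), (9, 0), (10, a * s ^ 2), (11, 0), (7, -(s))] := by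
    apply evalW_eq
    unfold p1L
    repeat' (first | exact List.Forall₂.nil | apply List.Forall₂.cons | refine And.intro rfl ?_)
    all_goals first | (simp only [pEval, mEval, List.map_cons, List.map_nil, List.sum_cons, List.sum_nil, val4]; done) | (simp only [pEval, mEval, List.map_cons, List.map_nil, List.sum_cons, List.sum_nil, val4]; push_cast; ring)
  have eR : evalW (val4 F a s e f) p1R = [(6, 0), (7, 0), (8, a), (9, 0), (10, 0), (11, a ^ 2 * s)] := by
    apply evalW_eq
    unfold p1R
    repeat' (first | exact List.Forall₂.nil | apply List.Forall₂.cons | refine And.intro rfl ?_)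
    all_goals first | (simp only [pEval, mEval, List.map_cons, List.map_nil, List.sum_cons, List.sum_nil, val4]; done) | (simp only [pEval, mEval, List.map_cons, List.map_nil, List.sum_cons, List.sum_nil, val4]; push_cast; ring)
  rw [eL, eR] at key
  unfold nf6
  rw [conj_word]
  exact key

def p2L : List (ℕ × List (List ℕ × ℤ)) :=
  [(9, [([0,1,0,0], 1)]), (6, []), (7, []), (8, [([1,0,0,0], 1)]), (9, []), (10, []), (11, [([1,1,0,0], 1)]), (9, [([0,1,0,0], -1)])]

def p2R : List (ℕ × List (List ℕ × ℤ)) :=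
  [(6, []), (7, []), (8, [([1,0,0,0], 1)]), (9, []), (10, []), (11, [])]

set_option maxRecDepth 100000 in
theorem p2_chk : wordEqChk chevG2 2 p2L p2R = true := by decide +kernel

theorem p2_id (a s e f : F) :
    xGL chevG2 hG2 F 9 (s) * nf6 F (0) (0) (a) (0) (0) (a * s) * (xGL chevG2 hG2 F 9 (s))⁻¹ =
      nf6 F (0) (0) (a) (0) (0) (0) := by
  have key := wordGL_eq_of_chk F (val4 F a s e f) p2L p2R p2_chk
  have eL : evalW (val4 F a s e f) p2L = [(9, s), (6, 0), (7, 0), (8, a), (9, 0), (10, 0), (11, a * s), (9, -(s))] := by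
    apply evalW_eq
    unfold p2L
    repeat' (first | exact List.Forall₂.nil | apply List.Forall₂.cons | refine And.intro rfl ?_)
    all_goals first | (simp only [pEval, mEval, List.map_cons, List.map_nil, List.sum_cons, List.sum_nil, val4]; done) | (simp only [pEval, mEval, List.map_cons, List.map_nil, List.sum_cons, List.sum_nil, val4]; push_cast; ring)
  have eR : evalW (val4 F a s e f) p2R = [(6, 0), (7, 0), (8, a), (9, 0), (10, 0), (11, 0)] := by
    apply evalW_eq
    unfold p2R
    repeat' (first | exact List.Forall₂.nil | apply List.Forall₂.cons | refine And.intro rfl ?_)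
    all_goals first | (simp only [pEval, mEval, List.map_cons, List.map_nil, List.sum_cons, List.sum_nil, val4]; done) | (simp only [pEval, mEval, List.map_cons, List.map_nil, List.sum_cons, List.sum_nil, val4]; push_cast; ring)
  rw [eL, eR] at key
  unfold nf6
  rw [conj_word]
  exact key

def b1L : List (ℕ × List (List ℕ × ℤ)) :=
  [(7, [([0,1,0,0], 1)]), (6, [([1,0,0,0], 1)]), (7, []), (8, [([1,1,0,0], 1)]), (9, [([0,0,1,0], 1)]), (10, [([0,1,1,0], 1)]), (11, [([0,0,0,1], 1)]), (7, [([0,1,0,0], -1)])]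

def b1R : List (ℕ × List (List ℕ × ℤ)) :=
  [(6, [([1,0,0,0], 1)]), (7, []), (8, []), (9, [([1,2,0,0], 1), ([0,0,1,0], 1)]), (10, []), (11, [([2,3,0,0], 1), ([0,0,0,1], 1)])]

set_option maxRecDepth 100000 in
theorem b1_chk : wordEqChk chevG2 2 b1L b1R = true := by decide +kernel

theorem b1_id (b s d f : F) :
    xGL chevG2 hG2 F 7 (s) * nf6 F (b) (0) (b * s) (d) (s * d) (f) * (xGL chevG2 hG2 F 7 (s))⁻¹ =
      nf6 F (b) (0) (0) (b * s ^ 2 + d) (0) (b ^ 2 * s ^ 3 + f) := by
  have key := wordGL_eq_of_chk F (val4 F b s d f) b1L b1R b1_chk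
  have eL : evalW (val4 F b s d f) b1L = [(7, s), (6, b), (7, 0), (8, b * s), (9, d), (10, s * d), (11, f), (7, -(s))] := by
    apply evalW_eq
    unfold b1L
    repeat' (first | exact List.Forall₂.nil | apply List.Forall₂.cons | refine And.intro rfl ?_)
    all_goals first | (simp only [pEval, mEval, List.map_cons, List.map_nil, List.sum_cons, List.sum_nil, val4]; done) | (simp only [pEval, mEval, List.map_cons, List.map_nil, List.sum_cons, List.sum_nil, val4]; push_cast; ring)
  have eR : evalW (val4 F b s d f) b1R = [(6, b), (7, 0), (8, 0), (9, b * s ^ 2 + d), (10, 0), (11, b ^ 2 * s ^ 3 + f)] := by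
    apply evalW_eq
    unfold b1R
    repeat' (first | exact List.Forall₂.nil | apply List.Forall₂.cons | refine And.intro rfl ?_)
    all_goals first | (simp only [pEval, mEval, List.map_cons, List.map_nil, List.sum_cons, List.sum_nil, val4]; done) | (simp only [pEval, mEval, List.map_cons, List.map_nil, List.sum_cons, List.sum_nil, val4]; push_cast; ring)
  rw [eL, eR] at key
  unfold nf6
  rw [conj_word]
  exact key

def b2L : List (ℕ × List (List ℕ × ℤ)) :=
  [(10, [([0,1,0,0], 1)]), (6, [([1,0,0,0], 1)]), (7, []), (8, []), (9, [([0,0,1,0], 1)]), (10, []), (11, [([1,1,0,0], 1)]), (10, [([0,1,0,0], -1)])]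

def b2R : List (ℕ × List (List ℕ × ℤ)) :=
  [(6, [([1,0,0,0], 1)]), (7, []), (8, []), (9, [([0,0,1,0], 1)]), (10, []), (11, [])]

set_option maxRecDepth 100000 in
theorem b2_chk : wordEqChk chevG2 2 b2L b2R = true := by decide +kernel

theorem b2_id (b s d f : F) :
    xGL chevG2 hG2 F 10 (s) * nf6 F (b) (0) (0) (d) (0) (b * s) * (xGL chevG2 hG2 F 10 (s))⁻¹ =
      nf6 F (b) (0) (0) (d) (0) (0) := by
  have key := wordGL_eq_of_chk F (val4 F b s d f) b2L b2R b2_chk
  have eL : evalW (val4 F b s d f) b2L = [(10, s), (6, b), (7, 0), (8, 0), (9, d), (10, 0), (11, b * s), (10, -(s))] := by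
    apply evalW_eq
    unfold b2L
    repeat' (first | exact List.Forall₂.nil | apply List.Forall₂.cons | refine And.intro rfl ?_)
    all_goals first | (simp only [pEval, mEval, List.map_cons, List.map_nil, List.sum_cons, List.sum_nil, val4]; done) | (simp only [pEval, mEval, List.map_cons, List.map_nil, List.sum_cons, List.sum_nil, val4]; push_cast; ring)
  have eR : evalW (val4 F b s d f) b2R = [(6, b), (7, 0), (8, 0), (9, d), (10, 0), (11, 0)] := by
    apply evalW_eq
    unfold b2R
    repeat' (first | exact List.Forall₂.nil | apply List.Forall₂.cons | refine And.intro rfl ?_)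
    all_goals first | (simp only [pEval, mEval, List.map_cons, List.map_nil, List.sum_cons, List.sum_nil, val4]; done) | (simp only [pEval, mEval, List.map_cons, List.map_nil, List.sum_cons, List.sum_nil, val4]; push_cast; ring)
  rw [eL, eR] at key
  unfold nf6
  rw [conj_word]
  exact key

def b4L : List (ℕ × List (List ℕ × ℤ)) :=
  [(9, [([0,1,0], 1)]), (6, []), (7, []), (8, [([1,0,0], 1)]), (9, []), (10, [([0,0,1], 1)]), (11, [([1,1,0], 1)]), (9, [([0,1,0], -1)])]

def b4R : List (ℕ × List (List ℕ × ℤ)) :=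
  [(6, []), (7, []), (8, [([1,0,0], 1)]), (9, []), (10, [([0,0,1], 1)]), (11, [])]

set_option maxRecDepth 100000 in
theorem b4_chk : wordEqChk chevG2 2 b4L b4R = true := by decide +kernel

theorem b4_id (c s e : F) :
    xGL chevG2 hG2 F 9 (s) * nf6 F (0) (0) (c) (0) (e) (c * s) * (xGL chevG2 hG2 F 9 (s))⁻¹ =
      nf6 F (0) (0) (c) (0) (e) (0) := by
  have key := wordGL_eq_of_chk F (val3 F c s e) b4L b4R b4_chk
  have eL : evalW (val3 F c s e) b4L = [(9, s), (6, 0), (7, 0), (8, c), (9, 0), (10, e), (11, c * s), (9, -(s))] := by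
    apply evalW_eq
    unfold b4L
    repeat' (first | exact List.Forall₂.nil | apply List.Forall₂.cons | refine And.intro rfl ?_)
    all_goals first | (simp only [pEval, mEval, List.map_cons, List.map_nil, List.sum_cons, List.sum_nil, val3]; done) | (simp only [pEval, mEval, List.map_cons, List.map_nil, List.sum_cons, List.sum_nil, val3]; push_cast; ring)
  have eR : evalW (val3 F c s e) b4R = [(6, 0), (7, 0), (8, c), (9, 0), (10, e), (11, 0)] := by
    apply evalW_eq
    unfold b4R
    repeat' (first | exact List.Forall₂.nil | apply List.Forall₂.cons | refine And.intro rfl ?_)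
    all_goals first | (simp only [pEval, mEval, List.map_cons, List.map_nil, List.sum_cons, List.sum_nil, val3]; done) | (simp only [pEval, mEval, List.map_cons, List.map_nil, List.sum_cons, List.sum_nil, val3]; push_cast; ring)
  rw [eL, eR] at key
  unfold nf6
  rw [conj_word]
  exact key

end

end Cfsg.Agent.Lib.Helper7.G2Cls
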