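import Cfsg.Agent.Lib.Helper7.ChevGraphAutG2
import Cfsg.Agent.Lib.Helper7.ChevCanon2
import Cfsg.Agent.Lib.Helper7.ChevNorm

/-! The twisting automorphism `τ` of `G₂(F)`, `|F| = 3^(2m+1)`, as a map on `GL` (helper7). -/

set_option autoImplicit false

namespace Cfsg.Agent.Lib.Helper7

open Cfsg Cfsg.Lie Matrix

/-- the exponents of the twisting automorphism -/
def eG2 (θ r : ℕ) : ℕ := θ * lam_G2 r

theorem lam_G2_neg : ∀ r < 12, lam_G2 (chevG2.neg r) = lam_G2 r := by decide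

theorem rho_G2_neg : ∀ r < 12, rho_G2 (chevG2.neg r) = chevG2.neg (rho_G2 r) := by decide

theorem neg_G2_lt : ∀ r < 12, chevG2.neg r < 12 := by decide

theorem rho_G2_pos : ∀ r, chevG2.IsPosRoot r → chevG2.IsPosRoot (rho_G2 r) := by
  intro r hr
  have h1 : r < 12 := hr.1
  revert hr
  revert r
  decide

theorem rho_G2_negRoot : ∀ r, chevG2.IsNegRoot r → chevG2.IsNegRoot (rho_G2 r) := by
  intro r hr
  have h1 : r < 12 := hr.1
  revert hr
  revert r
  decide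

section
variable (F : Type*) [Field F]
variable (τ : ↥(chevG2.group F) ≃* ↥(chevG2.group F)) (θ : ℕ)

/-- the hypotheses on the twisting automorphism -/
structure TauData : Prop where
  map_x : ∀ r < 12, ∀ t : F,
    τ (xSub chevG2 mem_G2 F r t) = xSub chevG2 mem_G2 F (rho_G2 r) (t ^ eG2 θ r)
  pow : ∀ t : F, t ^ (3 * θ * θ) = t
  odd : Odd θ
  add_pow : ∀ x y : F, (x + y) ^ θ = x ^ θ + y ^ θ
  three : (3 : F) = 0

variable {F τ θ}

theorem TauData.inv (h : TauData F τ θ) (r : ℕ) (hr : r < 12) (t : F) :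
    (t ^ eG2 θ r) ^ eG2 θ (rho_G2 r) = t := by
  rw [← pow_mul]
  have : eG2 θ r * eG2 θ (rho_G2 r) = 3 * θ * θ := by
    unfold eG2
    have := lam_G2_mul r hr
    calc θ * lam_G2 r * (θ * lam_G2 (rho_G2 r)) = (lam_G2 r * lam_G2 (rho_G2 r)) * θ * θ := by ring
      _ = _ := by rw [this]
  rw [this, h.pow]

theorem TauData.inv' (h : TauData F τ θ) (r : ℕ) (hr : r < 12) (t : F) :
    (t ^ eG2 θ (rho_G2 r)) ^ eG2 θ r = t := by
  have := h.inv (rho_G2 r) (rho_G2_lt r hr) t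
  rwa [rho_G2_rho r hr] at this

theorem TauData.odd_e (h : TauData F τ θ) (r : ℕ) (hr : r < 12) : Odd (eG2 θ r) := by
  unfold eG2
  apply Odd.mul h.odd
  have : ∀ r < 12, Odd (lam_G2 r) := by decide
  exact this r hr

theorem eG2_neg (θ r : ℕ) (hr : r < 12) : eG2 θ (chevG2.neg r) = eG2 θ r := by
  unfold eG2
  rw [lam_G2_neg r hr]

variable (F τ)

/-- the twisting automorphism as a map of `GL`, trivial outside the Chevalley group -/
noncomputable def tauGL (g : GL chevG2.Idx F) : GL chevG2.Idx F := by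
  classical
  exact if h : g ∈ chevG2.group F then ((τ ⟨g, h⟩ : ↥(chevG2.group F)) : GL chevG2.Idx F) else 1

theorem tauGL_of_mem (g : GL chevG2.Idx F) (h : g ∈ chevG2.group F) :
    tauGL F τ g = ((τ ⟨g, h⟩ : ↥(chevG2.group F)) : GL chevG2.Idx F) := by
  unfold tauGL
  rw [dif_pos h]

theorem tauGL_mem (g : GL chevG2.Idx F) : tauGL F τ g ∈ chevG2.group F := by
  by_cases h : g ∈ chevG2.group F
  · rw [tauGL_of_mem F τ g h]
    exact (τ ⟨g, h⟩).2
  · unfold tauGL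
    rw [dif_neg h]
    exact Subgroup.one_mem _

theorem tauGL_one : tauGL F τ 1 = 1 := by
  rw [tauGL_of_mem F τ 1 (Subgroup.one_mem _)]
  have : (⟨1, Subgroup.one_mem _⟩ : ↥(chevG2.group F)) = 1 := rfl
  rw [this, map_one]
  rfl

theorem tauGL_mul (g g' : GL chevG2.Idx F) (h : g ∈ chevG2.group F) (h' : g' ∈ chevG2.group F) :
    tauGL F τ (g * g') = tauGL F τ g * tauGL F τ g' := by
  rw [tauGL_of_mem F τ _ (Subgroup.mul_mem _ h h'), tauGL_of_mem F τ g h, tauGL_of_mem F τ g' h']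
  have : (⟨g * g', Subgroup.mul_mem _ h h'⟩ : ↥(chevG2.group F)) = ⟨g, h⟩ * ⟨g', h'⟩ := rfl
  rw [this, map_mul]
  rfl

theorem tauGL_inv (g : GL chevG2.Idx F) (h : g ∈ chevG2.group F) :
    tauGL F τ g⁻¹ = (tauGL F τ g)⁻¹ := by
  rw [tauGL_of_mem F τ _ (Subgroup.inv_mem _ h), tauGL_of_mem F τ g h]
  have : (⟨g⁻¹, Subgroup.inv_mem _ h⟩ : ↥(chevG2.group F)) = ⟨g, h⟩⁻¹ := rfl
  rw [this, map_inv]
  rfl

theorem tauGL_conj (g x : GL chevG2.Idx F) (h : g ∈ chevG2.group F) (hx : x ∈ chevG2.group F) :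
    tauGL F τ (g * x * g⁻¹) = tauGL F τ g * tauGL F τ x * (tauGL F τ g)⁻¹ := by
  rw [tauGL_mul F τ _ _ (Subgroup.mul_mem _ h hx) (Subgroup.inv_mem _ h), tauGL_mul F τ _ _ h hx,
    tauGL_inv F τ g h]

theorem tauGL_inj (g g' : GL chevG2.Idx F) (h : g ∈ chevG2.group F) (h' : g' ∈ chevG2.group F)
    (he : tauGL F τ g = tauGL F τ g') : g = g' := by
  rw [tauGL_of_mem F τ g h, tauGL_of_mem F τ g' h'] at he
  have := τ.injective (Subtype.ext he)
  exact congrArg Subtype.val this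

variable {F τ}
variable (hτ : TauData F τ θ)
include hτ

theorem tauGL_xGL (r : ℕ) (hr : r < 12) (t : F) :
    tauGL F τ (xGL chevG2 mem_G2 F r t) = xGL chevG2 mem_G2 F (rho_G2 r) (t ^ eG2 θ r) := by
  rw [tauGL_of_mem F τ _ (xGL_mem_group chevG2 mem_G2 F r t)]
  have := hτ.map_x r hr t
  unfold xSub at this
  rw [this]

theorem tauGL_wordGL (w : List (ℕ × F)) (hw : ∀ p ∈ w, p.1 < 12) :
    tauGL F τ (wordGL chevG2 mem_G2 F w) =
      wordGL chevG2 mem_G2 F (w.map fun p => (rho_G2 p.1, p.2 ^ eG2 θ p.1)) := by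
  induction w with
  | nil =>
    have : wordGL chevG2 mem_G2 F [] = 1 := by simp [wordGL]
    rw [List.map_nil, this, tauGL_one]
  | cons p w ih =>
    have h1 : wordGL chevG2 mem_G2 F (p :: w) = xGL chevG2 mem_G2 F p.1 p.2 * wordGL chevG2 mem_G2 F w := by
      simp [wordGL]
    have h2 : ∀ (q : ℕ × F) (w' : List (ℕ × F)), wordGL chevG2 mem_G2 F (q :: w') =
        xGL chevG2 mem_G2 F q.1 q.2 * wordGL chevG2 mem_G2 F w' := by
      intro q w'; simp [wordGL]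
    rw [h1, tauGL_mul F τ _ _ (xGL_mem_group chevG2 mem_G2 F _ _) (wordGL_mem_group chevG2 mem_G2 F w),
      tauGL_xGL hτ p.1 (hw p List.mem_cons_self) p.2, ih (fun q hq => hw q (List.mem_cons_of_mem _ hq)),
      List.map_cons, h2]

theorem tauGL_tauGL (g : GL chevG2.Idx F) (hg : g ∈ chevG2.group F) : tauGL F τ (tauGL F τ g) = g := by
  have h1 : (τ.toMonoidHom.comp τ.toMonoidHom) = MonoidHom.id _ := by
    apply MonoidHom.eq_of_eqOn_dense (closure_xSub chevG2 mem_G2 F)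
    rintro _ ⟨r, hr, t, rfl⟩
    show τ (τ (xSub chevG2 mem_G2 F r t)) = xSub chevG2 mem_G2 F r t
    rw [hτ.map_x r hr t, hτ.map_x _ (rho_G2_lt r hr), rho_G2_rho r hr, hτ.inv r hr]
  rw [tauGL_of_mem F τ g hg, tauGL_of_mem F τ _ (τ ⟨g, hg⟩).2]
  have h2 : τ (τ ⟨g, hg⟩) = ⟨g, hg⟩ := DFunLike.congr_fun h1 ⟨g, hg⟩
  have h3 : (⟨((τ ⟨g, hg⟩ : ↥(chevG2.group F)) : GL chevG2.Idx F), (τ ⟨g, hg⟩).2⟩ : ↥(chevG2.group F)) =
      τ ⟨g, hg⟩ := rfl
  rw [h3, h2]

/-- invariance of subgroups generated by sets which `τ` maps into the subgroup -/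
theorem tauGL_closure (gens : Set (GL chevG2.Idx F)) (T : Subgroup (GL chevG2.Idx F))
    (h : ∀ g ∈ gens, g ∈ chevG2.group F ∧ tauGL F τ g ∈ T) :
    ∀ s ∈ Subgroup.closure gens, s ∈ chevG2.group F ∧ tauGL F τ s ∈ T := by
  intro s hs
  induction hs using Subgroup.closure_induction with
  | mem g hg => exact h g hg
  | one => exact ⟨Subgroup.one_mem _, by rw [tauGL_one]; exact Subgroup.one_mem _⟩
  | mul g g' _ _ ih ih' =>
    exact ⟨Subgroup.mul_mem _ ih.1 ih'.1, by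
      rw [tauGL_mul F τ _ _ ih.1 ih'.1]; exact Subgroup.mul_mem _ ih.2 ih'.2⟩
  | inv g _ ih =>
    exact ⟨Subgroup.inv_mem _ ih.1, by rw [tauGL_inv F τ _ ih.1]; exact Subgroup.inv_mem _ ih.2⟩

theorem tauGL_posUnipotent (u : GL chevG2.Idx F) (hu : u ∈ chevG2.posUnipotent F) :
    tauGL F τ u ∈ chevG2.posUnipotent F := by
  refine (tauGL_closure hτ _ _ ?_ u hu).2
  rintro g ⟨r, t, hr, hg⟩
  have hg' : g = xGL chevG2 mem_G2 F r t := Units.ext (by rw [hg, coe_xGL])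
  rw [hg']
  refine ⟨xGL_mem_group chevG2 mem_G2 F r t, ?_⟩
  rw [tauGL_xGL hτ r hr.1]
  exact xGL_pos_mem chevG2 mem_G2 F _ (rho_G2_pos r hr) _

theorem tauGL_negUnipotent (u : GL chevG2.Idx F) (hu : u ∈ chevG2.negUnipotent F) :
    tauGL F τ u ∈ chevG2.negUnipotent F := by
  refine (tauGL_closure hτ _ _ ?_ u hu).2
  rintro g ⟨r, t, hr, hg⟩
  have hg' : g = xGL chevG2 mem_G2 F r t := Units.ext (by rw [hg, coe_xGL])
  rw [hg']
  refine ⟨xGL_mem_group chevG2 mem_G2 F r t, ?_⟩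
  rw [tauGL_xGL hτ r hr.1]
  exact xGL_neg_mem chevG2 mem_G2 F _ (rho_G2_negRoot r hr) _

theorem tauGL_nGL (r : ℕ) (hr : r < 12) (t : F) :
    tauGL F τ (wordGL chevG2 mem_G2 F (chevG2.nWord r t)) =
      wordGL chevG2 mem_G2 F (chevG2.nWord (rho_G2 r) (t ^ eG2 θ r)) := by
  rw [tauGL_wordGL hτ]
  · unfold ChevalleyDatum.nWord
    simp only [List.map_cons, List.map_nil]
    rw [eG2_neg θ r hr, rho_G2_neg r hr, (hτ.odd_e r hr).neg_pow, inv_pow]
  · intro p hp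
    unfold ChevalleyDatum.nWord at hp
    simp only [List.mem_cons, List.not_mem_nil, or_false] at hp
    rcases hp with rfl | rfl | rfl
    · exact hr
    · exact neg_G2_lt r hr
    · exact hr

theorem tauGL_hGL (r : ℕ) (hr : r < 12) (t : F) :
    tauGL F τ (wordGL chevG2 mem_G2 F (chevG2.hWord r t)) =
      wordGL chevG2 mem_G2 F (chevG2.hWord (rho_G2 r) (t ^ eG2 θ r)) := by
  unfold ChevalleyDatum.hWord
  rw [wordGL_append, wordGL_append, tauGL_mul F τ _ _ (wordGL_mem_group chevG2 mem_G2 F _)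
    (wordGL_mem_group chevG2 mem_G2 F _), tauGL_nGL hτ r hr, tauGL_nGL hτ r hr,
    (hτ.odd_e r hr).neg_pow, one_pow]

theorem tauGL_diagonal (h : GL chevG2.Idx F) (hh : h ∈ chevG2.diagonalSubgroup F) :
    tauGL F τ h ∈ chevG2.diagonalSubgroup F := by
  refine (tauGL_closure hτ _ _ ?_ h hh).2
  rintro g ⟨r, t, hr, ht, hg⟩
  have hg' : g = wordGL chevG2 mem_G2 F (chevG2.hWord r t) := Units.ext (by rw [hg, coe_wordGL]; rfl)
  rw [hg']
  refine ⟨wordGL_mem_group chevG2 mem_G2 F _, ?_⟩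
  rw [tauGL_hGL hτ r hr]
  exact hGL_mem_diagonalSubgroup chevG2 mem_G2 F _ (rho_G2_lt r hr) _ (pow_ne_zero _ ht)

theorem tauGL_monomial (n : GL chevG2.Idx F) (hn : n ∈ chevG2.monomialSubgroup F) :
    tauGL F τ n ∈ chevG2.monomialSubgroup F := by
  unfold ChevalleyDatum.monomialSubgroup at hn
  rw [← Subgroup.closure_eq (chevG2.diagonalSubgroup F), ← Subgroup.closure_union] at hn
  refine (tauGL_closure hτ _ _ ?_ n hn).2
  rintro g (hg | ⟨r, hr, hg⟩)
  · refine ⟨monomial_le_group chevG2 mem_G2 F (Subgroup.mem_sup_left hg), ?_⟩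
    exact Subgroup.mem_sup_left (tauGL_diagonal hτ g hg)
  · have hg' : g = wordGL chevG2 mem_G2 F (chevG2.nWord r 1) := Units.ext (by rw [hg, coe_wordGL]; rfl)
    rw [hg']
    refine ⟨wordGL_mem_group chevG2 mem_G2 F _, ?_⟩
    rw [tauGL_nGL hτ r hr, one_pow]
    apply Subgroup.mem_sup_right
    apply Subgroup.subset_closure
    exact ⟨rho_G2 r, rho_G2_lt r hr, by rw [coe_wordGL]; rfl⟩

theorem tauGL_borel (b : GL chevG2.Idx F) (hb : b ∈ chevG2.borelSubgroup F) :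
    tauGL F τ b ∈ chevG2.borelSubgroup F := by
  have hb' : b ∈ ((chevG2.borelSubgroup F : Subgroup (GL chevG2.Idx F)) : Set (GL chevG2.Idx F)) := hb
  rw [borel_eq_mul chevG2 mem_G2 F] at hb'
  obtain ⟨h, hh, u, hu, rfl⟩ := Set.mem_mul.mp hb'
  rw [tauGL_mul F τ _ _ (borel_le_group chevG2 mem_G2 F (diagonal_le_borel chevG2 mem_G2 F hh))
    (borel_le_group chevG2 mem_G2 F (posUnipotent_le_borel chevG2 mem_G2 F hu))]
  exact Subgroup.mul_mem _ (diagonal_le_borel chevG2 mem_G2 F (tauGL_diagonal hτ h hh))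
    (posUnipotent_le_borel chevG2 mem_G2 F (tauGL_posUnipotent hτ u hu))

theorem tauGL_uMinus (n : GL chevG2.Idx F) (hn : n ∈ chevG2.group F) (u : GL chevG2.Idx F)
    (hu : u ∈ uMinus chevG2 F n) : tauGL F τ u ∈ uMinus chevG2 F (tauGL F τ n) := by
  unfold uMinus at hu
  refine (tauGL_closure hτ _ _ ?_ u hu).2
  rintro g ⟨r, t, hr, hle, hg⟩
  have hg' : g = xGL chevG2 mem_G2 F r t := Units.ext (by rw [hg, coe_xGL])
  rw [hg']
  refine ⟨xGL_mem_group chevG2 mem_G2 F r t, ?_⟩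
  rw [tauGL_xGL hτ r hr.1]
  apply Subgroup.subset_closure
  refine ⟨rho_G2 r, _, rho_G2_pos r hr, ?_, coe_xGL _ _ _ _ _⟩
  rw [map_conj_le_iff chevG2 mem_G2 F] at hle ⊢
  intro s
  have h1 := hle (s ^ eG2 θ (rho_G2 r))
  have h2 := tauGL_negUnipotent hτ _ h1
  rw [tauGL_conj F τ _ _ hn (xGL_mem_group chevG2 mem_G2 F _ _), tauGL_xGL hτ r hr.1,
    hτ.inv' r hr.1] at h2
  exact h2

end

end Cfsg.Agent.Lib.Helper7
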