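import Cfsg.Agent.Lib.Helper7.G2Tw0
import Cfsg.Agent.Lib.Helper7.ChevWeylChainG2
import Cfsg.Agent.Lib.Helper7.ChevWeylChain2
import Cfsg.Agent.Lib.Helper7.ChevWeylEnum
import Cfsg.Agent.Lib.Helper7.ChevTwistRank1
import Cfsg.Agent.Lib.Helper7.ChevTwist0

/-! The fixed points of the twisting automorphism of `G₂`: the Bruhat decomposition (helper7). -/

set_option autoImplicit false
set_option maxRecDepth 100000

namespace Cfsg.Agent.Lib.Helper7

open Cfsg Cfsg.Lie Matrix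

theorem weylG2_comm_rho_aux : ∀ e ∈ nfFin weylChain_G2.levels,
    (∀ s < 12, (nfPerm 12 weylChain_G2.levels e).getD (rho_G2 s) 0 =
        rho_G2 ((nfPerm 12 weylChain_G2.levels e).getD s 0)) →
    nfPerm 12 weylChain_G2.levels e = List.range 12 ∨
      nfPerm 12 weylChain_G2.levels e = (List.range 12).map chevG2.neg := by decide +kernel

theorem getD_map_range (f : ℕ → ℕ) (n s : ℕ) (hs : s < n) : ((List.range n).map f).getD s 0 = f s := by
  simp [List.getD_eq_getElem?_getD, hs]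

/-- an element of the Weyl group of `G₂` commuting with the symmetry `ρ` is `±1` -/
theorem weylG2_comm_rho (L : List ℕ) (hL : ∀ i ∈ L, i < 2)
    (hcomm : ∀ s < 12, reflWord chevG2 L (rho_G2 s) = rho_G2 (reflWord chevG2 L s)) :
    (∀ s < 12, reflWord chevG2 L s = s) ∨ (∀ s < 12, reflWord chevG2 L s = chevG2.neg s) := by
  have hE := weylEnum_of_chain chevG2 weylChain_G2 weylChainOKB_G2
  obtain ⟨e, he, hp⟩ := enum_word chevG2 _ _ _ _ hE L hL
  have hp' : nfPerm 12 weylChain_G2.levels e = (List.range 12).map (reflWord chevG2 L) := hp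
  have h1 := weylG2_comm_rho_aux e he (by
    intro s hs
    rw [hp', getD_map_range _ _ _ (rho_G2_lt s hs), getD_map_range _ _ _ hs]
    exact hcomm s hs)
  rw [hp'] at h1
  rcases h1 with h1 | h1
  · left
    intro s hs
    have := congrArg (fun l : List ℕ => l.getD s 0) h1
    simp only [getD_map_range _ _ _ hs] at this
    rw [this]
    simp [List.getD_eq_getElem?_getD, hs]
  · right
    intro s hs
    have := congrArg (fun l : List ℕ => l.getD s 0) h1
    simp only [getD_map_range _ _ _ hs] at this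
    exact this

section
variable (F : Type*) [Field F]
variable (τ : ↥(chevG2.group F) ≃* ↥(chevG2.group F))

/-- the fixed points of the twisting automorphism -/
def fixTau : Subgroup (GL chevG2.Idx F) where
  carrier := {g | g ∈ chevG2.group F ∧ tauGL F τ g = g}
  one_mem' := ⟨Subgroup.one_mem _, tauGL_one F τ⟩
  mul_mem' := by
    rintro g g' ⟨h1, h2⟩ ⟨h1', h2'⟩
    exact ⟨Subgroup.mul_mem _ h1 h1', by rw [tauGL_mul F τ _ _ h1 h1', h2, h2']⟩
  inv_mem' := by
    rintro g ⟨h1, h2⟩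
    exact ⟨Subgroup.inv_mem _ h1, by rw [tauGL_inv F τ _ h1, h2]⟩

theorem mem_fixTau (g : GL chevG2.Idx F) :
    g ∈ fixTau F τ ↔ g ∈ chevG2.group F ∧ tauGL F τ g = g := Iff.rfl

variable {F τ} {θ : ℕ} (hτ : TauData F τ θ)
include hτ

/-- the permutation of the roots induced by an element of `N` whose class in `W` is `τ`-stable commutes
with `ρ` -/
theorem actsAs_comm_rho_tau (n : GL chevG2.Idx F) (hn : n ∈ chevG2.monomialSubgroup F)
    (hh : n⁻¹ * tauGL F τ n ∈ chevG2.diagonalSubgroup F) (f : ℕ → ℕ) (hf : ActsAs chevG2 mem_G2 F n f)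
    (s : ℕ) (hs : s < 12) : f (rho_G2 s) = rho_G2 (f s) := by
  have hnG := monomial_le_group chevG2 mem_G2 F hn
  have hf' : ActsAs chevG2 mem_G2 F (tauGL F τ n) (f ∘ id) := by
    have := ActsAs.mul chevG2 F hf (actsAs_diag chevG2 mem_G2 F _ hh)
    have e : n * (n⁻¹ * tauGL F τ n) = tauGL F τ n := by group
    rwa [e] at this
  obtain ⟨hfs, c, hc, h1⟩ := hf s hs
  obtain ⟨hfs', c', hc', h1'⟩ := hf' (rho_G2 s) (rho_G2_lt s hs)
  have e1 := congrArg (tauGL F τ) (h1 1)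
  rw [tauGL_conj F τ _ _ hnG (xGL_mem_group chevG2 mem_G2 F _ _), tauGL_xGL hτ s hs,
    tauGL_xGL hτ (f s) hfs, h1'] at e1
  have hfs'' : f (rho_G2 s) < 12 := hfs'
  refine xGL_root_inj chevG2 mem_G2 F _ _ hfs'' (rho_G2_lt _ hfs) _ _ ?_ e1
  rw [one_pow, mul_one]
  exact hc'

/-- an element of `N` whose class in `W` is `τ`-stable acts trivially or as `-1` on the roots -/
theorem monomial_stable_cases (n : GL chevG2.Idx F) (hn : n ∈ chevG2.monomialSubgroup F)
    (hh : n⁻¹ * tauGL F τ n ∈ chevG2.diagonalSubgroup F) :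
    n ∈ chevG2.diagonalSubgroup F ∨ ActsAs chevG2 mem_G2 F n chevG2.neg := by
  obtain ⟨L, hL, hact⟩ := exists_actsAs chevG2 mem_G2 F n hn
  have hcomm := actsAs_comm_rho_tau hτ n hn hh _ hact
  rcases weylG2_comm_rho L hL hcomm with h | h
  · left
    exact mem_diagonal_of_actsAs_id chevG2 mem_G2 F n hn _ hact h
  · right
    intro s hs
    obtain ⟨h1, c, hc, h2⟩ := hact s hs
    have hs' : s < 12 := hs
    rw [h s hs'] at h1 h2
    exact ⟨h1, c, hc, h2⟩

end

section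
variable (F : Type*) [Field F]

/-- the representative `n_{a+b}(1) n_{3a+b}(1)` of `-1` -/
noncomputable def n0G2 : GL chevG2.Idx F :=
  wordGL chevG2 mem_G2 F (chevG2.nWord 8 1) * wordGL chevG2 mem_G2 F (chevG2.nWord 10 1)

theorem nGL_mem_monomial (r : ℕ) (hr : r < 12) :
    wordGL chevG2 mem_G2 F (chevG2.nWord r 1) ∈ chevG2.monomialSubgroup F := by
  apply Subgroup.mem_sup_right
  apply Subgroup.subset_closure
  exact ⟨r, hr, by rw [coe_wordGL]; rfl⟩

theorem n0G2_mem_monomial : n0G2 F ∈ chevG2.monomialSubgroup F :=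
  Subgroup.mul_mem _ (nGL_mem_monomial F 8 (by decide)) (nGL_mem_monomial F 10 (by decide))

theorem commTerms_G2_orth : chevG2.commTerms 8 10 = [] ∧ chevG2.commTerms 8 1 = [] ∧
    chevG2.commTerms 3 10 = [] ∧ chevG2.commTerms 3 1 = [] := by decide +kernel

theorem commute_x8_x10 (a b : F) : Commute (xGL chevG2 mem_G2 F 8 a) (xGL chevG2 mem_G2 F 10 b) :=
  xGL_comm_of_nil chevG2 mem_G2 F 8 10 (by decide) (by decide) (by decide) (by decide)
    commTerms_G2_orth.1 a b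

theorem commute_x8_x1 (a b : F) : Commute (xGL chevG2 mem_G2 F 8 a) (xGL chevG2 mem_G2 F 1 b) :=
  xGL_comm_of_nil chevG2 mem_G2 F 8 1 (by decide) (by decide) (by decide) (by decide)
    commTerms_G2_orth.2.1 a b

theorem commute_x3_x10 (a b : F) : Commute (xGL chevG2 mem_G2 F 3 a) (xGL chevG2 mem_G2 F 10 b) :=
  xGL_comm_of_nil chevG2 mem_G2 F 3 10 (by decide) (by decide) (by decide) (by decide)
    commTerms_G2_orth.2.2.1 a b

theorem commute_x3_x1 (a b : F) : Commute (xGL chevG2 mem_G2 F 3 a) (xGL chevG2 mem_G2 F 1 b) :=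
  xGL_comm_of_nil chevG2 mem_G2 F 3 1 (by decide) (by decide) (by decide) (by decide)
    commTerms_G2_orth.2.2.2 a b

theorem neg_G2_8 : chevG2.neg 8 = 3 := by decide

theorem neg_G2_10 : chevG2.neg 10 = 1 := by decide

theorem commute_n8_n10 (a b : F) : Commute (wordGL chevG2 mem_G2 F (chevG2.nWord 8 a))
    (wordGL chevG2 mem_G2 F (chevG2.nWord 10 b)) := by
  rw [nGL_eq, nGL_eq, neg_G2_8, neg_G2_10]
  have h1 := fun x y => commute_x8_x10 F x y
  have h2 := fun x y => commute_x8_x1 F x y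
  have h3 := fun x y => commute_x3_x10 F x y
  have h4 := fun x y => commute_x3_x1 F x y
  apply Commute.mul_left
  · apply Commute.mul_left
    · exact ((h1 _ _).mul_right (h2 _ _)).mul_right (h1 _ _)
    · exact ((h3 _ _).mul_right (h4 _ _)).mul_right (h3 _ _)
  · exact ((h1 _ _).mul_right (h2 _ _)).mul_right (h1 _ _)

/-- `n₀` as a product of elements of `U`, `V`, `U` -/
theorem n0G2_eq : n0G2 F = (xGL chevG2 mem_G2 F 8 1 * xGL chevG2 mem_G2 F 10 1) *
    (xGL chevG2 mem_G2 F 3 (-1) * xGL chevG2 mem_G2 F 1 (-1)) *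
    (xGL chevG2 mem_G2 F 8 1 * xGL chevG2 mem_G2 F 10 1) := by
  unfold n0G2
  rw [nGL_eq, nGL_eq, neg_G2_8, neg_G2_10, inv_one]
  have h1 := commute_x8_x10 F 1 1
  have h2 := commute_x3_x10 F (-1) 1
  have h3 := commute_x8_x1 F 1 (-1)
  have h1' := h1.eq
  have h2' := h2.eq
  have h3' := h3.eq
  calc xGL chevG2 mem_G2 F 8 1 * xGL chevG2 mem_G2 F 3 (-1) * xGL chevG2 mem_G2 F 8 1 *
        (xGL chevG2 mem_G2 F 10 1 * xGL chevG2 mem_G2 F 1 (-1) * xGL chevG2 mem_G2 F 10 1)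
      = xGL chevG2 mem_G2 F 8 1 * xGL chevG2 mem_G2 F 3 (-1) * (xGL chevG2 mem_G2 F 8 1 *
        xGL chevG2 mem_G2 F 10 1) * xGL chevG2 mem_G2 F 1 (-1) * xGL chevG2 mem_G2 F 10 1 := by group
    _ = xGL chevG2 mem_G2 F 8 1 * xGL chevG2 mem_G2 F 3 (-1) * (xGL chevG2 mem_G2 F 10 1 *
        xGL chevG2 mem_G2 F 8 1) * xGL chevG2 mem_G2 F 1 (-1) * xGL chevG2 mem_G2 F 10 1 := by rw [h1']
    _ = xGL chevG2 mem_G2 F 8 1 * (xGL chevG2 mem_G2 F 3 (-1) * xGL chevG2 mem_G2 F 10 1) *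
        (xGL chevG2 mem_G2 F 8 1 * xGL chevG2 mem_G2 F 1 (-1)) * xGL chevG2 mem_G2 F 10 1 := by group
    _ = xGL chevG2 mem_G2 F 8 1 * (xGL chevG2 mem_G2 F 10 1 * xGL chevG2 mem_G2 F 3 (-1)) *
        (xGL chevG2 mem_G2 F 1 (-1) * xGL chevG2 mem_G2 F 8 1) * xGL chevG2 mem_G2 F 10 1 := by
      rw [h2', h3']
    _ = _ := by group

end

end Cfsg.Agent.Lib.Helper7
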