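import Cfsg.Agent.Lib.Helper7.G2Tw9

/-! The `(B,N)`-pair of rank one of the fixed points of the twisting automorphism of `G₂`, and the core
of `B¹` (helper7). -/

set_option autoImplicit false

namespace Cfsg.Agent.Lib.Helper7

open Cfsg Cfsg.Lie Matrix

section
variable {F : Type*} [Field F]
variable {τ : ↥(chevG2.group F) ≃* ↥(chevG2.group F)} {θ : ℕ} (hτ : TauData F τ θ)

/-- `B¹` as a subgroup of the fixed points -/
def fixB (F : Type*) [Field F] (τ : ↥(chevG2.group F) ≃* ↥(chevG2.group F)) : Subgroup ↥(fixTau F τ) :=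
  (chevG2.borelSubgroup F ⊓ fixTau F τ).subgroupOf (fixTau F τ)

/-- `N¹` as a subgroup of the fixed points -/
def fixN (F : Type*) [Field F] (τ : ↥(chevG2.group F) ≃* ↥(chevG2.group F)) : Subgroup ↥(fixTau F τ) :=
  (chevG2.monomialSubgroup F ⊓ fixTau F τ).subgroupOf (fixTau F τ)

theorem mem_fixB (g : ↥(fixTau F τ)) : g ∈ fixB F τ ↔ (g : GL chevG2.Idx F) ∈ chevG2.borelSubgroup F := by
  unfold fixB
  rw [Subgroup.mem_subgroupOf, Subgroup.mem_inf]
  exact ⟨fun h => h.1, fun h => ⟨h, g.2⟩⟩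

theorem mem_fixN (g : ↥(fixTau F τ)) : g ∈ fixN F τ ↔ (g : GL chevG2.Idx F) ∈ chevG2.monomialSubgroup F := by
  unfold fixN
  rw [Subgroup.mem_subgroupOf, Subgroup.mem_inf]
  exact ⟨fun h => h.1, fun h => ⟨h, g.2⟩⟩

include hτ

/-- the representative of the nontrivial element of the Weyl group -/
noncomputable def n0Fix : ↥(fixTau F τ) := ⟨n0G2 F, n0G2_mem_fixTau hτ⟩

/-- the two cells -/
theorem fix_cells (g : ↥(fixTau F τ)) :
    g ∈ fixB F τ ∨ ∃ b ∈ fixB F τ, ∃ u ∈ fixB F τ, g = b * n0Fix hτ * u := by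
  rcases fix_cases hτ g.1 g.2 with hB | ⟨b, hb, u, hu, e⟩
  · left
    exact (mem_fixB g).mpr hB
  · right
    have hbF := (Subgroup.mem_inf.mp hb).2
    have huF := (Subgroup.mem_inf.mp hu).2
    refine ⟨⟨b, hbF⟩, (mem_fixB _).mpr (Subgroup.mem_inf.mp hb).1, ⟨u, huF⟩,
      (mem_fixB _).mpr (posUnipotent_le_borel chevG2 mem_G2 F (Subgroup.mem_inf.mp hu).1), ?_⟩
    apply Subtype.ext
    exact e

theorem diag_le_borel_fix (g : ↥(fixTau F τ)) (h : (g : GL chevG2.Idx F) ∈ chevG2.diagonalSubgroup F) :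
    g ∈ fixB F τ ⊓ fixN F τ := by
  refine Subgroup.mem_inf.mpr ⟨(mem_fixB g).mpr (diagonal_le_borel chevG2 mem_G2 F h), (mem_fixN g).mpr ?_⟩
  have := borel_inf_monomial chevG2 mem_G2 F
  rw [← this] at h
  exact (Subgroup.mem_inf.mp h).2

theorem n0Fix_mem_fixN : n0Fix hτ ∈ fixN F τ := (mem_fixN _).mpr (n0G2_mem_monomial F)

theorem n0Fix_sq_mem : (n0Fix hτ * n0Fix hτ : ↥(fixTau F τ)).1 ∈ chevG2.diagonalSubgroup F :=
  n0G2_sq_mem hτ

/-- the `(B,N)`-pair of the fixed points -/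
theorem exists_fixBNPair : ∃ P : Cfsg.BNPair ↥(fixTau F τ), P.B = fixB F τ ∧ P.N = fixN F τ ∧
    P.S = {n0Fix hτ} := by
  have hθ : θ ≠ 0 := (theta_pos hτ).ne'
  refine ⟨Cfsg.BNPair.mk (fixB F τ) (fixN F τ) {n0Fix hτ} ?_ ?_ ?_ ?_ ?_ ?_ ?_ ?_, rfl, rfl, rfl⟩
  · rw [eq_top_iff]
    intro g _
    rcases fix_cells hτ g with hB | ⟨b, hb, u, hu, rfl⟩
    · exact Subgroup.mem_sup_left hB
    · exact Subgroup.mul_mem _ (Subgroup.mul_mem _ (Subgroup.mem_sup_left hb)
        (Subgroup.mem_sup_right (n0Fix_mem_fixN hτ))) (Subgroup.mem_sup_left hu)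
  · intro n hn t ht
    rw [mem_fixB]
    have htH : (t : GL chevG2.Idx F) ∈ chevG2.diagonalSubgroup F := by
      rw [← borel_inf_monomial chevG2 mem_G2 F]
      exact Subgroup.mem_inf.mpr ⟨(mem_fixB t).mp (Subgroup.mem_inf.mp ht).1,
        (mem_fixN t).mp (Subgroup.mem_inf.mp ht).2⟩
    exact diagonal_le_borel chevG2 mem_G2 F (conj_diagonal_mem _ _ ((mem_fixN n).mp hn) htH)
  · intro s hs
    rw [Set.mem_singleton_iff] at hs
    rw [hs]
    exact n0Fix_mem_fixN hτ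
  · intro s hs
    rw [Set.mem_singleton_iff] at hs
    rw [hs, mem_fixB]
    exact diagonal_le_borel chevG2 mem_G2 F (n0Fix_sq_mem hτ)
  · intro s hs s' hs' _
    rw [Set.mem_singleton_iff] at hs hs'
    rw [hs, hs']
  · apply le_antisymm
    · apply sup_le
      · rw [Subgroup.closure_le]
        intro s hs
        rw [Set.mem_singleton_iff] at hs
        rw [hs]
        exact n0Fix_mem_fixN hτ
      · exact inf_le_right
    · intro n hn
      have hnN := (mem_fixN n).mp hn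
      rcases fixN_cases hτ n.1 (Subgroup.mem_inf.mpr ⟨hnN, n.2⟩) with hH | hneg
      · exact Subgroup.mem_sup_right (diag_le_borel_fix hτ n hH)
      · have hk : ((n0Fix hτ * n : ↥(fixTau F τ)) : GL chevG2.Idx F) ∈ chevG2.diagonalSubgroup F :=
          mul_mem_diagonal_of_neg hτ _ _ (n0G2_mem_monomial F) hnN (n0G2_actsAs hτ) hneg
        have e : n = (n0Fix hτ)⁻¹ * (n0Fix hτ * n) := by group
        rw [e]
        exact Subgroup.mul_mem _ (Subgroup.mem_sup_left (Subgroup.inv_mem _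
          (Subgroup.subset_closure (Set.mem_singleton _)))) (Subgroup.mem_sup_right (diag_le_borel_fix hτ _ hk))
  · intro s hs n hn b hb
    rw [Set.mem_singleton_iff] at hs
    subst hs
    have hnN := (mem_fixN n).mp hn
    rcases fixN_cases hτ n.1 (Subgroup.mem_inf.mpr ⟨hnN, n.2⟩) with hH | hneg
    · have hnB : n ∈ fixB F τ := (Subgroup.mem_inf.mp (diag_le_borel_fix hτ n hH)).1
      rcases fix_cells hτ (n0Fix hτ * b * n) with hB | ⟨b₁, hb₁, u₂, hu₂, e⟩
      · right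
        rw [DoubleCoset.mem_doubleCoset]
        refine ⟨n0Fix hτ * b * n * n⁻¹, Subgroup.mul_mem _ hB (Subgroup.inv_mem _ hnB), 1,
          Subgroup.one_mem _, ?_⟩
        group
      · left
        rw [DoubleCoset.mem_doubleCoset]
        refine ⟨b₁, hb₁, n⁻¹ * u₂, Subgroup.mul_mem _ (Subgroup.inv_mem _ hnB) hu₂, ?_⟩
        rw [e]
        group
    · have hk : ((n0Fix hτ * n : ↥(fixTau F τ)) : GL chevG2.Idx F) ∈ chevG2.diagonalSubgroup F :=
        mul_mem_diagonal_of_neg hτ _ _ (n0G2_mem_monomial F) hnN (n0G2_actsAs hτ) hneg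
      have hkB : n0Fix hτ * n ∈ fixB F τ := (Subgroup.mem_inf.mp (diag_le_borel_fix hτ _ hk)).1
      have hsq : n0Fix hτ * n0Fix hτ ∈ fixB F τ :=
        (Subgroup.mem_inf.mp (diag_le_borel_fix hτ _ (n0Fix_sq_mem hτ))).1
      rcases fix_cells hτ (n0Fix hτ * b * n) with hB | ⟨b₁, hb₁, u₂, hu₂, e⟩
      · left
        rw [DoubleCoset.mem_doubleCoset]
        refine ⟨n0Fix hτ * b * n * (n0Fix hτ * n)⁻¹, Subgroup.mul_mem _ hB (Subgroup.inv_mem _ hkB), 1,
          Subgroup.one_mem _, ?_⟩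
        group
      · right
        rw [DoubleCoset.mem_doubleCoset]
        refine ⟨b₁ * (n0Fix hτ * n0Fix hτ), Subgroup.mul_mem _ hb₁ hsq, (n0Fix hτ * n)⁻¹ * u₂,
          Subgroup.mul_mem _ (Subgroup.inv_mem _ hkB) hu₂, ?_⟩
        rw [e]
        group
  · intro s hs heq
    rw [Set.mem_singleton_iff] at hs
    subst hs
    -- the element `u = x₈(1) x₁₀(1)` of `U¹`
    have hu1 : xGL chevG2 mem_G2 F 8 1 * xGL chevG2 mem_G2 F 10 1 = reeU θ 0 1 0 := by
      rw [reeU_eq, ordProd_c6fn]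
      simp only [zero_pow hθ, one_pow, zero_pow (Nat.succ_ne_zero _), zero_add, xGL_zero, one_mul, mul_one,
        add_zero]
    obtain ⟨u, hu⟩ : ∃ u, u = xGL chevG2 mem_G2 F 8 1 * xGL chevG2 mem_G2 F 10 (1 : F) := ⟨_, rfl⟩
    have huU : u ∈ chevG2.posUnipotent F := by
      rw [hu, hu1]; exact reeU_mem_posUnipotent θ _ _ _
    have huF : u ∈ fixTau F τ := by
      rw [hu, hu1]; exact reeU_mem_fixTau hτ _ _ _
    have hmem : n0Fix hτ * ⟨u, huF⟩ * n0Fix hτ ∈ ((fixB F τ : Subgroup ↥(fixTau F τ)) : Set ↥(fixTau F τ)) := by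
      rw [← heq]
      exact ⟨⟨u, huF⟩, (mem_fixB _).mpr (posUnipotent_le_borel chevG2 mem_G2 F huU), rfl⟩
    have h1 : n0G2 F * u * n0G2 F ∈ chevG2.borelSubgroup F := (mem_fixB _).mp hmem
    have h2 : n0G2 F * u * (n0G2 F)⁻¹ ∈ chevG2.borelSubgroup F := by
      have : n0G2 F * u * (n0G2 F)⁻¹ = n0G2 F * u * n0G2 F * (n0G2 F * n0G2 F)⁻¹ := by group
      rw [this]
      exact Subgroup.mul_mem _ h1 (Subgroup.inv_mem _ (diagonal_le_borel chevG2 mem_G2 F (n0G2_sq_mem hτ)))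
    have h3 : n0G2 F * u * (n0G2 F)⁻¹ ∈ chevG2.borelSubgroup F ⊓ chevG2.negUnipotent F :=
      Subgroup.mem_inf.mpr ⟨h2, conj_n0_mem_negUnipotent hτ u huU⟩
    rw [borel_inf_negUnipotent chevG2 mem_G2 F, Subgroup.mem_bot] at h3
    have h4 : u = 1 := by
      have := congrArg (fun x => (n0G2 F)⁻¹ * x * n0G2 F) h3
      simpa [mul_assoc] using this
    rw [hu] at h4
    have h5 : xGL chevG2 mem_G2 F 8 (1 : F) = xGL chevG2 mem_G2 F 10 (-1) := by
      rw [← xGL_inv]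
      exact eq_inv_of_mul_eq_one_left h4
    have := xGL_root_inj chevG2 mem_G2 F 8 10 (by decide) (by decide) _ _ one_ne_zero h5
    omega

end

end Cfsg.Agent.Lib.Helper7
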