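import Cfsg.Agent.Lib.Helper7.G2Tw3

/-! Cubes in the unipotent group of `G₂` in characteristic 3 (helper7). -/

set_option autoImplicit false

namespace Cfsg.Agent.Lib.Helper7

open Cfsg Cfsg.Lie Matrix

section abstract
variable {G : Type*} [Group G] {F : Type*} [Field F]
variable (xa xb x1 x2 x3 x4 : F → G)

/-- normal form `x_a(α) x_b(β) w` -/
def nf6 (α β c1 c2 c3 c4 : F) : G := xa α * xb β * uH4 x1 x2 x3 x4 c1 c2 c3 c4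

variable (ha : ∀ s t, xa s * xa t = xa (s + t)) (hb : ∀ s t, xb s * xb t = xb (s + t))
  (h1 : ∀ s t, x1 s * x1 t = x1 (s + t)) (h2 : ∀ s t, x2 s * x2 t = x2 (s + t))
  (h3 : ∀ s t, x3 s * x3 t = x3 (s + t)) (h4 : ∀ s t, x4 s * x4 t = x4 (s + t))
  (c12 : ∀ s t, Commute (x1 s) (x2 t)) (c13 : ∀ s t, Commute (x1 s) (x3 t))
  (c14 : ∀ s t, Commute (x1 s) (x4 t)) (c23 : ∀ s t, Commute (x2 s) (x3 t))
  (c24 : ∀ s t, Commute (x2 s) (x4 t)) (c34 : ∀ s t, Commute (x3 s) (x4 t))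
  (r1 : ∀ s u, x1 u * xa s = xa s * x1 u * x2 (-(s * u)))
  (ca2 : ∀ s u, Commute (x2 u) (xa s)) (ca3 : ∀ s u, Commute (x3 u) (xa s))
  (ca4 : ∀ s u, Commute (x4 u) (xa s))
  (r3 : ∀ t u, x3 u * xb t = xb t * x3 u * x4 (-(t * u)))
  (cb1 : ∀ t u, Commute (x1 u) (xb t)) (cb2 : ∀ t u, Commute (x2 u) (xb t))
  (cb4 : ∀ t u, Commute (x4 u) (xb t))

include h2 c23 c24 r1 ca2 ca3 ca4 in
theorem uH4_mul_xa (s c1 c2 c3 c4 : F) :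
    uH4 x1 x2 x3 x4 c1 c2 c3 c4 * xa s = xa s * uH4 x1 x2 x3 x4 c1 (c2 - s * c1) c3 c4 := by
  unfold uH4
  have e4 : x4 c4 * xa s = xa s * x4 c4 := (ca4 s c4).eq
  have e3 : x3 c3 * xa s = xa s * x3 c3 := (ca3 s c3).eq
  have e2 : x2 c2 * xa s = xa s * x2 c2 := (ca2 s c2).eq
  calc x1 c1 * x2 c2 * x3 c3 * x4 c4 * xa s = x1 c1 * x2 c2 * x3 c3 * (x4 c4 * xa s) := by group
    _ = x1 c1 * x2 c2 * (x3 c3 * xa s) * x4 c4 := by rw [e4]; group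
    _ = x1 c1 * (x2 c2 * xa s) * x3 c3 * x4 c4 := by rw [e3]; group
    _ = (x1 c1 * xa s) * x2 c2 * x3 c3 * x4 c4 := by rw [e2]; group
    _ = xa s * x1 c1 * (x2 (-(s * c1)) * x2 c2) * x3 c3 * x4 c4 := by rw [r1]; group
    _ = xa s * (x1 c1 * x2 (c2 - s * c1) * x3 c3 * x4 c4) := by
      rw [h2, show -(s * c1) + c2 = c2 - s * c1 by ring]; group

include h4 c14 c24 c34 r3 cb1 cb2 cb4 in
theorem uH4_mul_xb (t c1 c2 c3 c4 : F) :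
    uH4 x1 x2 x3 x4 c1 c2 c3 c4 * xb t = xb t * uH4 x1 x2 x3 x4 c1 c2 c3 (c4 - t * c3) := by
  unfold uH4
  have e4 : x4 c4 * xb t = xb t * x4 c4 := (cb4 t c4).eq
  have e2 : x2 c2 * xb t = xb t * x2 c2 := (cb2 t c2).eq
  have e1 : x1 c1 * xb t = xb t * x1 c1 := (cb1 t c1).eq
  calc x1 c1 * x2 c2 * x3 c3 * x4 c4 * xb t = x1 c1 * x2 c2 * x3 c3 * (x4 c4 * xb t) := by group
    _ = x1 c1 * x2 c2 * (x3 c3 * xb t) * x4 c4 := by rw [e4]; group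
    _ = x1 c1 * (x2 c2 * xb t) * x3 c3 * (x4 (-(t * c3)) * x4 c4) := by rw [r3]; group
    _ = (x1 c1 * xb t) * x2 c2 * x3 c3 * x4 (c4 - t * c3) := by
      rw [e2, h4, show -(t * c3) + c4 = c4 - t * c3 by ring]; group
    _ = xb t * (x1 c1 * x2 c2 * x3 c3 * x4 (c4 - t * c3)) := by rw [e1]; group

variable (hrel : ∀ s t, xb t * xa s = xa s * xb t *
    uH4 x1 x2 x3 x4 (s * t) (s ^ 2 * t) (-(s ^ 3 * t)) (-(s ^ 3 * t ^ 2)))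

include ha hb h1 h2 h3 h4 c12 c13 c14 c23 c24 c34 r1 ca2 ca3 ca4 r3 cb1 cb2 cb4 hrel in
/-- multiplication of normal forms -/
theorem nf6_mul (α β c1 c2 c3 c4 α' β' d1 d2 d3 d4 : F) :
    nf6 xa xb x1 x2 x3 x4 α β c1 c2 c3 c4 * nf6 xa xb x1 x2 x3 x4 α' β' d1 d2 d3 d4 =
      nf6 xa xb x1 x2 x3 x4 (α + α') (β + β') (α' * β + c1 + d1) (α' ^ 2 * β + (c2 - α' * c1) + d2)
        (-(α' ^ 3 * β) + c3 + d3) ((-(α' ^ 3 * β ^ 2) - β' * (-(α' ^ 3 * β))) + (c4 - β' * c3) + d4) := by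
  unfold nf6
  have hmul := uH4_mul x1 x2 x3 x4 h1 h2 h3 h4 c12 c13 c14 c23 c24 c34
  calc xa α * xb β * uH4 x1 x2 x3 x4 c1 c2 c3 c4 * (xa α' * xb β' * uH4 x1 x2 x3 x4 d1 d2 d3 d4)
      = xa α * xb β * (uH4 x1 x2 x3 x4 c1 c2 c3 c4 * xa α') * xb β' * uH4 x1 x2 x3 x4 d1 d2 d3 d4 := by
        group
    _ = xa α * (xb β * xa α') * (uH4 x1 x2 x3 x4 c1 (c2 - α' * c1) c3 c4 * xb β') *
          uH4 x1 x2 x3 x4 d1 d2 d3 d4 := by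
        rw [uH4_mul_xa xa x1 x2 x3 x4 h2 c23 c24 r1 ca2 ca3 ca4]; group
    _ = xa α * xa α' * xb β * (uH4 x1 x2 x3 x4 (α' * β) (α' ^ 2 * β) (-(α' ^ 3 * β)) (-(α' ^ 3 * β ^ 2)) *
          xb β') * uH4 x1 x2 x3 x4 c1 (c2 - α' * c1) c3 (c4 - β' * c3) * uH4 x1 x2 x3 x4 d1 d2 d3 d4 := by
        rw [hrel, uH4_mul_xb xb x1 x2 x3 x4 h4 c14 c24 c34 r3 cb1 cb2 cb4]; group
    _ = xa α * xa α' * (xb β * xb β') * (uH4 x1 x2 x3 x4 (α' * β) (α' ^ 2 * β) (-(α' ^ 3 * β))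
          (-(α' ^ 3 * β ^ 2) - β' * (-(α' ^ 3 * β))) *
          uH4 x1 x2 x3 x4 c1 (c2 - α' * c1) c3 (c4 - β' * c3) * uH4 x1 x2 x3 x4 d1 d2 d3 d4) := by
        rw [uH4_mul_xb xb x1 x2 x3 x4 h4 c14 c24 c34 r3 cb1 cb2 cb4]; group
    _ = _ := by
        rw [ha, hb, hmul, hmul]

variable (za : xa 0 = 1) (zb : xb 0 = 1) (z1 : x1 0 = 1) (z3 : x3 0 = 1) (h3F : (3 : F) = 0)

include ha hb h1 h2 h3 h4 c12 c13 c14 c23 c24 c34 r1 ca2 ca3 ca4 r3 cb1 cb2 cb4 hrel za zb z1 z3 h3F in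
/-- the cube of a normal form in characteristic 3 -/
theorem nf6_cube (a b c1 c2 c3 c4 : F) :
    nf6 xa xb x1 x2 x3 x4 a b c1 c2 c3 c4 ^ 3 = x2 (-(a ^ 2 * b)) * x4 (-(a ^ 3 * b ^ 2)) := by
  have hm := nf6_mul xa xb x1 x2 x3 x4 ha hb h1 h2 h3 h4 c12 c13 c14 c23 c24 c34 r1 ca2 ca3 ca4 r3 cb1 cb2 cb4
    hrel
  rw [pow_succ, pow_two, hm, hm]
  have e0 : a + a + a = 0 := by linear_combination a * h3F
  have e0' : b + b + b = 0 := by linear_combination b * h3F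
  have e1 : a * (b + b) + (a * b + c1 + c1) + c1 = 0 := by linear_combination (a * b + c1) * h3F
  have e2 : a ^ 2 * (b + b) + (a ^ 2 * b + (c2 - a * c1) + c2 - a * (a * b + c1 + c1)) + c2 = -(a ^ 2 * b) := by
    linear_combination (a ^ 2 * b + c2 - a * c1) * h3F
  have e3 : -(a ^ 3 * (b + b)) + (-(a ^ 3 * b) + c3 + c3) + c3 = 0 := by
    linear_combination (-(a ^ 3 * b) + c3) * h3F
  have e4 : -(a ^ 3 * (b + b) ^ 2) - b * -(a ^ 3 * (b + b)) +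
      (-(a ^ 3 * b ^ 2) - b * -(a ^ 3 * b) + (c4 - b * c3) + c4 - b * (-(a ^ 3 * b) + c3 + c3)) + c4 =
      -(a ^ 3 * b ^ 2) := by
    linear_combination (c4 - b * c3) * h3F
  rw [e0, e0', e1, e2, e3, e4]
  unfold nf6 uH4
  rw [za, zb, z1, z3]
  group

end abstract

end Cfsg.Agent.Lib.Helper7
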