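import Cfsg.Agent.Lib.Helper7.G2Tw16
import Cfsg.Agent.Lib.Helper7.G2Tw8
import Cfsg.Agent.Lib.Helper7.G2Tw12

/-! Elements of order 3 in the unipotent subgroup `U¹` of the Ree groups (helper7). -/

set_option autoImplicit false

namespace Cfsg.Agent.Lib.Helper7

open Cfsg Cfsg.Lie Matrix

theorem commTerms_G2_more : chevG2.commTerms 7 8 = [(9, -2, 1, 1), (10, -3, 2, 1), (11, 3, 1, 2)] ∧
    chevG2.commTerms 7 9 = [(10, 3, 1, 1)] ∧ chevG2.commTerms 7 10 = [] ∧ chevG2.commTerms 7 11 = [] ∧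
    chevG2.commTerms 6 8 = [] ∧ chevG2.commTerms 6 9 = [] ∧ chevG2.commTerms 6 10 = [(11, 1, 1, 1)] ∧
    chevG2.commTerms 6 11 = [] := by
  decide +kernel

section
variable (F : Type*) [Field F] (h3 : (3 : F) = 0)
include h3

/-- the cube of an element of `U` in characteristic 3 -/
theorem cube_G2 (a b c1 c2 c3 c4 : F) :
    (xGL chevG2 mem_G2 F 7 a * xGL chevG2 mem_G2 F 6 b * (xGL chevG2 mem_G2 F 8 c1 *
      xGL chevG2 mem_G2 F 9 c2 * xGL chevG2 mem_G2 F 10 c3 * xGL chevG2 mem_G2 F 11 c4)) ^ 3 =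
    xGL chevG2 mem_G2 F 9 (-(a ^ 2 * b)) * xGL chevG2 mem_G2 F 11 (-(a ^ 3 * b ^ 2)) := by
  have hT := commTerms_G2_high
  have hM := commTerms_G2_more
  have h3' : (((3 : ℤ)) : F) = 0 := by exact_mod_cast h3
  have := nf6_cube (xGL chevG2 mem_G2 F 7) (xGL chevG2 mem_G2 F 6) (xGL chevG2 mem_G2 F 8)
    (xGL chevG2 mem_G2 F 9) (xGL chevG2 mem_G2 F 10) (xGL chevG2 mem_G2 F 11)
    (xGL_mul chevG2 mem_G2 F 7) (xGL_mul chevG2 mem_G2 F 6)
    (xGL_mul chevG2 mem_G2 F 8) (xGL_mul chevG2 mem_G2 F 9) (xGL_mul chevG2 mem_G2 F 10)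
    (xGL_mul chevG2 mem_G2 F 11)
    (xGL_comm_of_single F 8 9 11 3 1 1 (by decide) (by decide) (by decide) (by decide) hT.1 h3')
    (xGL_comm_of_nil chevG2 mem_G2 F 8 10 (by decide) (by decide) (by decide) (by decide) hT.2.1)
    (xGL_comm_of_nil chevG2 mem_G2 F 8 11 (by decide) (by decide) (by decide) (by decide) hT.2.2.1)
    (xGL_comm_of_nil chevG2 mem_G2 F 9 10 (by decide) (by decide) (by decide) (by decide) hT.2.2.2.1)
    (xGL_comm_of_nil chevG2 mem_G2 F 9 11 (by decide) (by decide) (by decide) (by decide) hT.2.2.2.2.1)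
    (xGL_comm_of_nil chevG2 mem_G2 F 10 11 (by decide) (by decide) (by decide) (by decide) hT.2.2.2.2.2.1)
    (by
      intro s u
      have := comm_formula_GL chevG2 mem_G2 F 7 8 (by decide) (by decide) (by decide) (by decide) s u
      unfold ChevalleyDatum.commWord at this
      rw [hM.1] at this
      rw [this]
      simp only [List.map_cons, List.map_nil, wordGL, List.prod_cons, List.prod_nil, mul_one]
      have e1 : ((-2 : ℤ) : F) * (-s) ^ 1 * u ^ 1 = -(s * u) := by
        push_cast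
        linear_combination (s * u) * h3
      have e2 : ((-3 : ℤ) : F) * (-s) ^ 2 * u ^ 1 = 0 := by
        push_cast
        linear_combination (-(s ^ 2 * u)) * h3
      have e3 : ((3 : ℤ) : F) * (-s) ^ 1 * u ^ 2 = 0 := by
        push_cast
        linear_combination (-(s * u ^ 2)) * h3
      rw [e1, e2, e3, xGL_zero, xGL_zero, mul_one, mul_one])
    (fun s u => (xGL_comm_of_single F 7 9 10 3 1 1 (by decide) (by decide) (by decide) (by decide) hM.2.1 h3'
      s u).symm)
    (fun s u => (xGL_comm_of_nil chevG2 mem_G2 F 7 10 (by decide) (by decide) (by decide) (by decide)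
      hM.2.2.1 s u).symm)
    (fun s u => (xGL_comm_of_nil chevG2 mem_G2 F 7 11 (by decide) (by decide) (by decide) (by decide)
      hM.2.2.2.1 s u).symm)
    (by
      intro t u
      have := comm_formula_GL chevG2 mem_G2 F 6 10 (by decide) (by decide) (by decide) (by decide) t u
      unfold ChevalleyDatum.commWord at this
      rw [hM.2.2.2.2.2.2.1] at this
      rw [this]
      simp only [List.map_cons, List.map_nil, wordGL, List.prod_cons, List.prod_nil, mul_one]
      have e1 : ((1 : ℤ) : F) * (-t) ^ 1 * u ^ 1 = -(t * u) := by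
        push_cast
        ring
      rw [e1])
    (fun t u => (xGL_comm_of_nil chevG2 mem_G2 F 6 8 (by decide) (by decide) (by decide) (by decide)
      hM.2.2.2.2.1 t u).symm)
    (fun t u => (xGL_comm_of_nil chevG2 mem_G2 F 6 9 (by decide) (by decide) (by decide) (by decide)
      hM.2.2.2.2.2.1 t u).symm)
    (fun t u => (xGL_comm_of_nil chevG2 mem_G2 F 6 11 (by decide) (by decide) (by decide) (by decide)
      hM.2.2.2.2.2.2.2 t u).symm)
    (by
      intro s t
      have := comm_formula_GL chevG2 mem_G2 F 7 6 (by decide) (by decide) (by decide) (by decide) s t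
      unfold ChevalleyDatum.commWord at this
      rw [hT.2.2.2.2.2.2] at this
      rw [this]
      unfold uH4
      simp only [List.map_cons, List.map_nil, wordGL, List.prod_cons, List.prod_nil, mul_one, mul_assoc]
      congr 3
      · congr 1; push_cast; ring
      · congr 1
        · congr 1; push_cast; ring
        · congr 1
          · congr 1; push_cast; ring
          · congr 1; push_cast; ring)
    (xGL_zero chevG2 mem_G2 F 7) (xGL_zero chevG2 mem_G2 F 6) (xGL_zero chevG2 mem_G2 F 8)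
    (xGL_zero chevG2 mem_G2 F 10) h3 a b c1 c2 c3 c4
  unfold nf6 uH4 at this
  exact this

end

section
variable {F : Type*} [Field F]
variable {τ : ↥(chevG2.group F) ≃* ↥(chevG2.group F)} {θ : ℕ} (hτ : TauData F τ θ)
include hτ

theorem reeU_cube (t u v : F) : reeU θ t u v ^ 3 =
    xGL chevG2 mem_G2 F 9 (-((t ^ θ) ^ 2 * t)) * xGL chevG2 mem_G2 F 11 (-((t ^ θ) ^ 3 * t ^ 2)) := by
  rw [reeU_eq, ordProd_c6fn]
  exact cube_G2 F hτ.three _ _ _ _ _ _

theorem reeU_cube_eq_one_iff (t u v : F) : reeU θ t u v ^ 3 = 1 ↔ t = 0 := by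
  have hθ : θ ≠ 0 := (theta_pos hτ).ne'
  rw [reeU_cube hτ]
  constructor
  · intro h
    by_contra ht
    have hne : -((t ^ θ) ^ 2 * t) ≠ 0 :=
      neg_ne_zero.mpr (mul_ne_zero (pow_ne_zero _ (pow_ne_zero _ ht)) ht)
    have h5 : xGL chevG2 mem_G2 F 9 (-((t ^ θ) ^ 2 * t)) = xGL chevG2 mem_G2 F 11 (-(-((t ^ θ) ^ 3 * t ^ 2))) := by
      have := eq_inv_of_mul_eq_one_left h
      rw [xGL_inv] at this
      exact this
    have := xGL_root_inj chevG2 mem_G2 F 9 11 (by decide) (by decide) _ _ hne h5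
    omega
  · rintro rfl
    simp only [zero_pow hθ, zero_pow (two_ne_zero), mul_zero, neg_zero, xGL_zero, mul_one]

theorem reeU_eq_one_iff (t u v : F) : reeU θ t u v = 1 ↔ t = 0 ∧ u = 0 ∧ v = 0 := by
  constructor
  · intro h
    rw [← reeU_000 hτ] at h
    exact reeU_inj θ _ _ _ _ _ _ h
  · rintro ⟨rfl, rfl, rfl⟩
    exact reeU_000 hτ

/-- the number of elements of order 3 in `U¹` -/
theorem card_order_three [Fintype F] :
    Nat.card {g : ↥(chevG2.posUnipotent F ⊓ fixTau F τ) // orderOf g = 3} = Fintype.card F ^ 2 - 1 := by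
  classical
  haveI : Fact (Nat.Prime 3) := ⟨Nat.prime_three⟩
  have hmem : ∀ u v : F, reeU θ 0 u v ∈ chevG2.posUnipotent F ⊓ fixTau F τ := fun u v =>
    Subgroup.mem_inf.mpr ⟨reeU_mem_posUnipotent θ _ _ _, reeU_mem_fixTau hτ _ _ _⟩
  let f : {p : F × F // p ≠ 0} → {g : ↥(chevG2.posUnipotent F ⊓ fixTau F τ) // orderOf g = 3} := fun p =>
    ⟨⟨reeU θ 0 p.1.1 p.1.2, hmem _ _⟩, by
      rw [Subgroup.orderOf_mk, orderOf_eq_prime_iff, reeU_cube_eq_one_iff hτ, Ne, reeU_eq_one_iff hτ]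
      refine ⟨rfl, ?_⟩
      rintro ⟨-, h1, h2⟩
      exact p.2 (Prod.ext h1 h2)⟩
  have hf : Function.Bijective f := by
    constructor
    · rintro ⟨⟨u, v⟩, hp⟩ ⟨⟨u', v'⟩, hp'⟩ e
      have e' : reeU θ 0 u v = reeU θ 0 u' v' := congrArg (fun x => (x.1.1 : GL chevG2.Idx F)) e
      obtain ⟨-, h1, h2⟩ := reeU_inj θ _ _ _ _ _ _ e'
      subst h1
      subst h2
      rfl
    · rintro ⟨⟨g, hg⟩, ho⟩
      obtain ⟨t, u, v, rfl⟩ := (posUnipotent_inf_fixTau hτ g).mp hg
      rw [Subgroup.orderOf_mk, orderOf_eq_prime_iff, reeU_cube_eq_one_iff hτ, Ne, reeU_eq_one_iff hτ] at ho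
      obtain ⟨rfl, hne⟩ := ho
      refine ⟨⟨(u, v), ?_⟩, rfl⟩
      intro h0
      apply hne
      exact ⟨rfl, congrArg Prod.fst h0, congrArg Prod.snd h0⟩
  rw [← Nat.card_congr (Equiv.ofBijective f hf)]
  have h1 : Nat.card (Option {p : F × F // p ≠ 0}) = Nat.card (F × F) :=
    Nat.card_congr (Equiv.optionSubtypeNe (0 : F × F))
  rw [Finite.card_option, Nat.card_prod] at h1
  simp only [Nat.card_eq_fintype_card] at h1 ⊢
  rw [pow_two, ← h1]
  omega

end

section
variable {K : Type*} [Field K] [Fintype K] {m : ℕ} (hK : Fintype.card K = 3 ^ (2 * m + 1))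
include hK

theorem ree_card_order_three :
    Nat.card {u : ↥(chevG2.posUnipotent K ⊓ twistedG2 K (3 ^ m)) // orderOf u = 3} =
      (3 ^ (2 * m + 1)) ^ 2 - 1 := by
  obtain ⟨τ, hτ⟩ := exists_tauData hK
  have hsq := sq_dichotomy_of_card hK
  rw [twistedG2_eq_fixTau hτ hsq, card_order_three hτ, hK]

end

end Cfsg.Agent.Lib.Helper7
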