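import Cfsg.Agent.Lib.Helper7.G2Tw1

/-! The fixed points of the twisting automorphism of `G₂`: the cells (helper7). -/

set_option autoImplicit false

namespace Cfsg.Agent.Lib.Helper7

open Cfsg Cfsg.Lie Matrix

theorem neg_G2_pos : ∀ r, chevG2.IsPosRoot r → chevG2.IsNegRoot (chevG2.neg r) := by
  intro r hr
  have h1 : r < 12 := hr.1
  revert hr
  revert r
  decide

theorem neg_G2_neg : ∀ r < 12, chevG2.neg (chevG2.neg r) = r := by decide

section
variable {F : Type*} [Field F]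
variable {τ : ↥(chevG2.group F) ≃* ↥(chevG2.group F)} {θ : ℕ} (hτ : TauData F τ θ)

theorem n0G2_mem_group : n0G2 F ∈ chevG2.group F :=
  monomial_le_group chevG2 mem_G2 F (n0G2_mem_monomial F)

include hτ

theorem n0G2_fix : tauGL F τ (n0G2 F) = n0G2 F := by
  unfold n0G2
  rw [tauGL_mul F τ _ _ (wordGL_mem_group chevG2 mem_G2 F _) (wordGL_mem_group chevG2 mem_G2 F _),
    tauGL_nGL hτ 8 (by decide), tauGL_nGL hτ 10 (by decide), one_pow, one_pow]
  exact ((commute_n8_n10 F 1 1).eq).symm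

theorem n0G2_mem_fixTau : n0G2 F ∈ fixTau F τ := ⟨n0G2_mem_group, n0G2_fix hτ⟩

omit hτ in
theorem n0G2_not_mem_diagonal : n0G2 F ∉ chevG2.diagonalSubgroup F := by
  intro hH
  have hu : xGL chevG2 mem_G2 F 8 1 * xGL chevG2 mem_G2 F 10 1 ∈ chevG2.posUnipotent F :=
    Subgroup.mul_mem _ (xGL_pos_mem chevG2 mem_G2 F 8 (by decide) 1)
      (xGL_pos_mem chevG2 mem_G2 F 10 (by decide) 1)
  have hv : xGL chevG2 mem_G2 F 3 (-1) * xGL chevG2 mem_G2 F 1 (-1) ∈ chevG2.negUnipotent F :=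
    Subgroup.mul_mem _ (xGL_neg_mem chevG2 mem_G2 F 3 (by decide) _)
      (xGL_neg_mem chevG2 mem_G2 F 1 (by decide) _)
  have hB := posUnipotent_le_borel chevG2 mem_G2 F hu
  have hvB : xGL chevG2 mem_G2 F 3 (-1) * xGL chevG2 mem_G2 F 1 (-1) ∈ chevG2.borelSubgroup F := by
    have e : xGL chevG2 mem_G2 F 3 (-1) * xGL chevG2 mem_G2 F 1 (-1) =
        (xGL chevG2 mem_G2 F 8 1 * xGL chevG2 mem_G2 F 10 1)⁻¹ * n0G2 F *
          (xGL chevG2 mem_G2 F 8 1 * xGL chevG2 mem_G2 F 10 1)⁻¹ := by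
      rw [n0G2_eq]; group
    rw [e]
    exact Subgroup.mul_mem _ (Subgroup.mul_mem _ (Subgroup.inv_mem _ hB)
      (diagonal_le_borel chevG2 mem_G2 F hH)) (Subgroup.inv_mem _ hB)
  have h1 : xGL chevG2 mem_G2 F 3 (-1) * xGL chevG2 mem_G2 F 1 (-1) ∈
      chevG2.borelSubgroup F ⊓ chevG2.negUnipotent F := Subgroup.mem_inf.mpr ⟨hvB, hv⟩
  rw [borel_inf_negUnipotent chevG2 mem_G2 F, Subgroup.mem_bot] at h1
  have h2 : xGL chevG2 mem_G2 F 3 (-1) = xGL chevG2 mem_G2 F 1 1 := by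
    have : xGL chevG2 mem_G2 F 3 (-1) = (xGL chevG2 mem_G2 F 1 (-1))⁻¹ := eq_inv_of_mul_eq_one_left h1
    rw [this, xGL_inv, neg_neg]
  have := xGL_root_inj chevG2 mem_G2 F 3 1 (by decide) (by decide) _ _ (by simp) h2
  omega

theorem n0G2_actsAs : ActsAs chevG2 mem_G2 F (n0G2 F) chevG2.neg := by
  rcases monomial_stable_cases hτ (n0G2 F) (n0G2_mem_monomial F) (by
    rw [n0G2_fix hτ, inv_mul_cancel]; exact Subgroup.one_mem _) with h | h
  · exact absurd h n0G2_not_mem_diagonal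
  · exact h

theorem posUnipotent_le_uMinus_n0 : chevG2.posUnipotent F ≤ uMinus chevG2 F (n0G2 F) := by
  unfold ChevalleyDatum.posUnipotent
  rw [Subgroup.closure_le]
  rintro g ⟨r, t, hr, hg⟩
  apply Subgroup.subset_closure
  refine ⟨r, t, hr, ?_, hg⟩
  rw [map_conj_le_iff chevG2 mem_G2 F]
  intro s
  obtain ⟨-, c, -, h⟩ := n0G2_actsAs hτ r hr.1
  rw [h s]
  exact xGL_neg_mem chevG2 mem_G2 F _ (neg_G2_pos r hr) _

theorem uMinus_n0_eq : uMinus chevG2 F (n0G2 F) = chevG2.posUnipotent F :=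
  le_antisymm (uMinus_le_posUnipotent chevG2 F _) (posUnipotent_le_uMinus_n0 hτ)

/-- `n₀² ∈ H` -/
theorem n0G2_sq_mem : n0G2 F * n0G2 F ∈ chevG2.diagonalSubgroup F := by
  have h := ActsAs.mul chevG2 F (n0G2_actsAs hτ) (n0G2_actsAs hτ)
  exact mem_diagonal_of_actsAs_id chevG2 mem_G2 F _
    (Subgroup.mul_mem _ (n0G2_mem_monomial F) (n0G2_mem_monomial F)) _ h
    (fun s hs => neg_G2_neg s hs)

omit hτ in
/-- conjugation by elements of `N` preserves `H` -/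
theorem conj_diagonal_mem (n h : GL chevG2.Idx F) (hn : n ∈ chevG2.monomialSubgroup F)
    (hh : h ∈ chevG2.diagonalSubgroup F) : n * h * n⁻¹ ∈ chevG2.diagonalSubgroup F := by
  have := monomialSubgroup_le_normalizer_diagonal chevG2 mem_G2 F hn
  rw [Subgroup.mem_normalizer_iff] at this
  exact (this h).mp hh

/-- the cells of the fixed points: a fixed element lies in `B` or in `B n₀ U`, with fixed components -/
theorem fix_cases (g : GL chevG2.Idx F) (hg : g ∈ fixTau F τ) :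
    g ∈ chevG2.borelSubgroup F ∨
    ∃ b ∈ chevG2.borelSubgroup F ⊓ fixTau F τ, ∃ u ∈ chevG2.posUnipotent F ⊓ fixTau F τ,
      g = b * n0G2 F * u := by
  obtain ⟨hgG, hgτ⟩ := hg
  obtain ⟨b, hb, n, hn, u, hu, rfl⟩ := canon_exists chevG2 mem_G2 F g hgG
  have hbG := borel_le_group chevG2 mem_G2 F hb
  have hnG := monomial_le_group chevG2 mem_G2 F hn
  have huU := uMinus_le_posUnipotent chevG2 F n hu
  have huG := borel_le_group chevG2 mem_G2 F (posUnipotent_le_borel chevG2 mem_G2 F huU)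
  have e1 : tauGL F τ (b * n * u) = tauGL F τ b * tauGL F τ n * tauGL F τ u := by
    rw [tauGL_mul F τ _ _ (Subgroup.mul_mem _ hbG hnG) huG, tauGL_mul F τ _ _ hbG hnG]
  rw [e1] at hgτ
  have h1 := (canon_unique chevG2 mem_G2 F b (tauGL F τ b) n (tauGL F τ n) u (tauGL F τ u) hb
    (tauGL_borel hτ b hb) hn (tauGL_monomial hτ n hn) hu (tauGL_uMinus hτ n hnG u hu) hgτ.symm).1
  rcases monomial_stable_cases hτ n hn h1 with hH | hneg
  · left
    exact Subgroup.mul_mem _ (Subgroup.mul_mem _ hb (diagonal_le_borel chevG2 mem_G2 F hH))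
      (posUnipotent_le_borel chevG2 mem_G2 F huU)
  · right
    -- `n = n₀ h₁` with `h₁ ∈ H`
    have hact := ActsAs.mul chevG2 F (n0G2_actsAs hτ) hneg
    have hh : n0G2 F * n ∈ chevG2.diagonalSubgroup F :=
      mem_diagonal_of_actsAs_id chevG2 mem_G2 F _ (Subgroup.mul_mem _ (n0G2_mem_monomial F) hn) _ hact
        (fun s hs => neg_G2_neg s hs)
    have hsq := n0G2_sq_mem hτ
    obtain ⟨h₁, hh₁, hnh⟩ : ∃ h₁ ∈ chevG2.diagonalSubgroup F, n = n0G2 F * h₁ := by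
      refine ⟨(n0G2 F * n0G2 F)⁻¹ * (n0G2 F * n), Subgroup.mul_mem _ (Subgroup.inv_mem _ hsq) hh, ?_⟩
      group
    have hb₁ : b * (n0G2 F * h₁ * (n0G2 F)⁻¹) ∈ chevG2.borelSubgroup F :=
      Subgroup.mul_mem _ hb (diagonal_le_borel chevG2 mem_G2 F
        (conj_diagonal_mem _ _ (n0G2_mem_monomial F) hh₁))
    have hu₀ : u ∈ uMinus chevG2 F (n0G2 F) := posUnipotent_le_uMinus_n0 hτ huU
    have e2 : b * n * u = b * (n0G2 F * h₁ * (n0G2 F)⁻¹) * n0G2 F * u := by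
      rw [hnh]; group
    have hb₁G := borel_le_group chevG2 mem_G2 F hb₁
    have e3 : tauGL F τ (b * (n0G2 F * h₁ * (n0G2 F)⁻¹) * n0G2 F * u) =
        tauGL F τ (b * (n0G2 F * h₁ * (n0G2 F)⁻¹)) * n0G2 F * tauGL F τ u := by
      rw [tauGL_mul F τ _ _ (Subgroup.mul_mem _ hb₁G n0G2_mem_group) huG,
        tauGL_mul F τ _ _ hb₁G n0G2_mem_group, n0G2_fix hτ]
    have hfix : tauGL F τ (b * n * u) = b * n * u := by rw [e1]; exact hgτ
    rw [e2, e3] at hfix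
    have hu₀' : tauGL F τ u ∈ uMinus chevG2 F (n0G2 F) := by
      have := tauGL_uMinus hτ (n0G2 F) n0G2_mem_group u hu₀
      rwa [n0G2_fix hτ] at this
    have h2 := (canon_unique chevG2 mem_G2 F _ _ (n0G2 F) (n0G2 F) _ _ (tauGL_borel hτ _ hb₁) hb₁
      (n0G2_mem_monomial F) (n0G2_mem_monomial F) hu₀' hu₀ hfix).2 rfl
    exact ⟨_, Subgroup.mem_inf.mpr ⟨hb₁, hb₁G, h2.1⟩, u, Subgroup.mem_inf.mpr ⟨huU, huG, h2.2⟩, e2⟩

/-- the components of a fixed element of `B = H U` are fixed -/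
theorem fix_borel (b : GL chevG2.Idx F) (hb : b ∈ chevG2.borelSubgroup F ⊓ fixTau F τ) :
    ∃ h ∈ chevG2.diagonalSubgroup F ⊓ fixTau F τ, ∃ u ∈ chevG2.posUnipotent F ⊓ fixTau F τ,
      b = h * u := by
  obtain ⟨hbB, hbG, hbτ⟩ := Subgroup.mem_inf.mp hb
  have hb' : b ∈ ((chevG2.borelSubgroup F : Subgroup (GL chevG2.Idx F)) : Set (GL chevG2.Idx F)) := hbB
  rw [borel_eq_mul chevG2 mem_G2 F] at hb'
  obtain ⟨h, hh, u, hu, rfl⟩ := Set.mem_mul.mp hb'
  have hhG := borel_le_group chevG2 mem_G2 F (diagonal_le_borel chevG2 mem_G2 F hh)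
  have huG := borel_le_group chevG2 mem_G2 F (posUnipotent_le_borel chevG2 mem_G2 F hu)
  rw [tauGL_mul F τ _ _ hhG huG] at hbτ
  have hh' := tauGL_diagonal hτ h hh
  have hu' := tauGL_posUnipotent hτ u hu
  -- `h⁻¹ τ(h) = u τ(u)⁻¹ ∈ H ∩ U = 1`
  have e : h⁻¹ * tauGL F τ h = u * (tauGL F τ u)⁻¹ := by
    have : tauGL F τ h = h * u * (tauGL F τ u)⁻¹ := by rw [← hbτ]; group
    rw [this]; group
  have hmem : h⁻¹ * tauGL F τ h ∈ chevG2.posUnipotent F ⊓ chevG2.diagonalSubgroup F := by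
    refine Subgroup.mem_inf.mpr ⟨?_, Subgroup.mul_mem _ (Subgroup.inv_mem _ hh) hh'⟩
    rw [e]
    exact Subgroup.mul_mem _ hu (Subgroup.inv_mem _ hu')
  rw [posUnipotent_inf_diagonalSubgroup chevG2 mem_G2 F, Subgroup.mem_bot] at hmem
  have hτh : tauGL F τ h = h := by
    have := congrArg (fun x => h * x) hmem
    simpa using this
  have hτu : tauGL F τ u = u := by
    rw [hτh] at hbτ
    exact mul_left_cancel hbτ
  exact ⟨h, Subgroup.mem_inf.mpr ⟨hh, hhG, hτh⟩, u, Subgroup.mem_inf.mpr ⟨hu, huG, hτu⟩, rfl⟩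

end

end Cfsg.Agent.Lib.Helper7
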