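import Cfsg.Agent.Lib.Helper7.G2Tw22
import Cfsg.Agent.Lib.Helper11.ChevSL2

/-! The subgroup `PSL₂(q)` of the Ree group `²G₂(q)` (helper7). -/

set_option autoImplicit false

namespace Cfsg.Agent.Lib.Helper7

open Cfsg Cfsg.Lie Matrix Cfsg.Agent.Lib.Helper11.SL2Hom

theorem commute_of_closure {G : Type*} [Group G] (S T : Set G) (h : ∀ s ∈ S, ∀ t ∈ T, s * t = t * s) :
    ∀ x ∈ Subgroup.closure S, ∀ y ∈ Subgroup.closure T, x * y = y * x := by
  intro x hx y hy
  have h1 : Subgroup.closure T ≤ Subgroup.centralizer (Subgroup.closure S : Set G) := by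
    rw [Subgroup.closure_le]
    intro t ht
    rw [SetLike.mem_coe, Subgroup.mem_centralizer_iff]
    intro x' hx'
    have h2 : Subgroup.closure S ≤ Subgroup.centralizer {t} := by
      rw [Subgroup.closure_le]
      intro s hs
      rw [SetLike.mem_coe, Subgroup.mem_centralizer_iff]
      intro t' ht'
      rw [Set.mem_singleton_iff] at ht'
      rw [ht']
      exact (h s hs t ht).symm
    exact (Subgroup.mem_centralizer_iff.mp (h2 hx') t (Set.mem_singleton t)).symm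
  exact Subgroup.mem_centralizer_iff.mp (h1 hy) x hx

section sl2
variable {F : Type*} [Field F]

local notation:1024 "↑ₘ" A:1024 => ((A : SpecialLinearGroup (Fin 2) F) : Matrix (Fin 2) (Fin 2) F)

theorem yS_mul_wS' (t : F) : yS t * (wS : SpecialLinearGroup (Fin 2) F) = wS * xS (-t) := by
  apply Matrix.SpecialLinearGroup.ext
  intro i j
  show (↑ₘ(yS t * (wS : SpecialLinearGroup (Fin 2) F))) i j = (↑ₘ((wS : SpecialLinearGroup (Fin 2) F) * xS (-t))) i j
  fin_cases i <;> fin_cases j <;>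
    simp [coe_xS, coe_yS, coe_wS, Matrix.mul_apply, Fin.sum_univ_two]

theorem wS_eq : (wS : SpecialLinearGroup (Fin 2) F) = xS 1 * yS (-1) * xS 1 := by
  apply Matrix.SpecialLinearGroup.ext
  intro i j
  show (↑ₘ(wS : SpecialLinearGroup (Fin 2) F)) i j = (↑ₘ(xS (1 : F) * yS (-1) * xS 1)) i j
  fin_cases i <;> fin_cases j <;>
    simp [coe_xS, coe_yS, coe_wS, Matrix.mul_apply, Fin.sum_univ_two]

theorem hS_eq (c : F) (hc : c ≠ 0) :
    hS c hc = xS c * yS (-c⁻¹) * xS c * (xS (-1) * yS (-(-1 : F)⁻¹) * xS (-1)) := by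
  apply Matrix.SpecialLinearGroup.ext
  intro i j
  show (↑ₘ(hS c hc)) i j = (↑ₘ(xS c * yS (-c⁻¹) * xS c * (xS (-1) * yS (-(-1 : F)⁻¹) * xS (-1)))) i j
  fin_cases i <;> fin_cases j <;>
    simp [coe_xS, coe_yS, coe_hS, Matrix.mul_apply, Fin.sum_univ_two, hc]

theorem map_xS (f : F →+* F) (t : F) : SpecialLinearGroup.map f (xS t) = xS (f t) := by
  apply Matrix.SpecialLinearGroup.ext
  intro i j
  show (↑ₘ(SpecialLinearGroup.map f (xS t))) i j = (↑ₘ(xS (f t))) i j
  rw [SpecialLinearGroup.map_apply_coe]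
  fin_cases i <;> fin_cases j <;> simp [coe_xS, RingHom.mapMatrix_apply]

theorem map_yS (f : F →+* F) (t : F) : SpecialLinearGroup.map f (yS t) = yS (f t) := by
  apply Matrix.SpecialLinearGroup.ext
  intro i j
  show (↑ₘ(SpecialLinearGroup.map f (yS t))) i j = (↑ₘ(yS (f t))) i j
  rw [SpecialLinearGroup.map_apply_coe]
  fin_cases i <;> fin_cases j <;> simp [coe_yS, RingHom.mapMatrix_apply]

theorem map_hS (f : F →+* F) (c : F) (hc : c ≠ 0) (hfc : f c ≠ 0) :
    SpecialLinearGroup.map f (hS c hc) = hS (f c) hfc := by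
  apply Matrix.SpecialLinearGroup.ext
  intro i j
  show (↑ₘ(SpecialLinearGroup.map f (hS c hc))) i j = (↑ₘ(hS (f c) hfc)) i j
  rw [SpecialLinearGroup.map_apply_coe]
  fin_cases i <;> fin_cases j <;> simp [coe_hS, RingHom.mapMatrix_apply]

/-- the image of `diag(c, c⁻¹)` under a root homomorphism -/
theorem phi_hS (D : ChevalleyDatum) (hD : D ∈ [chevG2, chevB2, chevD4, chevF4, chevE6, chevE7, chevE8])
    (φ : SpecialLinearGroup (Fin 2) F →* GL D.Idx F) (r : ℕ)
    (hx : ∀ t : F, φ (xS t) = xGL D hD F r t) (hy : ∀ t : F, φ (yS t) = xGL D hD F (D.neg r) t)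
    (c : F) (hc : c ≠ 0) : φ (hS c hc) = wordGL D hD F (D.hWord r c) := by
  unfold ChevalleyDatum.hWord
  rw [wordGL_append, nGL_eq, nGL_eq, hS_eq c hc]
  simp only [map_mul, hx, hy]

end sl2

/-- a pair of commuting root homomorphisms for the roots `a + b` and `3a + b` of `G₂` -/
structure ReeSL2 (F : Type*) [Field F] where
  φa : SpecialLinearGroup (Fin 2) F →* GL chevG2.Idx F
  φb : SpecialLinearGroup (Fin 2) F →* GL chevG2.Idx F
  xa : ∀ t : F, φa (xS t) = xGL chevG2 mem_G2 F 8 t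
  ya : ∀ t : F, φa (yS t) = xGL chevG2 mem_G2 F 3 t
  xb : ∀ t : F, φb (xS t) = xGL chevG2 mem_G2 F 10 t
  yb : ∀ t : F, φb (yS t) = xGL chevG2 mem_G2 F 1 t
  comm : ∀ M N, φa M * φb N = φb N * φa M

theorem nonempty_reeSL2 (F : Type*) [Field F] : Nonempty (ReeSL2 F) := by
  obtain ⟨φ₈, hr8, hx8, hy8⟩ := Cfsg.Agent.Lib.Helper11.ChevSL2.exists_sl2_hom chevG2 mem_G2 F 8 (by decide)
  obtain ⟨φ₁₀, hr10, hx10, hy10⟩ :=
    Cfsg.Agent.Lib.Helper11.ChevSL2.exists_sl2_hom chevG2 mem_G2 F 10 (by decide)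
  have e8 : chevG2.neg 8 = 3 := by decide
  have e10 : chevG2.neg 10 = 1 := by decide
  rw [e8] at hr8 hy8
  rw [e10] at hr10 hy10
  have hO := commTerms_G2_orth
  refine ⟨⟨φ₈, φ₁₀, hx8, hy8, hx10, hy10, ?_⟩⟩
  intro M N
  have h1 : φ₈ M ∈ φ₈.range := ⟨M, rfl⟩
  have h2 : φ₁₀ N ∈ φ₁₀.range := ⟨N, rfl⟩
  rw [hr8] at h1
  rw [hr10] at h2
  unfold ChevalleyDatum.rootSubgroup at h1 h2
  rw [← Subgroup.closure_union] at h1 h2
  apply commute_of_closure _ _ ?_ _ h1 _ h2
  rintro s (⟨a, ha⟩ | ⟨a, ha⟩) t (⟨b, hb⟩ | ⟨b, hb⟩)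
  · have es : s = xGL chevG2 mem_G2 F 8 a := Units.ext ha
    have et : t = xGL chevG2 mem_G2 F 10 b := Units.ext hb
    rw [es, et]
    exact (xGL_comm_of_nil chevG2 mem_G2 F 8 10 (by decide) (by decide) (by decide) (by decide) hO.1 a b).eq
  · have es : s = xGL chevG2 mem_G2 F 8 a := Units.ext ha
    have et : t = xGL chevG2 mem_G2 F 1 b := Units.ext hb
    rw [es, et]
    exact (xGL_comm_of_nil chevG2 mem_G2 F 8 1 (by decide) (by decide) (by decide) (by decide) hO.2.1 a b).eq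
  · have es : s = xGL chevG2 mem_G2 F 3 a := Units.ext ha
    have et : t = xGL chevG2 mem_G2 F 10 b := Units.ext hb
    rw [es, et]
    exact (xGL_comm_of_nil chevG2 mem_G2 F 3 10 (by decide) (by decide) (by decide) (by decide) hO.2.2.1 a b).eq
  · have es : s = xGL chevG2 mem_G2 F 3 a := Units.ext ha
    have et : t = xGL chevG2 mem_G2 F 1 b := Units.ext hb
    rw [es, et]
    exact (xGL_comm_of_nil chevG2 mem_G2 F 3 1 (by decide) (by decide) (by decide) (by decide) hO.2.2.2 a b).eq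

section
variable {F : Type*} [Field F]
variable {τ : ↥(chevG2.group F) ≃* ↥(chevG2.group F)} {θ : ℕ} (hτ : TauData F τ θ)

/-- the ring homomorphism `t ↦ t ^ θ` -/
def thetaHom : F →+* F where
  toFun t := t ^ θ
  map_one' := one_pow θ
  map_mul' x y := mul_pow x y θ
  map_zero' := zero_pow (theta_pos hτ).ne'
  map_add' := hτ.add_pow

theorem thetaHom_apply (t : F) : thetaHom hτ t = t ^ θ := rfl

variable (R : ReeSL2 F)

/-- the twisted diagonal homomorphism `SL₂(F) → G¹` -/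
noncomputable def ReeSL2.Phi : SpecialLinearGroup (Fin 2) F →* GL chevG2.Idx F :=
  MonoidHom.mk' (fun M => R.φa (SpecialLinearGroup.map (thetaHom hτ) M) * R.φb M) (by
    intro M N
    rw [map_mul, map_mul, map_mul]
    have := R.comm (SpecialLinearGroup.map (thetaHom hτ) N) M
    calc R.φa (SpecialLinearGroup.map (thetaHom hτ) M) * R.φa (SpecialLinearGroup.map (thetaHom hτ) N) *
          (R.φb M * R.φb N)
        = R.φa (SpecialLinearGroup.map (thetaHom hτ) M) *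
          (R.φa (SpecialLinearGroup.map (thetaHom hτ) N) * R.φb M) * R.φb N := by group
      _ = R.φa (SpecialLinearGroup.map (thetaHom hτ) M) *
          (R.φb M * R.φa (SpecialLinearGroup.map (thetaHom hτ) N)) * R.φb N := by rw [this]
      _ = _ := by group)

theorem ReeSL2.Phi_apply (M : SpecialLinearGroup (Fin 2) F) :
    R.Phi hτ M = R.φa (SpecialLinearGroup.map (thetaHom hτ) M) * R.φb M := rfl

include hτ in
theorem reeU_0u0 (u : F) : reeU θ 0 u 0 = xGL chevG2 mem_G2 F 8 (u ^ θ) * xGL chevG2 mem_G2 F 10 u := by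
  have hθ : θ ≠ 0 := (theta_pos hτ).ne'
  rw [reeU_eq, ordProd_c6fn]
  simp only [zero_pow hθ, zero_pow (Nat.succ_ne_zero _), zero_add, xGL_zero, one_mul, mul_one,
    add_zero]

theorem ReeSL2.Phi_xS (t : F) : R.Phi hτ (xS t) = reeU θ 0 t 0 := by
  rw [R.Phi_apply, map_xS, R.xa, R.xb, thetaHom_apply, reeU_0u0 hτ]

theorem ReeSL2.Phi_yS (t : F) :
    R.Phi hτ (yS t) = xGL chevG2 mem_G2 F 3 (t ^ θ) * xGL chevG2 mem_G2 F 1 t := by
  rw [R.Phi_apply, map_yS, R.ya, R.yb, thetaHom_apply]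

theorem ReeSL2.Phi_wS : R.Phi hτ wS = n0G2 F := by
  rw [wS_eq, map_mul, map_mul, R.Phi_xS, R.Phi_yS, reeU_0u0 hτ, n0G2_eq, one_pow, hτ.odd.neg_one_pow]

theorem ReeSL2.Phi_hS (c : F) (hc : c ≠ 0) :
    R.Phi hτ (hS c hc) = wordGL chevG2 mem_G2 F (chevG2.hWord 8 (c ^ θ)) *
      wordGL chevG2 mem_G2 F (chevG2.hWord 10 c) := by
  have h' : thetaHom hτ c ≠ 0 := by rw [thetaHom_apply]; exact pow_ne_zero θ hc
  rw [R.Phi_apply, map_hS (thetaHom hτ) c hc h',
    phi_hS chevG2 mem_G2 R.φa 8 R.xa R.ya, phi_hS chevG2 mem_G2 R.φb 10 R.xb R.yb]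
  rfl

theorem ReeSL2.Phi_mem_fixTau (M : SpecialLinearGroup (Fin 2) F) : R.Phi hτ M ∈ fixTau F τ := by
  have hx : ∀ t : F, R.Phi hτ (xS t) ∈ fixTau F τ := by
    intro t
    rw [R.Phi_xS]
    exact reeU_mem_fixTau hτ 0 t 0
  have hw : R.Phi hτ wS ∈ fixTau F τ := by
    rw [R.Phi_wS]
    exact n0G2_mem_fixTau hτ
  have hy : ∀ t : F, R.Phi hτ (yS t) ∈ fixTau F τ := by
    intro t
    have h1 : yS t = (wS : SpecialLinearGroup (Fin 2) F) * xS (-t) * wS⁻¹ := by
      rw [← yS_mul_wS']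
      group
    rw [h1, map_mul, map_mul, map_inv]
    exact Subgroup.mul_mem _ (Subgroup.mul_mem _ hw (hx _)) (Subgroup.inv_mem _ hw)
  have hM : M ∈ Subgroup.closure (Set.range (xS : F → SpecialLinearGroup (Fin 2) F) ∪ Set.range yS) := by
    rw [closure_xS_yS]
    exact Subgroup.mem_top M
  induction hM using Subgroup.closure_induction with
  | mem g hg =>
    rcases hg with ⟨t, rfl⟩ | ⟨t, rfl⟩
    · exact hx t
    · exact hy t
  | one => rw [map_one]; exact Subgroup.one_mem _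
  | mul g g' _ _ ih ih' => rw [map_mul]; exact Subgroup.mul_mem _ ih ih'
  | inv g _ ih => rw [map_inv]; exact Subgroup.inv_mem _ ih

end

end Cfsg.Agent.Lib.Helper7
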