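import Cfsg.Agent.Lib.Helper7.G2Tw23
import Cfsg.Agent.Lib.Helper7.G2Tw19
import Cfsg.Agent.Lib.Helper13.PSL2

/-! The centralizer of an involution of the Ree group `²G₂(q)` (helper7). -/

set_option autoImplicit false

namespace Cfsg.Agent.Lib.Helper7

open Cfsg Cfsg.Lie Matrix Cfsg.Agent.Lib.Helper11.SL2Hom

theorem carR_G2_vals : carR chevG2 8 0 = -3 ∧ carR chevG2 10 0 = -1 := by decide

theorem carR_G2_even : ∀ s < 12, (carR chevG2 8 s + carR chevG2 10 s) % 2 = 0 := by decide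

theorem diagChar_eq_one (F : Type*) [Field F] (χ : ℕ → F) (h : ∀ s < 12, χ s = 1) :
    diagChar chevG2 F χ = 1 := by
  rw [← diagChar_one chevG2 F]
  unfold diagChar
  congr 1
  funext x
  rcases x with j | s
  · rfl
  · exact h s.val s.isLt

section
variable {F : Type*} [Field F]

local notation:1024 "↑ₘ" A:1024 => ((A : SpecialLinearGroup (Fin 2) F) : Matrix (Fin 2) (Fin 2) F)

/-- the character of the image of `diag(c, c⁻¹)` -/
def hhChar (θ : ℕ) (c : F) : ℕ → F := fun s => (c ^ θ) ^ carR chevG2 8 s * c ^ carR chevG2 10 s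

variable {τ : ↥(chevG2.group F) ≃* ↥(chevG2.group F)} {θ : ℕ} (hτ : TauData F τ θ) (R : ReeSL2 F)

theorem Phi_hS_diag (c : F) (hc : c ≠ 0) : ChainChar chevG2 F (hhChar θ c) ∧
    ((R.Phi hτ (hS c hc) : GL chevG2.Idx F) : Matrix chevG2.Idx chevG2.Idx F) =
      diagChar chevG2 F (hhChar θ c) := by
  constructor
  · exact (chainChar_h chevG2 mem_G2 F 8 (c ^ θ) (pow_ne_zero θ hc)).mul
      (chainChar_h chevG2 mem_G2 F 10 c hc)
  · rw [R.Phi_hS, Units.val_mul, coe_wordGL, coe_wordGL]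
    show chevG2.hMat F 8 (c ^ θ) * chevG2.hMat F 10 c = _
    rw [hMat_eq_diagChar chevG2 mem_G2 F 8 (by decide) _ (pow_ne_zero θ hc),
      hMat_eq_diagChar chevG2 mem_G2 F 10 (by decide) c hc, diagChar_mul]
    rfl

theorem Phi_hS_mem_diagonal (c : F) (hc : c ≠ 0) : R.Phi hτ (hS c hc) ∈ chevG2.diagonalSubgroup F := by
  rw [R.Phi_hS]
  exact Subgroup.mul_mem _ (hGL_mem_diagonalSubgroup chevG2 mem_G2 F 8 (by decide) _ (pow_ne_zero θ hc))
    (hGL_mem_diagonalSubgroup chevG2 mem_G2 F 10 (by decide) c hc)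

theorem Phi_hS_mem (c : F) (hc : c ≠ 0) :
    R.Phi hτ (hS c hc) ∈ chevG2.diagonalSubgroup F ⊓ fixTau F τ :=
  Subgroup.mem_inf.mpr ⟨Phi_hS_mem_diagonal hτ R c hc, R.Phi_mem_fixTau hτ _⟩

theorem chi0_Phi_hS (c : F) (hc : c ≠ 0) : chi0 (R.Phi hτ (hS c hc)) = (c ^ (3 * θ + 1))⁻¹ := by
  rw [chi0_diag _ _ (Phi_hS_diag hτ R c hc).2]
  unfold hhChar
  rw [carR_G2_vals.1, carR_G2_vals.2, _root_.zpow_neg, _root_.zpow_neg, _root_.zpow_one, ← mul_inv]
  congr 1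
  rw [show ((3 : ℤ)) = ((3 : ℕ) : ℤ) by rfl, _root_.zpow_natCast, ← pow_mul, mul_comm θ 3, ← pow_succ]

/-- central elements of `SL₂` are in the kernel -/
theorem Phi_center (M : SpecialLinearGroup (Fin 2) F)
    (hM : M ∈ Subgroup.center (SpecialLinearGroup (Fin 2) F)) : R.Phi hτ M = 1 := by
  rw [Matrix.SpecialLinearGroup.mem_center_iff] at hM
  obtain ⟨r, hr, hrM⟩ := hM
  rw [Fintype.card_fin] at hr
  have hr0 : r ≠ 0 := by
    rintro rfl
    rw [zero_pow (by norm_num)] at hr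
    exact zero_ne_one hr
  have hMr : M = hS r hr0 := by
    apply Matrix.SpecialLinearGroup.ext
    intro i j
    have hinv : r⁻¹ = r := inv_eq_of_mul_eq_one_right (by rw [← pow_two, hr])
    show (↑ₘM) i j = (↑ₘ(hS r hr0)) i j
    rw [← hrM]
    fin_cases i <;> fin_cases j <;> simp [coe_hS, hinv]
  rw [hMr]
  apply Units.ext
  rw [(Phi_hS_diag hτ R r hr0).2, Units.val_one]
  apply diagChar_eq_one
  intro s hs
  unfold hhChar
  have hrθ : r ^ θ = r := by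
    obtain ⟨k, hk⟩ := hτ.odd
    rw [hk, pow_succ, pow_mul, hr, one_pow, one_mul]
  rw [hrθ, ← zpow_add₀ hr0]
  obtain ⟨j, hj⟩ : ∃ j : ℤ, carR chevG2 8 s + carR chevG2 10 s = 2 * j :=
    ⟨(carR chevG2 8 s + carR chevG2 10 s) / 2, by have := carR_G2_even s hs; omega⟩
  rw [hj, _root_.zpow_mul, show ((2 : ℤ)) = ((2 : ℕ) : ℤ) by rfl, _root_.zpow_natCast, hr, _root_.one_zpow]

include hτ in
theorem sq_eq_one_of_pow (c : F) (hc : c ≠ 0) (h : c ^ (3 * θ + 1) = 1) : c ^ 2 = 1 := by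
  rw [← sq_param hτ c hc, ← pow_mul, mul_comm, pow_mul, h, one_pow]

/-- the big cell does not meet the Borel subgroup -/
theorem bigcell_not_borel (M : SpecialLinearGroup (Fin 2) F) (hc : (↑ₘM) 1 0 ≠ 0) :
    R.Phi hτ M ∉ chevG2.borelSubgroup F := by
  intro hB
  have e := RankOneData.eq_of_lower_ne_zero M hc
  rw [e, map_mul, map_mul, map_mul, R.Phi_xS, R.Phi_xS, R.Phi_wS] at hB
  have hU : ∀ t : F, reeU θ 0 t 0 ∈ chevG2.borelSubgroup F := fun t =>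
    posUnipotent_le_borel chevG2 mem_G2 F (reeU_mem_posUnipotent θ 0 t 0)
  have hH := diagonal_le_borel chevG2 mem_G2 F
    (Phi_hS_mem_diagonal hτ R (-(↑ₘM) 1 0) (neg_ne_zero.mpr hc))
  apply n0G2_not_mem_borel hτ
  set A := reeU θ 0 ((↑ₘM) 0 0 / (↑ₘM) 1 0) 0 with hA
  set C := R.Phi hτ (hS (-(↑ₘM) 1 0) (neg_ne_zero.mpr hc)) with hC
  set E := reeU θ 0 ((↑ₘM) 1 1 / (↑ₘM) 1 0) 0 with hE
  have : n0G2 F = A⁻¹ * (A * n0G2 F * C * E) * E⁻¹ * C⁻¹ := by group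
  rw [this]
  exact Subgroup.mul_mem _ (Subgroup.mul_mem _ (Subgroup.mul_mem _ (Subgroup.inv_mem _ (hU _)) hB)
    (Subgroup.inv_mem _ (hU _))) (Subgroup.inv_mem _ hH)

/-- a Borel element in the image is the product of an element of `U¹` and a torus element -/
theorem borel_form (M : SpecialLinearGroup (Fin 2) F) (hc : (↑ₘM) 1 0 = 0) :
    ∃ (s : F) (hs : s ≠ 0) (b : F), R.Phi hτ M = reeU θ 0 b 0 * R.Phi hτ (hS s hs) := by
  have hdet := det_eq M
  rw [hc, mul_zero, sub_zero] at hdet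
  have ha : (↑ₘM) 0 0 ≠ 0 := left_ne_zero_of_mul_eq_one hdet
  refine ⟨(↑ₘM) 0 0, ha, (↑ₘM) 0 0 * (↑ₘM) 0 1, ?_⟩
  have e := RankOneData.eq_of_lower_zero M hc ha
  conv_lhs => rw [e]
  rw [map_mul, R.Phi_xS]

/-- the kernel is central -/
theorem Phi_ker (M : SpecialLinearGroup (Fin 2) F) (hM : R.Phi hτ M = 1) :
    M ∈ Subgroup.center (SpecialLinearGroup (Fin 2) F) := by
  by_cases hc : (↑ₘM) 1 0 = 0
  · have hdet := det_eq M
    rw [hc, mul_zero, sub_zero] at hdet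
    have ha : (↑ₘM) 0 0 ≠ 0 := left_ne_zero_of_mul_eq_one hdet
    have e := RankOneData.eq_of_lower_zero M hc ha
    have hM2 := hM
    rw [e, map_mul, R.Phi_xS] at hM2
    have hH := Phi_hS_mem_diagonal hτ R _ ha
    have h1 : reeU θ 0 ((↑ₘM) 0 0 * (↑ₘM) 0 1) 0 ∈ chevG2.posUnipotent F ⊓ chevG2.diagonalSubgroup F := by
      refine Subgroup.mem_inf.mpr ⟨reeU_mem_posUnipotent θ _ _ _, ?_⟩
      have : reeU θ 0 ((↑ₘM) 0 0 * (↑ₘM) 0 1) 0 = (R.Phi hτ (hS ((↑ₘM) 0 0) ha))⁻¹ :=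
        eq_inv_of_mul_eq_one_left hM2
      rw [this]
      exact Subgroup.inv_mem _ hH
    rw [posUnipotent_inf_diagonalSubgroup chevG2 mem_G2 F, Subgroup.mem_bot] at h1
    have hb : (↑ₘM) 0 0 * (↑ₘM) 0 1 = 0 := ((reeU_eq_one_iff hτ _ _ _).mp h1).2.1
    rw [h1, one_mul] at hM2
    have h2 := congrArg chi0 hM2
    rw [chi0_Phi_hS, chi0_one, inv_eq_one] at h2
    have h3 := sq_eq_one_of_pow hτ _ ha h2
    have hb' : (↑ₘM) 0 1 = 0 := by
      rcases mul_eq_zero.mp hb with h | h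
      · exact absurd h ha
      · exact h
    have hd : (↑ₘM) 1 1 = (↑ₘM) 0 0 := by
      have : (↑ₘM) 0 0 * (↑ₘM) 1 1 = (↑ₘM) 0 0 * (↑ₘM) 0 0 := by rw [hdet, ← pow_two, h3]
      exact mul_left_cancel₀ ha this
    apply Cfsg.Agent.Lib.Helper13.mem_center_of_scalar M ((↑ₘM) 0 0)
    ext i j
    fin_cases i <;> fin_cases j <;> simp [hc, hb', hd]
  · exfalso
    have := bigcell_not_borel hτ R M hc
    rw [hM] at this
    exact this (Subgroup.one_mem _)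

end

end Cfsg.Agent.Lib.Helper7
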