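import Cfsg.Agent.Lib.Helper7.G2Tw24

/-! The centralizer of an involution of the Ree group `²G₂(q)`, II (helper7). -/

set_option autoImplicit false

namespace Cfsg.Agent.Lib.Helper7

open Cfsg Cfsg.Lie Matrix Cfsg.Agent.Lib.Helper11.SL2Hom

section
variable {F : Type*} [Field F]

local notation:1024 "↑ₘ" A:1024 => ((A : SpecialLinearGroup (Fin 2) F) : Matrix (Fin 2) (Fin 2) F)

variable {τ : ↥(chevG2.group F) ≃* ↥(chevG2.group F)} {θ : ℕ} (hτ : TauData F τ θ) (R : ReeSL2 F)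
variable (a : GL chevG2.Idx F) (ha : a ∈ chevG2.diagonalSubgroup F ⊓ fixTau F τ) (ha1 : a ≠ 1)
  (ha2 : a * a = 1)
include hτ ha ha1 ha2

theorem invol_chars (χ : ℕ → F) (hχ : ChainChar chevG2 F χ)
    (e : (a : Matrix chevG2.Idx chevG2.Idx F) = diagChar chevG2 F χ) :
    χ 6 = -1 ∧ χ 10 = 1 ∧ χ 11 = -1 ∧ χ 0 = -1 := by
  have hconj := reeU_conj hτ a ha χ hχ e
  have h1 : a * (a * reeU θ 1 0 0 * a⁻¹) * a⁻¹ = reeU θ 1 0 0 := by
    have : a * (a * reeU θ 1 0 0 * a⁻¹) * a⁻¹ = (a * a) * reeU θ 1 0 0 * (a * a)⁻¹ := by group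
    rw [this, ha2]
    group
  rw [hconj, hconj] at h1
  have h2 := (reeU_inj θ _ _ _ _ _ _ h1).1
  rw [mul_one] at h2
  rcases mul_self_eq_one_iff.mp h2 with h6 | h6
  · exact absurd (chi6_eq_one hτ a ha χ hχ e h6) ha1
  · obtain ⟨h10, h11, n11⟩ := torus_chars hτ a ha χ hχ e
    have ho : Odd (3 * θ) := Nat.odd_mul.mpr ⟨by decide, hτ.odd⟩
    have e10 : χ 10 = 1 := by
      rw [h10, h6]
      exact Even.neg_one_pow ho.add_one
    have e11 : χ 11 = -1 := by
      rw [h11, h6]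
      exact Odd.neg_one_pow (ho.add_even even_two)
    exact ⟨h6, e10, e11, by rw [n11, e11, inv_neg_one]⟩

theorem invol_conj (t u v : F) : a * reeU θ t u v * a⁻¹ = reeU θ (-t) u (-v) := by
  obtain ⟨χ, hχ, e⟩ := mem_diagonalSubgroup_char chevG2 mem_G2 F a (Subgroup.mem_inf.mp ha).1
  obtain ⟨h6, h10, h11, -⟩ := invol_chars hτ a ha ha1 ha2 χ hχ e
  rw [reeU_conj hτ a ha χ hχ e, h6, h10, h11, neg_one_mul, neg_one_mul, one_mul]

theorem chi0_invol : chi0 a = -1 := by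
  obtain ⟨χ, hχ, e⟩ := mem_diagonalSubgroup_char chevG2 mem_G2 F a (Subgroup.mem_inf.mp ha).1
  rw [chi0_diag _ _ e]
  exact (invol_chars hτ a ha ha1 ha2 χ hχ e).2.2.2

omit ha1 ha2 in
theorem torus_ext (b : GL chevG2.Idx F) (hb : b ∈ chevG2.diagonalSubgroup F ⊓ fixTau F τ)
    (h : chi0 b = chi0 a) : b = a := by
  have hH := (Subgroup.mem_inf.mp ha).1
  have hH' := (Subgroup.mem_inf.mp hb).1
  have h1 : b * a⁻¹ = 1 := by
    apply fixH_eq_one hτ _ (Subgroup.mul_mem _ hb (Subgroup.inv_mem _ ha))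
    rw [chi0_mul _ _ hH' (Subgroup.inv_mem _ hH), chi0_inv _ hH, h]
    exact mul_inv_cancel₀ (chi0_ne_zero a hH)
  exact mul_inv_eq_one.mp h1

theorem invol_unique (b : GL chevG2.Idx F) (hb : b ∈ chevG2.diagonalSubgroup F ⊓ fixTau F τ)
    (hb1 : b ≠ 1) (hb2 : b * b = 1) : b = a := by
  apply torus_ext hτ a ha b hb
  rw [chi0_invol hτ a ha ha1 ha2, chi0_invol hτ b hb hb1 hb2]

theorem n0_comm : n0G2 F * a = a * n0G2 F := by
  have hn0 := n0G2_mem_fixTau hτ
  have haF := (Subgroup.mem_inf.mp ha).2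
  have hb : n0G2 F * a * (n0G2 F)⁻¹ ∈ chevG2.diagonalSubgroup F ⊓ fixTau F τ :=
    Subgroup.mem_inf.mpr ⟨conj_diagonal_mem (n0G2 F) a (n0G2_mem_monomial F) (Subgroup.mem_inf.mp ha).1,
      Subgroup.mul_mem _ (Subgroup.mul_mem _ hn0 haF) (Subgroup.inv_mem _ hn0)⟩
  have hb1 : n0G2 F * a * (n0G2 F)⁻¹ ≠ 1 := by
    intro h
    apply ha1
    have : a = (n0G2 F)⁻¹ * (n0G2 F * a * (n0G2 F)⁻¹) * n0G2 F := by group
    rw [this, h]
    group
  have hb2 : n0G2 F * a * (n0G2 F)⁻¹ * (n0G2 F * a * (n0G2 F)⁻¹) = 1 := by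
    have : n0G2 F * a * (n0G2 F)⁻¹ * (n0G2 F * a * (n0G2 F)⁻¹) = n0G2 F * (a * a) * (n0G2 F)⁻¹ := by group
    rw [this, ha2]
    group
  have := invol_unique hτ a ha ha1 ha2 _ hb hb1 hb2
  calc n0G2 F * a = n0G2 F * a * (n0G2 F)⁻¹ * n0G2 F := by group
    _ = a * n0G2 F := by rw [this]

theorem Phi_comm (M : SpecialLinearGroup (Fin 2) F) : a * R.Phi hτ M = R.Phi hτ M * a := by
  have hx : ∀ t : F, a * R.Phi hτ (xS t) = R.Phi hτ (xS t) * a := by
    intro t
    rw [R.Phi_xS]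
    have := invol_conj hτ a ha ha1 ha2 0 t 0
    rw [neg_zero] at this
    calc a * reeU θ 0 t 0 = a * reeU θ 0 t 0 * a⁻¹ * a := by group
      _ = reeU θ 0 t 0 * a := by rw [this]
  have hw : a * R.Phi hτ wS = R.Phi hτ wS * a := by
    rw [R.Phi_wS]
    exact (n0_comm hτ a ha ha1 ha2).symm
  have hy : ∀ t : F, a * R.Phi hτ (yS t) = R.Phi hτ (yS t) * a := by
    intro t
    have h1 : yS t = (wS : SpecialLinearGroup (Fin 2) F) * xS (-t) * wS⁻¹ := by
      rw [← yS_mul_wS']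
      group
    rw [h1, map_mul, map_mul, map_inv]
    have h2 := hx (-t)
    calc a * (R.Phi hτ wS * R.Phi hτ (xS (-t)) * (R.Phi hτ wS)⁻¹)
        = (a * R.Phi hτ wS) * R.Phi hτ (xS (-t)) * (R.Phi hτ wS)⁻¹ := by group
      _ = R.Phi hτ wS * (a * R.Phi hτ (xS (-t))) * (R.Phi hτ wS)⁻¹ := by rw [hw]; group
      _ = R.Phi hτ wS * R.Phi hτ (xS (-t)) * (R.Phi hτ wS)⁻¹ * (R.Phi hτ wS * a) * (R.Phi hτ wS)⁻¹ := by
        rw [h2]; group
      _ = R.Phi hτ wS * R.Phi hτ (xS (-t)) * (R.Phi hτ wS)⁻¹ * (a * R.Phi hτ wS) * (R.Phi hτ wS)⁻¹ := by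
        rw [hw]
      _ = _ := by group
  have hM : M ∈ Subgroup.closure (Set.range (xS : F → SpecialLinearGroup (Fin 2) F) ∪ Set.range yS) := by
    rw [closure_xS_yS]
    exact Subgroup.mem_top M
  induction hM using Subgroup.closure_induction with
  | mem g hg =>
    rcases hg with ⟨t, rfl⟩ | ⟨t, rfl⟩
    · exact hx t
    · exact hy t
  | one => rw [map_one, mul_one, one_mul]
  | mul g g' _ _ ih ih' =>
    rw [map_mul, ← mul_assoc, ih, mul_assoc, ih', mul_assoc]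
  | inv g _ ih =>
    rw [map_inv]
    calc a * (R.Phi hτ g)⁻¹ = (R.Phi hτ g)⁻¹ * (R.Phi hτ g * a) * (R.Phi hτ g)⁻¹ := by group
      _ = (R.Phi hτ g)⁻¹ * (a * R.Phi hτ g) * (R.Phi hτ g)⁻¹ := by rw [ih]
      _ = _ := by group

/-- elements of `U¹` centralizing the involution -/
theorem cent_unip (u : GL chevG2.Idx F) (hu : u ∈ chevG2.posUnipotent F ⊓ fixTau F τ)
    (hc : a * u = u * a) : ∃ s : F, u = reeU θ 0 s 0 := by
  obtain ⟨t, s, v, rfl⟩ := (posUnipotent_inf_fixTau hτ u).mp hu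
  have h1 : a * reeU θ t s v * a⁻¹ = reeU θ t s v := by rw [hc]; group
  rw [invol_conj hτ a ha ha1 ha2] at h1
  obtain ⟨ht, -, hv⟩ := reeU_inj θ _ _ _ _ _ _ h1
  have ht0 : t = 0 := by linear_combination (1 : F) * ht + t * hτ.three
  have hv0 : v = 0 := by linear_combination (1 : F) * hv + v * hτ.three
  exact ⟨s, by rw [ht0, hv0]⟩

variable (hsq : ∀ x : F, x ≠ 0 → ∃ w : F, x = w ^ 2 ∨ x = -(w ^ 2))
include hsq

/-- the torus is generated by the involution and the torus of the `SL₂` -/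
theorem torus_le (k : GL chevG2.Idx F) (hk : k ∈ chevG2.diagonalSubgroup F ⊓ fixTau F τ) :
    k ∈ Subgroup.zpowers a ⊔ (R.Phi hτ).range := by
  have hkH := (Subgroup.mem_inf.mp hk).1
  obtain ⟨w, hw⟩ := hsq (chi0 k) (chi0_ne_zero k hkH)
  have hw0 : w ≠ 0 := by
    rintro rfl
    rw [zero_pow (by norm_num), neg_zero, or_self] at hw
    exact chi0_ne_zero k hkH hw
  have hc0 : (w ^ (3 * θ - 1))⁻¹ ≠ 0 := inv_ne_zero (pow_ne_zero _ hw0)
  have hchi : chi0 (R.Phi hτ (hS _ hc0)) = w ^ 2 := by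
    rw [chi0_Phi_hS, inv_pow, inv_inv, sq_param hτ w hw0]
  have hmemT := Phi_hS_mem hτ R _ hc0
  have hmemL : R.Phi hτ (hS _ hc0) ∈ Subgroup.zpowers a ⊔ (R.Phi hτ).range :=
    Subgroup.mem_sup_right ⟨_, rfl⟩
  rcases hw with hw | hw
  · have : k = R.Phi hτ (hS _ hc0) := by
      apply torus_ext hτ _ hmemT k hk
      rw [hchi, hw]
    rw [this]
    exact hmemL
  · have : k = a * R.Phi hτ (hS _ hc0) := by
      apply torus_ext hτ _ (Subgroup.mul_mem _ ha hmemT) k hk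
      rw [chi0_mul _ _ (Subgroup.mem_inf.mp ha).1 (Subgroup.mem_inf.mp hmemT).1, hchi,
        chi0_invol hτ a ha ha1 ha2, hw]
      ring
    rw [this]
    exact Subgroup.mul_mem _ (Subgroup.mem_sup_left (Subgroup.mem_zpowers a)) hmemL

/-- the centralizer of the involution is generated by the involution and the `SL₂` -/
theorem cent_le (g : GL chevG2.Idx F) (hg : g ∈ fixTau F τ) (hc : a * g = g * a) :
    g ∈ Subgroup.zpowers a ⊔ (R.Phi hτ).range := by
  have hX : ∀ s : F, reeU θ 0 s 0 ∈ Subgroup.zpowers a ⊔ (R.Phi hτ).range := fun s =>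
    Subgroup.mem_sup_right ⟨xS s, R.Phi_xS hτ s⟩
  have hN : n0G2 F ∈ Subgroup.zpowers a ⊔ (R.Phi hτ).range :=
    Subgroup.mem_sup_right ⟨wS, R.Phi_wS hτ⟩
  have haH := (Subgroup.mem_inf.mp ha).1
  -- the Borel case
  have hB : ∀ b ∈ chevG2.borelSubgroup F ⊓ fixTau F τ, a * b = b * a →
      b ∈ Subgroup.zpowers a ⊔ (R.Phi hτ).range := by
    intro b hb hcb
    obtain ⟨k, hk, u, hu, rfl⟩ := fix_borel hτ b hb
    have hka : a * k = k * a := diagonal_comm a k haH (Subgroup.mem_inf.mp hk).1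
    have hua : a * u = u * a := by
      have : k * (a * u) = k * (u * a) := by
        calc k * (a * u) = (k * a) * u := by group
          _ = a * (k * u) := by rw [← hka]; group
          _ = k * u * a := hcb
          _ = k * (u * a) := by group
      exact mul_left_cancel this
    obtain ⟨s, rfl⟩ := cent_unip hτ a ha ha1 ha2 u hu hua
    exact Subgroup.mul_mem _ (torus_le hτ R a ha ha1 ha2 hsq k hk) (hX s)
  rcases fix_cases hτ g hg with hgB | ⟨b, hb, u, hu, rfl⟩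
  · exact hB g (Subgroup.mem_inf.mpr ⟨hgB, hg⟩) hc
  · have haF := (Subgroup.mem_inf.mp ha).2
    have hn := n0_comm hτ a ha ha1 ha2
    have hbB := (Subgroup.mem_inf.mp hb).1
    have huU := (Subgroup.mem_inf.mp hu).1
    have haB : a ∈ chevG2.borelSubgroup F := diagonal_le_borel chevG2 mem_G2 F haH
    have e1 : (a * b * a⁻¹) * n0G2 F * (a * u * a⁻¹) = b * n0G2 F * u := by
      calc (a * b * a⁻¹) * n0G2 F * (a * u * a⁻¹)
          = a * b * a⁻¹ * (n0G2 F * a) * u * a⁻¹ := by group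
        _ = a * (b * n0G2 F * u) * a⁻¹ := by rw [hn]; group
        _ = b * n0G2 F * u * a * a⁻¹ := by rw [hc]
        _ = _ := by group
    have huU' : a * u * a⁻¹ ∈ chevG2.posUnipotent F := by
      have hnorm := diagonalSubgroup_le_normalizer_posUnipotent chevG2 mem_G2 F haH
      rw [Subgroup.mem_set_normalizer_iff] at hnorm
      exact (hnorm _).mp huU
    have huq := canon_unique chevG2 mem_G2 F (a * b * a⁻¹) b (n0G2 F) (n0G2 F) (a * u * a⁻¹) u
      (Subgroup.mul_mem _ (Subgroup.mul_mem _ haB hbB) (Subgroup.inv_mem _ haB)) hbB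
      (n0G2_mem_monomial F) (n0G2_mem_monomial F)
      (by rw [uMinus_n0_eq hτ]; exact huU') (by rw [uMinus_n0_eq hτ]; exact huU) e1
    obtain ⟨eb, eu⟩ := huq.2 rfl
    have hcb : a * b = b * a := by
      calc a * b = a * b * a⁻¹ * a := by group
        _ = b * a := by rw [eb]
    have hcu : a * u = u * a := by
      calc a * u = a * u * a⁻¹ * a := by group
        _ = u * a := by rw [eu]
    obtain ⟨s, rfl⟩ := cent_unip hτ a ha ha1 ha2 u hu hcu
    exact Subgroup.mul_mem _ (Subgroup.mul_mem _ (hB b hb hcb) hN) (hX s)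

omit hsq in
/-- the involution is not in the image of `SL₂` -/
theorem invol_not_mem_range (hneg : ∀ w : F, w ^ 2 ≠ -1) : a ∉ (R.Phi hτ).range := by
  rintro ⟨M, hM⟩
  have haH := (Subgroup.mem_inf.mp ha).1
  by_cases hc : (↑ₘM) 1 0 = 0
  · obtain ⟨s, hs, b, e⟩ := borel_form hτ R M hc
    rw [hM] at e
    have hH := Phi_hS_mem_diagonal hτ R s hs
    have h1 : reeU θ 0 b 0 ∈ chevG2.posUnipotent F ⊓ chevG2.diagonalSubgroup F := by
      refine Subgroup.mem_inf.mpr ⟨reeU_mem_posUnipotent θ _ _ _, ?_⟩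
      have : reeU θ 0 b 0 = a * (R.Phi hτ (hS s hs))⁻¹ := by rw [e]; group
      rw [this]
      exact Subgroup.mul_mem _ haH (Subgroup.inv_mem _ hH)
    rw [posUnipotent_inf_diagonalSubgroup chevG2 mem_G2 F, Subgroup.mem_bot] at h1
    rw [h1, one_mul] at e
    have h2 := congrArg chi0 e
    rw [chi0_invol hτ a ha ha1 ha2, chi0_Phi_hS] at h2
    obtain ⟨j, hj⟩ : ∃ j, 3 * θ + 1 = 2 * j := by
      obtain ⟨k, hk⟩ := hτ.odd
      exact ⟨3 * k + 2, by rw [hk]; ring⟩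
    apply hneg (s ^ j)
    rw [← pow_mul, mul_comm, ← hj]
    have : (s ^ (3 * θ + 1))⁻¹ = -1 := h2.symm
    rw [inv_eq_iff_eq_inv, inv_neg_one] at this
    exact this
  · have := bigcell_not_borel hτ R M hc
    rw [hM] at this
    exact this (diagonal_le_borel chevG2 mem_G2 F haH)

end

end Cfsg.Agent.Lib.Helper7
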