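import Cfsg.Agent.Lib.Helper7.G2Tw25

/-! The centralizer of an involution of the Ree group `²G₂(q)` is `Z₂ × PSL₂(q)` (helper7). -/

set_option autoImplicit false

namespace Cfsg.Agent.Lib.Helper7

open Cfsg Cfsg.Lie Matrix Cfsg.Agent.Lib.Helper11.SL2Hom

section
variable {F : Type*} [Field F]
variable {τ : ↥(chevG2.group F) ≃* ↥(chevG2.group F)} {θ : ℕ} (hτ : TauData F τ θ) (R : ReeSL2 F)
variable (a : GL chevG2.Idx F) (ha : a ∈ chevG2.diagonalSubgroup F ⊓ fixTau F τ) (ha1 : a ≠ 1)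
  (ha2 : a * a = 1)
variable (hsq : ∀ x : F, x ≠ 0 → ∃ w : F, x = w ^ 2 ∨ x = -(w ^ 2))
include hτ ha ha1 ha2 hsq

theorem cent_eq : fixTau F τ ⊓ Subgroup.centralizer {a} = Subgroup.zpowers a ⊔ (R.Phi hτ).range := by
  apply le_antisymm
  · intro g hg
    obtain ⟨hgF, hgC⟩ := Subgroup.mem_inf.mp hg
    exact cent_le hτ R a ha ha1 ha2 hsq g hgF (Subgroup.mem_centralizer_iff.mp hgC a (Set.mem_singleton a))
  · rw [sup_le_iff]
    constructor
    · rw [Subgroup.zpowers_le]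
      refine Subgroup.mem_inf.mpr ⟨(Subgroup.mem_inf.mp ha).2, ?_⟩
      rw [Subgroup.mem_centralizer_iff]
      intro h hh
      rw [Set.mem_singleton_iff.mp hh]
    · rintro g ⟨M, rfl⟩
      refine Subgroup.mem_inf.mpr ⟨R.Phi_mem_fixTau hτ M, ?_⟩
      rw [Subgroup.mem_centralizer_iff]
      intro h hh
      rw [Set.mem_singleton_iff.mp hh]
      exact Phi_comm hτ R a ha ha1 ha2 M

/-- the centralizer of an involution of the torus is `Z₂ × PSL₂(F)` -/
theorem nonempty_cent_equiv (hneg : ∀ w : F, w ^ 2 ≠ -1) :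
    Nonempty (↥(fixTau F τ ⊓ Subgroup.centralizer {a}) ≃*
      Multiplicative (ZMod 2) × ProjectiveSpecialLinearGroup (Fin 2) F) := by
  obtain ⟨R⟩ := nonempty_reeSL2 F
  have hcomm : ∀ (z : ↥(Subgroup.zpowers a)) (l : ↥((R.Phi hτ).range)),
      Commute ((Subgroup.zpowers a).subtype z) ((R.Phi hτ).range.subtype l) := by
    rintro ⟨z, hz⟩ ⟨l, M, rfl⟩
    obtain ⟨n, rfl⟩ := Subgroup.mem_zpowers_iff.mp hz
    have h1 : Commute a (R.Phi hτ M) := Phi_comm hτ R a ha ha1 ha2 M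
    exact h1.zpow_left n
  have hdisj : Disjoint (Subgroup.zpowers a) (R.Phi hτ).range := by
    rw [Subgroup.disjoint_def]
    intro x hxZ hxL
    obtain ⟨n, rfl⟩ := Subgroup.mem_zpowers_iff.mp hxZ
    rcases Int.emod_two_eq_zero_or_one n with hn | hn
    · obtain ⟨k, hk⟩ : ∃ k, n = 2 * k := ⟨n / 2, by omega⟩
      rw [hk, _root_.zpow_mul, _root_.zpow_two, ha2, _root_.one_zpow]
    · exfalso
      obtain ⟨k, hk⟩ : ∃ k, n = 2 * k + 1 := ⟨n / 2, by omega⟩
      rw [hk, _root_.zpow_add, _root_.zpow_mul, _root_.zpow_two, ha2, _root_.one_zpow, one_mul, _root_.zpow_one] at hxL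
      exact invol_not_mem_range hτ R a ha ha1 ha2 hneg hxL
  have hinj : Function.Injective (MonoidHom.noncommCoprod (Subgroup.zpowers a).subtype
      (R.Phi hτ).range.subtype hcomm) := by
    rw [MonoidHom.noncommCoprod_injective]
    refine ⟨Subgroup.subtype_injective _, Subgroup.subtype_injective _, ?_⟩
    rw [Subgroup.range_subtype, Subgroup.range_subtype]
    exact hdisj
  have hrange : (MonoidHom.noncommCoprod (Subgroup.zpowers a).subtype
      (R.Phi hτ).range.subtype hcomm).range = fixTau F τ ⊓ Subgroup.centralizer {a} := by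
    rw [MonoidHom.noncommCoprod_range, Subgroup.range_subtype, Subgroup.range_subtype,
      cent_eq hτ R a ha ha1 ha2 hsq]
  -- the two factors
  haveI : Fact (Nat.Prime 2) := ⟨Nat.prime_two⟩
  have hoa : orderOf a = 2 := orderOf_eq_prime (by rw [pow_two]; exact ha2) ha1
  have hZ : Nat.card ↥(Subgroup.zpowers a) = 2 := by rw [Nat.card_zpowers, hoa]
  have hZ2 : Nat.card (Multiplicative (ZMod 2)) = 2 := by
    rw [Nat.card_eq_fintype_card, Fintype.card_multiplicative, ZMod.card]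
  have e1 : ↥(Subgroup.zpowers a) ≃* Multiplicative (ZMod 2) := mulEquivOfPrimeCardEq hZ hZ2
  have hker : (R.Phi hτ).ker = Subgroup.center (SpecialLinearGroup (Fin 2) F) := by
    apply le_antisymm
    · intro M hM
      exact Phi_ker hτ R M (MonoidHom.mem_ker.mp hM)
    · intro M hM
      exact MonoidHom.mem_ker.mpr (Phi_center hτ R M hM)
  have e2 : ↥((R.Phi hτ).range) ≃* ProjectiveSpecialLinearGroup (Fin 2) F :=
    (QuotientGroup.quotientKerEquivRange (R.Phi hτ)).symm.trans (QuotientGroup.quotientMulEquivOfEq hker)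
  have e3 : ↥(Subgroup.zpowers a) × ↥((R.Phi hτ).range) ≃* ↥(fixTau F τ ⊓ Subgroup.centralizer {a}) :=
    (MonoidHom.ofInjective hinj).trans (MulEquiv.subgroupCongr hrange)
  exact ⟨e3.symm.trans (MulEquiv.prodCongr e1 e2)⟩

end

theorem factorization_prime_pow_mul (p e r : ℕ) (hp : p.Prime) (hr : ¬ p ∣ r) :
    (p ^ e * r).factorization p = e := by
  have hr0 : r ≠ 0 := by
    rintro rfl
    exact hr (dvd_zero p)
  rw [Nat.factorization_mul (pow_ne_zero e hp.ne_zero) hr0, Finsupp.add_apply,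
    Nat.Prime.factorization_pow hp, Nat.factorization_eq_zero_of_not_dvd hr]
  simp

theorem sylow_two_card {G : Type*} [Group G] [Finite G] (r : ℕ) (hr : Odd r) (h : Nat.card G = 8 * r)
    (P : Sylow 2 G) : Nat.card P = 8 := by
  rw [Sylow.card_eq_multiplicity, h, show (8 : ℕ) = 2 ^ 3 by norm_num,
    factorization_prime_pow_mul 2 3 r Nat.prime_two (by rw [Nat.two_dvd_ne_zero]; exact Nat.odd_iff.mp hr)]

theorem card_arith (k : ℕ) : ∃ r, Odd r ∧ (8 * k + 3) * ((8 * k + 3) ^ 2 - 1) = 8 * r := by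
  refine ⟨(8 * k + 3) * (4 * k + 1) * (2 * k + 1), ?_, ?_⟩
  · refine Odd.mul (Odd.mul ⟨4 * k + 1, by ring⟩ ⟨2 * k, by ring⟩) ⟨k, by ring⟩
  · have : (8 * k + 3) ^ 2 - 1 = (8 * k + 2) * (8 * k + 4) := by
      apply Nat.sub_eq_of_eq_add
      ring
    rw [this]
    ring

theorem card_arith' (k : ℕ) : ∃ r, Odd r ∧
    (8 * k + 3) ^ 3 * ((8 * k + 3) - 1) * ((8 * k + 3) ^ 3 + 1) = 8 * r := by
  refine ⟨(8 * k + 3) ^ 3 * (4 * k + 1) * ((2 * k + 1) * ((8 * k + 3) * (8 * k + 2) + 1)), ?_, ?_⟩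
  · refine Odd.mul (Odd.mul (Odd.pow ⟨4 * k + 1, by ring⟩) ⟨2 * k, by ring⟩)
      (Odd.mul ⟨k, by ring⟩ ⟨(8 * k + 3) * (4 * k + 1), by ring⟩)
  · have : (8 * k + 3) - 1 = 8 * k + 2 := by omega
    rw [this]
    ring

theorem three_pow_mod_eight (m : ℕ) : ∃ k, 3 ^ (2 * m + 1) = 8 * k + 3 := by
  have h : 3 ^ (2 * m + 1) % 8 = 3 := by
    rw [pow_succ, pow_mul, Nat.mul_mod, Nat.pow_mod]
    norm_num
  exact ⟨3 ^ (2 * m + 1) / 8, by omega⟩

end Cfsg.Agent.Lib.Helper7
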