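import Cfsg.Agent.Lib.Helper7.G2Tw2
import Cfsg.Agent.Lib.Helper7.ChevOrdA
import Cfsg.Agent.Lib.Helper7.ChevUp
import Cfsg.Prelude.Def_LieTwisted

/-! The fixed points of the twisting automorphism of `G₂` in `U` and `V` (helper7). -/

set_option autoImplicit false

namespace Cfsg.Agent.Lib.Helper7

open Cfsg Cfsg.Lie Matrix

section abstract
variable {G : Type*} [Group G] {F : Type*} [Field F]

theorem mul4_comm (a b c d a' b' c' d' : G) (hba' : Commute b a') (hca' : Commute c a')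
    (hda' : Commute d a') (hcb' : Commute c b') (hdb' : Commute d b') (hdc' : Commute d c') :
    a * b * c * d * (a' * b' * c' * d') = (a * a') * (b * b') * (c * c') * (d * d') := by
  have e1 : (b * c * d) * a' = a' * (b * c * d) := ((hba'.mul_left hca').mul_left hda').eq
  have e2 : (c * d) * b' = b' * (c * d) := (hcb'.mul_left hdb').eq
  have e3 : d * c' = c' * d := hdc'.eq
  calc a * b * c * d * (a' * b' * c' * d') = a * ((b * c * d) * a') * (b' * c' * d') := by group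
    _ = a * (a' * (b * c * d)) * (b' * c' * d') := by rw [e1]
    _ = a * a' * b * ((c * d) * b') * (c' * d') := by group
    _ = a * a' * b * (b' * (c * d)) * (c' * d') := by rw [e2]
    _ = a * a' * b * b' * c * (d * c') * d' := by group
    _ = a * a' * b * b' * c * (c' * d) * d' := by rw [e3]
    _ = _ := by group

variable (xa xb x1 x2 x3 x4 : F → G)

/-- the product over the four higher roots -/
def uH4 (c1 c2 c3 c4 : F) : G := x1 c1 * x2 c2 * x3 c3 * x4 c4

variable (h1 : ∀ s t, x1 s * x1 t = x1 (s + t)) (h2 : ∀ s t, x2 s * x2 t = x2 (s + t))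
  (h3 : ∀ s t, x3 s * x3 t = x3 (s + t)) (h4 : ∀ s t, x4 s * x4 t = x4 (s + t))
  (z1 : x1 0 = 1) (z2 : x2 0 = 1) (z3 : x3 0 = 1) (z4 : x4 0 = 1)
  (c12 : ∀ s t, Commute (x1 s) (x2 t)) (c13 : ∀ s t, Commute (x1 s) (x3 t))
  (c14 : ∀ s t, Commute (x1 s) (x4 t)) (c23 : ∀ s t, Commute (x2 s) (x3 t))
  (c24 : ∀ s t, Commute (x2 s) (x4 t)) (c34 : ∀ s t, Commute (x3 s) (x4 t))
include h1 h2 h3 h4 c12 c13 c14 c23 c24 c34

theorem uH4_mul (a b c d a' b' c' d' : F) :
    uH4 x1 x2 x3 x4 a b c d * uH4 x1 x2 x3 x4 a' b' c' d' =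
      uH4 x1 x2 x3 x4 (a + a') (b + b') (c + c') (d + d') := by
  unfold uH4
  rw [mul4_comm _ _ _ _ _ _ _ _ (c12 a' b).symm (c13 a' c).symm (c14 a' d).symm (c23 b' c).symm
    (c24 b' d).symm (c34 c' d).symm, h1, h2, h3, h4]

variable (e1 e2 e3 e4 : F)
  (hrel : ∀ s t, xb t * xa s = xa s * xb t *
    uH4 x1 x2 x3 x4 (e1 * s * t) (e2 * s ^ 2 * t) (e3 * s ^ 3 * t) (e4 * s ^ 3 * t ^ 2))
include z1 z2 z3 z4 hrel

/-- the reordering identity -/
theorem star_id (s t p q r w : F) :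
    xb t * xa s * x3 p * x4 q * x1 r * x2 w =
      xa s * xb t * uH4 x1 x2 x3 x4 (e1 * s * t + r) (e2 * s ^ 2 * t + w) (e3 * s ^ 3 * t + p)
        (e4 * s ^ 3 * t ^ 2 + q) := by
  have e3' : x3 p = uH4 x1 x2 x3 x4 0 0 p 0 := by unfold uH4; rw [z1, z2, z4]; group
  have e4' : x4 q = uH4 x1 x2 x3 x4 0 0 0 q := by unfold uH4; rw [z1, z2, z3]; group
  have e1' : x1 r = uH4 x1 x2 x3 x4 r 0 0 0 := by unfold uH4; rw [z2, z3, z4]; group
  have e2' : x2 w = uH4 x1 x2 x3 x4 0 w 0 0 := by unfold uH4; rw [z1, z3, z4]; group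
  rw [hrel s t, e3', e4', e1', e2']
  simp only [mul_assoc]
  rw [uH4_mul x1 x2 x3 x4 h1 h2 h3 h4 c12 c13 c14 c23 c24 c34,
    uH4_mul x1 x2 x3 x4 h1 h2 h3 h4 c12 c13 c14 c23 c24 c34,
    uH4_mul x1 x2 x3 x4 h1 h2 h3 h4 c12 c13 c14 c23 c24 c34,
    uH4_mul x1 x2 x3 x4 h1 h2 h3 h4 c12 c13 c14 c23 c24 c34]
  congr 3 <;> ring

end abstract

section
variable (F : Type*) [Field F]

theorem xGL_comm_of_single (r s k : ℕ) (c : ℤ) (i j : ℕ) (hr : r < 12) (hs : s < 12) (hsr : s ≠ r)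
    (hsn : s ≠ chevG2.neg r) (h : chevG2.commTerms r s = [(k, c, i, j)]) (hc : ((c : ℤ) : F) = 0)
    (a b : F) : Commute (xGL chevG2 mem_G2 F r a) (xGL chevG2 mem_G2 F s b) := by
  have := comm_formula_GL chevG2 mem_G2 F r s hr hs hsr hsn a b
  unfold ChevalleyDatum.commWord at this
  rw [h] at this
  simp only [List.map_cons, List.map_nil, wordGL, List.prod_cons, List.prod_nil, mul_one, hc, zero_mul,
    xGL_zero] at this
  exact this.symm

theorem commTerms_G2_high : chevG2.commTerms 8 9 = [(11, 3, 1, 1)] ∧ chevG2.commTerms 8 10 = [] ∧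
    chevG2.commTerms 8 11 = [] ∧ chevG2.commTerms 9 10 = [] ∧ chevG2.commTerms 9 11 = [] ∧
    chevG2.commTerms 10 11 = [] ∧ chevG2.commTerms 7 6 = [(8, -1, 1, 1), (9, 1, 2, 1), (10, 1, 3, 1), (11, 1, 3, 2)] := by
  decide +kernel

theorem commTerms_G2_low : chevG2.commTerms 3 2 = [(0, -3, 1, 1)] ∧ chevG2.commTerms 3 1 = [] ∧
    chevG2.commTerms 3 0 = [] ∧ chevG2.commTerms 2 1 = [] ∧ chevG2.commTerms 2 0 = [] ∧
    chevG2.commTerms 1 0 = [] ∧ chevG2.commTerms 4 5 = [(3, 1, 1, 1), (2, 1, 2, 1), (1, -1, 3, 1), (0, 1, 3, 2)] := by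
  decide +kernel

variable (h3 : (3 : F) = 0)
include h3

/-- the reordering identity in `U` -/
theorem star_pos (s t p q r w : F) :
    xGL chevG2 mem_G2 F 6 t * xGL chevG2 mem_G2 F 7 s * xGL chevG2 mem_G2 F 10 p *
      xGL chevG2 mem_G2 F 11 q * xGL chevG2 mem_G2 F 8 r * xGL chevG2 mem_G2 F 9 w =
    xGL chevG2 mem_G2 F 7 s * xGL chevG2 mem_G2 F 6 t * (xGL chevG2 mem_G2 F 8 (s * t + r) *
      xGL chevG2 mem_G2 F 9 (s ^ 2 * t + w) * xGL chevG2 mem_G2 F 10 (p - s ^ 3 * t) *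
      xGL chevG2 mem_G2 F 11 (q - s ^ 3 * t ^ 2)) := by
  have hT := commTerms_G2_high
  have h3' : (((3 : ℤ)) : F) = 0 := by exact_mod_cast h3
  have := star_id (xGL chevG2 mem_G2 F 7) (xGL chevG2 mem_G2 F 6) (xGL chevG2 mem_G2 F 8)
    (xGL chevG2 mem_G2 F 9) (xGL chevG2 mem_G2 F 10) (xGL chevG2 mem_G2 F 11)
    (xGL_mul chevG2 mem_G2 F 8) (xGL_mul chevG2 mem_G2 F 9) (xGL_mul chevG2 mem_G2 F 10)
    (xGL_mul chevG2 mem_G2 F 11) (xGL_zero chevG2 mem_G2 F 8) (xGL_zero chevG2 mem_G2 F 9)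
    (xGL_zero chevG2 mem_G2 F 10) (xGL_zero chevG2 mem_G2 F 11)
    (xGL_comm_of_single F 8 9 11 3 1 1 (by decide) (by decide) (by decide) (by decide) hT.1 h3')
    (xGL_comm_of_nil chevG2 mem_G2 F 8 10 (by decide) (by decide) (by decide) (by decide) hT.2.1)
    (xGL_comm_of_nil chevG2 mem_G2 F 8 11 (by decide) (by decide) (by decide) (by decide) hT.2.2.1)
    (xGL_comm_of_nil chevG2 mem_G2 F 9 10 (by decide) (by decide) (by decide) (by decide) hT.2.2.2.1)
    (xGL_comm_of_nil chevG2 mem_G2 F 9 11 (by decide) (by decide) (by decide) (by decide) hT.2.2.2.2.1)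
    (xGL_comm_of_nil chevG2 mem_G2 F 10 11 (by decide) (by decide) (by decide) (by decide) hT.2.2.2.2.2.1)
    1 1 (-1) (-1) (by
      intro s t
      have := comm_formula_GL chevG2 mem_G2 F 7 6 (by decide) (by decide) (by decide) (by decide) s t
      unfold ChevalleyDatum.commWord at this
      rw [hT.2.2.2.2.2.2] at this
      rw [this]
      unfold uH4
      simp only [List.map_cons, List.map_nil, wordGL, List.prod_cons, List.prod_nil, mul_one, mul_assoc]
      congr 3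
      · congr 1; push_cast; ring
      · congr 1
        · congr 1; push_cast; ring
        · congr 1
          · congr 1; push_cast; ring
          · congr 1; push_cast; ring) s t p q r w
  rw [this]
  unfold uH4
  congr 2
  · congr 1
    · congr 1
      · congr 1; ring
      · congr 1; ring
    · congr 1; ring
  · congr 1; ring

/-- the reordering identity in `V` -/
theorem star_neg (s t p q r w : F) :
    xGL chevG2 mem_G2 F 5 t * xGL chevG2 mem_G2 F 4 s * xGL chevG2 mem_G2 F 1 p *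
      xGL chevG2 mem_G2 F 0 q * xGL chevG2 mem_G2 F 3 r * xGL chevG2 mem_G2 F 2 w =
    xGL chevG2 mem_G2 F 4 s * xGL chevG2 mem_G2 F 5 t * (xGL chevG2 mem_G2 F 3 (-(s * t) + r) *
      xGL chevG2 mem_G2 F 2 (s ^ 2 * t + w) * xGL chevG2 mem_G2 F 1 (p + s ^ 3 * t) *
      xGL chevG2 mem_G2 F 0 (q - s ^ 3 * t ^ 2)) := by
  have hT := commTerms_G2_low
  have h3' : (((-3 : ℤ)) : F) = 0 := by
    push_cast
    rw [h3, neg_zero]
  have := star_id (xGL chevG2 mem_G2 F 4) (xGL chevG2 mem_G2 F 5) (xGL chevG2 mem_G2 F 3)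
    (xGL chevG2 mem_G2 F 2) (xGL chevG2 mem_G2 F 1) (xGL chevG2 mem_G2 F 0)
    (xGL_mul chevG2 mem_G2 F 3) (xGL_mul chevG2 mem_G2 F 2) (xGL_mul chevG2 mem_G2 F 1)
    (xGL_mul chevG2 mem_G2 F 0) (xGL_zero chevG2 mem_G2 F 3) (xGL_zero chevG2 mem_G2 F 2)
    (xGL_zero chevG2 mem_G2 F 1) (xGL_zero chevG2 mem_G2 F 0)
    (xGL_comm_of_single F 3 2 0 (-3) 1 1 (by decide) (by decide) (by decide) (by decide) hT.1 h3')
    (xGL_comm_of_nil chevG2 mem_G2 F 3 1 (by decide) (by decide) (by decide) (by decide) hT.2.1)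
    (xGL_comm_of_nil chevG2 mem_G2 F 3 0 (by decide) (by decide) (by decide) (by decide) hT.2.2.1)
    (xGL_comm_of_nil chevG2 mem_G2 F 2 1 (by decide) (by decide) (by decide) (by decide) hT.2.2.2.1)
    (xGL_comm_of_nil chevG2 mem_G2 F 2 0 (by decide) (by decide) (by decide) (by decide) hT.2.2.2.2.1)
    (xGL_comm_of_nil chevG2 mem_G2 F 1 0 (by decide) (by decide) (by decide) (by decide) hT.2.2.2.2.2.1)
    (-1) 1 1 (-1) (by
      intro s t
      have := comm_formula_GL chevG2 mem_G2 F 4 5 (by decide) (by decide) (by decide) (by decide) s t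
      unfold ChevalleyDatum.commWord at this
      rw [hT.2.2.2.2.2.2] at this
      rw [this]
      unfold uH4
      simp only [List.map_cons, List.map_nil, wordGL, List.prod_cons, List.prod_nil, mul_one, mul_assoc]
      congr 3
      · congr 1; push_cast; ring
      · congr 1
        · congr 1; push_cast; ring
        · congr 1
          · congr 1; push_cast; ring
          · congr 1; push_cast; ring) s t p q r w
  rw [this]
  unfold uH4
  congr 2
  · congr 1
    · congr 1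
      · congr 1; ring
      · congr 1; ring
    · congr 1; ring
  · congr 1; ring

end

end Cfsg.Agent.Lib.Helper7
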