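import Cfsg.Agent.Lib.Helper7.G2Tw3

/-! The fixed points of the twisting automorphism of `G₂` in `U` (helper7). -/

set_option autoImplicit false

namespace Cfsg.Agent.Lib.Helper7

open Cfsg Cfsg.Lie Matrix

/-- the positive roots of `G₂` in the order `a, b, a+b, 2a+b, 3a+b, 3a+2b` -/
def l6G2 : List ℕ := [7, 6, 8, 9, 10, 11]

/-- the height function with `A(a) = 1`, `A(b) = 2` -/
def aG2 : ℕ → ℤ := linF chevG2 [4, 7]

theorem mem_l6G2_iff (r : ℕ) : r ∈ l6G2 ↔ chevG2.IsPosRoot r := by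
  constructor
  · intro h
    revert r
    decide
  · intro hr
    have h1 : r < 12 := hr.1
    revert hr
    revert r
    decide

theorem goodLA_G2 : GoodLA chevG2 aG2 l6G2 := by
  refine ⟨by decide +kernel, by decide +kernel, ?_⟩
  intro r _ s hs _
  exact (mem_l6G2_iff s).mpr hs

theorem posFacts_G2 : PosFacts chevG2 aG2 := by
  refine ⟨?_, by decide +kernel⟩
  intro r hr
  have h1 : r < 12 := hr.1
  revert hr
  revert r
  decide +kernel

theorem chainAdd_G2 : ChainAdd chevG2 aG2 := chainAdd_linF chevG2 mem_G2 [4, 7]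

/-- parameters of an ordered product -/
def c6fn {F : Type*} [Field F] (a b c d e f : F) : ℕ → F :=
  fun r => ([0, 0, 0, 0, 0, 0, b, a, c, d, e, f] : List F).getD r 0

section
variable {F : Type*} [Field F]

theorem ordProd_c6fn (a b c d e f : F) :
    ordProd chevG2 mem_G2 F l6G2 (c6fn a b c d e f) =
      xGL chevG2 mem_G2 F 7 a * xGL chevG2 mem_G2 F 6 b * (xGL chevG2 mem_G2 F 8 c *
        xGL chevG2 mem_G2 F 9 d * xGL chevG2 mem_G2 F 10 e * xGL chevG2 mem_G2 F 11 f) := by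
  unfold l6G2
  simp only [ordProd_cons, ordProd_nil, c6fn, mul_one, mul_assoc]
  rfl

/-- every element of `U` is an ordered product -/
theorem exists_c6 (u : GL chevG2.Idx F) (hu : u ∈ chevG2.posUnipotent F) :
    ∃ a b c d e f : F, u = ordProd chevG2 mem_G2 F l6G2 (c6fn a b c d e f) := by
  rw [posUnipotent_eq_closure_gensLA chevG2 mem_G2 F aG2 chainAdd_G2 posFacts_G2 l6G2 mem_l6G2_iff] at hu
  obtain ⟨t, ht⟩ := exists_ordProdA chevG2 mem_G2 F aG2 chainAdd_G2 posFacts_G2 l6G2 goodLA_G2 u hu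
  refine ⟨t 7, t 6, t 8, t 9, t 10, t 11, ?_⟩
  rw [ht]
  apply ordProd_congr
  intro r hr
  unfold l6G2 at hr
  simp only [List.mem_cons, List.not_mem_nil, or_false] at hr
  rcases hr with rfl | rfl | rfl | rfl | rfl | rfl <;> rfl

theorem c6_inj (a b c d e f a' b' c' d' e' f' : F)
    (h : ordProd chevG2 mem_G2 F l6G2 (c6fn a b c d e f) =
      ordProd chevG2 mem_G2 F l6G2 (c6fn a' b' c' d' e' f')) :
    a = a' ∧ b = b' ∧ c = c' ∧ d = d' ∧ e = e' ∧ f = f' := by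
  have := ordProd_injA chevG2 mem_G2 F aG2 chainAdd_G2 posFacts_G2 l6G2 goodLA_G2 _ _ h
  exact ⟨this 7 (by decide), this 6 (by decide), this 8 (by decide), this 9 (by decide),
    this 10 (by decide), this 11 (by decide)⟩

/-- the elements of `U¹` -/
noncomputable def reeU (θ : ℕ) (t u v : F) : GL chevG2.Idx F :=
  wordGL chevG2 mem_G2 F (reeWordU θ t u v)

theorem reeU_eq (θ : ℕ) (t u v : F) : reeU θ t u v =
    ordProd chevG2 mem_G2 F l6G2 (c6fn (t ^ θ) t (t ^ (θ + 1) + u ^ θ) (t ^ (2 * θ + 1) + v ^ θ) u v) := by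
  rw [ordProd_c6fn]
  unfold reeU reeWordU wordGL
  simp only [g2a, g2b, g2ab, g2aab, g2aaab, g2aaabb, List.map_cons, List.map_nil, List.prod_cons,
    List.prod_nil, mul_one, mul_assoc]

theorem reeU_mem_posUnipotent (θ : ℕ) (t u v : F) : reeU θ t u v ∈ chevG2.posUnipotent F := by
  rw [reeU_eq]
  exact ordProd_mem_posUnipotent chevG2 mem_G2 F l6G2 (fun r hr => (mem_l6G2_iff r).mp hr) _

theorem pwA (t : F) (θ : ℕ) : (t ^ θ) ^ 2 * t = t ^ (2 * θ + 1) := by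
  rw [← pow_mul, pow_succ, Nat.mul_comm]

theorem pwB (t : F) (θ : ℕ) : t ^ θ * t = t ^ (θ + 1) := (pow_succ t θ).symm

variable {τ : ↥(chevG2.group F) ≃* ↥(chevG2.group F)} {θ : ℕ} (hτ : TauData F τ θ)
include hτ

theorem pw1 (t : F) : (t ^ θ) ^ (θ * 3) = t := by
  rw [← pow_mul]
  have : θ * (θ * 3) = 3 * θ * θ := by ring
  rw [this, hτ.pow]

theorem pw1' (t : F) : (t ^ (θ * 3)) ^ θ = t := by
  rw [← pow_mul]
  have : θ * 3 * θ = 3 * θ * θ := by ring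
  rw [this, hτ.pow]

theorem pw_add (x y : F) : (x + y) ^ (θ * 3) = x ^ (θ * 3) + y ^ (θ * 3) := by
  rw [pow_mul, pow_mul, pow_mul, hτ.add_pow]
  have : (x ^ θ + y ^ θ) ^ 3 = (x ^ θ) ^ 3 + (y ^ θ) ^ 3 +
      3 * ((x ^ θ) ^ 2 * y ^ θ + x ^ θ * (y ^ θ) ^ 2) := by ring
  rw [this, hτ.three, zero_mul, add_zero]

theorem pw2 (t : F) : (t ^ (θ + 1)) ^ (θ * 3) = (t ^ θ) ^ 3 * t := by
  have h := hτ.pow t
  calc (t ^ (θ + 1)) ^ (θ * 3) = t ^ (θ * 3) * t ^ (3 * θ * θ) := by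
        rw [← pow_mul, ← pow_add]; congr 1; ring
    _ = _ := by rw [h, pow_mul]

theorem pw3 (t : F) : (t ^ (2 * θ + 1)) ^ (θ * 3) = (t ^ θ) ^ 3 * t ^ 2 := by
  have h := hτ.pow t
  calc (t ^ (2 * θ + 1)) ^ (θ * 3) = t ^ (θ * 3) * (t ^ (3 * θ * θ)) ^ 2 := by
        rw [← pow_mul, ← pow_mul, ← pow_add]; congr 1; ring
    _ = _ := by rw [h, pow_mul]

/-- the action of `τ` on an ordered product -/
theorem tauGL_c6 (a b c d e f : F) :
    tauGL F τ (ordProd chevG2 mem_G2 F l6G2 (c6fn a b c d e f)) =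
      ordProd chevG2 mem_G2 F l6G2 (c6fn (b ^ θ) (a ^ (θ * 3))
        (b ^ θ * a ^ (θ * 3) + e ^ θ) ((b ^ θ) ^ 2 * a ^ (θ * 3) + f ^ θ)
        (c ^ (θ * 3) - (b ^ θ) ^ 3 * a ^ (θ * 3)) (d ^ (θ * 3) - (b ^ θ) ^ 3 * (a ^ (θ * 3)) ^ 2)) := by
  have hw : ordProd chevG2 mem_G2 F l6G2 (c6fn a b c d e f) =
      wordGL chevG2 mem_G2 F [(7, a), (6, b), (8, c), (9, d), (10, e), (11, f)] := rfl
  rw [hw, tauGL_wordGL hτ _ (by
    intro p hp
    simp only [List.mem_cons, List.not_mem_nil, or_false] at hp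
    rcases hp with rfl | rfl | rfl | rfl | rfl | rfl <;> show (_ : ℕ) < 12 <;> omega)]
  have e7 : eG2 θ 7 = θ * 3 := rfl
  have e6 : eG2 θ 6 = θ * 1 := rfl
  have e8 : eG2 θ 8 = θ * 3 := rfl
  have e9 : eG2 θ 9 = θ * 3 := rfl
  have e10 : eG2 θ 10 = θ * 1 := rfl
  have e11 : eG2 θ 11 = θ * 1 := rfl
  have r7 : rho_G2 7 = 6 := rfl
  have r6 : rho_G2 6 = 7 := rfl
  have r8 : rho_G2 8 = 10 := rfl
  have r9 : rho_G2 9 = 11 := rfl
  have r10 : rho_G2 10 = 8 := rfl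
  have r11 : rho_G2 11 = 9 := rfl
  rw [ordProd_c6fn]
  simp only [List.map_cons, List.map_nil, e7, e6, e8, e9, e10, e11, r7, r6, r8, r9, r10, r11, mul_one,
    wordGL, List.prod_cons, List.prod_nil]
  have := star_pos F hτ.three (b ^ θ) (a ^ (θ * 3)) (c ^ (θ * 3)) (d ^ (θ * 3)) (e ^ θ) (f ^ θ)
  simp only [mul_assoc] at this ⊢
  exact this

theorem tauGL_reeU (t u v : F) : tauGL F τ (reeU θ t u v) = reeU θ t u v := by
  rw [reeU_eq, tauGL_c6 hτ]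
  apply ordProd_congr
  intro r hr
  unfold l6G2 at hr
  simp only [List.mem_cons, List.not_mem_nil, or_false] at hr
  rcases hr with rfl | rfl | rfl | rfl | rfl | rfl
  · rfl
  · show (t ^ θ) ^ (θ * 3) = t
    exact pw1 hτ t
  · show t ^ θ * (t ^ θ) ^ (θ * 3) + u ^ θ = t ^ (θ + 1) + u ^ θ
    rw [pw1 hτ, pwB]
  · show (t ^ θ) ^ 2 * (t ^ θ) ^ (θ * 3) + v ^ θ = t ^ (2 * θ + 1) + v ^ θ
    rw [pw1 hτ, pwA]
  · show (t ^ (θ + 1) + u ^ θ) ^ (θ * 3) - (t ^ θ) ^ 3 * (t ^ θ) ^ (θ * 3) = u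
    rw [pw_add hτ, pw2 hτ, pw1 hτ, pw1 hτ]
    ring
  · show (t ^ (2 * θ + 1) + v ^ θ) ^ (θ * 3) - (t ^ θ) ^ 3 * ((t ^ θ) ^ (θ * 3)) ^ 2 = v
    rw [pw_add hτ, pw3 hτ, pw1 hτ, pw1 hτ]
    ring

theorem reeU_mem_fixTau (t u v : F) : reeU θ t u v ∈ fixTau F τ :=
  ⟨wordGL_mem_group chevG2 mem_G2 F _, tauGL_reeU hτ t u v⟩

/-- the fixed points in `U` -/
theorem posUnipotent_inf_fixTau (g : GL chevG2.Idx F) :
    g ∈ chevG2.posUnipotent F ⊓ fixTau F τ ↔ ∃ t u v : F, g = reeU θ t u v := by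
  constructor
  · intro hg
    obtain ⟨hU, -, hfix⟩ := Subgroup.mem_inf.mp hg
    obtain ⟨a, b, c, d, e, f, rfl⟩ := exists_c6 g hU
    rw [tauGL_c6 hτ] at hfix
    obtain ⟨h1, h2, h3, h4, -, -⟩ := c6_inj _ _ _ _ _ _ _ _ _ _ _ _ hfix
    refine ⟨b, e, f, ?_⟩
    rw [reeU_eq]
    apply ordProd_congr
    intro r hr
    unfold l6G2 at hr
    simp only [List.mem_cons, List.not_mem_nil, or_false] at hr
    rcases hr with rfl | rfl | rfl | rfl | rfl | rfl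
    · show a = b ^ θ
      exact h1.symm
    · rfl
    · show c = b ^ (θ + 1) + e ^ θ
      rw [← h3, h2, pwB]
    · show d = b ^ (2 * θ + 1) + f ^ θ
      rw [← h4, h2, pwA]
    · rfl
    · rfl
  · rintro ⟨t, u, v, rfl⟩
    exact Subgroup.mem_inf.mpr ⟨reeU_mem_posUnipotent θ t u v, reeU_mem_fixTau hτ t u v⟩

omit hτ in
theorem reeU_inj (θ : ℕ) (t u v t' u' v' : F) (h : reeU θ t u v = reeU θ t' u' v') :
    t = t' ∧ u = u' ∧ v = v' := by
  rw [reeU_eq, reeU_eq] at h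
  obtain ⟨-, h2, -, -, h5, h6⟩ := c6_inj _ _ _ _ _ _ _ _ _ _ _ _ h
  exact ⟨h2, h5, h6⟩

/-- `|U ∩ Fix| = |F|³` -/
theorem card_posUnipotent_inf_fixTau :
    Nat.card ↥(chevG2.posUnipotent F ⊓ fixTau F τ) = Nat.card F ^ 3 := by
  have e : (F × F × F) ≃ ↥(chevG2.posUnipotent F ⊓ fixTau F τ) :=
    Equiv.ofBijective (fun p => ⟨reeU θ p.1 p.2.1 p.2.2,
      (posUnipotent_inf_fixTau hτ _).mpr ⟨_, _, _, rfl⟩⟩) ⟨by
        rintro ⟨t, u, v⟩ ⟨t', u', v'⟩ h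
        have h' := congrArg Subtype.val h
        obtain ⟨h1, h2, h3⟩ := reeU_inj θ _ _ _ _ _ _ h'
        simp only at h1 h2 h3
        rw [h1, h2, h3], by
        rintro ⟨g, hg⟩
        obtain ⟨t, u, v, rfl⟩ := (posUnipotent_inf_fixTau hτ g).mp hg
        exact ⟨(t, u, v), rfl⟩⟩
  rw [← Nat.card_congr e, Nat.card_prod, Nat.card_prod]
  ring

end

end Cfsg.Agent.Lib.Helper7
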