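import Cfsg.Agent.Lib.Helper7.G2Tw4

/-! The twisted group `²G₂` lies in the fixed points of the twisting automorphism (helper7). -/

set_option autoImplicit false

namespace Cfsg.Agent.Lib.Helper7

open Cfsg Cfsg.Lie Matrix

section
variable {F : Type*} [Field F]

/-- the elements of `V¹` -/
noncomputable def reeV (θ : ℕ) (t u v : F) : GL chevG2.Idx F :=
  wordGL chevG2 mem_G2 F (reeWordV θ t u v)

theorem reeWordV_eq (θ : ℕ) (t u v : F) : reeWordV θ t u v =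
    [(4, -(t ^ θ)), (5, -t), (3, -(t ^ (θ + 1) + u ^ θ)), (2, -(t ^ (2 * θ + 1) + v ^ θ)), (1, -u),
      (0, -v)] := by
  unfold reeWordV reeWordU ChevalleyDatum.negWord
  simp only [g2a, g2b, g2ab, g2aab, g2aaab, g2aaabb, List.map_cons, List.map_nil]
  rfl

theorem reeV_eq (θ : ℕ) (t u v : F) : reeV θ t u v =
    xGL chevG2 mem_G2 F 4 (-(t ^ θ)) * xGL chevG2 mem_G2 F 5 (-t) *
      (xGL chevG2 mem_G2 F 3 (-(t ^ (θ + 1) + u ^ θ)) * xGL chevG2 mem_G2 F 2 (-(t ^ (2 * θ + 1) + v ^ θ)) *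
        xGL chevG2 mem_G2 F 1 (-u) * xGL chevG2 mem_G2 F 0 (-v)) := by
  unfold reeV
  rw [reeWordV_eq]
  simp only [wordGL, List.map_cons, List.map_nil, List.prod_cons, List.prod_nil, mul_one, mul_assoc]

theorem reeV_mem_negUnipotent (θ : ℕ) (t u v : F) : reeV θ t u v ∈ chevG2.negUnipotent F := by
  rw [reeV_eq]
  have h : ∀ r, chevG2.IsNegRoot r → ∀ c : F, xGL chevG2 mem_G2 F r c ∈ chevG2.negUnipotent F :=
    fun r hr c => xGL_neg_mem chevG2 mem_G2 F r hr c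
  exact Subgroup.mul_mem _ (Subgroup.mul_mem _ (h 4 (by decide) _) (h 5 (by decide) _))
    (Subgroup.mul_mem _ (Subgroup.mul_mem _ (Subgroup.mul_mem _ (h 3 (by decide) _) (h 2 (by decide) _))
      (h 1 (by decide) _)) (h 0 (by decide) _))

variable {τ : ↥(chevG2.group F) ≃* ↥(chevG2.group F)} {θ : ℕ} (hτ : TauData F τ θ)
include hτ

theorem neg_pow_theta (x : F) : (-x) ^ θ = -(x ^ θ) := hτ.odd.neg_pow x

theorem neg_pow_theta3 (x : F) : (-x) ^ (θ * 3) = -(x ^ (θ * 3)) := by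
  have : Odd (θ * 3) := hτ.odd.mul (by decide)
  exact this.neg_pow x

theorem tauGL_reeV (t u v : F) : tauGL F τ (reeV θ t u v) = reeV θ t u v := by
  have e4 : eG2 θ 4 = θ * 3 := rfl
  have e5 : eG2 θ 5 = θ * 1 := rfl
  have e3 : eG2 θ 3 = θ * 3 := rfl
  have e2 : eG2 θ 2 = θ * 3 := rfl
  have e1 : eG2 θ 1 = θ * 1 := rfl
  have e0 : eG2 θ 0 = θ * 1 := rfl
  have r4 : rho_G2 4 = 5 := rfl
  have r5 : rho_G2 5 = 4 := rfl
  have r3 : rho_G2 3 = 1 := rfl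
  have r2 : rho_G2 2 = 0 := rfl
  have r1 : rho_G2 1 = 3 := rfl
  have r0 : rho_G2 0 = 2 := rfl
  rw [reeV_eq]
  have hw : reeV θ t u v = wordGL chevG2 mem_G2 F (reeWordV θ t u v) := rfl
  rw [← reeV_eq, hw, reeWordV_eq, tauGL_wordGL hτ _ (by
    intro p hp
    simp only [List.mem_cons, List.not_mem_nil, or_false] at hp
    rcases hp with rfl | rfl | rfl | rfl | rfl | rfl <;> show (_ : ℕ) < 12 <;> omega)]
  simp only [List.map_cons, List.map_nil, e4, e5, e3, e2, e1, e0, r4, r5, r3, r2, r1, r0, mul_one,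
    wordGL, List.prod_cons, List.prod_nil, neg_pow_theta hτ, neg_pow_theta3 hτ]
  have := star_neg F hτ.three (-(t ^ θ)) (-((t ^ θ) ^ (θ * 3))) (-((t ^ (θ + 1) + u ^ θ) ^ (θ * 3)))
    (-((t ^ (2 * θ + 1) + v ^ θ) ^ (θ * 3))) (-(u ^ θ)) (-(v ^ θ))
  simp only [mul_assoc] at this ⊢
  rw [this, pw1 hτ, pw_add hτ, pw_add hτ, pw2 hτ, pw3 hτ, pw1 hτ, pw1 hτ]
  have hC : -(-(t ^ θ) * -t) + -(u ^ θ) = -(t ^ (θ + 1) + u ^ θ) := by rw [← pwB]; ring
  have hD : (-(t ^ θ)) ^ 2 * -t + -(v ^ θ) = -(t ^ (2 * θ + 1) + v ^ θ) := by rw [← pwA]; ring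
  have hE : -((t ^ θ) ^ 3 * t + u) + (-(t ^ θ)) ^ 3 * -t = -u := by ring
  have hG : -((t ^ θ) ^ 3 * t ^ 2 + v) - (-(t ^ θ)) ^ 3 * (-t) ^ 2 = -v := by ring
  rw [hC, hD, hE, hG]

theorem reeV_mem_fixTau (t u v : F) : reeV θ t u v ∈ fixTau F τ :=
  ⟨wordGL_mem_group chevG2 mem_G2 F _, tauGL_reeV hτ t u v⟩

/-- the twisted group lies in the fixed points -/
theorem twistedG2_le_fixTau : twistedG2 F θ ≤ fixTau F τ := by
  unfold twistedG2 ChevalleyDatum.genSubgroup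
  rw [Subgroup.closure_le]
  rintro g ⟨w, ⟨t, u, v, hw | hw⟩, hg⟩
  · have : g = reeU θ t u v := Units.ext (by rw [hg, hw]; exact (coe_wordGL chevG2 mem_G2 F _).symm)
    rw [this]
    exact reeU_mem_fixTau hτ t u v
  · have : g = reeV θ t u v := Units.ext (by rw [hg, hw]; exact (coe_wordGL chevG2 mem_G2 F _).symm)
    rw [this]
    exact reeV_mem_fixTau hτ t u v

omit hτ in
theorem reeU_mem_twistedG2 (θ : ℕ) (t u v : F) : reeU θ t u v ∈ twistedG2 F θ := by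
  apply Subgroup.subset_closure
  exact ⟨reeWordU θ t u v, ⟨t, u, v, Or.inl rfl⟩, coe_wordGL chevG2 mem_G2 F _⟩

omit hτ in
theorem reeV_mem_twistedG2 (θ : ℕ) (t u v : F) : reeV θ t u v ∈ twistedG2 F θ := by
  apply Subgroup.subset_closure
  exact ⟨reeWordV θ t u v, ⟨t, u, v, Or.inr rfl⟩, coe_wordGL chevG2 mem_G2 F _⟩

theorem theta_pos : 0 < θ := hτ.odd.pos

theorem n0G2_mem_twistedG2 : n0G2 F ∈ twistedG2 F θ := by
  have hθ : θ ≠ 0 := (theta_pos hτ).ne'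
  have h1 : xGL chevG2 mem_G2 F 8 1 * xGL chevG2 mem_G2 F 10 1 = reeU θ 0 1 0 := by
    rw [reeU_eq, ordProd_c6fn]
    simp only [zero_pow hθ, one_pow, zero_pow (Nat.succ_ne_zero _), zero_add, xGL_zero, one_mul, mul_one,
      add_zero]
  have h2 : xGL chevG2 mem_G2 F 3 (-1) * xGL chevG2 mem_G2 F 1 (-1) = reeV θ 0 1 0 := by
    rw [reeV_eq]
    simp only [zero_pow hθ, one_pow, zero_pow (Nat.succ_ne_zero _), zero_add, neg_zero, xGL_zero, one_mul,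
      mul_one, add_zero]
  rw [n0G2_eq, h1, h2]
  exact Subgroup.mul_mem _ (Subgroup.mul_mem _ (reeU_mem_twistedG2 θ _ _ _) (reeV_mem_twistedG2 θ _ _ _))
    (reeU_mem_twistedG2 θ _ _ _)

end

end Cfsg.Agent.Lib.Helper7
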