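import Cfsg.Agent.Lib.Helper7.G2Tw5
import Cfsg.Agent.Lib.Helper7.ChevBlock2
import Cfsg.Agent.Lib.Helper7.ChevTwistCore
import Cfsg.Agent.Lib.Helper7.ChevHCardTab
import Cfsg.Agent.Lib.Helper7.ChevLongCent

/-! The torus of `²G₂`: characters of fixed diagonal elements, the corner entry (helper7). -/

set_option autoImplicit false

namespace Cfsg.Agent.Lib.Helper7

open Cfsg Cfsg.Lie Matrix

section
variable {F : Type*} [Field F]

/-- index of the lowest root vector -/
def iLow : chevG2.Idx := Sum.inr ⟨0, by decide⟩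

/-- index of the highest root vector -/
def iHigh : chevG2.Idx := Sum.inr ⟨11, by decide⟩

/-- the corner entry (lowest row, highest column) -/
def cLow (g : GL chevG2.Idx F) : F := (g : Matrix chevG2.Idx chevG2.Idx F) iLow iHigh

/-- the lowest diagonal entry -/
def chi0 (g : GL chevG2.Idx F) : F := (g : Matrix chevG2.Idx chevG2.Idx F) iLow iLow

theorem levelFn_iLow : levelFn chevG2 iLow = 0 := by decide

theorem levelFn_iHigh : levelFn chevG2 iHigh = 12 := by decide

theorem levelFn_le_12 : ∀ i : chevG2.Idx, levelFn chevG2 i ≤ 12 := by decide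

theorem row_low_of_mem_U (u : GL chevG2.Idx F) (hu : u ∈ chevG2.posUnipotent F) (j : chevG2.Idx) :
    (u : Matrix chevG2.Idx chevG2.Idx F) iLow j = (1 : Matrix chevG2.Idx chevG2.Idx F) iLow j := by
  have h := mem_unitriSubgroup.mp (posUnipotent_le_unitri chevG2 triOK_G2 F hu)
  have := h iLow j (by rw [levelFn_iLow]; omega)
  rw [Matrix.sub_apply, sub_eq_zero] at this
  exact this

theorem col_high_of_mem_U (u : GL chevG2.Idx F) (hu : u ∈ chevG2.posUnipotent F) (i : chevG2.Idx) :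
    (u : Matrix chevG2.Idx chevG2.Idx F) i iHigh = (1 : Matrix chevG2.Idx chevG2.Idx F) i iHigh := by
  have h := mem_unitriSubgroup.mp (posUnipotent_le_unitri chevG2 triOK_G2 F hu)
  have := h i iHigh (by rw [levelFn_iHigh]; have := levelFn_le_12 i; omega)
  rw [Matrix.sub_apply, sub_eq_zero] at this
  exact this

theorem cLow_U_mul (u g : GL chevG2.Idx F) (hu : u ∈ chevG2.posUnipotent F) : cLow (u * g) = cLow g := by
  unfold cLow
  rw [Units.val_mul, Matrix.mul_apply]
  simp only [row_low_of_mem_U u hu, Matrix.one_apply, ite_mul, one_mul, zero_mul,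
    Finset.sum_ite_eq, Finset.mem_univ, if_true]

theorem cLow_mul_U (u g : GL chevG2.Idx F) (hu : u ∈ chevG2.posUnipotent F) : cLow (g * u) = cLow g := by
  unfold cLow
  rw [Units.val_mul, Matrix.mul_apply]
  simp only [col_high_of_mem_U u hu, Matrix.one_apply, mul_ite, mul_one, mul_zero,
    Finset.sum_ite_eq', Finset.mem_univ, if_true]

theorem cLow_one : cLow (1 : GL chevG2.Idx F) = 0 := by
  unfold cLow
  rw [Units.val_one, Matrix.one_apply_ne]
  decide

theorem cLow_diag_mul (h g : GL chevG2.Idx F) (χ : ℕ → F)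
    (hh : (h : Matrix chevG2.Idx chevG2.Idx F) = diagChar chevG2 F χ) : cLow (h * g) = χ 0 * cLow g := by
  unfold cLow
  rw [Units.val_mul, hh]
  unfold diagChar
  rw [Matrix.diagonal_mul]
  rfl

theorem chi0_diag (h : GL chevG2.Idx F) (χ : ℕ → F)
    (hh : (h : Matrix chevG2.Idx chevG2.Idx F) = diagChar chevG2 F χ) : chi0 h = χ 0 := by
  unfold chi0
  rw [hh]
  unfold diagChar
  rw [Matrix.diagonal_apply_eq]
  rfl

theorem chi0_mul (h h' : GL chevG2.Idx F) (hh : h ∈ chevG2.diagonalSubgroup F)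
    (hh' : h' ∈ chevG2.diagonalSubgroup F) : chi0 (h * h') = chi0 h * chi0 h' := by
  obtain ⟨χ, hχ, e⟩ := mem_diagonalSubgroup_char chevG2 mem_G2 F h hh
  obtain ⟨ψ, hψ, e'⟩ := mem_diagonalSubgroup_char chevG2 mem_G2 F h' hh'
  have : ((h * h' : GL chevG2.Idx F) : Matrix chevG2.Idx chevG2.Idx F) =
      diagChar chevG2 F (fun s => χ s * ψ s) := by
    rw [Units.val_mul, e, e', diagChar_mul]
  rw [chi0_diag _ _ this, chi0_diag _ _ e, chi0_diag _ _ e']

theorem chi0_one : chi0 (1 : GL chevG2.Idx F) = 1 := by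
  unfold chi0
  rw [Units.val_one, Matrix.one_apply_eq]

theorem chi0_ne_zero (h : GL chevG2.Idx F) (hh : h ∈ chevG2.diagonalSubgroup F) : chi0 h ≠ 0 := by
  obtain ⟨χ, hχ, e⟩ := mem_diagonalSubgroup_char chevG2 mem_G2 F h hh
  rw [chi0_diag _ _ e]
  exact hχ.ne0 0 (by decide)

theorem chi0_inv (h : GL chevG2.Idx F) (hh : h ∈ chevG2.diagonalSubgroup F) :
    chi0 h⁻¹ = (chi0 h)⁻¹ := by
  have := chi0_mul h h⁻¹ hh (Subgroup.inv_mem _ hh)
  rw [mul_inv_cancel, chi0_one] at this
  exact eq_inv_of_mul_eq_one_right this.symm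

variable {τ : ↥(chevG2.group F) ≃* ↥(chevG2.group F)} {θ : ℕ} (hτ : TauData F τ θ)
include hτ

/-- the character of a fixed diagonal element is compatible with the twist -/
theorem char_fix (h : GL chevG2.Idx F) (hh : h ∈ chevG2.diagonalSubgroup F ⊓ fixTau F τ)
    (χ : ℕ → F) (hχ : ChainChar chevG2 F χ)
    (e : (h : Matrix chevG2.Idx chevG2.Idx F) = diagChar chevG2 F χ) (r : ℕ) (hr : r < 12) :
    χ (rho_G2 r) = χ r ^ eG2 θ r := by
  obtain ⟨hH, hG, hfix⟩ := Subgroup.mem_inf.mp hh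
  have h1 := diagGL_xGL_comm chevG2 mem_G2 F h χ hχ e r 1
  have hxG : ∀ t : F, xGL chevG2 mem_G2 F r t ∈ chevG2.group F := fun t =>
    xGL_mem_group chevG2 mem_G2 F r t
  have h2 := congrArg (tauGL F τ) h1
  rw [tauGL_mul F τ _ _ hG (hxG _), tauGL_mul F τ _ _ (hxG _) hG, hfix, tauGL_xGL hτ r hr,
    tauGL_xGL hτ r hr, diagGL_xGL_comm chevG2 mem_G2 F h χ hχ e (rho_G2 r)] at h2
  have h3 := xGL_param_inj chevG2 mem_G2 F (rho_G2 r) (rho_G2_lt r hr) _ _ (mul_right_cancel h2)
  rw [one_pow, mul_one, mul_one] at h3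
  exact h3

/-- a fixed diagonal element with trivial lowest entry is trivial -/
theorem fixH_eq_one (h : GL chevG2.Idx F) (hh : h ∈ chevG2.diagonalSubgroup F ⊓ fixTau F τ)
    (h0 : chi0 h = 1) : h = 1 := by
  obtain ⟨χ, hχ, e⟩ := mem_diagonalSubgroup_char chevG2 mem_G2 F h (Subgroup.mem_inf.mp hh).1
  rw [chi0_diag _ _ e] at h0
  have c2 : χ 2 = 1 := by
    have := char_fix hτ h hh χ hχ e 0 (by decide)
    rw [h0, one_pow] at this
    exact this
  have c11 : χ 11 = 1 := by
    have := hχ.negC 0 (by decide) (by decide)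
    rw [h0, inv_one] at this
    exact this
  have c9 : χ 9 = 1 := by
    have := hχ.negC 2 (by decide) (by decide)
    rw [c2, inv_one] at this
    exact this
  have c8 : χ 8 = 1 := by
    have := hχ.addC 8 (by decide) 9 (by decide) ((11:ℕ),(1:ℕ),(3:ℤ)) (by decide) (by decide)
    simp only [c11, c9, one_mul, pow_one] at this
    exact this.symm
  have c7 : χ 7 = 1 := by
    have := hχ.addC 7 (by decide) 8 (by decide) ((9:ℕ),(1:ℕ),(-2:ℤ)) (by decide) (by decide)
    simp only [c9, c8, one_mul, pow_one] at this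
    exact this.symm
  have c6 : χ 6 = 1 := by
    have := hχ.addC 7 (by decide) 6 (by decide) ((8:ℕ),(1:ℕ),(-1:ℤ)) (by decide) (by decide)
    simp only [c8, c7, one_pow, mul_one] at this
    exact this.symm
  apply diagonal_eq_one_of_simple chevG2 mem_G2 F hcA_G2 hcR_G2 rootCoefOKB_G2 h
    (Subgroup.mem_inf.mp hh).1 χ e
  intro i hi
  have hi' : i < 2 := hi
  interval_cases i
  · exact c7
  · exact c6

end

end Cfsg.Agent.Lib.Helper7
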