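import Cfsg.Agent.Lib.Helper7.G2Tw6

/-! Corner entries of some elements of `V¹`; the torus of `²G₂` lies in the twisted group;
the twisted group is the group of fixed points (helper7). -/

set_option autoImplicit false

namespace Cfsg.Agent.Lib.Helper7

open Cfsg Cfsg.Lie Matrix

/-- evaluation of a list polynomial at an integer -/
def evalZ (L : List (ℕ × ℤ)) (t : ℤ) : ℤ := (L.map fun km => km.2 * t ^ km.1).sum

/-- the integral matrix `x_r(c)` for `G₂` -/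
def xZ_G2 (r : ℕ) (c : ℤ) : Matrix chevG2.Idx chevG2.Idx ℤ :=
  Matrix.of fun i j => evalZ (polyEntry chevG2 r i j) c

set_option maxRecDepth 100000 in
theorem xZ_corner : (xZ_G2 4 (-1) * xZ_G2 5 (-1) * xZ_G2 3 (-1) * xZ_G2 2 (-1)) iLow iHigh = -2 := by
  decide +kernel

theorem polyEntry_corner : ∀ k : chevG2.Idx, k ≠ iLow →
    polyEntry chevG2 2 iLow k = [] ∨ polyEntry chevG2 0 k iHigh = [] := by decide

theorem polyEntry_corner_a : polyEntry chevG2 2 iLow iLow = [(0, 1)] := by decide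

theorem polyEntry_corner_b : polyEntry chevG2 0 iLow iHigh = [(2, -1)] := by decide

section
variable {F : Type*} [Field F]

theorem evalL_intCast (L : List (ℕ × ℤ)) (c : ℤ) : evalL F L (c : F) = ((evalZ L c : ℤ) : F) := by
  unfold evalL evalZ
  induction L with
  | nil => simp
  | cons a L ih =>
    rw [List.map_cons, List.map_cons, List.sum_cons, List.sum_cons, ih]
    push_cast
    rfl

theorem x_intCast (r : ℕ) (hr : r < 12) (c : ℤ) :
    chevG2.x F r (c : F) = (xZ_G2 r c).map (Int.castRingHom F) := by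
  ext i j
  rw [x_apply_eq chevG2 F r hr, Matrix.map_apply, evalL_intCast]
  rfl

/-- corner entry of `x₂(c) x₀(d)` -/
theorem cLow_x2_x0 (c d : F) :
    cLow (xGL chevG2 mem_G2 F 2 c * xGL chevG2 mem_G2 F 0 d) = -(d ^ 2) := by
  unfold cLow
  rw [Units.val_mul, coe_xGL, coe_xGL, Matrix.mul_apply, Finset.sum_eq_single iLow]
  · rw [x_apply_eq chevG2 F 2 (by decide), x_apply_eq chevG2 F 0 (by decide), polyEntry_corner_a,
      polyEntry_corner_b, evalL_single, evalL_single]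
    simp
  · intro k _ hk
    rw [x_apply_eq chevG2 F 2 (by decide), x_apply_eq chevG2 F 0 (by decide)]
    rcases polyEntry_corner k hk with h | h
    · rw [h, evalL_nil, zero_mul]
    · rw [h, evalL_nil, mul_zero]
  · intro h
    exact absurd (Finset.mem_univ _) h

theorem cLow_reeV_00 (θ : ℕ) (hθ : θ ≠ 0) (w : F) : cLow (reeV θ 0 0 w) = -(w ^ 2) := by
  have : reeV θ 0 0 w = xGL chevG2 mem_G2 F 2 (-(w ^ θ)) * xGL chevG2 mem_G2 F 0 (-w) := by
    rw [reeV_eq]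
    simp only [zero_pow hθ, zero_pow (Nat.succ_ne_zero _), zero_add, neg_zero, xGL_zero, one_mul,
      mul_one]
  rw [this, cLow_x2_x0]
  ring

theorem cLow_reeV_10 (θ : ℕ) (hθ : θ ≠ 0) (h3 : (3 : F) = 0) : cLow (reeV θ 1 0 (0 : F)) = 1 := by
  have : reeV θ 1 0 (0 : F) = xGL chevG2 mem_G2 F 4 (-1) * xGL chevG2 mem_G2 F 5 (-1) *
      xGL chevG2 mem_G2 F 3 (-1) * xGL chevG2 mem_G2 F 2 (-1) := by
    rw [reeV_eq]
    simp only [zero_pow hθ, one_pow, add_zero, neg_zero, xGL_zero, mul_one, mul_assoc]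
  rw [this]
  unfold cLow
  have e : (-1 : F) = ((-1 : ℤ) : F) := by push_cast; rfl
  rw [Units.val_mul, Units.val_mul, Units.val_mul, coe_xGL, coe_xGL, coe_xGL, coe_xGL, e,
    x_intCast 4 (by decide), x_intCast 5 (by decide), x_intCast 3 (by decide), x_intCast 2 (by decide),
    ← Matrix.map_mul, ← Matrix.map_mul, ← Matrix.map_mul, Matrix.map_apply, xZ_corner, eq_intCast]
  push_cast
  linear_combination (-1 : F) * h3

variable {τ : ↥(chevG2.group F) ≃* ↥(chevG2.group F)} {θ : ℕ} (hτ : TauData F τ θ)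
include hτ

theorem inf_fixTau_le_twistedG2 : chevG2.posUnipotent F ⊓ fixTau F τ ≤ twistedG2 F θ := by
  intro u hu
  obtain ⟨t, a, c, rfl⟩ := (posUnipotent_inf_fixTau hτ u).mp hu
  exact reeU_mem_twistedG2 θ t a c

/-- an element of `V ∩ G¹` with nonzero corner entry yields an element of `H ∩ G¹` -/
theorem exists_H_of_cLow (v : GL chevG2.Idx F) (hvV : v ∈ chevG2.negUnipotent F)
    (hvG : v ∈ twistedG2 F θ) (hne : cLow v ≠ 0) :
    ∃ h ∈ chevG2.diagonalSubgroup F ⊓ twistedG2 F θ, cLow v = chi0 h * cLow (n0G2 F) := by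
  have hvfix := twistedG2_le_fixTau hτ hvG
  rcases fix_cases hτ v hvfix with hB | ⟨b, hb, u, hu, e⟩
  · exfalso
    have : v ∈ chevG2.borelSubgroup F ⊓ chevG2.negUnipotent F := Subgroup.mem_inf.mpr ⟨hB, hvV⟩
    rw [borel_inf_negUnipotent chevG2 mem_G2 F, Subgroup.mem_bot] at this
    rw [this, cLow_one] at hne
    exact hne rfl
  · obtain ⟨h, hh, u₁, hu₁, rfl⟩ := fix_borel hτ b hb
    have huG := inf_fixTau_le_twistedG2 hτ hu
    have hu₁G := inf_fixTau_le_twistedG2 hτ hu₁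
    have hhG : h ∈ twistedG2 F θ := by
      have : h = v * u⁻¹ * (n0G2 F)⁻¹ * u₁⁻¹ := by rw [e]; group
      rw [this]
      exact Subgroup.mul_mem _ (Subgroup.mul_mem _ (Subgroup.mul_mem _ hvG (Subgroup.inv_mem _ huG))
        (Subgroup.inv_mem _ (n0G2_mem_twistedG2 hτ))) (Subgroup.inv_mem _ hu₁G)
    have hhH := (Subgroup.mem_inf.mp hh).1
    refine ⟨h, Subgroup.mem_inf.mpr ⟨hhH, hhG⟩, ?_⟩
    obtain ⟨χ, hχ, eχ⟩ := mem_diagonalSubgroup_char chevG2 mem_G2 F h hhH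
    rw [e, cLow_mul_U _ _ (Subgroup.mem_inf.mp hu).1, mul_assoc h u₁ (n0G2 F), cLow_diag_mul h _ χ eχ,
      cLow_U_mul _ _ (Subgroup.mem_inf.mp hu₁).1, chi0_diag _ _ eχ]

theorem cLow_n0_ne_zero : cLow (n0G2 F) ≠ 0 := by
  have hθ : θ ≠ 0 := (theta_pos hτ).ne'
  obtain ⟨h₂, hh₂, e₂⟩ := exists_H_of_cLow hτ (reeV θ 0 0 1) (reeV_mem_negUnipotent θ _ _ _)
    (reeV_mem_twistedG2 θ _ _ _) (by rw [cLow_reeV_00 θ hθ]; simp)
  intro h0
  rw [h0, mul_zero, cLow_reeV_00 θ hθ] at e₂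
  simp at e₂

/-- squares are values of `chi0` on `H ∩ G¹` -/
theorem exists_H_sq (w : F) (hw : w ≠ 0) :
    ∃ h ∈ chevG2.diagonalSubgroup F ⊓ twistedG2 F θ, chi0 h = w ^ 2 := by
  have hθ : θ ≠ 0 := (theta_pos hτ).ne'
  obtain ⟨h₁, hh₁, e₁⟩ := exists_H_of_cLow hτ (reeV θ 0 0 w) (reeV_mem_negUnipotent θ _ _ _)
    (reeV_mem_twistedG2 θ _ _ _) (by rw [cLow_reeV_00 θ hθ]; simp [hw])
  obtain ⟨h₂, hh₂, e₂⟩ := exists_H_of_cLow hτ (reeV θ 0 0 1) (reeV_mem_negUnipotent θ _ _ _)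
    (reeV_mem_twistedG2 θ _ _ _) (by rw [cLow_reeV_00 θ hθ]; simp)
  rw [cLow_reeV_00 θ hθ] at e₁ e₂
  have hH₁ := (Subgroup.mem_inf.mp hh₁).1
  have hH₂ := (Subgroup.mem_inf.mp hh₂).1
  refine ⟨h₁ * h₂⁻¹, Subgroup.mul_mem _ hh₁ (Subgroup.inv_mem _ hh₂), ?_⟩
  rw [chi0_mul _ _ hH₁ (Subgroup.inv_mem _ hH₂), chi0_inv _ hH₂]
  have hc := cLow_n0_ne_zero hτ
  have h2 : chi0 h₂ ≠ 0 := chi0_ne_zero _ hH₂
  rw [mul_inv_eq_iff_eq_mul₀ h2]
  apply mul_right_cancel₀ hc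
  rw [← e₁, mul_assoc, ← e₂]
  ring

/-- `-1` is a value of `chi0` on `H ∩ G¹` -/
theorem exists_H_neg_one :
    ∃ h ∈ chevG2.diagonalSubgroup F ⊓ twistedG2 F θ, chi0 h = -1 := by
  have hθ : θ ≠ 0 := (theta_pos hτ).ne'
  obtain ⟨h₁, hh₁, e₁⟩ := exists_H_of_cLow hτ (reeV θ 1 0 0) (reeV_mem_negUnipotent θ _ _ _)
    (reeV_mem_twistedG2 θ _ _ _) (by rw [cLow_reeV_10 θ hθ hτ.three]; exact one_ne_zero)
  obtain ⟨h₂, hh₂, e₂⟩ := exists_H_of_cLow hτ (reeV θ 0 0 1) (reeV_mem_negUnipotent θ _ _ _)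
    (reeV_mem_twistedG2 θ _ _ _) (by rw [cLow_reeV_00 θ hθ]; simp)
  rw [cLow_reeV_00 θ hθ] at e₂
  rw [cLow_reeV_10 θ hθ hτ.three] at e₁
  have hH₁ := (Subgroup.mem_inf.mp hh₁).1
  have hH₂ := (Subgroup.mem_inf.mp hh₂).1
  refine ⟨h₁ * h₂⁻¹, Subgroup.mul_mem _ hh₁ (Subgroup.inv_mem _ hh₂), ?_⟩
  rw [chi0_mul _ _ hH₁ (Subgroup.inv_mem _ hH₂), chi0_inv _ hH₂]
  have hc := cLow_n0_ne_zero hτ
  have h2 : chi0 h₂ ≠ 0 := chi0_ne_zero _ hH₂
  rw [mul_inv_eq_iff_eq_mul₀ h2]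
  apply mul_right_cancel₀ hc
  rw [← e₁, mul_assoc, ← e₂]
  ring

variable (hsq : ∀ x : F, x ≠ 0 → ∃ w : F, x = w ^ 2 ∨ x = -(w ^ 2))
include hsq

/-- `chi0` maps `H ∩ G¹` onto the nonzero elements -/
theorem exists_H_chi0 (x : F) (hx : x ≠ 0) :
    ∃ h ∈ chevG2.diagonalSubgroup F ⊓ twistedG2 F θ, chi0 h = x := by
  obtain ⟨w, hw | hw⟩ := hsq x hx
  · have hw0 : w ≠ 0 := by
      rintro rfl
      apply hx
      rw [hw]; ring
    obtain ⟨h, hh, e⟩ := exists_H_sq hτ w hw0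
    exact ⟨h, hh, by rw [e, hw]⟩
  · have hw0 : w ≠ 0 := by
      rintro rfl
      apply hx
      rw [hw]; ring
    obtain ⟨h, hh, e⟩ := exists_H_sq hτ w hw0
    obtain ⟨h', hh', e'⟩ := exists_H_neg_one hτ
    refine ⟨h' * h, Subgroup.mul_mem _ hh' hh, ?_⟩
    rw [chi0_mul _ _ (Subgroup.mem_inf.mp hh').1 (Subgroup.mem_inf.mp hh).1, e, e', hw]
    ring

/-- the fixed torus lies in the twisted group -/
theorem fixH_le_twistedG2 : chevG2.diagonalSubgroup F ⊓ fixTau F τ ≤ twistedG2 F θ := by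
  intro h hh
  have hH := (Subgroup.mem_inf.mp hh).1
  obtain ⟨h', hh', e⟩ := exists_H_chi0 hτ hsq (chi0 h) (chi0_ne_zero h hH)
  have hH' := (Subgroup.mem_inf.mp hh').1
  have hfix' : h' ∈ chevG2.diagonalSubgroup F ⊓ fixTau F τ :=
    Subgroup.mem_inf.mpr ⟨hH', twistedG2_le_fixTau hτ (Subgroup.mem_inf.mp hh').2⟩
  have h1 : h * h'⁻¹ = 1 := by
    apply fixH_eq_one hτ _ (Subgroup.mul_mem _ hh (Subgroup.inv_mem _ hfix'))
    rw [chi0_mul _ _ hH (Subgroup.inv_mem _ hH'), chi0_inv _ hH', e]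
    exact mul_inv_cancel₀ (chi0_ne_zero h hH)
  have : h = h' := by
    have := congrArg (fun x => x * h') h1
    simpa using this
  rw [this]
  exact (Subgroup.mem_inf.mp hh').2

/-- the twisted group is the group of fixed points of the twisting automorphism -/
theorem twistedG2_eq_fixTau : twistedG2 F θ = fixTau F τ := by
  apply le_antisymm (twistedG2_le_fixTau hτ)
  intro g hg
  rcases fix_cases hτ g hg with hB | ⟨b, hb, u, hu, e⟩
  · obtain ⟨h, hh, u, hu, rfl⟩ := fix_borel hτ g (Subgroup.mem_inf.mpr ⟨hB, hg⟩)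
    exact Subgroup.mul_mem _ (fixH_le_twistedG2 hτ hsq hh) (inf_fixTau_le_twistedG2 hτ hu)
  · obtain ⟨h, hh, u₁, hu₁, rfl⟩ := fix_borel hτ b hb
    rw [e]
    exact Subgroup.mul_mem _ (Subgroup.mul_mem _ (Subgroup.mul_mem _ (fixH_le_twistedG2 hτ hsq hh)
      (inf_fixTau_le_twistedG2 hτ hu₁)) (n0G2_mem_twistedG2 hτ)) (inf_fixTau_le_twistedG2 hτ hu)

/-- `chi0` is a bijection from the fixed torus onto the units -/
theorem card_fixH : Nat.card ↥(chevG2.diagonalSubgroup F ⊓ fixTau F τ) = Nat.card F - 1 := by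
  rw [← Nat.card_units]
  let f : ↥(chevG2.diagonalSubgroup F ⊓ fixTau F τ) → Fˣ := fun h =>
    Units.mk0 (chi0 h.1) (chi0_ne_zero h.1 (Subgroup.mem_inf.mp h.2).1)
  have hf : Function.Bijective f := by
    constructor
    · intro h h' e
      have e' : chi0 h.1 = chi0 h'.1 := congrArg Units.val e
      have hH := (Subgroup.mem_inf.mp h.2).1
      have hH' := (Subgroup.mem_inf.mp h'.2).1
      have h1 : h.1 * h'.1⁻¹ = 1 := by
        apply fixH_eq_one hτ _ (Subgroup.mul_mem _ h.2 (Subgroup.inv_mem _ h'.2))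
        rw [chi0_mul _ _ hH (Subgroup.inv_mem _ hH'), chi0_inv _ hH', e']
        exact mul_inv_cancel₀ (chi0_ne_zero h'.1 hH')
      apply Subtype.ext
      have := congrArg (fun x => x * h'.1) h1
      simpa using this
    · intro x
      obtain ⟨h, hh, e⟩ := exists_H_chi0 hτ hsq (x : F) x.ne_zero
      refine ⟨⟨h, Subgroup.mem_inf.mpr ⟨(Subgroup.mem_inf.mp hh).1,
        twistedG2_le_fixTau hτ (Subgroup.mem_inf.mp hh).2⟩⟩, ?_⟩
      apply Units.ext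
      exact e
  exact Nat.card_congr (Equiv.ofBijective f hf)

end

end Cfsg.Agent.Lib.Helper7
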