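import Cfsg.Agent.Lib.Helper7.G2Tw7

/-! The fixed points of the twisting automorphism of `G₂`: the monomial part, the `(B,N)`-pair of
rank one, and the core of `B¹` (helper7). -/

set_option autoImplicit false

namespace Cfsg.Agent.Lib.Helper7

open Cfsg Cfsg.Lie Matrix

section
variable {F : Type*} [Field F]
variable {τ : ↥(chevG2.group F) ≃* ↥(chevG2.group F)} {θ : ℕ} (hτ : TauData F τ θ)
include hτ

/-- fixed monomial elements lie in `H` or act as `-1` -/
theorem fixN_cases (n : GL chevG2.Idx F) (hn : n ∈ chevG2.monomialSubgroup F ⊓ fixTau F τ) :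
    n ∈ chevG2.diagonalSubgroup F ∨ ActsAs chevG2 mem_G2 F n chevG2.neg := by
  obtain ⟨hN, hG, hfix⟩ := Subgroup.mem_inf.mp hn
  exact monomial_stable_cases hτ n hN (by rw [hfix, inv_mul_cancel]; exact Subgroup.one_mem _)

theorem mul_mem_diagonal_of_neg (a b : GL chevG2.Idx F) (ha : a ∈ chevG2.monomialSubgroup F)
    (hb : b ∈ chevG2.monomialSubgroup F) (ha' : ActsAs chevG2 mem_G2 F a chevG2.neg)
    (hb' : ActsAs chevG2 mem_G2 F b chevG2.neg) : a * b ∈ chevG2.diagonalSubgroup F :=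
  mem_diagonal_of_actsAs_id chevG2 mem_G2 F _ (Subgroup.mul_mem _ ha hb) _ (ActsAs.mul chevG2 F ha' hb')
    (fun s hs => neg_G2_neg s hs)

omit hτ in
theorem not_diag_of_neg (a : GL chevG2.Idx F) (ha' : ActsAs chevG2 mem_G2 F a chevG2.neg) :
    a ∉ chevG2.diagonalSubgroup F := by
  intro hH
  have h1 := actsAs_diag chevG2 mem_G2 F a hH
  have h2 := ActsAs.unique chevG2 mem_G2 F h1 ha' 0 (by decide)
  revert h2
  decide

/-- the sign of a fixed monomial element -/
noncomputable def sgnN (F : Type*) [Field F] (n : GL chevG2.Idx F) : Multiplicative (ZMod 2) := by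
  classical
  exact if n ∈ chevG2.diagonalSubgroup F then 1 else Multiplicative.ofAdd 1

omit hτ in
theorem sgnN_of_mem (n : GL chevG2.Idx F) (h : n ∈ chevG2.diagonalSubgroup F) : sgnN F n = 1 := by
  unfold sgnN
  rw [if_pos h]

omit hτ in
theorem sgnN_of_not_mem (n : GL chevG2.Idx F) (h : n ∉ chevG2.diagonalSubgroup F) :
    sgnN F n = Multiplicative.ofAdd 1 := by
  unfold sgnN
  rw [if_neg h]

theorem sgnN_mul (a b : GL chevG2.Idx F) (ha : a ∈ chevG2.monomialSubgroup F ⊓ fixTau F τ)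
    (hb : b ∈ chevG2.monomialSubgroup F ⊓ fixTau F τ) : sgnN F (a * b) = sgnN F a * sgnN F b := by
  by_cases hA : a ∈ chevG2.diagonalSubgroup F
  · by_cases hB : b ∈ chevG2.diagonalSubgroup F
    · rw [sgnN_of_mem a hA, sgnN_of_mem b hB, sgnN_of_mem _ (Subgroup.mul_mem _ hA hB), one_mul]
    · have : a * b ∉ chevG2.diagonalSubgroup F := by
        intro h
        apply hB
        have := Subgroup.mul_mem _ (Subgroup.inv_mem _ hA) h
        rwa [inv_mul_cancel_left] at this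
      rw [sgnN_of_mem a hA, sgnN_of_not_mem b hB, sgnN_of_not_mem _ this, one_mul]
  · by_cases hB : b ∈ chevG2.diagonalSubgroup F
    · have : a * b ∉ chevG2.diagonalSubgroup F := by
        intro h
        apply hA
        have := Subgroup.mul_mem _ h (Subgroup.inv_mem _ hB)
        rwa [mul_inv_cancel_right] at this
      rw [sgnN_of_not_mem a hA, sgnN_of_mem b hB, sgnN_of_not_mem _ this, mul_one]
    · have hA' := (fixN_cases hτ a ha).resolve_left hA
      have hB' := (fixN_cases hτ b hb).resolve_left hB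
      have := mul_mem_diagonal_of_neg hτ a b (Subgroup.mem_inf.mp ha).1 (Subgroup.mem_inf.mp hb).1 hA' hB'
      rw [sgnN_of_not_mem a hA, sgnN_of_not_mem b hB, sgnN_of_mem _ this]
      rfl

/-- `N ∩ Fix` maps onto `ℤ/2` with kernel `H ∩ Fix` -/
theorem exists_hom_fixN :
    ∃ φ : ↥(chevG2.monomialSubgroup F ⊓ fixTau F τ) →* Multiplicative (ZMod 2), Function.Surjective φ ∧
      φ.ker = (chevG2.diagonalSubgroup F ⊓ fixTau F τ).subgroupOf (chevG2.monomialSubgroup F ⊓ fixTau F τ) := by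
  refine ⟨MonoidHom.mk' (fun n => sgnN F n.1) (fun a b => sgnN_mul hτ a.1 b.1 a.2 b.2), ?_, ?_⟩
  · intro x
    have hx : x = 1 ∨ x = Multiplicative.ofAdd 1 := by
      revert x
      decide
    rcases hx with rfl | rfl
    · exact ⟨1, sgnN_of_mem _ (Subgroup.one_mem _)⟩
    · exact ⟨⟨n0G2 F, Subgroup.mem_inf.mpr ⟨n0G2_mem_monomial F, n0G2_mem_fixTau hτ⟩⟩,
        sgnN_of_not_mem _ n0G2_not_mem_diagonal⟩
  · ext n
    rw [MonoidHom.mem_ker, Subgroup.mem_subgroupOf, Subgroup.mem_inf]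
    show sgnN F n.1 = 1 ↔ _
    constructor
    · intro h
      refine ⟨?_, (Subgroup.mem_inf.mp n.2).2⟩
      by_contra hH
      rw [sgnN_of_not_mem _ hH] at h
      revert h
      decide
    · intro h
      exact sgnN_of_mem _ h.1

/-- conjugation by `n₀` maps `U` into `V` -/
theorem conj_n0_mem_negUnipotent (u : GL chevG2.Idx F) (hu : u ∈ chevG2.posUnipotent F) :
    n0G2 F * u * (n0G2 F)⁻¹ ∈ chevG2.negUnipotent F := by
  have h : chevG2.posUnipotent F ≤ (chevG2.negUnipotent F).comap (MulAut.conj (n0G2 F)).toMonoidHom := by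
    unfold ChevalleyDatum.posUnipotent
    rw [Subgroup.closure_le]
    rintro g ⟨r, t, hr, hg⟩
    have hgx : g = xGL chevG2 mem_G2 F r t := Units.ext hg
    show MulAut.conj (n0G2 F) g ∈ chevG2.negUnipotent F
    rw [MulAut.conj_apply, hgx]
    obtain ⟨-, c, -, h⟩ := n0G2_actsAs hτ r hr.1
    rw [h t]
    exact xGL_neg_mem chevG2 mem_G2 F _ (neg_G2_pos r hr) _
  have := h hu
  rwa [Subgroup.mem_comap, MulEquiv.coe_toMonoidHom, MulAut.conj_apply] at this

/-- `B ∩ n₀ B n₀⁻¹ = H` -/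
theorem borel_inf_conj_n0 (k : GL chevG2.Idx F) (hk : k ∈ chevG2.borelSubgroup F)
    (hk' : (n0G2 F)⁻¹ * k * n0G2 F ∈ chevG2.borelSubgroup F) : k ∈ chevG2.diagonalSubgroup F := by
  have hb' : (n0G2 F)⁻¹ * k * n0G2 F ∈
      ((chevG2.borelSubgroup F : Subgroup (GL chevG2.Idx F)) : Set (GL chevG2.Idx F)) := hk'
  rw [borel_eq_mul chevG2 mem_G2 F] at hb'
  obtain ⟨h, hh, u, hu, e⟩ := Set.mem_mul.mp hb'
  have e' : k = (n0G2 F * h * (n0G2 F)⁻¹) * (n0G2 F * u * (n0G2 F)⁻¹) := by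
    have : n0G2 F * h * (n0G2 F)⁻¹ * (n0G2 F * u * (n0G2 F)⁻¹) = n0G2 F * (h * u) * (n0G2 F)⁻¹ := by
      group
    rw [this, e]
    group
  rw [← borel_inf_negBorel chevG2 mem_G2 F]
  refine Subgroup.mem_inf.mpr ⟨hk, ?_⟩
  rw [e']
  exact Subgroup.mul_mem _
    (Subgroup.mem_sup_right (conj_diagonal_mem _ _ (n0G2_mem_monomial F) hh))
    (Subgroup.mem_sup_left (conj_n0_mem_negUnipotent hτ u hu))

end

end Cfsg.Agent.Lib.Helper7
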