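import Mathlib
import Cfsg.Agent.Lib.Helper24.KRDefs

/-! S4651 (Knörr–Robinson, helper24's plan), leaf C2 (helper7): the cone over `⟨u⟩`. For a nontrivial
`p`-element `u` the chains of nontrivial `p`-subgroups stabilized by `u`, other than `{⟨u⟩}`, cancel in pairs:
`s ↔ s ∪ {Y}` / `s \ {Y}` with `Y = (largest member of s not containing ⟨u⟩) ⊔ ⟨u⟩`. -/

set_option autoImplicit false
set_option linter.unusedSectionVars false

namespace Cfsg.Agent.Lib.Helper7.KRC2

open Cfsg Cfsg.Agent.Lib.Helper24.KR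

universe u

section Gen
variable {G : Type u} [Group G]

/-- the join of the members of `s` not containing `U` -/
def low (U : Subgroup G) (s : Finset (Subgroup G)) : Subgroup G := ⨆ Q ∈ s, ⨆ (_ : ¬ U ≤ Q), Q

/-- the subgroup inserted into / erased from the chain -/
def yy (U : Subgroup G) (s : Finset (Subgroup G)) : Subgroup G := low U s ⊔ U

theorem le_yy (U : Subgroup G) (s : Finset (Subgroup G)) : U ≤ yy U s := le_sup_right

open Classical in
theorem low_insert (U Z : Subgroup G) (hZ : U ≤ Z) (s : Finset (Subgroup G)) :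
    low U (insert Z s) = low U s := by
  unfold low
  rw [Finset.iSup_insert]
  have : (⨆ (_ : ¬ U ≤ Z), Z) = ⊥ := by
    rw [iSup_eq_bot]
    intro h
    exact absurd hZ h
  rw [this, bot_sup_eq]

open Classical in
theorem low_erase (U Z : Subgroup G) (hZ : U ≤ Z) (s : Finset (Subgroup G)) :
    low U (s.erase Z) = low U s := by
  by_cases h : Z ∈ s
  · conv_rhs => rw [← Finset.insert_erase h]
    rw [low_insert U Z hZ]
  · rw [Finset.erase_eq_of_notMem h]

open Classical in
theorem low_eq (U : Subgroup G) (s : Finset (Subgroup G)) (hch : ∀ Q ∈ s, ∀ R ∈ s, Q ≤ R ∨ R ≤ Q) :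
    low U s = ⊥ ∨ (low U s ∈ s ∧ ¬ U ≤ low U s) := by
  by_cases hA : (s.filter (fun Q => ¬ U ≤ Q)).Nonempty
  · right
    obtain ⟨Q0, hQ0⟩ := Finset.exists_maximal hA
    have hQ0m := hQ0.prop
    rw [Finset.mem_filter] at hQ0m
    have hle : ∀ R ∈ s, ¬ U ≤ R → R ≤ Q0 := by
      intro R hR hUR
      rcases hch R hR Q0 hQ0m.1 with h | h
      · exact h
      · exact hQ0.le_of_ge (Finset.mem_filter.mpr ⟨hR, hUR⟩) h
    have : low U s = Q0 := by
      apply le_antisymm
      · unfold low
        exact iSup₂_le fun R hR => iSup_le fun hUR => hle R hR hUR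
      · unfold low
        exact le_iSup₂_of_le Q0 hQ0m.1 (le_iSup_of_le hQ0m.2 le_rfl)
    rw [this]
    exact hQ0m
  · left
    rw [Finset.not_nonempty_iff_eq_empty, Finset.filter_eq_empty_iff] at hA
    unfold low
    rw [iSup_eq_bot]
    intro Q
    rw [iSup_eq_bot]
    intro hQ
    rw [iSup_eq_bot]
    intro hUQ
    exact absurd hUQ (hA hQ)

theorem yy_comparable (U : Subgroup G) (s : Finset (Subgroup G))
    (hch : ∀ Q ∈ s, ∀ R ∈ s, Q ≤ R ∨ R ≤ Q) (Q : Subgroup G) (hQ : Q ∈ s) :
    yy U s ≤ Q ∨ Q ≤ yy U s := by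
  by_cases hUQ : U ≤ Q
  · left
    refine sup_le ?_ hUQ
    unfold low
    refine iSup₂_le fun R hR => iSup_le fun hUR => ?_
    rcases hch R hR Q hQ with h | h
    · exact h
    · exact absurd (hUQ.trans h) hUR
  · right
    exact le_sup_of_le_left (le_iSup₂_of_le Q hQ (le_iSup_of_le hUQ le_rfl))

/-- normalizing a subgroup, in terms of the image under conjugation -/
theorem mem_normalizer_iff_map (g : G) (Q : Subgroup G) :
    g ∈ Subgroup.normalizer (Q : Set G) ↔ Q.map (MulAut.conj g).toMonoidHom = Q := by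
  constructor
  · intro h
    rw [Subgroup.mem_normalizer_iff] at h
    ext x
    rw [Subgroup.mem_map]
    constructor
    · rintro ⟨n, hn, rfl⟩
      exact (h n).mp hn
    · intro hx
      refine ⟨g⁻¹ * x * g, ?_, ?_⟩
      · apply (h _).mpr
        have : g * (g⁻¹ * x * g) * g⁻¹ = x := by group
        rw [this]
        exact hx
      · show g * (g⁻¹ * x * g) * g⁻¹ = x
        group
  · intro h
    rw [Subgroup.mem_normalizer_iff]
    intro n
    constructor
    · intro hn
      have : g * n * g⁻¹ ∈ Q.map (MulAut.conj g).toMonoidHom := Subgroup.mem_map.mpr ⟨n, hn, rfl⟩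
      rw [h] at this
      exact this
    · intro hn
      have hn' : g * n * g⁻¹ ∈ Q.map (MulAut.conj g).toMonoidHom := by rw [h]; exact hn
      obtain ⟨m, hm, hmn⟩ := Subgroup.mem_map.mp hn'
      have hmn' : g * m * g⁻¹ = g * n * g⁻¹ := hmn
      have : m = n := by
        have := congrArg (fun z => g⁻¹ * z * g) hmn'
        simpa [mul_assoc] using this
      rw [← this]
      exact hm

theorem normalizer_sup (g : G) (Q R : Subgroup G) (hQ : g ∈ Subgroup.normalizer (Q : Set G))
    (hR : g ∈ Subgroup.normalizer (R : Set G)) : g ∈ Subgroup.normalizer ((Q ⊔ R : Subgroup G) : Set G) := by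
  rw [mem_normalizer_iff_map] at hQ hR ⊢
  rw [Subgroup.map_sup, hQ, hR]

theorem cz_le_normalizer_zpowers (u : G) :
    Cz u ≤ Subgroup.normalizer ((Subgroup.zpowers u : Subgroup G) : Set G) := by
  intro g hg
  rw [Subgroup.mem_centralizer_iff] at hg
  have hc : Commute u g := hg u rfl
  rw [Subgroup.mem_normalizer_iff]
  intro n
  have key : ∀ m ∈ Subgroup.zpowers u, g * m * g⁻¹ = m := by
    rintro m ⟨k, rfl⟩
    have : Commute (u ^ k) g := hc.zpow_left k
    rw [← this.eq, mul_assoc, mul_inv_cancel, mul_one]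
  constructor
  · intro hn
    have hn' : n ∈ Subgroup.zpowers u := hn
    show g * n * g⁻¹ ∈ Subgroup.zpowers u
    rw [key n hn']
    exact hn'
  · intro hn
    have hn' : g * n * g⁻¹ ∈ Subgroup.zpowers u := hn
    show n ∈ Subgroup.zpowers u
    have h2 : g⁻¹ * (g * n * g⁻¹) * g = n := by group
    have h3 := key _ hn'
    have h4 : g * n * g⁻¹ = n := by
      have h5 : g⁻¹ * (g * (g * n * g⁻¹) * g⁻¹) * g = g⁻¹ * (g * n * g⁻¹) * g := by rw [h3]
      have e : g⁻¹ * (g * (g * n * g⁻¹) * g⁻¹) * g = g * n * g⁻¹ := by group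
      rw [e, h2] at h5
      exact h5
    rw [← h4]
    exact hn'

end Gen

section Main
variable {G : Type u} [Group G] {p : ℕ}

/-- chains of nontrivial `p`-subgroups stabilized by `u`, possibly empty -/
def PC0 (p : ℕ) (u : G) (s : Finset (Subgroup G)) : Prop :=
  (∀ Q ∈ s, ∀ R ∈ s, Q ≤ R ∨ R ≤ Q) ∧ (∀ Q ∈ s, Q ≠ ⊥ ∧ IsPGroup p Q) ∧ u ∈ chainNorm s

theorem yy_facts (u : G) (hu1 : u ≠ 1) (hU : IsPGroup p (Subgroup.zpowers u)) (s : Finset (Subgroup G))
    (hs : PC0 p u s) :
    (yy (Subgroup.zpowers u) s ≠ ⊥ ∧ IsPGroup p (yy (Subgroup.zpowers u) s)) ∧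
    Cz u ⊓ chainNorm s ≤ Subgroup.normalizer ((yy (Subgroup.zpowers u) s : Subgroup G) : Set G) ∧
    u ∈ Subgroup.normalizer ((yy (Subgroup.zpowers u) s : Subgroup G) : Set G) := by
  obtain ⟨hch, hmem, hun⟩ := hs
  have hUne : Subgroup.zpowers u ≠ ⊥ := by
    rw [Ne, Subgroup.zpowers_eq_bot]
    exact hu1
  have huU : u ∈ Subgroup.normalizer ((Subgroup.zpowers u : Subgroup G) : Set G) :=
    Subgroup.le_normalizer (Subgroup.mem_zpowers u)
  rcases low_eq (Subgroup.zpowers u) s hch with h0 | ⟨h1, h2⟩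
  · have hy : yy (Subgroup.zpowers u) s = Subgroup.zpowers u := by
      unfold yy; rw [h0, bot_sup_eq]
    rw [hy]
    exact ⟨⟨hUne, hU⟩, inf_le_left.trans (cz_le_normalizer_zpowers u), huU⟩
  · have hQ0 := hmem _ h1
    have huQ0 : u ∈ Subgroup.normalizer ((low (Subgroup.zpowers u) s : Subgroup G) : Set G) :=
      (mem_chainNorm_iff s u).mp hun _ h1
    refine ⟨⟨?_, ?_⟩, ?_, ?_⟩
    · intro h
      apply hUne
      rw [eq_bot_iff, ← h]
      exact le_yy _ _
    · unfold yy
      exact IsPGroup.to_sup_of_normal_left' hQ0.2 hU (Subgroup.zpowers_le.mpr huQ0)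
    · intro g hg
      have hg' := Subgroup.mem_inf.mp hg
      unfold yy
      exact normalizer_sup g _ _ ((mem_chainNorm_iff s g).mp hg'.2 _ h1) (cz_le_normalizer_zpowers u hg'.1)
    · unfold yy
      exact normalizer_sup u _ _ huQ0 huU

open Classical in
theorem pc0_insert (u : G) (hu1 : u ≠ 1) (hU : IsPGroup p (Subgroup.zpowers u)) (s : Finset (Subgroup G))
    (hs : PC0 p u s) : PC0 p u (insert (yy (Subgroup.zpowers u) s) s) := by
  obtain ⟨hY, -, huY⟩ := yy_facts u hu1 hU s hs
  obtain ⟨hch, hmem, hun⟩ := hs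
  refine ⟨?_, ?_, ?_⟩
  · intro Q hQ R hR
    rw [Finset.mem_insert] at hQ hR
    rcases hQ with rfl | hQ <;> rcases hR with rfl | hR
    · exact Or.inl le_rfl
    · exact yy_comparable _ s hch R hR
    · exact (yy_comparable _ s hch Q hQ).symm
    · exact hch Q hQ R hR
  · intro Q hQ
    rw [Finset.mem_insert] at hQ
    rcases hQ with rfl | hQ
    · exact hY
    · exact hmem Q hQ
  · rw [mem_chainNorm_iff]
    intro Q hQ
    rw [Finset.mem_insert] at hQ
    rcases hQ with rfl | hQ
    · exact huY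
    · exact (mem_chainNorm_iff s u).mp hun Q hQ

open Classical in
theorem pc0_erase (u : G) (Z : Subgroup G) (s : Finset (Subgroup G)) (hs : PC0 p u s) :
    PC0 p u (s.erase Z) := by
  obtain ⟨hch, hmem, hun⟩ := hs
  refine ⟨fun Q hQ R hR => hch Q (Finset.mem_of_mem_erase hQ) R (Finset.mem_of_mem_erase hR),
    fun Q hQ => hmem Q (Finset.mem_of_mem_erase hQ), ?_⟩
  rw [mem_chainNorm_iff]
  intro Q hQ
  exact (mem_chainNorm_iff s u).mp hun Q (Finset.mem_of_mem_erase hQ)

open Classical in
theorem cz_inf_insert (u : G) (hu1 : u ≠ 1) (hU : IsPGroup p (Subgroup.zpowers u)) (s : Finset (Subgroup G))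
    (hs : PC0 p u s) :
    Cz u ⊓ chainNorm (insert (yy (Subgroup.zpowers u) s) s) = Cz u ⊓ chainNorm s := by
  obtain ⟨-, hN, -⟩ := yy_facts u hu1 hU s hs
  apply le_antisymm
  · intro g hg
    rw [Subgroup.mem_inf] at hg ⊢
    refine ⟨hg.1, ?_⟩
    rw [mem_chainNorm_iff]
    intro Q hQ
    exact (mem_chainNorm_iff _ g).mp hg.2 Q (Finset.mem_insert_of_mem hQ)
  · intro g hg
    have hg' := Subgroup.mem_inf.mp hg
    rw [Subgroup.mem_inf]
    refine ⟨hg'.1, ?_⟩
    rw [mem_chainNorm_iff]
    intro Q hQ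
    rw [Finset.mem_insert] at hQ
    rcases hQ with rfl | hQ
    · exact hN hg
    · exact (mem_chainNorm_iff s g).mp hg'.2 Q hQ

open Classical in
/-- the involution -/
noncomputable def flip (U : Subgroup G) (s : Finset (Subgroup G)) : Finset (Subgroup G) :=
  if yy U s ∈ s then s.erase (yy U s) else insert (yy U s) s

open Classical in
theorem flip_pos (U : Subgroup G) (s : Finset (Subgroup G)) (h : yy U s ∈ s) :
    flip U s = s.erase (yy U s) := by
  unfold flip; rw [if_pos h]

open Classical in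
theorem flip_neg (U : Subgroup G) (s : Finset (Subgroup G)) (h : yy U s ∉ s) :
    flip U s = insert (yy U s) s := by
  unfold flip; rw [if_neg h]

open Classical in
theorem yy_flip (U : Subgroup G) (s : Finset (Subgroup G)) : yy U (flip U s) = yy U s := by
  have hU := le_yy U s
  by_cases h : yy U s ∈ s
  · rw [flip_pos U s h]
    show low U (s.erase (yy U s)) ⊔ U = low U s ⊔ U
    rw [low_erase U _ hU]
  · rw [flip_neg U s h]
    show low U (insert (yy U s) s) ⊔ U = low U s ⊔ U
    rw [low_insert U _ hU]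

open Classical in
theorem flip_flip (U : Subgroup G) (s : Finset (Subgroup G)) : flip U (flip U s) = s := by
  have hy := yy_flip U s
  by_cases h : yy U s ∈ s
  · have e := flip_pos U s h
    have hn : yy U (flip U s) ∉ flip U s := by
      rw [hy, e]
      exact Finset.notMem_erase _ _
    rw [flip_neg U _ hn, hy, e, Finset.insert_erase h]
  · have e := flip_neg U s h
    have hn : yy U (flip U s) ∈ flip U s := by
      rw [hy, e]
      exact Finset.mem_insert_self _ _
    rw [flip_pos U _ hn, hy, e, Finset.erase_insert h]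

open Classical in
theorem flip_ne (U : Subgroup G) (s : Finset (Subgroup G)) : flip U s ≠ s := by
  intro h
  by_cases hm : yy U s ∈ s
  · rw [flip_pos U s hm] at h
    have h2 : yy U s ∈ s.erase (yy U s) := by rw [h]; exact hm
    exact Finset.notMem_erase (yy U s) s h2
  · rw [flip_neg U s hm] at h
    apply hm
    have h2 : yy U s ∈ insert (yy U s) s := Finset.mem_insert_self (yy U s) s
    rw [h] at h2
    exact h2

theorem yy_singleton_of_le (U Z : Subgroup G) (hZ : U ≤ Z) : yy U {Z} = U := by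
  unfold yy low
  apply le_antisymm
  · refine sup_le ?_ le_rfl
    refine iSup₂_le fun R hR => iSup_le fun hUR => ?_
    rw [Finset.mem_singleton] at hR
    exact absurd (hR ▸ hZ) hUR
  · exact le_sup_right

theorem sign_cancel (a : ℕ) (x : ℤ) : (-1 : ℤ) ^ (a + 1) * x + (-1) ^ a * x = 0 := by
  rw [pow_succ]; ring

open Classical in
theorem flip_singleton (U : Subgroup G) : flip U {U} = ∅ := by
  have hy : yy U {U} = U := yy_singleton_of_le U U le_rfl
  have hm : yy U {U} ∈ ({U} : Finset (Subgroup G)) := by rw [hy]; exact Finset.mem_singleton_self U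
  rw [flip_pos U _ hm, hy, Finset.erase_singleton]

end Main

section Final
variable {G : Type u} [Group G] [Finite G] {p : ℕ} [hpp : Fact p.Prime]

theorem finsum_chains_cone (u : G) (hu1 : u ≠ 1) (hu : ∃ k : ℕ, orderOf u = p ^ k)
    (Φ : Subgroup G → ℤ) :
    ∑ᶠ s ∈ {s : Finset (Subgroup G) | IsPChain p s ∧ u ∈ chainNorm s},
      (-1 : ℤ) ^ (s.card - 1) * Φ (Cz u ⊓ chainNorm s) = Φ (Cz u) := by
  classical
  have hU : IsPGroup p (Subgroup.zpowers u) := by
    obtain ⟨k, hk⟩ := hu
    apply IsPGroup.of_card (n := k)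
    rw [Nat.card_zpowers, hk]
  have hUne : Subgroup.zpowers u ≠ ⊥ := by
    rw [Ne, Subgroup.zpowers_eq_bot]
    exact hu1
  have huU : u ∈ Subgroup.normalizer ((Subgroup.zpowers u : Subgroup G) : Set G) :=
    Subgroup.le_normalizer (Subgroup.mem_zpowers u)
  have hSfin : ({s : Finset (Subgroup G) | IsPChain p s ∧ u ∈ chainNorm s}).Finite := Set.toFinite _
  rw [finsum_mem_eq_finite_toFinset_sum _ hSfin]
  have hmemS : ∀ s, s ∈ hSfin.toFinset ↔ IsPChain p s ∧ u ∈ chainNorm s := by
    intro s
    rw [Set.Finite.mem_toFinset]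
    rfl
  have hpc0 : ∀ s, s ∈ hSfin.toFinset → PC0 p u s := by
    intro s hs
    rw [hmemS] at hs
    exact ⟨hs.1.2.1, hs.1.2.2, hs.2⟩
  have hUS : ({Subgroup.zpowers u} : Finset (Subgroup G)) ∈ hSfin.toFinset := by
    rw [hmemS]
    refine ⟨⟨Finset.singleton_nonempty _, ?_, ?_⟩, ?_⟩
    · intro Q hQ R hR
      rw [Finset.mem_singleton] at hQ hR
      rw [hQ, hR]
      exact Or.inl le_rfl
    · intro Q hQ
      rw [Finset.mem_singleton] at hQ
      rw [hQ]
      exact ⟨hUne, hU⟩
    · rw [mem_chainNorm_iff]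
      intro Q hQ
      rw [Finset.mem_singleton] at hQ
      rw [hQ]
      exact huU
  rw [← Finset.add_sum_erase _ _ hUS]
  -- the flip stays inside
  have hflip_mem : ∀ s, s ∈ hSfin.toFinset.erase {Subgroup.zpowers u} →
      flip (Subgroup.zpowers u) s ∈ hSfin.toFinset.erase {Subgroup.zpowers u} := by
    intro s hs
    rw [Finset.mem_erase] at hs ⊢
    obtain ⟨hne, hsS⟩ := hs
    have hP := hpc0 s hsS
    have hsS' := (hmemS s).mp hsS
    refine ⟨?_, ?_⟩
    · intro h
      have := flip_flip (Subgroup.zpowers u) s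
      rw [h, flip_singleton] at this
      rw [← this] at hsS'
      exact Finset.not_nonempty_empty hsS'.1.1
    · rw [hmemS]
      by_cases hm : yy (Subgroup.zpowers u) s ∈ s
      · have e : flip (Subgroup.zpowers u) s = s.erase (yy (Subgroup.zpowers u) s) := by
          unfold flip; rw [if_pos hm]
        rw [e]
        have hP' := pc0_erase u (yy (Subgroup.zpowers u) s) s hP
        refine ⟨⟨?_, hP'.1, hP'.2.1⟩, hP'.2.2⟩
        rw [Finset.nonempty_iff_ne_empty, Ne, Finset.erase_eq_empty_iff]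
        rintro (h | h)
        · rw [h] at hm
          exact Finset.notMem_empty _ hm
        · -- s = {Y}: then Y = U
          apply hne
          have hy : yy (Subgroup.zpowers u) s = Subgroup.zpowers u := by
            have h1 := yy_singleton_of_le (Subgroup.zpowers u) (yy (Subgroup.zpowers u) s) (le_yy _ s)
            rw [← h] at h1
            exact h1
          rw [hy] at h
          exact h
      · have e : flip (Subgroup.zpowers u) s = insert (yy (Subgroup.zpowers u) s) s := by
          unfold flip; rw [if_neg hm]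
        rw [e]
        have hP' := pc0_insert u hu1 hU s hP
        exact ⟨⟨Finset.insert_nonempty _ _, hP'.1, hP'.2.1⟩, hP'.2.2⟩
  have h0 : ∑ s ∈ hSfin.toFinset.erase {Subgroup.zpowers u},
      (-1 : ℤ) ^ (s.card - 1) * Φ (Cz u ⊓ chainNorm s) = 0 := by
    refine Finset.sum_involution (fun s _ => flip (Subgroup.zpowers u) s) ?_ ?_ hflip_mem ?_
    · intro s hs
      have hs' := hflip_mem s hs
      rw [Finset.mem_erase] at hs hs'
      have hP := hpc0 s hs.2
      have hne1 : s.Nonempty := ((hmemS s).mp hs.2).1.1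
      have hne2 : (flip (Subgroup.zpowers u) s).Nonempty := ((hmemS _).mp hs'.2).1.1
      by_cases hm : yy (Subgroup.zpowers u) s ∈ s
      · have e : flip (Subgroup.zpowers u) s = s.erase (yy (Subgroup.zpowers u) s) := by
          unfold flip; rw [if_pos hm]
        have hP' := pc0_erase u (yy (Subgroup.zpowers u) s) s hP
        have hyy : yy (Subgroup.zpowers u) (s.erase (yy (Subgroup.zpowers u) s)) = yy (Subgroup.zpowers u) s := by
          rw [← e]; exact yy_flip _ s
        have hcz := cz_inf_insert u hu1 hU _ hP'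
        rw [hyy, Finset.insert_erase hm] at hcz
        rw [e, ← hcz]
        have hc : (s.erase (yy (Subgroup.zpowers u) s)).card = s.card - 1 := Finset.card_erase_of_mem hm
        have hc2 : 1 ≤ (s.erase (yy (Subgroup.zpowers u) s)).card := by
          rw [← e]; exact Finset.card_pos.mpr hne2
        obtain ⟨a, ha⟩ : ∃ a, s.card - 1 = a + 1 := ⟨s.card - 2, by omega⟩
        rw [hc, ha, Nat.add_sub_cancel]
        exact sign_cancel a _
      · have e : flip (Subgroup.zpowers u) s = insert (yy (Subgroup.zpowers u) s) s := by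
          unfold flip; rw [if_neg hm]
        rw [e, cz_inf_insert u hu1 hU s hP, Finset.card_insert_of_notMem hm, Nat.add_sub_cancel]
        obtain ⟨a, ha⟩ : ∃ a, s.card = a + 1 := ⟨s.card - 1, by have := Finset.card_pos.mpr hne1; omega⟩
        rw [ha, Nat.add_sub_cancel, add_comm]
        exact sign_cancel a _
    · intro s _ _
      exact flip_ne _ s
    · intro s _
      exact flip_flip _ s
  rw [h0, add_zero, Finset.card_singleton, Nat.sub_self, pow_zero, one_mul]
  congr 1
  apply le_antisymm inf_le_left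
  intro g hg
  rw [Subgroup.mem_inf]
  refine ⟨hg, ?_⟩
  rw [mem_chainNorm_iff]
  intro Q hQ
  rw [Finset.mem_singleton] at hQ
  rw [hQ]
  exact cz_le_normalizer_zpowers u hg

end Final

end Cfsg.Agent.Lib.Helper7.KRC2
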