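import Mathlib
import Cfsg.Agent.Lib.Helper7.KleinPISECT
import Cfsg.Agent.Lib.Helper29.KleinPILPROJ

/-! S4638 (helper27's plan), leaf SECT (helper7): the frozen statement `section_data`, from `section_data_of`
and helper29's (LPROJ). -/

set_option autoImplicit false

namespace Cfsg.Agent.Lib.Helper7.KleinPISECTW

open Cfsg Cfsg.Agent.CharLib Cfsg.Agent.Lib.Helper24 Cfsg.Agent.Lib.Helper6
open Cfsg.Agent.Lib.Helper27.KleinPI
open scoped ComplexConjugate

universe u

/-- (SECT) the class function `|C|⁻¹ secInd u Φ`, `Φ = ∑ D ζ • ζ` vanishing on the `p`-singular elements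
of `C = C_G(u)`: it vanishes on the `p`-regular elements if `u ≠ 1`, is divisible by `|C_G(g)|`, and by
any `m` dividing all values of `Φ`. -/
theorem section_data {G : Type u} [Group G] [Fintype G] {M : Ideal AlgInt}
    {p : ℕ} [hpp : Fact p.Prime] (hM : IsPModular p M) (u : G) (hu : ∃ k : ℕ, orderOf u = p ^ k)
    (D : IrrCharacter (Subgroup.centralizer ({u} : Set G)) → ℤ)
    (hvan : ∀ s : Subgroup.centralizer ({u} : Set G), ¬ IsPRegular p s → intComb D s = 0) (g : G) :
    (IsPRegular p g → u ≠ 1 →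
      (Nat.card (Subgroup.centralizer ({u} : Set G)) : ℂ)⁻¹ * secInd p u (intComb D) g = 0) ∧
    MemLocalRing M ((Nat.card (Subgroup.centralizer ({u} : Set G)) : ℂ)⁻¹ * secInd p u (intComb D) g /
      (Nat.card (Subgroup.centralizer ({g} : Set G)) : ℂ)) ∧
    ∀ m : ℕ, (∀ s : Subgroup.centralizer ({u} : Set G), MemLocalRing M (intComb D s / (m : ℂ))) →
      MemLocalRing M ((Nat.card (Subgroup.centralizer ({u} : Set G)) : ℂ)⁻¹ *
        secInd p u (intComb D) g / (m : ℂ)) := by
  classical
  exact Cfsg.Agent.Lib.Helper7.KleinPISECT.section_data_of hM u hu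
    (fun a ha hv x =>
      Cfsg.Agent.Lib.Helper29.KleinPILPROJ.memLocalRing_div_card_centralizer hM a ha hv x) D hvan g

end Cfsg.Agent.Lib.Helper7.KleinPISECTW
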