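import Cfsg.Agent.Lib.Helper3.Exchange

/-! A group generated by involutions with the exchange condition is a Coxeter group: a map of the
generators into a monoid that respects the braid relations extends to a homomorphism (helper7). -/

set_option autoImplicit false

namespace Cfsg.Agent.Lib.Helper7

open Cfsg.Agent.Lib.Helper3.WordLen

variable {W : Type*} [Group W] {S : Set W} {M : Type*} [Monoid M]

/-- the alternating word `a b a b …` of length `k` -/
def altW (a b : W) : ℕ → List W
  | 0 => []
  | k + 1 => a :: altW b a k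

theorem altW_length (a b : W) : ∀ k, (altW a b k).length = k
  | 0 => rfl
  | k + 1 => by rw [altW, List.length_cons, altW_length b a k]

theorem altW_isWord {a b : W} (ha : a ∈ S) (hb : b ∈ S) : ∀ k, IsWord S (altW a b k)
  | 0 => isWord_nil
  | k + 1 => by rw [altW]; exact isWord_cons.mpr ⟨ha, altW_isWord hb ha k⟩

theorem altW_dropLast (a b : W) : ∀ k, (altW a b (k + 1)).dropLast = altW a b k
  | 0 => rfl
  | k + 1 => by
    show (a :: altW b a (k + 1)).dropLast = a :: altW b a k
    have h := altW_dropLast b a k
    have hne : altW b a (k + 1) ≠ [] := by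
      show (b :: altW a b k) ≠ []
      simp
    rw [List.dropLast_cons_of_ne_nil hne, h]

/-- the value of a word under `f` -/
def fw (f : W → M) (L : List W) : M := (L.map f).prod

theorem fw_cons (f : W → M) (a : W) (L : List W) : fw f (a :: L) = f a * fw f L := by
  unfold fw; rw [List.map_cons, List.prod_cons]

theorem fw_append (f : W → M) (L L' : List W) : fw f (L ++ L') = fw f L * fw f L' := by
  unfold fw; rw [List.map_append, List.prod_append]

/-- reduced words -/
def Red (S : Set W) (L : List W) : Prop := IsWord S L ∧ L.length = len S L.prod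

section
variable (hS : ∀ s ∈ S, s * s = 1) (hgen : Subgroup.closure S = ⊤)
include hS hgen

theorem red_tail {a : W} {L : List W} (h : Red S (a :: L)) : Red S L := by
  obtain ⟨hw, hl⟩ := h
  rw [isWord_cons] at hw
  refine ⟨hw.2, ?_⟩
  have h1 := len_le_of_word (S := S) hw.2
  have h2 := len_mul_le hS hgen hw.1 L.prod
  rw [List.prod_cons, List.length_cons] at hl
  omega

theorem red_dropLast {L : List W} {z : W} (h : Red S (L ++ [z])) : Red S L := by
  obtain ⟨hw, hl⟩ := h
  rw [isWord_append, isWord_singleton] at hw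
  refine ⟨hw.1, ?_⟩
  have h1 := len_le_of_word (S := S) hw.1
  have h2 := len_mul_le' hS hgen hw.2 L.prod
  rw [List.prod_append, List.prod_singleton, List.length_append, List.length_singleton] at hl
  omega

end

theorem red_length_eq {A B : List W} (hA : Red S A) (hB : Red S B) (h : A.prod = B.prod) :
    A.length = B.length := by rw [hA.2, hB.2, h]

section
variable (hS : ∀ s ∈ S, s * s = 1) (hgen : Subgroup.closure S = ⊤)
  (hne : ∀ s ∈ S, ∀ w, len S (s * w) ≠ len S w) (hE : Exch S) (f : W → M)
  (hbraid : ∀ a ∈ S, ∀ b ∈ S, ∀ k, (altW a b k).prod = (altW b a k).prod →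
    fw f (altW a b k) = fw f (altW b a k))
include hS hgen hne hE hbraid

/-- the step of the proof: replace the first letter -/
theorem matsumoto_step (q : ℕ)
    (ih : ∀ A B : List W, Red S A → Red S B → A.prod = B.prod → A.length = q → fw f A = fw f B)
    (A B' : List W) (b : W) (hA : Red S A) (hB : Red S (b :: B')) (hp : A.prod = (b :: B').prod)
    (hlen : A.length = q + 1) (hf : fw f A ≠ fw f (b :: B')) :
    Red S (b :: A.dropLast) ∧ (b :: A.dropLast).prod = A.prod ∧ fw f (b :: A.dropLast) = fw f (b :: B') := by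
  have hbS : b ∈ S := (isWord_cons.mp hB.1).1
  have hB'red : Red S B' := red_tail hS hgen hB
  have hB'len : B'.length = q := by
    have := red_length_eq hA hB hp
    rw [List.length_cons] at this; omega
  have hbw : b * A.prod = B'.prod := by
    rw [hp, List.prod_cons, ← mul_assoc, hS b hbS, one_mul]
  have hlt : ¬ len S A.prod ≤ len S (b * A.prod) := by
    rw [hbw, ← hA.2, ← hB'red.2]; omega
  obtain ⟨L₁, s₀, L₂, hAeq, he⟩ := hE A hA.1 b hbS hlt
  have hAw := hA.1
  rw [hAeq, isWord_append, isWord_cons] at hAw
  have hs0 : s₀ * s₀ = 1 := hS s₀ hAw.2.1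
  have hprod2 : (b :: (L₁ ++ L₂)).prod = A.prod := by
    rw [hAeq, List.prod_cons, List.prod_append, List.prod_append, List.prod_cons, ← mul_assoc, he]
    group
  have hlen2 : (b :: (L₁ ++ L₂)).length = q + 1 := by
    rw [hAeq] at hlen
    simp only [List.length_append, List.length_cons] at hlen ⊢
    omega
  have hred2 : Red S (b :: (L₁ ++ L₂)) := by
    refine ⟨isWord_cons.mpr ⟨hbS, isWord_append.mpr ⟨hAw.1, hAw.2.2⟩⟩, ?_⟩
    rw [hprod2, hlen2, ← hlen]; exact hA.2
  have hf2 : fw f (b :: (L₁ ++ L₂)) = fw f (b :: B') := by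
    rw [fw_cons, fw_cons]
    congr 1
    apply ih _ _ (red_tail hS hgen hred2) hB'red
    · have h1 : (b :: (L₁ ++ L₂)).prod = (b :: B').prod := by rw [hprod2, hp]
      rw [List.prod_cons, List.prod_cons] at h1
      exact mul_left_cancel h1
    · rw [List.length_cons] at hlen2; omega
  have hL2 : L₂ = [] := by
    by_contra hne2
    obtain ⟨L₂', z, hz⟩ : ∃ L₂' z, L₂ = L₂' ++ [z] :=
      ⟨L₂.dropLast, L₂.getLast hne2, (List.dropLast_append_getLast hne2).symm⟩
    apply hf
    rw [← hf2]
    have hX : A = (L₁ ++ s₀ :: L₂') ++ [z] := by rw [hAeq, hz]; simp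
    have hY : b :: (L₁ ++ L₂) = (b :: (L₁ ++ L₂')) ++ [z] := by rw [hz]; simp
    have hredX : Red S (L₁ ++ s₀ :: L₂') := by
      have := hA; rw [hX] at this; exact red_dropLast hS hgen this
    have hredY : Red S (b :: (L₁ ++ L₂')) := by
      have := hred2; rw [hY] at this; exact red_dropLast hS hgen this
    have hXY : (L₁ ++ s₀ :: L₂').prod = (b :: (L₁ ++ L₂')).prod := by
      have h1 : ((L₁ ++ s₀ :: L₂') ++ [z]).prod = ((b :: (L₁ ++ L₂')) ++ [z]).prod := by
        rw [← hX, ← hY, hprod2]
      have e1 : ((L₁ ++ s₀ :: L₂') ++ [z]).prod = (L₁ ++ s₀ :: L₂').prod * z := by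
        rw [List.prod_append, List.prod_singleton]
      have e2 : ((b :: (L₁ ++ L₂')) ++ [z]).prod = (b :: (L₁ ++ L₂')).prod * z := by
        rw [List.prod_append, List.prod_singleton]
      rw [e1, e2] at h1
      exact mul_right_cancel h1
    have hXlen : (L₁ ++ s₀ :: L₂').length = q := by
      rw [hX] at hlen
      simp only [List.length_append, List.length_cons, List.length_nil] at hlen ⊢
      omega
    have e3 : fw f A = fw f (L₁ ++ s₀ :: L₂') * fw f [z] := by
      conv_lhs => rw [hX]
      exact fw_append f _ _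
    have e4 : fw f (b :: (L₁ ++ L₂)) = fw f (b :: (L₁ ++ L₂')) * fw f [z] := by
      conv_lhs => rw [hY]
      exact fw_append f _ _
    rw [e3, e4, ih _ _ hredX hredY hXY hXlen]
  subst hL2
  have hdl : A.dropLast = L₁ := by rw [hAeq]; simp
  rw [hdl]
  rw [List.append_nil] at hred2 hprod2 hf2
  exact ⟨hred2, hprod2, hf2⟩

/-- the iteration: two reduced words with different values can be made more and more alternating -/
theorem matsumoto_iter (q : ℕ)
    (ih : ∀ A B : List W, Red S A → Red S B → A.prod = B.prod → A.length = q → fw f A = fw f B) :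
    ∀ n k, k + 1 + n = q + 1 → ∀ (A B' : List W) (a b : W), Red S A → Red S (b :: B') →
      A.prod = (b :: B').prod → A.length = q + 1 → fw f A ≠ fw f (b :: B') →
      A.take (k + 1) = altW a b (k + 1) → (b :: B').take k = altW b a k → False := by
  intro n
  induction n with
  | zero =>
    intro k hk A B' a b hA hB hp hlen hf hAt hBt
    obtain ⟨hC, hCp, hCf⟩ := matsumoto_step hS hgen hne hE f hbraid q ih A B' b hA hB hp hlen hf
    have hkq : k = q := by omega
    subst hkq
    have hAalt : A = altW a b (k + 1) := by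
      rw [← hAt, List.take_of_length_le (by omega)]
    have haS : a ∈ S := by
      have h1 := hA.1
      rw [hAalt] at h1
      exact (isWord_cons.mp h1).1
    have hbS : b ∈ S := (isWord_cons.mp hB.1).1
    have hCalt : b :: A.dropLast = altW b a (k + 1) := by
      rw [hAalt, altW_dropLast]; rfl
    apply hf
    rw [← hCf, hCalt, hAalt]
    apply hbraid a haS b hbS
    rw [← hCalt, hCp, hAalt]
  | succ n ihn =>
    intro k hk A B' a b hA hB hp hlen hf hAt hBt
    obtain ⟨hC, hCp, hCf⟩ := matsumoto_step hS hgen hne hE f hbraid q ih A B' b hA hB hp hlen hf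
    obtain ⟨a', A', hAcons⟩ : ∃ a' A', A = a' :: A' := by
      cases A with
      | nil => simp at hlen
      | cons a' A' => exact ⟨a', A', rfl⟩
    have h0 : a' = a := by
      have h1 := hAt
      rw [hAcons, List.take_succ_cons] at h1
      have h2 : altW a b (k + 1) = a :: altW b a k := rfl
      rw [h2, List.cons.injEq] at h1
      exact h1.1
    subst h0
    have hClen : (b :: A.dropLast).length = q + 1 := by
      rw [List.length_cons, List.length_dropLast, hlen]; omega
    have hCt : (b :: A.dropLast).take (k + 1 + 1) = altW b a' (k + 1 + 1) := by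
      rw [List.take_succ_cons, List.dropLast_eq_take, List.take_take, hlen]
      have : min (k + 1) (q + 1 - 1) = k + 1 := by omega
      rw [this, hAt]; rfl
    have hf' : fw f (b :: A.dropLast) ≠ fw f (a' :: A') := by
      rw [hCf, ← hAcons]; exact fun h => hf h.symm
    have hA' : Red S (a' :: A') := by rw [← hAcons]; exact hA
    have ha'a : (a' :: A').take (k + 1) = altW a' b (k + 1) := by rw [← hAcons]; exact hAt
    exact ihn (k + 1) (by omega) (b :: A.dropLast) A' b a' hC hA' (by rw [hCp, hAcons]) hClen hf' hCt ha'a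

/-- **Matsumoto**: two reduced words of the same element have the same value -/
theorem matsumoto_wd : ∀ q, ∀ A B : List W, Red S A → Red S B → A.prod = B.prod → A.length = q →
    fw f A = fw f B := by
  intro q
  induction q with
  | zero =>
    intro A B hA hB hp hlen
    have hBlen : B.length = 0 := by rw [← red_length_eq hA hB hp, hlen]
    rw [List.length_eq_zero_iff.mp hlen, List.length_eq_zero_iff.mp hBlen]
  | succ q ih =>
    intro A B hA hB hp hlen
    by_contra hf
    have hBlen : B.length = q + 1 := by rw [← red_length_eq hA hB hp, hlen]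
    obtain ⟨a, A', rfl⟩ : ∃ a A', A = a :: A' := by
      cases A with
      | nil => simp at hlen
      | cons a A' => exact ⟨a, A', rfl⟩
    obtain ⟨b, B', rfl⟩ : ∃ b B', B = b :: B' := by
      cases B with
      | nil => simp at hBlen
      | cons b B' => exact ⟨b, B', rfl⟩
    exact matsumoto_iter hS hgen hne hE f hbraid q ih q 0 (by omega) (a :: A') B' a b hA hB hp hlen hf
      rfl rfl

/-- the value of an element: the value of any of its reduced words -/
noncomputable def matVal (w : W) : M := fw f (Classical.choose (exists_reduced hS hgen w))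

omit hne hE hbraid in
theorem matVal_spec (w : W) : ∃ R, Red S R ∧ R.prod = w ∧ matVal hS hgen f w = fw f R := by
  obtain ⟨h1, h2, h3⟩ := Classical.choose_spec (exists_reduced hS hgen w)
  exact ⟨_, ⟨h1, by rw [h3, h2]⟩, h2, rfl⟩

theorem matVal_eq (w : W) (R : List W) (hR : Red S R) (hw : R.prod = w) :
    matVal hS hgen f w = fw f R := by
  obtain ⟨R', hR', hw', hv⟩ := matVal_spec hS hgen f w
  rw [hv]
  exact matsumoto_wd hS hgen hne hE f hbraid _ R' R hR' hR (by rw [hw', hw]) rfl

theorem matVal_one : matVal hS hgen f (1 : W) = 1 := by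
  rw [matVal_eq hS hgen hne hE f hbraid 1 [] ⟨isWord_nil, by rw [List.prod_nil, len_one]; rfl⟩ rfl]
  rfl

theorem matVal_mul_gen (hf1 : ∀ s ∈ S, f s * f s = 1) (s : W) (hs : s ∈ S) (w : W) :
    matVal hS hgen f (s * w) = f s * matVal hS hgen f w := by
  by_cases h : len S w ≤ len S (s * w)
  · obtain ⟨R, hR, hw, hv⟩ := matVal_spec hS hgen f w
    have hred : Red S (s :: R) := by
      refine ⟨isWord_cons.mpr ⟨hs, hR.1⟩, ?_⟩
      rw [List.prod_cons, List.length_cons, hw, hR.2, hw]
      have h1 := hne s hs w
      have h2 := len_mul_le hS hgen hs w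
      omega
    rw [matVal_eq hS hgen hne hE f hbraid (s * w) (s :: R) hred (by rw [List.prod_cons, hw]), fw_cons, hv]
  · obtain ⟨R, hR, hw, hv⟩ := matVal_spec hS hgen f (s * w)
    have hsw : s * (s * w) = w := by rw [← mul_assoc, hS s hs, one_mul]
    have hred : Red S (s :: R) := by
      refine ⟨isWord_cons.mpr ⟨hs, hR.1⟩, ?_⟩
      rw [List.prod_cons, List.length_cons, hw, hR.2, hw, hsw]
      have h2 := len_le_mul hS hgen hs w
      omega
    rw [matVal_eq hS hgen hne hE f hbraid w (s :: R) hred (by rw [List.prod_cons, hw, hsw]), fw_cons,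
      ← mul_assoc, hf1 s hs, one_mul, hv]

theorem matVal_word_mul (hf1 : ∀ s ∈ S, f s * f s = 1) (L : List W) (hL : IsWord S L) (w : W) :
    matVal hS hgen f (L.prod * w) = fw f L * matVal hS hgen f w := by
  induction L with
  | nil => rw [List.prod_nil, one_mul]; show _ = 1 * _; rw [one_mul]
  | cons a L ih =>
    rw [isWord_cons] at hL
    rw [List.prod_cons, mul_assoc, matVal_mul_gen hS hgen hne hE f hbraid hf1 a hL.1, ih hL.2, fw_cons,
      mul_assoc]

/-- **Matsumoto's theorem**: the homomorphism extending `f` -/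
noncomputable def matHom (hf1 : ∀ s ∈ S, f s * f s = 1) : W →* M where
  toFun := matVal hS hgen f
  map_one' := matVal_one hS hgen hne hE f hbraid
  map_mul' := by
    intro x y
    obtain ⟨L, hL, hx⟩ := exists_word hS hgen x
    have h1 := matVal_word_mul hS hgen hne hE f hbraid hf1 L hL y
    have h2 := matVal_word_mul hS hgen hne hE f hbraid hf1 L hL 1
    rw [mul_one, matVal_one hS hgen hne hE f hbraid, mul_one] at h2
    rw [← hx, h1, h2]

theorem matHom_gen (hf1 : ∀ s ∈ S, f s * f s = 1) (s : W) (hs : s ∈ S) :
    matHom hS hgen hne hE f hbraid hf1 s = f s := by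
  show matVal hS hgen f s = f s
  have := matVal_mul_gen hS hgen hne hE f hbraid hf1 s hs 1
  rw [mul_one, matVal_one hS hgen hne hE f hbraid, mul_one] at this
  exact this

end

end Cfsg.Agent.Lib.Helper7
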