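import Mathlib
import Cfsg.Agent.Lib.Lead.OEDefs
import Cfsg.Agent.Lib.Helper4.AschA1
import Cfsg.Agent.Lib.Helper20.AschTS
import Cfsg.Agent.Lib.Helper29.AschKF2
import Cfsg.Agent.Lib.Helper29.AschS1K1
import Cfsg.Agent.Lib.Helper29.SpAschTools
import Cfsg.Agent.Lib.Helper27.AschKF3
import Cfsg.Agent.Lib.Helper7.SpAschF
import Cfsg.Agent.Lib.Helper7.OAschFLD
import Cfsg.Agent.Lib.Helper12.OAschOB

/-!
OMEGA-EVEN project (planner lead), PART 1, block [E-FLD] `egeo_of_field` (the field case of the generic theorem `mainE` for the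
isometry group of a non-degenerate quadratic form, ALL characteristics), by helper7.

Generic by-products (same namespace):
* the bridge `gQ Q := gramMatrix (polar Q)`: `polar_eq_bfm`, `gQ_symm`, `gQ_det`, `isometryGroup_le_isoG`, `q_of_mem`, `q_add`, `q_zero`,
  `two_q`;
* `adj_eq_frobenius'` (helper10's (F6) of S5662 for ANY Gram matrix with an involutive adjoint);
* characteristic 2: `exists_sqrt_functional` (an additive `λ²`-homogeneous function is the square of a linear functional),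
  `exists_common_zero` (two such functions have a common non-zero zero when `n ≥ 3`);
* `sim_of_field2` (a quadratic unitary-type field normalised by an irreducible group of isometries acts by similitudes of `Q`).
-/

set_option autoImplicit false
set_option linter.unusedSectionVars false
set_option linter.unusedVariables false

namespace Cfsg.Agent.Lib.Helper7.OELeaf
open Matrix Cfsg Cfsg.Geo Cfsg.Agent.Lib.Helper20.Asch Cfsg.Agent.Lib.Lead.OE Cfsg.Agent.Lib.Helper29.SpAsch
open scoped Kronecker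

variable {F : Type*} [Field F] [Fintype F] {n : ℕ} {Q : (Fin n → F) → F}
  {H N : Subgroup (GL (Fin n) F)}

/-! ## the bridge to Gram matrices -/

/-- the Gram matrix of the polar form of `Q` -/
def gQ (Q : (Fin n → F) → F) : Matrix (Fin n) (Fin n) F := gramMatrix (QuadraticMap.polar Q)

lemma polar_eq_bfm (hQ : IsNondegenerateQuadraticForm Q) : QuadraticMap.polar Q = bfm (gQ Q) := by
  funext u v
  exact Cfsg.Agent.Lib.Helper12.OAschLeaf.eq_bfm_gramMatrix hQ.polar_bilinear u v

lemma gQ_symm (Q : (Fin n → F) → F) : (gQ Q)ᵀ = gQ Q := by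
  ext a b
  rw [Matrix.transpose_apply]
  unfold gQ gramMatrix
  exact QuadraticMap.polar_comm Q _ _

lemma gQ_det (hQ : IsNondegenerateQuadraticForm Q) : (gQ Q).det ≠ 0 :=
  Cfsg.Agent.Lib.Helper12.OAschLeaf.det_gramMatrix_ne_zero hQ.polar_bilinear hQ.nondegenerate

lemma q_of_mem {g : GL (Fin n) F} (hg : g ∈ isometryGroup F Q) (v : Fin n → F) :
    Q ((g : Matrix (Fin n) (Fin n) F) *ᵥ v) = Q v := hg v v

lemma isometryGroup_le_isoG (hQ : IsNondegenerateQuadraticForm Q) : isometryGroup F Q ≤ isoG (gQ Q) := by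
  intro g hg u v
  show bfm (gQ Q) ((g : Matrix (Fin n) (Fin n) F) *ᵥ u) ((g : Matrix (Fin n) (Fin n) F) *ᵥ v) =
    bfm (gQ Q) u v
  rw [← polar_eq_bfm hQ]
  unfold QuadraticMap.polar
  rw [← Matrix.mulVec_add, q_of_mem hg, q_of_mem hg, q_of_mem hg]

lemma q_add (Q : (Fin n → F) → F) (u v : Fin n → F) :
    Q (u + v) = Q u + Q v + QuadraticMap.polar Q u v := by
  unfold QuadraticMap.polar
  ring

lemma q_zero (hQ : IsNondegenerateQuadraticForm Q) : Q 0 = 0 := by
  have := hQ.smul 0 0
  simpa using this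

lemma two_q (hQ : IsNondegenerateQuadraticForm Q) (v : Fin n → F) :
    2 * Q v = QuadraticMap.polar Q v v := by
  unfold QuadraticMap.polar
  have h4 : Q (v + v) = 2 ^ 2 * Q v := by
    rw [← two_smul F v]
    exact hQ.smul 2 v
  rw [h4]
  ring

/-! ## the adjoint on an adjoint-closed field is a Frobenius power (any involutive adjoint) -/

/-- helper10's (F6) `adj_eq_frobenius` of S5662 with `IsAltGram J` replaced by `J.det ≠ 0` and `adjM J ∘ adjM J = id`. -/
theorem adj_eq_frobenius' {J : Matrix (Fin n) (Fin n) F} (hJ : J.det ≠ 0)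
    (hinv : ∀ T : Matrix (Fin n) (Fin n) F, adjM J (adjM J T) = T) {d : ℕ}
    (K : Subalgebra F (Matrix (Fin n) (Fin n) F))
    (hK : IsFieldSubalgebra d K) (hd : 0 < d) (hac : ∀ k ∈ K, adjM J k ∈ K)
    (hns : ∃ k ∈ K, adjM J k ≠ k) :
    ∃ d₀ : ℕ, d = 2 * d₀ ∧ ∀ k ∈ K, adjM J k = k ^ (Fintype.card F ^ d₀) := by
  classical
  obtain ⟨E, instE, instA, ρ, hinj, hrange, hfin⟩ :=
    Cfsg.Agent.Lib.Helper27.AschKF3.exists_model d hd K hK
  have : Module.Finite F E := Module.finite_of_finrank_pos (by rw [hfin]; exact hd)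
  have : Finite E := Module.finite_of_finite F
  have hmem : ∀ x : E, ρ x ∈ K := by
    intro x
    rw [← hrange]
    exact (AlgHom.mem_range ρ).mpr ⟨x, rfl⟩
  have hex : ∀ x : E, ∃ y : E, ρ y = adjM J (ρ x) := by
    intro x
    have := hac _ (hmem x)
    rw [← hrange] at this
    exact (AlgHom.mem_range ρ).mp this
  choose t ht using hex
  let τ : E →ₐ[F] E :=
    { toFun := t
      map_one' := by
        apply hinj
        rw [ht, map_one, adjM_one hJ]
      map_mul' := by
        intro x y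
        apply hinj
        rw [ht, map_mul, adjM_mul hJ, map_mul, ht, ht]
        exact hK.comm _ (hac _ (hmem y)) _ (hac _ (hmem x))
      map_zero' := by
        apply hinj
        rw [ht, map_zero, adjM_zero]
      map_add' := by
        intro x y
        apply hinj
        rw [ht, map_add, map_add, adjM_add, ht, ht]
      commutes' := by
        intro c
        apply hinj
        rw [ht, AlgHom.commutes, Algebra.algebraMap_eq_smul_one, adjM_smul, adjM_one hJ] }
  have hτ : ∀ x, ρ (τ x) = adjM J (ρ x) := ht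
  have hττ : τ * τ = 1 := by
    apply AlgHom.ext
    intro x
    apply hinj
    show ρ (τ (τ x)) = ρ x
    rw [hτ, hτ, hinv]
  have hτ1 : τ ≠ 1 := by
    intro h1
    obtain ⟨k, hk, hne⟩ := hns
    rw [← hrange] at hk
    obtain ⟨x, rfl⟩ := (AlgHom.mem_range ρ).mp hk
    apply hne
    rw [← hτ, h1]
    rfl
  obtain ⟨⟨j, hj⟩, hjτ⟩ := (FiniteField.bijective_frobeniusAlgHom_pow F E).2 τ
  simp only at hjτ
  rw [hfin] at hj
  have hj0 : j ≠ 0 := by
    rintro rfl
    rw [pow_zero] at hjτ
    exact hτ1 hjτ.symm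
  have hdvd : d ∣ j * 2 := by
    rw [← hfin, ← FiniteField.orderOf_frobeniusAlgHom F E]
    apply orderOf_dvd_of_pow_eq_one
    rw [pow_mul, hjτ, pow_two, hττ]
  have hd2 : d = 2 * j := by
    obtain ⟨c, hc⟩ := hdvd
    have hc1 : c = 1 := by
      rcases Nat.lt_or_ge c 1 with h0 | h1
      · have : c = 0 := by omega
        subst this
        omega
      · rcases Nat.lt_or_ge c 2 with h2 | h2
        · omega
        · have : d * 2 ≤ d * c := Nat.mul_le_mul_left d h2
          omega
    subst hc1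
    omega
  refine ⟨j, hd2, ?_⟩
  intro k hk
  rw [← hrange] at hk
  obtain ⟨x, rfl⟩ := (AlgHom.mem_range ρ).mp hk
  have hfx : τ x = x ^ (Fintype.card F ^ j) := by
    rw [← hjτ, AlgHom.coe_pow, FiniteField.coe_frobeniusAlgHom, pow_iterate]
  rw [← hτ, hfx, map_pow]

/-! ## characteristic 2: additive `λ²`-homogeneous functions -/

/-- in characteristic 2 an additive, `λ²`-homogeneous function is the square of a linear functional -/
theorem exists_sqrt_functional (h2 : (2 : F) = 0) (D : (Fin n → F) → F)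
    (hadd : ∀ u v, D (u + v) = D u + D v) (hsm : ∀ (a : F) (v : Fin n → F), D (a • v) = a ^ 2 * D v) :
    ∃ φ : (Fin n → F) →ₗ[F] F, ∀ v, φ v ^ 2 = D v := by
  have hinj : Function.Injective (fun x : F => x ^ 2) := by
    intro x y hxy
    have hxy' : x ^ 2 = y ^ 2 := hxy
    have e : (x - y) ^ 2 = x ^ 2 + y ^ 2 - 2 * (x * y) := by ring
    have h0 : (x - y) ^ 2 = 0 := by
      rw [e, hxy', ← two_mul, h2, zero_mul, zero_mul, sub_zero]
    exact sub_eq_zero.mp ((pow_eq_zero_iff (two_ne_zero)).mp h0)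
  have hsurj : Function.Surjective (fun x : F => x ^ 2) := Finite.injective_iff_surjective.mp hinj
  choose r hr using hsurj
  have hr' : ∀ x : F, r x ^ 2 = x := hr
  have hsq : ∀ a b : F, (a + b) ^ 2 = a ^ 2 + b ^ 2 := by
    intro a b
    have e : (a + b) ^ 2 = a ^ 2 + b ^ 2 + 2 * (a * b) := by ring
    rw [e, h2, zero_mul, add_zero]
  refine ⟨{ toFun := fun v => r (D v), map_add' := ?_, map_smul' := ?_ }, fun v => hr' (D v)⟩
  · intro u v
    apply hinj
    show r (D (u + v)) ^ 2 = (r (D u) + r (D v)) ^ 2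
    rw [hsq, hr', hr', hr', hadd]
  · intro a v
    apply hinj
    show r (D (a • v)) ^ 2 = (a • r (D v)) ^ 2
    rw [smul_eq_mul, mul_pow, hr', hr', hsm]

/-- in characteristic 2 two additive `λ²`-homogeneous functions on `F^n`, `n ≥ 3`, have a common non-zero zero -/
theorem exists_common_zero (h2 : (2 : F) = 0) (hn : 3 ≤ n) (D E : (Fin n → F) → F)
    (hDadd : ∀ u v, D (u + v) = D u + D v) (hDsm : ∀ (a : F) (v : Fin n → F), D (a • v) = a ^ 2 * D v)
    (hEadd : ∀ u v, E (u + v) = E u + E v) (hEsm : ∀ (a : F) (v : Fin n → F), E (a • v) = a ^ 2 * E v) :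
    ∃ v : Fin n → F, v ≠ 0 ∧ D v = 0 ∧ E v = 0 := by
  obtain ⟨φ, hφ⟩ := exists_sqrt_functional h2 D hDadd hDsm
  obtain ⟨ψ, hψ⟩ := exists_sqrt_functional h2 E hEadd hEsm
  have hlt : Module.finrank F (F × F) < Module.finrank F (Fin n → F) := by
    rw [Module.finrank_prod, Module.finrank_self, Module.finrank_fin_fun]
    omega
  have hker := LinearMap.ker_ne_bot_of_finrank_lt (f := φ.prod ψ) hlt
  obtain ⟨v, hv, hv0⟩ := (Submodule.ne_bot_iff _).mp hker
  rw [LinearMap.mem_ker, LinearMap.prod_apply, Prod.ext_iff] at hv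
  have hv1 : φ v = 0 := hv.1
  have hv2 : ψ v = 0 := hv.2
  refine ⟨v, hv0, ?_, ?_⟩
  · rw [← hφ, hv1]; ring
  · rw [← hψ, hv2]; ring

/-! ## a quadratic field of unitary type acts by similitudes of `Q` -/

/-- decomposition of the elements of a quadratic field subalgebra along `1, k₀` (`k₀` not a scalar) -/
lemma field2_decomp (hn : 0 < n) (K : Subalgebra F (Matrix (Fin n) (Fin n) F)) (hK : IsFieldSubalgebra 2 K)
    {k₀ : Matrix (Fin n) (Fin n) F} (hk₀ : k₀ ∈ K) (hns : ∀ c : F, k₀ ≠ c • (1 : Matrix (Fin n) (Fin n) F)) :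
    ∀ k ∈ K, ∃ a b : F, k = a • (1 : Matrix (Fin n) (Fin n) F) + b • k₀ := by
  have : Nonempty (Fin n) := ⟨⟨0, hn⟩⟩
  have hli : LinearIndependent F ![(1 : Matrix (Fin n) (Fin n) F), k₀] := by
    rw [LinearIndependent.pair_iff]
    intro a b hab
    have hb : b = 0 := by
      by_contra hb
      apply hns (-(b⁻¹ * a))
      have h1 : b • k₀ = -(a • (1 : Matrix (Fin n) (Fin n) F)) := by
        rw [eq_neg_iff_add_eq_zero, add_comm]; exact hab
      have h2 : k₀ = b⁻¹ • (b • k₀) := by rw [smul_smul, inv_mul_cancel₀ hb, one_smul]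
      rw [h2, h1, smul_neg, smul_smul, neg_smul]
    subst hb
    rw [zero_smul, add_zero] at hab
    refine ⟨?_, rfl⟩
    by_contra ha
    have h1 : (1 : Matrix (Fin n) (Fin n) F) = a⁻¹ • (a • (1 : Matrix (Fin n) (Fin n) F)) := by
      rw [smul_smul, inv_mul_cancel₀ ha, one_smul]
    rw [hab, smul_zero] at h1
    exact one_ne_zero h1
  set S : Submodule F (Matrix (Fin n) (Fin n) F) :=
    Submodule.span F (Set.range ![(1 : Matrix (Fin n) (Fin n) F), k₀]) with hS
  have hSle : S ≤ Subalgebra.toSubmodule K := by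
    rw [hS, Submodule.span_le]
    rintro x ⟨i, rfl⟩
    fin_cases i
    · exact K.one_mem
    · exact hk₀
  have hSfin : Module.finrank F S = 2 := by
    rw [hS, finrank_span_eq_card hli]
    simp
  have hKfin : Module.finrank F (Subalgebra.toSubmodule K) = 2 := hK.finrank_eq
  have hSK : S = Subalgebra.toSubmodule K :=
    Submodule.eq_of_le_of_finrank_eq hSle (by rw [hSfin, hKfin])
  intro k hk
  have hkS : k ∈ S := by rw [hSK]; exact hk
  rw [hS, Matrix.range_cons, Matrix.range_cons, Matrix.range_empty, Set.union_empty,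
    Set.union_comm] at hkS
  have hkS' : k ∈ Submodule.span F ({(1 : Matrix (Fin n) (Fin n) F), k₀} : Set _) := by
    convert hkS using 2
    ext x
    simp [or_comm]
  obtain ⟨a, b, hab⟩ := Submodule.mem_span_pair.mp hkS'
  exact ⟨a, b, hab.symm⟩

/-- A quadratic field subalgebra `K` on which the adjoint (for the polar form of `Q`) is the non-trivial automorphism `k ↦ k^q`,
normalised by an irreducible group `H` of isometries of `Q`, `n ≥ 3`: every element of `K` is a similitude of `Q` (with multiplier its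
norm). -/
theorem sim_of_field2 (hQ : IsNondegenerateQuadraticForm Q) (hn : 3 ≤ n) (hirr : Irr H)
    (hHQ : H ≤ isometryGroup F Q) (K : Subalgebra F (Matrix (Fin n) (Fin n) F))
    (hK : IsFieldSubalgebra 2 K) (hHK : H ≤ subalgebraNormalizer K)
    (hfrob : ∀ k ∈ K, adjM (gQ Q) k = k ^ Fintype.card F) (hns : ∃ k ∈ K, adjM (gQ Q) k ≠ k) :
    ∀ k ∈ K, ∃ c : F, ∀ v : Fin n → F, Q (k *ᵥ v) = c * Q v := by
  have hn0 : 0 < n := by omega
  have : Nonempty (Fin n) := ⟨⟨0, hn0⟩⟩
  set J := gQ Q with hJdef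
  have hd : J.det ≠ 0 := gQ_det hQ
  have hs : Jᵀ = J := gQ_symm Q
  have hinv : ∀ T : Matrix (Fin n) (Fin n) F, adjM J (adjM J T) = T :=
    Cfsg.Agent.Lib.Helper7.OAschLeaf.adjM_adjM_symm hs hd
  have hpol : QuadraticMap.polar Q = bfm J := polar_eq_bfm hQ
  have hadjK : ∀ k ∈ K, adjM J k ∈ K := by
    intro k hk
    rw [hfrob k hk]
    exact K.pow_mem hk _
  -- self-adjoint elements of `K` are scalars
  have hsc : ∀ x ∈ K, adjM J x = x → ∃ c : F, x = c • (1 : Matrix (Fin n) (Fin n) F) := by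
    intro x hx hxx
    apply Cfsg.Agent.Lib.Helper7.SpAschLeaf.scalar_of_pow_card K hK x hx
    rw [← hfrob x hx, hxx]
  have hnorm : ∀ k ∈ K, ∃ c : F, k * adjM J k = c • (1 : Matrix (Fin n) (Fin n) F) := by
    intro k hk
    apply hsc _ (K.mul_mem hk (hadjK k hk))
    rw [adjM_mul hd, hinv]
  have hinjc : ∀ c c' : F, c • (1 : Matrix (Fin n) (Fin n) F) = c' • (1 : Matrix (Fin n) (Fin n) F) → c = c' := by
    intro c c' hcc
    have := congrFun (congrFun hcc ⟨0, hn0⟩) ⟨0, hn0⟩
    simpa using this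
  -- the polar form is multiplied by the norm
  have key1 : ∀ k ∈ K, ∀ c : F, k * adjM J k = c • (1 : Matrix (Fin n) (Fin n) F) →
      ∀ u v : Fin n → F, QuadraticMap.polar Q (k *ᵥ u) (k *ᵥ v) = c * QuadraticMap.polar Q u v := by
    intro k hk c hc u v
    rw [hpol, bfm_adjM hd k u (k *ᵥ v), Matrix.mulVec_mulVec, hK.comm _ (hadjK k hk) _ hk, hc,
      Matrix.smul_mulVec, Matrix.one_mulVec, bfm_smul_right]
  -- the subspace of vectors on which every `k` is a similitude
  let Z : Submodule F (Fin n → F) :=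
    { carrier := {v | ∀ k ∈ K, ∀ c : F, k * adjM J k = c • (1 : Matrix (Fin n) (Fin n) F) →
        Q (k *ᵥ v) = c * Q v}
      add_mem' := by
        intro u v hu hv k hk c hc
        rw [Matrix.mulVec_add, q_add Q, q_add Q, hu k hk c hc, hv k hk c hc, key1 k hk c hc]
        ring
      zero_mem' := by
        intro k hk c hc
        rw [Matrix.mulVec_zero, q_zero hQ, mul_zero]
      smul_mem' := by
        intro a v hv k hk c hc
        rw [Matrix.mulVec_smul, hQ.smul, hQ.smul, hv k hk c hc]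
        ring }
  have hZinv : ∀ s ∈ matrixSet H, Z.map (Matrix.toLin' s) ≤ Z := by
    rintro s ⟨g, hg, rfl⟩ w ⟨v, hv, rfl⟩
    rw [Matrix.toLin'_apply]
    intro k hk c hc
    set gm := (g : Matrix (Fin n) (Fin n) F) with hgm
    set gi := ((g⁻¹ : GL (Fin n) F) : Matrix (Fin n) (Fin n) F) with hgi
    have hgg : gm * gi = 1 := by rw [hgm, hgi, ← Units.val_mul, mul_inv_cancel, Units.val_one]
    have hgg' : gi * gm = 1 := by rw [hgm, hgi, ← Units.val_mul, inv_mul_cancel, Units.val_one]
    have hgJ : g ∈ isoG J := isometryGroup_le_isoG hQ (hHQ hg)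
    have hk' : gi * k * gm ∈ K := by
      have h1 := (hHK (H.inv_mem hg) k).mp hk
      rwa [inv_inv] at h1
    have hadj' : adjM J (gi * k * gm) = gi * adjM J k * gm := by
      rw [adjM_mul hd, adjM_mul hd, hgm, adjM_of_mem hd hgJ, hgi,
        adjM_of_mem hd ((isoG J).inv_mem hgJ), inv_inv, mul_assoc]
    have hc' : (gi * k * gm) * adjM J (gi * k * gm) = c • (1 : Matrix (Fin n) (Fin n) F) := by
      rw [hadj']
      calc gi * k * gm * (gi * adjM J k * gm) = gi * (k * ((gm * gi) * adjM J k)) * gm := by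
            simp only [mul_assoc]
        _ = gi * (k * adjM J k) * gm := by rw [hgg, one_mul]
        _ = c • (1 : Matrix (Fin n) (Fin n) F) := by
            rw [hc, Matrix.mul_smul, Matrix.smul_mul, mul_one, hgg']
    have h3 := hv (gi * k * gm) hk' c hc'
    have h4 : k *ᵥ (gm *ᵥ v) = gm *ᵥ ((gi * k * gm) *ᵥ v) := by
      rw [Matrix.mulVec_mulVec, Matrix.mulVec_mulVec]
      congr 1
      calc k * gm = (gm * gi) * k * gm := by rw [hgg, one_mul]
        _ = gm * (gi * k * gm) := by simp only [mul_assoc]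
    rw [h4, q_of_mem (hHQ hg), q_of_mem (hHQ hg), h3]
  -- `Z` is not zero
  have hZne : Z ≠ ⊥ := by
    by_cases h2 : (2 : F) = 0
    · -- characteristic 2
      obtain ⟨k₀, hk₀, hne⟩ := hns
      obtain ⟨c₀, hc₀⟩ := hnorm k₀ hk₀
      obtain ⟨s, hs'⟩ : ∃ s : F, k₀ + adjM J k₀ = s • (1 : Matrix (Fin n) (Fin n) F) := by
        apply hsc _ (K.add_mem hk₀ (hadjK k₀ hk₀))
        rw [adjM_add, hinv, add_comm]
      have hk₀ns : ∀ c : F, k₀ ≠ c • (1 : Matrix (Fin n) (Fin n) F) := by
        intro c hc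
        apply hne
        rw [hc, adjM_smul, adjM_one hd]
      have hdec := field2_decomp hn0 K hK hk₀ hk₀ns
      have hpsymm : ∀ u v : Fin n → F, QuadraticMap.polar Q u v = QuadraticMap.polar Q v u :=
        fun u v => QuadraticMap.polar_comm Q u v
      -- the cross term
      have hcross : ∀ u v : Fin n → F, QuadraticMap.polar Q u (k₀ *ᵥ v) + QuadraticMap.polar Q v (k₀ *ᵥ u) =
          s * QuadraticMap.polar Q u v := by
        intro u v
        rw [hpsymm v (k₀ *ᵥ u)]
        rw [hpol, bfm_adjM hd k₀ u v, ← bfm_add_right, ← Matrix.add_mulVec, hs', Matrix.smul_mulVec,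
          Matrix.one_mulVec, bfm_smul_right]
      obtain ⟨v, hv0, hDv, hEv⟩ := exists_common_zero h2 hn
        (fun v => Q (k₀ *ᵥ v) - c₀ * Q v)
        (fun v => QuadraticMap.polar Q v (k₀ *ᵥ v) - s * Q v)
        (by
          intro u v
          show Q (k₀ *ᵥ (u + v)) - c₀ * Q (u + v) = Q (k₀ *ᵥ u) - c₀ * Q u + (Q (k₀ *ᵥ v) - c₀ * Q v)
          rw [Matrix.mulVec_add, q_add Q, q_add Q u v, key1 k₀ hk₀ c₀ hc₀]
          ring)
        (by
          intro a v
          show Q (k₀ *ᵥ (a • v)) - c₀ * Q (a • v) = a ^ 2 * (Q (k₀ *ᵥ v) - c₀ * Q v)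
          rw [Matrix.mulVec_smul, hQ.smul, hQ.smul]
          ring)
        (by
          intro u v
          show QuadraticMap.polar Q (u + v) (k₀ *ᵥ (u + v)) - s * Q (u + v) =
            QuadraticMap.polar Q u (k₀ *ᵥ u) - s * Q u + (QuadraticMap.polar Q v (k₀ *ᵥ v) - s * Q v)
          rw [Matrix.mulVec_add, hQ.polar_bilinear.add_left, hQ.polar_bilinear.add_right,
            hQ.polar_bilinear.add_right, q_add Q u v]
          have := hcross u v
          linear_combination this)
        (by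
          intro a v
          show QuadraticMap.polar Q (a • v) (k₀ *ᵥ (a • v)) - s * Q (a • v) =
            a ^ 2 * (QuadraticMap.polar Q v (k₀ *ᵥ v) - s * Q v)
          rw [Matrix.mulVec_smul, hQ.polar_bilinear.smul_left, hQ.polar_bilinear.smul_right, hQ.smul]
          ring)
      have hDv' : Q (k₀ *ᵥ v) = c₀ * Q v := sub_eq_zero.mp hDv
      have hEv' : QuadraticMap.polar Q v (k₀ *ᵥ v) = s * Q v := sub_eq_zero.mp hEv
      intro hbot
      have hvZ : v ∈ Z := by
        intro k hk c hc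
        obtain ⟨a, b, rfl⟩ := hdec k hk
        have hc2 : c = a ^ 2 + a * b * s + b ^ 2 * c₀ := by
          apply hinjc
          rw [← hc, adjM_add, adjM_smul, adjM_smul, adjM_one hd]
          have e1 : (a • (1 : Matrix (Fin n) (Fin n) F) + b • k₀) * (a • (1 : Matrix (Fin n) (Fin n) F) + b • adjM J k₀) =
              (a * a) • (1 : Matrix (Fin n) (Fin n) F) + (a * b) • (k₀ + adjM J k₀) + (b * b) • (k₀ * adjM J k₀) := by
            simp only [add_mul, mul_add, Matrix.smul_mul, Matrix.mul_smul, one_mul, mul_one, smul_smul,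
              smul_add]
            rw [mul_comm b a]
            abel
          rw [e1, hs', hc₀, smul_smul, smul_smul, ← add_smul, ← add_smul]
          congr 1
          ring
        rw [Matrix.add_mulVec, Matrix.smul_mulVec, Matrix.one_mulVec, Matrix.smul_mulVec, q_add Q,
          hQ.smul, hQ.smul, hQ.polar_bilinear.smul_left, hQ.polar_bilinear.smul_right, hDv', hEv', hc2]
        ring
      rw [hbot, Submodule.mem_bot] at hvZ
      exact hv0 hvZ
    · -- odd characteristic: `Z = ⊤`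
      intro hbot
      have hall : ∀ v : Fin n → F, v ∈ Z := by
        intro v k hk c hc
        have h1 := two_q hQ (k *ᵥ v)
        rw [key1 k hk c hc, ← two_q hQ v] at h1
        have h3 : (2 : F) * (Q (k *ᵥ v) - c * Q v) = 0 := by
          rw [mul_sub, h1]; ring
        rcases mul_eq_zero.mp h3 with h | h
        · exact absurd h h2
        · exact sub_eq_zero.mp h
      have he : (Pi.single ⟨0, hn0⟩ 1 : Fin n → F) ∈ Z := hall _
      rw [hbot, Submodule.mem_bot] at he
      have := congrFun he ⟨0, hn0⟩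
      rw [Pi.single_eq_same, Pi.zero_apply] at this
      exact one_ne_zero this
  have hZtop : Z = ⊤ := (hirr Z hZinv).resolve_left hZne
  intro k hk
  obtain ⟨c, hc⟩ := hnorm k hk
  refine ⟨c, fun v => ?_⟩
  have hv : v ∈ Z := by rw [hZtop]; exact Submodule.mem_top
  exact hv k hk c hc

/-! ## the block -/

/-- [E-FLD] -/
theorem egeo_of_field (h : ECtx Q H) (hn : 3 ≤ n) (hirr : Irr H) (hN : N ≤ H) (hnorm : NormBy H N)
    (hhom : Homog N) (hZ : ¬ ∀ T ∈ ZCen N, ∃ c : F, T = c • (1 : Matrix (Fin n) (Fin n) F)) :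
    EGeo Q H := by
  have hn0 : 0 < n := by omega
  have hQ := h.nd
  set J := gQ Q with hJdef
  have hdet : J.det ≠ 0 := gQ_det hQ
  have hs : Jᵀ = J := gQ_symm Q
  have hinv : ∀ T : Matrix (Fin n) (Fin n) F, adjM J (adjM J T) = T :=
    Cfsg.Agent.Lib.Helper7.OAschLeaf.adjM_adjM_symm hs hdet
  have hpol : QuadraticMap.polar Q = bfm J := polar_eq_bfm hQ
  have hHJ : H ≤ isoG J := h.le.trans (isometryGroup_le_isoG hQ)
  obtain ⟨d, hd⟩ : ∃ d, d = Module.finrank F (ZCen N) := ⟨_, rfl⟩
  have hK : IsFieldSubalgebra d (ZCen N) := by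
    rw [hd]; exact Cfsg.Agent.Lib.Helper20.AschLeaf.zcen_isField hn0 hhom
  have hHK : H ≤ subalgebraNormalizer (ZCen N) :=
    Cfsg.Agent.Lib.Helper29.AschLeaf.zcen_normalized hnorm
  have hpos : 0 < d := by
    have : Nontrivial (Matrix (Fin n) (Fin n) F) := by
      have : Nonempty (Fin n) := ⟨⟨0, hn0⟩⟩
      infer_instance
    rw [hd]
    exact Module.finrank_pos
  have hd2 : 2 ≤ d := by
    by_contra hlt
    apply hZ
    apply Cfsg.Agent.Lib.Helper29.AschLeaf.scalar_of_finrank_one
    omega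
  have hac : ∀ k ∈ ZCen N, adjM J k ∈ ZCen N :=
    fun k hk => Cfsg.Agent.Lib.Helper7.OAschLeaf.zcen_adj hs hdet (hN.trans hHJ) hk
  -- exit through a self-adjoint subfield of prime degree
  have fsa_exit : ∀ (r : ℕ) (K' : Subalgebra F (Matrix (Fin n) (Fin n) F)), r.Prime →
      IsFieldSubalgebra r K' → (∀ k ∈ K', adjM J k = k) → H ≤ subalgebraNormalizer K' → EGeo Q H := by
    intro r K' hr hK' hsa hHK'
    refine EGeo.fsa r K' hr hK' ?_ hHK'
    rw [hpol]
    exact (isSelfAdjointFor_iff hdet K').2 hsa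
  by_cases hsa : ∀ k ∈ ZCen N, adjM J k = k
  · obtain ⟨r, hr, hrd⟩ := Nat.exists_prime_and_dvd (show d ≠ 1 by omega)
    obtain ⟨K', hK', hmem⟩ :=
      Cfsg.Agent.Lib.Helper27.AschKF3.exists_sub (ZCen N) d hK r hr.ne_zero hpos hrd
    exact fsa_exit r K' hr hK' (fun k hk => hsa k ((hmem k).1 hk).1)
      (Cfsg.Agent.Lib.Helper7.SpAschLeaf.sub_normalized _ _ _ hmem hHK)
  · push Not at hsa
    obtain ⟨d₀, hd₀, hfrob⟩ := adj_eq_frobenius' hdet hinv (ZCen N) hK hpos hac hsa
    rcases Nat.lt_or_ge d₀ 2 with h1 | h2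
    · have hd01 : d₀ = 1 := by omega
      subst hd01
      have hd2' : d = 2 := by omega
      subst hd2'
      have hfrob' : ∀ k ∈ ZCen N, adjM J k = k ^ Fintype.card F := by
        intro k hk
        have := hfrob k hk
        rwa [pow_one] at this
      refine EGeo.funi (ZCen N) hK ?_ ?_ ?_ hHK
      · rw [hpol]
        exact isAdjointClosedFor_of hdet _ hac
      · rw [hpol]
        intro hself
        obtain ⟨k, hk, hne⟩ := hsa
        exact hne ((isSelfAdjointFor_iff hdet _).1 hself k hk)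
      · exact sim_of_field2 hQ hn hirr h.le (ZCen N) hK hHK hfrob' hsa
    · obtain ⟨r, hr, hrd⟩ := Nat.exists_prime_and_dvd (show d₀ ≠ 1 by omega)
      have hrd' : r ∣ d := by rw [hd₀]; exact Dvd.dvd.mul_left hrd 2
      obtain ⟨K', hK', hmem⟩ :=
        Cfsg.Agent.Lib.Helper27.AschKF3.exists_sub (ZCen N) d hK r hr.ne_zero hpos hrd'
      refine fsa_exit r K' hr hK' ?_ (Cfsg.Agent.Lib.Helper7.SpAschLeaf.sub_normalized _ _ _ hmem hHK)
      intro k hk
      obtain ⟨hkK, hkp⟩ := (hmem k).1 hk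
      rw [hfrob k hkK]
      exact Cfsg.Agent.Lib.Helper7.SpAschLeaf.pow_card_of_dvd hrd _ k hkp

end Cfsg.Agent.Lib.Helper7.OELeaf
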