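import Mathlib
import Cfsg.Agent.Lib.Helper2.SOTDefs
import Cfsg.Agent.Lib.Helper27.SOTLADefs
import Cfsg.Agent.Lib.Helper13.OTUCalc
import Cfsg.Agent.Lib.Helper13.OTLADefs
import Cfsg.Agent.Lib.Helper29.OTLAC0
import Cfsg.Agent.Lib.Helper29.OTLAR2a
import Cfsg.Agent.Lib.Helper13.OTLABUTIso
import Cfsg.Agent.Lib.Helper15.OTLAR11

/-!
S5681 + S5709 part (LA') (helper13's market), (R2-5d) `diag_shape`, core form (the conclusion of (R2-5c)
`mid_Bt_shape` as a hypothesis), by helper7.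
-/

set_option autoImplicit false
set_option linter.unusedSectionVars false
set_option linter.unusedVariables false

namespace Cfsg.Agent.Lib.Helper7.OTLALeaf
open Matrix
open Cfsg.Agent.Lib.Helper25.Tens Cfsg.Agent.Lib.Helper19.OSub
open Cfsg.Agent.Lib.Helper2.SOT Cfsg.Agent.Lib.Helper27.SOTLA Cfsg.Agent.Lib.Helper13.OTU
open Cfsg.Agent.Lib.Helper13.OTLA
open scoped Kronecker

variable {F : Type*} [Field F] [Fintype F] {a b : ℕ} {G₁ : Matrix (Fin a) (Fin a) F}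
  {G₂ : Matrix (Fin b) (Fin b) F} {o o' p p' : Fin b} {Om M : Subgroup (GL (Idx a b) F)}

/-- a middle index exists when `5 ≤ b` -/
lemma exists_cls_one (hA : Adp G₂ o o' p p') (hb : 5 ≤ b) : ∃ m : Fin b, cls o o' p p' m = 1 := by
  by_contra hcon
  push Not at hcon
  have hsub : (Finset.univ : Finset (Fin b)) ⊆ {o, o', p, p'} := by
    intro m _
    have hm := hcon m
    rw [Ne, Cfsg.Agent.Lib.Helper29.OTLALeaf.cls_eq_one_iff hA] at hm
    simp only [Finset.mem_insert, Finset.mem_singleton]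
    by_contra h4
    push Not at h4
    exact hm ⟨h4.1, h4.2.1, h4.2.2.1, h4.2.2.2⟩
  have hcard := Finset.card_le_card hsub
  rw [Finset.card_univ, Fintype.card_fin] at hcard
  have h4 : ({o, o', p, p'} : Finset (Fin b)).card ≤ 4 := Finset.card_le_four
  omega

/-- (R2-5d) core: from the conclusion of (R2-5c) for every element of `M` stabilising `R`. -/
theorem diag_shape_core (h : LBase G₁ G₂ o o' p p' Om M)
    (hmid : ∀ g : GL (Idx a b) F, g ∈ M → StabR o o' g.1 →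
      ∃ s : GL (Fin a) F,
        (∀ m m₀ : Fin b, cls o o' p p' m = 1 → cls o o' p p' m₀ = 1 →
          ∃ c : F, blk g.1 m m₀ = c • s⁻¹.1) ∧
        (∀ c₀ c : Fin b, cls o o' p p' c₀ = 2 → cls o o' p p' c = 2 →
          ∃ t : F, blk g⁻¹.1 c₀ c = t • s.1))
    {g : GL (Idx a b) F} (hg : g ∈ M) (hst : StabR o o' g.1) :
    ∃ s : GL (Fin a) F,
      (∀ k l : Fin b, cls o o' p p' k = 1 → cls o o' p p' l = 1 → ∃ c : F, blk g.1 k l = c • s.1) ∧
      (∀ k l : Fin b, cls o o' p p' k = 2 → cls o o' p p' l = 2 → ∃ c : F, blk g.1 k l = c • s.1) ∧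
      (∀ k l : Fin b, cls o o' p p' k = 2 → cls o o' p p' l = 2 →
        ∃ c : F, blk g⁻¹.1 k l = c • s⁻¹.1) := by
  obtain ⟨s₁, h1m, h1c⟩ := hmid g hg hst
  obtain ⟨s₂, h2m, h2c⟩ := hmid g⁻¹ (M.inv_mem hg)
    (Cfsg.Agent.Lib.Helper29.OTLALeaf.stabR_inv g hst)
  rw [inv_inv] at h2c
  have hiso : IsIso G₁ G₂ g.1 := Cfsg.Agent.Lib.Helper15.OTLALeaf.InM_iso h ⟨g, hg, rfl⟩
  obtain ⟨hB, hB'⟩ := Cfsg.Agent.Lib.Helper13.OTLALeaf.BUT_of_iso h.symm1 h.symm2 h.nd1 h.nd2 h.adp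
    hiso hst
  obtain ⟨m₀, hm₀⟩ := exists_cls_one h.adp h.hb
  have hsum := Cfsg.Agent.Lib.Helper29.OTLALeaf.levi_sum_eq hB hB' m₀ m₀ rfl
  rw [if_pos rfl] at hsum
  choose! c hc using fun (m : Fin b) (hm : cls o o' p p' m = 1) => h1m m₀ m hm₀ hm
  choose! d hd using fun (m : Fin b) (hm : cls o o' p p' m = 1) => h2m m m₀ hm hm₀
  have hsum2 : (∑ m, if cls o o' p p' m = 1 then c m * d m else 0) • (s₁⁻¹.1 * s₂⁻¹.1) = 1 := by
    rw [← hsum, Finset.sum_smul]
    apply Finset.sum_congr rfl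
    intro m _
    rw [hm₀]
    split_ifs with hm
    · rw [hc m hm, hd m hm, smul_mul_smul_comm]
    · rw [zero_smul]
  set lam : F := ∑ m, if cls o o' p p' m = 1 then c m * d m else 0 with hlam
  have hs2 : s₂.1 = lam • s₁⁻¹.1 := by
    have h3 := congrArg (· * s₂.1) hsum2
    simp only [Matrix.smul_mul, mul_assoc, one_mul] at h3
    rw [← Units.val_mul, inv_mul_cancel, Units.val_one, mul_one] at h3
    exact h3.symm
  refine ⟨s₁⁻¹, h1m, ?_, ?_⟩
  · intro k l hk hl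
    obtain ⟨t, ht⟩ := h2c k l hk hl
    exact ⟨t * lam, by rw [ht, hs2, smul_smul]⟩
  · intro k l hk hl
    rw [inv_inv]
    exact h1c k l hk hl

end Cfsg.Agent.Lib.Helper7.OTLALeaf
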