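import Mathlib
import Cfsg.Agent.Lib.Helper11.SL2Hom

/-! Rank-one tools for involutions of groups of Lie type in odd characteristic (helper7):
an element `n` which interchanges the two opposite root subgroups `X`, `Y` of a rank-one subgroup
`⟨X, Y⟩ = φ(SL₂(F))` acts on it as conjugation by `!![0, 1; c, 0]`; consequences:
* if `c = d²` then `n` is conjugate to `h(d⁻¹) n_0 n` (`conj_split`);
* over a finite field of odd order `n` is conjugate to `h(l) n` for every `l ≠ 0` (`conj_twist`). -/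

set_option autoImplicit false

namespace Cfsg.Agent.Lib.Helper7.OddInv

open Matrix Cfsg.Agent.Lib.Helper11.SL2Hom

variable {F : Type*} [Field F]

local notation:1024 "↑ₘ" A:1024 => ((A : SpecialLinearGroup (Fin 2) F) : Matrix (Fin 2) (Fin 2) F)

/-- conjugation by the matrix `!![0, 1; c, 0]`, on matrices -/
def sigM (c : F) (A : Matrix (Fin 2) (Fin 2) F) : Matrix (Fin 2) (Fin 2) F :=
  !![A 1 1, A 1 0 / c; c * A 0 1, A 0 0]

theorem sigM_mul (c : F) (hc : c ≠ 0) (A B : Matrix (Fin 2) (Fin 2) F) :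
    sigM c (A * B) = sigM c A * sigM c B := by
  ext i j
  fin_cases i <;> fin_cases j <;>
    simp [sigM, Matrix.mul_apply, Fin.sum_univ_two] <;> field_simp <;> ring

theorem sigM_one (c : F) : sigM c (1 : Matrix (Fin 2) (Fin 2) F) = 1 := by
  ext i j
  fin_cases i <;> fin_cases j <;> simp [sigM]

theorem det_sigM (c : F) (hc : c ≠ 0) (A : Matrix (Fin 2) (Fin 2) F) : (sigM c A).det = A.det := by
  unfold sigM
  rw [det_fin_two_of, det_fin_two]
  field_simp

/-- conjugation by the matrix `!![0, 1; c, 0]` on `SL₂(F)` -/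
def sigC (c : F) (hc : c ≠ 0) : SpecialLinearGroup (Fin 2) F →* SpecialLinearGroup (Fin 2) F where
  toFun g := ⟨sigM c (↑ₘg), by rw [det_sigM c hc]; exact g.2⟩
  map_one' := by
    apply Subtype.ext
    show sigM c (1 : Matrix (Fin 2) (Fin 2) F) = 1
    exact sigM_one c
  map_mul' g g' := by
    apply Subtype.ext
    show sigM c ((↑ₘg) * (↑ₘg')) = sigM c (↑ₘg) * sigM c (↑ₘg')
    exact sigM_mul c hc _ _

theorem coe_sigC (c : F) (hc : c ≠ 0) (g : SpecialLinearGroup (Fin 2) F) :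
    (↑ₘ(sigC c hc g)) = sigM c (↑ₘg) := rfl

theorem sigC_xS (c : F) (hc : c ≠ 0) (t : F) : sigC c hc (xS t) = yS (c * t) := by
  apply Subtype.ext
  show sigM c !![1, t; 0, 1] = !![1, 0; c * t, 1]
  ext i j
  fin_cases i <;> fin_cases j <;> simp [sigM]

theorem sigC_yS (c : F) (hc : c ≠ 0) (t : F) : sigC c hc (yS t) = xS (t / c) := by
  apply Subtype.ext
  show sigM c !![1, 0; t, 1] = !![1, t / c; 0, 1]
  ext i j
  fin_cases i <;> fin_cases j <;> simp [sigM]

section
variable {G : Type*} [Group G] (P : RankOnePre F G)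

/-- an element interchanging `X` and `Y` acts on the image of `SL₂` through `sigC` -/
theorem hom_equivariant (n : G) (c : F) (hc : c ≠ 0)
    (hX : ∀ t, n * P.X t * n⁻¹ = P.Y (c * t)) (hY : ∀ t, n * P.Y t * n⁻¹ = P.X (t / c))
    (g : SpecialLinearGroup (Fin 2) F) : n * P.hom g * n⁻¹ = P.hom (sigC c hc g) := by
  have hg : g ∈ Subgroup.closure (Set.range (xS : F → SpecialLinearGroup (Fin 2) F) ∪ Set.range yS) := by
    rw [closure_xS_yS]; trivial
  induction hg using Subgroup.closure_induction with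
  | mem x hx =>
    rcases hx with ⟨t, rfl⟩ | ⟨t, rfl⟩
    · rw [P.hom_xS, sigC_xS, P.hom_yS, hX]
    · rw [P.hom_yS, sigC_yS, P.hom_xS, hY]
  | one => simp
  | mul x y _ _ hx hy =>
    rw [map_mul, map_mul, map_mul, ← hx, ← hy]; group
  | inv x _ hx =>
    rw [map_inv, map_inv, map_inv, ← hx]; group

theorem conj_hom (n : G) (c : F) (hc : c ≠ 0)
    (hX : ∀ t, n * P.X t * n⁻¹ = P.Y (c * t)) (hY : ∀ t, n * P.Y t * n⁻¹ = P.X (t / c))
    (g : SpecialLinearGroup (Fin 2) F) :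
    P.hom g * n * (P.hom g)⁻¹ = P.hom (g * (sigC c hc g)⁻¹) * n := by
  have h := hom_equivariant P n c hc hX hY g⁻¹
  simp only [map_inv] at h
  rw [map_mul, map_inv, ← h]; group

/-- the split case: `c = d²` -/
theorem conj_split (h2 : (2 : F) ≠ 0) (n : G) (d : F) (hd : d ≠ 0)
    (hX : ∀ t, n * P.X t * n⁻¹ = P.Y (d * d * t)) (hY : ∀ t, n * P.Y t * n⁻¹ = P.X (t / (d * d))) :
    ∃ g : SpecialLinearGroup (Fin 2) F, P.hom g * n * (P.hom g)⁻¹ = P.H d⁻¹ * P.N * n := by
  have hdd : d * d ≠ 0 := mul_ne_zero hd hd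
  have hdi : d⁻¹ ≠ 0 := inv_ne_zero hd
  let g : SpecialLinearGroup (Fin 2) F := ⟨!![d, 1; -(1 / 2), 1 / (2 * d)], by
    rw [det_fin_two_of]; field_simp; ring⟩
  refine ⟨g, ?_⟩
  rw [conj_hom P n (d * d) hdd hX hY g]
  have e : g * (sigC (d * d) hdd g)⁻¹ = hS d⁻¹ hdi * wS := by
    rw [mul_inv_eq_iff_eq_mul]
    apply Subtype.ext
    show (!![d, 1; -(1 / 2), 1 / (2 * d)] : Matrix (Fin 2) (Fin 2) F) =
      !![d⁻¹, 0; 0, d⁻¹⁻¹] * !![0, 1; -1, 0] * sigM (d * d) !![d, 1; -(1 / 2), 1 / (2 * d)]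
    ext i j
    fin_cases i <;> fin_cases j <;>
      simp [sigM, Matrix.mul_apply, Fin.sum_univ_two] <;> field_simp
  rw [e, map_mul, P.hom_hS, P.hom_wS]

/-- the twist: over a finite field of odd order `n` is conjugate to `h(l) n` for every `l ≠ 0` -/
theorem conj_twist [Fintype F] (hodd : Fintype.card F % 2 = 1) (n : G) (c : F) (hc : c ≠ 0)
    (hX : ∀ t, n * P.X t * n⁻¹ = P.Y (c * t)) (hY : ∀ t, n * P.Y t * n⁻¹ = P.X (t / c))
    (l : F) (hl : l ≠ 0) :
    ∃ g : SpecialLinearGroup (Fin 2) F, P.hom g * n * (P.hom g)⁻¹ = P.H l * n := by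
  -- solve `c s² - r² = c / l`
  obtain ⟨s, r, hsr⟩ : ∃ s r : F, c * s ^ 2 - r ^ 2 = c / l := by
    have hf : (Polynomial.C c * Polynomial.X ^ 2 : Polynomial F).degree = 2 := by
      rw [Polynomial.degree_C_mul_X_pow 2 hc]; rfl
    have hg : (Polynomial.C (-1 : F) * Polynomial.X ^ 2 + Polynomial.C (-(c / l)) : Polynomial F).degree = 2 := by
      rw [Polynomial.degree_add_C]
      · rw [Polynomial.degree_C_mul_X_pow 2 (by norm_num : (-1 : F) ≠ 0)]; rfl
      · rw [Polynomial.degree_C_mul_X_pow 2 (by norm_num : (-1 : F) ≠ 0)]; decide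
    obtain ⟨a, b, hab⟩ := FiniteField.exists_root_sum_quadratic hf hg hodd
    refine ⟨a, b, ?_⟩
    simp only [Polynomial.eval_mul, Polynomial.eval_C, Polynomial.eval_pow, Polynomial.eval_X,
      Polynomial.eval_add] at hab
    linear_combination hab
  let g : SpecialLinearGroup (Fin 2) F := ⟨!![l * s, l * r / c; r, s], by
    rw [det_fin_two_of]
    have : l * s * s - l * r / c * r = l / c * (c * s ^ 2 - r ^ 2) := by field_simp
    rw [this, hsr]; field_simp⟩
  refine ⟨g, ?_⟩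
  rw [conj_hom P n c hc hX hY g]
  have e : g * (sigC c hc g)⁻¹ = hS l hl := by
    rw [mul_inv_eq_iff_eq_mul]
    apply Subtype.ext
    show (!![l * s, l * r / c; r, s] : Matrix (Fin 2) (Fin 2) F) =
      !![l, 0; 0, l⁻¹] * sigM c !![l * s, l * r / c; r, s]
    ext i j
    fin_cases i <;> fin_cases j <;>
      simp [sigM, Matrix.mul_apply, Fin.sum_univ_two] <;> field_simp
  rw [e, P.hom_hS]

end

end Cfsg.Agent.Lib.Helper7.OddInv
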