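import Cfsg.Agent.Lib.Helper7.OddInvA
import Cfsg.Agent.Lib.Helper25.ChInvD
import Cfsg.Agent.Lib.Helper11.ChevSL2
import Cfsg.Agent.Lib.Helper7.ChevTwistRank1

/-! Involutions of Chevalley groups over finite fields of odd order (helper7), part B:
every involution is conjugate to an involution of the monomial group `N`; the rank-one moves
`conj_split` / `conj_twist` inside the Chevalley group; Weyl-length shortening. -/

set_option autoImplicit false

namespace Cfsg.Agent.Lib.Helper7.OddInv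

open Cfsg Cfsg.Lie Matrix
open Cfsg.Agent.Lib.Helper7 Cfsg.Agent.Lib.Helper25.ChInv Cfsg.Agent.Lib.Helper11.SL2Hom
open Cfsg.Agent.Lib.Helper11.ChevSL2

section
variable (D : ChevalleyDatum) (hD : D ∈ [chevG2, chevB2, chevD4, chevF4, chevE6, chevE7, chevE8])
variable (F : Type*) [Field F]
include hD

/-- over a field of odd order every involution is conjugate to an involution of `N` -/
theorem exists_conj_monomial [Fintype F] (hodd : Fintype.card F % 2 = 1) (t : GL D.Idx F)
    (ht : t ∈ D.group F) (hsq : t * t = 1) :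
    ∃ g ∈ D.group F, g * t * g⁻¹ ∈ D.monomialSubgroup F := by
  obtain ⟨g, hg, n, hn, v, hv, heq⟩ := exists_conj_NU D hD F t ht
  have hsq' : (n * v) * (n * v) = 1 := by
    rw [← heq]
    have : g * t * g⁻¹ * (g * t * g⁻¹) = g * (t * t) * g⁻¹ := by group
    rw [this, hsq]; group
  obtain ⟨hnn, hinv⟩ := invol_normal_form D hD F n v hn hv hsq'
  obtain ⟨m, hm⟩ : ∃ m, m = Nat.card (D.posUnipotent F) := ⟨_, rfl⟩
  have hvm : v ^ m = 1 := by
    have h1 := pow_card_eq_one' (G := ↥(D.posUnipotent F)) (x := ⟨v, hv⟩)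
    have h2 : (((⟨v, hv⟩ : ↥(D.posUnipotent F)) ^ Nat.card ↥(D.posUnipotent F) : ↥(D.posUnipotent F)) :
        GL D.Idx F) = 1 := by rw [h1]; rfl
    rw [hm, ← h2]; rfl
  have hmodd : m % 2 = 1 := by
    rw [hm, card_posUnipotent D hD F, Nat.pow_mod, hodd]; simp
  obtain ⟨k, hk⟩ : ∃ k, m + 1 = 2 * k := ⟨(m + 1) / 2, by omega⟩
  have hvk : v ^ k * v ^ k = v := by
    rw [← pow_add, ← two_mul, ← hk, pow_succ, hvm, one_mul]
  have hnk : n * v ^ k * n⁻¹ = (v ^ k)⁻¹ := by
    rw [← conj_pow, hinv, inv_pow]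
  refine ⟨v ^ k * g, Subgroup.mul_mem _ (Subgroup.pow_mem _
    (borel_le_group D hD F (posUnipotent_le_borel D hD F hv)) k) hg, ?_⟩
  have e : v ^ k * g * t * (v ^ k * g)⁻¹ = n := by
    have : v ^ k * g * t * (v ^ k * g)⁻¹ = v ^ k * (g * t * g⁻¹) * (v ^ k)⁻¹ := by group
    rw [this, heq]
    have h1 : n * v ^ k = (v ^ k)⁻¹ * n := by
      have : n * v ^ k = (n * v ^ k * n⁻¹) * n := by group
      rw [this, hnk]
    calc v ^ k * (n * v) * (v ^ k)⁻¹ = v ^ k * (n * (v ^ k * v ^ k)) * (v ^ k)⁻¹ := by rw [hvk]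
      _ = v ^ k * ((n * v ^ k) * v ^ k) * (v ^ k)⁻¹ := by group
      _ = n := by rw [h1]; group
  rw [e]; exact hn

/-- right multiplication by `n_i⁻¹` shortens `n` if `n` makes the `i`-th fundamental root negative -/
theorem wl_mul_nFund_inv_lt (n : GL D.Idx F) (hn : n ∈ D.monomialSubgroup F) (L : List ℕ)
    (hL : ∀ i ∈ L, i < D.rank) (hact : ActsAs D hD F n (reflWord D L)) (i : ℕ) (hi : i < D.rank)
    (hneg : D.IsNegRoot (reflWord D L (D.simple i))) :
    wl D hD F (n * (nFund D hD F i)⁻¹) < wl D hD F n := by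
  have hF := fundFacts_of_mem D hD i hi
  have hs := nFund_mem_monomial D hD F i hi
  have hact' : ActsAs D hD F (n * (nFund D hD F i)⁻¹) (reflWord D L ∘ D.reflectRoot i) :=
    ActsAs.mul D F hact (actsAs_nFund_inv D hD F i hi)
  have hpos : D.IsPosRoot ((reflWord D L ∘ D.reflectRoot i) (D.simple i)) := by
    have e1 : D.reflectRoot i (D.simple i) = D.neg (D.simple i) := by
      unfold ChevalleyDatum.reflectRoot; simp
    show D.IsPosRoot (reflWord D L (D.reflectRoot i (D.simple i)))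
    rw [e1, reflWord_neg D hD L hL _ hF.hp]
    exact isPosRoot_neg D hD _ hneg
  have h1 := wl_lt_right D hD F (n * (nFund D hD F i)⁻¹) (Subgroup.mul_mem _ hn (Subgroup.inv_mem _ hs))
    _ hact' i hi hpos (nFund D hD F i) hs (actsAs_nFund D hD F i hi)
  have e : n * (nFund D hD F i)⁻¹ * nFund D hD F i = n := by group
  rwa [e] at h1

/-- left multiplication by `n_i` shortens `n` if `n⁻¹` makes the `i`-th fundamental root negative -/
theorem wl_nFund_mul_lt (n : GL D.Idx F) (hn : n ∈ D.monomialSubgroup F) (L : List ℕ)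
    (hL : ∀ i ∈ L, i < D.rank) (hact : ActsAs D hD F n⁻¹ (reflWord D L)) (i : ℕ) (hi : i < D.rank)
    (hneg : D.IsNegRoot (reflWord D L (D.simple i))) :
    wl D hD F (nFund D hD F i * n) < wl D hD F n := by
  have hF := fundFacts_of_mem D hD i hi
  have hs := nFund_mem_monomial D hD F i hi
  have hact' : ActsAs D hD F (nFund D hD F i * n)⁻¹ (reflWord D L ∘ D.reflectRoot i) := by
    have e : (nFund D hD F i * n)⁻¹ = n⁻¹ * (nFund D hD F i)⁻¹ := by group
    rw [e]
    exact ActsAs.mul D F hact (actsAs_nFund_inv D hD F i hi)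
  have hpos : D.IsPosRoot ((reflWord D L ∘ D.reflectRoot i) (D.simple i)) := by
    have e1 : D.reflectRoot i (D.simple i) = D.neg (D.simple i) := by
      unfold ChevalleyDatum.reflectRoot; simp
    show D.IsPosRoot (reflWord D L (D.reflectRoot i (D.simple i)))
    rw [e1, reflWord_neg D hD L hL _ hF.hp]
    exact isPosRoot_neg D hD _ hneg
  obtain ⟨-, c, -, hc⟩ := hact' (D.simple i) hF.hp
  have h1 := wl_lt_left D hD F (nFund D hD F i * n) (Subgroup.mul_mem _ hs hn) i hi
    (nFund D hD F i)⁻¹ (Subgroup.inv_mem _ hs) (actsAs_nFund_inv D hD F i hi) _ hpos c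
    (by intro t; have := hc t; rw [inv_inv] at this; exact this)
  have e : (nFund D hD F i)⁻¹ * (nFund D hD F i * n) = n := by group
  rwa [e] at h1

/-- `n` interchanges the root subgroups of `±p_i`, with coefficient `c` -/
def SwapsAt (n : GL D.Idx F) (i : ℕ) (c : F) : Prop :=
  ∀ t : F, n * xGL D hD F (D.simple i) t * n⁻¹ = xGL D hD F (D.neg (D.simple i)) (c * t)

theorem exists_swapsAt (n : GL D.Idx F) (f : ℕ → ℕ) (hact : ActsAs D hD F n f) (i : ℕ) (hi : i < D.rank)
    (hf : f (D.simple i) = D.neg (D.simple i)) : ∃ c : F, c ≠ 0 ∧ SwapsAt D hD F n i c := by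
  obtain ⟨-, c, hc, h⟩ := hact (D.simple i) (fundFacts_of_mem D hD i hi).hp
  refine ⟨c, hc, fun t => ?_⟩
  rw [h t, hf]

theorem SwapsAt.back {n : GL D.Idx F} {i : ℕ} {c : F} (h : SwapsAt D hD F n i c) (hc : c ≠ 0)
    (hnn : n * n = 1) (t : F) :
    n * xGL D hD F (D.neg (D.simple i)) t * n⁻¹ = xGL D hD F (D.simple i) (t / c) := by
  have hni : n⁻¹ = n := inv_eq_of_mul_eq_one_left hnn
  have h1 := h (t / c)
  have e : c * (t / c) = t := by field_simp
  rw [e] at h1
  rw [← h1, hni]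
  have : n * (n * xGL D hD F (D.simple i) (t / c) * n) * n =
      (n * n) * xGL D hD F (D.simple i) (t / c) * (n * n) := by group
  rw [this, hnn]; group

theorem hom_mem_group (i : ℕ) (hi : i < D.rank) (g : SpecialLinearGroup (Fin 2) F) :
    (fundPre D hD F i hi).hom g ∈ D.group F := by
  have hg : g ∈ Subgroup.closure (Set.range (xS : F → SpecialLinearGroup (Fin 2) F) ∪ Set.range yS) := by
    rw [closure_xS_yS]; trivial
  induction hg using Subgroup.closure_induction with
  | mem x hx =>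
    rcases hx with ⟨t, rfl⟩ | ⟨t, rfl⟩
    · rw [RankOnePre.hom_xS]; exact xGL_mem_group D hD F _ _
    · rw [RankOnePre.hom_yS]; exact xGL_mem_group D hD F _ _
  | one => rw [map_one]; exact Subgroup.one_mem _
  | mul x y _ _ hx hy => rw [map_mul]; exact Subgroup.mul_mem _ hx hy
  | inv x _ hx => rw [map_inv]; exact Subgroup.inv_mem _ hx

/-- the split move -/
theorem step_split (h2 : (2 : F) ≠ 0) (n : GL D.Idx F) (hnn : n * n = 1) (i : ℕ) (hi : i < D.rank)
    (d : F) (hd : d ≠ 0) (h : SwapsAt D hD F n i (d * d)) :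
    ∃ g ∈ D.group F, g * n * g⁻¹ = hF D hD F i d⁻¹ * nFund D hD F i * n := by
  have hdd : d * d ≠ 0 := mul_ne_zero hd hd
  obtain ⟨g, hg⟩ := conj_split (fundPre D hD F i hi) h2 n d hd h
    (fun t => SwapsAt.back D hD F h hdd hnn t)
  exact ⟨_, hom_mem_group D hD F i hi g, hg⟩

/-- the twist move -/
theorem step_twist [Fintype F] (hodd : Fintype.card F % 2 = 1) (n : GL D.Idx F) (hnn : n * n = 1)
    (i : ℕ) (hi : i < D.rank) (c : F) (hc : c ≠ 0) (h : SwapsAt D hD F n i c) (l : F) (hl : l ≠ 0) :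
    ∃ g ∈ D.group F, g * n * g⁻¹ = hF D hD F i l * n := by
  obtain ⟨g, hg⟩ := conj_twist (fundPre D hD F i hi) hodd n c hc h
    (fun t => SwapsAt.back D hD F h hc hnn t) l hl
  exact ⟨_, hom_mem_group D hD F i hi g, hg⟩

/-- the effect of the twist on the coefficient at another fundamental root -/
theorem SwapsAt.twist {n : GL D.Idx F} {j : ℕ} {c : F} (h : SwapsAt D hD F n j c) (i : ℕ)
    (hi : i < D.rank) (l : F) (hl : l ≠ 0) :
    SwapsAt D hD F (hF D hD F i l * n) j (l ^ (D.cartan i (D.neg (D.simple j))) * c) := by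
  intro t
  have e : hF D hD F i l * n * xGL D hD F (D.simple j) t * (hF D hD F i l * n)⁻¹ =
      hF D hD F i l * (n * xGL D hD F (D.simple j) t * n⁻¹) * (hF D hD F i l)⁻¹ := by group
  rw [e, h t, hF_x D hD F i hi _ l hl, mul_assoc]; group

end

end Cfsg.Agent.Lib.Helper7.OddInv
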