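import Cfsg.Agent.Lib.Helper7.OddInvB

/-! Involutions of Chevalley groups over finite fields of odd order (helper7), part C:
the reduction of an involution of `N` into `H`, under a hypothesis on the "fully stuck" case. -/

set_option autoImplicit false

namespace Cfsg.Agent.Lib.Helper7.OddInv

open Cfsg Cfsg.Lie Matrix
open Cfsg.Agent.Lib.Helper7 Cfsg.Agent.Lib.Helper25.ChInv Cfsg.Agent.Lib.Helper11.SL2Hom
open Cfsg.Agent.Lib.Helper11.ChevSL2

theorem conj_sq {G : Type*} [Group G] (g n : G) (h : n * n = 1) : (g * n * g⁻¹) * (g * n * g⁻¹) = 1 := by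
  have : (g * n * g⁻¹) * (g * n * g⁻¹) = g * (n * n) * g⁻¹ := by group
  rw [this, h]; group

section
variable (D : ChevalleyDatum) (hD : D ∈ [chevG2, chevB2, chevD4, chevF4, chevE6, chevE7, chevE8])
variable (F : Type*) [Field F]
include hD

/-- the hypothesis on the fully stuck case: if every fundamental root is kept positive or sent to its
negative, and all the coefficients at the latter are non-squares, then two of them are joined with
an odd Cartan integer -/
def StuckHyp : Prop :=
  ∀ n ∈ D.monomialSubgroup F, n * n = 1 → ∀ L : List ℕ, (∀ i ∈ L, i < D.rank) →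
    ActsAs D hD F n (reflWord D L) →
    (∀ i < D.rank, D.IsPosRoot (reflWord D L (D.simple i)) ∨
      reflWord D L (D.simple i) = D.neg (D.simple i)) →
    (∃ i < D.rank, reflWord D L (D.simple i) = D.neg (D.simple i)) →
    (∀ i < D.rank, reflWord D L (D.simple i) = D.neg (D.simple i) →
      ∀ d : F, d ≠ 0 → ¬ SwapsAt D hD F n i (d * d)) →
    ∃ i < D.rank, ∃ j < D.rank, reflWord D L (D.simple i) = D.neg (D.simple i) ∧
      reflWord D L (D.simple j) = D.neg (D.simple j) ∧ Odd (D.cartan i (D.simple j))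

theorem hF_mem_diagonal (i : ℕ) (hi : i < D.rank) (c : F) (hc : c ≠ 0) :
    hF D hD F i c ∈ D.diagonalSubgroup F :=
  hGL_mem_diagonalSubgroup D hD F _ (fundFacts_of_mem D hD i hi).hp c hc

theorem wl_diag_mul (h n : GL D.Idx F) (hh : h ∈ D.diagonalSubgroup F) (hn : n ∈ D.monomialSubgroup F) :
    wl D hD F (h * n) = wl D hD F n := by
  unfold wl
  rw [wOf_diag_mul D hD F h n hh hn]

/-- the split move shortens -/
theorem split_shorter (h2 : (2 : F) ≠ 0) (n : GL D.Idx F) (hn : n ∈ D.monomialSubgroup F)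
    (hnn : n * n = 1) (L : List ℕ) (hL : ∀ i ∈ L, i < D.rank) (hact : ActsAs D hD F n (reflWord D L))
    (i : ℕ) (hi : i < D.rank) (hfi : reflWord D L (D.simple i) = D.neg (D.simple i))
    (d : F) (hd : d ≠ 0) (h : SwapsAt D hD F n i (d * d)) :
    ∃ g ∈ D.group F, ∃ n' ∈ D.monomialSubgroup F, g * n * g⁻¹ = n' ∧ n' * n' = 1 ∧
      wl D hD F n' < wl D hD F n := by
  have hF := fundFacts_of_mem D hD i hi
  have hs := nFund_mem_monomial D hD F i hi
  obtain ⟨g, hg, heq⟩ := step_split D hD F h2 n hnn i hi d hd h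
  have hdi : d⁻¹ ≠ 0 := inv_ne_zero hd
  have hhF := hF_mem_diagonal D hD F i hi d⁻¹ hdi
  refine ⟨g, hg, _, ?_, heq, ?_, ?_⟩
  · exact Subgroup.mul_mem _ (Subgroup.mul_mem _ (diagonal_le_monomial D hD F hhF) hs) hn
  · rw [← heq]; exact conj_sq g n hnn
  · rw [mul_assoc, wl_diag_mul D hD F _ _ hhF (Subgroup.mul_mem _ hs hn)]
    have hni : n⁻¹ = n := inv_eq_of_mul_eq_one_left hnn
    apply wl_nFund_mul_lt D hD F n hn L hL (by rw [hni]; exact hact) i hi
    rw [hfi]
    exact isNegRoot_neg D hD _ ((parFacts_of_mem D hD).simplePos i hi)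

/-- conjugation by `n_i` shortens `n` if the `i`-th fundamental root is made negative but not sent to its negative -/
theorem conj_shorter (n : GL D.Idx F) (hn : n ∈ D.monomialSubgroup F)
    (hnn : n * n = 1) (L : List ℕ) (hL : ∀ i ∈ L, i < D.rank) (hact : ActsAs D hD F n (reflWord D L))
    (i : ℕ) (hi : i < D.rank) (hneg : D.IsNegRoot (reflWord D L (D.simple i)))
    (hne : reflWord D L (D.simple i) ≠ D.neg (D.simple i)) :
    ∃ g ∈ D.group F, ∃ n' ∈ D.monomialSubgroup F, g * n * g⁻¹ = n' ∧ n' * n' = 1 ∧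
      wl D hD F n' < wl D hD F n := by
  have hC := conjFacts_of_mem D hD i hi
  have hs := nFund_mem_monomial D hD F i hi
  have hsi := Subgroup.inv_mem _ hs
  have hni : n⁻¹ = n := inv_eq_of_mul_eq_one_left hnn
  have hpi := (parFacts_of_mem D hD).simplePos i hi
  refine ⟨nFund D hD F i, monomial_le_group D hD F hs, _,
    Subgroup.mul_mem _ (Subgroup.mul_mem _ hs hn) hsi, rfl, conj_sq _ n hnn, ?_⟩
  have h1 := wl_mul_nFund_inv_lt D hD F n hn L hL hact i hi hneg
  have hL' : ∀ j ∈ i :: L, j < D.rank := by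
    intro j hj
    rcases List.mem_cons.mp hj with rfl | hj
    · exact hi
    · exact hL j hj
  have hact' : ActsAs D hD F (n * (nFund D hD F i)⁻¹)⁻¹ (reflWord D (i :: L)) := by
    have e : (n * (nFund D hD F i)⁻¹)⁻¹ = nFund D hD F i * n := by rw [_root_.mul_inv_rev, inv_inv, hni]
    rw [e]
    exact ActsAs.mul D F (actsAs_nFund D hD F i hi) hact
  have hneg' : D.IsNegRoot (reflWord D (i :: L) (D.simple i)) := by
    show D.IsNegRoot (D.reflectRoot i (reflWord D L (D.simple i)))
    set r := reflWord D L (D.simple i) with hr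
    have hrlt : r < D.nroots := hneg.1
    have hnp : D.IsPosRoot (D.neg r) := isPosRoot_neg D hD r hneg
    have hnne : D.neg r ≠ D.simple i := by
      intro h
      apply hne
      rw [← h, neg_neg_root D hD r hrlt]
    have h3 := reflect_pos_of_pos D hD i hi (D.neg r) hnp hnne
    rw [(hC.wneg r hrlt).2.1] at h3
    have h4 := isNegRoot_neg D hD _ h3
    rwa [neg_neg_root D hD _ (hC.wlt r hrlt)] at h4
  have h2 := wl_nFund_mul_lt D hD F (n * (nFund D hD F i)⁻¹) (Subgroup.mul_mem _ hn hsi) (i :: L) hL'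
    hact' i hi hneg'
  have e : nFund D hD F i * n * (nFund D hD F i)⁻¹ = nFund D hD F i * (n * (nFund D hD F i)⁻¹) := by
    group
  rw [e]
  omega

/-- **reduction into `H`**: under the hypothesis on the fully stuck case, every involution of `N` is
conjugate to an element of `H` -/
theorem exists_conj_diag_aux [Fintype F] (hodd : Fintype.card F % 2 = 1) (hyp : StuckHyp D hD F) :
    ∀ k : ℕ, ∀ n ∈ D.monomialSubgroup F, n * n = 1 → wl D hD F n = k →
      ∃ g ∈ D.group F, g * n * g⁻¹ ∈ D.diagonalSubgroup F := by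
  have h2 : (2 : F) ≠ 0 := by
    intro h
    have hc : ringChar F = 2 := by
      have : ringChar F ∣ 2 := by
        rw [← ringChar.spec]; exact_mod_cast h
      rcases (Nat.dvd_prime Nat.prime_two).mp this with h1 | h1
      · exfalso
        have := CharP.ringChar_ne_one (R := F)
        exact this h1
      · exact h1
    have := FiniteField.even_card_of_char_two hc
    omega
  intro k
  induction k using Nat.strong_induction_on with
  | _ k ih =>
    intro n hn hnn hk
    -- a shorter conjugate finishes by induction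
    have hstep : (∃ g ∈ D.group F, ∃ n' ∈ D.monomialSubgroup F, g * n * g⁻¹ = n' ∧ n' * n' = 1 ∧
        wl D hD F n' < wl D hD F n) → ∃ g ∈ D.group F, g * n * g⁻¹ ∈ D.diagonalSubgroup F := by
      rintro ⟨g, hg, n', hn', heq, hnn', hlt⟩
      obtain ⟨g2, hg2, hmem⟩ := ih (wl D hD F n') (by omega) n' hn' hnn' rfl
      refine ⟨g2 * g, Subgroup.mul_mem _ hg2 hg, ?_⟩
      have : g2 * g * n * (g2 * g)⁻¹ = g2 * (g * n * g⁻¹) * g2⁻¹ := by group
      rw [this, heq]; exact hmem
    obtain ⟨L, hL, hact⟩ := exists_actsAs D hD F n hn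
    by_cases hA : ∀ i < D.rank, D.IsPosRoot (reflWord D L (D.simple i))
    · exact ⟨1, Subgroup.one_mem _, by
        simpa using mem_diagonal_of_simple_pos D hD F n hn _ hact hA⟩
    by_cases hB : ∃ i < D.rank, D.IsNegRoot (reflWord D L (D.simple i)) ∧
        reflWord D L (D.simple i) ≠ D.neg (D.simple i)
    · obtain ⟨i, hi, hneg, hne⟩ := hB
      exact hstep (conj_shorter D hD F n hn hnn L hL hact i hi hneg hne)
    -- fully stuck
    have hC : ∀ i < D.rank, D.IsPosRoot (reflWord D L (D.simple i)) ∨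
        reflWord D L (D.simple i) = D.neg (D.simple i) := by
      intro i hi
      have hlt : reflWord D L (D.simple i) < D.nroots :=
        reflWord_lt' D hD L hL _ ((parFacts_of_mem D hD).simplePos i hi).1
      rcases posOrNeg_of_mem D hD _ hlt with hp | hng
      · exact Or.inl hp
      · right
        by_contra hne
        exact hB ⟨i, hi, hng, hne⟩
    have hJ : ∃ i < D.rank, reflWord D L (D.simple i) = D.neg (D.simple i) := by
      by_contra hcon
      apply hA
      intro i hi
      rcases hC i hi with hp | he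
      · exact hp
      · exact absurd ⟨i, hi, he⟩ hcon
    by_cases hS : ∃ i < D.rank, reflWord D L (D.simple i) = D.neg (D.simple i) ∧
        ∃ d : F, d ≠ 0 ∧ SwapsAt D hD F n i (d * d)
    · obtain ⟨i, hi, hfi, d, hd, hsw⟩ := hS
      exact hstep (split_shorter D hD F h2 n hn hnn L hL hact i hi hfi d hd hsw)
    -- no coefficient is a square: twist first
    have hS' : ∀ i < D.rank, reflWord D L (D.simple i) = D.neg (D.simple i) →
        ∀ d : F, d ≠ 0 → ¬ SwapsAt D hD F n i (d * d) := by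
      intro i hi hfi d hd hsw
      exact hS ⟨i, hi, hfi, d, hd, hsw⟩
    obtain ⟨i, hi, j, hj, hfi, hfj, hodd'⟩ := hyp n hn hnn L hL hact hC hJ hS'
    obtain ⟨ci, hci, hswi⟩ := exists_swapsAt D hD F n _ hact i hi hfi
    obtain ⟨cj, hcj, hswj⟩ := exists_swapsAt D hD F n _ hact j hj hfj
    obtain ⟨g1, hg1, heq1⟩ := step_twist D hD F hodd n hnn i hi ci hci hswi cj hcj
    have hhF := hF_mem_diagonal D hD F i hi cj hcj
    set n1 := hF D hD F i cj * n with hn1
    have hn1N : n1 ∈ D.monomialSubgroup F := Subgroup.mul_mem _ (diagonal_le_monomial D hD F hhF) hn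
    have hnn1 : n1 * n1 = 1 := by rw [← heq1]; exact conj_sq g1 n hnn
    have hact1 : ActsAs D hD F n1 (reflWord D L) := by
      have := ActsAs.mul D F (actsAs_diag D hD F _ hhF) hact
      exact this
    have hwl1 : wl D hD F n1 = wl D hD F n := wl_diag_mul D hD F _ _ hhF hn
    -- the new coefficient at `j` is a square
    have hpj := (parFacts_of_mem D hD).simplePos j hj
    have hcar : D.cartan i (D.neg (D.simple j)) = - D.cartan i (D.simple j) :=
      (hxFacts_of_mem D hD i hi).negCar _ hpj.1 (neg_lt D hD _ hpj.1)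
    obtain ⟨m, hm⟩ : ∃ m : ℤ, D.cartan i (D.neg (D.simple j)) + 1 = m + m := by
      obtain ⟨a, ha⟩ := hodd'
      exact ⟨-a, by rw [hcar, ha]; ring⟩
    have hsw1 : SwapsAt D hD F n1 j (cj ^ m * cj ^ m) := by
      have h3 := SwapsAt.twist D hD F hswj i hi cj hcj
      have e : cj ^ (D.cartan i (D.neg (D.simple j))) * cj = cj ^ m * cj ^ m := by
        rw [← zpow_add₀ hcj, ← hm, zpow_add₀ hcj, zpow_one]
      rwa [e] at h3
    obtain ⟨g2, hg2, n2, hn2, heq2, hnn2, hlt2⟩ := split_shorter D hD F h2 n1 hn1N hnn1 L hL hact1 j hj hfj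
      (cj ^ m) (zpow_ne_zero m hcj) hsw1
    apply hstep
    refine ⟨g2 * g1, Subgroup.mul_mem _ hg2 hg1, n2, hn2, ?_, hnn2, by omega⟩
    have : g2 * g1 * n * (g2 * g1)⁻¹ = g2 * (g1 * n * g1⁻¹) * g2⁻¹ := by group
    rw [this, heq1, heq2]

/-- **reduction into `H`** -/
theorem exists_conj_diag [Fintype F] (hodd : Fintype.card F % 2 = 1) (hyp : StuckHyp D hD F)
    (t : GL D.Idx F) (ht : t ∈ D.group F) (hsq : t * t = 1) :
    ∃ g ∈ D.group F, g * t * g⁻¹ ∈ D.diagonalSubgroup F := by
  obtain ⟨g, hg, hmem⟩ := exists_conj_monomial D hD F hodd t ht hsq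
  obtain ⟨g2, hg2, hmem2⟩ := exists_conj_diag_aux D hD F hodd hyp _ _ hmem (conj_sq g t hsq) rfl
  refine ⟨g2 * g, Subgroup.mul_mem _ hg2 hg, ?_⟩
  have : g2 * g * t * (g2 * g)⁻¹ = g2 * (g * t * g⁻¹) * g2⁻¹ := by group
  rw [this]; exact hmem2

end

end Cfsg.Agent.Lib.Helper7.OddInv
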