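import Cfsg.Agent.Lib.Helper7.OddInvD

/-! Involutions of Chevalley groups over finite fields of odd order (helper7), part E:
the case of two commuting fundamental reflections (`double_split`). -/

set_option autoImplicit false

namespace Cfsg.Agent.Lib.Helper7.OddInv

open Cfsg Cfsg.Lie Matrix
open Cfsg.Agent.Lib.Helper7 Cfsg.Agent.Lib.Helper25.ChInv Cfsg.Agent.Lib.Helper11.SL2Hom
open Cfsg.Agent.Lib.Helper11.ChevSL2 Cfsg.Agent.Lib.Helper11.ChevParCent

section
variable (D : ChevalleyDatum) (hD : D ∈ [chevG2, chevB2, chevD4, chevF4, chevE6, chevE7, chevE8])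
variable (F : Type*) [Field F]
include hD

/-- **two commuting reflections**: if `n` sends `p_a`, `p_b` (orthogonal) to their negatives and keeps the
other fundamental roots positive, and some fundamental root `p_j` orthogonal to `p_b` has an odd Cartan
integer with `p_a`, then the coefficient of `n` at `p_a` is a square -/
theorem double_split (n : GL D.Idx F) (hn : n ∈ D.monomialSubgroup F) (hnn : n * n = 1) (L : List ℕ)
    (hL : ∀ i ∈ L, i < D.rank) (hact : ActsAs D hD F n (reflWord D L)) (a b : ℕ) (ha : a < D.rank)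
    (hb : b < D.rank)
    (hfa : reflWord D L (D.simple a) = D.neg (D.simple a))
    (hfb : reflWord D L (D.simple b) = D.neg (D.simple b))
    (hoth : ∀ j < D.rank, j ≠ a → j ≠ b → D.IsPosRoot (reflWord D L (D.simple j)))
    (hab : D.reflectRoot b (D.simple a) = D.simple a) (hba : D.reflectRoot a (D.simple b) = D.simple b)
    (j : ℕ) (hj : j < D.rank) (m : ℕ) (hcar : D.cartan a (D.simple j) = -((2 * m + 1 : ℕ) : ℤ))
    (hmem : ∃ x ∈ ccAll D (D.simple a) (D.simple j), x.1 = D.reflectRoot a (D.simple j) ∧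
      x.2.1 = 2 * m + 1)
    (hbj : D.reflectRoot b (D.simple j) = D.simple j)
    (hbr : D.reflectRoot b (D.reflectRoot a (D.simple j)) = D.reflectRoot a (D.simple j))
    (e1 : etaFn D b (D.simple j) = 1) (e2 : etaFn D b (D.reflectRoot a (D.simple j)) = 1)
    (e3 : etaFn D b (D.simple a) = 1) :
    ∃ d : F, d ≠ 0 ∧ SwapsAt D hD F n a (d * d) := by
  have hCa := conjFacts_of_mem D hD a ha
  have hCb := conjFacts_of_mem D hD b hb
  have hsa := nFund_mem_monomial D hD F a ha
  have hsb := nFund_mem_monomial D hD F b hb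
  have hpa := (parFacts_of_mem D hD).simplePos a ha
  have hpb := (parFacts_of_mem D hD).simplePos b hb
  have hpj := (parFacts_of_mem D hD).simplePos j hj
  have hinv := reflWord_invol D hD F n hnn L hact
  have eaa : D.reflectRoot a (D.simple a) = D.neg (D.simple a) := by
    unfold ChevalleyDatum.reflectRoot; simp
  have ebb : D.reflectRoot b (D.simple b) = D.neg (D.simple b) := by
    unfold ChevalleyDatum.reflectRoot; simp
  -- `h = n_b⁻¹ n_a⁻¹ n ∈ H`
  have hact' : ActsAs D hD F ((nFund D hD F b)⁻¹ * ((nFund D hD F a)⁻¹ * n))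
      (D.reflectRoot b ∘ (D.reflectRoot a ∘ reflWord D L)) :=
    ActsAs.mul D F (actsAs_nFund_inv D hD F b hb) (ActsAs.mul D F (actsAs_nFund_inv D hD F a ha) hact)
  have hh : (nFund D hD F b)⁻¹ * ((nFund D hD F a)⁻¹ * n) ∈ D.diagonalSubgroup F := by
    apply mem_diagonal_of_simple_pos D hD F _
      (Subgroup.mul_mem _ (Subgroup.inv_mem _ hsb) (Subgroup.mul_mem _ (Subgroup.inv_mem _ hsa) hn)) _ hact'
    intro j' hj'
    show D.IsPosRoot (D.reflectRoot b (D.reflectRoot a (reflWord D L (D.simple j'))))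
    by_cases hja : j' = a
    · rw [hja, hfa, (hCa.wneg _ hpa.1).2.1, eaa, neg_neg_root D hD _ hpa.1, hab]
      exact hpa
    · by_cases hjb : j' = b
      · rw [hjb, hfb, (hCa.wneg _ hpb.1).2.1, hba, (hCb.wneg _ hpb.1).2.1, ebb, neg_neg_root D hD _ hpb.1]
        exact hpb
      · have hp := hoth j' hj' hja hjb
        have hpj' := (parFacts_of_mem D hD).simplePos j' hj'
        have hp1 : D.IsPosRoot (D.reflectRoot a (reflWord D L (D.simple j'))) := by
          apply reflect_pos_of_pos D hD a ha _ hp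
          intro hcon
          have h1 := hinv _ hpj'.1
          rw [hcon, hfa] at h1
          exact not_pos_and_neg D hD _ (by rw [← h1] at hpj'; exact hpj') (isNegRoot_neg D hD _ hpa)
        apply reflect_pos_of_pos D hD b hb _ hp1
        intro hcon
        have h0 : reflWord D L (D.simple j') = D.simple b := by
          have := hCa.winv _ hp.1
          rw [hcon, hba] at this
          exact this.symm
        have h1 := hinv _ hpj'.1
        rw [h0, hfb] at h1
        exact not_pos_and_neg D hD _ (by rw [← h1] at hpj'; exact hpj') (isNegRoot_neg D hD _ hpb)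
  obtain ⟨χ, hχ, hhm⟩ := mem_diagonalSubgroup_char D hD F _ hh
  set h := (nFund D hD F b)⁻¹ * ((nFund D hD F a)⁻¹ * n) with hdef
  have hnh : n = nFund D hD F a * (nFund D hD F b * h) := by rw [hdef]; group
  -- conjugation by `n` of root elements at roots fixed by `w_b` with `η_b = 1`
  have hconj : ∀ r < D.nroots, D.reflectRoot b r = r → etaFn D b r = 1 → ∀ t : F,
      n * xGL D hD F r t * n⁻¹ =
        xGL D hD F (D.reflectRoot a r) (((etaFn D a r : ℤ) : F) * (χ r * t)) := by
    intro r hr hbr' hbe t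
    have e : n * xGL D hD F r t * n⁻¹ = nFund D hD F a *
        ((nFund D hD F b * h) * xGL D hD F r t * (nFund D hD F b * h)⁻¹) * (nFund D hD F a)⁻¹ := by
      rw [hnh]; group
    rw [e, conj_nFund_diag D hD F b hb h χ hχ hhm r hr, hbr', hbe, nFund_conj_xGL D hD F a ha r hr]
    congr 1
    push_cast
    ring
  -- the relation from `n² = 1` at the root `p_j`
  set s := D.simple j with hsdef
  have hs' : s < D.nroots := hpj.1
  have hws := hCa.wlt s hs'
  have hrel : ((etaFn D a (D.reflectRoot a s) : ℤ) : F) * (χ (D.reflectRoot a s) *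
      (((etaFn D a s : ℤ) : F) * (χ s * 1))) = 1 := by
    have h1 : (n * n) * xGL D hD F s 1 * (n * n)⁻¹ = xGL D hD F s
        (((etaFn D a (D.reflectRoot a s) : ℤ) : F) * (χ (D.reflectRoot a s) *
          (((etaFn D a s : ℤ) : F) * (χ s * 1)))) := by
      have e : (n * n) * xGL D hD F s 1 * (n * n)⁻¹ = n * (n * xGL D hD F s 1 * n⁻¹) * n⁻¹ := by group
      rw [e, hconj s hs' hbj e1, hconj _ hws hbr e2, hCa.winv s hs']
    rw [hnn] at h1
    have h2 : (1 : GL D.Idx F) * xGL D hD F s 1 * (1 : GL D.Idx F)⁻¹ = xGL D hD F s 1 := by group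
    rw [h2] at h1
    exact (xGL_coef_inj D hD F s hs' _ _ h1).symm
  obtain ⟨x, hx, hx1, hx2⟩ := hmem
  have hadd := hχ.addC (D.simple a) hpa.1 s hs' x hx (by rw [hx1]; exact hws)
  rw [hx1, hx2] at hadd
  have heta := eta_mul_eta D hD F a ha s hs'
  rw [hcar] at heta
  have hm1 : (-1 : F) ^ (-((2 * m + 1 : ℕ) : ℤ)) = -1 := by
    rw [_root_.zpow_neg, zpow_natCast, Odd.neg_one_pow ⟨m, rfl⟩]; norm_num
  rw [hm1] at heta
  have hχs : χ s ≠ 0 := hχ.ne0 s hs'
  have hχi : χ (D.simple a) ≠ 0 := hχ.ne0 _ hpa.1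
  have key : -(χ (D.simple a)) = (χ s * χ (D.simple a) ^ m)⁻¹ * (χ s * χ (D.simple a) ^ m)⁻¹ := by
    have h5 : ((etaFn D a (D.reflectRoot a s) : ℤ) : F) * ((etaFn D a s : ℤ) : F) *
        (χ s * χ (D.simple a) ^ (2 * m + 1) * χ s) = 1 := by
      rw [← hrel, hadd]; ring
    rw [heta] at h5
    have hne : χ s * χ (D.simple a) ^ m ≠ 0 := mul_ne_zero hχs (pow_ne_zero _ hχi)
    field_simp
    have : χ (D.simple a) ^ (2 * m + 1) = χ (D.simple a) * (χ (D.simple a) ^ m) ^ 2 := by ring
    rw [this] at h5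
    linear_combination h5
  refine ⟨(χ s * χ (D.simple a) ^ m)⁻¹, inv_ne_zero (mul_ne_zero hχs (pow_ne_zero _ hχi)), ?_⟩
  intro t
  rw [← key, hconj _ hpa.1 hab e3 t, eaa]
  have e2' : etaFn D a (D.simple a) = -1 := by
    unfold etaFn; simp
  rw [e2']
  congr 1
  push_cast
  ring

end

end Cfsg.Agent.Lib.Helper7.OddInv
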