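import Cfsg.Agent.Lib.Helper7.OddInvN

/-! Involutions of `E₈(q)`, `q` odd (helper7): the table check of the stuck hypothesis. -/

set_option autoImplicit false

namespace Cfsg.Agent.Lib.Helper7.OddInv

open Cfsg Cfsg.Lie

set_option maxRecDepth 1000000 in
theorem stuckTab_E8 : StuckTab chevE8 := by decide +kernel

end Cfsg.Agent.Lib.Helper7.OddInv
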