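import Cfsg.Agent.Lib.Helper7.OddInvH

/-! Involutions of `E₈(q)`, `q` odd (helper7): the sign vectors of the involutions of `H` fall into two
orbits (of sizes 120 and 135) under the Weyl group. -/

set_option autoImplicit false

namespace Cfsg.Agent.Lib.Helper7.OddInv

open Cfsg Cfsg.Lie

/-- all boolean vectors of a given length -/
def vecs : ℕ → List (List Bool)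
  | 0 => [[]]
  | n + 1 => (vecs n).flatMap (fun l => [false :: l, true :: l])

theorem mem_vecs : ∀ (n : ℕ) (l : List Bool), l.length = n → l ∈ vecs n
  | 0, l, h => by
    rw [List.length_eq_zero_iff.mp h]; simp [vecs]
  | n + 1, [], h => by simp at h
  | n + 1, b :: l, h => by
    have hl : l.length = n := by simpa using h
    have ih := mem_vecs n l hl
    unfold vecs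
    rw [List.mem_flatMap]
    refine ⟨l, ih, ?_⟩
    cases b <;> simp

/-- the number coded by a boolean vector -/
def encL (l : List Bool) : ℕ := l.foldr (fun b acc => 2 * acc + b.toNat) 0

/-- for every sign vector a word moving it to one of the two representatives -/
def e8PathTab : List (List ℕ) := [
  [],
  [0, 2, 3, 4, 5, 6, 7, 1, 3, 4, 5, 6],
  [1, 3, 4, 5, 2, 3, 4, 1, 3, 2],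
  [1, 3, 4, 5, 6, 2, 3, 4, 5, 1, 3, 4, 2, 3, 0, 2, 1, 3, 4, 5, 6],
  [2, 3, 4, 5, 6, 7, 0, 2, 3, 4, 5, 6],
  [2, 3, 4, 5, 6, 7, 1, 3, 4, 5, 6],
  [2, 3, 4, 5, 6, 0, 2, 3, 4, 5, 1, 3, 4, 2, 3, 0, 2, 1, 3, 4, 5, 6],
  [1, 3, 4, 5, 6, 0, 2, 3, 4, 5, 1, 3, 4, 2, 3, 0, 2, 1, 3, 4, 5, 6],
  [3, 4, 5, 6, 7, 1, 3, 4, 5, 6],
  [3, 4, 5, 6, 7, 2, 3, 4, 5, 6],
  [3, 4, 5, 2, 3, 4, 1, 3, 2],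
  [3, 4, 5, 6, 2, 3, 4, 5, 1, 3, 4, 2, 3, 0, 2, 1, 3, 4, 5, 6],
  [3, 4, 5, 6, 7, 1, 3, 4, 5, 6],
  [3, 4, 5, 6, 7, 0, 2, 3, 4, 5, 6],
  [2, 1, 3, 4, 5, 6, 0, 2, 3, 4, 5, 1, 3, 4, 2, 3, 0, 2, 1, 3, 4, 5, 6],
  [3, 4, 5, 6, 0, 2, 3, 4, 5, 1, 3, 4, 2, 3, 0, 2, 1, 3, 4, 5, 6],
  [4, 5, 3, 4, 2, 3, 0, 2],
  [4, 5, 3, 4, 1, 3, 0, 2],
  [4, 5, 6, 7, 3, 4, 5, 6],
  [4, 5, 6, 7, 0, 2, 1, 3, 4, 5, 6],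
  [4, 5, 6, 3, 4, 5, 1, 3, 4, 2, 3, 0, 2, 1, 3, 4, 5, 6],
  [4, 5, 3, 4, 1, 3, 2],
  [4, 5, 6, 7, 3, 4, 5, 6],
  [4, 5, 6, 7, 2, 1, 3, 4, 5, 6],
  [3, 2, 1, 3, 4, 5, 6, 0, 2, 3, 4, 5, 1, 3, 4, 2, 3, 0, 2, 1, 3, 4, 5, 6],
  [4, 5, 6, 0, 2, 3, 4, 5, 1, 3, 4, 2, 3, 0, 2, 1, 3, 4, 5, 6],
  [4, 5, 6, 7, 1, 3, 4, 5, 6],
  [4, 5, 6, 7, 0, 2, 3, 4, 5, 6],
  [4, 5, 2, 3, 4, 1, 3, 2],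
  [4, 5, 6, 2, 3, 4, 5, 1, 3, 4, 2, 3, 0, 2, 1, 3, 4, 5, 6],
  [4, 5, 6, 7, 1, 3, 4, 5, 6],
  [4, 5, 6, 7, 2, 3, 4, 5, 6],
  [5, 6, 7, 4, 5, 6, 3, 2, 1, 3, 0, 2],
  [5, 6, 7, 4, 5, 6, 0, 2],
  [5, 6, 4, 5, 3, 4, 2, 3, 0, 2, 1, 3, 4, 5, 6],
  [5, 4, 3, 2],
  [5, 6, 7, 2, 3, 0, 2, 1, 3, 4, 5, 6],
  [5, 6, 7, 4, 5, 6, 2],
  [5, 4, 2, 1, 3, 0, 2],
  [5, 4, 3, 0, 2],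
  [5, 6, 7, 4, 5, 6],
  [5, 6, 7, 3, 2, 1, 3, 4, 5, 6],
  [5, 6, 4, 5, 1, 3, 4, 2, 3, 0, 2, 1, 3, 4, 5, 6],
  [5, 4, 1, 3, 2],
  [5, 6, 7, 4, 5, 6],
  [5, 6, 7, 3, 0, 2, 1, 3, 4, 5, 6],
  [5, 4, 2, 3, 0, 2],
  [5, 4, 1, 3, 0, 2],
  [4, 3, 2, 1, 3, 4, 5, 6, 0, 2, 3, 4, 5, 1, 3, 4, 2, 3, 0, 2, 1, 3, 4, 5, 6],
  [5, 6, 0, 2, 3, 4, 5, 1, 3, 4, 2, 3, 0, 2, 1, 3, 4, 5, 6],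
  [5, 6, 7, 1, 3, 4, 5, 6],
  [5, 6, 7, 0, 2, 3, 4, 5, 6],
  [5, 2, 3, 4, 1, 3, 2],
  [5, 6, 2, 3, 4, 5, 1, 3, 4, 2, 3, 0, 2, 1, 3, 4, 5, 6],
  [5, 6, 7, 1, 3, 4, 5, 6],
  [5, 6, 7, 2, 3, 4, 5, 6],
  [5, 3, 4, 2, 3, 0, 2],
  [5, 3, 4, 1, 3, 0, 2],
  [5, 6, 7, 3, 4, 5, 6],
  [5, 6, 7, 0, 2, 1, 3, 4, 5, 6],
  [5, 6, 3, 4, 5, 1, 3, 4, 2, 3, 0, 2, 1, 3, 4, 5, 6],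
  [5, 3, 4, 1, 3, 2],
  [5, 6, 7, 3, 4, 5, 6],
  [5, 6, 7, 2, 1, 3, 4, 5, 6],
  [],
  [6, 5, 4, 3, 2, 1, 3, 4, 5, 6],
  [6, 7, 1, 3, 4, 2, 3, 0, 2, 1, 3, 4, 5, 6],
  [6, 7, 5, 6, 1, 3, 2],
  [],
  [6, 5, 4, 3, 0, 2, 1, 3, 4, 5, 6],
  [6, 7, 5, 6, 2, 3, 0, 2],
  [6, 7, 5, 6, 1, 3, 0, 2],
  [3, 2, 1, 3, 0, 2],
  [0, 2],
  [6, 7, 3, 4, 2, 3, 0, 2, 1, 3, 4, 5, 6],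
  [6, 7, 5, 6, 3, 2],
  [6, 5, 4, 2, 3, 0, 2, 1, 3, 4, 5, 6],
  [2],
  [6, 7, 5, 6, 2, 1, 3, 0, 2],
  [6, 7, 5, 6, 3, 0, 2],
  [6, 7, 5, 6],
  [6, 7, 4, 3, 2, 1, 3, 4, 5, 6],
  [6, 5, 1, 3, 4, 2, 3, 0, 2, 1, 3, 4, 5, 6],
  [1, 3, 2],
  [6, 7, 5, 6],
  [6, 7, 4, 3, 0, 2, 1, 3, 4, 5, 6],
  [2, 3, 0, 2],
  [1, 3, 0, 2],
  [6, 7, 5, 6, 3, 2, 1, 3, 0, 2],
  [6, 7, 5, 6, 0, 2],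
  [6, 5, 3, 4, 2, 3, 0, 2, 1, 3, 4, 5, 6],
  [3, 2],
  [6, 7, 4, 2, 3, 0, 2, 1, 3, 4, 5, 6],
  [6, 7, 5, 6, 2],
  [2, 1, 3, 0, 2],
  [3, 0, 2],
  [5, 4, 3, 2, 1, 3, 4, 5, 6, 0, 2, 3, 4, 5, 1, 3, 4, 2, 3, 0, 2, 1, 3, 4, 5, 6],
  [6, 0, 2, 3, 4, 5, 1, 3, 4, 2, 3, 0, 2, 1, 3, 4, 5, 6],
  [6, 7, 1, 3, 4, 5, 6],
  [6, 7, 0, 2, 3, 4, 5, 6],
  [2, 3, 4, 1, 3, 2],
  [6, 2, 3, 4, 5, 1, 3, 4, 2, 3, 0, 2, 1, 3, 4, 5, 6],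
  [6, 7, 1, 3, 4, 5, 6],
  [6, 7, 2, 3, 4, 5, 6],
  [3, 4, 2, 3, 0, 2],
  [3, 4, 1, 3, 0, 2],
  [6, 7, 3, 4, 5, 6],
  [6, 7, 0, 2, 1, 3, 4, 5, 6],
  [6, 3, 4, 5, 1, 3, 4, 2, 3, 0, 2, 1, 3, 4, 5, 6],
  [3, 4, 1, 3, 2],
  [6, 7, 3, 4, 5, 6],
  [6, 7, 2, 1, 3, 4, 5, 6],
  [6, 7, 4, 5, 6, 3, 2, 1, 3, 0, 2],
  [6, 7, 4, 5, 6, 0, 2],
  [6, 4, 5, 3, 4, 2, 3, 0, 2, 1, 3, 4, 5, 6],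
  [4, 3, 2],
  [6, 7, 2, 3, 0, 2, 1, 3, 4, 5, 6],
  [6, 7, 4, 5, 6, 2],
  [4, 2, 1, 3, 0, 2],
  [4, 3, 0, 2],
  [6, 7, 4, 5, 6],
  [6, 7, 3, 2, 1, 3, 4, 5, 6],
  [6, 4, 5, 1, 3, 4, 2, 3, 0, 2, 1, 3, 4, 5, 6],
  [4, 1, 3, 2],
  [6, 7, 4, 5, 6],
  [6, 7, 3, 0, 2, 1, 3, 4, 5, 6],
  [4, 2, 3, 0, 2],
  [4, 1, 3, 0, 2],
  [7, 6, 5, 4, 3, 2, 1, 3, 4, 5, 6, 0, 2, 3, 4, 5, 1, 3, 4, 2, 3, 0, 2, 1, 3, 4, 5, 6],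
  [7, 0, 2, 3, 4, 5, 1, 3, 4, 2, 3, 0, 2, 1, 3, 4, 5, 6],
  [1, 3, 4, 5, 6],
  [0, 2, 3, 4, 5, 6],
  [7, 6, 2, 3, 4, 1, 3, 2],
  [7, 2, 3, 4, 5, 1, 3, 4, 2, 3, 0, 2, 1, 3, 4, 5, 6],
  [1, 3, 4, 5, 6],
  [2, 3, 4, 5, 6],
  [7, 6, 3, 4, 2, 3, 0, 2],
  [7, 6, 3, 4, 1, 3, 0, 2],
  [3, 4, 5, 6],
  [0, 2, 1, 3, 4, 5, 6],
  [7, 3, 4, 5, 1, 3, 4, 2, 3, 0, 2, 1, 3, 4, 5, 6],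
  [7, 6, 3, 4, 1, 3, 2],
  [3, 4, 5, 6],
  [2, 1, 3, 4, 5, 6],
  [4, 5, 6, 3, 2, 1, 3, 0, 2],
  [4, 5, 6, 0, 2],
  [7, 4, 5, 3, 4, 2, 3, 0, 2, 1, 3, 4, 5, 6],
  [7, 6, 4, 3, 2],
  [2, 3, 0, 2, 1, 3, 4, 5, 6],
  [4, 5, 6, 2],
  [7, 6, 4, 2, 1, 3, 0, 2],
  [7, 6, 4, 3, 0, 2],
  [4, 5, 6],
  [3, 2, 1, 3, 4, 5, 6],
  [7, 4, 5, 1, 3, 4, 2, 3, 0, 2, 1, 3, 4, 5, 6],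
  [7, 6, 4, 1, 3, 2],
  [4, 5, 6],
  [3, 0, 2, 1, 3, 4, 5, 6],
  [7, 6, 4, 2, 3, 0, 2],
  [7, 6, 4, 1, 3, 0, 2],
  [7, 6],
  [7, 5, 4, 3, 2, 1, 3, 4, 5, 6],
  [1, 3, 4, 2, 3, 0, 2, 1, 3, 4, 5, 6],
  [5, 6, 1, 3, 2],
  [7, 6],
  [7, 5, 4, 3, 0, 2, 1, 3, 4, 5, 6],
  [5, 6, 2, 3, 0, 2],
  [5, 6, 1, 3, 0, 2],
  [7, 6, 3, 2, 1, 3, 0, 2],
  [7, 6, 0, 2],
  [3, 4, 2, 3, 0, 2, 1, 3, 4, 5, 6],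
  [5, 6, 3, 2],
  [7, 5, 4, 2, 3, 0, 2, 1, 3, 4, 5, 6],
  [7, 6, 2],
  [5, 6, 2, 1, 3, 0, 2],
  [5, 6, 3, 0, 2],
  [5, 6],
  [4, 3, 2, 1, 3, 4, 5, 6],
  [7, 5, 1, 3, 4, 2, 3, 0, 2, 1, 3, 4, 5, 6],
  [7, 6, 1, 3, 2],
  [5, 6],
  [4, 3, 0, 2, 1, 3, 4, 5, 6],
  [7, 6, 2, 3, 0, 2],
  [7, 6, 1, 3, 0, 2],
  [5, 6, 3, 2, 1, 3, 0, 2],
  [5, 6, 0, 2],
  [7, 5, 3, 4, 2, 3, 0, 2, 1, 3, 4, 5, 6],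
  [7, 6, 3, 2],
  [4, 2, 3, 0, 2, 1, 3, 4, 5, 6],
  [5, 6, 2],
  [7, 6, 2, 1, 3, 0, 2],
  [7, 6, 3, 0, 2],
  [6, 5, 4, 3, 2, 1, 3, 4, 5, 6, 0, 2, 3, 4, 5, 1, 3, 4, 2, 3, 0, 2, 1, 3, 4, 5, 6],
  [0, 2, 3, 4, 5, 1, 3, 4, 2, 3, 0, 2, 1, 3, 4, 5, 6],
  [7, 1, 3, 4, 5, 6],
  [7, 0, 2, 3, 4, 5, 6],
  [6, 2, 3, 4, 1, 3, 2],
  [2, 3, 4, 5, 1, 3, 4, 2, 3, 0, 2, 1, 3, 4, 5, 6],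
  [7, 1, 3, 4, 5, 6],
  [7, 2, 3, 4, 5, 6],
  [6, 3, 4, 2, 3, 0, 2],
  [6, 3, 4, 1, 3, 0, 2],
  [7, 3, 4, 5, 6],
  [7, 0, 2, 1, 3, 4, 5, 6],
  [3, 4, 5, 1, 3, 4, 2, 3, 0, 2, 1, 3, 4, 5, 6],
  [6, 3, 4, 1, 3, 2],
  [7, 3, 4, 5, 6],
  [7, 2, 1, 3, 4, 5, 6],
  [7, 4, 5, 6, 3, 2, 1, 3, 0, 2],
  [7, 4, 5, 6, 0, 2],
  [4, 5, 3, 4, 2, 3, 0, 2, 1, 3, 4, 5, 6],
  [6, 4, 3, 2],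
  [7, 2, 3, 0, 2, 1, 3, 4, 5, 6],
  [7, 4, 5, 6, 2],
  [6, 4, 2, 1, 3, 0, 2],
  [6, 4, 3, 0, 2],
  [7, 4, 5, 6],
  [7, 3, 2, 1, 3, 4, 5, 6],
  [4, 5, 1, 3, 4, 2, 3, 0, 2, 1, 3, 4, 5, 6],
  [6, 4, 1, 3, 2],
  [7, 4, 5, 6],
  [7, 3, 0, 2, 1, 3, 4, 5, 6],
  [6, 4, 2, 3, 0, 2],
  [6, 4, 1, 3, 0, 2],
  [6],
  [5, 4, 3, 2, 1, 3, 4, 5, 6],
  [7, 1, 3, 4, 2, 3, 0, 2, 1, 3, 4, 5, 6],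
  [7, 5, 6, 1, 3, 2],
  [6],
  [5, 4, 3, 0, 2, 1, 3, 4, 5, 6],
  [7, 5, 6, 2, 3, 0, 2],
  [7, 5, 6, 1, 3, 0, 2],
  [6, 3, 2, 1, 3, 0, 2],
  [6, 0, 2],
  [7, 3, 4, 2, 3, 0, 2, 1, 3, 4, 5, 6],
  [7, 5, 6, 3, 2],
  [5, 4, 2, 3, 0, 2, 1, 3, 4, 5, 6],
  [6, 2],
  [7, 5, 6, 2, 1, 3, 0, 2],
  [7, 5, 6, 3, 0, 2],
  [7, 5, 6],
  [7, 4, 3, 2, 1, 3, 4, 5, 6],
  [5, 1, 3, 4, 2, 3, 0, 2, 1, 3, 4, 5, 6],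
  [6, 1, 3, 2],
  [7, 5, 6],
  [7, 4, 3, 0, 2, 1, 3, 4, 5, 6],
  [6, 2, 3, 0, 2],
  [6, 1, 3, 0, 2],
  [7, 5, 6, 3, 2, 1, 3, 0, 2],
  [7, 5, 6, 0, 2],
  [5, 3, 4, 2, 3, 0, 2, 1, 3, 4, 5, 6],
  [6, 3, 2],
  [7, 4, 2, 3, 0, 2, 1, 3, 4, 5, 6],
  [7, 5, 6, 2],
  [6, 2, 1, 3, 0, 2],
  [6, 3, 0, 2]]

/-- the sign vector of `h_{p_7}(-1)` -/
def e8VecT : List Bool := [false, false, false, false, false, false, true, false]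

/-- the sign vector of `h_{p_0}(-1) h_{p_7}(-1)` -/
def e8VecS : List Bool := [false, false, true, false, false, false, true, false]

/-- the word of the table moves `l` to one of the two representatives -/
def e8PathOK (l : List Bool) : Bool :=
  (e8PathTab.getD (encL l) []).all (fun j => decide (j < 8)) &&
    (wordL chevE8 (e8PathTab.getD (encL l) []) l == e8VecT ||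
      wordL chevE8 (e8PathTab.getD (encL l) []) l == e8VecS)

set_option maxRecDepth 1000000 in
theorem e8_paths_all : (vecs 8).all (fun l => !(l.any id) || e8PathOK l) = true := by decide +kernel

/-- every nonzero sign vector is moved to one of two representatives -/
theorem e8_paths (l : List Bool) (hl : l.length = 8) (hne : l.any id = true) :
    ∃ w : List ℕ, (∀ j ∈ w, j < chevE8.rank) ∧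
      (wordL chevE8 w l = e8VecT ∨ wordL chevE8 w l = e8VecS) := by
  have h1 := List.all_eq_true.mp e8_paths_all l (mem_vecs 8 l hl)
  rw [hne] at h1
  simp only [Bool.not_true, Bool.false_or] at h1
  unfold e8PathOK at h1
  rw [Bool.and_eq_true, Bool.or_eq_true, List.all_eq_true] at h1
  refine ⟨e8PathTab.getD (encL l) [], ?_, ?_⟩
  · intro j hj
    have := h1.1 j hj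
    rw [decide_eq_true_eq] at this
    exact this
  · rcases h1.2 with h | h
    · exact Or.inl (by simpa using h)
    · exact Or.inr (by simpa using h)

end Cfsg.Agent.Lib.Helper7.OddInv
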