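import Cfsg.Agent.Lib.Helper7.OddInvE8a
import Cfsg.Agent.Lib.Helper7.OddInvE8b

/-! Involutions of `E₈(q)`, `q` odd (helper7): every involution is conjugate to `h_{p_7}(-1)` or to
`h_{p_0}(-1) h_{p_7}(-1)`. -/

set_option autoImplicit false

namespace Cfsg.Agent.Lib.Helper7.OddInv

open Cfsg Cfsg.Lie Matrix
open Cfsg.Agent.Lib.Helper7 Cfsg.Agent.Lib.Helper25.ChInv Cfsg.Agent.Lib.Helper11.SL2Hom
open Cfsg.Agent.Lib.Helper11.ChevSL2 Cfsg.Agent.Lib.Helper11.ChevParCent

theorem memE8 : chevE8 ∈ [chevG2, chevB2, chevD4, chevF4, chevE6, chevE7, chevE8] := by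
  simp

theorem e8_rank : chevE8.rank = 8 := by decide

set_option maxRecDepth 1000000 in
theorem e8_vec7 : ((List.range chevE8.rank).map fun k => decide (chevE8.cartan 7 (chevE8.simple k) % 2 = 1)) =
    e8VecT := by decide +kernel

set_option maxRecDepth 1000000 in
theorem e8_vec0 : ((List.range chevE8.rank).map fun k => decide (chevE8.cartan 0 (chevE8.simple k) % 2 = 1)) =
    [false, false, true, false, false, false, false, false] := by decide +kernel

section
variable (D : ChevalleyDatum) (hD : D ∈ [chevG2, chevB2, chevD4, chevF4, chevE6, chevE7, chevE8])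
variable (F : Type*) [Field F]
include hD

omit hD in
/-- products of elements of `H` -/
theorem HasVals.mul {h h' : GL D.Idx F} {v v' : ℕ → F} (hv : HasVals D F h v) (hv' : HasVals D F h' v') :
    HasVals D F (h * h') (fun k => v k * v' k) := by
  obtain ⟨hm, χ, hχ, hh, hval⟩ := hv
  obtain ⟨hm', χ', hχ', hh', hval'⟩ := hv'
  refine ⟨Subgroup.mul_mem _ hm hm', fun s => χ s * χ' s, hχ.mul hχ', ?_, ?_⟩
  · rw [Units.val_mul, hh, hh', diagChar_mul]
  · intro k hk
    show χ (D.simple k) * χ' (D.simple k) = _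
    rw [hval k hk, hval' k hk]

omit hD in
/-- a change of the values outside the rank -/
theorem HasVals.congr {h : GL D.Idx F} {v v' : ℕ → F} (hv : HasVals D F h v)
    (heq : ∀ k < D.rank, v k = v' k) : HasVals D F h v' := by
  obtain ⟨hm, χ, hχ, hh, hval⟩ := hv
  exact ⟨hm, χ, hχ, hh, fun k hk => by rw [hval k hk, heq k hk]⟩

end

section
variable (F : Type*) [Field F]

/-- the stuck hypothesis in type `E₈` -/
theorem stuckHyp_E8 : StuckHyp chevE8 memE8 F := stuckHyp_of_table chevE8 memE8 F stuckTab_E8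

/-- every involution of `E₈(q)`, `q` odd, is conjugate to an element of `H` -/
theorem e8_conj_diag [Fintype F] (hodd : Fintype.card F % 2 = 1) (t : GL chevE8.Idx F)
    (ht : t ∈ chevE8.group F) (hsq : t * t = 1) :
    ∃ g ∈ chevE8.group F, g * t * g⁻¹ ∈ chevE8.diagonalSubgroup F :=
  exists_conj_diag chevE8 memE8 F hodd (stuckHyp_E8 F) t ht hsq

/-- the sign vector of `h_{p_7}(-1)` -/
theorem e8_hasVals_t : HasVals chevE8 F (hF chevE8 memE8 F 7 (-1)) (valsL F e8VecT) := by
  have h7 := hasVals_hF_neg_one chevE8 memE8 F 7 (by decide)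
  rw [e8_vec7] at h7
  exact h7

/-- the sign vector of `h_{p_0}(-1) h_{p_7}(-1)` -/
theorem e8_hasVals_s :
    HasVals chevE8 F (hF chevE8 memE8 F 0 (-1) * hF chevE8 memE8 F 7 (-1)) (valsL F e8VecS) := by
  have h0 := hasVals_hF_neg_one chevE8 memE8 F 0 (by decide)
  rw [e8_vec0] at h0
  have h7 := e8_hasVals_t F
  refine HasVals.congr chevE8 F (HasVals.mul chevE8 F h0 h7) ?_
  intro k hk
  rw [e8_rank] at hk
  interval_cases k <;> simp [valsL, sg, e8VecT, e8VecS]

/-- the involutions of `H` are conjugate to `h_{p_7}(-1)` or to `h_{p_0}(-1) h_{p_7}(-1)` -/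
theorem e8_diag_invol (h : GL chevE8.Idx F) (hh : h ∈ chevE8.diagonalSubgroup F) (hsq : h * h = 1)
    (hne : h ≠ 1) :
    ∃ g ∈ chevE8.group F, g * h * g⁻¹ = hF chevE8 memE8 F 0 (-1) * hF chevE8 memE8 F 7 (-1) ∨
      g * h * g⁻¹ = hF chevE8 memE8 F 7 (-1) := by
  obtain ⟨l, hl, hv⟩ := exists_hasVals_of_invol chevE8 memE8 F h hh hsq
  rw [e8_rank] at hl
  by_cases hz : l.any id = true
  · obtain ⟨w, hw, hcase⟩ := e8_paths l hl hz
    obtain ⟨g, hg, hv2⟩ := hasVals_word chevE8 memE8 F w hw h l (by rw [e8_rank]; exact hl) hv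
    refine ⟨g, hg, ?_⟩
    rcases hcase with e | e
    · right
      rw [e] at hv2
      exact HasVals.unique chevE8 memE8 F hv2 (e8_hasVals_t F)
    · left
      rw [e] at hv2
      exact HasVals.unique chevE8 memE8 F hv2 (e8_hasVals_s F)
  · exfalso
    apply hne
    have h1 := hasVals_one chevE8 memE8 F l (by
      intro x hx
      rw [Bool.not_eq_true, List.any_eq_false] at hz
      have := hz x hx
      simpa using this)
    exact HasVals.unique chevE8 memE8 F hv h1

/-- **`E₈(q)`, `q` odd**: every involution is conjugate to `h_{p_0}(-1) h_{p_7}(-1)` or to `h_{p_7}(-1)` -/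
theorem e8_invol_conj [Fintype F] (hodd : Fintype.card F % 2 = 1) (u : GL chevE8.Idx F)
    (hu : u ∈ chevE8.group F) (huu : u * u = 1) (hu1 : u ≠ 1) :
    ∃ g ∈ chevE8.group F, g * u * g⁻¹ = hF chevE8 memE8 F 0 (-1) * hF chevE8 memE8 F 7 (-1) ∨
      g * u * g⁻¹ = hF chevE8 memE8 F 7 (-1) := by
  obtain ⟨g, hg, hmem⟩ := e8_conj_diag F hodd u hu huu
  have hne : g * u * g⁻¹ ≠ 1 := by
    intro h
    apply hu1
    have : u = g⁻¹ * (g * u * g⁻¹) * g := by group
    rw [this, h]; group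
  obtain ⟨g2, hg2, heq⟩ := e8_diag_invol F _ hmem (conj_sq g u huu) hne
  refine ⟨g2 * g, Subgroup.mul_mem _ hg2 hg, ?_⟩
  have e : g2 * g * u * (g2 * g)⁻¹ = g2 * (g * u * g⁻¹) * g2⁻¹ := by group
  rw [e]
  exact heq

end

end Cfsg.Agent.Lib.Helper7.OddInv
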