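import Cfsg.Agent.Lib.Helper7.OddInvE8c

/-! `E₈(q)`, `q` odd: the statement on the two classes of involutions, from the two centraliser
orders (helper7). -/

set_option autoImplicit false

namespace Cfsg.Agent.Lib.Helper7.E8Inv

open Cfsg Cfsg.Lie Matrix Cfsg.Agent.Lib.Helper7 Cfsg.Agent.Lib.Helper7.OddInv
open Cfsg.Agent.Lib.Helper11.ChevSL2 Cfsg.Agent.Lib.Helper25.ChInv

section
variable (D : ChevalleyDatum) (hD : D ∈ [chevG2, chevB2, chevD4, chevF4, chevE6, chevE7, chevE8])
variable (F : Type*) [Field F]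
include hD

/-- an element of `H` with a nontrivial sign vector is not `1` -/
theorem ne_one_of_hasVals (h2 : (-1 : F) ≠ 1) (h : GL D.Idx F) (l : List Bool)
    (hv : HasVals D F h (valsL F l)) (k : ℕ) (hk : k < D.rank) (hlk : l.getD k false = true) : h ≠ 1 := by
  obtain ⟨_, χ, _, hh, hval⟩ := hv
  intro h1
  rw [h1, Units.val_one, ← diagChar_one D F] at hh
  have hpk := (parFacts_of_mem D hD).simplePos k hk
  have h3 := diagChar_inj D hD F _ _ hh (D.simple k) hpk.1
  rw [hval k hk] at h3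
  unfold valsL at h3
  rw [hlk] at h3
  simp only [sg, if_true] at h3
  exact h2 h3.symm

/-- an element of `H` with a sign vector is an involution or trivial -/
theorem sq_of_hasVals (h : GL D.Idx F) (l : List Bool) (hl : l.length = D.rank)
    (hv : HasVals D F h (valsL F l)) : h * h = 1 := by
  have h1 := HasVals.mul D F hv hv
  have h0 : HasVals D F 1 (valsL F (List.replicate D.rank false)) :=
    hasVals_one D hD F _ (fun b hb => List.eq_of_mem_replicate hb)
  refine HasVals.unique D hD F (HasVals.congr D F h1 ?_) h0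
  intro k hk
  have e : (List.replicate D.rank false).getD k false = false := by
    rw [List.getD_eq_getElem _ _ (by rw [List.length_replicate]; exact hk), List.getElem_replicate]
  unfold valsL
  rw [e]
  cases l.getD k false <;> simp [sg]

end

/-- the subtype of the elements of a subgroup commuting with one of them, and its centraliser -/
theorem card_centralizer_subtype {G : Type*} [Group G] (K : Subgroup G) (z : G) (hz : z ∈ K) :
    Nat.card (Subgroup.centralizer ({⟨z, hz⟩} : Set ↥K)) = Nat.card {g : G // g ∈ K ∧ g * z = z * g} := by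
  apply Nat.card_congr
  refine ⟨fun g => ⟨(g.1 : G), g.1.2, ?_⟩, fun g => ⟨⟨g.1, g.2.1⟩, ?_⟩, ?_, ?_⟩
  · have := g.2
    rw [Subgroup.mem_centralizer_iff] at this
    have h1 := this ⟨z, hz⟩ rfl
    have h2 := congrArg Subtype.val h1
    exact h2.symm
  · rw [Subgroup.mem_centralizer_iff]
    intro x hx
    rw [Set.mem_singleton_iff] at hx
    subst hx
    apply Subtype.ext
    exact g.2.2.symm
  · intro g; rfl
  · intro g; rfl

/-- conjugate elements have centralisers of the same order -/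
theorem card_centralizer_of_isConj {G : Type*} [Group G] (s t : G) (h : IsConj s t) :
    Nat.card (Subgroup.centralizer ({s} : Set G)) = Nat.card (Subgroup.centralizer ({t} : Set G)) := by
  obtain ⟨c, hc⟩ := isConj_iff.mp h
  apply Nat.card_congr
  refine ⟨fun g => ⟨c * g.1 * c⁻¹, ?_⟩, fun g => ⟨c⁻¹ * g.1 * c, ?_⟩, ?_, ?_⟩
  · rw [Subgroup.mem_centralizer_iff]
    intro x hx
    rw [Set.mem_singleton_iff] at hx
    subst hx
    have := g.2
    rw [Subgroup.mem_centralizer_iff] at this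
    have h1 := this s rfl
    rw [← hc]
    calc c * s * c⁻¹ * (c * g.1 * c⁻¹) = c * (s * g.1) * c⁻¹ := by group
      _ = c * (g.1 * s) * c⁻¹ := by rw [h1]
      _ = c * g.1 * c⁻¹ * (c * s * c⁻¹) := by group
  · rw [Subgroup.mem_centralizer_iff]
    intro x hx
    rw [Set.mem_singleton_iff] at hx
    rw [hx]
    have := g.2
    rw [Subgroup.mem_centralizer_iff] at this
    have h1 := this t rfl
    have h1' : (c * s * c⁻¹) * g.1 = g.1 * (c * s * c⁻¹) := by rw [hc]; exact h1
    have h2 : s * (c⁻¹ * g.1 * c) = c⁻¹ * (c * s * c⁻¹ * g.1) * c := by group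
    have h3 : c⁻¹ * g.1 * c * s = c⁻¹ * (g.1 * (c * s * c⁻¹)) * c := by group
    rw [h2, h3, h1']
  · intro g
    apply Subtype.ext
    show c⁻¹ * (c * g.1 * c⁻¹) * c = g.1
    group
  · intro g
    apply Subtype.ext
    show c * (c⁻¹ * g.1 * c) * c⁻¹ = g.1
    group

theorem neg_one_ne_one_of_odd_card (F : Type*) [Field F] [Fintype F] (hodd : Odd (Fintype.card F)) :
    (-1 : F) ≠ 1 := by
  intro h
  have h2' : (2 : F) = 0 := by
    have : (1 : F) + 1 = 0 := by
      nth_rewrite 1 [← h]; ring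
    rw [← this]; norm_num
  have hc : ringChar F = 2 := by
    have : ringChar F ∣ 2 := by
      rw [← ringChar.spec]; exact_mod_cast h2'
    rcases (Nat.dvd_prime Nat.prime_two).mp this with h1 | h1
    · exfalso
      exact CharP.ringChar_ne_one (R := F) h1
    · exact h1
  have := FiniteField.even_card_of_char_two hc
  have := Nat.odd_iff.mp hodd
  omega

/-- `q^k - 1` is prime to `q` -/
theorem coprime_pow_sub_one (q k : ℕ) (hq : 0 < q) (hk : 0 < k) : Nat.Coprime (q ^ k - 1) q := by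
  have hpos : 1 ≤ q ^ k := Nat.one_le_pow _ _ hq
  apply Nat.Coprime.symm
  apply Nat.coprime_of_dvd
  intro p hp hpq hpk
  have h1 : p ∣ q ^ k := dvd_trans hpq (dvd_pow_self q (by omega))
  have h2 : p ∣ q ^ k - (q ^ k - 1) := Nat.dvd_sub h1 hpk
  have h3 : q ^ k - (q ^ k - 1) = 1 := by omega
  rw [h3] at h2
  exact hp.one_lt.ne' (Nat.dvd_one.mp h2)

/-- the two centraliser orders are different -/
theorem e8_arith_ne (q : ℕ) (hq : 2 ≤ q) :
    q ^ 56 * (q ^ 8 - 1) * ∏ i ∈ Finset.Icc 1 7, (q ^ (2 * i) - 1) ≠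
      q ^ 64 * (q ^ 2 - 1) ^ 2 * (q ^ 6 - 1) * (q ^ 8 - 1) * (q ^ 10 - 1) * (q ^ 12 - 1) *
        (q ^ 14 - 1) * (q ^ 18 - 1) := by
  intro h
  have hcop : Nat.Coprime ((q ^ 8 - 1) * ∏ i ∈ Finset.Icc 1 7, (q ^ (2 * i) - 1)) q := by
    apply Nat.Coprime.mul_left (coprime_pow_sub_one q 8 (by omega) (by norm_num))
    apply Nat.Coprime.prod_left
    intro i hi
    rw [Finset.mem_Icc] at hi
    exact coprime_pow_sub_one q (2 * i) (by omega) (by omega)
  have h1 : q ^ 56 * ((q ^ 8 - 1) * ∏ i ∈ Finset.Icc 1 7, (q ^ (2 * i) - 1)) =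
      q ^ 56 * (q ^ 8 * ((q ^ 2 - 1) ^ 2 * (q ^ 6 - 1) * (q ^ 8 - 1) * (q ^ 10 - 1) * (q ^ 12 - 1) *
        (q ^ 14 - 1) * (q ^ 18 - 1))) := by
    rw [← mul_assoc, h]; ring
  have h2 := Nat.eq_of_mul_eq_mul_left (by positivity) h1
  have h3 : q ∣ (q ^ 8 - 1) * ∏ i ∈ Finset.Icc 1 7, (q ^ (2 * i) - 1) := by
    rw [h2]
    exact dvd_mul_of_dvd_left (dvd_pow_self q (by norm_num)) _
  have h4 := Nat.Coprime.eq_one_of_dvd hcop.symm h3
  omega

section
variable (F : Type*) [Field F]

theorem e8_hF_mem_group (i : ℕ) (hi : i < chevE8.rank) :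
    hF chevE8 memE8 F i (-1) ∈ chevE8.group F := by
  have hm1 : (-1 : F) ≠ 0 := neg_ne_zero.mpr one_ne_zero
  exact borel_le_group chevE8 memE8 F
    (diagonal_le_borel chevE8 memE8 F (hF_mem_diagonal chevE8 memE8 F i hi _ hm1))

theorem e8_zs_mem_group :
    hF chevE8 memE8 F 0 (-1) * hF chevE8 memE8 F 7 (-1) ∈ chevE8.group F :=
  Subgroup.mul_mem _ (e8_hF_mem_group F 0 (by decide)) (e8_hF_mem_group F 7 (by decide))

end

/-- **`E₈(q)`, `q` odd**: two classes of involutions, from the two centraliser orders -/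
theorem e8_result_of_cards {F : Type*} [Field F] [Fintype F] (hOdd : Odd (Fintype.card F))
    (hS : Nat.card {g : GL chevE8.Idx F // g ∈ chevE8.group F ∧
        g * (hF chevE8 memE8 F 0 (-1) * hF chevE8 memE8 F 7 (-1)) =
          (hF chevE8 memE8 F 0 (-1) * hF chevE8 memE8 F 7 (-1)) * g} =
      Fintype.card F ^ 56 * (Fintype.card F ^ 8 - 1) *
        ∏ i ∈ Finset.Icc 1 7, (Fintype.card F ^ (2 * i) - 1))
    (hT : Nat.card {g : GL chevE8.Idx F // g ∈ chevE8.group F ∧
        g * hF chevE8 memE8 F 7 (-1) = hF chevE8 memE8 F 7 (-1) * g} =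
      Fintype.card F ^ 64 * (Fintype.card F ^ 2 - 1) ^ 2 * (Fintype.card F ^ 6 - 1) *
        (Fintype.card F ^ 8 - 1) * (Fintype.card F ^ 10 - 1) * (Fintype.card F ^ 12 - 1) *
        (Fintype.card F ^ 14 - 1) * (Fintype.card F ^ 18 - 1)) :
    ∃ s t : ↥(chevE8.group F), orderOf s = 2 ∧ orderOf t = 2 ∧ ¬ IsConj s t ∧
      (∀ u : ↥(chevE8.group F), orderOf u = 2 → IsConj u s ∨ IsConj u t) ∧
      Nat.card (Subgroup.centralizer ({s} : Set ↥(chevE8.group F))) =
        Fintype.card F ^ 56 * (Fintype.card F ^ 8 - 1) *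
          ∏ i ∈ Finset.Icc 1 7, (Fintype.card F ^ (2 * i) - 1) ∧
      Nat.card (Subgroup.centralizer ({t} : Set ↥(chevE8.group F))) =
        Fintype.card F ^ 64 * (Fintype.card F ^ 2 - 1) ^ 2 * (Fintype.card F ^ 6 - 1) *
          (Fintype.card F ^ 8 - 1) * (Fintype.card F ^ 10 - 1) * (Fintype.card F ^ 12 - 1) *
          (Fintype.card F ^ 14 - 1) * (Fintype.card F ^ 18 - 1) := by
  have hodd : Fintype.card F % 2 = 1 := Nat.odd_iff.mp hOdd
  have h2 : (-1 : F) ≠ 1 := neg_one_ne_one_of_odd_card F hOdd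
  have hq2 : 2 ≤ Fintype.card F := Fintype.one_lt_card
  obtain ⟨s, hsdef⟩ : ∃ s : ↥(chevE8.group F),
      s = ⟨hF chevE8 memE8 F 0 (-1) * hF chevE8 memE8 F 7 (-1), e8_zs_mem_group F⟩ := ⟨_, rfl⟩
  obtain ⟨t, htdef⟩ : ∃ t : ↥(chevE8.group F),
      t = ⟨hF chevE8 memE8 F 7 (-1), e8_hF_mem_group F 7 (by decide)⟩ := ⟨_, rfl⟩
  have hsv : (s : GL chevE8.Idx F) = hF chevE8 memE8 F 0 (-1) * hF chevE8 memE8 F 7 (-1) := by rw [hsdef]
  have htv : (t : GL chevE8.Idx F) = hF chevE8 memE8 F 7 (-1) := by rw [htdef]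
  have hs1 : s ≠ 1 := by
    intro h
    have := congrArg Subtype.val h
    rw [hsv] at this
    exact ne_one_of_hasVals chevE8 memE8 F h2 _ _ (e8_hasVals_s F) 6 (by decide) (by decide) this
  have ht1 : t ≠ 1 := by
    intro h
    have := congrArg Subtype.val h
    rw [htv] at this
    exact ne_one_of_hasVals chevE8 memE8 F h2 _ _ (e8_hasVals_t F) 6 (by decide) (by decide) this
  have hss : s ^ 2 = 1 := by
    apply Subtype.ext
    rw [pow_two, Subgroup.coe_mul, hsv]
    exact sq_of_hasVals chevE8 memE8 F _ _ (by decide) (e8_hasVals_s F)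
  have htt : t ^ 2 = 1 := by
    apply Subtype.ext
    rw [pow_two, Subgroup.coe_mul, htv]
    exact sq_of_hasVals chevE8 memE8 F _ _ (by decide) (e8_hasVals_t F)
  have hos : orderOf s = 2 := orderOf_eq_prime hss hs1
  have hot : orderOf t = 2 := orderOf_eq_prime htt ht1
  have hcs := card_centralizer_subtype (chevE8.group F) _ (e8_zs_mem_group F)
  have hct := card_centralizer_subtype (chevE8.group F) _ (e8_hF_mem_group F 7 (by decide))
  rw [hS, ← hsdef] at hcs
  rw [hT, ← htdef] at hct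
  refine ⟨s, t, hos, hot, ?_, ?_, hcs, hct⟩
  · intro hconj
    have := card_centralizer_of_isConj s t hconj
    rw [hcs, hct] at this
    exact e8_arith_ne _ hq2 this
  · intro u hu
    have hu2 : u ^ 2 = 1 := by rw [← hu]; exact pow_orderOf_eq_one u
    have hu1 : u ≠ 1 := by
      intro h
      rw [h, orderOf_one] at hu
      exact absurd hu (by norm_num)
    have huu : (u : GL chevE8.Idx F) * (u : GL chevE8.Idx F) = 1 := by
      have := congrArg Subtype.val hu2
      rw [pow_two] at this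
      exact this
    have hu1' : (u : GL chevE8.Idx F) ≠ 1 := fun h => hu1 (Subtype.ext h)
    obtain ⟨g, hg, hcase⟩ := e8_invol_conj F hodd (u : GL chevE8.Idx F) u.2 huu hu1'
    rcases hcase with e | e
    · left
      rw [isConj_iff]
      refine ⟨⟨g, hg⟩, Subtype.ext ?_⟩
      rw [hsv]; exact e
    · right
      rw [isConj_iff]
      refine ⟨⟨g, hg⟩, Subtype.ext ?_⟩
      rw [htv]; exact e

end Cfsg.Agent.Lib.Helper7.E8Inv
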