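import Cfsg.Agent.Lib.Helper7.OddInvE

/-! Involutions of `F₄(q)`, `q` odd (helper7): every involution is conjugate to an element of `H`. -/

set_option autoImplicit false

namespace Cfsg.Agent.Lib.Helper7.OddInv

open Cfsg Cfsg.Lie Matrix
open Cfsg.Agent.Lib.Helper7 Cfsg.Agent.Lib.Helper25.ChInv Cfsg.Agent.Lib.Helper11.SL2Hom
open Cfsg.Agent.Lib.Helper11.ChevSL2 Cfsg.Agent.Lib.Helper11.ChevParCent

theorem memF4 : chevF4 ∈ [chevG2, chevB2, chevD4, chevF4, chevE6, chevE7, chevE8] := by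
  simp

theorem f4_rank : chevF4.rank = 4 := by decide
theorem f4_simple0 : chevF4.simple 0 = 33 := by decide
theorem f4_simple1 : chevF4.simple 1 = 27 := by decide
theorem f4_simple2 : chevF4.simple 2 = 25 := by decide
theorem f4_simple3 : chevF4.simple 3 = 24 := by decide

/-- the Cartan integers between the fundamental roots -/
theorem f4_cartan_simple : ∀ i < 4, ∀ j < 4, chevF4.cartan i (chevF4.simple j) =
    ((([[2, -1, 0, 0], [-1, 2, -2, 0], [0, -1, 2, -1], [0, 0, -1, 2]] : List (List ℤ)).getD i []).getD j 0) := by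
  decide

/-- the reflections of the fundamental roots -/
theorem f4_refl_simple : ∀ i < 4, ∀ j < 4, chevF4.reflectRoot i (chevF4.simple j) =
    ((([[14, 34, 25, 24], [34, 20, 30, 24], [33, 28, 22, 26], [33, 27, 26, 23]] : List (List ℕ)).getD i []).getD j 0) := by
  decide

/-- the table facts used by `single_split` -/
def SglOK (D : ChevalleyDatum) (i j m : ℕ) : Prop :=
  D.cartan i (D.simple j) = -((2 * m + 1 : ℕ) : ℤ) ∧
  (∃ x ∈ ccAll D (D.simple i) (D.simple j), x.1 = D.reflectRoot i (D.simple j) ∧ x.2.1 = 2 * m + 1)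

instance (D : ChevalleyDatum) (i j m : ℕ) : Decidable (SglOK D i j m) := by
  unfold SglOK; infer_instance

/-- the table facts used by `double_split` -/
def DblOK (D : ChevalleyDatum) (a b j m : ℕ) : Prop :=
  D.reflectRoot b (D.simple a) = D.simple a ∧ D.reflectRoot a (D.simple b) = D.simple b ∧
  SglOK D a j m ∧
  D.reflectRoot b (D.simple j) = D.simple j ∧
  D.reflectRoot b (D.reflectRoot a (D.simple j)) = D.reflectRoot a (D.simple j) ∧
  etaFn D b (D.simple j) = 1 ∧ etaFn D b (D.reflectRoot a (D.simple j)) = 1 ∧ etaFn D b (D.simple a) = 1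

instance (D : ChevalleyDatum) (a b j m : ℕ) : Decidable (DblOK D a b j m) := by
  unfold DblOK; infer_instance

theorem f4_sgl01 : SglOK chevF4 0 1 0 := by decide
theorem f4_sgl10 : SglOK chevF4 1 0 0 := by decide
theorem f4_sgl21 : SglOK chevF4 2 1 0 := by decide
theorem f4_sgl32 : SglOK chevF4 3 2 0 := by decide
theorem f4_dbl203 : DblOK chevF4 2 0 3 0 := by decide
theorem f4_dbl031 : DblOK chevF4 0 3 1 0 := by decide
theorem f4_dbl130 : DblOK chevF4 1 3 0 0 := by decide

theorem f4_car01 : chevF4.cartan 0 (chevF4.simple 1) = -1 := by decide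
theorem f4_car21 : chevF4.cartan 2 (chevF4.simple 1) = -1 := by decide
theorem f4_car23 : chevF4.cartan 2 (chevF4.simple 3) = -1 := by decide

section
variable (F : Type*) [Field F]

/-- the fully stuck case in type `F₄` -/
theorem stuckHyp_F4 : StuckHyp chevF4 memF4 F := by
  intro n hn hnn L hL hact hC hJ hS
  have h0lt : (0 : ℕ) < chevF4.rank := by decide
  have h1lt : (1 : ℕ) < chevF4.rank := by decide
  have h2lt : (2 : ℕ) < chevF4.rank := by decide
  have h3lt : (3 : ℕ) < chevF4.rank := by decide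
  have pos : ∀ j' < chevF4.rank, ¬ (reflWord chevF4 L (chevF4.simple j') = chevF4.neg (chevF4.simple j')) →
      chevF4.IsPosRoot (reflWord chevF4 L (chevF4.simple j')) :=
    fun j' hj' hne => (hC j' hj').resolve_right hne
  have oddm1 : Odd (-1 : ℤ) := ⟨-1, by norm_num⟩
  -- a single reflection
  have sgl : ∀ i < chevF4.rank, ∀ j < chevF4.rank, SglOK chevF4 i j 0 →
      reflWord chevF4 L (chevF4.simple i) = chevF4.neg (chevF4.simple i) →
      (∀ j' < chevF4.rank, j' ≠ i →
        ¬ (reflWord chevF4 L (chevF4.simple j') = chevF4.neg (chevF4.simple j'))) → False := by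
    intro i hi j hj hok hfi hoth
    obtain ⟨d, hd, hsw⟩ := single_split chevF4 memF4 F n hn hnn L hL hact i hi hfi
      (fun j' hj' hne => pos j' hj' (hoth j' hj' hne)) j hj 0 hok.1 hok.2
    exact hS i hi hfi d hd hsw
  -- two commuting reflections
  have dbl : ∀ a < chevF4.rank, ∀ b < chevF4.rank, ∀ j < chevF4.rank, DblOK chevF4 a b j 0 →
      reflWord chevF4 L (chevF4.simple a) = chevF4.neg (chevF4.simple a) →
      reflWord chevF4 L (chevF4.simple b) = chevF4.neg (chevF4.simple b) →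
      (∀ j' < chevF4.rank, j' ≠ a → j' ≠ b →
        ¬ (reflWord chevF4 L (chevF4.simple j') = chevF4.neg (chevF4.simple j'))) → False := by
    intro a ha b hb j hj hok hfa hfb hoth
    obtain ⟨h1, h2, h3, h4, h5, h6, h7, h8⟩ := hok
    obtain ⟨d, hd, hsw⟩ := double_split chevF4 memF4 F n hn hnn L hL hact a b ha hb hfa hfb
      (fun j' hj' hna hnb => pos j' hj' (hoth j' hj' hna hnb)) h1 h2 j hj 0 h3.1 h3.2 h4 h5 h6 h7 h8
    exact hS a ha hfa d hd hsw
  by_cases h0 : reflWord chevF4 L (chevF4.simple 0) = chevF4.neg (chevF4.simple 0) <;>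
  by_cases h1 : reflWord chevF4 L (chevF4.simple 1) = chevF4.neg (chevF4.simple 1) <;>
  by_cases h2 : reflWord chevF4 L (chevF4.simple 2) = chevF4.neg (chevF4.simple 2) <;>
  by_cases h3 : reflWord chevF4 L (chevF4.simple 3) = chevF4.neg (chevF4.simple 3)
  -- 0 1 _ _
  · exact ⟨0, h0lt, 1, h1lt, h0, h1, by rw [f4_car01]; exact oddm1⟩
  · exact ⟨0, h0lt, 1, h1lt, h0, h1, by rw [f4_car01]; exact oddm1⟩
  · exact ⟨0, h0lt, 1, h1lt, h0, h1, by rw [f4_car01]; exact oddm1⟩
  · exact ⟨0, h0lt, 1, h1lt, h0, h1, by rw [f4_car01]; exact oddm1⟩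
  -- 0 ¬1 2 3
  · exact ⟨2, h2lt, 3, h3lt, h2, h3, by rw [f4_car23]; exact oddm1⟩
  -- 0 ¬1 2 ¬3
  · exfalso
    refine dbl 2 h2lt 0 h0lt 3 h3lt f4_dbl203 h2 h0 ?_
    intro j' hj' hna hnb
    rw [f4_rank] at hj'
    interval_cases j' <;> first | exact absurd rfl hna | exact absurd rfl hnb | assumption
  -- 0 ¬1 ¬2 3
  · exfalso
    refine dbl 0 h0lt 3 h3lt 1 h1lt f4_dbl031 h0 h3 ?_
    intro j' hj' hna hnb
    rw [f4_rank] at hj'
    interval_cases j' <;> first | exact absurd rfl hna | exact absurd rfl hnb | assumption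
  -- 0 ¬1 ¬2 ¬3
  · exfalso
    refine sgl 0 h0lt 1 h1lt f4_sgl01 h0 ?_
    intro j' hj' hna
    rw [f4_rank] at hj'
    interval_cases j' <;> first | exact absurd rfl hna | assumption
  -- ¬0 1 2 _
  · exact ⟨2, h2lt, 1, h1lt, h2, h1, by rw [f4_car21]; exact oddm1⟩
  · exact ⟨2, h2lt, 1, h1lt, h2, h1, by rw [f4_car21]; exact oddm1⟩
  -- ¬0 1 ¬2 3
  · exfalso
    refine dbl 1 h1lt 3 h3lt 0 h0lt f4_dbl130 h1 h3 ?_
    intro j' hj' hna hnb
    rw [f4_rank] at hj'
    interval_cases j' <;> first | exact absurd rfl hna | exact absurd rfl hnb | assumption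
  -- ¬0 1 ¬2 ¬3
  · exfalso
    refine sgl 1 h1lt 0 h0lt f4_sgl10 h1 ?_
    intro j' hj' hna
    rw [f4_rank] at hj'
    interval_cases j' <;> first | exact absurd rfl hna | assumption
  -- ¬0 ¬1 2 3
  · exact ⟨2, h2lt, 3, h3lt, h2, h3, by rw [f4_car23]; exact oddm1⟩
  -- ¬0 ¬1 2 ¬3
  · exfalso
    refine sgl 2 h2lt 1 h1lt f4_sgl21 h2 ?_
    intro j' hj' hna
    rw [f4_rank] at hj'
    interval_cases j' <;> first | exact absurd rfl hna | assumption
  -- ¬0 ¬1 ¬2 3
  · exfalso
    refine sgl 3 h3lt 2 h2lt f4_sgl32 h3 ?_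
    intro j' hj' hna
    rw [f4_rank] at hj'
    interval_cases j' <;> first | exact absurd rfl hna | assumption
  -- none
  · exfalso
    obtain ⟨i, hi, hfi⟩ := hJ
    rw [f4_rank] at hi
    interval_cases i <;> contradiction

/-- every involution of `F₄(q)`, `q` odd, is conjugate to an element of `H` -/
theorem f4_conj_diag [Fintype F] (hodd : Fintype.card F % 2 = 1) (t : GL chevF4.Idx F)
    (ht : t ∈ chevF4.group F) (hsq : t * t = 1) :
    ∃ g ∈ chevF4.group F, g * t * g⁻¹ ∈ chevF4.diagonalSubgroup F :=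
  exists_conj_diag chevF4 memF4 F hodd (stuckHyp_F4 F) t ht hsq

end

end Cfsg.Agent.Lib.Helper7.OddInv
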