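import Cfsg.Agent.Lib.Helper7.OddInvD

/-! `G₂(q)`, `q` odd: all involutions are conjugate (helper7). -/

set_option autoImplicit false

namespace Cfsg.Agent.Lib.Helper7.OddInv

open Cfsg Cfsg.Lie Matrix
open Cfsg.Agent.Lib.Helper7 Cfsg.Agent.Lib.Helper25.ChInv Cfsg.Agent.Lib.Helper11.SL2Hom
open Cfsg.Agent.Lib.Helper11.ChevSL2 Cfsg.Agent.Lib.Helper11.ChevParCent

theorem memG2 : chevG2 ∈ [chevG2, chevB2, chevD4, chevF4, chevE6, chevE7, chevE8] := List.mem_cons_self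

theorem g2_rank : chevG2.rank = 2 := by decide
theorem g2_simple0 : chevG2.simple 0 = 7 := by decide
theorem g2_simple1 : chevG2.simple 1 = 6 := by decide
theorem g2_car06 : chevG2.cartan 0 6 = -3 := by decide
theorem g2_car17 : chevG2.cartan 1 7 = -1 := by decide
theorem g2_car07 : chevG2.cartan 0 7 = 2 := by decide
theorem g2_car16 : chevG2.cartan 1 6 = 2 := by decide
theorem g2_refl06 : chevG2.reflectRoot 0 6 = 10 := by decide
theorem g2_refl17 : chevG2.reflectRoot 1 7 = 8 := by decide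
theorem g2_cc0 : ((10, 3, 1) : ℕ × ℕ × ℤ) ∈ ccAll chevG2 7 6 := by decide
theorem g2_cc1 : ((8, 1, 1) : ℕ × ℕ × ℤ) ∈ ccAll chevG2 6 7 := by decide

section
variable (F : Type*) [Field F]

/-- the fully stuck case in type `G₂` -/
theorem stuckHyp_G2 : StuckHyp chevG2 memG2 F := by
  intro n hn hnn L hL hact hC hJ hS
  have h0lt : (0 : ℕ) < chevG2.rank := by decide
  have h1lt : (1 : ℕ) < chevG2.rank := by decide
  by_cases h0 : reflWord chevG2 L (chevG2.simple 0) = chevG2.neg (chevG2.simple 0)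
  · by_cases h1 : reflWord chevG2 L (chevG2.simple 1) = chevG2.neg (chevG2.simple 1)
    · refine ⟨0, h0lt, 1, h1lt, h0, h1, ?_⟩
      rw [g2_simple1, g2_car06]
      exact ⟨-2, by norm_num⟩
    · exfalso
      have hoth : ∀ j < chevG2.rank, j ≠ 0 → chevG2.IsPosRoot (reflWord chevG2 L (chevG2.simple j)) := by
        intro j hj hj0
        rw [g2_rank] at hj
        have : j = 1 := by omega
        subst this
        exact (hC 1 h1lt).resolve_right h1
      obtain ⟨d, hd, hsw⟩ := single_split chevG2 memG2 F n hn hnn L hL hact 0 h0lt h0 hoth 1 h1lt 1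
        (by rw [g2_simple1, g2_car06]; norm_num)
        ⟨(10, 3, 1), by rw [g2_simple0, g2_simple1]; exact g2_cc0,
          by rw [g2_simple1, g2_refl06], rfl⟩
      exact hS 0 h0lt h0 d hd hsw
  · have h1 : reflWord chevG2 L (chevG2.simple 1) = chevG2.neg (chevG2.simple 1) := by
      obtain ⟨i, hi, hfi⟩ := hJ
      rw [g2_rank] at hi
      interval_cases i
      · exact absurd hfi h0
      · exact hfi
    exfalso
    have hoth : ∀ j < chevG2.rank, j ≠ 1 → chevG2.IsPosRoot (reflWord chevG2 L (chevG2.simple j)) := by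
      intro j hj hj1
      rw [g2_rank] at hj
      have : j = 0 := by omega
      subst this
      exact (hC 0 h0lt).resolve_right h0
    obtain ⟨d, hd, hsw⟩ := single_split chevG2 memG2 F n hn hnn L hL hact 1 h1lt h1 hoth 0 h0lt 0
      (by rw [g2_simple0, g2_car17]; norm_num)
      ⟨(8, 1, 1), by rw [g2_simple0, g2_simple1]; exact g2_cc1,
        by rw [g2_simple0, g2_refl17], rfl⟩
    exact hS 1 h1lt h1 d hd hsw

/-- every involution of `G₂(q)`, `q` odd, is conjugate to an element of `H` -/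
theorem g2_conj_diag [Fintype F] (hodd : Fintype.card F % 2 = 1) (t : GL chevG2.Idx F)
    (ht : t ∈ chevG2.group F) (hsq : t * t = 1) :
    ∃ g ∈ chevG2.group F, g * t * g⁻¹ ∈ chevG2.diagonalSubgroup F :=
  exists_conj_diag chevG2 memG2 F hodd (stuckHyp_G2 F) t ht hsq

end

section
variable (F : Type*) [Field F]

theorem hF_neg_one_sq (i : ℕ) (hi : i < chevG2.rank) :
    hF chevG2 memG2 F i (-1) * hF chevG2 memG2 F i (-1) = 1 := by
  have hm1 : (-1 : F) ≠ 0 := neg_ne_zero.mpr one_ne_zero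
  rw [← hF_mul chevG2 memG2 F i hi _ _ hm1 hm1]
  have : (-1 : F) * (-1) = 1 := by ring
  rw [this, hF_one]

theorem hF_neg_one_inv (i : ℕ) (hi : i < chevG2.rank) :
    (hF chevG2 memG2 F i (-1))⁻¹ = hF chevG2 memG2 F i (-1) :=
  inv_eq_of_mul_eq_one_left (hF_neg_one_sq F i hi)

/-- `n_1 z_0 n_1⁻¹ = z_1 z_0` -/
theorem g2_conj_z0 : nFund chevG2 memG2 F 1 * hF chevG2 memG2 F 0 (-1) * (nFund chevG2 memG2 F 1)⁻¹ =
    hF chevG2 memG2 F 1 (-1) * hF chevG2 memG2 F 0 (-1) := by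
  have hm1 : (-1 : F) ≠ 0 := neg_ne_zero.mpr one_ne_zero
  have h := nFund_conj_diag chevG2 memG2 F 1 (by decide) (hF chevG2 memG2 F 0 (-1)) _
    (chainChar_hF chevG2 memG2 F 0 (by decide) (-1) hm1) (coe_hF_diagChar chevG2 memG2 F 0 (by decide) (-1) hm1)
  rw [h]
  have e : ((-1 : F)) ^ chevG2.cartan 0 (chevG2.simple 1) = -1 := by
    rw [g2_simple1, g2_car06]
    rw [show (-3 : ℤ) = -((3 : ℕ) : ℤ) by norm_num, _root_.zpow_neg, zpow_natCast]
    norm_num
  rw [e, hF_neg_one_inv F 1 (by decide)]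

/-- `n_0 z_1 n_0⁻¹ = z_0 z_1` -/
theorem g2_conj_z1 : nFund chevG2 memG2 F 0 * hF chevG2 memG2 F 1 (-1) * (nFund chevG2 memG2 F 0)⁻¹ =
    hF chevG2 memG2 F 0 (-1) * hF chevG2 memG2 F 1 (-1) := by
  have hm1 : (-1 : F) ≠ 0 := neg_ne_zero.mpr one_ne_zero
  have h := nFund_conj_diag chevG2 memG2 F 0 (by decide) (hF chevG2 memG2 F 1 (-1)) _
    (chainChar_hF chevG2 memG2 F 1 (by decide) (-1) hm1) (coe_hF_diagChar chevG2 memG2 F 1 (by decide) (-1) hm1)
  rw [h]
  have e : ((-1 : F)) ^ chevG2.cartan 1 (chevG2.simple 0) = -1 := by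
    rw [g2_simple0, g2_car17]
    rw [show (-1 : ℤ) = -((1 : ℕ) : ℤ) by norm_num, _root_.zpow_neg, zpow_natCast]
    norm_num
  rw [e, hF_neg_one_inv F 0 (by decide)]

/-- the involutions of `H` are conjugate to `z_0 = h_{p_0}(-1)` -/
theorem g2_diag_invol (h : GL chevG2.Idx F) (hh : h ∈ chevG2.diagonalSubgroup F) (hsq : h * h = 1)
    (hne : h ≠ 1) :
    ∃ g ∈ chevG2.group F, g * h * g⁻¹ = hF chevG2 memG2 F 0 (-1) := by
  have hm1 : (-1 : F) ≠ 0 := neg_ne_zero.mpr one_ne_zero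
  have h0lt : (0 : ℕ) < chevG2.rank := by decide
  have h1lt : (1 : ℕ) < chevG2.rank := by decide
  obtain ⟨χ, hχ, hhm⟩ := mem_diagonalSubgroup_char chevG2 memG2 F h hh
  have ha := char_sq_of_invol chevG2 memG2 F h χ hhm hsq 6 (by decide)
  have hb := char_sq_of_invol chevG2 memG2 F h χ hhm hsq 7 (by decide)
  have ha0 : χ 6 ≠ 0 := left_ne_zero_of_mul_eq_one ha
  have hb0 : χ 7 ≠ 0 := left_ne_zero_of_mul_eq_one hb
  -- `h = (h_0(a) h_1(b))⁻¹`
  have hk : h * (hF chevG2 memG2 F 0 (χ 6) * hF chevG2 memG2 F 1 (χ 7)) = 1 := by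
    obtain ⟨w, hw⟩ := exists_parCentFacts chevG2 memG2
    apply eq_one_of_char_fund chevG2 memG2 F w hw
      (fun s => χ s * ((χ 6) ^ chevG2.cartan 0 s * (χ 7) ^ chevG2.cartan 1 s))
      (hχ.mul ((chainChar_hF chevG2 memG2 F 0 h0lt _ ha0).mul (chainChar_hF chevG2 memG2 F 1 h1lt _ hb0)))
    · rw [Units.val_mul, Units.val_mul, hhm, coe_hF_diagChar chevG2 memG2 F 0 h0lt _ ha0,
        coe_hF_diagChar chevG2 memG2 F 1 h1lt _ hb0, diagChar_mul, diagChar_mul]
    · intro j hj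
      rw [g2_rank] at hj
      interval_cases j
      · show χ (chevG2.simple 0) * ((χ 6) ^ chevG2.cartan 0 (chevG2.simple 0) *
          (χ 7) ^ chevG2.cartan 1 (chevG2.simple 0)) = 1
        rw [g2_simple0, g2_car07, g2_car17]
        rw [show (-1 : ℤ) = -((1 : ℕ) : ℤ) by norm_num, _root_.zpow_neg, zpow_natCast,
          show (2 : ℤ) = ((2 : ℕ) : ℤ) by norm_num, zpow_natCast, pow_two, ha, pow_one]
        field_simp
      · show χ (chevG2.simple 1) * ((χ 6) ^ chevG2.cartan 0 (chevG2.simple 1) *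
          (χ 7) ^ chevG2.cartan 1 (chevG2.simple 1)) = 1
        rw [g2_simple1, g2_car06, g2_car16]
        rw [show (-3 : ℤ) = -((3 : ℕ) : ℤ) by norm_num, _root_.zpow_neg, zpow_natCast,
          show (2 : ℤ) = ((2 : ℕ) : ℤ) by norm_num, zpow_natCast, pow_two, hb, mul_one]
        have : (χ 6) ^ 3 = χ 6 := by
          calc (χ 6) ^ 3 = (χ 6 * χ 6) * χ 6 := by ring
            _ = χ 6 := by rw [ha, one_mul]
        rw [this]
        field_simp
  have hheq : h = (hF chevG2 memG2 F 0 (χ 6) * hF chevG2 memG2 F 1 (χ 7))⁻¹ :=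
    eq_inv_of_mul_eq_one_left hk
  have hs0 := nFund_mem_monomial chevG2 memG2 F 0 h0lt
  have hs1 := nFund_mem_monomial chevG2 memG2 F 1 h1lt
  have hg0 := monomial_le_group chevG2 memG2 F hs0
  have hg1 := monomial_le_group chevG2 memG2 F hs1
  have hz0 := hF_mem_diagonal chevG2 memG2 F 0 h0lt (-1) hm1
  have hz1 := hF_mem_diagonal chevG2 memG2 F 1 h1lt (-1) hm1
  have hcomm := diagonalSubgroup_comm chevG2 memG2 F _ _ hz0 hz1
  rcases mul_self_eq_one_iff.mp ha with ha1 | ha1 <;> rcases mul_self_eq_one_iff.mp hb with hb1 | hb1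
  · exfalso
    apply hne
    rw [hheq, ha1, hb1, hF_one, hF_one]; simp
  · -- `h = z_1`
    have e : h = hF chevG2 memG2 F 1 (-1) := by
      rw [hheq, ha1, hb1, hF_one, one_mul, hF_neg_one_inv F 1 h1lt]
    refine ⟨(nFund chevG2 memG2 F 1)⁻¹ * nFund chevG2 memG2 F 0,
      Subgroup.mul_mem _ (Subgroup.inv_mem _ hg1) hg0, ?_⟩
    rw [e]
    have h1 := g2_conj_z1 F
    have h2 := g2_conj_z0 F
    calc (nFund chevG2 memG2 F 1)⁻¹ * nFund chevG2 memG2 F 0 * hF chevG2 memG2 F 1 (-1) *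
          ((nFund chevG2 memG2 F 1)⁻¹ * nFund chevG2 memG2 F 0)⁻¹
        = (nFund chevG2 memG2 F 1)⁻¹ * (nFund chevG2 memG2 F 0 * hF chevG2 memG2 F 1 (-1) *
            (nFund chevG2 memG2 F 0)⁻¹) * nFund chevG2 memG2 F 1 := by group
      _ = (nFund chevG2 memG2 F 1)⁻¹ * (nFund chevG2 memG2 F 1 * hF chevG2 memG2 F 0 (-1) *
            (nFund chevG2 memG2 F 1)⁻¹) * nFund chevG2 memG2 F 1 := by rw [h1, hcomm, ← h2]
      _ = hF chevG2 memG2 F 0 (-1) := by group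
  · -- `h = z_0`
    refine ⟨1, Subgroup.one_mem _, ?_⟩
    rw [hheq, ha1, hb1, hF_one, mul_one, hF_neg_one_inv F 0 h0lt]; simp
  · -- `h = z_1 z_0`
    have e : h = hF chevG2 memG2 F 1 (-1) * hF chevG2 memG2 F 0 (-1) := by
      rw [hheq, ha1, hb1, _root_.mul_inv_rev, hF_neg_one_inv F 1 h1lt, hF_neg_one_inv F 0 h0lt]
    refine ⟨(nFund chevG2 memG2 F 1)⁻¹, Subgroup.inv_mem _ hg1, ?_⟩
    rw [e, ← g2_conj_z0 F]; group

/-- **`G₂(q)`, `q` odd: all involutions are conjugate** -/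
theorem g2_invol_conj [Fintype F] (hodd : Fintype.card F % 2 = 1) (s t : GL chevG2.Idx F)
    (hs : s ∈ chevG2.group F) (ht : t ∈ chevG2.group F) (hss : s * s = 1) (htt : t * t = 1)
    (hs1 : s ≠ 1) (ht1 : t ≠ 1) : ∃ g ∈ chevG2.group F, g * s * g⁻¹ = t := by
  have key : ∀ u : GL chevG2.Idx F, u ∈ chevG2.group F → u * u = 1 → u ≠ 1 →
      ∃ g ∈ chevG2.group F, g * u * g⁻¹ = hF chevG2 memG2 F 0 (-1) := by
    intro u hu huu hu1
    obtain ⟨g, hg, hmem⟩ := g2_conj_diag F hodd u hu huu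
    have hne : g * u * g⁻¹ ≠ 1 := by
      intro h
      apply hu1
      have : u = g⁻¹ * (g * u * g⁻¹) * g := by group
      rw [this, h]; group
    obtain ⟨g2, hg2, heq⟩ := g2_diag_invol F _ hmem (conj_sq g u huu) hne
    refine ⟨g2 * g, Subgroup.mul_mem _ hg2 hg, ?_⟩
    rw [← heq]; group
  obtain ⟨g1, hg1, h1⟩ := key s hs hss hs1
  obtain ⟨g2, hg2, h2⟩ := key t ht htt ht1
  refine ⟨g2⁻¹ * g1, Subgroup.mul_mem _ (Subgroup.inv_mem _ hg2) hg1, ?_⟩
  have : g2⁻¹ * g1 * s * (g2⁻¹ * g1)⁻¹ = g2⁻¹ * (g1 * s * g1⁻¹) * g2 := by group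
  rw [this, h1, ← h2]; group

end

end Cfsg.Agent.Lib.Helper7.OddInv
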