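import Cfsg.Agent.Lib.Helper7.OddInvE

/-! Involutions of Chevalley groups over finite fields of odd order (helper7), part M:
the case of several pairwise commuting fundamental reflections (`multi_split`), and the reduction of
the stuck hypothesis to a decidable table check (`stuckHyp_of_table`). -/

set_option autoImplicit false

namespace Cfsg.Agent.Lib.Helper7.OddInv

open Cfsg Cfsg.Lie Matrix
open Cfsg.Agent.Lib.Helper7 Cfsg.Agent.Lib.Helper25.ChInv Cfsg.Agent.Lib.Helper11.SL2Hom
open Cfsg.Agent.Lib.Helper11.ChevSL2 Cfsg.Agent.Lib.Helper11.ChevParCent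

/-- the composition of the fundamental reflections of a list, first one applied first -/
def reflSeq (D : ChevalleyDatum) : List ℕ → ℕ → ℕ
  | [] => id
  | b :: Bs => reflSeq D Bs ∘ D.reflectRoot b

section
variable (D : ChevalleyDatum) (hD : D ∈ [chevG2, chevB2, chevD4, chevF4, chevE6, chevE7, chevE8])
variable (F : Type*) [Field F]
include hD

/-- the inverse of a product of `n_b` acts as the composition of the reflections -/
theorem actsAs_prod_inv : ∀ (Bs : List ℕ), (∀ b ∈ Bs, b < D.rank) →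
    ActsAs D hD F ((Bs.map (nFund D hD F)).prod)⁻¹ (reflSeq D Bs)
  | [], _ => by
    have := actsAs_diag D hD F 1 (Subgroup.one_mem _)
    simpa [reflSeq] using this
  | b :: Bs, h => by
    have hb : b < D.rank := h b (List.mem_cons_self ..)
    have ih := actsAs_prod_inv Bs (fun c hc => h c (List.mem_cons_of_mem _ hc))
    have := ActsAs.mul D F ih (actsAs_nFund_inv D hD F b hb)
    rw [List.map_cons, List.prod_cons, _root_.mul_inv_rev]
    exact this

theorem prod_nFund_mem_monomial : ∀ (Bs : List ℕ), (∀ b ∈ Bs, b < D.rank) →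
    (Bs.map (nFund D hD F)).prod ∈ D.monomialSubgroup F
  | [], _ => by simp
  | b :: Bs, h => by
    rw [List.map_cons, List.prod_cons]
    exact Subgroup.mul_mem _ (nFund_mem_monomial D hD F b (h b (List.mem_cons_self ..)))
      (prod_nFund_mem_monomial Bs (fun c hc => h c (List.mem_cons_of_mem _ hc)))

/-- conjugation by a product of `n_b` fixing the root `r` with signs `1` -/
theorem prod_nFund_conj : ∀ (Bs : List ℕ), (∀ b ∈ Bs, b < D.rank) → ∀ r < D.nroots,
    (∀ b ∈ Bs, D.reflectRoot b r = r ∧ etaFn D b r = 1) → ∀ t : F,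
    (Bs.map (nFund D hD F)).prod * xGL D hD F r t * ((Bs.map (nFund D hD F)).prod)⁻¹ = xGL D hD F r t
  | [], _, r, _, _, t => by simp
  | b :: Bs, h, r, hr, hfix, t => by
    have hb : b < D.rank := h b (List.mem_cons_self ..)
    have ih := prod_nFund_conj Bs (fun c hc => h c (List.mem_cons_of_mem _ hc)) r hr
      (fun c hc => hfix c (List.mem_cons_of_mem _ hc)) t
    obtain ⟨h1, h2⟩ := hfix b (List.mem_cons_self ..)
    rw [List.map_cons, List.prod_cons]
    have e : nFund D hD F b * (Bs.map (nFund D hD F)).prod * xGL D hD F r t *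
        (nFund D hD F b * (Bs.map (nFund D hD F)).prod)⁻¹ =
        nFund D hD F b * ((Bs.map (nFund D hD F)).prod * xGL D hD F r t *
          ((Bs.map (nFund D hD F)).prod)⁻¹) * (nFund D hD F b)⁻¹ := by group
    rw [e, ih, nFund_conj_xGL D hD F b hb r hr, h1, h2]
    congr 1
    push_cast
    ring

omit hD in
theorem reflSeq_cons (b : ℕ) (Bs : List ℕ) (r : ℕ) :
    reflSeq D (b :: Bs) r = reflSeq D Bs (D.reflectRoot b r) := rfl

/-- positive roots other than the fundamental roots of `Js` are permuted by the reflections of `Js` -/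
theorem reflSeq_pos (Js : List ℕ) (hJs : ∀ c ∈ Js, c < D.rank)
    (horth : ∀ c ∈ Js, ∀ c' ∈ Js, c ≠ c' → D.reflectRoot c (D.simple c') = D.simple c') :
    ∀ (Bs : List ℕ), (∀ b ∈ Bs, b ∈ Js) → ∀ r, D.IsPosRoot r → (∀ c ∈ Js, r ≠ D.simple c) →
      D.IsPosRoot (reflSeq D Bs r) ∧ ∀ c ∈ Js, reflSeq D Bs r ≠ D.simple c
  | [], _, r, hr, hne => ⟨hr, hne⟩
  | b :: Bs, h, r, hr, hne => by
    have hbJ : b ∈ Js := h b (List.mem_cons_self ..)
    have hb : b < D.rank := hJs b hbJ
    have hC := conjFacts_of_mem D hD b hb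
    rw [reflSeq_cons]
    apply reflSeq_pos Js hJs horth Bs (fun c hc => h c (List.mem_cons_of_mem _ hc))
    · exact reflect_pos_of_pos D hD b hb r hr (hne b hbJ)
    · intro c hc hcon
      have hpc := (parFacts_of_mem D hD).simplePos c (hJs c hc)
      have h1 : r = D.reflectRoot b (D.simple c) := by
        rw [← hcon, hC.winv r hr.1]
      by_cases hbc : b = c
      · subst hbc
        have e1 : D.reflectRoot b (D.simple b) = D.neg (D.simple b) := by
          unfold ChevalleyDatum.reflectRoot; simp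
        rw [e1] at h1
        rw [h1] at hr
        exact not_pos_and_neg D hD _ hr (isNegRoot_neg D hD _ hpc)
      · rw [horth b hbJ c hc hbc] at h1
        exact hne c hc h1

omit hD in
/-- the fundamental roots of `Js` outside `Bs` are fixed -/
theorem reflSeq_simple_of_not_mem (Js : List ℕ)
    (horth : ∀ c ∈ Js, ∀ c' ∈ Js, c ≠ c' → D.reflectRoot c (D.simple c') = D.simple c') :
    ∀ (Bs : List ℕ), (∀ b ∈ Bs, b ∈ Js) → ∀ c ∈ Js, c ∉ Bs → reflSeq D Bs (D.simple c) = D.simple c
  | [], _, c, _, _ => rfl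
  | b :: Bs, h, c, hc, hcn => by
    have hbJ : b ∈ Js := h b (List.mem_cons_self ..)
    have hbc : b ≠ c := fun e => hcn (e ▸ List.mem_cons_self ..)
    rw [reflSeq_cons, horth b hbJ c hc hbc]
    exact reflSeq_simple_of_not_mem Js horth Bs (fun c hc => h c (List.mem_cons_of_mem _ hc)) c hc
      (fun hm => hcn (List.mem_cons_of_mem _ hm))

/-- the negatives of the fundamental roots of `Bs` are sent to the fundamental roots -/
theorem reflSeq_neg_simple (Js : List ℕ) (hJs : ∀ c ∈ Js, c < D.rank)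
    (horth : ∀ c ∈ Js, ∀ c' ∈ Js, c ≠ c' → D.reflectRoot c (D.simple c') = D.simple c') :
    ∀ (Bs : List ℕ), (∀ b ∈ Bs, b ∈ Js) → Bs.Nodup → ∀ c ∈ Bs,
      reflSeq D Bs (D.neg (D.simple c)) = D.simple c
  | [], _, _, c, hc => by simp at hc
  | b :: Bs, h, hnd, c, hc => by
    have hbJ : b ∈ Js := h b (List.mem_cons_self ..)
    have hb : b < D.rank := hJs b hbJ
    have hC := conjFacts_of_mem D hD b hb
    have hcJ : c ∈ Js := h c hc
    have hpc := (parFacts_of_mem D hD).simplePos c (hJs c hcJ)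
    have hnd' := List.nodup_cons.mp hnd
    rw [reflSeq_cons, (hC.wneg _ hpc.1).2.1]
    by_cases hbc : b = c
    · subst hbc
      have e1 : D.reflectRoot b (D.simple b) = D.neg (D.simple b) := by
        unfold ChevalleyDatum.reflectRoot; simp
      rw [e1, neg_neg_root D hD _ hpc.1]
      exact reflSeq_simple_of_not_mem D Js horth Bs (fun c hc => h c (List.mem_cons_of_mem _ hc))
        b hbJ hnd'.1
    · rw [horth b hbJ c hcJ hbc]
      have hcB : c ∈ Bs := by
        rcases List.mem_cons.mp hc with e | e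
        · exact absurd e.symm hbc
        · exact e
      exact reflSeq_neg_simple Js hJs horth Bs (fun c hc => h c (List.mem_cons_of_mem _ hc)) hnd'.2 c hcB

/-- **several commuting reflections**: if `n` sends the pairwise orthogonal fundamental roots `p_c`,
`c ∈ a :: Bs`, to their negatives and keeps the other fundamental roots positive, and some fundamental root
`p_j` orthogonal to all `p_b`, `b ∈ Bs`, has an odd Cartan integer with `p_a`, then the coefficient of `n` at
`p_a` is a square -/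
theorem multi_split (n : GL D.Idx F) (hn : n ∈ D.monomialSubgroup F) (hnn : n * n = 1) (L : List ℕ)
    (hact : ActsAs D hD F n (reflWord D L)) (a : ℕ) (Bs : List ℕ)
    (hJs : ∀ c ∈ a :: Bs, c < D.rank) (hnd : (a :: Bs).Nodup)
    (hneg : ∀ c ∈ a :: Bs, reflWord D L (D.simple c) = D.neg (D.simple c))
    (hoth : ∀ j < D.rank, j ∉ a :: Bs → D.IsPosRoot (reflWord D L (D.simple j)))
    (horth : ∀ c ∈ a :: Bs, ∀ c' ∈ a :: Bs, c ≠ c' → D.reflectRoot c (D.simple c') = D.simple c')
    (j : ℕ) (hj : j < D.rank) (m : ℕ) (hcar : D.cartan a (D.simple j) = -((2 * m + 1 : ℕ) : ℤ))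
    (hmem : ∃ x ∈ ccAll D (D.simple a) (D.simple j), x.1 = D.reflectRoot a (D.simple j) ∧
      x.2.1 = 2 * m + 1)
    (hfix : ∀ b ∈ Bs, (D.reflectRoot b (D.simple j) = D.simple j ∧ etaFn D b (D.simple j) = 1) ∧
      (D.reflectRoot b (D.reflectRoot a (D.simple j)) = D.reflectRoot a (D.simple j) ∧
        etaFn D b (D.reflectRoot a (D.simple j)) = 1) ∧
      (D.reflectRoot b (D.simple a) = D.simple a ∧ etaFn D b (D.simple a) = 1)) :
    ∃ d : F, d ≠ 0 ∧ SwapsAt D hD F n a (d * d) := by
  have ha : a < D.rank := hJs a (List.mem_cons_self ..)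
  have hBs : ∀ b ∈ Bs, b < D.rank := fun b hb => hJs b (List.mem_cons_of_mem _ hb)
  have hCa := conjFacts_of_mem D hD a ha
  have hpa := (parFacts_of_mem D hD).simplePos a ha
  have hpj := (parFacts_of_mem D hD).simplePos j hj
  have hinv := reflWord_invol D hD F n hnn L hact
  have eaa : D.reflectRoot a (D.simple a) = D.neg (D.simple a) := by
    unfold ChevalleyDatum.reflectRoot; simp
  set P := ((a :: Bs).map (nFund D hD F)).prod with hP
  set PB := (Bs.map (nFund D hD F)).prod with hPB
  have hPeq : P = nFund D hD F a * PB := by rw [hP, List.map_cons, List.prod_cons]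
  -- `h = P⁻¹ n ∈ H`
  have hact' : ActsAs D hD F (P⁻¹ * n) (reflSeq D (a :: Bs) ∘ reflWord D L) :=
    ActsAs.mul D F (actsAs_prod_inv D hD F (a :: Bs) hJs) hact
  have hh : P⁻¹ * n ∈ D.diagonalSubgroup F := by
    apply mem_diagonal_of_simple_pos D hD F _
      (Subgroup.mul_mem _ (Subgroup.inv_mem _ (prod_nFund_mem_monomial D hD F (a :: Bs) hJs)) hn) _ hact'
    intro j' hj'
    show D.IsPosRoot (reflSeq D (a :: Bs) (reflWord D L (D.simple j')))
    have hpj' := (parFacts_of_mem D hD).simplePos j' hj'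
    by_cases hjJ : j' ∈ a :: Bs
    · rw [hneg j' hjJ, reflSeq_neg_simple D hD (a :: Bs) hJs horth (a :: Bs) (fun _ h => h) hnd j' hjJ]
      exact hpj'
    · have hp := hoth j' hj' hjJ
      refine (reflSeq_pos D hD (a :: Bs) hJs horth (a :: Bs) (fun _ h => h) _ hp ?_).1
      intro c hc hcon
      have hpc := (parFacts_of_mem D hD).simplePos c (hJs c hc)
      have h1 := hinv _ hpj'.1
      rw [hcon, hneg c hc] at h1
      exact not_pos_and_neg D hD _ (by rw [← h1] at hpj'; exact hpj') (isNegRoot_neg D hD _ hpc)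
  obtain ⟨χ, hχ, hhm⟩ := mem_diagonalSubgroup_char D hD F _ hh
  set h := P⁻¹ * n with hdef
  have hnh : n = nFund D hD F a * (PB * h) := by rw [hdef, hPeq]; group
  -- conjugation by `n` of root elements at roots fixed by all `w_b` with `η_b = 1`
  have hconj : ∀ r < D.nroots, (∀ b ∈ Bs, D.reflectRoot b r = r ∧ etaFn D b r = 1) → ∀ t : F,
      n * xGL D hD F r t * n⁻¹ =
        xGL D hD F (D.reflectRoot a r) (((etaFn D a r : ℤ) : F) * (χ r * t)) := by
    intro r hr hfr t
    have e : n * xGL D hD F r t * n⁻¹ = nFund D hD F a *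
        (PB * (h * xGL D hD F r t * h⁻¹) * PB⁻¹) * (nFund D hD F a)⁻¹ := by
      rw [hnh]; group
    rw [e, diagGL_xGL_comm D hD F h χ hχ hhm r t]
    have e2 : xGL D hD F r (χ r * t) * h * h⁻¹ = xGL D hD F r (χ r * t) := by group
    rw [e2, prod_nFund_conj D hD F Bs hBs r hr hfr, nFund_conj_xGL D hD F a ha r hr]
  -- the relation from `n² = 1` at the root `p_j`
  set s := D.simple j with hsdef
  have hs' : s < D.nroots := hpj.1
  have hws := hCa.wlt s hs'
  have hrel : ((etaFn D a (D.reflectRoot a s) : ℤ) : F) * (χ (D.reflectRoot a s) *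
      (((etaFn D a s : ℤ) : F) * (χ s * 1))) = 1 := by
    have h1 : (n * n) * xGL D hD F s 1 * (n * n)⁻¹ = xGL D hD F s
        (((etaFn D a (D.reflectRoot a s) : ℤ) : F) * (χ (D.reflectRoot a s) *
          (((etaFn D a s : ℤ) : F) * (χ s * 1)))) := by
      have e : (n * n) * xGL D hD F s 1 * (n * n)⁻¹ = n * (n * xGL D hD F s 1 * n⁻¹) * n⁻¹ := by group
      rw [e, hconj s hs' (fun b hb => (hfix b hb).1), hconj _ hws (fun b hb => (hfix b hb).2.1),
        hCa.winv s hs']
    rw [hnn] at h1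
    have h2 : (1 : GL D.Idx F) * xGL D hD F s 1 * (1 : GL D.Idx F)⁻¹ = xGL D hD F s 1 := by group
    rw [h2] at h1
    exact (xGL_coef_inj D hD F s hs' _ _ h1).symm
  obtain ⟨x, hx, hx1, hx2⟩ := hmem
  have hadd := hχ.addC (D.simple a) hpa.1 s hs' x hx (by rw [hx1]; exact hws)
  rw [hx1, hx2] at hadd
  have heta := eta_mul_eta D hD F a ha s hs'
  rw [hcar] at heta
  have hm1 : (-1 : F) ^ (-((2 * m + 1 : ℕ) : ℤ)) = -1 := by
    rw [_root_.zpow_neg, zpow_natCast, Odd.neg_one_pow ⟨m, rfl⟩]; norm_num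
  rw [hm1] at heta
  have hχs : χ s ≠ 0 := hχ.ne0 s hs'
  have hχi : χ (D.simple a) ≠ 0 := hχ.ne0 _ hpa.1
  have key : -(χ (D.simple a)) = (χ s * χ (D.simple a) ^ m)⁻¹ * (χ s * χ (D.simple a) ^ m)⁻¹ := by
    have h5 : ((etaFn D a (D.reflectRoot a s) : ℤ) : F) * ((etaFn D a s : ℤ) : F) *
        (χ s * χ (D.simple a) ^ (2 * m + 1) * χ s) = 1 := by
      rw [← hrel, hadd]; ring
    rw [heta] at h5
    have hne : χ s * χ (D.simple a) ^ m ≠ 0 := mul_ne_zero hχs (pow_ne_zero _ hχi)
    field_simp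
    have : χ (D.simple a) ^ (2 * m + 1) = χ (D.simple a) * (χ (D.simple a) ^ m) ^ 2 := by ring
    rw [this] at h5
    linear_combination h5
  refine ⟨(χ s * χ (D.simple a) ^ m)⁻¹, inv_ne_zero (mul_ne_zero hχs (pow_ne_zero _ hχi)), ?_⟩
  intro t
  rw [← key, hconj _ hpa.1 (fun b hb => (hfix b hb).2.2) t, eaa]
  have e2' : etaFn D a (D.simple a) = -1 := by
    unfold etaFn; simp
  rw [e2']
  congr 1
  push_cast
  ring

end

end Cfsg.Agent.Lib.Helper7.OddInv
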