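import Cfsg.Agent.Lib.Helper7.OddInvM

/-! Involutions of Chevalley groups over finite fields of odd order (helper7), part N:
the reduction of the stuck hypothesis to a decidable table check (`stuckHyp_of_table`). -/

set_option autoImplicit false

namespace Cfsg.Agent.Lib.Helper7.OddInv

open Cfsg Cfsg.Lie Matrix
open Cfsg.Agent.Lib.Helper7 Cfsg.Agent.Lib.Helper25.ChInv Cfsg.Agent.Lib.Helper11.SL2Hom
open Cfsg.Agent.Lib.Helper11.ChevSL2 Cfsg.Agent.Lib.Helper11.ChevParCent

/-- the table facts used by `multi_split` -/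
def MultiOK (D : ChevalleyDatum) (a : ℕ) (Bs : List ℕ) (j m : ℕ) : Prop :=
  (∀ c ∈ a :: Bs, ∀ c' ∈ a :: Bs, c ≠ c' → D.reflectRoot c (D.simple c') = D.simple c') ∧
  D.cartan a (D.simple j) = -((2 * m + 1 : ℕ) : ℤ) ∧
  (∃ x ∈ ccAll D (D.simple a) (D.simple j), x.1 = D.reflectRoot a (D.simple j) ∧ x.2.1 = 2 * m + 1) ∧
  (∀ b ∈ Bs, (D.reflectRoot b (D.simple j) = D.simple j ∧ etaFn D b (D.simple j) = 1) ∧
      (D.reflectRoot b (D.reflectRoot a (D.simple j)) = D.reflectRoot a (D.simple j) ∧
        etaFn D b (D.reflectRoot a (D.simple j)) = 1) ∧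
      (D.reflectRoot b (D.simple a) = D.simple a ∧ etaFn D b (D.simple a) = 1))

instance (D : ChevalleyDatum) (a : ℕ) (Bs : List ℕ) (j m : ℕ) : Decidable (MultiOK D a Bs j m) := by
  unfold MultiOK; infer_instance

/-- the table check for the stuck hypothesis: every non-empty set of fundamental roots either contains two
roots with an odd Cartan integer, or has a root `a` and a fundamental root `j` to which `multi_split` applies -/
def StuckTab (D : ChevalleyDatum) : Prop :=
  ∀ Js ∈ (List.range D.rank).sublists, Js ≠ [] →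
    (∃ i ∈ Js, ∃ j ∈ Js, D.cartan i (D.simple j) % 2 = 1) ∨
    (∃ a ∈ Js, ∃ j ∈ List.range D.rank, ∃ m ∈ List.range 2, MultiOK D a (Js.erase a) j m)

instance (D : ChevalleyDatum) : Decidable (StuckTab D) := by
  unfold StuckTab; infer_instance

section
variable (D : ChevalleyDatum) (hD : D ∈ [chevG2, chevB2, chevD4, chevF4, chevE6, chevE7, chevE8])
variable (F : Type*) [Field F]
include hD

/-- the stuck hypothesis from the table check -/
theorem stuckHyp_of_table (htab : StuckTab D) : StuckHyp D hD F := by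
  intro n hn hnn L hL hact hC hJ hS
  set Js := (List.range D.rank).filter
    (fun i => decide (reflWord D L (D.simple i) = D.neg (D.simple i))) with hJsdef
  have hmemJ : ∀ c, c ∈ Js ↔ c < D.rank ∧ reflWord D L (D.simple c) = D.neg (D.simple c) := by
    intro c
    rw [hJsdef, List.mem_filter, List.mem_range, decide_eq_true_eq]
  have hsub : Js ∈ (List.range D.rank).sublists := List.mem_sublists.mpr List.filter_sublist
  have hne : Js ≠ [] := by
    obtain ⟨i, hi, hfi⟩ := hJ
    exact List.ne_nil_of_mem ((hmemJ i).mpr ⟨hi, hfi⟩)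
  have hnodup : Js.Nodup := List.Nodup.filter _ List.nodup_range
  rcases htab Js hsub hne with ⟨i, hi, j, hj, hodd⟩ | ⟨a, ha, j, hj, m, -, hok⟩
  · exact ⟨i, ((hmemJ i).mp hi).1, j, ((hmemJ j).mp hj).1, ((hmemJ i).mp hi).2, ((hmemJ j).mp hj).2,
      Int.odd_iff.mpr hodd⟩
  · exfalso
    obtain ⟨horth, hcar, hmem, hfix⟩ := hok
    have hsubset : ∀ c ∈ a :: Js.erase a, c ∈ Js := by
      intro c hc
      rcases List.mem_cons.mp hc with e | e
      · rw [e]; exact ha
      · exact List.mem_of_mem_erase e
    obtain ⟨d, hd, hsw⟩ := multi_split D hD F n hn hnn L hact a (Js.erase a)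
      (fun c hc => ((hmemJ c).mp (hsubset c hc)).1)
      (List.nodup_cons.mpr ⟨fun h => (List.Nodup.mem_erase_iff hnodup).mp h |>.1 rfl, hnodup.erase a⟩)
      (fun c hc => ((hmemJ c).mp (hsubset c hc)).2)
      (fun j' hj' hnot => by
        have hnJ : j' ∉ Js := by
          intro hin
          apply hnot
          by_cases e : j' = a
          · rw [e]; exact List.mem_cons_self ..
          · exact List.mem_cons_of_mem _ ((List.mem_erase_of_ne e).mpr hin)
        rcases hC j' hj' with hp | hng
        · exact hp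
        · exact absurd ((hmemJ j').mpr ⟨hj', hng⟩) hnJ)
      horth j (List.mem_range.mp hj) m hcar hmem hfix
    exact hS a ((hmemJ a).mp ha).1 ((hmemJ a).mp ha).2 d hd hsw

end

end Cfsg.Agent.Lib.Helper7.OddInv
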