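import Cfsg.Agent.Lib.Helper6.Orb.Basic

/-!
# S4125 orbit lemma, leaf OrbD0 (helper7): step 6(i).
`P = ⟨a⟩ ∪ b⟨a⟩` a Sylow 2-subgroup, `V` reducible under `a` ⟹ `V = U ⊕ bU` for a minimal nonzero
`a`-invariant subgroup `U`; these two blocks are permuted transitively by `P`.
-/

set_option autoImplicit false

namespace Cfsg.Agent.Lib.Helper7.OrbLeaf
open Cfsg.Agent.Lib.Helper6.Orb

universe u v

variable {p q : ℕ} [hp : Fact p.Prime] [hq : Fact q.Prime]
  {H : Type u} {V : Type v} [Group H] [Finite H] [AddCommGroup V] [Finite V] [DistribMulAction H V]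
  [FaithfulSMul H V]

omit hp hq [Finite V] [FaithfulSMul H V] in
/-- invariance under `g` passes to the cyclic group generated by `g`. -/
theorem smul_mem_of_mem_zpowers {g : H} {U : AddSubgroup V} (hg : ∀ w ∈ U, g • w ∈ U)
    {c : H} (hc : c ∈ Subgroup.zpowers g) : ∀ w ∈ U, c • w ∈ U := by
  have hpow : ∀ n : ℕ, ∀ w ∈ U, g ^ n • w ∈ U := by
    intro n
    induction n with
    | zero => intro w hw; simpa using hw
    | succ n ih =>
      intro w hw
      rw [pow_succ, mul_smul]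
      exact ih _ (hg w hw)
  rw [← mem_powers_iff_mem_zpowers] at hc
  obtain ⟨n, rfl⟩ := hc
  exact hpow n

/-- OrbD0 -/
theorem exists_blocks_of_reducible (S : Setup 2 q H V) (P : Sylow 2 H) (a b : H)
    (ha : a ∈ (P : Subgroup H)) (hb : b ∈ (P : Subgroup H))
    (hidx : (Subgroup.zpowers a).relIndex (P : Subgroup H) = 2) (hbA : b ∉ Subgroup.zpowers a)
    (W : AddSubgroup V) (hW0 : W ≠ ⊥) (hWT : W ≠ ⊤) (hWa : ∀ w ∈ W, a • w ∈ W) :
    ∃ W' : Fin 2 → AddSubgroup V, Blocks (P : Subgroup H) W' := by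
  classical
  -- index two facts
  have hAP : Subgroup.zpowers a ≤ (P : Subgroup H) := by
    rw [Subgroup.zpowers_le]; exact ha
  have hmul : ∀ g ∈ (P : Subgroup H), ∀ g' ∈ (P : Subgroup H),
      (g * g' ∈ Subgroup.zpowers a ↔ (g ∈ Subgroup.zpowers a ↔ g' ∈ Subgroup.zpowers a)) := by
    intro g hg g' hg'
    have := Subgroup.mul_mem_iff_of_index_two (H := (Subgroup.zpowers a).subgroupOf (P : Subgroup H))
      hidx (a := ⟨g, hg⟩) (b := ⟨g', hg'⟩)
    simpa [Subgroup.mem_subgroupOf] using this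
  have hbinv : b⁻¹ ∉ Subgroup.zpowers a := fun h => hbA (by simpa using inv_mem h)
  have hbinvP : b⁻¹ ∈ (P : Subgroup H) := inv_mem hb
  have hbb : b * b ∈ Subgroup.zpowers a := (hmul b hb b hb).mpr Iff.rfl
  have hconj : ∀ c ∈ Subgroup.zpowers a, b⁻¹ * c * b ∈ Subgroup.zpowers a := by
    intro c hc
    have h1 : b⁻¹ * c ∉ Subgroup.zpowers a := by
      rw [hmul b⁻¹ hbinvP c (hAP hc)]
      intro h
      exact hbinv (h.mpr hc)
    rw [hmul (b⁻¹ * c) (mul_mem hbinvP (hAP hc)) b hb]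
    exact ⟨fun h => absurd h h1, fun h => absurd h hbA⟩
  have hcoset : ∀ g ∈ (P : Subgroup H), g ∉ Subgroup.zpowers a →
      b⁻¹ * g ∈ Subgroup.zpowers a := by
    intro g hg hgA
    rw [hmul b⁻¹ hbinvP g hg]
    exact ⟨fun h => absurd h hbinv, fun h => absurd h hgA⟩
  -- a minimal nonzero `a`-invariant subgroup inside `W`
  obtain ⟨U, ⟨hU0, hUa, hUW⟩, hUmin⟩ := Set.exists_min_image
    {U : AddSubgroup V | U ≠ ⊥ ∧ (∀ w ∈ U, a • w ∈ U) ∧ U ≤ W} (fun U => Nat.card U)
    (Set.toFinite _) ⟨W, hW0, hWa, le_rfl⟩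
  have hUA : ∀ c ∈ Subgroup.zpowers a, ∀ w ∈ U, c • w ∈ U :=
    fun c hc => smul_mem_of_mem_zpowers hUa hc
  set bU : AddSubgroup V := U.map (DistribSMul.toAddMonoidHom V b) with hbU
  have hmem_bU : ∀ x : V, x ∈ bU ↔ ∃ w ∈ U, b • w = x := by
    intro x
    rw [hbU, AddSubgroup.mem_map]
    rfl
  have hbUA : ∀ c ∈ Subgroup.zpowers a, ∀ w ∈ bU, c • w ∈ bU := by
    intro c hc w hw
    obtain ⟨u, hu, rfl⟩ := (hmem_bU w).mp hw
    refine (hmem_bU _).mpr ⟨(b⁻¹ * c * b) • u, hUA _ (hconj c hc) u hu, ?_⟩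
    rw [← mul_smul, ← mul_smul]
    congr 1
    group
  have hb_U : ∀ w ∈ U, b • w ∈ bU := fun w hw => (hmem_bU _).mpr ⟨w, hw, rfl⟩
  have hb_bU : ∀ w ∈ bU, b • w ∈ U := by
    intro w hw
    obtain ⟨u, hu, rfl⟩ := (hmem_bU w).mp hw
    rw [← mul_smul]
    exact hUA _ hbb u hu
  -- every element of `P` fixes or swaps the two blocks
  have hP : ∀ g ∈ (P : Subgroup H),
      ((∀ w ∈ U, g • w ∈ U) ∧ (∀ w ∈ bU, g • w ∈ bU)) ∨
      ((∀ w ∈ U, g • w ∈ bU) ∧ (∀ w ∈ bU, g • w ∈ U)) := by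
    intro g hg
    by_cases hgA : g ∈ Subgroup.zpowers a
    · exact Or.inl ⟨hUA g hgA, hbUA g hgA⟩
    · right
      have hc := hcoset g hg hgA
      have hgb : g = b * (b⁻¹ * g) := by group
      constructor
      · intro w hw
        rw [hgb, mul_smul]
        exact hb_U _ (hUA _ hc w hw)
      · intro w hw
        rw [hgb, mul_smul]
        exact hb_bU _ (hbUA _ hc w hw)
  -- the sum is everything
  have hsup : U ⊔ bU = ⊤ := by
    have hinv : ∀ g ∈ (P : Subgroup H), ∀ w ∈ U ⊔ bU, g • w ∈ U ⊔ bU := by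
      intro g hg w hw
      obtain ⟨u, hu, u', hu', rfl⟩ := AddSubgroup.mem_sup.mp hw
      rw [smul_add]
      rcases hP g hg with ⟨h1, h2⟩ | ⟨h1, h2⟩
      · exact AddSubgroup.mem_sup.mpr ⟨_, h1 u hu, _, h2 u' hu', rfl⟩
      · exact AddSubgroup.mem_sup.mpr ⟨_, h2 u' hu', _, h1 u hu, add_comm _ _⟩
    rcases S.sylow_irr P (U ⊔ bU) hinv with h | h
    · exfalso
      apply hU0
      rw [eq_bot_iff, ← h]
      exact le_sup_left
    · exact h
  -- the intersection is trivial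
  have hcard_bU : Nat.card bU = Nat.card U := by
    have hinj : Function.Injective (DistribSMul.toAddMonoidHom V b) := by
      intro x y hxy
      have : b • x = b • y := hxy
      exact smul_left_cancel b this
    rw [hbU]
    exact Nat.card_congr (AddSubgroup.equivMapOfInjective U _ hinj).toEquiv.symm
  have hinf : U ⊓ bU = ⊥ := by
    by_contra hne
    have hmem : U ⊓ bU ∈ {U : AddSubgroup V | U ≠ ⊥ ∧ (∀ w ∈ U, a • w ∈ U) ∧ U ≤ W} := by
      refine ⟨hne, ?_, inf_le_left.trans hUW⟩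
      intro w hw
      rw [AddSubgroup.mem_inf] at hw ⊢
      exact ⟨hUa w hw.1, hbUA a (Subgroup.mem_zpowers a) w hw.2⟩
    have hle := hUmin _ hmem
    have hUeq : U ⊓ bU = U := by
      have h1 : ((U ⊓ bU : AddSubgroup V) : Set V) = (U : Set V) := by
        apply Set.eq_of_subset_of_ncard_le _ _ (Set.toFinite _)
        · exact fun x hx => (AddSubgroup.mem_inf.mp hx).1
        · rw [← Nat.card_coe_set_eq, ← Nat.card_coe_set_eq]
          exact hle
      exact SetLike.coe_injective h1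
    have hUle : U ≤ bU := by
      rw [← hUeq]; exact inf_le_right
    have hUbU : U = bU := by
      have h1 : (U : Set V) = (bU : Set V) := by
        apply Set.eq_of_subset_of_ncard_le hUle _ (Set.toFinite _)
        rw [← Nat.card_coe_set_eq, ← Nat.card_coe_set_eq]
        exact hcard_bU.le
      exact SetLike.coe_injective h1
    apply hWT
    rw [eq_top_iff, ← hsup, ← hUbU, sup_idem]
    exact hUW
  -- assemble the blocks
  have hbU0 : bU ≠ ⊥ := by
    intro h
    apply hU0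
    rw [eq_bot_iff]
    intro u hu
    have : b • u ∈ bU := hb_U u hu
    rw [h, AddSubgroup.mem_bot] at this
    rw [AddSubgroup.mem_bot]
    have h2 : b • u = b • (0 : V) := by rw [this, smul_zero]
    exact smul_left_cancel b h2
  refine ⟨![U, bU], ?_⟩
  have hW'0 : (![U, bU] : Fin 2 → AddSubgroup V) 0 = U := rfl
  have hW'1 : (![U, bU] : Fin 2 → AddSubgroup V) 1 = bU := rfl
  refine ⟨?_, ?_, ?_, ?_, ?_⟩
  · -- indep
    intro f g hf hg hsum
    rw [Fin.sum_univ_two, Fin.sum_univ_two] at hsum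
    have hf0 : f 0 ∈ U := hf 0
    have hf1 : f 1 ∈ bU := hf 1
    have hg0 : g 0 ∈ U := hg 0
    have hg1 : g 1 ∈ bU := hg 1
    have hd : f 0 - g 0 = g 1 - f 1 := by
      rw [sub_eq_sub_iff_add_eq_add, hsum, add_comm]
    have hmem : f 0 - g 0 ∈ U ⊓ bU := by
      rw [AddSubgroup.mem_inf]
      exact ⟨U.sub_mem hf0 hg0, hd ▸ bU.sub_mem hg1 hf1⟩
    rw [hinf, AddSubgroup.mem_bot] at hmem
    have h0 : f 0 = g 0 := sub_eq_zero.mp hmem
    have h1 : f 1 = g 1 := by
      rw [hmem] at hd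
      exact (sub_eq_zero.mp hd.symm).symm
    funext i
    fin_cases i
    · exact h0
    · exact h1
  · -- span
    intro v
    have hv : v ∈ U ⊔ bU := hsup ▸ AddSubgroup.mem_top v
    obtain ⟨u, hu, u', hu', rfl⟩ := AddSubgroup.mem_sup.mp hv
    refine ⟨![u, u'], ?_, ?_⟩
    · intro i
      fin_cases i
      · exact hu
      · exact hu'
    · rw [Fin.sum_univ_two]; rfl
  · -- perm
    intro g hg i
    rcases hP g hg with ⟨h1, h2⟩ | ⟨h1, h2⟩
    · refine ⟨i, ?_⟩
      fin_cases i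
      · exact h1
      · exact h2
    · fin_cases i
      · exact ⟨1, h1⟩
      · exact ⟨0, h2⟩
  · -- trans
    intro i j
    fin_cases i <;> fin_cases j
    · exact ⟨1, one_mem _, fun w hw => by simpa using hw⟩
    · exact ⟨b, hb, hb_U⟩
    · exact ⟨b, hb, hb_bU⟩
    · exact ⟨1, one_mem _, fun w hw => by simpa using hw⟩
  · -- ne_bot
    intro i
    fin_cases i
    · exact hU0
    · exact hbU0

end Cfsg.Agent.Lib.Helper7.OrbLeaf
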