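import Mathlib
import Cfsg.Agent.Lib.Helper7.BLSearch
import Cfsg.Agent.Lib.Helper7.BLBound
import Cfsg.Agent.Lib.Helper5.BLOrdB

/-!
helper7: the Brauer–Leonard data for a Sylow subgroup of prime order, packaged for the verified
search of `BLSearch` (`bl_data`, `bl_case`).
-/

set_option autoImplicit false
set_option linter.style.haveILetI false
set_option linter.unusedSectionVars false

namespace Cfsg.Agent.Lib.Helper7.Ord459648

open Cfsg Cfsg.Agent.CharLib Cfsg.Agent.Lib.Helper24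
open Cfsg.Agent.Lib.Helper12.BSF Cfsg.Agent.Lib.Helper5.BLFull
open Cfsg.Agent.Lib.Helper7.BLSearch Cfsg.Agent.Lib.Helper7.BLBound
open scoped ComplexConjugate

universe u

variable {G : Type u} [Group G] [Finite G]

/-- for a subgroup of prime order, the centralizer of a non-identity element is the centralizer
of the subgroup -/
theorem centralizer_singleton_eq (p : ℕ) [hp : Fact p.Prime] (T : Subgroup G)
    (hT : Nat.card T = p) (y : G) (hy : y ∈ T) (hy1 : y ≠ 1) :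
    Subgroup.centralizer ({y} : Set G) = Subgroup.centralizer (T : Set G) := by
  apply le_antisymm
  · intro g hg
    rw [Subgroup.mem_centralizer_singleton_iff] at hg
    rw [Subgroup.mem_centralizer_iff]
    intro h hh
    have hz := le_zpowers_of_card_prime p T hT y hy hy1 hh
    obtain ⟨k, rfl⟩ := Subgroup.mem_zpowers_iff.mp hz
    have hc : Commute g y := hg
    exact ((hc.zpow_right k).eq).symm
  · apply Subgroup.centralizer_le
    intro x hx
    rw [Set.mem_singleton_iff] at hx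
    rw [hx]
    exact hy

/-- a nontrivial irreducible character with the section property has an admissible type -/
theorem mem_cand [IsSimpleGroup G] (p : ℕ) [hp : Fact p.Prime]
    (P : Sylow p G) (hP : Nat.card (P : Subgroup G) = p) (m : ℕ) (hmp : m < p)
    (N' : ℕ) (hN : Nat.card G = p * N') (hN0 : 0 < N') (I : ℕ)
    (hI : (Subgroup.centralizer ((P : Subgroup G) : Set G)).index = I)
    (hCp : Nat.card ↥(Subgroup.centralizer ((P : Subgroup G) : Set G)) ≠ p) (cap : ℕ)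
    (χ : IrrCharacter G) (hχ1 : (χ : G → ℂ) ≠ fun _ => 1) (a : ℤ) (ha0 : a ≠ 0)
    (ham : a ^ 2 ≤ (m : ℤ)) (hcong : (p : ℤ) ∣ (charDegree (χ : G → ℂ) : ℤ) - a)
    (hval : ∀ y w : G, y ∈ (P : Subgroup G) → y ≠ 1 → Commute y w → ¬ p ∣ orderOf w →
      (χ : G → ℂ) (y * w) = (a : ℂ)) :
    (charDegree (χ : G → ℂ), a) ∈ (candL N' p I m cap).map fun en => (en.1, en.2.1) := by
  classical
  have hpp : p.Prime := hp.out
  have hnt : Nontrivial ↥(P : Subgroup G) := by
    rw [← Finite.one_lt_card_iff_nontrivial, hP]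
    exact hpp.one_lt
  obtain ⟨y₀, hy₀⟩ := exists_ne (1 : ↥(P : Subgroup G))
  have hy1 : (y₀ : G) ≠ 1 := fun h => hy₀ (Subtype.ext h)
  have hvy : (χ : G → ℂ) (y₀ : G) = (a : ℂ) := by
    have := hval (y₀ : G) 1 y₀.2 hy1 (Commute.one_right _) (by
      rw [orderOf_one]
      exact fun h => hpp.one_lt.ne' (Nat.dvd_one.mp h))
    rwa [mul_one] at this
  have hfpos : 0 < charDegree (χ : G → ℂ) := irr_charDegree_pos χ
  have hnp : ¬ p ∣ charDegree (χ : G → ℂ) := by
    intro hd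
    have h1 : (p : ℤ) ∣ (charDegree (χ : G → ℂ) : ℤ) := Int.natCast_dvd_natCast.mpr hd
    have h2 : (p : ℤ) ∣ a := by
      have := dvd_sub h1 hcong
      rwa [sub_sub_cancel] at this
    have h3 : p ∣ a.natAbs := Int.natCast_dvd.mp h2
    have h4 : 0 < a.natAbs := Int.natAbs_pos.mpr ha0
    have h5 := Nat.le_of_dvd h4 h3
    have h6 : (a.natAbs : ℤ) ^ 2 ≤ (m : ℤ) := by
      rw [Int.natCast_natAbs, sq_abs]; exact ham
    have h7 : a.natAbs ^ 2 ≤ m := by exact_mod_cast h6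
    have h8 : a.natAbs ≤ a.natAbs ^ 2 := by nlinarith
    omega
  apply mem_candL hN0
  · have h1 : charDegree (χ : G → ℂ) ∣ p * N' := by
      rw [← hN]; exact irr_charDegree_dvd_card χ
    exact (Nat.Coprime.dvd_of_dvd_mul_left
      ((Nat.Prime.coprime_iff_not_dvd hpp).mpr hnp).symm h1)
  · exact ha0
  · exact ham
  · exact hcong
  · have h1 := deg_dvd_of_int_value χ (y₀ : G) a hvy
    rw [centralizer_singleton_eq p (P : Subgroup G) hP (y₀ : G) y₀.2 hy1, hI] at h1
    have h2 := Int.natCast_dvd.mp h1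
    rwa [Int.natAbs_mul, Int.natAbs_natCast] at h2
  · intro hfa
    apply hy1
    apply eq_one_of_apply_eq χ hχ1
    rw [hvy, irr_apply_one, ← hfa]
    simp
  · rintro ⟨ha1, hfp⟩
    refine deg_ne_pred_of_card_centralizer p P hP hCp χ hχ1 ?_ (by omega)
    intro y w hy hy1' hyw hw
    rw [hval y w hy hy1' hyw hw, ha1]
    simp

/-- the Brauer–Leonard data with all arithmetic side conditions -/
theorem bl_data [IsSimpleGroup G] (_hG : ¬ IsMulCommutative G) (p : ℕ) [hp : Fact p.Prime]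
    (P : Sylow p G) (hP : Nat.card (P : Subgroup G) = p) (m : ℕ) (hm1 : 1 < m) (hm2 : m + 1 < p)
    (hCN : (Subgroup.centralizer ((P : Subgroup G) : Set G)).relIndex
      (Subgroup.normalizer ((P : Subgroup G) : Set G)) = m)
    (N' : ℕ) (hN : Nat.card G = p * N') (hN0 : 0 < N') (I : ℕ)
    (hI : (Subgroup.centralizer ((P : Subgroup G) : Set G)).index = I)
    (hCp : Nat.card ↥(Subgroup.centralizer ((P : Subgroup G) : Set G)) ≠ p) (cap : ℕ) :
    ∃ (X : Finset (IrrCharacter G)) (a : IrrCharacter G → ℤ) (e : ℕ) (d δ : ℤ),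
      (δ = 1 ∨ δ = -1) ∧ X.card + 1 ≤ m ∧
      (d - δ) ^ 2 + ((((p - 1) / m : ℕ) : ℤ) - 1) * d ^ 2 + ∑ χ ∈ X, a χ ^ 2 = (m : ℤ) ∧
      ((((p - 1) / m : ℕ) : ℤ) * d - δ) * (e : ℤ) + 1 +
        ∑ χ ∈ X, a χ * (charDegree (χ : G → ℂ) : ℤ) = 0 ∧
      e ∣ p * N' ∧ 0 < e ∧
      (∀ χ ∈ X, (charDegree (χ : G → ℂ), a χ) ∈
        (candL N' p I m cap).map fun en => (en.1, en.2.1)) ∧
      (∀ χ ∈ X, (χ : G → ℂ) ≠ fun _ => 1) ∧
      (∀ χ ∈ X, ∀ y w : G, y ∈ (P : Subgroup G) → y ≠ 1 → Commute y w → ¬ p ∣ orderOf w →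
        (χ : G → ℂ) (y * w) = (a χ : ℂ)) := by
  classical
  have hpp : p.Prime := hp.out
  obtain ⟨X, a, η, d, δ, hδ, hXc, hXne, ha0, hsq, hcong, hdeg, hval⟩ :=
    core_full p P hP m hm1 hm2 hCN
  refine ⟨X, a, charDegree (η : G → ℂ), d, δ, hδ, hXc, hsq, hdeg, ?_, irr_charDegree_pos η, ?_,
    hXne, hval⟩
  · rw [← hN]; exact irr_charDegree_dvd_card η
  have ht1 : 1 ≤ (p - 1) / m := by
    rw [Nat.one_le_div_iff (by omega)]
    omega
  have ht1' : (0 : ℤ) ≤ (((p - 1) / m : ℕ) : ℤ) - 1 := by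
    have : (1 : ℤ) ≤ (((p - 1) / m : ℕ) : ℤ) := by exact_mod_cast ht1
    linarith
  intro χ hχ
  have ham : a χ ^ 2 ≤ (m : ℤ) := by
    have h2 : a χ ^ 2 ≤ ∑ χ ∈ X, a χ ^ 2 :=
      Finset.single_le_sum (f := fun χ => a χ ^ 2) (fun i _ => sq_nonneg (a i)) hχ
    have h3 : 0 ≤ ((((p - 1) / m : ℕ) : ℤ) - 1) * d ^ 2 := mul_nonneg ht1' (sq_nonneg d)
    nlinarith [sq_nonneg (d - δ)]
  exact mem_cand p P hP m (by omega) N' hN hN0 I hI hCp cap χ (hXne χ hχ) (a χ) (ha0 χ hχ) ham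
    (hcong χ hχ) (hval χ hχ)

/-- a case of the Brauer–Leonard analysis refuted by the Boolean search -/
theorem bl_case [IsSimpleGroup G] (hG : ¬ IsMulCommutative G) (p : ℕ) [hp : Fact p.Prime]
    (P : Sylow p G) (hP : Nat.card (P : Subgroup G) = p) (m : ℕ) (hm1 : 1 < m) (hm2 : m + 1 < p)
    (hCN : (Subgroup.centralizer ((P : Subgroup G) : Set G)).relIndex
      (Subgroup.normalizer ((P : Subgroup G) : Set G)) = m)
    (N' : ℕ) (hN : Nat.card G = p * N') (hN0 : 0 < N') (I : ℕ)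
    (hI : (Subgroup.centralizer ((P : Subgroup G) : Set G)).index = I)
    (hCp : Nat.card ↥(Subgroup.centralizer ((P : Subgroup G) : Set G)) ≠ p)
    (hnd : ((candL N' p I m (m - 1)).map fun en => (en.1, en.2.1)).Nodup)
    (hcheck : blCheck (candL N' p I m (m - 1)) (p * N') m ((p - 1) / m) = true) : False := by
  classical
  obtain ⟨X, a, e, d, δ, hδ, hXc, hsq, hdeg, he, he0, hL, -, -⟩ :=
    bl_data hG p P hP m hm1 hm2 hCN N' hN hN0 I hI hCp (m - 1)
  have ht1 : 1 ≤ (p - 1) / m := by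
    rw [Nat.one_le_div_iff (by omega)]
    omega
  refine bl_contra X (fun χ => charDegree (χ : G → ℂ)) a e d δ (p * N') m ((p - 1) / m)
    (candL N' p I m (m - 1)) hδ ht1 hXc hsq hdeg he he0 hnd hL ?_ hcheck
  intro en hen
  rw [cap_of_mem_candL hen]
  have := Finset.card_filter_le X (fun χ => (charDegree (χ : G → ℂ), a χ) = (en.1, en.2.1))
  omega

end Cfsg.Agent.Lib.Helper7.Ord459648
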