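import Mathlib
import Cfsg.Agent.Lib.Helper7.Ord459648A
import Cfsg.Agent.Lib.Lead.CharMain

/-!
helper7: order `459648 = 2^7 * 3^3 * 7 * 19`, the surviving case `n_19 = 1008`,
`|N(P) : C(P)| = 6`, `|C(P)| = 76`: the degree equation forces characters of degrees
`56, 56, 189, 96, 96` in the principal `19`-block; their values at an involution `k` of `C(P)`
force `252 ∣ |G : C(k)|`, so `|C(k)| ≤ 1824`, against `∑ |χ(k)|² ≥ 2970`.
-/

set_option autoImplicit false
set_option linter.style.haveILetI false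
set_option linter.unusedSectionVars false

namespace Cfsg.Agent.Lib.Helper7.Ord459648

open Cfsg Cfsg.Agent.CharLib Cfsg.Agent.Lib.Helper24
open Cfsg.Agent.Lib.Helper12.BSF Cfsg.Agent.Lib.Helper5.BLFull
open Cfsg.Agent.Lib.Helper7.BLSearch Cfsg.Agent.Lib.Helper7.BLBound
open scoped ComplexConjugate

universe u

variable {G : Type u} [Group G] [Finite G]

/-- values at an involution `k ∈ C(P)` of a character with the section property -/
theorem invol_facts [IsSimpleGroup G] (hperf : commutator G = ⊤) (p : ℕ) [hp : Fact p.Prime]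
    (hp2 : p ≠ 2) (P : Sylow p G) (hP : Nat.card (P : Subgroup G) = p)
    (χ : IrrCharacter G) (hχ1 : (χ : G → ℂ) ≠ fun _ => 1) (a : ℤ)
    (hval : ∀ y w : G, y ∈ (P : Subgroup G) → y ≠ 1 → Commute y w → ¬ p ∣ orderOf w →
      (χ : G → ℂ) (y * w) = (a : ℂ))
    (k : G) (hk : orderOf k = 2) (hkC : k ∈ Subgroup.centralizer ((P : Subgroup G) : Set G)) :
    ∃ z : ℕ, z ≠ 0 ∧ 4 * p * z ≤ 2 * charDegree (χ : G → ℂ) ∧
      (χ : G → ℂ) k = (((charDegree (χ : G → ℂ) : ℤ) - 4 * (p : ℤ) * (z : ℤ) : ℤ) : ℂ) ∧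
      (charDegree (χ : G → ℂ) : ℤ) ∣ ((charDegree (χ : G → ℂ) : ℤ) - 4 * (p : ℤ) * (z : ℤ)) *
        ((Subgroup.centralizer ({k} : Set G)).index : ℤ) := by
  classical
  have hpp : p.Prime := hp.out
  have hnt : Nontrivial ↥(P : Subgroup G) := by
    rw [← Finite.one_lt_card_iff_nontrivial, hP]
    exact hpp.one_lt
  obtain ⟨y₀, hy₀⟩ := exists_ne (1 : ↥(P : Subgroup G))
  have hy1 : (y₀ : G) ≠ 1 := fun h => hy₀ (Subtype.ext h)
  have hyo : orderOf (y₀ : G) = p :=
    orderOf_eq_of_card_prime p (P : Subgroup G) hP y₀ y₀.2 hy1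
  have hyk : Commute (y₀ : G) k := (Subgroup.mem_centralizer_iff.mp hkC) y₀ y₀.2
  have hpk : ¬ p ∣ orderOf k := by
    rw [hk]
    exact fun h => hp2 ((Nat.prime_dvd_prime_iff_eq hpp Nat.prime_two).mp h)
  have hp1 : ¬ p ∣ orderOf (1 : G) := by
    rw [orderOf_one]
    exact fun h => hpp.one_lt.ne' (Nat.dvd_one.mp h)
  obtain ⟨z, hz⟩ := invol_value hperf p hp2 χ (y₀ : G) k hyo hk hyk (a : ℂ) (by
    intro j hj
    have hyj : (y₀ : G) ^ j ≠ 1 := by
      intro h
      apply hj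
      rw [← hyo]
      exact orderOf_dvd_of_pow_eq_one h
    have hyjP : (y₀ : G) ^ j ∈ (P : Subgroup G) := Subgroup.pow_mem _ y₀.2 j
    constructor
    · have := hval _ 1 hyjP hyj (Commute.one_right _) hp1
      rwa [mul_one] at this
    · exact hval _ k hyjP hyj (hyk.pow_left j) hpk)
  have hzc : (χ : G → ℂ) k =
      (((charDegree (χ : G → ℂ) : ℤ) - 4 * (p : ℤ) * (z : ℤ) : ℤ) : ℂ) := by
    rw [hz]; push_cast; ring
  refine ⟨z, ?_, ?_, hzc, ?_⟩
  · rintro rfl
    have h1 : (χ : G → ℂ) k = (χ : G → ℂ) 1 := by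
      rw [hz, irr_apply_one]; simp
    have h2 := eq_one_of_apply_eq χ hχ1 k h1
    rw [h2, orderOf_one] at hk
    omega
  · have h1 := Cfsg.Agent.Lib.Helper10.irr_norm_le χ.2 k
    rw [irr_apply_one, hzc, Complex.norm_natCast, Complex.norm_intCast] at h1
    have h2 := (abs_le.mp h1).1
    have h3 : (-(charDegree (χ : G → ℂ) : ℤ)) ≤
        (charDegree (χ : G → ℂ) : ℤ) - 4 * (p : ℤ) * (z : ℤ) := by
      have : ((-(charDegree (χ : G → ℂ) : ℤ) : ℤ) : ℝ) ≤
          (((charDegree (χ : G → ℂ) : ℤ) - 4 * (p : ℤ) * (z : ℤ) : ℤ) : ℝ) := by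
        push_cast
        push_cast at h2
        linarith
      exact_mod_cast this
    have h4 : ((4 * p * z : ℕ) : ℤ) ≤ ((2 * charDegree (χ : G → ℂ) : ℕ) : ℤ) := by
      push_cast; linarith
    exact_mod_cast h4
  · exact deg_dvd_of_int_value χ k _ hzc

set_option maxRecDepth 100000 in
theorem case_1008_6 [IsSimpleGroup G] (hG : ¬ IsMulCommutative G)
    (hcard : Nat.card G = 459648) (P : Sylow 19 G) (hP : Nat.card (P : Subgroup G) = 19)
    (hCN : (Subgroup.centralizer ((P : Subgroup G) : Set G)).relIndex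
      (Subgroup.normalizer ((P : Subgroup G) : Set G)) = 6)
    (hC : Nat.card ↥(Subgroup.centralizer ((P : Subgroup G) : Set G)) = 76) : False := by
  classical
  haveI : Fact (Nat.Prime 19) := ⟨by norm_num⟩
  have hperf := commutator_eq_top_of_simple hG
  have hI : (Subgroup.centralizer ((P : Subgroup G) : Set G)).index = 6048 := by
    have := (Subgroup.centralizer ((P : Subgroup G) : Set G)).card_mul_index
    rw [hC, hcard] at this
    omega
  obtain ⟨X, a, e, d, δ, hδ, hXc, hsq, hdeg, he, he0, hL, hXne, hval⟩ :=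
    bl_data hG 19 P hP 6 (by norm_num) (by norm_num) hCN 24192 (by rw [hcard]) (by norm_num)
      6048 hI (by rw [hC]; norm_num) 5
  have hnd : ((candL 24192 19 6048 6 5).map fun en => (en.1, en.2.1)).Nodup := by
    decide +kernel
  have hcap : ∀ en ∈ candL 24192 19 6048 6 5,
      (X.filter fun χ : IrrCharacter G => (charDegree (χ : G → ℂ), a χ) = (en.1, en.2.1)).card ≤ en.2.2 := by
    intro en hen
    rw [cap_of_mem_candL hen]
    have := Finset.card_filter_le X
      (fun χ : IrrCharacter G => (charDegree (χ : G → ℂ), a χ) = (en.1, en.2.1))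
    omega
  have hcount := bl_count X (fun χ => charDegree (χ : G → ℂ)) a e d δ (19 * 24192) 6
    ((19 - 1) / 6) (candL 24192 19 6048 6 5) hδ (by norm_num) hXc hsq hdeg he he0 hnd hL hcap
  have hA := hcount 56 (-1) 1 (by decide +kernel)
  have hB := hcount 189 (-1) 0 (by decide +kernel)
  have hCc := hcount 96 1 1 (by decide +kernel)
  -- the involution
  haveI : Fact (Nat.Prime 2) := ⟨Nat.prime_two⟩
  obtain ⟨k0, hk0⟩ := exists_prime_orderOf_dvd_card'
    (G := ↥(Subgroup.centralizer ((P : Subgroup G) : Set G))) 2 (by rw [hC]; norm_num)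
  have hk : orderOf (k0 : G) = 2 := by rw [Subgroup.orderOf_coe]; exact hk0
  have hfacts : ∀ χ ∈ X, ∃ z : ℕ, z ≠ 0 ∧ 4 * 19 * z ≤ 2 * charDegree (χ : G → ℂ) ∧
      (χ : G → ℂ) (k0 : G) =
        (((charDegree (χ : G → ℂ) : ℤ) - 4 * ((19 : ℕ) : ℤ) * (z : ℤ) : ℤ) : ℂ) ∧
      (charDegree (χ : G → ℂ) : ℤ) ∣
        ((charDegree (χ : G → ℂ) : ℤ) - 4 * ((19 : ℕ) : ℤ) * (z : ℤ)) *
          ((Subgroup.centralizer ({(k0 : G)} : Set G)).index : ℤ) := fun χ hχ =>
    invol_facts hperf 19 (by norm_num) P hP χ (hXne χ hχ) (a χ) (hval χ hχ) (k0 : G) hk k0.2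
  set Ik : ℕ := (Subgroup.centralizer ({(k0 : G)} : Set G)).index with hIk
  -- per type
  have h56 : ∀ χ ∈ X, (charDegree (χ : G → ℂ), a χ) = (56, -1) →
      (400 : ℝ) ≤ Complex.normSq ((χ : G → ℂ) (k0 : G)) ∧ (14 : ℤ) ∣ (Ik : ℤ) := by
    intro χ hχ hty
    obtain ⟨z, hz0, hzb, hzv, hzd⟩ := hfacts χ hχ
    have hf : charDegree (χ : G → ℂ) = 56 := (Prod.mk.inj hty).1
    rw [hf] at hzb hzv hzd
    have hz1 : z = 1 := by omega
    subst hz1
    constructor
    · rw [hzv, Complex.normSq_intCast]; norm_num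
    · norm_num at hzd
      omega
  have h189 : ∀ χ ∈ X, (charDegree (χ : G → ℂ), a χ) = (189, -1) →
      (1369 : ℝ) ≤ Complex.normSq ((χ : G → ℂ) (k0 : G)) ∧ (63 : ℤ) ∣ (Ik : ℤ) := by
    intro χ hχ hty
    obtain ⟨z, hz0, hzb, hzv, hzd⟩ := hfacts χ hχ
    have hf : charDegree (χ : G → ℂ) = 189 := (Prod.mk.inj hty).1
    rw [hf] at hzb hzv hzd
    have hz1 : z = 1 ∨ z = 2 ∨ z = 3 ∨ z = 4 := by omega
    rcases hz1 with rfl | rfl | rfl | rfl
    all_goals
      constructor
      · rw [hzv, Complex.normSq_intCast]; norm_num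
      · norm_num at hzd
        omega
  have h96 : ∀ χ ∈ X, (charDegree (χ : G → ℂ), a χ) = (96, 1) →
      (400 : ℝ) ≤ Complex.normSq ((χ : G → ℂ) (k0 : G)) ∧ (12 : ℤ) ∣ (Ik : ℤ) := by
    intro χ hχ hty
    obtain ⟨z, hz0, hzb, hzv, hzd⟩ := hfacts χ hχ
    have hf : charDegree (χ : G → ℂ) = 96 := (Prod.mk.inj hty).1
    rw [hf] at hzb hzv hzd
    have hz1 : z = 1 ∨ z = 2 := by omega
    rcases hz1 with rfl | rfl
    all_goals
      constructor
      · rw [hzv, Complex.normSq_intCast]; norm_num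
      · norm_num at hzd
        omega
  -- divisibility of the class size
  obtain ⟨χA, hχA⟩ := Finset.card_pos.mp (by omega :
    0 < (X.filter fun χ : IrrCharacter G => (charDegree (χ : G → ℂ), a χ) = (56, -1)).card)
  obtain ⟨χB, hχB⟩ := Finset.card_pos.mp (by omega :
    0 < (X.filter fun χ : IrrCharacter G => (charDegree (χ : G → ℂ), a χ) = (189, -1)).card)
  obtain ⟨χC, hχC⟩ := Finset.card_pos.mp (by omega :
    0 < (X.filter fun χ : IrrCharacter G => (charDegree (χ : G → ℂ), a χ) = (96, 1)).card)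
  rw [Finset.mem_filter] at hχA hχB hχC
  have d14 := (h56 χA hχA.1 hχA.2).2
  have d63 := (h189 χB hχB.1 hχB.2).2
  have d12 := (h96 χC hχC.1 hχC.2).2
  have d252 : (252 : ℤ) ∣ (Ik : ℤ) := by omega
  have hcI := (Subgroup.centralizer ({(k0 : G)} : Set G)).card_mul_index
  rw [hcard, ← hIk] at hcI
  have hcle : Nat.card ↥(Subgroup.centralizer ({(k0 : G)} : Set G)) ≤ 1824 := by
    obtain ⟨q, hq⟩ := Int.natCast_dvd_natCast.mp (by exact_mod_cast d252 : ((252 : ℕ) : ℤ) ∣ (Ik : ℤ))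
    rw [hq] at hcI
    have h1 : Nat.card ↥(Subgroup.centralizer ({(k0 : G)} : Set G)) * q = 1824 := by
      have : 252 * (Nat.card ↥(Subgroup.centralizer ({(k0 : G)} : Set G)) * q) = 459648 := by
        rw [← hcI]; ring
      exact Nat.eq_of_mul_eq_mul_left (by norm_num : 0 < 252)
        (this.trans (by norm_num : 459648 = 252 * 1824))
    exact Nat.le_of_dvd (by norm_num) ⟨q, h1.symm⟩
  -- column orthogonality at k
  haveI : Fintype G := Fintype.ofFinite G
  haveI : Fintype (IrrCharacter G) := Fintype.ofFinite _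
  have hcol := sum_irr_mul_conj (k0 : G) (k0 : G)
  have hci : classIndicator (k0 : G) (k0 : G) = 1 := by
    unfold classIndicator
    exact if_pos (IsConj.refl _)
  rw [hci, one_mul] at hcol
  have hcolR : ∑ χ : IrrCharacter G, Complex.normSq ((χ : G → ℂ) (k0 : G)) =
      (Nat.card ↥(Subgroup.centralizer ({(k0 : G)} : Set G)) : ℝ) := by
    have h1 : ((∑ χ : IrrCharacter G, Complex.normSq ((χ : G → ℂ) (k0 : G)) : ℝ) : ℂ) =
        ((Nat.card ↥(Subgroup.centralizer ({(k0 : G)} : Set G)) : ℝ) : ℂ) := by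
      rw [Complex.ofReal_sum]
      push_cast
      rw [← hcol]
      apply Finset.sum_congr rfl
      intro χ _
      rw [Complex.mul_conj]
    exact_mod_cast h1
  -- the trivial character
  let τ : IrrCharacter G := ⟨1, Cfsg.Agent.CharLib.isIrrCharacter_one (G := G)⟩
  have hτX : τ ∉ X := by
    intro h
    exact hXne τ h rfl
  have hsub : ∑ χ ∈ insert τ X, Complex.normSq ((χ : G → ℂ) (k0 : G)) ≤
      ∑ χ : IrrCharacter G, Complex.normSq ((χ : G → ℂ) (k0 : G)) :=
    Finset.sum_le_sum_of_subset_of_nonneg (Finset.subset_univ _)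
      (fun χ _ _ => Complex.normSq_nonneg _)
  rw [Finset.sum_insert hτX] at hsub
  have hτ1 : Complex.normSq ((τ : G → ℂ) (k0 : G)) = 1 := by
    change Complex.normSq ((1 : G → ℂ) (k0 : G)) = 1
    simp
  -- lower bound for the sum over X
  have hW : ∀ χ ∈ X,
      ((if (charDegree (χ : G → ℂ), a χ) = (56, -1) then (400 : ℝ) else 0) +
        (if (charDegree (χ : G → ℂ), a χ) = (189, -1) then (1369 : ℝ) else 0)) +
        (if (charDegree (χ : G → ℂ), a χ) = (96, 1) then (400 : ℝ) else 0) ≤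
      Complex.normSq ((χ : G → ℂ) (k0 : G)) := by
    intro χ hχ
    have hnn := Complex.normSq_nonneg ((χ : G → ℂ) (k0 : G))
    by_cases t1 : (charDegree (χ : G → ℂ), a χ) = (56, -1)
    · have := (h56 χ hχ t1).1
      rw [if_pos t1, if_neg (by rw [t1]; decide), if_neg (by rw [t1]; decide)]
      linarith
    · by_cases t2 : (charDegree (χ : G → ℂ), a χ) = (189, -1)
      · have := (h189 χ hχ t2).1
        rw [if_neg t1, if_pos t2, if_neg (by rw [t2]; decide)]
        linarith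
      · by_cases t3 : (charDegree (χ : G → ℂ), a χ) = (96, 1)
        · have := (h96 χ hχ t3).1
          rw [if_neg t1, if_neg t2, if_pos t3]
          linarith
        · rw [if_neg t1, if_neg t2, if_neg t3]
          linarith
  have hsumW := Finset.sum_le_sum hW
  rw [Finset.sum_add_distrib, Finset.sum_add_distrib, ← Finset.sum_filter, ← Finset.sum_filter,
    ← Finset.sum_filter, Finset.sum_const, Finset.sum_const, Finset.sum_const, nsmul_eq_mul,
    nsmul_eq_mul, nsmul_eq_mul] at hsumW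
  have hA' : (2 : ℝ) ≤ ((X.filter fun χ : IrrCharacter G => (charDegree (χ : G → ℂ), a χ) = (56, -1)).card : ℝ) := by
    exact_mod_cast hA
  have hB' : (1 : ℝ) ≤ ((X.filter fun χ : IrrCharacter G => (charDegree (χ : G → ℂ), a χ) = (189, -1)).card : ℝ) := by
    exact_mod_cast hB
  have hC' : (2 : ℝ) ≤ ((X.filter fun χ : IrrCharacter G => (charDegree (χ : G → ℂ), a χ) = (96, 1)).card : ℝ) := by
    exact_mod_cast hCc
  have hcle' : (Nat.card ↥(Subgroup.centralizer ({(k0 : G)} : Set G)) : ℝ) ≤ 1824 := by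
    exact_mod_cast hcle
  rw [hcolR, hτ1] at hsub
  linarith

end Cfsg.Agent.Lib.Helper7.Ord459648
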