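import Mathlib
import Cfsg.Agent.Lib.Helper7.Ord459648B
import Cfsg.Agent.Lib.Helper1.BLPm1
import Cfsg.Agent.Lib.Helper8.OrdSieveE

/-!
helper7: there is no simple group of order `459648 = 2^7 * 3^3 * 7 * 19`
(Brauer–Leonard analysis at `p = 19`).
-/

set_option autoImplicit false
set_option linter.style.haveILetI false
set_option linter.unusedSectionVars false

namespace Cfsg.Agent.Lib.Helper7.Ord459648

open Cfsg Cfsg.Agent.CharLib Cfsg.Agent.Lib.Helper24
open Cfsg.Agent.Lib.Helper12.BSF Cfsg.Agent.Lib.Helper5.BLFull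
open Cfsg.Agent.Lib.Helper7.BLSearch Cfsg.Agent.Lib.Helper7.BLBound
open Cfsg.Agent.Lib.Helper8.OrdSieve
open scoped ComplexConjugate

universe u

variable {G : Type u} [Group G] [Finite G]

/-- the case `|N(P) : C(P)| = p - 1`: parity of the degree equation -/
theorem case_pm1 [IsSimpleGroup G] (p : ℕ) [hp : Fact p.Prime]
    (P : Sylow p G) (hP : Nat.card (P : Subgroup G) = p)
    (hCN : (Subgroup.centralizer ((P : Subgroup G) : Set G)).relIndex
      (Subgroup.normalizer ((P : Subgroup G) : Set G)) = p - 1)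
    (N' : ℕ) (hN : Nat.card G = p * N') (hN0 : 0 < N') (I : ℕ)
    (hI : (Subgroup.centralizer ((P : Subgroup G) : Set G)).index = I)
    (hCp : Nat.card ↥(Subgroup.centralizer ((P : Subgroup G) : Set G)) ≠ p)
    (hcheck : ((candL N' p I (p - 1) 0).all fun en => decide (en.1 % 2 = 0)) = true) :
    False := by
  classical
  have hpp : p.Prime := hp.out
  obtain ⟨X, c, hXne, hc0, hsq, hcong, hdeg, hval⟩ :=
    Cfsg.Agent.Lib.Helper1.BLPm1.core_pm1 p P hP hCN
  have hp1 : ((p - 1 : ℕ) : ℤ) = (p : ℤ) - 1 := by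
    rw [Nat.cast_sub hpp.one_lt.le]; simp
  have heven : ∀ χ ∈ X, (2 : ℤ) ∣ c χ * (charDegree (χ : G → ℂ) : ℤ) := by
    intro χ hχ
    have ham : c χ ^ 2 ≤ ((p - 1 : ℕ) : ℤ) := by
      rw [hp1, ← hsq]
      exact Finset.single_le_sum (f := fun χ => c χ ^ 2) (fun i _ => sq_nonneg (c i)) hχ
    have hmem := mem_cand p P hP (p - 1) (by have := hpp.one_lt; omega) N' hN hN0 I hI hCp 0 χ
      (hXne χ hχ) (c χ) (hc0 χ hχ) ham (hcong χ hχ) (hval χ hχ)
    rw [List.mem_map] at hmem
    obtain ⟨en, hen, heq⟩ := hmem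
    rw [List.all_eq_true] at hcheck
    have h1 := hcheck en hen
    rw [decide_eq_true_eq] at h1
    have h2 : en.1 = charDegree (χ : G → ℂ) := (Prod.mk.inj heq).1
    rw [h2] at h1
    apply Dvd.dvd.mul_left
    exact_mod_cast Nat.dvd_of_mod_eq_zero h1
  have h2 : (2 : ℤ) ∣ ∑ χ ∈ X, c χ * (charDegree (χ : G → ℂ) : ℤ) := Finset.dvd_sum heven
  omega

set_option maxRecDepth 100000 in
theorem nd_96_2 : ((candL 24192 19 (96 * 2) 2 (2 - 1)).map fun en => (en.1, en.2.1)).Nodup := by
  decide +kernel

set_option maxRecDepth 100000 in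
theorem chk_96_2 :
    blCheck (candL 24192 19 (96 * 2) 2 (2 - 1)) (19 * 24192) 2 ((19 - 1) / 2) = true := by
  decide +kernel

set_option maxRecDepth 100000 in
theorem nd_96_3 : ((candL 24192 19 (96 * 3) 3 (3 - 1)).map fun en => (en.1, en.2.1)).Nodup := by
  decide +kernel

set_option maxRecDepth 100000 in
theorem chk_96_3 :
    blCheck (candL 24192 19 (96 * 3) 3 (3 - 1)) (19 * 24192) 3 ((19 - 1) / 3) = true := by
  decide +kernel

set_option maxRecDepth 100000 in
theorem nd_96_6 : ((candL 24192 19 (96 * 6) 6 (6 - 1)).map fun en => (en.1, en.2.1)).Nodup := by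
  decide +kernel

set_option maxRecDepth 100000 in
theorem chk_96_6 :
    blCheck (candL 24192 19 (96 * 6) 6 (6 - 1)) (19 * 24192) 6 ((19 - 1) / 6) = true := by
  decide +kernel

set_option maxRecDepth 100000 in
theorem nd_96_9 : ((candL 24192 19 (96 * 9) 9 (9 - 1)).map fun en => (en.1, en.2.1)).Nodup := by
  decide +kernel

set_option maxRecDepth 100000 in
theorem chk_96_9 :
    blCheck (candL 24192 19 (96 * 9) 9 (9 - 1)) (19 * 24192) 9 ((19 - 1) / 9) = true := by
  decide +kernel

set_option maxRecDepth 100000 in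
theorem nd_1008_2 : ((candL 24192 19 (1008 * 2) 2 (2 - 1)).map fun en => (en.1, en.2.1)).Nodup := by
  decide +kernel

set_option maxRecDepth 100000 in
theorem chk_1008_2 :
    blCheck (candL 24192 19 (1008 * 2) 2 (2 - 1)) (19 * 24192) 2 ((19 - 1) / 2) = true := by
  decide +kernel

set_option maxRecDepth 100000 in
theorem nd_1008_3 : ((candL 24192 19 (1008 * 3) 3 (3 - 1)).map fun en => (en.1, en.2.1)).Nodup := by
  decide +kernel

set_option maxRecDepth 100000 in
theorem chk_1008_3 :
    blCheck (candL 24192 19 (1008 * 3) 3 (3 - 1)) (19 * 24192) 3 ((19 - 1) / 3) = true := by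
  decide +kernel

set_option maxRecDepth 100000 in
theorem chk_96_18 : ((candL 24192 19 (96 * 18) (19 - 1) 0).all
    fun en => decide (en.1 % 2 = 0)) = true := by
  decide +kernel

set_option maxRecDepth 100000 in
theorem npList_19 : npList 19 1 24192 = [96, 1008] := by decide +kernel

theorem not_simple_459648 {G : Type*} [Group G] [Finite G] [IsSimpleGroup G] :
    Nat.card G ≠ 459648 := by
  intro h
  classical
  have hG : ¬ IsMulCommutative G :=
    Cfsg.Agent.Lib.Helper7.not_comm_of_card_not_prime (by rw [h]; norm_num)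
  have hp : Nat.Prime 19 := by norm_num
  haveI : Fact (Nat.Prime 19) := ⟨hp⟩
  obtain ⟨P⟩ : Nonempty (Sylow 19 G) := inferInstance
  have hN : Nat.card G = 19 * 24192 := by rw [h]
  obtain ⟨hPc, hPi⟩ := Cfsg.Agent.Lib.Helper7.sylow_card_index_of_exact hN (by norm_num) P
  have hN' : Nat.card G = 19 ^ 1 * 24192 := by rw [h]; norm_num
  have hmem := sylow_count_mem hG hp (le_refl 1) (by norm_num : 1 < 24192) hN' (by norm_num)
  rw [npList_19] at hmem
  have hCI := (Subgroup.centralizer ((P : Subgroup G) : Set G)).card_mul_index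
  rw [h] at hCI
  simp only [List.mem_cons, List.not_mem_nil, or_false] at hmem
  rcases hmem with hn | hn
  · -- 96 Sylow subgroups, |N(P)| = 4788
    have hk := card_normalizer_of_count hp (n := 96) (k := 4788) h (by norm_num) P hn
    obtain ⟨hd, hne, hmul⟩ := relIndex_facts hG P hPc hk
    have hgcd : Nat.gcd (4788 / 19) (19 - 1) = 18 := by norm_num
    rw [hgcd] at hd
    generalize hm : (Subgroup.centralizer ((P : Subgroup G) : Set G)).relIndex
      (Subgroup.normalizer ((P : Subgroup G) : Set G)) = m at hd hne hmul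
    have hm18 : m ≤ 18 := Nat.le_of_dvd (by norm_num) hd
    have hmc : m = 2 ∨ m = 3 ∨ m = 6 ∨ m = 9 ∨ m = 18 := by
      interval_cases m <;> omega
    rcases hmc with rfl | rfl | rfl | rfl | rfl
    · have hc : Nat.card ↥(Subgroup.centralizer ((P : Subgroup G) : Set G)) = 2394 := by omega
      rw [hc] at hCI
      exact bl_case hG 19 P hPc 2 (by norm_num) (by norm_num) hm 24192 hN (by norm_num) (96 * 2)
        (by omega) (by rw [hc]; norm_num) nd_96_2 chk_96_2
    · have hc : Nat.card ↥(Subgroup.centralizer ((P : Subgroup G) : Set G)) = 1596 := by omega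
      rw [hc] at hCI
      exact bl_case hG 19 P hPc 3 (by norm_num) (by norm_num) hm 24192 hN (by norm_num) (96 * 3)
        (by omega) (by rw [hc]; norm_num) nd_96_3 chk_96_3
    · have hc : Nat.card ↥(Subgroup.centralizer ((P : Subgroup G) : Set G)) = 798 := by omega
      rw [hc] at hCI
      exact bl_case hG 19 P hPc 6 (by norm_num) (by norm_num) hm 24192 hN (by norm_num) (96 * 6)
        (by omega) (by rw [hc]; norm_num) nd_96_6 chk_96_6
    · have hc : Nat.card ↥(Subgroup.centralizer ((P : Subgroup G) : Set G)) = 532 := by omega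
      rw [hc] at hCI
      exact bl_case hG 19 P hPc 9 (by norm_num) (by norm_num) hm 24192 hN (by norm_num) (96 * 9)
        (by omega) (by rw [hc]; norm_num) nd_96_9 chk_96_9
    · have hc : Nat.card ↥(Subgroup.centralizer ((P : Subgroup G) : Set G)) = 266 := by omega
      rw [hc] at hCI
      exact case_pm1 19 P hPc hm 24192 hN (by norm_num) (96 * 18) (by omega)
        (by rw [hc]; norm_num) chk_96_18
  · -- 1008 Sylow subgroups, |N(P)| = 456
    have hk := card_normalizer_of_count hp (n := 1008) (k := 456) h (by norm_num) P hn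
    obtain ⟨hd, hne, hmul⟩ := relIndex_facts hG P hPc hk
    have hgcd : Nat.gcd (456 / 19) (19 - 1) = 6 := by norm_num
    rw [hgcd] at hd
    generalize hm : (Subgroup.centralizer ((P : Subgroup G) : Set G)).relIndex
      (Subgroup.normalizer ((P : Subgroup G) : Set G)) = m at hd hne hmul
    have hm6 : m ≤ 6 := Nat.le_of_dvd (by norm_num) hd
    have hmc : m = 2 ∨ m = 3 ∨ m = 6 := by
      interval_cases m <;> omega
    rcases hmc with rfl | rfl | rfl
    · have hc : Nat.card ↥(Subgroup.centralizer ((P : Subgroup G) : Set G)) = 228 := by omega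
      rw [hc] at hCI
      exact bl_case hG 19 P hPc 2 (by norm_num) (by norm_num) hm 24192 hN (by norm_num) (1008 * 2)
        (by omega) (by rw [hc]; norm_num) nd_1008_2 chk_1008_2
    · have hc : Nat.card ↥(Subgroup.centralizer ((P : Subgroup G) : Set G)) = 152 := by omega
      rw [hc] at hCI
      exact bl_case hG 19 P hPc 3 (by norm_num) (by norm_num) hm 24192 hN (by norm_num) (1008 * 3)
        (by omega) (by rw [hc]; norm_num) nd_1008_3 chk_1008_3
    · exact case_1008_6 hG h P hPc hm (by omega)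

end Cfsg.Agent.Lib.Helper7.Ord459648
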