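import Mathlib
import Cfsg.Agent.Lib.Helper17.ClassGraph2
import Cfsg.Agent.Lib.Helper1.SZConj

/-!
S4321 market, leaf **E1** `exists_conj_mem_centralizer_compl`: `P` a normal Sylow `p`-subgroup with complement `H₀`; an element
`u ∈ P` whose class size is a power of `p` is `P`-conjugate to an element centralising `H₀` (Schur–Zassenhaus in `C(u)` +
conjugacy of complements).
-/

set_option autoImplicit false

namespace Cfsg.Agent.Lib.Helper7.PSGE1

open Cfsg.Agent.Lib.Helper17.ClassGraph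
open scoped Pointwise

/-- **E1** -/
theorem exists_conj_mem_centralizer_compl {G : Type*} [Group G] [Finite G] (p : ℕ) [Fact p.Prime] (P : Sylow p G)
    (hN : (P : Subgroup G).Normal) (H₀ : Subgroup G) (hH₀ : Subgroup.IsComplement' (P : Subgroup G) H₀)
    {u : G} (hu : u ∈ P) (hind : ∀ b : ℕ, b.Prime → b ∣ ind u → b = p) :
    ∃ a ∈ P, a⁻¹ * u * a ∈ Subgroup.centralizer (H₀ : Set G) := by
  classical
  have hpp : p.Prime := Fact.out
  haveI := hN
  set N : Subgroup G := (P : Subgroup G) with hNdef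
  set C : Subgroup G := Subgroup.centralizer ({u} : Set G) with hCdef
  -- card N is a power of p, index coprime to p
  obtain ⟨k, hk⟩ := IsPGroup.iff_card.mp P.isPGroup'
  have hNidx : Nat.Coprime p N.index := (Nat.Prime.coprime_iff_not_dvd hpp).mpr P.not_dvd_index
  have hcopN : Nat.Coprime (Nat.card N) N.index := by
    rw [hNdef, hk]; exact Nat.Coprime.pow_left k hNidx
  -- ind u is a power of p
  have hpow : C.index = p ^ (ind u).primeFactorsList.length :=
    Nat.eq_prime_pow_of_unique_prime_dvd (ind_pos u).ne' (fun {d} hd hdv => hind d hd hdv)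
  have hcopidx : Nat.Coprime N.index C.index := by
    rw [hpow]; exact (Nat.Coprime.pow_left _ hNidx).symm
  -- relIndex
  have hrel : N.relIndex C = N.index := by
    have h1 := Cfsg.Agent.Lib.Helper4.index_inf_of_coprime N C hcopidx
    have h2 : (N ⊓ C).relIndex C * C.index = (N ⊓ C).index := Subgroup.relIndex_mul_index inf_le_right
    rw [Subgroup.inf_relIndex_right, h1] at h2
    have h3 : C.index ≠ 0 := Subgroup.index_ne_zero_of_finite
    exact Nat.eq_of_mul_eq_mul_right (Nat.pos_of_ne_zero h3) h2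
  -- Schur–Zassenhaus in ↥C
  set N' : Subgroup ↥C := N.subgroupOf C with hN'
  have hpN' : IsPGroup p N' := P.isPGroup'.comap_subtype
  obtain ⟨k', hk'⟩ := IsPGroup.iff_card.mp hpN'
  have hN'idx : N'.index = N.index := by
    rw [hN']; exact hrel
  have hcopN' : Nat.Coprime (Nat.card N') N'.index := by
    rw [hk', hN'idx]; exact Nat.Coprime.pow_left k' hNidx
  obtain ⟨H', hH'⟩ := Subgroup.exists_right_complement'_of_coprime hcopN'
  set H₁ : Subgroup G := H'.map C.subtype with hH₁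
  have hcardH₁ : Nat.card H₁ = N.index := by
    have h1 : Nat.card H₁ = Nat.card H' :=
      Subgroup.card_map_of_injective (Subgroup.subtype_injective C)
    have h2 : N'.index = Nat.card H' := hH'.symm.index_eq_card
    rw [h1, ← h2, hN'idx]
  have hcompl : Subgroup.IsComplement' N H₁ := by
    apply Subgroup.isComplement'_of_coprime
    · rw [hcardH₁]; exact Subgroup.card_mul_index N
    · rw [hcardH₁]; exact hcopN
  have hsolv : Group.IsSolvable ↥N := by
    haveI : Group.IsNilpotent ↥N := P.isPGroup'.isNilpotent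
    infer_instance
  obtain ⟨g, hg⟩ := Cfsg.Agent.Lib.Helper1.sz_conj N hcopN (Or.inl hsolv) H₀ H₁ hH₀ hcompl
  -- g = a * h
  obtain ⟨⟨a, h⟩, hah⟩ := hH₀.2 g
  simp only at hah
  have hconj : MulAut.conj (a : G) • H₀ = H₁ := by
    rw [← hg, ← hah, map_mul, mul_smul, Subgroup.conj_smul_eq_self_of_mem h.2]
  refine ⟨a, a.2, ?_⟩
  rw [Subgroup.mem_centralizer_iff]
  intro h₀ hh₀
  -- a h₀ a⁻¹ ∈ H₁ ≤ C
  have h1 : (a : G) * h₀ * (a : G)⁻¹ ∈ H₁ := by
    rw [← hconj]
    have := Subgroup.smul_mem_pointwise_smul h₀ (MulAut.conj (a : G)) H₀ hh₀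
    simpa [MulAut.smul_def] using this
  have h2 : (a : G) * h₀ * (a : G)⁻¹ ∈ C := by
    rw [hH₁] at h1
    obtain ⟨c, _, hc⟩ := h1
    rw [← hc]
    exact c.2
  have h3 : (a : G) * h₀ * (a : G)⁻¹ * u = u * ((a : G) * h₀ * (a : G)⁻¹) := mem_centralizer_singleton.mp h2
  -- h₀ * (a⁻¹ u a) = (a⁻¹ u a) * h₀
  have e1 : h₀ * ((a : G)⁻¹ * u * a) = (a : G)⁻¹ * ((a : G) * h₀ * (a : G)⁻¹ * u) * a := by group
  have e2 : (a : G)⁻¹ * u * a * h₀ = (a : G)⁻¹ * (u * ((a : G) * h₀ * (a : G)⁻¹)) * a := by group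
  rw [e1, e2, h3]

end Cfsg.Agent.Lib.Helper7.PSGE1
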