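import Mathlib
import Cfsg.Agent.Lib.Helper26.CSDSmall
import Cfsg.Agent.Lib.Helper17.CSDSPEC
import Cfsg.Agent.Lib.Helper2.CSDCAM
import Cfsg.Agent.Lib.Helper8.CSDORD
import Cfsg.Agent.Lib.Helper26.CSDNorm
import Cfsg.Agent.Lib.Helper7.PSGA
import Cfsg.Agent.Lib.Helper7.PSGE1
import Cfsg.Agent.Lib.Helper7.PSGE2
import Cfsg.Agent.Lib.Helper29.PSGB
import Cfsg.Agent.Lib.Helper17.PSGD

/-!
S4321 (3u): the `p`-singular class-size prime graph is connected of diameter at most 3 (assembly; paper proof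
`notes/S4321_plan.md`).  Leaves: A `Helper7.PSGA`, B `Helper29.PSGB`, D `Helper17.PSGD`, E1 `Helper7.PSGE1`,
E2 `Helper7.PSGE2`.
-/

set_option autoImplicit false

namespace Cfsg.Agent.Lib.Helper7.PSGMain

open Cfsg.Agent.Lib.Helper17.ClassGraph Cfsg.Agent.Lib.Helper26.CSD
open Cfsg.Agent.Lib.Helper7.PSGE1 Cfsg.Agent.Lib.Helper7.PSGE2 Cfsg.Agent.Lib.Helper17.PSGD
open scoped commutatorElement

/-- (H0) for `z`: `p` is adjacent to no prime divisor of `ind z` in the `p`-singular class-size graph -/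
def NoEdge {G : Type*} [Group G] (p : ℕ) (z : G) : Prop :=
  ∀ b : ℕ, b.Prime → b ∣ ind z → ∀ y : G, p ∣ orderOf y → ¬ p * b ∣ ind y

variable {G : Type*} [Group G] [Finite G] (p : ℕ) [Fact p.Prime]

/-- Camina's lemma in `C(z)`, stated in `G` -/
theorem cam {z : G} (hz : orderOf z = p) (hzc : z ∉ Subgroup.center G) (h0 : NoEdge p z) :
    ∀ r h : G, r ∈ Subgroup.centralizer ({z} : Set G) → h ∈ Subgroup.centralizer ({z} : Set G) →
      (∃ j : ℕ, orderOf r = p ^ j) → (orderOf h).Coprime p → Commute r h := by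
  intro r h hr hh hrj hhc
  have key := Cfsg.Agent.Lib.Helper2.CSD.camina_commute
    (K := ↥(Subgroup.centralizer ({z} : Set G))) p (Cfsg.Agent.Lib.Helper29.PSG.camina_hyp p hz hzc h0) ⟨r, hr⟩ ⟨h, hh⟩
    (by obtain ⟨j, hj⟩ := hrj; exact ⟨j, by rw [Subgroup.orderOf_mk]; exact hj⟩)
    (by rw [Subgroup.orderOf_mk]; exact hhc)
  exact congrArg Subtype.val key.eq

theorem ind_one : ind (1 : G) = 1 := by
  rw [ind_eq_one_iff]; exact Subgroup.one_mem _

theorem p_dvd_orderOf_of_p_dvd_ind {u : G} (hu : ∃ j : ℕ, orderOf u = p ^ j) (hp : p ∣ ind u) :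
    p ∣ orderOf u := by
  have hpp : p.Prime := Fact.out
  obtain ⟨j, hj⟩ := hu
  rcases j with _ | j
  · exfalso
    have h1 : u = 1 := orderOf_eq_one_iff.mp (by simpa using hj)
    subst h1
    rw [ind_one] at hp
    exact hpp.one_lt.ne' (Nat.dvd_one.mp hp)
  · rw [hj]; exact dvd_pow_self p (Nat.succ_ne_zero j)

/-- (b') -/
theorem prime_dvd_ind_eq {z : G}
    (hcam : ∀ r h : G, r ∈ Subgroup.centralizer ({z} : Set G) → h ∈ Subgroup.centralizer ({z} : Set G) →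
      (∃ j : ℕ, orderOf r = p ^ j) → (orderOf h).Coprime p → Commute r h)
    (h0 : NoEdge p z) {u : G} (huC : u ∈ Subgroup.centralizer ({z} : Set G))
    (hu : ∃ j : ℕ, orderOf u = p ^ j) (hp : p ∣ ind u) {b : ℕ} (hb : b.Prime) (hbu : b ∣ ind u) : b = p := by
  have hpp : p.Prime := Fact.out
  by_contra hne
  by_cases hbz : b ∣ ind z
  · apply h0 b hb hbz u (p_dvd_orderOf_of_p_dvd_ind p hu hp)
    exact Nat.Coprime.mul_dvd_of_dvd_of_dvd ((Nat.coprime_primes hpp hb).mpr (Ne.symm hne)) hp hbu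
  · haveI : Fact b.Prime := ⟨hb⟩
    obtain ⟨B, hB⟩ := exists_sylow_le_of_not_dvd_index (Subgroup.centralizer ({z} : Set G)) hbz
    refine not_dvd_ind_of_sylow_le b u B ?_ hbu
    intro h hh
    rw [mem_centralizer_singleton]
    have hhC := hB hh
    have hord : (orderOf h).Coprime p := by
      obtain ⟨k, hk⟩ := (IsPGroup.iff_orderOf.mp B.isPGroup') ⟨h, hh⟩
      rw [Subgroup.orderOf_mk] at hk
      rw [hk]
      exact Nat.Coprime.pow_left k ((Nat.coprime_primes hb hpp).mpr hne)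
    exact (hcam u h huC hhC hu hord).eq.symm

/-- the end game (glue of E1 + E2) -/
theorem endgame (P : Sylow p G) (hN : (P : Subgroup G).Normal) {z : G} (hzP : z ∈ P)
    (hzZ : ∀ u ∈ P, Commute u z) (hzc : z ∉ Subgroup.center G)
    (hpow : ∀ u ∈ P, p ∣ ind u → ∀ b : ℕ, b.Prime → b ∣ ind u → b = p) :
    ∀ u ∈ P, ¬ p ∣ ind u := by
  have hpp : p.Prime := Fact.out
  haveI := hN
  have hcopN : Nat.Coprime (Nat.card (P : Subgroup G)) (P : Subgroup G).index := by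
    obtain ⟨k, hk⟩ := IsPGroup.iff_card.mp P.isPGroup'
    rw [hk]
    exact Nat.Coprime.pow_left k ((Nat.Prime.coprime_iff_not_dvd hpp).mpr P.not_dvd_index)
  obtain ⟨H₀, hH₀⟩ := Subgroup.exists_right_complement'_of_coprime hcopN
  have hcov : ∀ u ∈ P, (∀ v ∈ P, Commute v u) ∨
      ∃ a ∈ P, a⁻¹ * u * a ∈ Subgroup.centralizer (H₀ : Set G) := by
    intro u hu
    by_cases hpu : p ∣ ind u
    · exact Or.inr (exists_conj_mem_centralizer_compl p P hN H₀ hH₀ hu (hpow u hu hpu))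
    · left
      obtain ⟨Q, hQ⟩ := exists_sylow_le_of_not_dvd_index (Subgroup.centralizer ({u} : Set G)) hpu
      have := Sylow.unique_of_normal P hN
      have hQP : Q = P := Subsingleton.elim _ _
      intro v hv
      rw [← hQP] at hv
      exact mem_centralizer_singleton.mp (hQ hv)
  have hab := cover_endgame p P hN H₀ hH₀ hzP hzZ hzc hcov
  intro u hu
  refine not_dvd_ind_of_sylow_le p u P ?_
  intro v hv
  exact mem_centralizer_singleton.mpr (hab u hu v hv).eq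

/-- Lemma X -/
theorem no_p_dvd_ind {z : G} (hz : orderOf z = p) (hspec : ∀ g : G, Commute z (g * z * g⁻¹))
    (hzc : z ∉ Subgroup.center G) (hpz : ¬ p ∣ ind z) (h0 : NoEdge p z) :
    ∀ u : G, (∃ j : ℕ, orderOf u = p ^ j) → ¬ p ∣ ind u := by
  have hcam := cam p hz hzc h0
  obtain ⟨P, hP⟩ := exists_sylow_le_of_not_dvd_index (Subgroup.centralizer ({z} : Set G)) hpz
  have hPel : ∀ u ∈ P, ∃ j : ℕ, orderOf u = p ^ j := by
    intro u hu
    obtain ⟨k, hk⟩ := (IsPGroup.iff_orderOf.mp P.isPGroup') ⟨u, hu⟩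
    rw [Subgroup.orderOf_mk] at hk
    exact ⟨k, hk⟩
  have hpow : ∀ u ∈ P, p ∣ ind u → ∀ b : ℕ, b.Prime → b ∣ ind u → b = p := by
    intro u hu hpu b hb hbu
    exact prime_dvd_ind_eq p hcam h0 (hP hu) (hPel u hu) hpu hb hbu
  have hN := sylow_normal p hz hspec hcam P hP hpow
  have hall : ∀ u : G, (∃ j : ℕ, orderOf u = p ^ j) → u ∈ P := by
    intro u ⟨j, hj⟩
    have hpg : IsPGroup p (Subgroup.zpowers u) := by
      apply IsPGroup.of_card (n := j)
      rw [Nat.card_zpowers, hj]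
    obtain ⟨Q, hQ⟩ := hpg.exists_le_sylow
    have := Sylow.unique_of_normal P hN
    have : Q = P := Subsingleton.elim _ _
    rw [← this]
    exact hQ (Subgroup.mem_zpowers u)
  have hzP : z ∈ P := hall z ⟨1, by rw [hz, pow_one]⟩
  have hzZ : ∀ u ∈ P, Commute u z := fun u hu => mem_centralizer_singleton.mp (hP hu)
  intro u hu
  exact endgame p P hN hzP hzZ hzc hpow u (hall u hu)

theorem not_mem_center_of_orderOf (hZ : ¬ p ∣ Nat.card ↥(Subgroup.center G)) {t : G} (ht : orderOf t = p) :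
    t ∉ Subgroup.center G := by
  intro h
  apply hZ
  have := orderOf_dvd_natCard (⟨t, h⟩ : ↥(Subgroup.center G))
  rwa [Subgroup.orderOf_mk, ht] at this

theorem exists_not_commute {t : G} (ht : t ∉ Subgroup.center G) : ∃ g : G, ¬ Commute g t := by
  by_contra h
  push Not at h
  apply ht
  rw [Subgroup.mem_center_iff]
  intro g
  exact (h g).eq

theorem ind_ne_one {t : G} (ht : t ∉ Subgroup.center G) : ind t ≠ 1 := by
  intro h
  exact ht ((ind_eq_one_iff t).mp h)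

/-- the commuting core of (ML) -/
theorem adjacent_core (hZ : ¬ p ∣ Nat.card ↥(Subgroup.center G)) {t t' : G} (ht : orderOf t = p)
    (ht' : orderOf t' = p) (hcomm : Commute t t') (hcop : (ind t).Coprime (ind t')) (hpt' : ¬ p ∣ ind t') :
    ∃ a b : ℕ, a.Prime ∧ b.Prime ∧ a ∣ ind t ∧ b ∣ ind t' ∧ ∃ y : G, p ∣ orderOf y ∧ a * b ∣ ind y := by
  have hpp : p.Prime := Fact.out
  have hnc := not_mem_center_of_orderOf p hZ ht
  have hnc' := not_mem_center_of_orderOf p hZ ht'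
  set x := t * t' with hx
  have hx1 : x ≠ 1 := by
    intro h1
    have e : t' = t⁻¹ := by
      rw [hx] at h1
      exact (inv_eq_of_mul_eq_one_right h1).symm
    have e2 : ind t' = ind t := by rw [e, ind_inv]
    rw [e2, Nat.coprime_self] at hcop
    exact ind_ne_one hnc hcop
  have hxp : x ^ p = 1 := by
    rw [hx, hcomm.mul_pow, ← ht, pow_orderOf_eq_one, one_mul, ht, ← ht', pow_orderOf_eq_one]
  have hox : orderOf x = p := by
    have hd : orderOf x ∣ p := orderOf_dvd_of_pow_eq_one hxp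
    rcases (Nat.dvd_prime hpp).mp hd with h | h
    · exact absurd (orderOf_eq_one_iff.mp h) hx1
    · exact h
  have hpx : p ∣ orderOf x := by rw [hox]
  have hdvd : ind x ∣ ind t * ind t' := ind_mul_dvd hcop
  by_cases hA : (ind x).Coprime (ind t')
  · have h1 : ind x ∣ ind t := Nat.Coprime.dvd_of_dvd_mul_right hA hdvd
    have hle : ind (t * t') ≤ ind t := Nat.le_of_dvd (ind_pos t) h1
    have hsmall : Small t' t := fun g => comm_mem_rstab hcop hle g
    obtain ⟨g, hg⟩ := exists_not_commute hnc'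
    have hpt : p ∣ ind t := hsmall.prime_dvd hcop.symm hpp (j := 1) (by rw [ht', pow_one]) hg
    by_contra hcon
    have h0 : NoEdge p t' := by
      intro b hb hbz y hy hdiv
      exact hcon ⟨p, b, hpp, hb, hpt, hbz, y, hy, hdiv⟩
    exact no_p_dvd_ind p ht' (hsmall.commute_conj hcop.symm) hnc' hpt' h0 t ⟨1, by rw [ht, pow_one]⟩ hpt
  · by_cases hB : (ind x).Coprime (ind t)
    · exfalso
      have h1 : ind x ∣ ind t' := Nat.Coprime.dvd_of_dvd_mul_left hB hdvd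
      have hle : ind (t' * t) ≤ ind t' := by
        rw [ind_mul_comm]; exact Nat.le_of_dvd (ind_pos t') h1
      have hsmall : Small t t' := fun g => comm_mem_rstab hcop.symm hle g
      obtain ⟨g, hg⟩ := exists_not_commute hnc
      exact hpt' (hsmall.prime_dvd hcop hpp (j := 1) (by rw [ht, pow_one]) hg)
    · obtain ⟨a, ha, hax, hat⟩ := Nat.Prime.not_coprime_iff_dvd.mp hB
      obtain ⟨b, hb, hbx, hbt'⟩ := Nat.Prime.not_coprime_iff_dvd.mp hA
      refine ⟨a, b, ha, hb, hat, hbt', x, hpx, ?_⟩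
      have hab : a ≠ b := by
        rintro rfl
        have := Nat.Coprime.eq_one_of_dvd (Nat.Coprime.coprime_dvd_left hat hcop) hbt'
        exact ha.one_lt.ne' this
      exact Nat.Coprime.mul_dvd_of_dvd_of_dvd ((Nat.coprime_primes ha hb).mpr hab) hax hbx

/-- one-sided (ML): `p ∤ ind t'` -/
theorem adjacent_half (hZ : ¬ p ∣ Nat.card ↥(Subgroup.center G)) {t t' : G} (ht : orderOf t = p)
    (ht' : orderOf t' = p) (hcop : (ind t).Coprime (ind t')) (hpt' : ¬ p ∣ ind t') :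
    ∃ a b : ℕ, a.Prime ∧ b.Prime ∧ a ∣ ind t ∧ b ∣ ind t' ∧ ∃ y : G, p ∣ orderOf y ∧ a * b ∣ ind y := by
  obtain ⟨P, hP⟩ := exists_sylow_le_of_not_dvd_index (Subgroup.centralizer ({t'} : Set G)) hpt'
  have hpg : IsPGroup p (Subgroup.zpowers t) := by
    apply IsPGroup.of_card (n := 1)
    rw [Nat.card_zpowers, ht, pow_one]
  obtain ⟨Q, hQ⟩ := hpg.exists_le_sylow
  obtain ⟨g, hg⟩ := MulAction.exists_smul_eq G Q P
  have htQ : t ∈ Q := hQ (Subgroup.mem_zpowers t)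
  have h1 : g * t * g⁻¹ ∈ P := by
    have h2 : g * t * g⁻¹ ∈ ((g • Q : Sylow p G) : Subgroup G) := by
      rw [Sylow.smul_def, Sylow.pointwise_smul_def]
      have := Subgroup.smul_mem_pointwise_smul t (MulAut.conj g) (Q : Subgroup G) htQ
      simpa [MulAut.smul_def] using this
    rw [hg] at h2
    exact h2
  have hc : Commute (g * t * g⁻¹) t' := mem_centralizer_singleton.mp (hP h1)
  have ho : orderOf (g * t * g⁻¹) = p := by
    have := (MulAut.conj g).orderOf_eq t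
    rw [MulAut.conj_apply] at this
    rw [this, ht]
  have hcop' : (ind (g * t * g⁻¹)).Coprime (ind t') := by rw [ind_conj]; exact hcop
  obtain ⟨a, b, ha, hb, hat, hbt, hy⟩ := adjacent_core p hZ ho ht' hc hcop' hpt'
  rw [ind_conj] at hat
  exact ⟨a, b, ha, hb, hat, hbt, hy⟩

/-- (ML) -/
theorem exists_adjacent (hZ : ¬ p ∣ Nat.card ↥(Subgroup.center G)) {t t' : G} (ht : orderOf t = p)
    (ht' : orderOf t' = p) :
    ∃ a b : ℕ, a.Prime ∧ b.Prime ∧ a ∣ ind t ∧ b ∣ ind t' ∧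
      (a = b ∨ ∃ y : G, p ∣ orderOf y ∧ a * b ∣ ind y) := by
  have hpp : p.Prime := Fact.out
  by_cases hcop : (ind t).Coprime (ind t')
  · by_cases hpt' : p ∣ ind t'
    · have hpt : ¬ p ∣ ind t := by
        intro h
        have := Nat.Coprime.eq_one_of_dvd (Nat.Coprime.coprime_dvd_left h hcop) hpt'
        exact hpp.one_lt.ne' this
      obtain ⟨a, b, ha, hb, hat, hbt, y, hy, hdiv⟩ := adjacent_half p hZ ht' ht hcop.symm hpt
      exact ⟨b, a, hb, ha, hbt, hat, Or.inr ⟨y, hy, by rwa [mul_comm]⟩⟩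
    · obtain ⟨a, b, ha, hb, hat, hbt, y, hy, hdiv⟩ := adjacent_half p hZ ht ht' hcop hpt'
      exact ⟨a, b, ha, hb, hat, hbt, Or.inr ⟨y, hy, hdiv⟩⟩
  · obtain ⟨a, ha, hat, hat'⟩ := Nat.Prime.not_coprime_iff_dvd.mp hcop
    exact ⟨a, a, ha, ha, hat, hat', Or.inl rfl⟩

/-- (R) -/
theorem exists_orderOf_eq (x : G) (hpx : p ∣ orderOf x) :
    ∃ t : G, orderOf t = p ∧ ind t ∣ ind x := by
  refine ⟨x ^ (orderOf x / p), ?_, Cfsg.Agent.Lib.Helper8.CSD.ind_pow_dvd x _⟩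
  exact orderOf_pow_orderOf_div (orderOf_pos x).ne' hpx

theorem mul_dvd_of_primes {c d n : ℕ} (hc : c.Prime) (hd : d.Prime) (hcd : c ≠ d) (h1 : c ∣ n) (h2 : d ∣ n) :
    c * d ∣ n :=
  Nat.Coprime.mul_dvd_of_dvd_of_dvd ((Nat.coprime_primes hc hd).mpr hcd) h1 h2

/-- S4321 in `ind` vocabulary -/
theorem main (hZ : ¬ p ∣ Nat.card ↥(Subgroup.center G)) (r s : ℕ)
    (hr : (r.Prime ∧ ∃ x : G, p ∣ orderOf x ∧ r ∣ ind x)) (hs : (s.Prime ∧ ∃ x : G, p ∣ orderOf x ∧ s ∣ ind x))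
    (hrs : r ≠ s) :
    (∃ x : G, p ∣ orderOf x ∧ r * s ∣ ind x) ∨
    (∃ t : ℕ, (t.Prime ∧ ∃ x : G, p ∣ orderOf x ∧ t ∣ ind x) ∧ t ≠ r ∧ t ≠ s ∧
      (∃ x : G, p ∣ orderOf x ∧ r * t ∣ ind x) ∧ (∃ x : G, p ∣ orderOf x ∧ t * s ∣ ind x)) ∨
    (∃ t u : ℕ, (t.Prime ∧ ∃ x : G, p ∣ orderOf x ∧ t ∣ ind x) ∧ (u.Prime ∧ ∃ x : G, p ∣ orderOf x ∧ u ∣ ind x) ∧
      t ≠ r ∧ u ≠ s ∧ t ≠ u ∧ (∃ x : G, p ∣ orderOf x ∧ r * t ∣ ind x) ∧
      (∃ x : G, p ∣ orderOf x ∧ t * u ∣ ind x) ∧ (∃ x : G, p ∣ orderOf x ∧ u * s ∣ ind x)) := by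
  obtain ⟨hrp, x, hpx, hrx⟩ := hr
  obtain ⟨hsp, y, hpy, hsy⟩ := hs
  obtain ⟨t, ht, htx⟩ := exists_orderOf_eq p x hpx
  obtain ⟨t', ht', hty⟩ := exists_orderOf_eq p y hpy
  obtain ⟨a, b, ha, hb, hat, hbt, hab⟩ := exists_adjacent p hZ ht ht'
  have hax : a ∣ ind x := dvd_trans hat htx
  have hby : b ∣ ind y := dvd_trans hbt hty
  have va : a.Prime ∧ ∃ x : G, p ∣ orderOf x ∧ a ∣ ind x := ⟨ha, x, hpx, hax⟩
  have vb : b.Prime ∧ ∃ x : G, p ∣ orderOf x ∧ b ∣ ind x := ⟨hb, y, hpy, hby⟩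
  by_cases hra : r = a
  · subst hra
    rcases hab with rfl | ⟨w, hpw, hw⟩
    · exact Or.inl ⟨y, hpy, mul_dvd_of_primes hrp hsp hrs hby hsy⟩
    · by_cases hbs : b = s
      · subst hbs
        exact Or.inl ⟨w, hpw, hw⟩
      · by_cases hbr : b = r
        · subst hbr
          exact Or.inl ⟨y, hpy, mul_dvd_of_primes hrp hsp hrs hby hsy⟩
        · exact Or.inr (Or.inl ⟨b, vb, hbr, hbs, ⟨w, hpw, hw⟩, ⟨y, hpy, mul_dvd_of_primes hb hsp hbs hby hsy⟩⟩)
  · by_cases has : a = s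
    · subst has
      exact Or.inl ⟨x, hpx, mul_dvd_of_primes hrp hsp hrs hrx hax⟩
    · have hra' : a ≠ r := fun h => hra h.symm
      have e1 : ∃ x : G, p ∣ orderOf x ∧ r * a ∣ ind x := ⟨x, hpx, mul_dvd_of_primes hrp ha hra hrx hax⟩
      rcases hab with rfl | ⟨w, hpw, hw⟩
      · exact Or.inr (Or.inl ⟨a, va, hra', has, e1, ⟨y, hpy, mul_dvd_of_primes ha hsp has hby hsy⟩⟩)
      · by_cases hbs : b = s
        · subst hbs
          exact Or.inr (Or.inl ⟨a, va, hra', has, e1, ⟨w, hpw, hw⟩⟩)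
        · by_cases hab' : a = b
          · subst hab'
            exact Or.inr (Or.inl ⟨a, va, hra', has, e1, ⟨y, hpy, mul_dvd_of_primes ha hsp has hby hsy⟩⟩)
          · exact Or.inr (Or.inr ⟨a, b, va, vb, hra', hbs, hab', e1, ⟨w, hpw, hw⟩,
              ⟨y, hpy, mul_dvd_of_primes hb hsp hbs hby hsy⟩⟩)

end Cfsg.Agent.Lib.Helper7.PSGMain
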