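import Cfsg.Agent.Lib.Helper7.ChevBlock

/-! Vectors of integer polynomials in the parameter `t`, and the action of the root elements `x_r(κ t)` on them:
a checker for identities between products of root elements applied to vectors (helper7). -/

set_option autoImplicit false

namespace Cfsg.Agent.Lib.Helper7.PV

open Cfsg Cfsg.Lie Matrix Cfsg.Agent.Lib.Helper7

section poly
variable (F : Type*) [Field F]

/-- evaluation of a dense integer polynomial (Horner) -/
def pEval (p : List ℤ) (t : F) : F := p.foldr (fun c acc => ((c : ℤ) : F) + t * acc) 0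

theorem pEval_nil (t : F) : pEval F [] t = 0 := rfl

theorem pEval_cons (c : ℤ) (p : List ℤ) (t : F) : pEval F (c :: p) t = (c : F) + t * pEval F p t := rfl

end poly

/-- sum of polynomials -/
def pAdd : List ℤ → List ℤ → List ℤ
  | [], q => q
  | a :: p, [] => a :: p
  | a :: p, b :: q => (a + b) :: pAdd p q

/-- scalar multiple -/
def pSmul (c : ℤ) (p : List ℤ) : List ℤ := p.map fun a => c * a

/-- multiplication by `t^k` -/
def pShift : ℕ → List ℤ → List ℤ
  | 0, p => p
  | k + 1, p => 0 :: pShift k p

/-- multiplication by a sparse polynomial -/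
def pMulTerms (s : List (ℕ × ℤ)) (p : List ℤ) : List ℤ :=
  s.foldr (fun km acc => pAdd (pShift km.1 (pSmul km.2 p)) acc) []

/-- sum of a list of polynomials -/
def pSumL (L : List (List ℤ)) : List ℤ := L.foldr pAdd []

/-- the substitution `t ↦ κ t` in a sparse polynomial -/
def scaleT (κ : ℤ) (s : List (ℕ × ℤ)) : List (ℕ × ℤ) := s.map fun km => (km.1, km.2 * κ ^ km.1)

/-- all coefficients vanish -/
def pIsZero (p : List ℤ) : Bool := p.all fun a => a == 0

/-- equality of polynomials -/
def pEq (p q : List ℤ) : Bool := pIsZero (pAdd p (pSmul (-1) q))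

section poly
variable (F : Type*) [Field F]

theorem pEval_add (p q : List ℤ) (t : F) : pEval F (pAdd p q) t = pEval F p t + pEval F q t := by
  induction p generalizing q with
  | nil => simp [pAdd, pEval_nil]
  | cons a p ih =>
    cases q with
    | nil => simp [pAdd, pEval_nil]
    | cons b q =>
      simp only [pAdd, pEval_cons, ih]
      push_cast; ring

theorem pEval_smul (c : ℤ) (p : List ℤ) (t : F) : pEval F (pSmul c p) t = (c : F) * pEval F p t := by
  induction p with
  | nil => simp [pSmul, pEval_nil]
  | cons a p ih =>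
    have : pSmul c (a :: p) = (c * a) :: pSmul c p := rfl
    rw [this, pEval_cons, pEval_cons, ih]
    push_cast; ring

theorem pEval_shift (k : ℕ) (p : List ℤ) (t : F) : pEval F (pShift k p) t = t ^ k * pEval F p t := by
  induction k with
  | zero => simp [pShift]
  | succ k ih =>
    have : pShift (k + 1) p = 0 :: pShift k p := rfl
    rw [this, pEval_cons, ih]
    push_cast; ring

theorem pEval_mulTerms (s : List (ℕ × ℤ)) (p : List ℤ) (t : F) :
    pEval F (pMulTerms s p) t = evalL F s t * pEval F p t := by
  induction s with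
  | nil => simp [pMulTerms, pEval_nil, evalL_nil]
  | cons km s ih =>
    have e1 : pMulTerms (km :: s) p = pAdd (pShift km.1 (pSmul km.2 p)) (pMulTerms s p) := rfl
    have e2 : evalL F (km :: s) t = ((km.2 : ℤ) : F) * t ^ km.1 + evalL F s t := by
      simp [evalL]
    rw [e1, pEval_add, pEval_shift, pEval_smul, ih, e2]
    ring

theorem pEval_sumL (L : List (List ℤ)) (t : F) :
    pEval F (pSumL L) t = (L.map fun p => pEval F p t).sum := by
  induction L with
  | nil => rfl
  | cons p L ih =>
    have : pSumL (p :: L) = pAdd p (pSumL L) := rfl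
    rw [this, pEval_add, ih, List.map_cons, List.sum_cons]

theorem evalL_scaleT (κ : ℤ) (s : List (ℕ × ℤ)) (t : F) :
    evalL F (scaleT κ s) t = evalL F s ((κ : F) * t) := by
  unfold evalL scaleT
  rw [List.map_map]
  congr 1
  apply List.map_congr_left
  intro km _
  simp only [Function.comp]
  push_cast
  rw [mul_pow]; ring

theorem pEval_of_isZero (p : List ℤ) (h : pIsZero p = true) (t : F) : pEval F p t = 0 := by
  induction p with
  | nil => rfl
  | cons a p ih =>
    unfold pIsZero at h
    rw [List.all_cons, Bool.and_eq_true, beq_iff_eq] at h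
    rw [pEval_cons, ih h.2, h.1]
    simp

theorem pEval_eq_of_pEq (p q : List ℤ) (h : pEq p q = true) (t : F) : pEval F p t = pEval F q t := by
  have := pEval_of_isZero F _ h t
  rw [pEval_add, pEval_smul] at this
  have h2 : pEval F p t - pEval F q t = 0 := by rw [← this]; push_cast; ring
  exact sub_eq_zero.mp h2

end poly

section vec
variable (D : ChevalleyDatum)

/-- the entry of a vector of polynomials (given by its Cartan part and its root part) -/
def vget (v : List (List ℤ) × List (List ℤ)) : D.Idx → List ℤ
  | Sum.inl i => v.1.getD i.val []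
  | Sum.inr s => v.2.getD s.val []

/-- the vector of polynomials with given entries -/
def vmk (f : D.Idx → List ℤ) : List (List ℤ) × List (List ℤ) :=
  ((List.finRange D.rank).map fun i => f (Sum.inl i), (List.finRange D.nroots).map fun s => f (Sum.inr s))

theorem getD_map_finRange {α : Type*} (n : ℕ) (g : Fin n → α) (d : α) (i : Fin n) :
    ((List.finRange n).map g).getD i.val d = g i := by
  rw [List.getD_eq_getElem?_getD, List.getElem?_map, List.getElem?_eq_getElem (by simp)]
  simp

theorem vget_vmk (f : D.Idx → List ℤ) (i : D.Idx) : vget D (vmk D f) i = f i := by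
  rcases i with i | s
  · exact getD_map_finRange _ _ _ i
  · exact getD_map_finRange _ _ _ s

/-- one entry of `x_r(κ t) v` -/
def rowApply (r : ℕ) (κ : ℤ) (v : List (List ℤ) × List (List ℤ)) (row : D.Idx) : List ℤ :=
  pAdd (pSumL ((List.finRange D.rank).map fun j =>
      pMulTerms (scaleT κ (polyEntry D r row (Sum.inl j))) (v.1.getD j.val [])))
    (pSumL ((List.finRange D.nroots).map fun s =>
      pMulTerms (scaleT κ (polyEntry D r row (Sum.inr s))) (v.2.getD s.val [])))

/-- the vector `x_r(κ t) v` -/
def applyX (r : ℕ) (κ : ℤ) (v : List (List ℤ) × List (List ℤ)) : List (List ℤ) × List (List ℤ) :=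
  vmk D (rowApply D r κ v)

/-- successive application of a word of root elements (the last letter first) -/
def applyW : List (ℕ × ℤ) → List (List ℤ) × List (List ℤ) → List (List ℤ) × List (List ℤ)
  | [], v => v
  | (r, κ) :: w, v => applyX D r κ (applyW w v)

variable (F : Type*) [Field F]

/-- the vector of polynomials `v` represents the vector `w` at the parameter `t` -/
def Rep (t : F) (v : List (List ℤ) × List (List ℤ)) (w : D.Idx → F) : Prop :=
  ∀ i : D.Idx, w i = pEval F (vget D v i) t

theorem rep_vmk (t : F) (f : D.Idx → List ℤ) : Rep D F t (vmk D f) (fun i => pEval F (f i) t) := by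
  intro i
  rw [vget_vmk]

theorem rep_applyX (t : F) (r : ℕ) (hr : r < D.nroots) (κ : ℤ) (v : List (List ℤ) × List (List ℤ))
    (w : D.Idx → F) (h : Rep D F t v w) :
    Rep D F t (applyX D r κ v) ((D.x F r ((κ : F) * t)).mulVec w) := by
  intro row
  unfold applyX
  rw [vget_vmk]
  unfold rowApply
  rw [pEval_add, pEval_sumL, pEval_sumL, List.map_map, List.map_map]
  show (∑ col, D.x F r ((κ : F) * t) row col * w col) = _
  rw [Fintype.sum_sum_type, Fin.sum_univ_def, Fin.sum_univ_def]
  congr 1
  · congr 1
    apply List.map_congr_left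
    intro j _
    simp only [Function.comp]
    rw [pEval_mulTerms, evalL_scaleT, x_apply_eq D F r hr, h (Sum.inl j)]
    rfl
  · congr 1
    apply List.map_congr_left
    intro s _
    simp only [Function.comp]
    rw [pEval_mulTerms, evalL_scaleT, x_apply_eq D F r hr, h (Sum.inr s)]
    rfl

/-- the matrix of a word with parameters `κ t` -/
def wordMatK (t : F) (w : List (ℕ × ℤ)) : Matrix D.Idx D.Idx F :=
  (w.map fun p => D.x F p.1 (((p.2 : ℤ) : F) * t)).prod

theorem rep_applyW (t : F) (wd : List (ℕ × ℤ)) (hwd : ∀ p ∈ wd, p.1 < D.nroots)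
    (v : List (List ℤ) × List (List ℤ)) (w : D.Idx → F) (h : Rep D F t v w) :
    Rep D F t (applyW D wd v) ((wordMatK D F t wd).mulVec w) := by
  induction wd with
  | nil =>
    have : wordMatK D F t [] = 1 := rfl
    rw [this, Matrix.one_mulVec]
    exact h
  | cons p wd ih =>
    obtain ⟨r, κ⟩ := p
    have e : wordMatK D F t ((r, κ) :: wd) = D.x F r ((κ : F) * t) * wordMatK D F t wd := by
      unfold wordMatK
      rw [List.map_cons, List.prod_cons]
    rw [e, ← Matrix.mulVec_mulVec]
    exact rep_applyX D F t r (hwd (r, κ) List.mem_cons_self) κ _ _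
      (ih (fun q hq => hwd q (List.mem_cons_of_mem _ hq)))

end vec

end Cfsg.Agent.Lib.Helper7.PV
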