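import Cfsg.Agent.Lib.Helper27.ReeCentD

/-! S2343 leaf REE-CONC (helper7): the concrete data `y, x, a, b` in the small Ree group
`²G₂(3^(2m+1)) = twistedG2 K (3^m)` with the hypotheses of helper10's abstract theorem `ree_min_abs`. -/

set_option autoImplicit false

namespace Cfsg.Agent.Lib.Helper7.ReeMinConc

open Cfsg Cfsg.Lie Matrix Cfsg.Agent.Lib.Helper7

section
variable {K : Type*} [Field K] [Fintype K] {m : ℕ}

/-- the abelian subgroup `A = {y(u,v)}` of `U¹` -/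
noncomputable def yEl (m : ℕ) (u v : K) : ↥(twistedG2 K (3 ^ m)) :=
  ⟨reeU (3 ^ m) 0 u v, reeU_mem_twistedG2 (3 ^ m) 0 u v⟩

/-- the elements `x(t)` of `U¹` -/
noncomputable def xEl (m : ℕ) (t : K) : ↥(twistedG2 K (3 ^ m)) :=
  ⟨reeU (3 ^ m) t 0 0, reeU_mem_twistedG2 (3 ^ m) t 0 0⟩

theorem yEl_coe (u v : K) : ((yEl m u v : ↥(twistedG2 K (3 ^ m))) : GL chevG2.Idx K) = reeU (3 ^ m) 0 u v := rfl

theorem xEl_coe (t : K) : ((xEl m t : ↥(twistedG2 K (3 ^ m))) : GL chevG2.Idx K) = reeU (3 ^ m) t 0 0 := rfl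

variable (hK : Fintype.card K = 3 ^ (2 * m + 1))
include hK

theorem yEl_add (u v u' v' : K) : yEl m (u + u') (v + v') = yEl m u v * yEl m u' v' := by
  obtain ⟨τ, hτ⟩ := exists_tauData hK
  have h0 : (0 : K) ^ (3 ^ m) = 0 := zero_pow (theta_pos hτ).ne'
  apply Subtype.ext
  show reeU (3 ^ m) 0 (u + u') (v + v') = reeU (3 ^ m) 0 u v * reeU (3 ^ m) 0 u' v'
  rw [reeU_mul hτ, h0]
  congr 1 <;> ring

theorem xEl_conj (t u v : K) : xEl m t * yEl m u v * (xEl m t)⁻¹ = yEl m u (v + t * u) := by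
  obtain ⟨τ, hτ⟩ := exists_tauData hK
  have h0 : (0 : K) ^ (3 ^ m) = 0 := zero_pow (theta_pos hτ).ne'
  rw [mul_inv_eq_iff_eq_mul]
  apply Subtype.ext
  show reeU (3 ^ m) t 0 0 * reeU (3 ^ m) 0 u v = reeU (3 ^ m) 0 u (v + t * u) * reeU (3 ^ m) t 0 0
  rw [reeU_mul hτ, reeU_mul hτ, h0]
  congr 1 <;> ring

theorem exists_torus (c : K) (hc : c ≠ 0) :
    ∃ (g : ↥(twistedG2 K (3 ^ m))) (c' : K), c' ≠ 0 ∧
      ∀ u v, g * yEl m u v * g⁻¹ = yEl m (c' * u) (c * v) := by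
  obtain ⟨τ, hτ⟩ := exists_tauData hK
  have hsq := sq_dichotomy_of_card hK
  obtain ⟨h, hh, e0⟩ := exists_H_chi0 hτ hsq c⁻¹ (inv_ne_zero hc)
  obtain ⟨hhH, hhG⟩ := Subgroup.mem_inf.mp hh
  have hfix : h ∈ chevG2.diagonalSubgroup K ⊓ fixTau K τ :=
    Subgroup.mem_inf.mpr ⟨hhH, twistedG2_le_fixTau hτ hhG⟩
  obtain ⟨χ, hχ, e⟩ := mem_diagonalSubgroup_char chevG2 mem_G2 K h hhH
  obtain ⟨-, -, n11⟩ := torus_chars hτ h hfix χ hχ e
  have h11 : χ 11 = c := by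
    have h1 : χ 0 = c⁻¹ := by rw [← chi0_diag h χ e, e0]
    rw [n11] at h1
    exact inv_injective h1
  refine ⟨⟨h, hhG⟩, χ 10, hχ.ne0 10 (by decide), ?_⟩
  intro u v
  apply Subtype.ext
  show h * reeU (3 ^ m) 0 u v * h⁻¹ = reeU (3 ^ m) 0 (χ 10 * u) (c * v)
  rw [reeU_conj hτ h hfix χ hχ e, mul_zero, h11]


/-- `q ≡ 3 (mod 4)` for `q = 3^(2m+1)` -/
theorem card_mod_four : Fintype.card K % 4 = 3 := by
  rw [hK, pow_succ, pow_mul, Nat.mul_mod, Nat.pow_mod]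
  norm_num

omit [Field K] [Fintype K] hK in
/-- the same for the literal `3^(2m+1)` -/
theorem three_pow_mod_four (m : ℕ) : 3 ^ (2 * m + 1) % 4 = 3 := by
  rw [pow_succ, pow_mul, Nat.mul_mod, Nat.pow_mod]
  norm_num

/-- **REE-CONC**: the data for `ree_min_abs`. -/
theorem exists_ree_data (hm : 1 ≤ m) :
    ∃ (y : K → K → ↥(twistedG2 K (3 ^ m))) (x : K → ↥(twistedG2 K (3 ^ m)))
      (a b : ↥(twistedG2 K (3 ^ m))),
      (∀ u v u' v', y (u + u') (v + v') = y u v * y u' v') ∧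
      (∀ t u v, x t * y u v * (x t)⁻¹ = y u (v + t * u)) ∧
      (∀ c : K, c ≠ 0 → ∃ (g : ↥(twistedG2 K (3 ^ m))) (c' : K), c' ≠ 0 ∧
        ∀ u v, g * y u v * g⁻¹ = y (c' * u) (c * v)) ∧
      a * a = 1 ∧ b * b = 1 ∧ a * b = b * a ∧
      (∀ u v, a * y u v * a⁻¹ = y u (-v)) ∧
      (∃ g, b = g * a * g⁻¹) ∧ (∃ g, a * b = g * a * g⁻¹) ∧
      (∀ N : Subgroup ↥(twistedG2 K (3 ^ m)), N.Normal → (∃ v, v ≠ 0 ∧ y 0 v ∈ N) → N = ⊤) := by
  classical
  haveI : Fact (Nat.Prime 2) := ⟨Nat.prime_two⟩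
  obtain ⟨τ, hτ⟩ := exists_tauData hK
  have hsq := sq_dichotomy_of_card hK
  obtain ⟨a, haH, ha1, ha2⟩ := ReeSyl.exists_torus_involution hK
  have hafix : (a : GL chevG2.Idx K) ∈ chevG2.diagonalSubgroup K ⊓ fixTau K τ :=
    Subgroup.mem_inf.mpr ⟨haH, twistedG2_le_fixTau hτ a.2⟩
  have ha1' : (a : GL chevG2.Idx K) ≠ 1 := fun h => ha1 (Subtype.ext h)
  have ha2' : (a : GL chevG2.Idx K) * (a : GL chevG2.Idx K) = 1 := congrArg Subtype.val ha2
  -- a Sylow 2-subgroup containing `a`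
  have hsyl := (Cfsg.Agent.S1152.result hK a haH ha1 ha2).2
  have hzp : IsPGroup 2 ↥(Subgroup.zpowers a) := by
    apply Cfsg.Agent.Lib.Helper27.ReeCent.isPGroup_zpowers_of_orderOf 2 a
    exact orderOf_eq_prime (by rw [pow_two]; exact ha2) ha1
  obtain ⟨S, hS⟩ := hzp.exists_le_sylow
  have haS : a ∈ (S : Subgroup ↥(twistedG2 K (3 ^ m))) := hS (Subgroup.mem_zpowers a)
  obtain ⟨hScard, hSexp⟩ := hsyl S
  -- an element `b ∈ S`, `b ≠ 1`, `b ≠ a`
  have hex : ∃ b ∈ (S : Subgroup ↥(twistedG2 K (3 ^ m))), b ≠ 1 ∧ b ≠ a := by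
    by_contra hcon
    push Not at hcon
    have hsub : ∀ s : ↥(S : Subgroup ↥(twistedG2 K (3 ^ m))), s = 1 ∨ s = ⟨a, haS⟩ := by
      intro s
      by_cases h1 : (s : ↥(twistedG2 K (3 ^ m))) = 1
      · left; exact Subtype.ext h1
      · right; exact Subtype.ext (hcon s.1 s.2 h1)
    have : Nat.card ↥(S : Subgroup ↥(twistedG2 K (3 ^ m))) ≤ 2 := by
      have hfin : Finite ↥(S : Subgroup ↥(twistedG2 K (3 ^ m))) := Nat.finite_of_card_ne_zero (by rw [hScard]; norm_num)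
      haveI := Fintype.ofFinite ↥(S : Subgroup ↥(twistedG2 K (3 ^ m)))
      rw [Nat.card_eq_fintype_card]
      calc Fintype.card ↥(S : Subgroup ↥(twistedG2 K (3 ^ m)))
          = (Finset.univ : Finset ↥(S : Subgroup ↥(twistedG2 K (3 ^ m)))).card := rfl
        _ ≤ ({1, ⟨a, haS⟩} : Finset ↥(S : Subgroup ↥(twistedG2 K (3 ^ m)))).card := by
            apply Finset.card_le_card
            intro s _
            rcases hsub s with h | h
            · rw [h]; exact Finset.mem_insert_self _ _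
            · rw [h]; exact Finset.mem_insert_of_mem (Finset.mem_singleton_self _)
        _ ≤ 2 := Finset.card_le_two
    rw [hScard] at this
    omega
  obtain ⟨b, hbS, hb1, hba⟩ := hex
  have hb2 : b * b = 1 := hSexp b hbS
  have hab2 : (a * b) * (a * b) = 1 := hSexp (a * b) (Subgroup.mul_mem _ haS hbS)
  have hainv : a⁻¹ = a := inv_eq_of_mul_eq_one_right ha2
  have hbinv : b⁻¹ = b := inv_eq_of_mul_eq_one_right hb2
  have hcomm : a * b = b * a := by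
    have h1 : a * b = (a * b)⁻¹ := (inv_eq_of_mul_eq_one_right hab2).symm
    rw [h1, _root_.mul_inv_rev, hainv, hbinv]
  have hab1 : a * b ≠ 1 := by
    intro h
    apply hba
    have : b = a⁻¹ := (inv_eq_of_mul_eq_one_right h).symm
    rw [this, hainv]
  refine ⟨yEl m, xEl m, a, b, yEl_add hK, xEl_conj hK, exists_torus hK, ha2, hb2, hcomm, ?_, ?_, ?_, ?_⟩
  · intro u v
    apply Subtype.ext
    show (a : GL chevG2.Idx K) * reeU (3 ^ m) 0 u v * (a : GL chevG2.Idx K)⁻¹ = reeU (3 ^ m) 0 u (-v)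
    rw [invol_conj hτ (a : GL chevG2.Idx K) hafix ha1' ha2', neg_zero]
  · exact Cfsg.Agent.Lib.Helper27.ReeCent.ree_involution_conj hK hm a b ha1 ha2 hb1 hb2
  · exact Cfsg.Agent.Lib.Helper27.ReeCent.ree_involution_conj hK hm a (a * b) ha1 ha2 hab1 hab2
  · intro N hN ⟨v, hv, hvN⟩
    haveI := (ree_simple hK hm).1
    rcases hN.eq_bot_or_eq_top with h | h
    · exfalso
      rw [h, Subgroup.mem_bot] at hvN
      have h1 : reeU (3 ^ m) 0 0 v = 1 := congrArg Subtype.val hvN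
      exact hv ((reeU_eq_one_iff hτ 0 0 v).mp h1).2.2
    · exact h

end

end Cfsg.Agent.Lib.Helper7.ReeMinConc
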