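import Cfsg.Agent.Lib.Helper7.ReeEvenCount
import Cfsg.Agent.Lib.Helper13.SL2TraceCount
import Cfsg.Agent.Lib.Helper13.PSL2

/-! The number of involutions and of elements of order six of the Ree groups `²G₂(q)` (helper7; work package L
of the Ree cluster of helper13). -/

set_option autoImplicit false

namespace Cfsg.Agent.Lib.Helper7.ReeEven

open Cfsg Cfsg.Lie Matrix Cfsg.Agent.Lib.Helper7 Cfsg.Agent.Lib.Helper27.ReeCent

section Abstract

variable {G : Type*} [Group G]

/-- the fibres of `invOf` over conjugate involutions have the same size, with a condition on the order -/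
theorem card_fib_conj_of (P : ℕ → Prop) (g t : G) :
    Nat.card {x : G // (Even (orderOf x) ∧ P (orderOf x)) ∧ invOf x = g * t * g⁻¹} =
      Nat.card {x : G // (Even (orderOf x) ∧ P (orderOf x)) ∧ invOf x = t} := by
  apply Nat.card_congr
  refine Equiv.subtypeEquiv (MulAut.conj g⁻¹).toEquiv (fun x => ?_)
  have h1 : orderOf ((MulAut.conj g⁻¹) x) = orderOf x := MulEquiv.orderOf_eq _ x
  have h2 : invOf ((MulAut.conj g⁻¹) x) = (MulAut.conj g⁻¹) (invOf x) := invOf_map _ x
  show _ ↔ (Even (orderOf ((MulAut.conj g⁻¹) x)) ∧ P (orderOf ((MulAut.conj g⁻¹) x))) ∧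
    invOf ((MulAut.conj g⁻¹) x) = t
  rw [h1, h2]
  constructor
  · rintro ⟨he, hi⟩
    refine ⟨he, ?_⟩
    rw [hi, MulAut.conj_apply]
    group
  · rintro ⟨he, hi⟩
    refine ⟨he, ?_⟩
    rw [← hi, MulAut.conj_apply]
    group

theorem card_prod_fib_of (P : ℕ → Prop) {L : Type*} [Group L] [Finite L] :
    Nat.card {y : Multiplicative (ZMod 2) × L //
        (Even (orderOf y) ∧ P (orderOf y)) ∧ invOf y = (Multiplicative.ofAdd 1, 1)} =
      Nat.card {l : L // Odd (orderOf l) ∧ P (2 * orderOf l)} := by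
  have hiff : ∀ y : Multiplicative (ZMod 2) × L,
      ((Even (orderOf y) ∧ P (orderOf y)) ∧ invOf y = (Multiplicative.ofAdd 1, 1)) ↔
        (y.1 = Multiplicative.ofAdd 1 ∧ (Odd (orderOf y.2) ∧ P (2 * orderOf y.2))) := by
    intro y
    have ho : y.1 = Multiplicative.ofAdd 1 → Odd (orderOf y.2) → orderOf y = 2 * orderOf y.2 := by
      intro hy1 hodd
      rw [Prod.orderOf, hy1, orderOf_sigma]
      exact Nat.Coprime.lcm_eq_mul (Nat.coprime_two_left.mpr hodd)
    constructor
    · rintro ⟨⟨he, hP⟩, hi⟩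
      obtain ⟨h1, h2⟩ := (prod_char y).mp ⟨he, hi⟩
      refine ⟨h1, h2, ?_⟩
      rw [← ho h1 h2]
      exact hP
    · rintro ⟨h1, h2, hP⟩
      obtain ⟨he, hi⟩ := (prod_char y).mpr ⟨h1, h2⟩
      refine ⟨⟨he, ?_⟩, hi⟩
      rw [ho h1 h2]
      exact hP
  apply Nat.card_congr
  refine (Equiv.subtypeEquivRight hiff).trans ?_
  exact
    { toFun := fun y => ⟨y.1.2, y.2.2⟩
      invFun := fun l => ⟨(Multiplicative.ofAdd 1, l.1), rfl, l.2⟩
      left_inv := by
        rintro ⟨⟨a, b⟩, h1, h2⟩
        simp only at h1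
        subst h1
        rfl
      right_inv := fun l => rfl }

/-- the number of elements of even order with a condition on the order -/
theorem card_even_eq_of (P : ℕ → Prop) [Finite G] {L : Type*} [Group L] [Finite L]
    (hL : Subgroup.center L = ⊥) (t₀ : G) (ht₀ : orderOf t₀ = 2)
    (hconj : ∀ t : G, orderOf t = 2 → ∃ g : G, t = g * t₀ * g⁻¹)
    (e : ↥(Subgroup.centralizer ({t₀} : Set G)) ≃* Multiplicative (ZMod 2) × L) :
    Nat.card {x : G // Even (orderOf x) ∧ P (orderOf x)} =
      Nat.card {t : G // orderOf t = 2} * Nat.card {l : L // Odd (orderOf l) ∧ P (2 * orderOf l)} := by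
  have ht₀mem : t₀ ∈ Subgroup.centralizer ({t₀} : Set G) := by
    rw [mem_cent_singleton]
  obtain ⟨t₀', ht₀'⟩ : ∃ t₀' : ↥(Subgroup.centralizer ({t₀} : Set G)), t₀' = ⟨t₀, ht₀mem⟩ := ⟨_, rfl⟩
  have hcentral : ∀ c : ↥(Subgroup.centralizer ({t₀} : Set G)), c * t₀' = t₀' * c := by
    intro c
    apply Subtype.ext
    rw [ht₀']
    exact (mem_cent_singleton t₀ c.1).mp c.2
  have het₀ : e t₀' = (Multiplicative.ofAdd 1, 1) := by
    have hc : ∀ y : Multiplicative (ZMod 2) × L, y * e t₀' = e t₀' * y := by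
      intro y
      obtain ⟨c, rfl⟩ := e.surjective y
      rw [← map_mul, ← map_mul, hcentral]
    have h2 : (e t₀').2 = 1 := by
      have hmem : (e t₀').2 ∈ Subgroup.center L := by
        rw [Subgroup.mem_center_iff]
        intro l
        have := congrArg Prod.snd (hc (1, l))
        simpa using this
      rw [hL, Subgroup.mem_bot] at hmem
      exact hmem
    have hne : e t₀' ≠ 1 := by
      intro h
      have : t₀' = 1 := e.injective (by rw [h, map_one])
      rw [ht₀'] at this
      have h1 : t₀ = 1 := congrArg Subtype.val this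
      rw [h1, orderOf_one] at ht₀
      omega
    rcases sigma_cases (e t₀').1 with h1 | h1
    · exact absurd (Prod.ext h1 h2) hne
    · exact Prod.ext h1 h2
  have hfib0 : Nat.card {x : G // (Even (orderOf x) ∧ P (orderOf x)) ∧ invOf x = t₀} =
      Nat.card {l : L // Odd (orderOf l) ∧ P (2 * orderOf l)} := by
    rw [← card_prod_fib_of P]
    have hcoe : ∀ c : ↥(Subgroup.centralizer ({t₀} : Set G)),
        ((Even (orderOf (c : G)) ∧ P (orderOf (c : G))) ∧ invOf (c : G) = t₀) ↔
          ((Even (orderOf c) ∧ P (orderOf c)) ∧ invOf c = t₀') := by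
      intro c
      have h1 : invOf (c : G) = ((invOf c : ↥(Subgroup.centralizer ({t₀} : Set G))) : G) := by
        unfold invOf
        rw [Subgroup.orderOf_coe, Subgroup.coe_pow]
      rw [Subgroup.orderOf_coe, h1, Subtype.ext_iff, ht₀']
    have hmem : ∀ x : G, ((Even (orderOf x) ∧ P (orderOf x)) ∧ invOf x = t₀) ↔
        (x ∈ Subgroup.centralizer ({t₀} : Set G) ∧ ((Even (orderOf x) ∧ P (orderOf x)) ∧ invOf x = t₀)) := by
      intro x
      constructor
      · intro h
        refine ⟨?_, h⟩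
        rw [mem_cent_singleton]
        have hc := invOf_comm x
        rw [h.2] at hc
        exact hc.symm
      · intro h
        exact h.2
    have e1 : {x : G // (Even (orderOf x) ∧ P (orderOf x)) ∧ invOf x = t₀} ≃
        {c : ↥(Subgroup.centralizer ({t₀} : Set G)) //
          (Even (orderOf c) ∧ P (orderOf c)) ∧ invOf c = t₀'} :=
      ((Equiv.subtypeEquivRight hmem).trans
        (Equiv.subtypeSubtypeEquivSubtypeInter (fun x : G => x ∈ Subgroup.centralizer ({t₀} : Set G))
          (fun x : G => (Even (orderOf x) ∧ P (orderOf x)) ∧ invOf x = t₀)).symm).trans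
        (Equiv.subtypeEquivRight hcoe)
    have e2 : {c : ↥(Subgroup.centralizer ({t₀} : Set G)) //
          (Even (orderOf c) ∧ P (orderOf c)) ∧ invOf c = t₀'} ≃
        {y : Multiplicative (ZMod 2) × L //
          (Even (orderOf y) ∧ P (orderOf y)) ∧ invOf y = (Multiplicative.ofAdd 1, 1)} := by
      refine Equiv.subtypeEquiv e.toEquiv (fun c => ?_)
      show _ ↔ (Even (orderOf (e c)) ∧ P (orderOf (e c))) ∧ invOf (e c) = (Multiplicative.ofAdd 1, 1)
      rw [MulEquiv.orderOf_eq, invOf_map, ← het₀]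
      constructor
      · rintro ⟨h1, h2⟩
        exact ⟨h1, by rw [h2]⟩
      · rintro ⟨h1, h2⟩
        exact ⟨h1, e.injective h2⟩
    exact Nat.card_congr (e1.trans e2)
  have hfib : ∀ t : {t : G // orderOf t = 2},
      Nat.card {x : {x : G // Even (orderOf x) ∧ P (orderOf x)} //
        (⟨invOf x.1, orderOf_invOf x.1 x.2.1⟩ : {t : G // orderOf t = 2}) = t} =
        Nat.card {l : L // Odd (orderOf l) ∧ P (2 * orderOf l)} := by
    intro t
    obtain ⟨g, hg⟩ := hconj t.1 t.2
    rw [← hfib0, ← card_fib_conj_of P g t₀, ← hg]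
    apply Nat.card_congr
    refine (Equiv.subtypeEquivRight (fun x => ?_)).trans
      (Equiv.subtypeSubtypeEquivSubtypeInter (fun x : G => Even (orderOf x) ∧ P (orderOf x))
        (fun x : G => invOf x = t.1))
    rw [Subtype.ext_iff]
  exact card_eq_mul_of_fibers
    (fun x : {x : G // Even (orderOf x) ∧ P (orderOf x)} =>
      (⟨invOf x.1, orderOf_invOf x.1 x.2.1⟩ : {t : G // orderOf t = 2}))
    _ hfib

end Abstract

section PSL2

variable {F : Type*} [Field F] [Fintype F] [CharP F 3]

omit [Fintype F] in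
theorem three_eq_zero : (3 : F) = 0 := by
  have := CharP.cast_eq_zero F 3
  exact_mod_cast this

omit [Fintype F] in
/-- in characteristic three the elements of `SL₂` of order dividing three are those of trace two -/
theorem cube_eq_one_iff (g : SpecialLinearGroup (Fin 2) F) :
    g ^ 3 = 1 ↔ (g : Matrix (Fin 2) (Fin 2) F).trace = 2 := by
  have h3 := three_eq_zero (F := F)
  obtain ⟨τ, hτ⟩ : ∃ τ, τ = (g : Matrix (Fin 2) (Fin 2) F) 0 0 + (g : Matrix (Fin 2) (Fin 2) F) 1 1 := ⟨_, rfl⟩
  have hCH := Cfsg.Agent.Lib.Helper13.cayley_hamilton_two (g : Matrix (Fin 2) (Fin 2) F) g.2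
  rw [← hτ] at hCH
  have hcube : (g : Matrix (Fin 2) (Fin 2) F) ^ 3 =
      (τ ^ 2 - 1) • (g : Matrix (Fin 2) (Fin 2) F) - τ • (1 : Matrix (Fin 2) (Fin 2) F) := by
    have e1 : (g : Matrix (Fin 2) (Fin 2) F) ^ 3 =
        (g : Matrix (Fin 2) (Fin 2) F) * ((g : Matrix (Fin 2) (Fin 2) F) * (g : Matrix (Fin 2) (Fin 2) F)) := by
      rw [pow_succ, pow_two, mul_assoc]
    rw [e1, hCH, mul_sub, mul_one, mul_smul_comm, hCH, smul_sub, smul_smul]
    rw [sub_smul, one_smul, pow_two]
    abel
  have hiff : g ^ 3 = 1 ↔ (g : Matrix (Fin 2) (Fin 2) F) ^ 3 = 1 := by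
    constructor
    · intro h
      have := congrArg (fun x : SpecialLinearGroup (Fin 2) F => (x : Matrix (Fin 2) (Fin 2) F)) h
      simpa using this
    · intro h
      apply Subtype.ext
      simpa using h
  rw [hiff, hcube, Matrix.trace_fin_two, ← hτ]
  constructor
  · intro h
    have h00 := congrFun (congrFun h 0) 0
    have h11 := congrFun (congrFun h 1) 1
    simp only [Matrix.sub_apply, Matrix.smul_apply, Matrix.one_apply_eq, smul_eq_mul, mul_one] at h00 h11
    have hsum : τ ^ 3 - 3 * τ = 2 := by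
      rw [hτ]
      rw [hτ] at h00 h11
      linear_combination h00 + h11
    have : (τ - 2) ^ 3 = 0 := by linear_combination hsum + (-2 * τ ^ 2 + 5 * τ - 2) * h3
    have := pow_eq_zero_iff (n := 3) (by norm_num) |>.mp this
    exact sub_eq_zero.mp this
  · intro h
    rw [h]
    have e1 : ((2 : F) ^ 2 - 1) = 0 := by linear_combination h3
    have e2 : (2 : F) = -1 := by linear_combination h3
    rw [e1, zero_smul, zero_sub, e2, neg_smul, one_smul, neg_neg]

/-- the number of elements of order three of `SL₂(q)`, `q` a power of three -/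
theorem card_SL2_order_three :
    Nat.card {g : SpecialLinearGroup (Fin 2) F // orderOf g = 3} = Fintype.card F ^ 2 - 1 := by
  classical
  have hp3 : Fact (Nat.Prime 3) := ⟨Nat.prime_three⟩
  have h3 := three_eq_zero (F := F)
  have hq : 1 ≤ Fintype.card F := Fintype.card_pos
  have hroots : Nat.card {a : F // a * (2 - a) = 1} = 1 := by
    have : {a : F // a * (2 - a) = 1} ≃ Unit :=
      { toFun := fun _ => ()
        invFun := fun _ => ⟨1, by ring⟩
        left_inv := by
          rintro ⟨a, ha⟩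
          apply Subtype.ext
          have : (a - 1) ^ 2 = 0 := by linear_combination -ha
          have := pow_eq_zero_iff (n := 2) (by norm_num) |>.mp this
          exact (sub_eq_zero.mp this).symm
        right_inv := fun _ => rfl }
    rw [Nat.card_congr this]
    simp
  have hcube : Nat.card {g : SpecialLinearGroup (Fin 2) F // g ^ 3 = 1} = Fintype.card F ^ 2 := by
    rw [Nat.card_congr (Equiv.subtypeEquivRight (fun g => cube_eq_one_iff g)),
      Cfsg.Agent.Lib.Helper13.card_trace_fiber, hroots]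
    have : Fintype.card F * (Fintype.card F - 1) + Fintype.card F * 1 = Fintype.card F * Fintype.card F := by
      rw [← Nat.mul_add, Nat.sub_add_cancel hq]
    rw [this, pow_two]
  -- split off the identity
  have hsplit : Nat.card {g : SpecialLinearGroup (Fin 2) F // g ^ 3 = 1} =
      Nat.card {g : SpecialLinearGroup (Fin 2) F // orderOf g = 3} + 1 := by
    have e : {g : SpecialLinearGroup (Fin 2) F // g ^ 3 = 1} ≃
        Option {g : SpecialLinearGroup (Fin 2) F // orderOf g = 3} :=
      { toFun := fun g => if h : g.1 = 1 then none else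
          some ⟨g.1, orderOf_eq_prime g.2 h⟩
        invFun := fun o => match o with
          | none => ⟨1, one_pow 3⟩
          | some g => ⟨g.1, by have h := pow_orderOf_eq_one g.1; rw [g.2] at h; exact h⟩
        left_inv := by
          rintro ⟨g, hg⟩
          by_cases h : g = 1
          · simp [h]
          · simp [h]
        right_inv := by
          rintro (_ | ⟨g, hg⟩)
          · simp
          · have hne : g ≠ 1 := by
              rintro rfl
              rw [orderOf_one] at hg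
              omega
            simp [hne] }
    rw [Nat.card_congr e, Nat.card_eq_fintype_card, Fintype.card_option, ← Nat.card_eq_fintype_card]
  rw [hcube] at hsplit
  omega

omit [Fintype F] [CharP F 3] in
theorem center_sq (z : SpecialLinearGroup (Fin 2) F)
    (hz : z ∈ Subgroup.center (SpecialLinearGroup (Fin 2) F)) : z * z = 1 := by
  obtain ⟨r, hr⟩ := Cfsg.Agent.Lib.Helper13.scalar_of_mem_center z hz
  have hdet := z.2
  rw [hr, Matrix.det_smul, Matrix.det_one, mul_one, Fintype.card_fin] at hdet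
  apply Subtype.ext
  rw [Matrix.SpecialLinearGroup.coe_mul, hr, smul_mul_smul_comm, mul_one, ← pow_two, hdet, one_smul]
  rfl

/-- the number of elements of order three of `PSL₂(q)`, `q` a power of three -/
theorem card_PSL2_order_three :
    Nat.card {x : ProjectiveSpecialLinearGroup (Fin 2) F // orderOf x = 3} = Fintype.card F ^ 2 - 1 := by
  have hp3 : Fact (Nat.Prime 3) := ⟨Nat.prime_three⟩
  rw [← card_SL2_order_three]
  symm
  obtain ⟨π, hπ⟩ : ∃ π : SpecialLinearGroup (Fin 2) F →* ProjectiveSpecialLinearGroup (Fin 2) F,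
      π = QuotientGroup.mk' (Subgroup.center (SpecialLinearGroup (Fin 2) F)) := ⟨_, rfl⟩
  have hker : ∀ g : SpecialLinearGroup (Fin 2) F, π g = 1 ↔ g ∈ Subgroup.center (SpecialLinearGroup (Fin 2) F) := by
    intro g
    rw [hπ]
    exact QuotientGroup.eq_one_iff g
  have hsurj : Function.Surjective π := by
    rw [hπ]
    exact QuotientGroup.mk'_surjective _
  have hcomm : ∀ z ∈ Subgroup.center (SpecialLinearGroup (Fin 2) F), ∀ g : SpecialLinearGroup (Fin 2) F,
      g * z = z * g := fun z hz g => (Subgroup.mem_center_iff.mp hz g)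
  have hord : ∀ g : SpecialLinearGroup (Fin 2) F, orderOf g = 3 → orderOf (π g) = 3 := by
    intro g hg
    have hg3 : g ^ 3 = 1 := by rw [← hg]; exact pow_orderOf_eq_one g
    apply orderOf_eq_prime
    · rw [← map_pow, hg3, map_one]
    · intro h1
      have hz := (hker g).mp h1
      have h2 := center_sq g hz
      have : g = 1 := by
        calc g = g ^ 3 * (g * g)⁻¹ := by group
          _ = 1 := by rw [hg3, h2]; group
      rw [this, orderOf_one] at hg
      omega
  apply Nat.card_congr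
  refine Equiv.ofBijective (fun g => ⟨π g.1, hord g.1 g.2⟩) ⟨?_, ?_⟩
  · rintro ⟨g, hg⟩ ⟨g', hg'⟩ h
    have h1 : π g = π g' := congrArg Subtype.val h
    have hz : g⁻¹ * g' ∈ Subgroup.center (SpecialLinearGroup (Fin 2) F) := by
      rw [← hker, map_mul, map_inv, h1, inv_mul_cancel]
    obtain ⟨z, hzdef⟩ : ∃ z, z = g⁻¹ * g' := ⟨_, rfl⟩
    rw [← hzdef] at hz
    have hg'z : g' = g * z := by rw [hzdef]; group
    have hz2 := center_sq z hz
    have hg3 : g ^ 3 = 1 := by rw [← hg]; exact pow_orderOf_eq_one g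
    have hg'3 : g' ^ 3 = 1 := by rw [← hg']; exact pow_orderOf_eq_one g'
    have hpow : (g * z) ^ 3 = g ^ 3 * z ^ 3 := (Commute.mul_pow (hcomm z hz g) 3)
    rw [hg'z, hpow, hg3, one_mul] at hg'3
    have hz1 : z = 1 := by
      calc z = z ^ 3 * (z * z)⁻¹ := by group
        _ = 1 := by rw [hg'3, hz2]; group
    apply Subtype.ext
    show g = g'
    rw [hg'z, hz1, mul_one]
  · rintro ⟨x, hx⟩
    obtain ⟨g, rfl⟩ := hsurj x
    have hx3 : (π g) ^ 3 = 1 := by rw [← hx]; exact pow_orderOf_eq_one _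
    obtain ⟨z, hzdef⟩ : ∃ z, z = g ^ 3 := ⟨_, rfl⟩
    have hz : z ∈ Subgroup.center (SpecialLinearGroup (Fin 2) F) := by
      rw [← hker, hzdef, map_pow, hx3]
    have hz2 := center_sq z hz
    have hpow : (g * z) ^ 3 = g ^ 3 * z ^ 3 := (Commute.mul_pow (hcomm z hz g) 3)
    have h3 : (g * z) ^ 3 = 1 := by
      rw [hpow, ← hzdef]
      calc z * z ^ 3 = (z * z) * (z * z) := by rw [pow_succ, pow_two]; simp only [mul_assoc]
        _ = 1 := by rw [hz2, one_mul]
    have hπ' : π (g * z) = π g := by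
      rw [map_mul, (hker z).mpr hz, mul_one]
    have hne : g * z ≠ 1 := by
      intro h
      rw [h, map_one] at hπ'
      rw [← hπ', orderOf_one] at hx
      omega
    refine ⟨⟨g * z, orderOf_eq_prime h3 hne⟩, ?_⟩
    apply Subtype.ext
    exact hπ'

end PSL2

section Ree

variable {K : Type*} [Field K] [Fintype K] {m : ℕ}

/-- the number of involutions of `²G₂(q)` -/
theorem ree_card_order_two (hK : Fintype.card K = 3 ^ (2 * m + 1)) (hm : 1 ≤ m) :
    Nat.card {g : ↥(twistedG2 K (3 ^ m)) // orderOf g = 2} =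
      (3 ^ (2 * m + 1)) ^ 2 * ((3 ^ (2 * m + 1)) ^ 2 - 3 ^ (2 * m + 1) + 1) := by
  have hp2 : Fact (Nat.Prime 2) := ⟨Nat.prime_two⟩
  obtain ⟨a₀, ha₀H, ha₀1, ha₀2⟩ := ReeSyl.exists_torus_involution hK
  have ho : orderOf a₀ = 2 := orderOf_eq_prime (by rw [pow_two]; exact ha₀2) ha₀1
  have hconj : ∀ t : ↥(twistedG2 K (3 ^ m)), orderOf t = 2 → ∃ g : ↥(twistedG2 K (3 ^ m)), t = g * a₀ * g⁻¹ := by
    intro t ht
    have ht1 : t ≠ 1 := by
      rintro rfl
      rw [orderOf_one] at ht
      omega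
    have ht2 : t * t = 1 := by
      have := pow_orderOf_eq_one t
      rwa [ht, pow_two] at this
    exact ree_involution_conj hK hm a₀ t ha₀1 ha₀2 ht1 ht2
  obtain ⟨q, hq⟩ : ∃ q, q = 3 ^ (2 * m + 1) := ⟨_, rfl⟩
  have hq27 : 27 ∣ q := by
    rw [hq]
    have : 2 * m + 1 = 3 + (2 * m - 2) := by omega
    rw [this, pow_add]
    exact Dvd.intro _ rfl
  have hcardC := ree_card_cent_involution hK hm a₀ ha₀1 ha₀2
  have hI := card_invol_mul a₀ ho hconj
  rw [hcardC, Cfsg.Agent.S1069.result hK, ← hq] at hI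
  rw [← hq]
  have hq1 : 27 ≤ q := Nat.le_of_dvd (by rw [hq]; positivity) hq27
  have hpos : 0 < q * (q ^ 2 - 1) := by
    apply Nat.mul_pos (by omega)
    have : 1 < q ^ 2 := by nlinarith
    omega
  apply Nat.eq_of_mul_eq_mul_right hpos
  rw [← hI]
  have h1 : 1 ≤ q ^ 2 := by nlinarith
  have h2 : q ≤ q ^ 2 := by nlinarith
  have h3 : 1 ≤ q := by omega
  zify [h1, h2, h3]
  ring

/-- the number of elements of order six of `²G₂(q)` -/
theorem ree_card_order_six (hK : Fintype.card K = 3 ^ (2 * m + 1)) (hm : 1 ≤ m) :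
    Nat.card {g : ↥(twistedG2 K (3 ^ m)) // orderOf g = 6} =
      (3 ^ (2 * m + 1)) ^ 2 * (3 ^ (2 * m + 1) - 1) * ((3 ^ (2 * m + 1)) ^ 3 + 1) := by
  have hp2 : Fact (Nat.Prime 2) := ⟨Nat.prime_two⟩
  have hchar : CharP K 3 := charP3_of_card hK
  obtain ⟨a₀, ha₀H, ha₀1, ha₀2⟩ := ReeSyl.exists_torus_involution hK
  obtain ⟨⟨e⟩, -⟩ := Cfsg.Agent.S1152.result hK a₀ ha₀H ha₀1 ha₀2
  have ho : orderOf a₀ = 2 := orderOf_eq_prime (by rw [pow_two]; exact ha₀2) ha₀1
  have hconj : ∀ t : ↥(twistedG2 K (3 ^ m)), orderOf t = 2 → ∃ g : ↥(twistedG2 K (3 ^ m)), t = g * a₀ * g⁻¹ := by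
    intro t ht
    have ht1 : t ≠ 1 := by
      rintro rfl
      rw [orderOf_one] at ht
      omega
    have ht2 : t * t = 1 := by
      have := pow_orderOf_eq_one t
      rwa [ht, pow_two] at this
    exact ree_involution_conj hK hm a₀ t ha₀1 ha₀2 ht1 ht2
  obtain ⟨q, hq⟩ : ∃ q, q = 3 ^ (2 * m + 1) := ⟨_, rfl⟩
  have hq27 : 27 ∣ q := by
    rw [hq]
    have : 2 * m + 1 = 3 + (2 * m - 2) := by omega
    rw [this, pow_add]
    exact Dvd.intro _ rfl
  have hcardC := ree_card_cent_involution hK hm a₀ ha₀1 ha₀2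
  rw [← hq] at hcardC
  have hcardL : 2 * Nat.card (Matrix.ProjectiveSpecialLinearGroup (Fin 2) K) = q * (q ^ 2 - 1) := by
    rw [← hcardC, Nat.card_congr e.toEquiv, Nat.card_prod]
    congr 1
    rw [Nat.card_eq_fintype_card, Fintype.card_multiplicative, ZMod.card]
  have hq1 : 27 ≤ q := Nat.le_of_dvd (by rw [hq]; positivity) hq27
  have hK4 : 4 ≤ Nat.card K := by
    rw [Nat.card_eq_fintype_card, hK, ← hq]
    omega
  have hsimple : IsSimpleGroup (Matrix.ProjectiveSpecialLinearGroup (Fin 2) K) :=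
    Matrix.ProjectiveSpecialLinearGroup.rank_two_simple hK4
  have hnp : ¬ (Nat.card (Matrix.ProjectiveSpecialLinearGroup (Fin 2) K)).Prime := by
    intro hp
    have h27 : 27 ∣ 2 * Nat.card (Matrix.ProjectiveSpecialLinearGroup (Fin 2) K) := by
      rw [hcardL]
      exact Dvd.dvd.mul_right hq27 _
    have h27' : 27 ∣ Nat.card (Matrix.ProjectiveSpecialLinearGroup (Fin 2) K) :=
      Nat.Coprime.dvd_of_dvd_mul_left (by norm_num) h27
    have h3 : 3 ∣ Nat.card (Matrix.ProjectiveSpecialLinearGroup (Fin 2) K) := dvd_trans (by norm_num) h27'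
    rcases (Nat.dvd_prime hp).mp h3 with h | h
    · omega
    · rw [← h] at h27'
      omega
  have hL := center_eq_bot_of_simple' hnp
  have key := card_even_eq_of (fun n => n = 6) hL a₀ ho hconj e
  have e6 : {g : ↥(twistedG2 K (3 ^ m)) // orderOf g = 6} ≃
      {g : ↥(twistedG2 K (3 ^ m)) // Even (orderOf g) ∧ orderOf g = 6} :=
    Equiv.subtypeEquivRight (fun g => ⟨fun h => ⟨by rw [h]; decide, h⟩, fun h => h.2⟩)
  have e3 : {l : Matrix.ProjectiveSpecialLinearGroup (Fin 2) K // Odd (orderOf l) ∧ 2 * orderOf l = 6} ≃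
      {l : Matrix.ProjectiveSpecialLinearGroup (Fin 2) K // orderOf l = 3} :=
    Equiv.subtypeEquivRight (fun l => ⟨fun h => by omega, fun h => ⟨by rw [h]; decide, by omega⟩⟩)
  rw [Nat.card_congr e6, key, Nat.card_congr e3, card_PSL2_order_three, ree_card_order_two hK hm, hK, ← hq]
  have h1 : 1 ≤ q ^ 2 := by nlinarith
  have h2 : q ≤ q ^ 2 := by nlinarith
  have h3 : 1 ≤ q := by omega
  zify [h1, h2, h3]
  ring

end Ree

end Cfsg.Agent.Lib.Helper7.ReeEven
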