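import Mathlib
import Cfsg.Prelude.Def_Blocks
import Cfsg.Agent.Lib.Lead.CharOrtho

/-!
# S0960 from S4441 (helper7)

`result_of`: the conclusion of S0960 from a verbatim copy of the conclusion of S4441 (same `G, p, M, P, e`).
-/

set_option autoImplicit false
open Cfsg

namespace Cfsg.Agent.Lib.Helper7.S0960Of

theorem result_of {G : Type*} [Group G] [Finite G] (p : ℕ) [Fact p.Prime] (M : Ideal Cfsg.AlgInt)
    (P : Sylow p G) (e : ℕ)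
    (h : ∃ X Y : Set (Cfsg.IrrCharacter G), Cfsg.principalBlock M G = X ∪ Y ∧ Disjoint X Y ∧ Nat.card X = e ∧ Nat.card Y = (p - 1) / e ∧ ∃ (εX : Cfsg.IrrCharacter G → ℤ) (ε : ℤ), (∀ χ ∈ X, (εX χ = 1 ∨ εX χ = -1) ∧ (Cfsg.charDegree (χ : G → ℂ) : ℤ) ≡ εX χ [ZMOD p] ∧ ∀ x : G, x ∈ (P : Subgroup G) → x ≠ 1 → ∀ y : G, y ∈ Subgroup.centralizer ((P : Subgroup G) : Set G) → ¬ p ∣ orderOf y → (χ : G → ℂ) (x * y) = (εX χ : ℂ)) ∧ (ε = 1 ∨ ε = -1) ∧ (∀ θ ∈ Y, (Cfsg.charDegree (θ : G → ℂ) : ℤ) ≡ ε * (e : ℤ) [ZMOD p]) ∧ (∀ θ ∈ Y, ∀ θ' ∈ Y, ∀ g : G, ¬ p ∣ orderOf g → (θ : G → ℂ) g = (θ' : G → ℂ) g) ∧ ∀ θ ∈ Y, ∀ g : G, ¬ p ∣ orderOf g → (ε : ℂ) * (θ : G → ℂ) g = ∑ᶠ χ ∈ X, (εX χ : ℂ) * (χ : G → ℂ) g) :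
    Nat.card (Cfsg.principalBlock M G) = e + (p - 1) / e ∧ ∀ χ ∈ Cfsg.principalBlock M G, ((Cfsg.charDegree (χ : G → ℂ) : ℤ) ≡ 1 [ZMOD p] ∨ (Cfsg.charDegree (χ : G → ℂ) : ℤ) ≡ -1 [ZMOD p] ∨ (Cfsg.charDegree (χ : G → ℂ) : ℤ) ≡ (e : ℤ) [ZMOD p] ∨ (Cfsg.charDegree (χ : G → ℂ) : ℤ) ≡ -(e : ℤ) [ZMOD p]) := by
  classical
  obtain ⟨X, Y, hXY, hdisj, hX, hY, εX, ε, hXprop, hε, hYdeg, -, -⟩ := h
  constructor
  · rw [hXY, Nat.card_coe_set_eq, Set.ncard_union_eq hdisj (Set.toFinite X) (Set.toFinite Y),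
      ← Nat.card_coe_set_eq, ← Nat.card_coe_set_eq, hX, hY]
  · intro χ hχ
    rw [hXY] at hχ
    rcases hχ with hχ | hχ
    · obtain ⟨hs, hdeg, -⟩ := hXprop χ hχ
      rcases hs with hs | hs
      · left; rw [hs] at hdeg; exact hdeg
      · right; left; rw [hs] at hdeg; exact hdeg
    · have hdeg := hYdeg χ hχ
      rcases hε with hs | hs
      · right; right; left; rw [hs, one_mul] at hdeg; exact hdeg
      · right; right; right; rw [hs, neg_one_mul] at hdeg; exact hdeg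

end Cfsg.Agent.Lib.Helper7.S0960Of
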