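/-
S3385 (SIMS market, planner helper18), leaf SIMS-L3 (frozen statement in notes/S3385_leaves.lean):
inequality A of the Tutte-Sims argument, `2 l ≤ n + 2`.
-/
import Mathlib
import Cfsg.Agent.Lib.Helper18.Sims3Defs

set_option autoImplicit false

namespace Cfsg.Agent.Lib.Helper7.SIMSL3

open Cfsg Cfsg.Agent.Lib.Helper29.TWPair Cfsg.Agent.Lib.Helper18.Sims3 MulAction

variable {G : Type*} [Group G]

/-- an element commuting with `y` normalizes `zpowers y`. -/
theorem mem_normalizer_zpowers_of_commute {a y : G} (hc : Commute a y) :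
    a ∈ Subgroup.normalizer ((Subgroup.zpowers y : Subgroup G) : Set G) := by
  have key : ∀ w ∈ Subgroup.zpowers y, a * w * a⁻¹ = w := by
    intro w hw
    obtain ⟨k, rfl⟩ := Subgroup.mem_zpowers_iff.mp hw
    have h1 := hc.zpow_right k
    rw [h1.eq, mul_inv_cancel_right]
  rw [Subgroup.mem_normalizer_iff]
  intro w
  constructor
  · intro hw
    rw [key w hw]
    exact hw
  · intro hw
    have h1 := key _ hw
    have h2 : a * w * a⁻¹ = w := by
      have h3 : a * (a * w * a⁻¹) = (a * w * a⁻¹) * a := by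
        calc a * (a * w * a⁻¹) = (a * (a * w * a⁻¹) * a⁻¹) * a := by group
          _ = (a * w * a⁻¹) * a := by rw [h1]
      have h4 : a * w = w * a := by
        have h5 : a * (a * w * a⁻¹) * a = a * ((a * w * a⁻¹) * a) := by group
        have h6 : a * (a * w * a⁻¹) * a = a * (a * w) := by group
        have h7 : a * ((a * w * a⁻¹) * a) = a * (a * w) := by group
        have h8 : (a * w * a⁻¹) * a * a = a * w * a := by group
        calc a * w = a⁻¹ * (a * (a * w * a⁻¹)) * a := by group
          _ = a⁻¹ * ((a * w * a⁻¹) * a) * a := by rw [h3]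
          _ = w * a := by group
      rw [h4, mul_inv_cancel_right]
    rw [h2] at hw
    exact hw

/-- **SIMS-L3** (inequality A: `n ≥ 2 l - 2`). -/
theorem two_mul_le {g : G} {x : ℕ → G} {n : ℕ} (h : TSData g x n) (h1 : 1 ≤ n)
    (l : ℕ) (hl : CommLt x l) : 2 * l ≤ n + 2 := by
  by_contra hcon
  rw [not_le] at hcon
  obtain ⟨i, hil, hin, hor⟩ : ∃ i, i ≤ l - 1 ∧ i ≤ n ∧ (i = l - 1 ∨ i = n) := by
    refine ⟨min (l - 1) n, min_le_left _ _, min_le_right _ _, ?_⟩
    rcases min_choice (l - 1) n with h2 | h2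
    · exact Or.inl h2
    · exact Or.inr h2
  have hcomm : ∀ j, j ≤ n + 1 → Commute (x j) (x i) := by
    intro j hj
    rcases le_total j i with hji | hij
    · have h2 := hl j (i - j) (by omega)
      rwa [Nat.add_sub_cancel' hji] at h2
    · have h2 := hl i (j - i) (by omega)
      rw [Nat.add_sub_cancel' hij] at h2
      exact h2.symm
  have hN : Subgroup.zpowers (x i) = ⊥ := by
    apply h.core
    · rw [Subgroup.zpowers_le]
      exact Subgroup.subset_closure ⟨i, ⟨Nat.zero_le _, hin⟩, rfl⟩
    · intro j hj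
      exact mem_normalizer_zpowers_of_commute (hcomm j hj)
  have hxi : x i = 1 := by rwa [Subgroup.zpowers_eq_bot] at hN
  have hcard := h.card i i le_rfl (by omega)
  have hH : Hx x i i = ⊥ := by
    unfold Hx
    rw [Set.Icc_self, Set.image_singleton, hxi, Subgroup.closure_singleton_one]
  rw [hH] at hcard
  simp at hcard

end Cfsg.Agent.Lib.Helper7.SIMSL3
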