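/-
S3385 (SIMS market, planner helper18), leaf SIMS-T2B2 (frozen statement in notes/S3385_leaves.lean):
the regularity lemma: a stabilised term of the chain `D_0 ⊓ D_1 ⊓ ...` is trivial.
-/
import Mathlib
import Cfsg.Agent.Lib.Helper18.Sims3Defs

set_option autoImplicit false

namespace Cfsg.Agent.Lib.Helper7.SIMST2B2

open Cfsg Cfsg.Agent.Lib.Helper29.TWPair Cfsg.Agent.Lib.Helper18.Sims3 MulAction

variable {G : Type*} [Group G]

/-! ### conjugate subgroups -/

theorem mem_cj (g : G) (S : Subgroup G) (x : G) : x ∈ cj g S ↔ g⁻¹ * x * g ∈ S := by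
  constructor
  · rintro ⟨y, hy, rfl⟩
    have h1 : g⁻¹ * ((MulAut.conj g).toMonoidHom y) * g = y := by
      change g⁻¹ * (g * y * g⁻¹) * g = y
      group
    rw [h1]
    exact hy
  · intro h
    refine ⟨g⁻¹ * x * g, h, ?_⟩
    change g * (g⁻¹ * x * g) * g⁻¹ = x
    group

theorem cj_mono (g : G) {S T : Subgroup G} (h : S ≤ T) : cj g S ≤ cj g T :=
  Subgroup.map_mono h

theorem cj_inv_cj (g : G) (S : Subgroup G) : cj g⁻¹ (cj g S) = S := by
  ext x
  rw [mem_cj, mem_cj]
  have h1 : g⁻¹ * (g⁻¹⁻¹ * x * g⁻¹) * g = x := by group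
  rw [h1]

theorem cj_inf (g : G) (S T : Subgroup G) : cj g (S ⊓ T) = cj g S ⊓ cj g T := by
  ext x
  simp only [mem_cj, Subgroup.mem_inf]

theorem card_cj (g : G) (S : Subgroup G) : Nat.card ↥(cj g S) = Nat.card ↥S :=
  Subgroup.card_map_of_injective (MulAut.conj g).injective

theorem cj_le_of_mem {N S : Subgroup G} {g : G} (hg : g ∈ N) (hS : S ≤ N) : cj g S ≤ N := by
  intro x hx
  rw [mem_cj] at hx
  have h1 : x = g * (g⁻¹ * x * g) * g⁻¹ := by group
  rw [h1]
  exact N.mul_mem (N.mul_mem hg (hS hx)) (N.inv_mem hg)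

theorem relIndex_cj (g : G) (S T : Subgroup G) : (cj g S).relIndex (cj g T) = S.relIndex T := by
  have h1 : (cj g S).relIndex (cj g T) = (S.map (MulAut.conj g).toMonoidHom).relIndex
      (T.map (MulAut.conj g).toMonoidHom) := rfl
  rw [h1]
  exact Subgroup.relIndex_map_map_of_injective S T (MulAut.conj g).injective

/-! ### the chain -/

theorem Dn_zero (g : G) (D : Subgroup G) : Dn g D 0 = D := by
  ext x
  unfold Dn
  rw [mem_cj]
  simp

theorem cj_Dn (g : G) (D : Subgroup G) (i : ℕ) : cj g (Dn g D i) = Dn g D (i + 1) := by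
  ext x
  unfold Dn
  rw [mem_cj, mem_cj, mem_cj]
  have h1 : (g ^ i)⁻¹ * (g⁻¹ * x * g) * g ^ i = (g ^ (i + 1))⁻¹ * x * g ^ (i + 1) := by
    rw [pow_succ']
    group
  rw [h1]

theorem mem_Fc (g : G) (D : Subgroup G) (i k : ℕ) (x : G) :
    x ∈ Fc g D i k ↔ ∀ l, l ≤ k → x ∈ Dn g D (i + l) := by
  unfold Fc
  rw [Subgroup.mem_iInf]
  constructor
  · intro h l hl
    exact h ⟨l, Nat.lt_succ_of_le hl⟩
  · intro h l
    exact h l (Nat.lt_succ_iff.mp l.2)

theorem Fc_zero (g : G) (D : Subgroup G) (i : ℕ) : Fc g D i 0 = Dn g D i := by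
  ext x
  rw [mem_Fc]
  constructor
  · intro h
    have := h 0 le_rfl
    rwa [Nat.add_zero] at this
  · intro h l hl
    have hl0 : l = 0 := by omega
    rw [hl0, Nat.add_zero]
    exact h

theorem cj_Fc (g : G) (D : Subgroup G) (i k : ℕ) : cj g (Fc g D i k) = Fc g D (i + 1) k := by
  ext x
  rw [mem_cj, mem_Fc, mem_Fc]
  constructor
  · intro h l hl
    have h1 := h l hl
    rw [← mem_cj, cj_Dn] at h1
    have e : i + 1 + l = i + l + 1 := by omega
    rw [e]
    exact h1
  · intro h l hl
    have h1 := h l hl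
    have e : i + 1 + l = i + l + 1 := by omega
    rw [e, ← cj_Dn, mem_cj] at h1
    exact h1

theorem Fc_succ (g : G) (D : Subgroup G) (i k : ℕ) :
    Fc g D i (k + 1) = Fc g D i k ⊓ Dn g D (i + k + 1) := by
  ext x
  rw [Subgroup.mem_inf, mem_Fc, mem_Fc]
  constructor
  · intro h
    refine ⟨fun l hl => h l (by omega), ?_⟩
    have h1 := h (k + 1) le_rfl
    have e : i + (k + 1) = i + k + 1 := by omega
    rwa [e] at h1
  · rintro ⟨h1, h2⟩ l hl
    rcases Nat.lt_or_ge l (k + 1) with hlt | hge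
    · exact h1 l (by omega)
    · have hl1 : l = k + 1 := by omega
      have e : i + l = i + k + 1 := by omega
      rw [e]
      exact h2

theorem Fc_succ' (g : G) (D : Subgroup G) (i k : ℕ) :
    Fc g D i (k + 1) = Dn g D i ⊓ Fc g D (i + 1) k := by
  ext x
  rw [Subgroup.mem_inf, mem_Fc, mem_Fc]
  constructor
  · intro h
    refine ⟨?_, fun l hl => ?_⟩
    · have h1 := h 0 (by omega)
      rwa [Nat.add_zero] at h1
    · have h1 := h (l + 1) (by omega)
      have e : i + (l + 1) = i + 1 + l := by omega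
      rwa [e] at h1
  · rintro ⟨h1, h2⟩ l hl
    rcases Nat.eq_zero_or_pos l with h0 | hpos
    · rw [h0, Nat.add_zero]
      exact h1
    · have h3 := h2 (l - 1) (by omega)
      have e : i + 1 + (l - 1) = i + l := by omega
      rwa [e] at h3

/-! ### a subgroup strictly between a subgroup of prime index and the group -/

theorem le_of_relIndex_dvd_prime {E S F : Subgroup G} (hES : E ≤ S) (hSF : S ≤ F) (p : ℕ)
    (hp : p.Prime) (hdvd : E.relIndex F ∣ p) (hne : ¬ S ≤ E) : F ≤ S := by
  have h1 := Subgroup.relIndex_mul_relIndex E S F hES hSF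
  have h2 : E.relIndex S ≠ 1 := by
    intro h
    exact hne (Subgroup.relIndex_eq_one.mp h)
  have h3 : E.relIndex S ∣ p := Dvd.dvd.trans (Dvd.intro _ h1) hdvd
  have h4 : E.relIndex S = p := by
    rcases (Nat.dvd_prime hp).mp h3 with h | h
    · exact absurd h h2
    · exact h
  have h5 : p * S.relIndex F ∣ p * 1 := by
    rw [mul_one, ← h4, h1, h4]
    exact hdvd
  have h6 : S.relIndex F ∣ 1 := Nat.dvd_of_mul_dvd_mul_left hp.pos h5
  exact Subgroup.relIndex_eq_one.mp (Nat.dvd_one.mp h6)

/-- **SIMS-T2B2** (regularity lemma). -/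
theorem Fc_eq_bot_of_stable [Finite G] {A B : Subgroup G} (h : TS A B) (g : G) (hg : B = cj g A)
    (hne : cj g (A ⊓ B) ≠ A ⊓ B)
    (hstep : ∀ i k, (Fc g (A ⊓ B) i (k + 1)).relIndex (Fc g (A ⊓ B) i k) ∣ 2) (k : ℕ)
    (hstrict : ∀ j, j < k → Fc g (A ⊓ B) 0 (j + 1) ≠ Fc g (A ⊓ B) 0 j)
    (hstab : Fc g (A ⊓ B) 0 (k + 1) = Fc g (A ⊓ B) 0 k) : Fc g (A ⊓ B) 0 k = ⊥ := by
  set D := A ⊓ B with hD
  -- `cj g D ≤ D` is impossible
  have hnle : ¬ cj g D ≤ D := by
    intro hle
    apply hne
    exact Subgroup.eq_of_le_of_card_ge hle (le_of_eq (card_cj g D).symm)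
  rcases Nat.eq_zero_or_pos k with hk0 | hkpos
  · -- `k = 0`
    exfalso
    subst hk0
    rw [Fc_succ, Fc_zero, Dn_zero] at hstab
    have h1 : D ≤ Dn g D (0 + 0 + 1) := by
      have h2 : D ⊓ Dn g D (0 + 0 + 1) ≤ Dn g D (0 + 0 + 1) := inf_le_right
      rwa [hstab] at h2
    have e : Dn g D (0 + 0 + 1) = cj g D := by
      rw [← cj_Dn]
      exact congrArg (cj g) (Dn_zero g D)
    rw [e] at h1
    apply hne
    exact (Subgroup.eq_of_le_of_card_ge h1 (le_of_eq (card_cj g D))).symm
  · obtain ⟨k', rfl⟩ : ∃ k', k = k' + 1 := ⟨k - 1, by omega⟩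
    set E := Fc g D 0 (k' + 1) with hE
    set Nz := Subgroup.normalizer ((E : Subgroup G) : Set G) with hNz
    -- (a) `g` normalizes `E`
    have hEcj : E = cj g E := by
      have h1 : E ≤ cj g E := by
        rw [cj_Fc]
        have h2 : Fc g D 0 (k' + 1 + 1) ≤ Fc g D (0 + 1) (k' + 1) := by
          rw [Fc_succ']
          exact inf_le_right
        rw [hstab] at h2
        exact h2
      exact Subgroup.eq_of_le_of_card_ge h1 (le_of_eq (card_cj g E))
    have hgN : g ∈ Nz := by
      rw [hNz, Subgroup.mem_normalizer_iff]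
      intro y
      constructor
      · intro hy
        rw [hEcj, mem_cj]
        have h1 : g⁻¹ * (g * y * g⁻¹) * g = y := by group
        rw [h1]
        exact hy
      · intro hy
        rw [hEcj, mem_cj] at hy
        have h1 : g⁻¹ * (g * y * g⁻¹) * g = y := by group
        rwa [h1] at hy
    have hgiN : g⁻¹ ∈ Nz := Nz.inv_mem hgN
    -- (b) `Fc 0 k'` normalizes `E`
    have hEF : E ≤ Fc g D 0 k' := by
      rw [hE, Fc_succ]
      exact inf_le_left
    have hFN : Fc g D 0 k' ≤ Nz := by
      have h1 : E.relIndex (Fc g D 0 k') = 2 := by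
        have h2 := hstep 0 k'
        rcases (Nat.dvd_prime Nat.prime_two).mp h2 with h3 | h3
        · exfalso
          have h4 : Fc g D 0 k' ≤ E := Subgroup.relIndex_eq_one.mp h3
          exact hstrict k' (by omega) (le_antisymm hEF h4)
        · exact h3
      have h5 : (E.subgroupOf (Fc g D 0 k')).Normal := Subgroup.normal_of_index_eq_two h1
      exact (Subgroup.normal_subgroupOf_iff_le_normalizer hEF).mp h5
    -- (c) downward induction
    have hdown : ∀ d, d ≤ k' → Fc g D 0 (k' - d) ≤ Nz := by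
      intro d
      induction d with
      | zero =>
        intro _
        exact hFN
      | succ d ih =>
        intro hd
        have ih' := ih (by omega)
        obtain ⟨j, hj⟩ : ∃ j, k' - (d + 1) = j := ⟨_, rfl⟩
        have hj1 : k' - d = j + 1 := by omega
        rw [hj]
        rw [hj1] at ih'
        -- `Fc 1 (j+1) ≤ Nz`
        have h1 : Fc g D (0 + 1) (j + 1) ≤ Nz := by
          rw [← cj_Fc]
          exact cj_le_of_mem hgN ih'
        have hA1 : Fc g D 0 (j + 1) ≤ Fc g D (0 + 1) j := by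
          rw [Fc_succ']
          exact inf_le_right
        have hA2 : Fc g D (0 + 1) (j + 1) ≤ Fc g D (0 + 1) j := by
          rw [Fc_succ]
          exact inf_le_left
        have hnot : ¬ Fc g D 0 (j + 1) ⊔ Fc g D (0 + 1) (j + 1) ≤ Fc g D (0 + 1) (j + 1) := by
          intro hle
          have h2 : Fc g D 0 (j + 1) ≤ Fc g D (0 + 1) (j + 1) := le_trans le_sup_left hle
          have h3 : Fc g D (0 + 1) (j + 1) ≤ Dn g D (0 + 1 + j + 1) := by
            rw [Fc_succ]
            exact inf_le_right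
          apply hstrict (j + 1) (by omega)
          rw [Fc_succ]
          apply le_antisymm inf_le_left
          apply le_inf le_rfl
          have e : 0 + (j + 1) + 1 = 0 + 1 + j + 1 := by omega
          rw [e]
          exact le_trans h2 h3
        have h4 : Fc g D (0 + 1) j ≤ Fc g D 0 (j + 1) ⊔ Fc g D (0 + 1) (j + 1) :=
          le_of_relIndex_dvd_prime le_sup_right (sup_le hA1 hA2) 2 Nat.prime_two (hstep (0 + 1) j) hnot
        have h5 : Fc g D (0 + 1) j ≤ Nz := le_trans h4 (sup_le ih' h1)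
        have h6 : Fc g D 0 j = cj g⁻¹ (Fc g D (0 + 1) j) := by
          rw [← cj_Fc, cj_inv_cj]
        rw [h6]
        exact cj_le_of_mem hgiN h5
    have hDN : D ≤ Nz := by
      have h1 := hdown k' le_rfl
      rwa [Nat.sub_self, Fc_zero, Dn_zero] at h1
    have hcDN : cj g D ≤ Nz := cj_le_of_mem hgN hDN
    -- `B ≤ Nz`
    have hDB : D ≤ B := inf_le_right
    have hcDB : cj g D ≤ B := by
      rw [hD, cj_inf]
      refine le_trans inf_le_left ?_
      rw [← hg]
    have hBN : B ≤ Nz := by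
      have h1 : B ≤ D ⊔ cj g D := by
        apply le_of_relIndex_dvd_prime le_sup_left (sup_le hDB hcDB) 3 Nat.prime_three
        · rw [h.idxB]
        · intro hle
          exact hnle (le_trans le_sup_right hle)
      exact le_trans h1 (sup_le hDN hcDN)
    have hAN : A ≤ Nz := by
      have h1 : A = cj g⁻¹ B := by rw [hg, cj_inv_cj]
      rw [h1]
      exact cj_le_of_mem hgiN hBN
    -- `A ⊔ B = ⊤`
    have htop : Nz = ⊤ := by
      have h1 : A ⊔ B = ⊤ := by
        by_contra hne'
        have h2 : A ⊔ B = A := by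
          by_contra hne2
          exact hne' (h.pair.coatomA.2 _ (lt_of_le_of_ne le_sup_left (Ne.symm hne2)))
        have h3 : B ≤ A := by
          rw [← h2]
          exact le_sup_right
        have h4 : B = A := by
          by_contra hne3
          exact h.pair.coatomA.1 (h.pair.coatomB.2 _ (lt_of_le_of_ne h3 hne3))
        exact h.pair.ne h4.symm
      rw [eq_top_iff, ← h1]
      exact sup_le hAN hBN
    have hnormal : E.Normal := Subgroup.normalizer_eq_top_iff.mp htop
    have hEA : E ≤ A := by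
      have h1 : E ≤ Fc g D 0 0 := by
        intro x hx
        rw [hE, mem_Fc] at hx
        rw [mem_Fc]
        intro l hl
        exact hx l (by omega)
      rw [Fc_zero, Dn_zero] at h1
      exact le_trans h1 inf_le_left
    have h2 : E ≤ A.normalCore := (Subgroup.normal_le_normalCore).mpr hEA
    rw [h.pair.coreA] at h2
    exact le_bot_iff.mp h2

end Cfsg.Agent.Lib.Helper7.SIMST2B2
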