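import Cfsg.Agent.Lib.Helper16.SLMinDefs
import Cfsg.Agent.Lib.Helper28.MinDegexists_conj_T
import Cfsg.Agent.Lib.Helper2.SLGen

/-! S2332 leaf C0' (helper7): a representation of `SL (Unit ⊕ ι') F`, `2 ≤ |ι'|`, that is trivial on
the first-row radical is trivial (the normal closure of one transvection is everything). -/

set_option autoImplicit false

namespace Cfsg.Agent.Lib.Helper7.SLMin

open Matrix Module Cfsg.Agent.Lib.Helper16.SLMin Cfsg.Agent.Lib.Helper27.MinDeg

section general
variable {ι : Type*} [Fintype ι] [DecidableEq ι] {F : Type*} [Field F]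

/-- an elementary transvection in `T v f` form -/
theorem transvection_eq_T' {i j : ι} (hij : i ≠ j) (c : F) :
    Matrix.SpecialLinearGroup.transvection hij c =
      T (c • (Pi.single i 1 : ι → F)) (Pi.single j 1 : ι → F) := by
  have h : (Pi.single j 1 : ι → F) ⬝ᵥ (c • (Pi.single i 1 : ι → F)) = 0 := by
    rw [dotProduct_smul, single_dotProduct, one_mul, Pi.single_eq_of_ne hij.symm, smul_zero]
  apply sl_ext
  rw [T_coe h, Matrix.SpecialLinearGroup.transvection_coe, smul_vecMulVec,
    ← single_eq_single_vecMulVec_single, Matrix.smul_single, smul_eq_mul, mul_one]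

/-- **a monoid hom from `SL ι F`, `3 ≤ |ι|`, killing one transvection is trivial** -/
theorem hom_trivial_of_T_trivial {X : Type*} [Monoid X] (φ : Matrix.SpecialLinearGroup ι F →* X)
    (h3 : 3 ≤ Fintype.card ι) {v₀ f₀ : ι → F} (hv₀ : v₀ ≠ 0) (hf₀ : f₀ ≠ 0) (h₀ : f₀ ⬝ᵥ v₀ = 0)
    (htriv : φ (T v₀ f₀) = 1) (g : Matrix.SpecialLinearGroup ι F) : φ g = 1 := by
  have hall : ∀ v f : ι → F, φ (T v f) = 1 := by
    intro v f
    by_cases h : f ⬝ᵥ v = 0
    · by_cases hv : v = 0
      · subst hv; rw [T_zero_left, map_one]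
      by_cases hf : f = 0
      · subst hf; rw [T_zero_right, map_one]
      obtain ⟨k, h1, h2⟩ :=
        Cfsg.Agent.Lib.Helper28.MinDegLeaf.exists_conj_T h3 hv₀ hf₀ hv hf h₀ h
      have e : T v f = k * T v₀ f₀ * k⁻¹ := by rw [conj_T, h1, h2]
      rw [e, map_mul, map_mul, htriv, mul_one, ← map_mul, mul_inv_cancel, map_one]
    · rw [T_of_ne h, map_one]
  have : Nontrivial ι := by
    rw [← Fintype.one_lt_card_iff_nontrivial]; omega
  refine Cfsg.Agent.Lib.Helper2.sl_transvection_induction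
    (fun g => φ g = 1) ?_ ?_ g
  · intro i j hij c
    rw [transvection_eq_T']
    exact hall _ _
  · intro A B hA hB
    rw [map_mul, hA, hB, mul_one]

end general

section rad
variable {F : Type*} [Field F] {ι' : Type*} [Fintype ι'] [DecidableEq ι']

theorem rad_dot (r : ι' → F) :
    (Sum.elim (0 : Unit → F) r) ⬝ᵥ (Pi.single (Sum.inl ()) 1 : Unit ⊕ ι' → F) = 0 := by
  rw [dotProduct_single, mul_one]
  rfl

/-- the radical element `rad r` is the transvection `1 + e₀ (0, r)ᵀ` -/
theorem rad_eq_T (r : ι' → F) :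
    rad r = T (Pi.single (Sum.inl ()) 1 : Unit ⊕ ι' → F) (Sum.elim (0 : Unit → F) r) := by
  apply sl_ext
  rw [T_coe (rad_dot r), rad_coe]
  ext i j
  rcases i with i | i <;> rcases j with j | j
  · simp [vecMulVec_apply, Matrix.one_apply]
  · simp [vecMulVec_apply, Matrix.one_apply]
  · simp [vecMulVec_apply, Matrix.one_apply]
  · simp [vecMulVec_apply, Matrix.one_apply]

end rad

section C
variable {F : Type*} [Field F] [Fintype F] [DecidableEq F] {M : Type*} [AddCommGroup M]
  [Module ℂ M] [FiniteDimensional ℂ M]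

/-- C0': the normal closure of the radical is everything. -/
theorem trivial_of_rad_trivial {ι' : Type*} [Fintype ι'] [DecidableEq ι'] (h2 : 2 ≤ Fintype.card ι')
    (ρ : Representation ℂ (SpecialLinearGroup (Unit ⊕ ι') F) M)
    (h : ∀ r : ι' → F, ρ (rad r) = 1) : ∀ g, ρ g = 1 := by
  intro g
  have hne : Nonempty ι' := by
    rw [← Fintype.card_pos_iff]; omega
  obtain ⟨j⟩ := hne
  have h3 : 3 ≤ Fintype.card (Unit ⊕ ι') := by
    rw [Fintype.card_sum, Fintype.card_unit]; omega
  have hv₀ : (Pi.single (Sum.inl ()) 1 : Unit ⊕ ι' → F) ≠ 0 := by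
    intro h0
    have := congrFun h0 (Sum.inl ())
    simp at this
  have hf₀ : (Sum.elim (0 : Unit → F) (Pi.single j 1 : ι' → F)) ≠ 0 := by
    intro h0
    have := congrFun h0 (Sum.inr j)
    simp at this
  have ht : ρ (T (Pi.single (Sum.inl ()) 1 : Unit ⊕ ι' → F)
      (Sum.elim (0 : Unit → F) (Pi.single j 1 : ι' → F))) = 1 := by
    rw [← rad_eq_T]
    exact h _
  exact hom_trivial_of_T_trivial ρ h3 hv₀ hf₀ (rad_dot _) ht g

end C

end Cfsg.Agent.Lib.Helper7.SLMin
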