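import Cfsg.Agent.S2579
import Cfsg.Agent.S2572

/-! Leaf CLS of S2332 (helper7): the class size of a transvection in `SL_n(F)`, `n ≥ 3`:
`[SL_n(F) : C(t)] = (q^n - 1)(q^(n-1) - 1)/(q - 1)`.

Proof: the `SL`-class of `t` is the set of all transvections (S2579), which is also the `GL`-class
of `t`; the latter has `|GL_n| / |C_GL(t)|` elements (S2572). -/

set_option autoImplicit false

namespace Cfsg.Agent.Lib.Helper7.SLTvClass

open Matrix

/-- the index of the centralizer of `t` is the size of the conjugacy class of `t` -/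
theorem index_centralizer_eq_card_isConj {G : Type*} [Group G] (t : G) :
    (Subgroup.centralizer ({t} : Set G)).index = Nat.card {x : G // IsConj t x} := by
  classical
  unfold Subgroup.index
  let f : G ⧸ Subgroup.centralizer ({t} : Set G) → {x : G // IsConj t x} :=
    fun qq => Quotient.liftOn' qq (fun g => (⟨g * t * g⁻¹, isConj_iff.mpr ⟨g, rfl⟩⟩ : {x : G // IsConj t x}))
      (by
        intro a b hab
        rw [QuotientGroup.leftRel_apply, Subgroup.mem_centralizer_singleton_iff] at hab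
        apply Subtype.ext
        show a * t * a⁻¹ = b * t * b⁻¹
        have h1 : t * (a⁻¹ * b) = a⁻¹ * b * t := hab.symm
        have h2 : b * t * b⁻¹ = a * (a⁻¹ * b * t) * b⁻¹ := by group
        rw [h2, ← h1]
        group)
  have hf : ∀ g : G, f (QuotientGroup.mk g) = ⟨g * t * g⁻¹, isConj_iff.mpr ⟨g, rfl⟩⟩ := fun g => rfl
  apply Nat.card_congr
  refine Equiv.ofBijective f ⟨?_, ?_⟩
  · intro a b
    induction a using QuotientGroup.induction_on with
    | H a =>
      induction b using QuotientGroup.induction_on with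
      | H b =>
        intro hab
        rw [hf, hf] at hab
        have h1 : a * t * a⁻¹ = b * t * b⁻¹ := congrArg Subtype.val hab
        apply QuotientGroup.eq.mpr
        rw [Subgroup.mem_centralizer_singleton_iff]
        have h2 : t = a⁻¹ * (b * t * b⁻¹) * a := by rw [← h1]; group
        symm
        calc t * (a⁻¹ * b) = (a⁻¹ * (b * t * b⁻¹) * a) * (a⁻¹ * b) := by rw [← h2]
          _ = a⁻¹ * b * t := by group
  · rintro ⟨x, hx⟩
    obtain ⟨g, hg⟩ := isConj_iff.mp hx
    exact ⟨QuotientGroup.mk g, by rw [hf]; exact Subtype.ext hg⟩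

section
variable {F : Type*} [Field F] {n : ℕ}

/-- conjugation by an invertible matrix preserves transvections -/
theorem isTransvection_conj (c : GL (Fin n) F) (t : Matrix (Fin n) (Fin n) F)
    (ht : Cfsg.IsTransvection t) :
    Cfsg.IsTransvection ((c : Matrix (Fin n) (Fin n) F) * t * ((c⁻¹ : GL (Fin n) F) : Matrix (Fin n) (Fin n) F)) := by
  obtain ⟨hr, hs⟩ := ht
  have hc1 : (c : Matrix (Fin n) (Fin n) F) * ((c⁻¹ : GL (Fin n) F) : Matrix (Fin n) (Fin n) F) = 1 := by
    rw [← Units.val_mul, mul_inv_cancel, Units.val_one]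
  have hc2 : ((c⁻¹ : GL (Fin n) F) : Matrix (Fin n) (Fin n) F) * (c : Matrix (Fin n) (Fin n) F) = 1 := by
    rw [← Units.val_mul, inv_mul_cancel, Units.val_one]
  have hsub : (c : Matrix (Fin n) (Fin n) F) * t * ((c⁻¹ : GL (Fin n) F) : Matrix (Fin n) (Fin n) F) - 1
      = (c : Matrix (Fin n) (Fin n) F) * (t - 1) * ((c⁻¹ : GL (Fin n) F) : Matrix (Fin n) (Fin n) F) := by
    rw [Matrix.mul_sub, Matrix.sub_mul, Matrix.mul_one, hc1]
  have hdc : IsUnit (c : Matrix (Fin n) (Fin n) F).det := by
    have := (Matrix.isUnit_iff_isUnit_det _).mp c.isUnit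
    exact this
  have hdc' : IsUnit ((c⁻¹ : GL (Fin n) F) : Matrix (Fin n) (Fin n) F).det := by
    have := (Matrix.isUnit_iff_isUnit_det _).mp (c⁻¹).isUnit
    exact this
  refine ⟨?_, ?_⟩
  · rw [hsub, Matrix.rank_mul_eq_left_of_isUnit_det _ _ hdc', Matrix.rank_mul_eq_right_of_isUnit_det _ _ hdc, hr]
  · rw [hsub]
    calc (c : Matrix (Fin n) (Fin n) F) * (t - 1) * ((c⁻¹ : GL (Fin n) F) : Matrix (Fin n) (Fin n) F)
          * ((c : Matrix (Fin n) (Fin n) F) * (t - 1) * ((c⁻¹ : GL (Fin n) F) : Matrix (Fin n) (Fin n) F))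
        = (c : Matrix (Fin n) (Fin n) F) * (t - 1) * (((c⁻¹ : GL (Fin n) F) : Matrix (Fin n) (Fin n) F)
          * (c : Matrix (Fin n) (Fin n) F)) * (t - 1) * ((c⁻¹ : GL (Fin n) F) : Matrix (Fin n) (Fin n) F) := by
          simp only [Matrix.mul_assoc]
      _ = (c : Matrix (Fin n) (Fin n) F) * ((t - 1) * (t - 1)) * ((c⁻¹ : GL (Fin n) F) : Matrix (Fin n) (Fin n) F) := by
          rw [hc2, Matrix.mul_one]
          simp only [Matrix.mul_assoc]
      _ = 0 := by rw [hs, Matrix.mul_zero, Matrix.zero_mul]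

/-- for `n ≥ 3` the `SL`-class and the `GL`-class of a transvection have the same size -/
theorem card_isConj_SL_eq_GL [Finite F] (hn : 3 ≤ n) (t : Matrix.SpecialLinearGroup (Fin n) F)
    (ht : Cfsg.IsTransvection (t : Matrix (Fin n) (Fin n) F)) :
    Nat.card {x : Matrix.SpecialLinearGroup (Fin n) F // IsConj t x}
      = Nat.card {y : GL (Fin n) F // IsConj (Matrix.SpecialLinearGroup.toGL t) y} := by
  apply Nat.card_congr
  let f : {x : Matrix.SpecialLinearGroup (Fin n) F // IsConj t x} →
      {y : GL (Fin n) F // IsConj (Matrix.SpecialLinearGroup.toGL t) y} :=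
    fun x => ⟨Matrix.SpecialLinearGroup.toGL x.1, MonoidHom.map_isConj _ x.2⟩
  refine Equiv.ofBijective f ⟨?_, ?_⟩
  · intro a b hab
    apply Subtype.ext
    apply Matrix.SpecialLinearGroup.toGL_injective
    exact congrArg Subtype.val hab
  · rintro ⟨y, hy⟩
    obtain ⟨c, hc⟩ := isConj_iff.mp hy
    have hym : (y : Matrix (Fin n) (Fin n) F) = (c : Matrix (Fin n) (Fin n) F) * (t : Matrix (Fin n) (Fin n) F)
        * ((c⁻¹ : GL (Fin n) F) : Matrix (Fin n) (Fin n) F) := by
      rw [← hc]
      rfl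
    have hyT : Cfsg.IsTransvection (y : Matrix (Fin n) (Fin n) F) := by
      rw [hym]
      exact isTransvection_conj c _ ht
    have hydet : (y : Matrix (Fin n) (Fin n) F).det = 1 := by
      rw [hym, Matrix.det_mul, Matrix.det_mul, mul_right_comm, ← Matrix.det_mul, ← Units.val_mul,
        mul_inv_cancel, Units.val_one, Matrix.det_one, one_mul]
      exact t.2
    let y' : Matrix.SpecialLinearGroup (Fin n) F := ⟨(y : Matrix (Fin n) (Fin n) F), hydet⟩
    have hy' : Matrix.SpecialLinearGroup.toGL y' = y := Units.ext rfl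
    refine ⟨⟨y', Cfsg.Agent.S2579.result hn t y' ht hyT⟩, ?_⟩
    exact Subtype.ext hy'

end

section
variable {F : Type*} [Field F] [Fintype F] {n : ℕ}

/-- the arithmetic identity behind the class size -/
theorem prod_identity (q : ℕ) (hq : 1 ≤ q) (n : ℕ) (hn : 2 ≤ n) :
    ∏ i : Fin n, (q ^ n - q ^ (i : ℕ))
      = (q ^ n - 1) * (q ^ (n - 1) - 1) * q ^ (2 * n - 3) * ∏ i : Fin (n - 2), (q ^ (n - 2) - q ^ (i : ℕ)) := by
  obtain ⟨m, rfl⟩ : ∃ m, n = m + 2 := ⟨n - 2, by omega⟩
  rw [Fin.prod_univ_succ, Fin.prod_univ_succ]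
  simp only [Fin.val_zero, pow_zero, Fin.val_succ, zero_add, pow_one]
  have h1 : m + 2 - 2 = m := by omega
  have h2 : m + 2 - 1 = m + 1 := by omega
  have h3 : 2 * (m + 2) - 3 = 2 * m + 1 := by omega
  rw [h1, h2, h3]
  have hprod : ∏ i : Fin m, (q ^ (m + 2) - q ^ ((i : ℕ) + 1 + 1)) = (q ^ 2) ^ m * ∏ i : Fin m, (q ^ m - q ^ (i : ℕ)) := by
    have : ∀ i : Fin m, q ^ (m + 2) - q ^ ((i : ℕ) + 1 + 1) = q ^ 2 * (q ^ m - q ^ (i : ℕ)) := by
      intro i
      rw [Nat.mul_sub, ← pow_add, ← pow_add]
      congr 1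
      · rw [add_comm]
      · congr 1; omega
    rw [Finset.prod_congr rfl (fun i _ => this i), Finset.prod_mul_distrib, Finset.prod_const,
      Finset.card_univ, Fintype.card_fin]
  rw [hprod]
  have h4 : q ^ (m + 2) - q = q * (q ^ (m + 1) - 1) := by
    rw [Nat.mul_sub, mul_one, ← pow_succ']
  rw [h4, ← pow_mul, pow_succ]
  ring

/-- **class size of a transvection** (product form): `[SL_n(F) : C(t)] * (q - 1) = (q^n - 1)(q^(n-1) - 1)` -/
theorem index_centralizer_mul (hn : 3 ≤ n) (t : Matrix.SpecialLinearGroup (Fin n) F)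
    (ht : Cfsg.IsTransvection (t : Matrix (Fin n) (Fin n) F)) :
    (Subgroup.centralizer ({t} : Set (Matrix.SpecialLinearGroup (Fin n) F))).index * (Fintype.card F - 1)
      = (Fintype.card F ^ n - 1) * (Fintype.card F ^ (n - 1) - 1) := by
  classical
  set q := Fintype.card F with hq
  have hq1 : 1 < q := Fintype.one_lt_card
  set T : GL (Fin n) F := Matrix.SpecialLinearGroup.toGL t with hT
  have hTt : Cfsg.IsTransvection (T : Matrix (Fin n) (Fin n) F) := ht
  have hfinGL : Finite (GL (Fin n) F) := by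
    have : Finite (Matrix (Fin n) (Fin n) F) := inferInstance
    exact Finite.of_injective (fun g : GL (Fin n) F => (g : Matrix (Fin n) (Fin n) F)) Units.val_injective
  have h1 : (Subgroup.centralizer ({t} : Set (Matrix.SpecialLinearGroup (Fin n) F))).index
      = (Subgroup.centralizer ({T} : Set (GL (Fin n) F))).index := by
    rw [index_centralizer_eq_card_isConj, index_centralizer_eq_card_isConj, card_isConj_SL_eq_GL hn t ht]
  have h2 := Subgroup.card_mul_index (Subgroup.centralizer ({T} : Set (GL (Fin n) F)))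
  rw [Cfsg.Agent.S2572.result (q := q) (n := n) hq.symm (by omega) T hTt, Matrix.card_GL_field,
    ← hq, prod_identity q hq1.le n (by omega), ← h1] at h2
  set P := ∏ i : Fin (n - 2), (q ^ (n - 2) - q ^ (i : ℕ)) with hP
  set idx := (Subgroup.centralizer ({t} : Set (Matrix.SpecialLinearGroup (Fin n) F))).index with hidx
  have hPpos : 0 < P := by
    apply Finset.prod_pos
    intro i _
    have : q ^ (i : ℕ) < q ^ (n - 2) := Nat.pow_lt_pow_right hq1 i.2
    omega
  have hqpos : 0 < q ^ (2 * n - 3) := pow_pos (by omega) _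
  have h3 : (q ^ (2 * n - 3) * P) * (idx * (q - 1)) = (q ^ (2 * n - 3) * P) * ((q ^ n - 1) * (q ^ (n - 1) - 1)) := by
    calc (q ^ (2 * n - 3) * P) * (idx * (q - 1)) = q ^ (2 * n - 3) * (q - 1) * P * idx := by ring
      _ = (q ^ n - 1) * (q ^ (n - 1) - 1) * q ^ (2 * n - 3) * P := h2
      _ = _ := by ring
  exact Nat.eq_of_mul_eq_mul_left (Nat.mul_pos hqpos hPpos) h3

/-- **class size of a transvection** (quotient form) -/
theorem index_centralizer (hn : 3 ≤ n) (t : Matrix.SpecialLinearGroup (Fin n) F)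
    (ht : Cfsg.IsTransvection (t : Matrix (Fin n) (Fin n) F)) :
    (Subgroup.centralizer ({t} : Set (Matrix.SpecialLinearGroup (Fin n) F))).index
      = (Fintype.card F ^ n - 1) * (Fintype.card F ^ (n - 1) - 1) / (Fintype.card F - 1) := by
  have h := index_centralizer_mul hn t ht
  have hq1 : 1 < Fintype.card F := Fintype.one_lt_card
  rw [← h, Nat.mul_div_cancel _ (by omega)]

end

section
variable {F : Type*} [Field F] {n : ℕ}

/-- a nonzero matrix has positive rank -/
theorem rank_pos_of_ne_zero (A : Matrix (Fin n) (Fin n) F) (hA : A ≠ 0) : 0 < A.rank := by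
  rcases Nat.eq_zero_or_pos A.rank with h0 | hpos
  · exfalso
    apply hA
    unfold Matrix.rank at h0
    have hbot : LinearMap.range A.mulVecLin = ⊥ := Submodule.finrank_eq_zero.mp h0
    have hz : A.mulVecLin = 0 := LinearMap.range_eq_bot.mp hbot
    ext i j
    have h1 := congrFun (congrArg (fun f => f (Pi.single j 1)) hz) i
    simpa using h1
  · exact hpos

/-- `1 + c • v φᵀ` with `φ ⬝ᵥ v = 0`, `c ≠ 0`, `v ≠ 0`, `φ ≠ 0` is a transvection -/
theorem isTransvection_one_add_smul_vecMulVec (v φ : Fin n → F) (c : F) (h : φ ⬝ᵥ v = 0)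
    (hc : c ≠ 0) (hv : v ≠ 0) (hφ : φ ≠ 0) :
    Cfsg.IsTransvection (1 + c • Matrix.vecMulVec v φ) := by
  have hsub : (1 + c • Matrix.vecMulVec v φ) - 1 = c • Matrix.vecMulVec v φ := by
    rw [add_sub_cancel_left]
  unfold Cfsg.IsTransvection
  rw [hsub]
  refine ⟨?_, ?_⟩
  · apply le_antisymm
    · have h1 : c • Matrix.vecMulVec v φ = Matrix.vecMulVec (c • v) φ := by
        ext i j
        simp [Matrix.vecMulVec_apply, mul_assoc]
      rw [h1]
      exact Matrix.rank_vecMulVec_le _ _
    · apply rank_pos_of_ne_zero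
      intro h0
      obtain ⟨i, hi⟩ := Function.ne_iff.mp hv
      obtain ⟨j, hj⟩ := Function.ne_iff.mp hφ
      have := congrFun (congrFun h0 i) j
      simp only [Matrix.smul_apply, Matrix.vecMulVec_apply, smul_eq_mul, Matrix.zero_apply,
        mul_eq_zero] at this
      rcases this with h | h | h
      · exact hc h
      · exact hi h
      · exact hj h
  · ext i j
    simp only [Matrix.mul_apply, Matrix.smul_apply, Matrix.vecMulVec_apply, smul_eq_mul, Matrix.zero_apply]
    have : ∀ x : Fin n, c * (v i * φ x) * (c * (v x * φ j)) = (c * c * v i * φ j) * (φ x * v x) := by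
      intro x; ring
    rw [Finset.sum_congr rfl (fun x _ => this x), ← Finset.mul_sum]
    have hd : ∑ x : Fin n, φ x * v x = φ ⬝ᵥ v := rfl
    rw [hd, h, mul_zero]

/-- an elementary transvection matrix `1 + c E_ij`, `i ≠ j`, `c ≠ 0`, is a transvection -/
theorem isTransvection_transvection (i j : Fin n) (hij : i ≠ j) (c : F) (hc : c ≠ 0) :
    Cfsg.IsTransvection (Matrix.transvection i j c) := by
  have h1 : Matrix.transvection i j c = 1 + c • Matrix.vecMulVec (Pi.single i (1 : F)) (Pi.single j (1 : F)) := by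
    unfold Matrix.transvection
    congr 1
    ext a b
    simp only [Matrix.single_apply, Matrix.smul_apply, Matrix.vecMulVec_apply, smul_eq_mul, Pi.single_apply]
    rcases eq_or_ne a i with rfl | ha
    · rcases eq_or_ne b j with rfl | hb
      · simp
      · rw [if_neg (fun h => hb h.2.symm), if_neg hb, mul_zero, mul_zero]
    · rw [if_neg (fun h => ha h.1.symm), if_neg ha, zero_mul, mul_zero]
  rw [h1]
  apply isTransvection_one_add_smul_vecMulVec _ _ _ _ hc
  · intro h0
    have := congrFun h0 i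
    simp at this
  · intro h0
    have := congrFun h0 j
    simp at this
  · rw [single_dotProduct, one_mul, Pi.single_apply, if_neg hij.symm]

end

end Cfsg.Agent.Lib.Helper7.SLTvClass
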