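/-
helper7: S4395 leaf C1 `exists_fibre_frame` (the fibre product of two frames over `K`).
-/
import Mathlib
import Cfsg.Prelude.Def_Transfer
import Cfsg.Agent.Lib.Helper21.SchDefs

set_option autoImplicit false
set_option linter.unusedSectionVars false
universe u v
open Cfsg
open Cfsg.Agent.Lib.Helper21.Sch

namespace Cfsg.Agent.Lib.Helper7.SchC1

variable {p : ℕ} [Fact p.Prime] {K : Type*} [Field K] {ω : K}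

/-- the fibre product subgroup -/
def fibP {G₀ : Type*} [Group G₀] {X : Type*} [Group X]
    (𝔣₀ : Frame p ω G₀) (𝔣 : Frame p ω X) : Subgroup (G₀ × X) where
  carrier := {d | ∃ (h₀ : d.1 ∈ 𝔣₀.P) (h : d.2 ∈ 𝔣.P), 𝔣₀.π ⟨d.1, h₀⟩ = 𝔣.π ⟨d.2, h⟩}
  mul_mem' := by
    rintro ⟨a₀, a⟩ ⟨b₀, b⟩ ⟨ha₀, ha, hab⟩ ⟨hb₀, hb, hbb⟩
    refine ⟨𝔣₀.P.mul_mem ha₀ hb₀, 𝔣.P.mul_mem ha hb, ?_⟩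
    have e1 : (⟨a₀ * b₀, 𝔣₀.P.mul_mem ha₀ hb₀⟩ : ↥𝔣₀.P) = ⟨a₀, ha₀⟩ * ⟨b₀, hb₀⟩ := rfl
    have e2 : (⟨a * b, 𝔣.P.mul_mem ha hb⟩ : ↥𝔣.P) = ⟨a, ha⟩ * ⟨b, hb⟩ := rfl
    show 𝔣₀.π ⟨a₀ * b₀, _⟩ = 𝔣.π ⟨a * b, _⟩
    rw [e1, e2, map_mul, map_mul]
    exact congrArg₂ (· * ·) hab hbb
  one_mem' := by
    refine ⟨𝔣₀.P.one_mem, 𝔣.P.one_mem, ?_⟩
    have e1 : (⟨(1 : G₀ × X).1, 𝔣₀.P.one_mem⟩ : ↥𝔣₀.P) = 1 := rfl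
    have e2 : (⟨(1 : G₀ × X).2, 𝔣.P.one_mem⟩ : ↥𝔣.P) = 1 := rfl
    rw [e1, e2, map_one, map_one]
  inv_mem' := by
    rintro ⟨a₀, a⟩ ⟨ha₀, ha, hab⟩
    refine ⟨𝔣₀.P.inv_mem ha₀, 𝔣.P.inv_mem ha, ?_⟩
    have e1 : (⟨a₀⁻¹, 𝔣₀.P.inv_mem ha₀⟩ : ↥𝔣₀.P) = (⟨a₀, ha₀⟩ : ↥𝔣₀.P)⁻¹ := rfl
    have e2 : (⟨a⁻¹, 𝔣.P.inv_mem ha⟩ : ↥𝔣.P) = (⟨a, ha⟩ : ↥𝔣.P)⁻¹ := rfl
    show 𝔣₀.π ⟨a₀⁻¹, _⟩ = 𝔣.π ⟨a⁻¹, _⟩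
    rw [e1, e2, map_inv, map_inv]
    exact congrArg (·⁻¹) hab

theorem mem_fibP {G₀ : Type*} [Group G₀] {X : Type*} [Group X]
    (𝔣₀ : Frame p ω G₀) (𝔣 : Frame p ω X) (d : G₀ × X) :
    d ∈ fibP 𝔣₀ 𝔣 ↔ ∃ (h₀ : d.1 ∈ 𝔣₀.P) (h : d.2 ∈ 𝔣.P), 𝔣₀.π ⟨d.1, h₀⟩ = 𝔣.π ⟨d.2, h⟩ := Iff.rfl

theorem fst_mem {G₀ : Type*} [Group G₀] {X : Type*} [Group X]
    (𝔣₀ : Frame p ω G₀) (𝔣 : Frame p ω X) (d : ↥(fibP 𝔣₀ 𝔣)) : d.1.1 ∈ 𝔣₀.P := d.2.1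

theorem snd_mem {G₀ : Type*} [Group G₀] {X : Type*} [Group X]
    (𝔣₀ : Frame p ω G₀) (𝔣 : Frame p ω X) (d : ↥(fibP 𝔣₀ 𝔣)) : d.1.2 ∈ 𝔣.P := d.2.2.1

theorem fib_eq {G₀ : Type*} [Group G₀] {X : Type*} [Group X]
    (𝔣₀ : Frame p ω G₀) (𝔣 : Frame p ω X) (d : ↥(fibP 𝔣₀ 𝔣)) :
    𝔣₀.π ⟨d.1.1, fst_mem 𝔣₀ 𝔣 d⟩ = 𝔣.π ⟨d.1.2, snd_mem 𝔣₀ 𝔣 d⟩ := d.2.2.2

/-- first projection of the fibre product, into `P₀` -/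
def fibFst {G₀ : Type*} [Group G₀] {X : Type*} [Group X]
    (𝔣₀ : Frame p ω G₀) (𝔣 : Frame p ω X) : ↥(fibP 𝔣₀ 𝔣) →* ↥𝔣₀.P where
  toFun d := ⟨d.1.1, fst_mem 𝔣₀ 𝔣 d⟩
  map_one' := rfl
  map_mul' _ _ := rfl

/-- second projection of the fibre product, into `P` -/
def fibSnd {G₀ : Type*} [Group G₀] {X : Type*} [Group X]
    (𝔣₀ : Frame p ω G₀) (𝔣 : Frame p ω X) : ↥(fibP 𝔣₀ 𝔣) →* ↥𝔣.P where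
  toFun d := ⟨d.1.2, snd_mem 𝔣₀ 𝔣 d⟩
  map_one' := rfl
  map_mul' _ _ := rfl

theorem fib_eq' {G₀ : Type*} [Group G₀] {X : Type*} [Group X]
    (𝔣₀ : Frame p ω G₀) (𝔣 : Frame p ω X) (d : ↥(fibP 𝔣₀ 𝔣)) :
    𝔣₀.π (fibFst 𝔣₀ 𝔣 d) = 𝔣.π (fibSnd 𝔣₀ 𝔣 d) := fib_eq 𝔣₀ 𝔣 d

theorem conj_mem {G₀ : Type*} [Group G₀] {X : Type*} [Group X]
    (𝔣₀ : Frame p ω G₀) (𝔣 : Frame p ω X) (d : G₀ × X) (hd : d ∈ fibP 𝔣₀ 𝔣) :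
    (𝔣₀.y, 𝔣.y) * d * (𝔣₀.y, 𝔣.y)⁻¹ ∈ fibP 𝔣₀ 𝔣 := by
  obtain ⟨a₀, a⟩ := d
  obtain ⟨ha₀, ha, hab⟩ := hd
  refine ⟨𝔣₀.y_norm a₀ ha₀, 𝔣.y_norm a ha, ?_⟩
  show 𝔣₀.π ⟨𝔣₀.y * a₀ * 𝔣₀.y⁻¹, _⟩ = 𝔣.π ⟨𝔣.y * a * 𝔣.y⁻¹, _⟩
  have h1 := 𝔣₀.π_conj a₀ ha₀
  have h2 := 𝔣.π_conj a ha
  apply Multiplicative.toAdd.injective
  rw [h1, h2]
  exact congrArg (fun t => ω * Multiplicative.toAdd t) hab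

/-- the fibre product frame -/
def fibFrame {G₀ : Type*} [Group G₀] {X : Type*} [Group X]
    (𝔣₀ : Frame p ω G₀) (𝔣 : Frame p ω X) : Frame p ω (G₀ × X) where
  P := fibP 𝔣₀ 𝔣
  y := (𝔣₀.y, 𝔣.y)
  π := 𝔣₀.π.comp (fibFst 𝔣₀ 𝔣)
  y_norm := conj_mem 𝔣₀ 𝔣
  π_conj := by
    rintro ⟨a₀, a⟩ hd
    exact 𝔣₀.π_conj a₀ hd.1
  π_surj := by
    intro u
    obtain ⟨x₀, hx₀⟩ := 𝔣₀.π_surj u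
    obtain ⟨x, hx⟩ := 𝔣.π_surj u
    refine ⟨⟨(x₀.1, x.1), x₀.2, x.2, ?_⟩, ?_⟩
    · show 𝔣₀.π ⟨x₀.1, x₀.2⟩ = 𝔣.π ⟨x.1, x.2⟩
      rw [Subtype.coe_eta, Subtype.coe_eta, hx₀, hx]
    · show 𝔣₀.π ⟨x₀.1, x₀.2⟩ = u
      rw [Subtype.coe_eta, hx₀]
  ker_central := by
    intro z hz x
    have hz0 : 𝔣₀.π (fibFst 𝔣₀ 𝔣 z) = 1 := hz
    have hz1 : 𝔣.π (fibSnd 𝔣₀ 𝔣 z) = 1 := by rw [← fib_eq', hz0]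
    have c0 := 𝔣₀.ker_central _ hz0 (fibFst 𝔣₀ 𝔣 x)
    have c1 := 𝔣.ker_central _ hz1 (fibSnd 𝔣₀ 𝔣 x)
    apply Subtype.ext
    apply Prod.ext
    · exact congrArg Subtype.val c0
    · exact congrArg Subtype.val c1
  ker_exp := by
    intro z hz
    have hz0 : 𝔣₀.π (fibFst 𝔣₀ 𝔣 z) = 1 := hz
    have hz1 : 𝔣.π (fibSnd 𝔣₀ 𝔣 z) = 1 := by rw [← fib_eq', hz0]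
    have c0 := 𝔣₀.ker_exp _ hz0
    have c1 := 𝔣.ker_exp _ hz1
    rw [← map_pow] at c0 c1
    apply Subtype.ext
    apply Prod.ext
    · exact congrArg Subtype.val c0
    · exact congrArg Subtype.val c1
  ker_fixed := by
    intro z hz
    have hz0 : 𝔣₀.π (fibFst 𝔣₀ 𝔣 z) = 1 := hz
    have hz1 : 𝔣.π (fibSnd 𝔣₀ 𝔣 z) = 1 := by rw [← fib_eq', hz0]
    have c0 := 𝔣₀.ker_fixed _ hz0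
    have c1 := 𝔣.ker_fixed _ hz1
    apply Prod.ext
    · exact c0
    · exact c1

/-- **TAG C1** the fibre product frame on `G₀ × X`: `P_D = {(x₀,x) ∈ P₀ × P | π₀ x₀ = π x}`, `y_D = (y₀,y)`,
`π_D = π₀ ∘ fst`. -/
theorem exists_fibre_frame {G₀ : Type*} [Group G₀] {X : Type*} [Group X]
    (𝔣₀ : Frame p ω G₀) (𝔣 : Frame p ω X) :
    ∃ 𝔡 : Frame p ω (G₀ × X), 𝔡.y = (𝔣₀.y, 𝔣.y) ∧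
      (∀ d : G₀ × X, d ∈ 𝔡.P ↔ ∃ (h₀ : d.1 ∈ 𝔣₀.P) (h : d.2 ∈ 𝔣.P), 𝔣₀.π ⟨d.1, h₀⟩ = 𝔣.π ⟨d.2, h⟩) ∧
      (∀ (d : G₀ × X) (hd : d ∈ 𝔡.P) (h₀ : d.1 ∈ 𝔣₀.P), 𝔡.π ⟨d, hd⟩ = 𝔣₀.π ⟨d.1, h₀⟩) :=
  ⟨fibFrame 𝔣₀ 𝔣, rfl, fun _ => Iff.rfl, fun _ _ _ => rfl⟩

end Cfsg.Agent.Lib.Helper7.SchC1
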