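/-
helper7: S4395 leaf C3A `exists_hom_of_graph` (the graph lemma).
-/
import Mathlib
import Cfsg.Prelude.Def_Transfer
import Cfsg.Agent.Lib.Helper21.SchDefs

set_option autoImplicit false
universe u v
open Cfsg
open Cfsg.Agent.Lib.Helper21.Sch

namespace Cfsg.Agent.Lib.Helper7.SchC3A

/-- **TAG C3A** the graph lemma. -/
theorem exists_hom_of_graph {G₀ : Type*} [Group G₀] {X : Type*} [Group X] (D : Subgroup (G₀ × X))
    (h1 : ∀ g : G₀, ∃ x : X, (g, x) ∈ D) (h2 : ∀ x : X, ∃ g : G₀, (g, x) ∈ D)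
    (h3 : ∀ g : G₀, ∀ x x' : X, (g, x) ∈ D → (g, x') ∈ D → x = x') :
    ∃ φ : G₀ →* X, Function.Surjective φ ∧ ∀ g : G₀, (g, φ g) ∈ D := by
  classical
  choose f hf using h1
  have hone : f 1 = 1 := h3 1 _ _ (hf 1) (show ((1 : G₀), (1 : X)) ∈ D from D.one_mem)
  have hmul : ∀ a b : G₀, f (a * b) = f a * f b := by
    intro a b
    refine h3 (a * b) _ _ (hf (a * b)) ?_
    exact D.mul_mem (hf a) (hf b)
  refine ⟨{ toFun := f, map_one' := hone, map_mul' := hmul }, ?_, hf⟩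
  intro x
  obtain ⟨g, hg⟩ := h2 x
  exact ⟨g, h3 g _ _ (hf g) hg⟩

end Cfsg.Agent.Lib.Helper7.SchC3A
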