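import Cfsg.Agent.Lib.Helper7.ChevOrd3

/-! Centralisers of semisimple elements (helper7), part A: ordered products over lists of positive
roots closed under the terms of the commutator formula. -/

set_option autoImplicit false

namespace Cfsg.Agent.Lib.Helper7.SemiCent

open Cfsg Cfsg.Lie Matrix Cfsg.Agent.Lib.Helper7
open scoped Pointwise

/-- a list of positive roots in increasing order, closed under the terms of the commutator formula -/
structure ClosedL (D : ChevalleyDatum) (l : List ℕ) : Prop where
  sorted : l.Pairwise (· < ·)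
  pos : ∀ r ∈ l, D.IsPosRoot r
  closed : ∀ r ∈ l, ∀ s ∈ l, ∀ c ∈ D.commTerms r s, c.1 ∈ l

section
variable (D : ChevalleyDatum) (hD : D ∈ [chevG2, chevB2, chevD4, chevF4, chevE6, chevE7, chevE8])
variable (F : Type*) [Field F]
variable (A : ℕ → ℤ) (hA : ChainAdd D A) (hO : OrdFacts D A)
include hD hA hO

omit F in
/-- a term of the commutator formula of two positive roots comes later than both -/
theorem commTerm_gt (r s : ℕ) (hr : D.IsPosRoot r) (hs : D.IsPosRoot s) (c : ℕ × ℤ × ℕ × ℕ)
    (hc : c ∈ D.commTerms r s) : A r < A c.1 ∧ A s < A c.1 := by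
  obtain ⟨-, hi, hj, hlin⟩ := hA.commTerms D hD r s hr.1 hs.1 c hc
  have hAr := hO.pos r hr
  have hAs := hO.pos s hs
  have h1 : A r ≤ c.2.2.1 * A r := by
    have : (1 : ℤ) ≤ c.2.2.1 := by exact_mod_cast hi
    nlinarith
  have h2 : A s ≤ c.2.2.2 * A s := by
    have : (1 : ℤ) ≤ c.2.2.2 := by exact_mod_cast hj
    nlinarith
  constructor <;> omega

omit F in
theorem ClosedL.tail {r : ℕ} {l : List ℕ} (h : ClosedL D (r :: l)) : ClosedL D l := by
  have hs := List.pairwise_cons.mp h.sorted
  refine ⟨hs.2, fun s hs' => h.pos s (List.mem_cons_of_mem _ hs'), ?_⟩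
  intro a ha s hs' c hc
  have hmem := h.closed a (List.mem_cons_of_mem _ ha) s (List.mem_cons_of_mem _ hs') c hc
  rcases List.mem_cons.mp hmem with h' | h'
  · exfalso
    have hapos := h.pos a (List.mem_cons_of_mem _ ha)
    have hspos := h.pos s (List.mem_cons_of_mem _ hs')
    have hgt := (commTerm_gt D hD A hA hO a s hapos hspos c hc).1
    have hra : r < a := hs.1 a ha
    have := hO.mono r a hra hapos.1
    rw [h'] at hgt
    omega
  · exact h'

/-- `X_r` normalises the subgroup generated by the later root subgroups of a closed list -/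
theorem xGL_conj_gensL' (r : ℕ) (l : List ℕ) (hl : ClosedL D (r :: l)) (u : F) :
    ∀ y ∈ gensL D F l, xGL D hD F r u * y * (xGL D hD F r u)⁻¹ ∈ Subgroup.closure (gensL D F l) := by
  rintro y ⟨s, hs, t, hym⟩
  have hy : y = xGL D hD F s t := Units.ext (by rw [hym, coe_xGL])
  rw [hy]
  have hsort := List.pairwise_cons.mp hl.sorted
  have hrpos := hl.pos r (List.mem_cons_self ..)
  have hspos := hl.pos s (List.mem_cons_of_mem _ hs)
  have hrs : r < s := hsort.1 s hs
  have hAr := hO.pos r hrpos
  have hAs := hO.pos s hspos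
  have hsr : s ≠ r := by omega
  have hsn : s ≠ D.neg r := by
    intro h
    have hN := negOK_of_mem D hD r hrpos.1
    have := hA.negA r hrpos.1 hN.1
    rw [← h] at this
    omega
  rw [xGL_conj_xGL D hD F r s hrpos.1 hspos.1 hsr hsn u t]
  apply Subgroup.mul_mem
  · apply Subgroup.subset_closure
    exact ⟨s, hs, t, coe_xGL D hD F _ _⟩
  · unfold wordGL
    apply Subgroup.list_prod_mem
    intro g hg
    rw [List.mem_map] at hg
    obtain ⟨p, hp, rfl⟩ := hg
    unfold ChevalleyDatum.commWord at hp
    rw [List.mem_map] at hp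
    obtain ⟨c, hc, rfl⟩ := hp
    have hgt := (commTerm_gt D hD A hA hO r s hrpos hspos c hc).1
    have hmem := hl.closed r (List.mem_cons_self ..) s (List.mem_cons_of_mem _ hs) c hc
    have hmem' : c.1 ∈ l := by
      rcases List.mem_cons.mp hmem with h' | h'
      · rw [h'] at hgt; omega
      · exact h'
    apply Subgroup.subset_closure
    exact ⟨c.1, hmem', _, coe_xGL D hD F _ _⟩

/-- every element of `⟨X_r : r ∈ l⟩` is an ordered product -/
theorem exists_ordProd' : ∀ (l : List ℕ), ClosedL D l → ∀ g ∈ Subgroup.closure (gensL D F l),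
    ∃ t : ℕ → F, g = ordProd D hD F l t
  | [], _, g, hg => by
    have : gensL D F [] = ∅ := by
      ext g; simp [gensL]
    rw [this, Subgroup.closure_empty, Subgroup.mem_bot] at hg
    exact ⟨fun _ => 0, by rw [hg, ordProd_nil]⟩
  | r :: l, hl, g, hg => by
    have ih := exists_ordProd' l (ClosedL.tail D hD A hA hO hl)
    have hnorm : D.rootSubgroup F r ≤ Subgroup.normalizer (Subgroup.closure (gensL D F l) : Set (GL D.Idx F)) := by
      intro x hx
      obtain ⟨u, rfl⟩ := (mem_rootSubgroup_iff D hD F r x).mp hx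
      apply mem_normalizer_closure
      · exact xGL_conj_gensL' D hD F A hA hO r l hl u
      · intro y hy
        rw [xGL_inv]
        exact xGL_conj_gensL' D hD F A hA hO r l hl (-u) y hy
    rw [closure_gensL_cons D F r l] at hg
    have hg' : g ∈ ((D.rootSubgroup F r ⊔ Subgroup.closure (gensL D F l) : Subgroup (GL D.Idx F)) :
        Set (GL D.Idx F)) := hg
    rw [Subgroup.coe_mul_of_left_le_normalizer_right _ _ hnorm] at hg'
    obtain ⟨x, hx, k, hk, rfl⟩ := Set.mem_mul.mp hg'
    obtain ⟨u, rfl⟩ := (mem_rootSubgroup_iff D hD F r x).mp hx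
    obtain ⟨t, rfl⟩ := ih k hk
    have hrl : r ∉ l := by
      intro h
      have := (List.pairwise_cons.mp hl.sorted).1 r h
      omega
    refine ⟨Function.update t r u, ?_⟩
    rw [ordProd_cons, Function.update_self]
    congr 1
    apply ordProd_congr
    intro s hs
    rw [Function.update_of_ne]
    rintro rfl
    exact hrl hs

omit hA hO in
/-- the positive roots after `r` -/
theorem goodL_after (r : ℕ) (hr : D.IsPosRoot r) : GoodL D (r :: D.posRoots.filter (fun s => decide (r < s))) := by
  have hG := goodL_posRoots D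
  refine ⟨?_, ?_, ?_⟩
  · rw [List.pairwise_cons]
    refine ⟨?_, List.Pairwise.filter _ hG.sorted⟩
    intro s hs
    rw [List.mem_filter] at hs
    exact of_decide_eq_true hs.2
  · intro s hs
    rcases List.mem_cons.mp hs with rfl | hs'
    · exact hr
    · rw [List.mem_filter] at hs'
      exact hG.pos s hs'.1
  · intro a ha s hs has
    apply List.mem_cons_of_mem
    rw [List.mem_filter]
    refine ⟨(mem_posRoots D s).mpr hs, decide_eq_true ?_⟩
    rcases List.mem_cons.mp ha with rfl | ha'
    · exact has
    · rw [List.mem_filter] at ha'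
      have := of_decide_eq_true ha'.2
      omega

/-- a root element lying in the subgroup generated by later root subgroups is trivial -/
theorem eq_zero_of_xGL_mem' (r : ℕ) (l : List ℕ) (hl : ClosedL D (r :: l)) (d : F)
    (h : xGL D hD F r d ∈ Subgroup.closure (gensL D F l)) : d = 0 := by
  have hsort := List.pairwise_cons.mp hl.sorted
  have hrpos := hl.pos r (List.mem_cons_self ..)
  apply eq_zero_of_xGL_mem D hD F A hA hO r _ (goodL_after D hD r hrpos) d
  refine Subgroup.closure_mono ?_ h
  rintro g ⟨s, hs, t, hg⟩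
  refine ⟨s, ?_, t, hg⟩
  rw [List.mem_filter]
  exact ⟨(mem_posRoots D s).mpr (hl.pos s (List.mem_cons_of_mem _ hs)), decide_eq_true (hsort.1 s hs)⟩

/-- uniqueness of the ordered product decomposition -/
theorem ordProd_inj' : ∀ (l : List ℕ), ClosedL D l → ∀ t u : ℕ → F,
    ordProd D hD F l t = ordProd D hD F l u → ∀ r ∈ l, t r = u r
  | [], _, _, _, _, r, hr => by simp at hr
  | r :: l, hl, t, u, h, s, hs => by
    have ih := ordProd_inj' l (ClosedL.tail D hD A hA hO hl) t u
    rw [ordProd_cons, ordProd_cons] at h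
    have hd : xGL D hD F r (t r - u r) ∈ Subgroup.closure (gensL D F l) := by
      have e : xGL D hD F r (t r - u r) = ordProd D hD F l u * (ordProd D hD F l t)⁻¹ := by
        have h1 : xGL D hD F r (t r - u r) = (xGL D hD F r (u r))⁻¹ * xGL D hD F r (t r) := by
          rw [xGL_inv, xGL_mul]; congr 1; ring
        rw [h1]
        have h2 : xGL D hD F r (t r) = xGL D hD F r (u r) * ordProd D hD F l u *
            (ordProd D hD F l t)⁻¹ := by rw [← h]; group
        rw [h2]; group
      rw [e]
      exact Subgroup.mul_mem _ (ordProd_mem D hD F l u) (Subgroup.inv_mem _ (ordProd_mem D hD F l t))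
    have h0 := eq_zero_of_xGL_mem' D hD F A hA hO r l hl _ hd
    have htr : t r = u r := sub_eq_zero.mp h0
    rcases List.mem_cons.mp hs with rfl | hs'
    · exact htr
    · rw [htr] at h
      exact ih (mul_left_cancel h) s hs'

end

end Cfsg.Agent.Lib.Helper7.SemiCent
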