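import Cfsg.Agent.Lib.Helper7.SemiCentA
import Cfsg.Agent.Lib.Helper7.ChevCanon2
import Cfsg.Agent.Lib.Helper7.ChevWeylPerm

/-! Centralisers of semisimple elements (helper7), part B: for `n ∈ N` acting on the roots as a word
`f` in the fundamental reflections, `U_n⁻` is the group of ordered products over the positive roots
made negative by `f`. -/

set_option autoImplicit false

namespace Cfsg.Agent.Lib.Helper7.SemiCent

open Cfsg Cfsg.Lie Matrix Cfsg.Agent.Lib.Helper7
open scoped Pointwise

theorem ChainAdd.congr' {D : ChevalleyDatum} {A B : ℕ → ℤ} (hA : ChainAdd D A)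
    (h : ∀ r < D.nroots, B r = A r) : ChainAdd D B := by
  refine ⟨?_, ?_⟩
  · intro s hs hn
    rw [h s hs, h _ hn, hA.negA s hs hn]
  · intro s hs v hv x hx hx1
    rw [h _ hx1, h v hv, h s hs, hA.addA s hs v hv x hx hx1]

theorem ChainAdd.sub' {D : ChevalleyDatum} {A B : ℕ → ℤ} (hA : ChainAdd D A) (hB : ChainAdd D B) (c : ℤ) :
    ChainAdd D (fun s => A s - c * B s) := by
  have := hA.add ((hB.smul (-c)))
  refine ChainAdd.congr' this ?_
  intro r _
  ring

section
variable (D : ChevalleyDatum) (hD : D ∈ [chevG2, chevB2, chevD4, chevF4, chevE6, chevE7, chevE8])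
include hD

/-- a linear functional composed with a fundamental reflection -/
theorem linF_reflect (w : List ℤ) (i : ℕ) (hi : i < D.rank) (s : ℕ) (hs : s < D.nroots) :
    linF D w (D.reflectRoot i s) = linF D w s - D.cartan i s * linF D w (D.simple i) := by
  have hC := conjFacts_of_mem D hD i hi
  unfold linF
  have h1 : ((List.range D.rank).map fun k => w.getD k 0 * D.cartan k (D.reflectRoot i s)) =
      (List.range D.rank).map fun k => (w.getD k 0 * D.cartan k s -
        D.cartan i s * (w.getD k 0 * D.cartan k (D.simple i))) := by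
    apply List.map_congr_left
    intro k hk
    rw [hC.carRefl k (List.mem_range.mp hk) s hs]
    ring
  rw [h1]
  generalize List.range D.rank = l
  induction l with
  | nil => simp
  | cons a l ih =>
    simp only [List.map_cons, List.sum_cons]
    rw [ih]
    ring

/-- a linear functional composed with a word of reflections agrees on the roots with an additive
functional -/
theorem exists_chainAdd_reflWord : ∀ (L : List ℕ), (∀ i ∈ L, i < D.rank) → ∀ w : List ℤ,
    ∃ B : ℕ → ℤ, ChainAdd D B ∧ ∀ r < D.nroots, reflWord D L r < D.nroots ∧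
      B r = linF D w (reflWord D L r) := by
  intro L
  induction L with
  | nil =>
    intro _ w
    exact ⟨linF D w, chainAdd_linF D hD w, fun r hr => ⟨hr, rfl⟩⟩
  | cons i L ih =>
    intro hL w
    have hi : i < D.rank := hL i List.mem_cons_self
    have hL' : ∀ j ∈ L, j < D.rank := fun j hj => hL j (List.mem_cons_of_mem _ hj)
    have hC := conjFacts_of_mem D hD i hi
    obtain ⟨B1, hB1, h1⟩ := ih hL' w
    -- the functional `cartan i`
    obtain ⟨B2, hB2, h2⟩ := ih hL' ((List.range D.rank).map fun k => if k = i then (1 : ℤ) else 0)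
    have hsingle : ∀ s, linF D ((List.range D.rank).map fun k => if k = i then (1 : ℤ) else 0) s =
        D.cartan i s := by
      intro s
      unfold linF
      have : ((List.range D.rank).map fun k =>
          ((List.range D.rank).map fun k => if k = i then (1 : ℤ) else 0).getD k 0 * D.cartan k s) =
          (List.range D.rank).map fun k => if k = i then D.cartan i s else 0 := by
        apply List.map_congr_left
        intro k hk
        have hk' := List.mem_range.mp hk
        rw [List.getD_eq_getElem _ _ (by simpa using hk')]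
        simp only [List.getElem_map, List.getElem_range]
        by_cases hki : k = i
        · rw [if_pos hki, if_pos hki, hki]; ring
        · rw [if_neg hki, if_neg hki]; ring
      rw [this]
      have key : ∀ n : ℕ, ((List.range n).map fun k => if k = i then D.cartan i s else 0).sum =
          if i < n then D.cartan i s else 0 := by
        intro n
        induction n with
        | zero => simp
        | succ n ihn =>
          rw [List.range_succ, List.map_append, List.sum_append, ihn]
          simp only [List.map_cons, List.map_nil, List.sum_cons, List.sum_nil, add_zero]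
          split_ifs <;> first | (exfalso; omega) | ring
      rw [key, if_pos hi]
    refine ⟨fun s => B1 s - linF D w (D.simple i) * B2 s, ChainAdd.sub' hB1 hB2 _, ?_⟩
    intro r hr
    obtain ⟨hlt, e1⟩ := h1 r hr
    obtain ⟨-, e2⟩ := h2 r hr
    refine ⟨hC.wlt _ hlt, ?_⟩
    show B1 r - linF D w (D.simple i) * B2 r = linF D w (D.reflectRoot i (reflWord D L r))
    rw [linF_reflect D hD w i hi _ hlt, e1, e2, hsingle]
    ring

end

/-- the positive roots with negative value of `B` -/
def negL (D : ChevalleyDatum) (B : ℕ → ℤ) : List ℕ := D.posRoots.filter (fun r => decide (B r < 0))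

section
variable (D : ChevalleyDatum) (hD : D ∈ [chevG2, chevB2, chevD4, chevF4, chevE6, chevE7, chevE8])
variable (F : Type*) [Field F]
variable (A : ℕ → ℤ) (hA : ChainAdd D A) (hO : OrdFacts D A)
include hD hA hO

omit F in
theorem closedL_negL (B : ℕ → ℤ) (hB : ChainAdd D B) : ClosedL D (negL D B) := by
  have hG := goodL_posRoots D
  refine ⟨List.Pairwise.filter _ hG.sorted, ?_, ?_⟩
  · intro r hr
    unfold negL at hr
    rw [List.mem_filter] at hr
    exact hG.pos r hr.1
  · intro r hr s hs c hc
    unfold negL at hr hs ⊢
    rw [List.mem_filter] at hr hs ⊢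
    have hrpos := hG.pos r hr.1
    have hspos := hG.pos s hs.1
    have hBr : B r < 0 := of_decide_eq_true hr.2
    have hBs : B s < 0 := of_decide_eq_true hs.2
    obtain ⟨hc1, hi, hj, hlin⟩ := hA.commTerms D hD r s hrpos.1 hspos.1 c hc
    obtain ⟨-, -, -, hlinB⟩ := hB.commTerms D hD r s hrpos.1 hspos.1 c hc
    have hgt := (commTerm_gt D hD A hA hO r s hrpos hspos c hc).1
    have hAr := hO.pos r hrpos
    have hcpos : D.IsPosRoot c.1 := isPosRoot_of_A_pos D hD A hA hO c.1 hc1 (by omega)
    refine ⟨(mem_posRoots D c.1).mpr hcpos, decide_eq_true ?_⟩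
    rw [hlinB]
    have h1 : (c.2.2.1 : ℤ) * B r < 0 := by
      have : (1 : ℤ) ≤ c.2.2.1 := by exact_mod_cast hi
      nlinarith
    have h2 : (c.2.2.2 : ℤ) * B s < 0 := by
      have : (1 : ℤ) ≤ c.2.2.2 := by exact_mod_cast hj
      nlinarith
    omega

/-- `U_n⁻` is generated by the root subgroups of the positive roots made negative by `n` -/
theorem uMinus_eq_closure (n : GL D.Idx F) (f : ℕ → ℕ) (hact : ActsAs D hD F n f) (B : ℕ → ℤ)
    (hBf : ∀ r < D.nroots, B r = A (f r)) :
    uMinus D F n = Subgroup.closure (gensL D F (negL D B)) := by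
  unfold uMinus
  congr 1
  ext x
  constructor
  · rintro ⟨r, t, hr, hle, hx⟩
    refine ⟨r, ?_, t, hx⟩
    unfold negL
    rw [List.mem_filter]
    refine ⟨(mem_posRoots D r).mpr hr, decide_eq_true ?_⟩
    obtain ⟨hlt, c, hc, h1⟩ := hact r hr.1
    have hneg : D.IsNegRoot (f r) := by
      apply isNegRoot_of_mem D hD F (f r) hlt
      intro t'
      have := (map_conj_le_iff D hD F n r).mp hle (c⁻¹ * t')
      rw [h1, ← mul_assoc, mul_inv_cancel₀ hc, one_mul] at this
      exact this
    rw [hBf r hr.1]
    exact A_neg_of_neg D hD A hA hO (f r) hneg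
  · rintro ⟨r, hr, t, hx⟩
    unfold negL at hr
    rw [List.mem_filter] at hr
    have hrpos := (mem_posRoots D r).mp hr.1
    have hBr : B r < 0 := of_decide_eq_true hr.2
    refine ⟨r, t, hrpos, ?_, hx⟩
    rw [map_conj_le_iff D hD F n r]
    intro t'
    obtain ⟨hlt, c, hc, h1⟩ := hact r hrpos.1
    rw [h1]
    apply xGL_neg_mem D hD F
    rcases posOrNeg_of_mem D hD (f r) hlt with hp | hn
    · exfalso
      have := hO.pos _ hp
      rw [hBf r hrpos.1] at hBr
      omega
    · exact hn

end

end Cfsg.Agent.Lib.Helper7.SemiCent
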