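import Cfsg.Agent.Lib.Helper7.SemiCentB
import Cfsg.Agent.Lib.Helper11.RegCent

/-! Centralisers of semisimple elements (helper7), part C: the number of elements of a group of
ordered products commuting with an element of `H`. -/

set_option autoImplicit false

namespace Cfsg.Agent.Lib.Helper7.SemiCent

open Cfsg Cfsg.Lie Matrix Cfsg.Agent.Lib.Helper7
open Cfsg.Agent.Lib.Helper11.RegCent
open scoped Pointwise

section
variable (D : ChevalleyDatum) (hD : D ∈ [chevG2, chevB2, chevD4, chevF4, chevE6, chevE7, chevE8])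
variable (F : Type*) [Field F]
variable (A : ℕ → ℤ) (hA : ChainAdd D A) (hO : OrdFacts D A)
include hD hA hO

/-- an ordered product over a closed list commutes with `h ∈ H` iff its coefficients vanish at the roots
where the character of `h` is not `1` -/
theorem ordProd_comm_iff (l : List ℕ) (hl : ClosedL D l) (h : GL D.Idx F) (χ : ℕ → F)
    (hχ : ChainChar D F χ) (hh : (h : Matrix D.Idx D.Idx F) = diagChar D F χ) (t : ℕ → F) :
    h * ordProd D hD F l t = ordProd D hD F l t * h ↔ ∀ r ∈ l, χ r ≠ 1 → t r = 0 := by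
  have hconj := diag_conj_ordProd D hD F h χ hχ hh l t
  constructor
  · intro hc r hr hne
    have e : ordProd D hD F l (fun r => χ r * t r) = ordProd D hD F l t := by
      rw [← hconj, hc]; group
    have := ordProd_inj' D hD F A hA hO l hl _ _ e r hr
    have h2 : (χ r - 1) * t r = 0 := by
      rw [sub_mul, one_mul, this, sub_self]
    rcases mul_eq_zero.mp h2 with h3 | h3
    · exact absurd (sub_eq_zero.mp h3) hne
    · exact h3
  · intro h0
    have e : ordProd D hD F l (fun r => χ r * t r) = ordProd D hD F l t := by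
      apply ordProd_congr
      intro r hr
      by_cases h1 : χ r = 1
      · rw [h1, one_mul]
      · rw [h0 r hr h1, mul_zero]
    rw [e] at hconj
    calc h * ordProd D hD F l t = (h * ordProd D hD F l t * h⁻¹) * h := by group
      _ = ordProd D hD F l t * h := by rw [hconj]

/-- the number of elements of `⟨X_r : r ∈ l⟩` commuting with `h ∈ H` -/
theorem card_cent_closure [Fintype F] (l : List ℕ) (hl : ClosedL D l) (h : GL D.Idx F) (χ : ℕ → F)
    (hχ : ChainChar D F χ) (hh : (h : Matrix D.Idx D.Idx F) = diagChar D F χ)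
    (psi : ℕ → Bool) (hpsi : ∀ r ∈ l, (χ r = 1 ↔ psi r = true)) :
    Nat.card {u : GL D.Idx F // u ∈ Subgroup.closure (gensL D F l) ∧ h * u = u * h} =
      Fintype.card F ^ (l.filter psi).length := by
  classical
  have hnd : (l.filter psi).Nodup := (List.Pairwise.filter _ hl.sorted).imp (fun h => Nat.ne_of_lt h)
  let s : Finset ℕ := (l.filter psi).toFinset
  let ext : (↥s → F) → ℕ → F := fun t r => if hr : r ∈ s then t ⟨r, hr⟩ else 0
  have hext0 : ∀ (t : ↥s → F), ∀ r ∈ l, χ r ≠ 1 → ext t r = 0 := by
    intro t r hr hne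
    have : r ∉ s := by
      intro hrs
      have := List.mem_toFinset.mp hrs
      rw [List.mem_filter] at this
      exact hne ((hpsi r hr).mpr this.2)
    simp only [ext, dif_neg this]
  let φ : (↥s → F) → {u : GL D.Idx F // u ∈ Subgroup.closure (gensL D F l) ∧ h * u = u * h} :=
    fun t => ⟨ordProd D hD F l (ext t), ordProd_mem D hD F l _,
      (ordProd_comm_iff D hD F A hA hO l hl h χ hχ hh _).mpr (hext0 t)⟩
  have hinj : Function.Injective φ := by
    intro t t' heq
    have h1 : ordProd D hD F l (ext t) = ordProd D hD F l (ext t') := congrArg Subtype.val heq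
    funext ⟨r, hr⟩
    have hrl : r ∈ l := (List.mem_filter.mp (List.mem_toFinset.mp hr)).1
    have := ordProd_inj' D hD F A hA hO l hl _ _ h1 r hrl
    simp only [ext, dif_pos hr] at this
    exact this
  have hsurj : Function.Surjective φ := by
    rintro ⟨u, hu, hc⟩
    obtain ⟨T, rfl⟩ := exists_ordProd' D hD F A hA hO l hl u hu
    have h0 := (ordProd_comm_iff D hD F A hA hO l hl h χ hχ hh T).mp hc
    refine ⟨fun r => T r.1, ?_⟩
    apply Subtype.ext
    show ordProd D hD F l (ext fun r => T r.1) = ordProd D hD F l T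
    apply ordProd_congr
    intro r hr
    by_cases hrs : r ∈ s
    · simp only [ext, dif_pos hrs]
    · simp only [ext, dif_neg hrs]
      have : χ r ≠ 1 := by
        intro h1
        apply hrs
        apply List.mem_toFinset.mpr
        rw [List.mem_filter]
        exact ⟨hr, (hpsi r hr).mp h1⟩
      exact (h0 r hr this).symm
  rw [← Nat.card_congr (Equiv.ofBijective φ ⟨hinj, hsurj⟩), Nat.card_fun, Nat.card_eq_fintype_card,
    Nat.card_eq_fintype_card, Fintype.card_coe, List.toFinset_card_of_nodup hnd]

/-- the number of elements of `U` commuting with `h ∈ H` -/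
theorem card_cent_posUnipotent [Fintype F] (h : GL D.Idx F) (χ : ℕ → F)
    (hχ : ChainChar D F χ) (hh : (h : Matrix D.Idx D.Idx F) = diagChar D F χ)
    (psi : ℕ → Bool) (hpsi : ∀ r < D.nroots, (χ r = 1 ↔ psi r = true)) :
    Nat.card {u : GL D.Idx F // u ∈ D.posUnipotent F ∧ h * u = u * h} =
      Fintype.card F ^ (D.posRoots.filter psi).length := by
  have hG := goodL_posRoots D
  have hcl : ClosedL D D.posRoots := by
    refine ⟨hG.sorted, hG.pos, ?_⟩
    intro r hr s hs c hc
    have hrpos := hG.pos r hr
    have hspos := hG.pos s hs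
    obtain ⟨hc1, -, -, -⟩ := hA.commTerms D hD r s hrpos.1 hspos.1 c hc
    have hgt := (commTerm_gt D hD A hA hO r s hrpos hspos c hc).1
    have hAr := hO.pos r hrpos
    exact (mem_posRoots D c.1).mpr (isPosRoot_of_A_pos D hD A hA hO c.1 hc1 (by omega))
  rw [posUnipotent_eq_closure_gensL]
  exact card_cent_closure D hD F A hA hO _ hcl h χ hχ hh psi
    (fun r hr => hpsi r (hG.pos r hr).1)

/-- the number of elements of `U_n⁻` commuting with `h ∈ H` -/
theorem card_cent_uMinus [Fintype F] (n : GL D.Idx F) (f : ℕ → ℕ) (hact : ActsAs D hD F n f)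
    (B : ℕ → ℤ) (hB : ChainAdd D B) (hBf : ∀ r < D.nroots, B r = A (f r))
    (h : GL D.Idx F) (χ : ℕ → F)
    (hχ : ChainChar D F χ) (hh : (h : Matrix D.Idx D.Idx F) = diagChar D F χ)
    (psi : ℕ → Bool) (hpsi : ∀ r < D.nroots, (χ r = 1 ↔ psi r = true)) :
    Nat.card {u : GL D.Idx F // u ∈ uMinus D F n ∧ h * u = u * h} =
      Fintype.card F ^ ((negL D B).filter psi).length := by
  rw [uMinus_eq_closure D hD F A hA hO n f hact B hBf]
  have hcl := closedL_negL D hD A hA hO B hB
  exact card_cent_closure D hD F A hA hO _ hcl h χ hχ hh psi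
    (fun r hr => hpsi r (hcl.pos r hr).1)

omit hA in
/-- `negL` in terms of the sign of `f r` -/
theorem negL_eq_filter (f : ℕ → ℕ) (hf : ∀ r < D.nroots, f r < D.nroots) (B : ℕ → ℤ)
    (hBf : ∀ r < D.nroots, B r = A (f r)) (hneg : ∀ r, D.IsNegRoot r → A r < 0) :
    negL D B = D.posRoots.filter (fun r => decide (D.IsNegRoot (f r))) := by
  unfold negL
  apply List.filter_congr
  intro r hr
  have hrpos := (mem_posRoots D r).mp hr
  have hlt := hf r hrpos.1
  rw [hBf r hrpos.1]
  by_cases h1 : D.IsNegRoot (f r)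
  · rw [decide_eq_true h1, decide_eq_true (hneg _ h1)]
  · rw [decide_eq_false h1]
    rcases posOrNeg_of_mem D hD (f r) hlt with hp | hn
    · have := hO.pos _ hp
      rw [decide_eq_false (by omega)]
    · exact absurd hn h1

end

end Cfsg.Agent.Lib.Helper7.SemiCent
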