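import Mathlib
import Cfsg.Prelude.Def_ClassicalGeometry
import Cfsg.Prelude.Def_GeometricClasses
import Cfsg.Agent.Lib.Helper5.SpMax
import Cfsg.Agent.Lib.Helper22.C3Defs
import Cfsg.Agent.Lib.Helper22.C3Tool
import Cfsg.Agent.Lib.Helper23.C3E

/-!
S5804 conjunct (6) (`GU_3(q).2 < Sp_6(q)`, `q` odd; helper10's sub-market): the existence lemma E1 of
helper22's S5665 tower in the two forms that survive at `m = 3`:

* `exists_nonsing_perp_lt`: `finrank W < m` (dimension count, any `W`);
* `exists_nonsing_perp_nd`: `W` is `J`-invariant and non-degenerate for the alternating form, `finrank W < 2 m`.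
-/

set_option autoImplicit false

namespace Cfsg.Agent.Lib.Helper7.SpGU3
open Cfsg Matrix Cfsg.Agent.Lib.Helper5 Cfsg.Agent.Lib.Helper5.SpMax Cfsg.Agent.Lib.Helper22.C3
  Cfsg.Agent.Lib.Helper22.C3Leaf Cfsg.Agent.Lib.Helper23.C3Leaf

variable {F : Type*} [Field F] {m : ℕ}

local notation "𝕍" => (Fin m ⊕ Fin m → F)
local notation "𝕄" => Matrix (Fin m ⊕ Fin m) (Fin m ⊕ Fin m) F

/-- E1 (dimension count): a non-singular vector orthogonal to any subspace of dimension `< m`. -/
theorem exists_nonsing_perp_lt (S : CS m F) (h2 : (2 : F) ≠ 0)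
    (W : Submodule F 𝕍) (hW : Module.finrank F W < m) :
    ∃ v : 𝕍, S.N v ≠ 0 ∧ ∀ w ∈ W, sympForm m F v w = 0 := by
  set B : LinearMap.BilinForm F 𝕍 := Bform m F with hB
  set X := LinearMap.BilinForm.orthogonal B W with hX
  have hXfr : Module.finrank F X = 2 * m - Module.finrank F W := by
    rw [hX, LinearMap.BilinForm.finrank_orthogonal Bform_nondegenerate, finrank_V]
  by_contra hcon
  push Not at hcon
  have hN : ∀ v ∈ X, S.N v = 0 := by
    intro v hv
    by_contra hv0
    obtain ⟨w, hw, hvw⟩ := hcon v hv0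
    apply hvw
    have := hv w hw
    rw [sympForm_swap]
    change sympForm m F w v = 0 at this
    rw [this, neg_zero]
  have hpol : ∀ u ∈ X, ∀ u' ∈ X, sympForm m F u (S.J *ᵥ u') = 0 := by
    intro u hu u' hu'
    have h := N_add S u u'
    rw [hN u hu, hN u' hu', hN (u + u') (X.add_mem hu hu'), zero_add, zero_add] at h
    exact (mul_eq_zero.mp h.symm).resolve_left h2
  have hle : X.map (Matrix.toLin' S.J) ≤ LinearMap.BilinForm.orthogonal B X := by
    rintro _ ⟨u', hu', rfl⟩
    intro u hu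
    rw [Matrix.toLin'_apply]
    exact hpol u hu u' hu'
  have h1 := Submodule.finrank_mono hle
  rw [LinearMap.BilinForm.finrank_orthogonal Bform_nondegenerate, finrank_V,
    ← (Submodule.equivMapOfInjective (Matrix.toLin' S.J) (J_injective S) X).finrank_eq] at h1
  omega

/-- E1 (hermitian non-degenerate form): a non-singular vector orthogonal to a proper `J`-invariant
subspace on which the alternating form is non-degenerate. -/
theorem exists_nonsing_perp_nd (S : CS m F) (h2 : (2 : F) ≠ 0)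
    (W : Submodule F 𝕍) (hJ : ∀ w ∈ W, S.J *ᵥ w ∈ W)
    (hnd : ∀ w ∈ W, (∀ w' ∈ W, sympForm m F w w' = 0) → w = 0)
    (hW : Module.finrank F W < 2 * m) :
    ∃ v : 𝕍, S.N v ≠ 0 ∧ ∀ w ∈ W, sympForm m F v w = 0 := by
  set B : LinearMap.BilinForm F 𝕍 := Bform m F with hB
  set X := LinearMap.BilinForm.orthogonal B W with hX
  have hXfr : Module.finrank F X = 2 * m - Module.finrank F W := by
    rw [hX, LinearMap.BilinForm.finrank_orthogonal Bform_nondegenerate, finrank_V]
  have hXmem : ∀ v : 𝕍, v ∈ X ↔ ∀ w ∈ W, sympForm m F w v = 0 := by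
    intro v
    rfl
  have hXperp : ∀ v ∈ X, ∀ w ∈ W, sympForm m F v w = 0 := by
    intro v hv w hw
    rw [sympForm_swap, (hXmem v).mp hv w hw, neg_zero]
  -- `X` is `J`-invariant
  have hXJ : ∀ v ∈ X, S.J *ᵥ v ∈ X := by
    intro v hv
    rw [hXmem]
    intro w hw
    rw [form_J_symm]
    exact hXperp v hv _ (hJ w hw)
  -- `X ⊓ W = ⊥` and `X ⊔ W = ⊤`
  have hdisj : Disjoint W X := by
    rw [Submodule.disjoint_def]
    intro w hw hwX
    exact hnd w hw (fun w' hw' => hXperp w hwX w' hw')
  have hsup : W ⊔ X = ⊤ := by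
    apply Submodule.eq_top_of_finrank_eq
    have h3 := Submodule.finrank_sup_add_finrank_inf_eq W X
    rw [disjoint_iff.mp hdisj, finrank_bot, add_zero, hXfr] at h3
    rw [h3, finrank_V]
    omega
  by_contra hcon
  push Not at hcon
  have hN : ∀ v ∈ X, S.N v = 0 := by
    intro v hv
    by_contra hv0
    obtain ⟨w, hw, hvw⟩ := hcon v hv0
    exact hvw (hXperp v hv w hw)
  have hpol : ∀ u ∈ X, ∀ u' ∈ X, sympForm m F u (S.J *ᵥ u') = 0 := by
    intro u hu u' hu'
    have h := N_add S u u'
    rw [hN u hu, hN u' hu', hN (u + u') (X.add_mem hu hu'), zero_add, zero_add] at h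
    exact (mul_eq_zero.mp h.symm).resolve_left h2
  -- a non-zero vector of `X`
  have hXpos : 0 < Module.finrank F X := by rw [hXfr]; omega
  obtain ⟨u, huX, hu0⟩ : ∃ u ∈ X, u ≠ 0 := by
    by_contra hno
    push Not at hno
    have : X = ⊥ := by
      rw [Submodule.eq_bot_iff]
      exact hno
    rw [this, finrank_bot] at hXpos
    exact lt_irrefl _ hXpos
  -- `J u` is orthogonal to everything
  have hJu0 : S.J *ᵥ u ≠ 0 := by
    intro h
    apply hu0
    have := J_injective S (a₁ := u) (a₂ := 0) (by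
      rw [Matrix.toLin'_apply, Matrix.toLin'_apply, h, Matrix.mulVec_zero])
    exact this
  obtain ⟨a, ha⟩ := sympForm_nondeg (S.J *ᵥ u) hJu0
  have hamem : a ∈ W ⊔ X := by rw [hsup]; exact Submodule.mem_top
  obtain ⟨w, hw, x, hx, rfl⟩ := Submodule.mem_sup.mp hamem
  apply ha
  rw [sympForm_add_right, hXperp _ (hXJ u huX) w hw, zero_add, sympForm_swap, hpol x hx u huX,
    neg_zero]

end Cfsg.Agent.Lib.Helper7.SpGU3
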