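import Mathlib
import Cfsg.Agent.Lib.Helper29.SpPrfDefs
import Cfsg.Agent.Lib.Helper29.SpAschTools

/-!
S5662 (Aschbacher for `Sp_2m(F)`), block PRF (planner helper29): leaf (E0) `exists_gram_ptens`, by helper7.
By-products (cores of (B1), (B2) for an arbitrary finite index type): `adjM_conjR7`, `isAltGram_gramT7`.
-/

set_option autoImplicit false
set_option linter.unusedSectionVars false
set_option linter.unusedVariables false

namespace Cfsg.Agent.Lib.Helper7.SpPrfLeaf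
open Matrix Cfsg Cfsg.Geo Cfsg.Agent.Lib.Helper20.Asch Cfsg.Agent.Lib.Helper29.SpAsch
  Cfsg.Agent.Lib.Helper18.AschA89
open scoped Kronecker

variable {F : Type*} [Field F] [Fintype F] {n m : ℕ} {J : Matrix (Fin n) (Fin n) F}
  {H N : Subgroup (GL (Fin n) F)}

section transport
variable {κ : Type} [Fintype κ] [DecidableEq κ]

private lemma p_mul_pi (P : GL (Fin n) F) :
    (P : Matrix (Fin n) (Fin n) F) * ((P⁻¹ : GL (Fin n) F) : Matrix (Fin n) (Fin n) F) = 1 := by
  rw [← Units.val_mul, mul_inv_cancel, Units.val_one]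

private lemma pi_mul_p (P : GL (Fin n) F) :
    ((P⁻¹ : GL (Fin n) F) : Matrix (Fin n) (Fin n) F) * (P : Matrix (Fin n) (Fin n) F) = 1 := by
  rw [← Units.val_mul, inv_mul_cancel, Units.val_one]

/-- the inverse of `Pᵀ J P` -/
lemma inv_congr7 (hd : J.det ≠ 0) (P : GL (Fin n) F) :
    ((P : Matrix (Fin n) (Fin n) F)ᵀ * J * (P : Matrix (Fin n) (Fin n) F))⁻¹ =
      ((P⁻¹ : GL (Fin n) F) : Matrix (Fin n) (Fin n) F) * J⁻¹ *
        (((P⁻¹ : GL (Fin n) F) : Matrix (Fin n) (Fin n) F))ᵀ := by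
  apply Matrix.inv_eq_right_inv
  set p := (P : Matrix (Fin n) (Fin n) F)
  set q := ((P⁻¹ : GL (Fin n) F) : Matrix (Fin n) (Fin n) F)
  calc pᵀ * J * p * (q * J⁻¹ * qᵀ) = pᵀ * (J * ((p * q) * J⁻¹)) * qᵀ := by simp only [mul_assoc]
    _ = pᵀ * qᵀ := by rw [p_mul_pi, one_mul, J_mul_inv hd, mul_one]
    _ = 1 := by rw [← Matrix.transpose_mul, pi_mul_p, Matrix.transpose_one]

/-- core of (B1): the adjoint in coordinates -/
lemma adjM_conjR7 (hd : J.det ≠ 0) (e : Fin n ≃ κ) (P : GL (Fin n) F) (M : Matrix κ κ F) :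
    adjM J (conjR e P M) = conjR e P (adjM (gramT e P J) M) := by
  unfold adjM conjR gramT
  simp only [Matrix.reindex_apply, Equiv.symm_symm]
  set p := (P : Matrix (Fin n) (Fin n) F)
  set q := ((P⁻¹ : GL (Fin n) F) : Matrix (Fin n) (Fin n) F)
  set M' := M.submatrix e e with hM'
  have h1 : (((pᵀ * J * p).submatrix e.symm e.symm)⁻¹ * Mᵀ *
      (pᵀ * J * p).submatrix e.symm e.symm).submatrix e e =
      (pᵀ * J * p)⁻¹ * M'ᵀ * (pᵀ * J * p) := by
    rw [← Matrix.submatrix_mul_equiv _ _ e e e, ← Matrix.submatrix_mul_equiv _ _ e e e,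
      Matrix.inv_submatrix_equiv, Matrix.submatrix_submatrix, Matrix.submatrix_submatrix]
    simp only [Equiv.symm_comp_self, Matrix.submatrix_id_id]
    rw [hM', Matrix.transpose_submatrix]
  rw [h1, inv_congr7 hd P]
  rw [Matrix.transpose_mul, Matrix.transpose_mul]
  calc J⁻¹ * (qᵀ * (M'ᵀ * pᵀ)) * J
      = (p * q) * J⁻¹ * qᵀ * M'ᵀ * pᵀ * J * (p * q) := by
        rw [p_mul_pi, one_mul, mul_one]; simp only [mul_assoc]
    _ = p * (q * J⁻¹ * qᵀ * M'ᵀ * (pᵀ * J * p)) * q := by simp only [mul_assoc]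

/-- core of (B2) -/
lemma isAltGram_gramT7 (hJ : IsAltGram J) (e : Fin n ≃ κ) (P : GL (Fin n) F) :
    IsAltGram (gramT e P J) := by
  set p := (P : Matrix (Fin n) (Fin n) F) with hp
  refine ⟨?_, ?_, ?_⟩
  · unfold gramT
    simp only [Matrix.reindex_apply]
    rw [Matrix.transpose_submatrix, Matrix.transpose_mul, Matrix.transpose_mul,
      Matrix.transpose_transpose, hJ.skew]
    ext i j
    simp [Matrix.mul_assoc]
  · intro i
    unfold gramT
    simp only [Matrix.reindex_apply, Matrix.submatrix_apply]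
    have h := bfm_self hJ (p *ᵥ Pi.single (e.symm i) 1)
    rw [bfm_mulVec, bfm_entry] at h
    exact h
  · unfold gramT
    rw [Matrix.reindex_apply, Matrix.det_submatrix_equiv_self, Matrix.det_mul, Matrix.det_mul,
      Matrix.det_transpose]
    have hp0 : p.det ≠ 0 := by
      have h1 : p.det * (((P⁻¹ : GL (Fin n) F) : Matrix (Fin n) (Fin n) F)).det = 1 := by
        rw [← Matrix.det_mul, p_mul_pi, Matrix.det_one]
      exact left_ne_zero_of_mul_eq_one h1
    exact mul_ne_zero (mul_ne_zero hp0 hJ.det) hp0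

end transport

/-- (E0) -/
theorem exists_gram_ptens (hJ : IsAltGram J) {s t : ℕ} (hs : 0 < s) {X : Fin t → Subgroup (GL (Fin n) F)}
    (hX : ∀ i, X i ≤ isoG J) (e : Fin n ≃ (Fin t → Fin s)) (P : GL (Fin n) F)
    (hmem : ∀ i, ∀ A : Matrix (Fin s) (Fin s) F, conjR e P (slot s t i A) ∈ Env (X i))
    (hof : ∀ i, ∀ T ∈ Env (X i), ∃ A : Matrix (Fin s) (Fin s) F, T = conjR e P (slot s t i A))
    (hA5 : ∀ G' : Matrix (Fin t → Fin s) (Fin t → Fin s) F, G'.det ≠ 0 →
      (∀ i, ∀ A : Matrix (Fin s) (Fin s) F, ∃ A' : Matrix (Fin s) (Fin s) F,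
        adjM G' (slot s t i A) = slot s t i A') →
      (∀ T : Matrix (Fin t → Fin s) (Fin t → Fin s) F, adjM G' (adjM G' T) = T) →
      ∃ (c : F) (G : Fin t → Matrix (Fin s) (Fin s) F), c ≠ 0 ∧ (∀ i, IsUnit (G i).det) ∧
        G' = c • ptens s t G) :
    ∃ (c : F) (G : Fin t → Matrix (Fin s) (Fin s) F), c ≠ 0 ∧ (∀ i, IsUnit (G i).det) ∧
      gramT e P J = c • ptens s t G := by
  have hG' : IsAltGram (gramT e P J) := isAltGram_gramT7 hJ e P
  refine hA5 (gramT e P J) hG'.det ?_ (adjM_adjM hG')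
  intro i A
  have h1 : adjM J (conjR e P (slot s t i A)) ∈ Env (X i) :=
    adjM_mem_Env hJ.det (hX i) (hmem i A)
  obtain ⟨A', hA'⟩ := hof i _ h1
  refine ⟨A', ?_⟩
  rw [adjM_conjR7 hJ.det] at hA'
  exact conjR_injective e P hA'

end Cfsg.Agent.Lib.Helper7.SpPrfLeaf
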