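import Cfsg.Agent.Lib.Helper7.PolyVec

/-! Sparse vectors of integer polynomials and the action of the root elements `x_r(κ t)` on them through the
columns of `x_r`, read off the tables of the datum (helper7). -/

set_option autoImplicit false

namespace Cfsg.Agent.Lib.Helper7.SV

open Cfsg Cfsg.Lie Matrix Cfsg.Agent.Lib.Helper7

section col
variable (D : ChevalleyDatum)

/-- an entry in the row of the root with index `u`, if there is such a root -/
def rootEntry (u : ℕ) (p : List (ℕ × ℤ)) : List (D.Idx × List (ℕ × ℤ)) :=
  if h : u < D.nroots then [(Sum.inr ⟨u, h⟩, p)] else []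

/-- the entries of the column `s` of `x_r(t)` coming from the chain table -/
def chainCol (r s : ℕ) : List (ℕ × List (ℕ × ℤ)) :=
  ((D.chain.getD r #[]).toList.filter (fun e => e.1 = s)).flatMap fun e =>
    (e.2.toList.zipIdx).map fun q => (q.1.1, [(q.2 + 1, q.1.2)])

/-- the non-zero entries of a column of `x_r(t)` -/
def colX (r : ℕ) : D.Idx → List (D.Idx × List (ℕ × ℤ))
  | Sum.inl i => (Sum.inl i, [(0, 1)]) :: rootEntry D r [(1, -((D.cartanSR.getD i.val #[]).getD r 0))]
  | Sum.inr s =>
    if s.val = r then [(Sum.inr s, [(0, 1)])]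
    else if s.val = D.negIdx.getD r 0 then
      (Sum.inr s, [(0, 1)]) :: (rootEntry D r [(2, -1)] ++
        (List.finRange D.rank).map fun i => (Sum.inl i, [(1, (D.coroot.getD r #[]).getD i.val 0)]))
    else (Sum.inr s, [(0, 1)]) :: (chainCol D r s.val).flatMap fun e => rootEntry D e.1 e.2

variable (F : Type*) [Field F]

/-- the entry in a given row of a sparse column -/
def cSum (t : F) (L : List (D.Idx × List (ℕ × ℤ))) (row : D.Idx) : F :=
  (L.map fun e => if e.1 = row then evalL F e.2 t else 0).sum

theorem cSum_nil (t : F) (row : D.Idx) : cSum D F t [] row = 0 := rfl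

theorem cSum_cons (t : F) (e : D.Idx × List (ℕ × ℤ)) (L : List (D.Idx × List (ℕ × ℤ))) (row : D.Idx) :
    cSum D F t (e :: L) row = (if e.1 = row then evalL F e.2 t else 0) + cSum D F t L row := by
  unfold cSum
  rw [List.map_cons, List.sum_cons]

theorem cSum_append (t : F) (L L' : List (D.Idx × List (ℕ × ℤ))) (row : D.Idx) :
    cSum D F t (L ++ L') row = cSum D F t L row + cSum D F t L' row := by
  unfold cSum
  rw [List.map_append, List.sum_append]

theorem cSum_rootEntry_inl (t : F) (u : ℕ) (p : List (ℕ × ℤ)) (i : Fin D.rank) :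
    cSum D F t (rootEntry D u p) (Sum.inl i) = 0 := by
  unfold rootEntry
  split_ifs
  · rw [cSum_cons, cSum_nil, if_neg (by simp), add_zero]
  · rfl

theorem cSum_rootEntry_inr (t : F) (u : ℕ) (p : List (ℕ × ℤ)) (v : Fin D.nroots) :
    cSum D F t (rootEntry D u p) (Sum.inr v) = if v.val = u then evalL F p t else 0 := by
  unfold rootEntry
  by_cases h1 : u < D.nroots
  · rw [dif_pos h1, cSum_cons, cSum_nil, add_zero]
    by_cases h2 : v.val = u
    · subst h2
      rw [if_pos rfl, if_pos rfl]
    · rw [if_neg h2, if_neg]
      intro e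
      exact h2 (congrArg Fin.val (Sum.inr.inj e)).symm
  · rw [dif_neg h1, cSum_nil, if_neg]
    intro e
    exact h1 (e ▸ v.isLt)

theorem sum_finRange_ite {n : ℕ} (i : Fin n) (f : Fin n → F) :
    ((List.finRange n).map fun j => if j = i then f j else 0).sum = f i := by
  rw [← Fin.sum_univ_def, Finset.sum_ite_eq' Finset.univ i f, if_pos (Finset.mem_univ _)]

theorem chain_inner (t : F) (u : ℕ) (L : List ((ℕ × ℤ) × ℕ)) :
    evalL F ((L.filter (fun q => q.1.1 = u)).map fun q => (q.2 + 1, q.1.2)) t =
      ((L.map fun q => ((q.1.1, [(q.2 + 1, q.1.2)]) : ℕ × List (ℕ × ℤ))).map fun e =>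
        if u = e.1 then evalL F e.2 t else 0).sum := by
  induction L with
  | nil => rfl
  | cons q L ih =>
    rw [List.map_cons, List.map_cons, List.sum_cons, ← ih]
    by_cases h : q.1.1 = u
    · rw [List.filter_cons_of_pos (by simpa using h), List.map_cons, if_pos h.symm]
      unfold evalL
      simp
    · rw [List.filter_cons_of_neg (by simpa using h), if_neg (fun e => h e.symm), zero_add]

theorem chainCoeff_eq (t : F) (r s u : ℕ) :
    evalL F (D.chainCoeff r s u) t =
      ((chainCol D r s).map fun e => if u = e.1 then evalL F e.2 t else 0).sum := by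
  unfold ChevalleyDatum.chainCoeff chainCol
  induction ((D.chain.getD r #[]).toList.filter (fun e => e.1 = s)) with
  | nil => rfl
  | cons e L ih =>
    rw [List.flatMap_cons, List.flatMap_cons, evalL_append, List.map_append, List.sum_append, ih,
      chain_inner]

theorem cSum_chain_inl (t : F) (L : List (ℕ × List (ℕ × ℤ))) (i : Fin D.rank) :
    cSum D F t (L.flatMap fun e => rootEntry D e.1 e.2) (Sum.inl i) = 0 := by
  induction L with
  | nil => rfl
  | cons e L ih =>
    rw [List.flatMap_cons, cSum_append, ih, cSum_rootEntry_inl, add_zero]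

theorem cSum_chain_inr (t : F) (L : List (ℕ × List (ℕ × ℤ))) (v : Fin D.nroots) :
    cSum D F t (L.flatMap fun e => rootEntry D e.1 e.2) (Sum.inr v) =
      (L.map fun e => if v.val = e.1 then evalL F e.2 t else 0).sum := by
  induction L with
  | nil => rfl
  | cons e L ih =>
    rw [List.flatMap_cons, cSum_append, ih, cSum_rootEntry_inr, List.map_cons, List.sum_cons]

theorem cSum_cartan_inr (t : F) (f : Fin D.rank → List (ℕ × ℤ)) (v : Fin D.nroots) :
    cSum D F t ((List.finRange D.rank).map fun i => ((Sum.inl i, f i) : D.Idx × List (ℕ × ℤ))) (Sum.inr v) = 0 := by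
  unfold cSum
  rw [List.map_map]
  apply List.sum_eq_zero
  intro x hx
  obtain ⟨i, -, rfl⟩ := List.mem_map.mp hx
  simp

theorem cSum_cartan_inl (t : F) (f : Fin D.rank → List (ℕ × ℤ)) (i : Fin D.rank) :
    cSum D F t ((List.finRange D.rank).map fun i => ((Sum.inl i, f i) : D.Idx × List (ℕ × ℤ))) (Sum.inl i) =
      evalL F (f i) t := by
  unfold cSum
  rw [List.map_map]
  have := sum_finRange_ite F i (fun j => evalL F (f j) t)
  rw [← this]
  congr 1
  apply List.map_congr_left
  intro j _
  simp only [Function.comp]
  by_cases h : j = i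
  · rw [if_pos h, if_pos (by rw [h])]
  · rw [if_neg h, if_neg (fun e => h (Sum.inl.inj e))]

/-- the entries of `x_r(t)` from its sparse columns -/
theorem colX_spec (r : ℕ) (t : F) (row col : D.Idx) :
    evalL F (polyEntry D r row col) t = cSum D F t (colX D r col) row := by
  rcases col with i | s
  · rcases row with i' | u
    · show evalL F (if i' = i then [(0, 1)] else []) t = cSum D F t ((Sum.inl i, [(0, 1)]) ::
        rootEntry D r [(1, -((D.cartanSR.getD i.val #[]).getD r 0))]) (Sum.inl i')
      rw [cSum_cons, cSum_rootEntry_inl, add_zero]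
      by_cases h : i' = i
      · rw [if_pos h, if_pos (by rw [h])]
      · rw [if_neg h, if_neg (fun e => h (Sum.inl.inj e).symm), evalL_nil]
    · show evalL F (if u.val = r then [(1, -((D.cartanSR.getD i.val #[]).getD r 0))] else []) t =
        cSum D F t ((Sum.inl i, [(0, 1)]) ::
        rootEntry D r [(1, -((D.cartanSR.getD i.val #[]).getD r 0))]) (Sum.inr u)
      have e : ¬ ((Sum.inl i : D.Idx) = Sum.inr u) := by simp
      rw [cSum_cons, cSum_rootEntry_inr, if_neg (show ¬ (Sum.inl i, ([(0, 1)] : List (ℕ × ℤ))).1 = (Sum.inr u : D.Idx) from e),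
        zero_add]
      split_ifs
      · rfl
      · exact evalL_nil F t
  · rcases row with i | u
    · show evalL F (if s.val = r then [] else if s.val = D.negIdx.getD r 0 then
          [(1, (D.coroot.getD r #[]).getD i.val 0)] else []) t = cSum D F t (if s.val = r then [(Sum.inr s, [(0, 1)])]
        else if s.val = D.negIdx.getD r 0 then
          (Sum.inr s, [(0, 1)]) :: (rootEntry D r [(2, -1)] ++
            (List.finRange D.rank).map fun i => (Sum.inl i, [(1, (D.coroot.getD r #[]).getD i.val 0)]))
        else (Sum.inr s, [(0, 1)]) :: (chainCol D r s.val).flatMap fun e => rootEntry D e.1 e.2) (Sum.inl i)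
      split_ifs with h1 h2
      · rw [cSum_cons, cSum_nil, if_neg (by simp), add_zero, evalL_nil]
      · rw [cSum_cons, cSum_append, cSum_rootEntry_inl, cSum_cartan_inl, if_neg (by simp), zero_add, zero_add]
      · rw [cSum_cons, cSum_chain_inl, if_neg (by simp), add_zero, evalL_nil]
    · show evalL F (if s.val = r then (if u.val = r then [(0, 1)] else [])
          else if s.val = D.negIdx.getD r 0 then
            (if u = s then [(0, 1)] else if u.val = r then [(2, -1)] else [])
          else (if u = s then [(0, 1)] else []) ++ D.chainCoeff r s.val u.val) t =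
        cSum D F t (if s.val = r then [(Sum.inr s, [(0, 1)])]
        else if s.val = D.negIdx.getD r 0 then
          (Sum.inr s, [(0, 1)]) :: (rootEntry D r [(2, -1)] ++
            (List.finRange D.rank).map fun i => (Sum.inl i, [(1, (D.coroot.getD r #[]).getD i.val 0)]))
        else (Sum.inr s, [(0, 1)]) :: (chainCol D r s.val).flatMap fun e => rootEntry D e.1 e.2) (Sum.inr u)
      have hne : ∀ a b : Fin D.nroots, ((Sum.inr a : D.Idx) = Sum.inr b) ↔ a = b := by
        intro a b
        exact ⟨fun e => Sum.inr.inj e, fun e => by rw [e]⟩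
      by_cases h1 : s.val = r
      · rw [if_pos h1, if_pos h1, cSum_cons, cSum_nil, add_zero]
        by_cases h2 : u.val = r
        · rw [if_pos h2, if_pos]
          show (Sum.inr s : D.Idx) = Sum.inr u
          rw [hne]; apply Fin.ext; omega
        · rw [if_neg h2, if_neg, evalL_nil]
          show ¬ (Sum.inr s : D.Idx) = Sum.inr u
          rw [hne]; intro e; apply h2; rw [← e]; exact h1
      · rw [if_neg h1, if_neg h1]
        by_cases h2 : s.val = D.negIdx.getD r 0
        · rw [if_pos h2, if_pos h2, cSum_cons, cSum_append, cSum_rootEntry_inr, cSum_cartan_inr, add_zero]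
          by_cases h3 : u = s
          · rw [if_pos h3, if_pos (show (Sum.inr s, ([(0, 1)] : List (ℕ × ℤ))).1 = (Sum.inr u : D.Idx) by rw [h3]),
              if_neg (by rw [h3]; exact h1), add_zero]
          · rw [if_neg h3, if_neg (show ¬ (Sum.inr s, ([(0, 1)] : List (ℕ × ℤ))).1 = (Sum.inr u : D.Idx) from
              fun e => h3 ((hne _ _).mp e).symm), zero_add]
            split_ifs
            · rfl
            · exact evalL_nil F t
        · rw [if_neg h2, if_neg h2, cSum_cons, cSum_chain_inr, evalL_append, chainCoeff_eq]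
          congr 1
          by_cases h3 : u = s
          · rw [if_pos h3, if_pos (show (Sum.inr s, ([(0, 1)] : List (ℕ × ℤ))).1 = (Sum.inr u : D.Idx) by rw [h3])]
          · rw [if_neg h3, if_neg (show ¬ (Sum.inr s, ([(0, 1)] : List (ℕ × ℤ))).1 = (Sum.inr u : D.Idx) from
              fun e => h3 ((hne _ _).mp e).symm), evalL_nil]

end col

section vec
variable (D : ChevalleyDatum) (F : Type*) [Field F]

/-- the value of a sparse vector of polynomials -/
def svEval (t : F) (sv : List (D.Idx × List ℤ)) (i : D.Idx) : F :=
  (sv.map fun e => if e.1 = i then PV.pEval F e.2 t else 0).sum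

theorem svEval_nil (t : F) (i : D.Idx) : svEval D F t [] i = 0 := rfl

theorem svEval_cons (t : F) (e : D.Idx × List ℤ) (sv : List (D.Idx × List ℤ)) (i : D.Idx) :
    svEval D F t (e :: sv) i = (if e.1 = i then PV.pEval F e.2 t else 0) + svEval D F t sv i := by
  unfold svEval
  rw [List.map_cons, List.sum_cons]

theorem svEval_append (t : F) (sv sv' : List (D.Idx × List ℤ)) (i : D.Idx) :
    svEval D F t (sv ++ sv') i = svEval D F t sv i + svEval D F t sv' i := by
  unfold svEval
  rw [List.map_append, List.sum_append]

/-- `x_r(κ t)` applied to a sparse vector -/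
def applyS (r : ℕ) (κ : ℤ) (sv : List (D.Idx × List ℤ)) : List (D.Idx × List ℤ) :=
  sv.flatMap fun e => (colX D r e.1).map fun c => (c.1, PV.pMulTerms (PV.scaleT κ c.2) e.2)

/-- successive application of a word of root elements (the last letter first) -/
def applySW : List (ℕ × ℤ) → List (D.Idx × List ℤ) → List (D.Idx × List ℤ)
  | [], v => v
  | (r, κ) :: w, v => applyS D r κ (applySW w v)

theorem mulVec_svEval (M : Matrix D.Idx D.Idx F) (t : F) (sv : List (D.Idx × List ℤ)) (row : D.Idx) :
    M.mulVec (svEval D F t sv) row = (sv.map fun e => M row e.1 * PV.pEval F e.2 t).sum := by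
  induction sv with
  | nil =>
    show (∑ col, M row col * svEval D F t [] col) = 0
    apply Finset.sum_eq_zero
    intro col _
    rw [svEval_nil, mul_zero]
  | cons e sv ih =>
    rw [List.map_cons, List.sum_cons, ← ih]
    show (∑ col, M row col * svEval D F t (e :: sv) col) =
      M row e.1 * PV.pEval F e.2 t + ∑ col, M row col * svEval D F t sv col
    have e1 : ∀ col, M row col * svEval D F t (e :: sv) col =
        (if e.1 = col then M row col * PV.pEval F e.2 t else 0) + M row col * svEval D F t sv col := by
      intro col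
      rw [svEval_cons, mul_add]
      split_ifs
      · rfl
      · rw [mul_zero]
    rw [Finset.sum_congr rfl (fun col _ => e1 col), Finset.sum_add_distrib, Finset.sum_ite_eq Finset.univ e.1,
      if_pos (Finset.mem_univ _)]

theorem svEval_col (t : F) (κ : ℤ) (p : List ℤ) (L : List (D.Idx × List (ℕ × ℤ))) (row : D.Idx) :
    svEval D F t (L.map fun c => (c.1, PV.pMulTerms (PV.scaleT κ c.2) p)) row =
      cSum D F ((κ : F) * t) L row * PV.pEval F p t := by
  induction L with
  | nil => rw [List.map_nil, svEval_nil, cSum_nil, zero_mul]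
  | cons c L ih =>
    rw [List.map_cons, svEval_cons, cSum_cons, ih, add_mul]
    congr 1
    show (if c.1 = row then PV.pEval F (PV.pMulTerms (PV.scaleT κ c.2) p) t else 0) = _
    split_ifs
    · rw [PV.pEval_mulTerms, PV.evalL_scaleT]
    · rw [zero_mul]

theorem svEval_applyS (t : F) (r : ℕ) (hr : r < D.nroots) (κ : ℤ) (sv : List (D.Idx × List ℤ)) (row : D.Idx) :
    svEval D F t (applyS D r κ sv) row = (D.x F r ((κ : F) * t)).mulVec (svEval D F t sv) row := by
  rw [mulVec_svEval]
  induction sv with
  | nil => rfl
  | cons e sv ih =>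
    unfold applyS at ih ⊢
    rw [List.flatMap_cons, svEval_append, ih, List.map_cons, List.sum_cons, svEval_col, ← colX_spec,
      x_apply_eq D F r hr]

theorem svEval_applySW (t : F) (wd : List (ℕ × ℤ)) (hwd : ∀ p ∈ wd, p.1 < D.nroots)
    (sv : List (D.Idx × List ℤ)) :
    svEval D F t (applySW D wd sv) = (PV.wordMatK D F t wd).mulVec (svEval D F t sv) := by
  induction wd with
  | nil =>
    have : PV.wordMatK D F t [] = 1 := rfl
    rw [this, Matrix.one_mulVec]
    rfl
  | cons p wd ih =>
    obtain ⟨r, κ⟩ := p
    have e : PV.wordMatK D F t ((r, κ) :: wd) = D.x F r ((κ : F) * t) * PV.wordMatK D F t wd := by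
      unfold PV.wordMatK
      rw [List.map_cons, List.prod_cons]
    rw [e, ← Matrix.mulVec_mulVec, ← ih (fun q hq => hwd q (List.mem_cons_of_mem _ hq))]
    funext row
    exact svEval_applyS D F t r (hwd (r, κ) List.mem_cons_self) κ _ row

/-- the polynomial in a given row -/
def collect (sv : List (D.Idx × List ℤ)) (row : D.Idx) : List ℤ :=
  PV.pSumL ((sv.filter fun e => e.1 = row).map fun e => e.2)

theorem pEval_collect (t : F) (sv : List (D.Idx × List ℤ)) (row : D.Idx) :
    PV.pEval F (collect D sv row) t = svEval D F t sv row := by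
  unfold collect
  rw [PV.pEval_sumL, List.map_map]
  induction sv with
  | nil => rfl
  | cons e sv ih =>
    rw [svEval_cons, ← ih]
    by_cases h : e.1 = row
    · rw [List.filter_cons_of_pos (by simpa using h), List.map_cons, List.sum_cons, if_pos h]
      rfl
    · rw [List.filter_cons_of_neg (by simpa using h), if_neg h, zero_add]

end vec

end Cfsg.Agent.Lib.Helper7.SV
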