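/-
S4707 (T2P market, planner helper26), leaf T2P-PC1 (frozen statement in notes/S4707_leaves.lean):
the constituent of degree `p - 1` of the permutation character of a rank 3 primitive group of degree `2p`.
-/
import Mathlib
import Cfsg.Agent.Lib.Helper19.PDegC
import Cfsg.Agent.Lib.Helper19.W2PFinal
import Cfsg.Agent.Lib.Helper23.W2PDECOMP
import Cfsg.Agent.Lib.Helper5.W2PIDEM
import Cfsg.Agent.Lib.Helper5.W2PORB
import Cfsg.Agent.Lib.Helper7.W2PBLK
import Cfsg.Agent.Lib.Helper23.W2PCOUNT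
import Cfsg.Agent.Lib.Helper19.Order60
import Cfsg.Agent.Lib.Helper10.CyclicTIGalois
import Cfsg.Agent.Lib.Helper23.GaloisChar
import Cfsg.Agent.Lib.Helper14.BREEASYX
import Cfsg.Agent.Lib.Helper19.W2PEXP
import Cfsg.Agent.Lib.Helper16.W2PPI

set_option autoImplicit false

namespace Cfsg.Agent.Lib.Helper7.T2PPC1

open Cfsg Cfsg.Agent.CharLib Cfsg.Agent.Lib.Helper19.PDeg Cfsg.Agent.Lib.Helper19.W2P
open scoped ComplexConjugate

universe u v

variable {G : Type u} [Group G] [Fintype G] {Ω : Type v} [Fintype Ω] [DecidableEq Ω] [MulAction G Ω]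

/-- **T2P-PC1** -/
theorem exists_char {p : ℕ} [Fact p.Prime] (hodd : p ≠ 2) [FaithfulSMul G Ω]
    (hcard : Fintype.card Ω = 2 * p) (hprim : MulAction.IsPreprimitive G Ω)
    (h2 : ¬ MulAction.IsMultiplyPretransitive G Ω 2) (P : Sylow p G)
    (hP : Nat.card (P : Subgroup G) = p) (hsemi : Semireg (P : Subgroup G) Ω)
    (hconj : ∀ g : G, p ∣ orderOf g →
      ∃ k : G, k * g * k⁻¹ ∈ (P : Subgroup G) ∧ k * g * k⁻¹ ≠ 1 ∧ p ∣ orderOf (k * g * k⁻¹))
    (a₀ : Ω)
    (hrank : Nat.card (MulAction.orbitRel.Quotient (MulAction.stabilizer G a₀) Ω) = 3) :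
    ∃ χ : IrrCharacter G, (χ : G → ℂ) 1 = (p : ℂ) - 1 ∧
      ∀ g : G, p ∣ orderOf g → (χ : G → ℂ) g = -1 := by
  classical
  let _ : Fintype (IrrCharacter G) := Fintype.ofFinite _
  have hpp : p.Prime := Fact.out
  have htr : MulAction.IsPretransitive G Ω := hprim.toIsPretransitive
  have hSyl : ¬ p ∣ (P : Subgroup G).index := P.not_dvd_index
  obtain ⟨χ₁, h⟩ := Cfsg.Agent.Lib.Helper23.W2PDECOMP.exists_chi1 hpp hodd hcard hprim h2
    (P : Subgroup G) hP hSyl hsemi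
  have hne : χ₁ ≠ trivIrr G := by
    intro he
    have h1 := h.deg
    rw [he] at h1
    have h3 : ((trivIrr G : IrrCharacter G) : G → ℂ) 1 = 1 := rfl
    rw [h3] at h1
    have h4 : (1 : ℕ) = p := by exact_mod_cast h1
    have := hpp.one_lt
    omega
  obtain ⟨T, -, -, hdec, hrk⟩ :=
    Cfsg.Agent.Lib.Helper19.W2PEXP.expand_pi (G := G) (Ω := Ω) a₀ (P : Subgroup G) χ₁ h hne
  rw [hrank] at hrk
  have hT1 : T.card = 1 := by omega
  obtain ⟨χ, hχ⟩ := Finset.card_eq_one.mp hT1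
  obtain ⟨hπ0, -, hπ1⟩ := Cfsg.Agent.Lib.Helper16.W2PPI.permChar_facts (G := G) (Ω := Ω) hpp hcard
    (P : Subgroup G) hP hSyl hsemi
  refine ⟨χ, ?_, ?_⟩
  · have h1 := hdec 1
    rw [hπ1, h.deg, hχ, Finset.sum_singleton] at h1
    linear_combination -h1
  · intro g hg
    have h1 := hdec g
    rw [hπ0 g hg, hχ, Finset.sum_singleton] at h1
    obtain ⟨k, hkP, hk1, -⟩ := hconj g hg
    have h3 : (χ₁ : G → ℂ) g = 0 := by
      have hcf := IsCharacter.isClassFunction (IsIrrCharacter.isCharacter χ₁.2)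
      rw [← hcf g k]
      exact h.vanish _ hkP hk1
    rw [h3] at h1
    linear_combination -h1

end Cfsg.Agent.Lib.Helper7.T2PPC1
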