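import Mathlib
import Cfsg.Prelude.Def_Local
import Cfsg.Agent.Lib.Helper25.TSDefs
import Cfsg.Agent.Lib.Helper20.CoprimeHall

/-!
# S3797 leaf HALL (`exists_hall_complement`), planner helper25, prover helper7
-/

set_option autoImplicit false

namespace Cfsg.Agent.Lib.Helper7.TSHALL

open Cfsg.Agent.Lib.Helper25.TS
open scoped commutatorElement
open scoped Pointwise

universe u

variable {G : Type u} [Group G] [Finite G]

/-- **G3 `exists_hall_complement`** : Schur–Zassenhaus + Frattini. -/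
theorem exists_hall_complement (hsol : Group.IsSolvable G) (T K : Subgroup G) (hT : T.Normal)
    (hK : K.Normal) (hTK : T ≤ K) (hcop : (Nat.card T).Coprime (T.relIndex K)) :
    ∃ Q : Subgroup G, Q ≤ K ∧ Nat.card Q = T.relIndex K ∧ T ⊔ Q = K ∧ T ⊓ Q = ⊥ ∧
      T ⊔ Subgroup.normalizer (Q : Set G) = ⊤ := by
  classical
  -- existence inside `K`
  have hT'n : (T.subgroupOf K).Normal := inferInstance
  have hT'card : Nat.card (T.subgroupOf K) = Nat.card T :=
    Cfsg.Agent.Lib.Helper1.card_subgroupOf_of_le hTK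
  have hcop' : (Nat.card (T.subgroupOf K)).Coprime (T.subgroupOf K).index := by
    rw [hT'card]; exact hcop
  obtain ⟨H', hH'⟩ := Subgroup.exists_right_complement'_of_coprime hcop'
  have hQK : H'.map K.subtype ≤ K := Subgroup.map_subtype_le H'
  have hQcard : Nat.card (H'.map K.subtype) = T.relIndex K := by
    rw [Subgroup.card_map_of_injective K.subtype_injective]
    exact hH'.symm.index_eq_card.symm
  have hsup : T ⊔ H'.map K.subtype = K := by
    have h1 := congrArg (Subgroup.map K.subtype) hH'.sup_eq_top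
    rw [Subgroup.map_sup, Subgroup.subgroupOf_map_subtype, inf_eq_left.mpr hTK,
      ← MonoidHom.range_eq_map, Subgroup.range_subtype] at h1
    exact h1
  have hinf : T ⊓ H'.map K.subtype = ⊥ := by
    rw [eq_bot_iff]
    rintro x ⟨hxT, hxQ⟩
    obtain ⟨h, hh, rfl⟩ := Subgroup.mem_map.mp hxQ
    have hhT : h ∈ T.subgroupOf K := Subgroup.mem_subgroupOf.mpr hxT
    have h0 : h ∈ T.subgroupOf K ⊓ H' := ⟨hhT, hh⟩
    rw [disjoint_iff.mp hH'.disjoint, Subgroup.mem_bot] at h0
    rw [Subgroup.mem_bot, h0]; rfl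
  refine ⟨H'.map K.subtype, hQK, hQcard, hsup, hinf, ?_⟩
  -- Frattini
  rw [eq_top_iff]
  intro g _
  have hQ2K : MulAut.conj g • H'.map K.subtype ≤ K := by
    intro x hx
    rw [Cfsg.Agent.Lib.Helper1.mem_conj_smul_iff] at hx
    have h1 := hK.conj_mem _ (hQK hx) g
    have : g * (g⁻¹ * x * g) * g⁻¹ = x := by group
    rwa [this] at h1
  have hQ2card : Nat.card ↥(MulAut.conj g • H'.map K.subtype) = T.relIndex K := by
    rw [← hQcard]
    exact (Nat.card_congr (Subgroup.equivSMul (MulAut.conj g) (H'.map K.subtype)).toEquiv).symm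
  have hKcard : Nat.card K = T.relIndex K * Nat.card T := by
    have := Subgroup.card_mul_index (T.subgroupOf K)
    rw [hT'card] at this
    rw [← this, mul_comm]; rfl
  have hKsol : Group.IsSolvable K := inferInstance
  obtain ⟨k, hk, hkQ⟩ := Cfsg.Agent.Lib.Helper20.hall_conj_internal K hKsol (T.relIndex K)
    (Nat.card T) hKcard hcop.symm (H'.map K.subtype) (MulAut.conj g • H'.map K.subtype) hQK hQ2K
    hQcard hQ2card
  have hn : MulAut.conj (k⁻¹ * g) • H'.map K.subtype = H'.map K.subtype := by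
    rw [map_mul, mul_smul, ← hkQ, map_inv, inv_smul_smul]
  have hnN : k⁻¹ * g ∈ Subgroup.normalizer ((H'.map K.subtype : Subgroup G) : Set G) := by
    rw [Subgroup.mem_normalizer_iff]
    intro h
    constructor
    · intro hh
      rw [← hn, Cfsg.Agent.Lib.Helper1.mem_conj_smul_iff]
      have : (k⁻¹ * g)⁻¹ * (k⁻¹ * g * h * (k⁻¹ * g)⁻¹) * (k⁻¹ * g) = h := by group
      rw [this]; exact hh
    · intro hh
      rw [← hn, Cfsg.Agent.Lib.Helper1.mem_conj_smul_iff] at hh
      have : (k⁻¹ * g)⁻¹ * (k⁻¹ * g * h * (k⁻¹ * g)⁻¹) * (k⁻¹ * g) = h := by group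
      rwa [this] at hh
  have hkmem : k ∈ T ⊔ Subgroup.normalizer ((H'.map K.subtype : Subgroup G) : Set G) := by
    have : k ∈ T ⊔ H'.map K.subtype := by rw [hsup]; exact hk
    exact (sup_le_sup_left Subgroup.le_normalizer T) this
  have : g = k * (k⁻¹ * g) := by group
  rw [this]
  exact Subgroup.mul_mem _ hkmem (Subgroup.mem_sup_right hnN)

end Cfsg.Agent.Lib.Helper7.TSHALL
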