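import Cfsg.Agent.Lib.Helper7.ThetaDefs

/-!
# Theta inversion for triangular Gaussian data (S1632 leaf A3)

`theta_inversion_of`: the inversion formula by induction on the data, from the one-dimensional
inversion (`A1`) and the norm / summability facts (`A2a`–`A2d`), which enter as hypotheses
(`Prop`-valued definitions below, stated exactly as the leaves of `notes/S1632_leaves.lean`).
-/

set_option autoImplicit false

noncomputable section

namespace Cfsg.Agent.Lib.Helper7.ThetaInv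

open Complex Cfsg.Agent.Lib.Helper7.Theta
open scoped Real

/-- statement of leaf A1 -/
def A1 : Prop :=
  ∀ (c : ℝ) (_ : 0 < c) (s z : ℝ) (τ : ℂ) (_ : 0 < τ.im),
    Summable (fun k : ℤ => cexp (π * I * τ * ((c * ((k : ℝ) + s) ^ 2 : ℝ) : ℂ)
      + 2 * π * I * (((k : ℝ) * z : ℝ) : ℂ))) ∧
    Summable (fun m : ℤ => cexp (-(π * I) * ((((m : ℝ) - z) ^ 2 / c : ℝ) : ℂ) / τ
      + 2 * π * I * ((s * ((m : ℝ) - z) : ℝ) : ℂ))) ∧
    ∑' k : ℤ, cexp (π * I * τ * ((c * ((k : ℝ) + s) ^ 2 : ℝ) : ℂ)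
        + 2 * π * I * (((k : ℝ) * z : ℝ) : ℂ)) =
      (1 / (Real.sqrt c : ℂ)) * (1 / (-I * τ) ^ (1 / 2 : ℂ)) *
        ∑' m : ℤ, cexp (-(π * I) * ((((m : ℝ) - z) ^ 2 / c : ℝ) : ℂ) / τ
          + 2 * π * I * ((s * ((m : ℝ) - z) : ℝ) : ℂ))

/-- statement of leaf A2a -/
def A2a : Prop :=
  ∀ {n : ℕ} (d : GData n) (z : Fin n → ℝ) (τ : ℂ) (x : Fin n → ℤ),
    ‖thetaTerm d z τ x‖ = Real.exp (-(π * τ.im) * d.Q (fun i => (x i : ℝ)))

/-- statement of leaf A2b -/
def A2b : Prop :=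
  ∀ {n : ℕ} (d : GData n) (z : Fin n → ℝ) (τ : ℂ) (y : Fin n → ℤ),
    ‖dualTerm d z τ y‖ =
      Real.exp (-(π * (τ.im / Complex.normSq τ)) * d.Qd (fun i => (y i : ℝ) - z i))

/-- statement of leaf A2c -/
def A2c : Prop :=
  ∀ {n : ℕ} (d : GData n) (_ : d.Pos) (t : ℝ) (_ : 0 < t),
    ∃ M : ℝ, ∀ s : Fin n → ℝ,
      Summable (fun x : Fin n → ℤ => Real.exp (-t * d.Q (fun i => (x i : ℝ) + s i))) ∧
      ∑' x : Fin n → ℤ, Real.exp (-t * d.Q (fun i => (x i : ℝ) + s i)) ≤ M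

/-- statement of leaf A2d -/
def A2d : Prop :=
  ∀ {n : ℕ} (d : GData n) (_ : d.Pos) (t : ℝ) (_ : 0 < t),
    ∃ M : ℝ, ∀ s : Fin n → ℝ,
      Summable (fun x : Fin n → ℤ => Real.exp (-t * d.Qd (fun i => (x i : ℝ) + s i))) ∧
      ∑' x : Fin n → ℤ, Real.exp (-t * d.Qd (fun i => (x i : ℝ) + s i)) ≤ M


/-! ### summability of the two series -/

theorem summable_thetaTerm (h2a : A2a) (h2c : A2c) {n : ℕ} (d : GData n) (hd : d.Pos)
    (z : Fin n → ℝ) (τ : ℂ) (hτ : 0 < τ.im) : Summable (thetaTerm d z τ) := by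
  apply Summable.of_norm
  obtain ⟨M, hM⟩ := h2c d hd (π * τ.im) (mul_pos Real.pi_pos hτ)
  have := (hM (fun _ => 0)).1
  simp only [add_zero] at this
  refine this.congr (fun x => ?_)
  rw [h2a]

theorem normSq_pos_of_im_pos {τ : ℂ} (hτ : 0 < τ.im) : 0 < Complex.normSq τ := by
  apply Complex.normSq_pos.mpr
  intro h
  rw [h] at hτ
  simp at hτ

theorem summable_dualTerm (h2b : A2b) (h2d : A2d) {n : ℕ} (d : GData n) (hd : d.Pos)
    (z : Fin n → ℝ) (τ : ℂ) (hτ : 0 < τ.im) : Summable (dualTerm d z τ) := by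
  apply Summable.of_norm
  have ht : 0 < π * (τ.im / Complex.normSq τ) :=
    mul_pos Real.pi_pos (div_pos hτ (normSq_pos_of_im_pos hτ))
  obtain ⟨M, hM⟩ := h2d d hd _ ht
  have := (hM (fun i => - z i)).1
  refine this.congr (fun x => ?_)
  rw [h2b]
  simp only [sub_eq_add_neg]

/-! ### splitting off the first coordinate -/

/-- the one-dimensional factor of a theta term -/
def oneTerm (c s z0 : ℝ) (τ : ℂ) (k : ℤ) : ℂ :=
  cexp (π * I * τ * ((c * ((k : ℝ) + s) ^ 2 : ℝ) : ℂ) + 2 * π * I * (((k : ℝ) * z0 : ℝ) : ℂ))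

/-- the one-dimensional factor on the dual side -/
def oneDual (c s z0 : ℝ) (τ : ℂ) (m : ℤ) : ℂ :=
  cexp (-(π * I) * ((((m : ℝ) - z0) ^ 2 / c : ℝ) : ℂ) / τ
    + 2 * π * I * ((s * ((m : ℝ) - z0) : ℝ) : ℂ))

theorem thetaTerm_cons {n : ℕ} (c : ℝ) (u : Fin n → ℝ) (r : GData n) (z : Fin (n + 1) → ℝ)
    (τ : ℂ) (k : ℤ) (x' : Fin n → ℤ) :
    thetaTerm (GData.cons c u r) z τ (Fin.cons k x') =
      oneTerm c (∑ j, u j * (x' j : ℝ)) (z 0) τ k * thetaTerm r (fun j => z (Fin.succ j)) τ x' := by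
  unfold thetaTerm oneTerm
  rw [← Complex.exp_add]
  congr 1
  rw [GData.Q_cons, Fin.sum_univ_succ]
  simp only [Fin.cons_zero, Fin.cons_succ]
  push_cast
  ring

theorem mixed_eq {n : ℕ} (c : ℝ) (u : Fin n → ℝ) (r : GData n) (z : Fin (n + 1) → ℝ)
    (τ : ℂ) (m : ℤ) (x' : Fin n → ℤ) :
    oneDual c (∑ j, u j * (x' j : ℝ)) (z 0) τ m * thetaTerm r (fun j => z (Fin.succ j)) τ x' =
      cexp (-(π * I) * ((((m : ℝ) - z 0) ^ 2 / c : ℝ) : ℂ) / τ) *
        thetaTerm r (fun j => z (Fin.succ j) + ((m : ℝ) - z 0) * u j) τ x' := by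
  unfold thetaTerm oneDual
  rw [← Complex.exp_add, ← Complex.exp_add]
  congr 1
  have h1 : (∑ i, (x' i : ℝ) * (z (Fin.succ i) + ((m : ℝ) - z 0) * u i)) =
      (∑ i, (x' i : ℝ) * z (Fin.succ i)) + ((m : ℝ) - z 0) * ∑ i, u i * (x' i : ℝ) := by
    rw [Finset.mul_sum, ← Finset.sum_add_distrib]
    apply Finset.sum_congr rfl
    intro i _
    ring
  rw [h1]
  push_cast
  ring

theorem dualTerm_cons {n : ℕ} (c : ℝ) (u : Fin n → ℝ) (r : GData n) (z : Fin (n + 1) → ℝ)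
    (τ : ℂ) (m : ℤ) (y' : Fin n → ℤ) :
    dualTerm (GData.cons c u r) z τ (Fin.cons m y') =
      cexp (-(π * I) * ((((m : ℝ) - z 0) ^ 2 / c : ℝ) : ℂ) / τ) *
        dualTerm r (fun j => z (Fin.succ j) + ((m : ℝ) - z 0) * u j) τ y' := by
  unfold dualTerm
  rw [← Complex.exp_add]
  congr 1
  rw [GData.Qd_cons]
  simp only [Fin.cons_zero, Fin.cons_succ]
  have h1 : (fun j => (y' j : ℝ) - z (Fin.succ j) - ((m : ℝ) - z 0) * u j) =
      (fun i => (y' i : ℝ) - (z (Fin.succ i) + ((m : ℝ) - z 0) * u i)) := by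
    funext j; ring
  rw [h1]
  push_cast
  ring


theorem norm_exp_dual_aux (a b : ℝ) (τ : ℂ) :
    ‖cexp (-((π : ℂ) * I) * (a : ℂ) / τ + 2 * (π : ℂ) * I * (b : ℂ))‖ =
      Real.exp (-(π * (τ.im / Complex.normSq τ)) * a) := by
  rw [Complex.norm_exp]
  congr 1
  have h1 : (2 * (π : ℂ) * I * (b : ℂ)).re = 0 := by
    simp
  have h2 : (-((π : ℂ) * I) * (a : ℂ) / τ).re = -(π * (τ.im / Complex.normSq τ)) * a := by
    rw [Complex.div_re]
    have e1 : (-((π : ℂ) * I) * (a : ℂ)).re = 0 := by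
      simp
    have e2 : (-((π : ℂ) * I) * (a : ℂ)).im = -(π * a) := by
      simp
    rw [e1, e2]
    ring
  rw [Complex.add_re, h1, h2, add_zero]

theorem norm_oneDual (c s z0 : ℝ) (τ : ℂ) (m : ℤ) :
    ‖oneDual c s z0 τ m‖ =
      Real.exp (-(π * (τ.im / Complex.normSq τ)) * (((m : ℝ) - z0) ^ 2 / c)) := by
  unfold oneDual
  exact norm_exp_dual_aux _ _ τ

theorem norm_oneDual_shift (c s z0 : ℝ) (τ : ℂ) (m : ℤ) :
    ‖oneDual c s z0 τ m‖ = ‖oneDual c 0 z0 τ m‖ := by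
  rw [norm_oneDual, norm_oneDual]


/-! ### the induction -/

/-- the constant in the inversion formula -/
def kappa (P : ℝ) (n : ℕ) (τ : ℂ) : ℂ :=
  (1 / (Real.sqrt P : ℂ)) * (1 / (-I * τ) ^ (1 / 2 : ℂ)) ^ n

theorem kappa_succ (c P : ℝ) (hc : 0 ≤ c) (n : ℕ) (τ : ℂ) :
    (1 / (Real.sqrt c : ℂ)) * (1 / (-I * τ) ^ (1 / 2 : ℂ)) * kappa P n τ = kappa (c * P) (n + 1) τ := by
  unfold kappa
  rw [Real.sqrt_mul hc, pow_succ]
  push_cast
  ring

theorem theta_inversion_of (h1 : A1) (h2a : A2a) (h2b : A2b) (h2c : A2c) (h2d : A2d)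
    {n : ℕ} (d : GData n) (hd : d.Pos) (z : Fin n → ℝ) (τ : ℂ) (hτ : 0 < τ.im) :
    ∑' x, thetaTerm d z τ x = kappa d.P n τ * ∑' y, dualTerm d z τ y := by
  induction d with
  | nil =>
    have e1 : ∀ x : Fin 0 → ℤ, thetaTerm GData.nil z τ x = 1 := by
      intro x
      simp [thetaTerm]
    have e2 : ∀ y : Fin 0 → ℤ, dualTerm GData.nil z τ y = 1 := by
      intro y
      simp [dualTerm]
    simp only [e1, e2, kappa, GData.P_nil, Real.sqrt_one, pow_zero]
    rw [tsum_eq_single (default : Fin 0 → ℤ) (fun b hb => absurd (Subsingleton.elim b default) hb)]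
    simp
  | @cons n c u r ih =>
    obtain ⟨hc, hr⟩ := (GData.Pos_cons c u r).mp hd
    have hd' : (GData.cons c u r).Pos := (GData.Pos_cons c u r).mpr ⟨hc, hr⟩
    set z0 : ℝ := z 0 with hz0
    set z' : Fin n → ℝ := fun j => z (Fin.succ j) with hz'
    set sf : (Fin n → ℤ) → ℝ := fun x' => ∑ j, u j * (x' j : ℝ) with hsf
    set e := Fin.consEquiv (fun _ : Fin (n + 1) => ℤ) with he
    have hSθ : Summable (thetaTerm (GData.cons c u r) z τ) :=
      summable_thetaTerm h2a h2c _ hd' z τ hτ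
    have hSd : Summable (dualTerm (GData.cons c u r) z τ) :=
      summable_dualTerm h2b h2d _ hd' z τ hτ
    have hSθr : ∀ w : Fin n → ℝ, Summable (thetaTerm r w τ) :=
      fun w => summable_thetaTerm h2a h2c r hr w τ hτ
    -- step 1: split the theta series
    have s1 : ∑' x, thetaTerm (GData.cons c u r) z τ x =
        ∑' x' : Fin n → ℤ, ∑' k : ℤ, oneTerm c (sf x') z0 τ k * thetaTerm r z' τ x' := by
      rw [← e.tsum_eq]
      have hS : Summable (fun p : ℤ × (Fin n → ℤ) =>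
          thetaTerm (GData.cons c u r) z τ (e p)) := (e.summable_iff).mpr hSθ
      rw [hS.tsum_prod]
      have hS' : Summable (Function.uncurry fun (k : ℤ) (x' : Fin n → ℤ) =>
          thetaTerm (GData.cons c u r) z τ (e (k, x'))) := by
        refine hS.congr ?_
        rintro ⟨k, x'⟩
        rfl
      have hcomm := Summable.tsum_comm hS'
      rw [← hcomm]
      refine tsum_congr (fun x' => tsum_congr (fun k => ?_))
      exact thetaTerm_cons c u r z τ k x'
    -- step 2: one-dimensional inversion in the inner sum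
    have s2 : ∀ x' : Fin n → ℤ,
        ∑' k : ℤ, oneTerm c (sf x') z0 τ k * thetaTerm r z' τ x' =
          (1 / (Real.sqrt c : ℂ)) * (1 / (-I * τ) ^ (1 / 2 : ℂ)) *
            ∑' m : ℤ, oneDual c (sf x') z0 τ m * thetaTerm r z' τ x' := by
      intro x'
      rw [tsum_mul_right, tsum_mul_right]
      have := (h1 c hc (sf x') z0 τ hτ).2.2
      unfold oneTerm oneDual
      rw [this]
      ring
    -- summability of the mixed family
    have hmix : Summable (Function.uncurry fun (x' : Fin n → ℤ) (m : ℤ) =>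
        oneDual c (sf x') z0 τ m * thetaTerm r z' τ x') := by
      have hg : Summable (fun m : ℤ => ‖oneDual c 0 z0 τ m‖) :=
        ((h1 c hc 0 z0 τ hτ).2.1).norm
      have hf : Summable (fun x' : Fin n → ℤ => ‖thetaTerm r z' τ x'‖) := (hSθr z').norm
      have hfg := Summable.mul_of_nonneg hf hg (fun _ => norm_nonneg _) (fun _ => norm_nonneg _)
      refine Summable.of_norm_bounded hfg ?_
      rintro ⟨x', m⟩
      simp only [Function.uncurry_apply_pair, norm_mul]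
      rw [norm_oneDual_shift c (sf x') z0 τ m, mul_comm]
    -- step 3: swap and use the induction hypothesis
    have s3 : ∑' x' : Fin n → ℤ, ∑' m : ℤ, oneDual c (sf x') z0 τ m * thetaTerm r z' τ x' =
        kappa r.P n τ * ∑' m : ℤ, ∑' y' : Fin n → ℤ,
          dualTerm (GData.cons c u r) z τ (e (m, y')) := by
      rw [← Summable.tsum_comm hmix]
      rw [← tsum_mul_left]
      refine tsum_congr (fun m => ?_)
      have e1 : ∀ x' : Fin n → ℤ, oneDual c (sf x') z0 τ m * thetaTerm r z' τ x' =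
          cexp (-(π * I) * ((((m : ℝ) - z0) ^ 2 / c : ℝ) : ℂ) / τ) *
            thetaTerm r (fun j => z' j + ((m : ℝ) - z0) * u j) τ x' :=
        fun x' => mixed_eq c u r z τ m x'
      have e2 : ∀ y' : Fin n → ℤ, dualTerm (GData.cons c u r) z τ (e (m, y')) =
          cexp (-(π * I) * ((((m : ℝ) - z0) ^ 2 / c : ℝ) : ℂ) / τ) *
            dualTerm r (fun j => z' j + ((m : ℝ) - z0) * u j) τ y' :=
        fun y' => dualTerm_cons c u r z τ m y'
      rw [tsum_congr e1, tsum_mul_left, ih hr, tsum_congr e2, tsum_mul_left]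
      ring
    -- step 4: reassemble the dual series
    have s4 : ∑' m : ℤ, ∑' y' : Fin n → ℤ, dualTerm (GData.cons c u r) z τ (e (m, y')) =
        ∑' y, dualTerm (GData.cons c u r) z τ y := by
      rw [← e.tsum_eq]
      have hS : Summable (fun p : ℤ × (Fin n → ℤ) =>
          dualTerm (GData.cons c u r) z τ (e p)) := (e.summable_iff).mpr hSd
      rw [hS.tsum_prod]
    rw [s1, tsum_congr s2, tsum_mul_left, s3, s4, GData.P_cons, ← kappa_succ c r.P hc.le n τ]
    ring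


/-- Leaf A3 in the exact form of `notes/S1632_leaves.lean`, from the leaves A1, A2a–A2d. -/
theorem theta_inversion (h1 : A1) (h2a : A2a) (h2b : A2b) (h2c : A2c) (h2d : A2d)
    {n : ℕ} (d : GData n) (hd : d.Pos) (z : Fin n → ℝ) (τ : ℂ) (hτ : 0 < τ.im) :
    Summable (thetaTerm d z τ) ∧ Summable (dualTerm d z τ) ∧
    ∑' x, thetaTerm d z τ x =
      (1 / (Real.sqrt d.P : ℂ)) * (1 / (-I * τ) ^ (1 / 2 : ℂ)) ^ n * ∑' y, dualTerm d z τ y :=
  ⟨summable_thetaTerm h2a h2c d hd z τ hτ, summable_dualTerm h2b h2d d hd z τ hτ,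
    theta_inversion_of h1 h2a h2b h2c h2d d hd z τ hτ⟩

end Cfsg.Agent.Lib.Helper7.ThetaInv

end
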