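import Cfsg.Agent.Lib.Helper7.ThetaDefs2
import Cfsg.Agent.Lib.Helper7.ThetaA3
import Cfsg.Agent.Lib.Helper29.ThetaB1
import Cfsg.Agent.Lib.Helper16.ThetaB2
import Cfsg.Agent.Lib.Helper16.ThetaB3a

/-!
# S1632 leaf B3b: the inversion law of the theta series of a unimodular form of rank 24
-/

set_option autoImplicit false

noncomputable section

namespace Cfsg.Agent.Lib.Helper7.ThetaSLaw

open Complex Cfsg.Agent.Lib.Helper7.Theta
open scoped Real

/-- general form: for a positive definite integral symmetric unimodular `B` of rank `n`,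
`Θ(τ) = (1/√P) (1/(-iτ)^{1/2})^n Θ(-1/τ)` where `P` is the pivot product of any Lagrange form. -/
theorem latticeTheta_inv {n : ℕ} (B : Matrix (Fin n) (Fin n) ℤ) (hsymm : B.IsSymm)
    (hpos : ∀ x : Fin n → ℤ, x ≠ 0 → 0 < x ⬝ᵥ (B.mulVec x)) (hdet : B.det = 1) :
    ∃ P : ℝ, 0 < P ∧ ∀ τ : ℂ, 0 < τ.im →
      latticeTheta B τ =
        (1 / (Real.sqrt P : ℂ)) * (1 / (-I * τ) ^ (1 / 2 : ℂ)) ^ n * latticeTheta B (-1 / τ) := by
  have hAsymm : (B.map (fun z : ℤ => (z : ℚ))).IsSymm := hsymm.map _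
  obtain ⟨d, hd, hQ⟩ := Cfsg.Agent.Lib.Helper29.ThetaB1.exists_gdata
    (B.map (fun z : ℤ => (z : ℚ))) hAsymm
    (Cfsg.Agent.Lib.Helper16.ThetaB3a.pos_rat_of_pos_int B hpos)
  set AR : Matrix (Fin n) (Fin n) ℝ := (B.map (fun z : ℤ => (z : ℚ))).map (fun q : ℚ => (q : ℝ))
    with hAR
  have hARsymm : AR.IsSymm := hAsymm.map _
  -- the form on integer vectors
  have hQint : ∀ x : Fin n → ℤ,
      d.Q (fun i => (x i : ℝ)) = ((x ⬝ᵥ (B.mulVec x) : ℤ) : ℝ) := by
    intro x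
    rw [hQ]
    simp only [dotProduct, Matrix.mulVec, Matrix.map_apply]
    push_cast
    rfl
  -- the gradient on integer vectors
  have hgrad : ∀ x : Fin n → ℤ,
      d.grad (fun i => (x i : ℝ)) = fun i => ((B.mulVec x i : ℤ) : ℝ) := by
    intro x
    rw [Cfsg.Agent.Lib.Helper16.ThetaB2.grad_eq_mulVec d AR hARsymm hQ]
    funext i
    simp only [hAR, dotProduct, Matrix.mulVec, Matrix.map_apply]
    push_cast
    rfl
  have hQd : ∀ x : Fin n → ℤ,
      d.Qd (fun i => ((B.mulVec x i : ℤ) : ℝ)) = ((x ⬝ᵥ (B.mulVec x) : ℤ) : ℝ) := by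
    intro x
    rw [← hgrad x, Cfsg.Agent.Lib.Helper16.ThetaB2.Qd_grad d hd, hQint]
  -- the bijection `x ↦ B x`
  have hu : IsUnit B.det := by rw [hdet]; exact isUnit_one
  let e : (Fin n → ℤ) ≃ (Fin n → ℤ) :=
    { toFun := fun x => B.mulVec x
      invFun := fun y => B⁻¹.mulVec y
      left_inv := fun x => by
        simp [Matrix.mulVec_mulVec, Matrix.nonsing_inv_mul _ hu]
      right_inv := fun y => by
        simp [Matrix.mulVec_mulVec, Matrix.mul_nonsing_inv _ hu] }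
  refine ⟨d.P, GData.P_pos d hd, ?_⟩
  intro τ hτ
  obtain ⟨-, -, hinv⟩ := Cfsg.Agent.Lib.Helper7.ThetaA3.theta_inversion d hd (fun _ => 0) τ hτ
  have h1 : ∑' x, thetaTerm d (fun _ => 0) τ x = latticeTheta B τ := by
    unfold latticeTheta
    refine tsum_congr (fun x => ?_)
    unfold thetaTerm
    rw [hQint]
    simp
  have h2 : ∑' y, dualTerm d (fun _ => 0) τ y = latticeTheta B (-1 / τ) := by
    unfold latticeTheta
    rw [← e.tsum_eq]
    refine tsum_congr (fun x => ?_)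
    unfold dualTerm
    have : (fun i => ((e x i : ℤ) : ℝ) - 0) = fun i => ((B.mulVec x i : ℤ) : ℝ) := by
      funext i
      simp [e]
    rw [this, hQd]
    congr 1
    push_cast
    ring
  rw [← h1, hinv, h2]


/-- the value at `τ = i` is not zero -/
theorem latticeTheta_I_ne_zero {n : ℕ} (B : Matrix (Fin n) (Fin n) ℤ) (hsymm : B.IsSymm)
    (hpos : ∀ x : Fin n → ℤ, x ≠ 0 → 0 < x ⬝ᵥ (B.mulVec x)) :
    latticeTheta B I ≠ 0 := by
  have hS := Cfsg.Agent.Lib.Helper16.ThetaB3a.summable_latticeTheta B hsymm hpos π Real.pi_pos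
  have h1 : latticeTheta B I =
      ((∑' x : Fin n → ℤ, Real.exp (-π * ((x ⬝ᵥ (B.mulVec x) : ℤ) : ℝ)) : ℝ) : ℂ) := by
    unfold latticeTheta
    rw [Complex.ofReal_tsum]
    refine tsum_congr (fun x => ?_)
    rw [Complex.ofReal_exp]
    congr 1
    push_cast
    have : (I : ℂ) * I = -1 := Complex.I_mul_I
    linear_combination (π : ℂ) * ((x ⬝ᵥ (B.mulVec x) : ℤ) : ℂ) * this
  rw [h1]
  have hp : 0 < ∑' x : Fin n → ℤ, Real.exp (-π * ((x ⬝ᵥ (B.mulVec x) : ℤ) : ℝ)) :=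
    hS.tsum_pos (fun x => (Real.exp_pos _).le) 0 (Real.exp_pos _)
  exact_mod_cast hp.ne'

theorem neg_one_div_I : (-1 : ℂ) / I = I := by
  rw [neg_div, Complex.div_I]
  simp

/-- **S1632 leaf (B3b)**. -/
theorem latticeTheta_S (B : Matrix (Fin 24) (Fin 24) ℤ) (hsymm : B.IsSymm)
    (hpos : ∀ x : Fin 24 → ℤ, x ≠ 0 → 0 < x ⬝ᵥ (B.mulVec x)) (hdet : B.det = 1)
    (τ : ℂ) (hτ : 0 < τ.im) :
    latticeTheta B (-1 / τ) = τ ^ 12 * latticeTheta B τ := by
  obtain ⟨P, hP, hinv⟩ := latticeTheta_inv B hsymm hpos hdet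
  -- `P = 1` from `τ = i`
  have hI := hinv I (by simp)
  rw [neg_one_div_I] at hI
  have hII : (-I * I : ℂ) = 1 := by
    rw [neg_mul, Complex.I_mul_I, neg_neg]
  rw [hII, Complex.one_cpow, div_one, one_pow, mul_one] at hI
  have hne := latticeTheta_I_ne_zero B hsymm hpos
  have hsq : (1 / (Real.sqrt P : ℂ)) = 1 := by
    have h3 : (1 / (Real.sqrt P : ℂ) - 1) * latticeTheta B I = 0 := by
      linear_combination -hI
    rcases mul_eq_zero.mp h3 with h | h
    · exact sub_eq_zero.mp h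
    · exact absurd h hne
  have hτ0 : τ ≠ 0 := by
    intro h
    rw [h] at hτ
    simp at hτ
  have hw : (-I * τ) ≠ 0 := mul_ne_zero (neg_ne_zero.mpr Complex.I_ne_zero) hτ0
  have hpow : ((-I * τ) ^ (1 / 2 : ℂ)) ^ 24 = τ ^ 12 := by
    have h2 : ((-I * τ) ^ (1 / 2 : ℂ)) ^ 2 = -I * τ := by
      have := Complex.cpow_nat_inv_pow (-I * τ) (n := 2) two_ne_zero
      simpa [one_div] using this
    calc ((-I * τ) ^ (1 / 2 : ℂ)) ^ 24 = (((-I * τ) ^ (1 / 2 : ℂ)) ^ 2) ^ 12 := by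
          rw [← pow_mul]
      _ = (-I * τ) ^ 12 := by rw [h2]
      _ = (-I) ^ 12 * τ ^ 12 := by rw [mul_pow]
      _ = τ ^ 12 := by
          have : (-I : ℂ) ^ 12 = 1 := by
            have h4 : (-I : ℂ) ^ 4 = 1 := by
              rw [neg_pow, Complex.I_pow_four]
              norm_num
            calc (-I : ℂ) ^ 12 = ((-I) ^ 4) ^ 3 := by rw [← pow_mul]
              _ = 1 := by rw [h4, one_pow]
          rw [this, one_mul]
  have h := hinv τ hτ
  rw [hsq, one_mul, one_div, inv_pow, hpow] at h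
  rw [h]
  field_simp

end Cfsg.Agent.Lib.Helper7.ThetaSLaw

end
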