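import Cfsg.Agent.Lib.Helper7.TwE6Tab

set_option autoImplicit false

namespace Cfsg.Agent.Lib.Helper7.TwE6

open Cfsg Cfsg.Lie Matrix
open Cfsg.Agent.Lib.Helper7 Cfsg.Agent.Lib.Helper7.TwInv Cfsg.Agent.Lib.Helper25 Cfsg.Agent.Lib.Helper25.ChInv

/-- the heads of the twisted root elements of the conjugating word for the set of orbits number 0 -/
def heads_0 : List ℕ := [42, 29, 42, 7, 2, 1, 46, 37, 53, 66, 1, 2, 7, 54, 69, 7, 2, 1, 46, 37, 53, 66, 1, 2, 7, 54, 69, 7, 2, 1, 46, 37, 53, 66, 1, 2, 7, 54, 69, 7, 2, 1, 3, 18, 29, 25]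

/-- the conjugating word for the set of orbits number 0 -/
def gW_0 : List ℕ := [42, 37, 29, 34, 42, 37, 7, 17, 2, 1, 46, 37, 42, 53, 66, 68, 1, 2, 7, 17, 54, 64, 69, 7, 17, 2, 1, 46, 37, 42, 53, 66, 68, 1, 2, 7, 17, 54, 64, 69, 7, 17, 2, 1, 46, 37, 42, 53, 66, 68, 1, 2, 7, 17, 54, 64, 69, 7, 17, 2, 1, 3, 5, 18, 29, 34, 25]

theorem gW_eq_0 : gW_0 = blkW rhoE6 heads_0 := by decide +kernel

theorem heads_lt_0 : ∀ r ∈ heads_0, r < chevE6.nroots := by decide +kernel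

set_option maxHeartbeats 0 in
set_option maxRecDepth 1000000 in
theorem chkW_0 : BitWord.bitChkQ chevE6 (gW_0 ++ nJR chevE6 (LJw []).flatten ++ gW_0.reverse) [55, 65, 67] = true := by
  decide +kernel

end Cfsg.Agent.Lib.Helper7.TwE6
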