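import Cfsg.Agent.Lib.Helper7.TwE6Tab

set_option autoImplicit false

namespace Cfsg.Agent.Lib.Helper7.TwE6

open Cfsg Cfsg.Lie Matrix
open Cfsg.Agent.Lib.Helper7 Cfsg.Agent.Lib.Helper7.TwInv Cfsg.Agent.Lib.Helper25 Cfsg.Agent.Lib.Helper25.ChInv

/-- the heads of the twisted root elements of the conjugating word for the set of orbits number 1 -/
def heads_1 : List ℕ := [42, 29, 42, 38, 3, 37, 53, 66, 3, 38, 54, 69, 38, 3, 3, 18, 29]

/-- the conjugating word for the set of orbits number 1 -/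
def gW_1 : List ℕ := [42, 37, 29, 34, 42, 37, 38, 57, 3, 5, 37, 42, 53, 66, 68, 3, 5, 38, 57, 54, 64, 69, 38, 57, 3, 5, 3, 5, 18, 29, 34]

theorem gW_eq_1 : gW_1 = blkW rhoE6 heads_1 := by decide +kernel

theorem heads_lt_1 : ∀ r ∈ heads_1, r < chevE6.nroots := by decide +kernel

set_option maxHeartbeats 0 in
set_option maxRecDepth 1000000 in
theorem chkW_1 : BitWord.bitChkQ chevE6 (gW_1 ++ nJR chevE6 (LJw [[1]]).flatten ++ gW_1.reverse) [55, 65, 67] = true := by
  decide +kernel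

end Cfsg.Agent.Lib.Helper7.TwE6
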