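import Cfsg.Agent.Lib.Helper7.TwE6Tab

set_option autoImplicit false

namespace Cfsg.Agent.Lib.Helper7.TwE6

open Cfsg Cfsg.Lie Matrix
open Cfsg.Agent.Lib.Helper7 Cfsg.Agent.Lib.Helper7.TwInv Cfsg.Agent.Lib.Helper25 Cfsg.Agent.Lib.Helper25.ChInv

/-- the heads of the twisted root elements of the conjugating word for the set of orbits number 10 -/
def heads_10 : List ℕ := [0]

/-- the conjugating word for the set of orbits number 10 -/
def gW_10 : List ℕ := [0]

theorem gW_eq_10 : gW_10 = blkW rhoE6 heads_10 := by decide +kernel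

theorem heads_lt_10 : ∀ r ∈ heads_10, r < chevE6.nroots := by decide +kernel

set_option maxHeartbeats 0 in
set_option maxRecDepth 1000000 in
theorem chkW_10 : BitWord.bitChkQ chevE6 (gW_10 ++ nJR chevE6 (LJw [[3], [0, 5], [2, 4]]).flatten ++ gW_10.reverse) [71] = true := by
  decide +kernel

end Cfsg.Agent.Lib.Helper7.TwE6
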