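import Cfsg.Agent.Lib.Helper7.TwE6Tab

set_option autoImplicit false

namespace Cfsg.Agent.Lib.Helper7.TwE6

open Cfsg Cfsg.Lie Matrix
open Cfsg.Agent.Lib.Helper7 Cfsg.Agent.Lib.Helper7.TwInv Cfsg.Agent.Lib.Helper25 Cfsg.Agent.Lib.Helper25.ChInv

/-- the heads of the twisted root elements of the conjugating word for the set of orbits number 2 -/
def heads_2 : List ℕ := [42, 29, 42, 1, 9, 48, 44, 66, 9, 1, 54, 69, 1, 9, 48, 44, 66, 9, 1, 54, 69, 1, 9, 48, 44, 66, 9, 1, 54, 69, 1, 9, 3, 27, 21]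

/-- the conjugating word for the set of orbits number 2 -/
def gW_2 : List ℕ := [42, 37, 29, 34, 42, 37, 1, 9, 19, 48, 50, 44, 66, 68, 9, 19, 1, 54, 64, 69, 1, 9, 19, 48, 50, 44, 66, 68, 9, 19, 1, 54, 64, 69, 1, 9, 19, 48, 50, 44, 66, 68, 9, 19, 1, 54, 64, 69, 1, 9, 19, 3, 5, 27, 21, 23]

theorem gW_eq_2 : gW_2 = blkW rhoE6 heads_2 := by decide +kernel

theorem heads_lt_2 : ∀ r ∈ heads_2, r < chevE6.nroots := by decide +kernel

set_option maxHeartbeats 0 in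
set_option maxRecDepth 1000000 in
theorem chkW_2 : BitWord.bitChkQ chevE6 (gW_2 ++ nJR chevE6 (LJw [[3]]).flatten ++ gW_2.reverse) [55, 65, 67] = true := by
  decide +kernel

end Cfsg.Agent.Lib.Helper7.TwE6
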