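import Cfsg.Agent.Lib.Helper7.TwE6Tab

set_option autoImplicit false

namespace Cfsg.Agent.Lib.Helper7.TwE6

open Cfsg Cfsg.Lie Matrix
open Cfsg.Agent.Lib.Helper7 Cfsg.Agent.Lib.Helper7.TwInv Cfsg.Agent.Lib.Helper25 Cfsg.Agent.Lib.Helper25.ChInv

/-- the heads of the twisted root elements of the conjugating word for the set of orbits number 3 -/
def heads_3 : List ℕ := [42, 29, 42, 0, 46, 54, 69, 0, 54, 69, 0, 46, 54, 69, 0, 54, 69, 0, 46, 54, 69, 0, 54, 69, 0, 2, 7, 25]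

/-- the conjugating word for the set of orbits number 3 -/
def gW_3 : List ℕ := [42, 37, 29, 34, 42, 37, 0, 46, 54, 64, 69, 0, 54, 64, 69, 0, 46, 54, 64, 69, 0, 54, 64, 69, 0, 46, 54, 64, 69, 0, 54, 64, 69, 0, 2, 7, 17, 25]

theorem gW_eq_3 : gW_3 = blkW rhoE6 heads_3 := by decide +kernel

theorem heads_lt_3 : ∀ r ∈ heads_3, r < chevE6.nroots := by decide +kernel

set_option maxHeartbeats 0 in
set_option maxRecDepth 1000000 in
theorem chkW_3 : BitWord.bitChkQ chevE6 (gW_3 ++ nJR chevE6 (LJw [[0, 5]]).flatten ++ gW_3.reverse) [55, 65, 67] = true := by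
  decide +kernel

end Cfsg.Agent.Lib.Helper7.TwE6
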