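import Cfsg.Agent.Lib.Helper7.TwE6Tab

set_option autoImplicit false

namespace Cfsg.Agent.Lib.Helper7.TwE6

open Cfsg Cfsg.Lie Matrix
open Cfsg.Agent.Lib.Helper7 Cfsg.Agent.Lib.Helper7.TwInv Cfsg.Agent.Lib.Helper25 Cfsg.Agent.Lib.Helper25.ChInv

/-- the heads of the twisted root elements of the conjugating word for the set of orbits number 5 -/
def heads_5 : List ℕ := [42, 29, 42, 2, 0, 45, 71, 0, 2, 54, 69, 2, 0, 0, 12]

/-- the conjugating word for the set of orbits number 5 -/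
def gW_5 : List ℕ := [42, 37, 29, 34, 42, 37, 2, 0, 45, 59, 71, 0, 2, 54, 64, 69, 2, 0, 0, 12, 26]

theorem gW_eq_5 : gW_5 = blkW rhoE6 heads_5 := by decide +kernel

theorem heads_lt_5 : ∀ r ∈ heads_5, r < chevE6.nroots := by decide +kernel

set_option maxHeartbeats 0 in
set_option maxRecDepth 1000000 in
theorem chkW_5 : BitWord.bitChkQ chevE6 (gW_5 ++ nJR chevE6 (LJw [[3], [0, 5]]).flatten ++ gW_5.reverse) [55, 65, 67] = true := by
  decide +kernel

end Cfsg.Agent.Lib.Helper7.TwE6
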