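import Cfsg.Agent.Lib.Helper7.TwE6Tab

set_option autoImplicit false

namespace Cfsg.Agent.Lib.Helper7.TwE6

open Cfsg Cfsg.Lie Matrix
open Cfsg.Agent.Lib.Helper7 Cfsg.Agent.Lib.Helper7.TwInv Cfsg.Agent.Lib.Helper25 Cfsg.Agent.Lib.Helper25.ChInv

/-- the heads of the twisted root elements of the conjugating word for the set of orbits number 7 -/
def heads_7 : List ℕ := [42, 29, 42, 3, 7, 53, 66, 7, 3, 54, 69, 3, 7, 3, 18]

/-- the conjugating word for the set of orbits number 7 -/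
def gW_7 : List ℕ := [42, 37, 29, 34, 42, 37, 3, 5, 7, 17, 53, 66, 68, 7, 17, 3, 5, 54, 64, 69, 3, 5, 7, 17, 3, 5, 18]

theorem gW_eq_7 : gW_7 = blkW rhoE6 heads_7 := by decide +kernel

theorem heads_lt_7 : ∀ r ∈ heads_7, r < chevE6.nroots := by decide +kernel

set_option maxHeartbeats 0 in
set_option maxRecDepth 1000000 in
theorem chkW_7 : BitWord.bitChkQ chevE6 (gW_7 ++ nJR chevE6 (LJw [[1], [2, 4]]).flatten ++ gW_7.reverse) [55, 65, 67] = true := by
  decide +kernel

end Cfsg.Agent.Lib.Helper7.TwE6
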