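import Cfsg.Agent.Lib.Helper7.TwE6Tab

set_option autoImplicit false

namespace Cfsg.Agent.Lib.Helper7.TwE6

open Cfsg Cfsg.Lie Matrix
open Cfsg.Agent.Lib.Helper7 Cfsg.Agent.Lib.Helper7.TwInv Cfsg.Agent.Lib.Helper25 Cfsg.Agent.Lib.Helper25.ChInv

/-- the heads of the twisted root elements of the conjugating word for the set of orbits number 9 -/
def heads_9 : List ℕ := [3]

/-- the conjugating word for the set of orbits number 9 -/
def gW_9 : List ℕ := [3, 5]

theorem gW_eq_9 : gW_9 = blkW rhoE6 heads_9 := by decide +kernel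

theorem heads_lt_9 : ∀ r ∈ heads_9, r < chevE6.nroots := by decide +kernel

set_option maxHeartbeats 0 in
set_option maxRecDepth 1000000 in
theorem chkW_9 : BitWord.bitChkQ chevE6 (gW_9 ++ nJR chevE6 (LJw [[1], [3], [2, 4]]).flatten ++ gW_9.reverse) [68, 66] = true := by
  decide +kernel

end Cfsg.Agent.Lib.Helper7.TwE6
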