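import Cfsg.Agent.Lib.Helper7.TwInvA
import Cfsg.Agent.Lib.Helper25.ChInvF
import Cfsg.Agent.Lib.Helper7.ChevTwistPerf
import Cfsg.Agent.Lib.Helper7.ChevTwistBN5

/-! Involutions of twisted groups in characteristic two: general lemmas on the monomial subgroup
(explicit coefficients of the action on the root subgroups, rank one identities, lengths) (helper7). -/

set_option autoImplicit false

namespace Cfsg.Agent.Lib.Helper7.TwInv

open Cfsg Cfsg.Lie Matrix
open Cfsg.Agent.Lib.Helper7 Cfsg.Agent.Lib.Helper25.ChInv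

section
variable (D : ChevalleyDatum) (hD : D ∈ [chevG2, chevB2, chevD4, chevF4, chevE6, chevE7, chevE8])
variable (F : Type*) [Field F]
include hD

omit hD in
theorem pm_cast [CharP F 2] (c : ℤ) (hc : c = 1 ∨ c = -1) : ((c : ℤ) : F) = 1 := by
  rcases hc with rfl | rfl
  · simp
  · simp [CharTwo.neg_eq]

/-- in characteristic two an element of `N` acts on the root subgroups through a character -/
theorem exists_char_actsAs [CharP F 2] (n : GL D.Idx F) (hn : n ∈ D.monomialSubgroup F)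
    (L : List ℕ) (hL : ∀ i ∈ L, i < D.rank) (hact : ActsAs D hD F n (reflWord D L)) :
    ∃ χ : ℕ → F, ChainChar D F χ ∧ ∀ r < D.nroots, ∀ t : F,
      n * xGL D hD F r t * n⁻¹ = xGL D hD F (reflWord D L r) (χ (reflWord D L r) * t) := by
  have hW := Cfsg.Agent.Lib.Helper7.nWordGL_mem_monomial D hD F L hL
  obtain ⟨k, hk⟩ : ∃ k, k = n * (nWordGL D hD F L)⁻¹ := ⟨_, rfl⟩
  have hkN : k ∈ D.monomialSubgroup F := by
    rw [hk]; exact Subgroup.mul_mem _ hn (Subgroup.inv_mem _ hW)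
  have hkact : ActsAs D hD F k (reflWord D L ∘ reflWord D L.reverse) := by
    rw [hk]; exact ActsAs.mul D F hact (actsAs_nWordGL_inv D hD F L hL)
  have hkH : k ∈ D.diagonalSubgroup F :=
    mem_diagonal_of_actsAs_id D hD F k hkN _ hkact (fun s hs => reflWord_reverse_cancel D hD L hL s hs)
  obtain ⟨χ, hχ, hkm⟩ := mem_diagonalSubgroup_char D hD F k hkH
  refine ⟨χ, hχ, fun r hr t => ?_⟩
  obtain ⟨c, hc, hct⟩ := nWordGL_conj_xGL_sign D hD F L hL r hr
  have hn' : n = k * nWordGL D hD F L := by rw [hk]; group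
  have e1 : ((c : ℤ) : F) * t = t := by rw [pm_cast F c hc, one_mul]
  calc n * xGL D hD F r t * n⁻¹
      = k * (nWordGL D hD F L * xGL D hD F r t * (nWordGL D hD F L)⁻¹) * k⁻¹ := by rw [hn']; group
    _ = k * xGL D hD F (reflWord D L r) t * k⁻¹ := by rw [hct t, e1]
    _ = xGL D hD F (reflWord D L r) (χ (reflWord D L r) * t) := by
        rw [diagGL_xGL_comm D hD F k χ hχ hkm]; group

theorem nFund_eq (i : ℕ) : nFund D hD F i = wordGL D hD F (D.nWord (D.simple i) 1) := rfl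

/-- conjugation of `n_j` by an element of `N` mapping `p_j` to a fundamental root `p_{j'}` -/
theorem conj_nFund [CharP F 2] (n : GL D.Idx F) (hn : n ∈ D.monomialSubgroup F)
    (L : List ℕ) (hL : ∀ i ∈ L, i < D.rank) (hact : ActsAs D hD F n (reflWord D L))
    (j j' : ℕ) (hj : j < D.rank) (hj' : j' < D.rank)
    (hf : reflWord D L (D.simple j) = D.simple j') :
    ∃ h ∈ D.diagonalSubgroup F, n * nFund D hD F j * n⁻¹ = h * nFund D hD F j' := by
  obtain ⟨χ, hχ, hconj⟩ := exists_char_actsAs D hD F n hn L hL hact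
  have hpj := (fundFacts_of_mem D hD j hj).hp
  have hpj' := (fundFacts_of_mem D hD j' hj').hp
  have hnj := (fundFacts_of_mem D hD j hj).hpb
  have hnj' := (fundFacts_of_mem D hD j' hj').hpb
  have hfn : reflWord D L (D.neg (D.simple j)) = D.neg (D.simple j') := by
    rw [reflWord_neg D hD L hL _ hpj, hf]
  have hc0 : χ (D.simple j') ≠ 0 := hχ.ne0 _ hpj'
  refine ⟨wordGL D hD F (D.hWord (D.simple j') (χ (D.simple j'))),
    hGL_mem_diagonalSubgroup D hD F _ hpj' _ hc0, ?_⟩
  rw [nFund_eq, nFund_eq, ← nGL_eq_hGL_mul, nGL_eq, nGL_eq]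
  have e : n * (xGL D hD F (D.simple j) 1 * xGL D hD F (D.neg (D.simple j)) (-(1 : F)⁻¹) *
        xGL D hD F (D.simple j) 1) * n⁻¹ =
      (n * xGL D hD F (D.simple j) 1 * n⁻¹) * (n * xGL D hD F (D.neg (D.simple j)) (-(1 : F)⁻¹) * n⁻¹) *
        (n * xGL D hD F (D.simple j) 1 * n⁻¹) := by group
  rw [e, hconj _ hpj, hconj _ hnj, hf, hfn, hχ.negC _ hpj' hnj', mul_one]
  congr 2
  rw [inv_one, mul_neg, mul_one]

/-- a fundamental root element in `U_{p_i}` is trivial -/
theorem eq_zero_of_xGL_mem_up (i : ℕ) (hi : i < D.rank) (a : F)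
    (h : xGL D hD F (D.simple i) a ∈ upSubgroup D F i) : a = 0 := by
  have hF := fundFacts_of_mem D hD i hi
  have hs := nFund_mem_normalizer_up D hD F i hi
  have h1 : nFund D hD F i * xGL D hD F (D.simple i) a * (nFund D hD F i)⁻¹ ∈ D.posUnipotent F :=
    up_le_posUnipotent D hD F i (conj_mem_up D hD F i _ hs _ h)
  have h2 := nFund_conj_simple_mem D hD F i hi a
  have h3 : nFund D hD F i * xGL D hD F (D.simple i) a * (nFund D hD F i)⁻¹ ∈
      D.posUnipotent F ⊓ D.negUnipotent F := Subgroup.mem_inf.mpr ⟨h1, h2⟩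
  rw [posUnipotent_inf_negUnipotent D hD F, Subgroup.mem_bot] at h3
  have h4 : xGL D hD F (D.simple i) a = 1 := by
    have e : xGL D hD F (D.simple i) a = (nFund D hD F i)⁻¹ *
        (nFund D hD F i * xGL D hD F (D.simple i) a * (nFund D hD F i)⁻¹) * nFund D hD F i := by group
    rw [e, h3]; group
  rw [← xGL_zero D hD F (D.simple i)] at h4
  exact xGL_coef_inj D hD F _ hF.hp _ _ h4

/-- `n_{-p}(1) = n_p(1)` in characteristic two -/
theorem nGL_neg_simple [CharP F 2] (i : ℕ) (hi : i < D.rank) :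
    wordGL D hD F (D.nWord (D.neg (D.simple i)) 1) = nFund D hD F i := by
  have hF := fundFacts_of_mem D hD i hi
  have hC := conjFacts_of_mem D hD i hi
  have h1 := nFund_conj_nGL D hD F i hi (D.simple i) hF.hp
  rw [reflectRoot_simple, pm_cast F _ (hC.ηpm _ hF.hp)] at h1
  rw [← h1, ← nFund_eq]
  group

/-- the rank one identity `x_{-p}(c⁻¹) x_p(c) x_{-p}(c⁻¹) = h n_p` in characteristic two -/
theorem rank_one_neg [CharP F 2] (i : ℕ) (hi : i < D.rank) (c : F) (hc : c ≠ 0) :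
    ∃ h ∈ D.diagonalSubgroup F,
      xGL D hD F (D.neg (D.simple i)) c⁻¹ * xGL D hD F (D.simple i) c * xGL D hD F (D.neg (D.simple i)) c⁻¹ =
        h * nFund D hD F i := by
  have hF := fundFacts_of_mem D hD i hi
  refine ⟨wordGL D hD F (D.hWord (D.neg (D.simple i)) c⁻¹),
    hGL_mem_diagonalSubgroup D hD F _ hF.hpb _ (inv_ne_zero hc), ?_⟩
  rw [← nGL_neg_simple D hD F i hi, ← nGL_eq_hGL_mul, nGL_eq, neg_neg_root D hD _ hF.hp, inv_inv,
    CharTwo.neg_eq]

/-- conjugation by `n_i` lengthens an involution `n` when `f p_i` is positive and different from `p_i` -/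
theorem wl_conj_single (n : GL D.Idx F) (hn : n ∈ D.monomialSubgroup F) (hnn : n * n = 1)
    (f : ℕ → ℕ) (hact : ActsAs D hD F n f)
    (i : ℕ) (hi : i < D.rank) (hpos : D.IsPosRoot (f (D.simple i))) (hne : f (D.simple i) ≠ D.simple i) :
    wl D hD F n < wl D hD F (nFund D hD F i * n * (nFund D hD F i)⁻¹) := by
  have hF := fundFacts_of_mem D hD i hi
  have ninv : n⁻¹ = n := inv_eq_of_mul_eq_one_right hnn
  obtain ⟨hb, η, hη, hconj⟩ := hact (D.simple i) hF.hp
  have hs := nFund_mem_monomial D hD F i hi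
  have hsi := Subgroup.inv_mem _ hs
  have hA := wl_lt_right D hD F n hn _ hact i hi hpos _ hsi (actsAs_nFund_inv D hD F i hi)
  obtain ⟨-, η', -, h2⟩ := actsAs_nFund D hD F i hi _ hb
  have hB := wl_lt_left D hD F (n * (nFund D hD F i)⁻¹) (Subgroup.mul_mem _ hn hsi) i hi
    (nFund D hD F i) hs (actsAs_nFund D hD F i hi) _
    (reflect_pos_of_pos D hD i hi _ hpos hne) (η' * η) (by
      intro t
      have e0 : η' * η * t = η' * (η * t) := mul_assoc _ _ _
      rw [e0, ← h2, ← hconj t]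
      rw [ninv]
      have e : (n * (nFund D hD F i)⁻¹)⁻¹ = nFund D hD F i * n := by
        rw [_root_.mul_inv_rev, inv_inv, ninv]
      rw [e]
      group)
  rw [← mul_assoc] at hB
  omega

theorem xGL_sq [CharP F 2] (r : ℕ) (a : F) : xGL D hD F r a * xGL D hD F r a = 1 := by
  rw [xGL_mul, CharTwo.add_self_eq_zero, xGL_zero]

/-- the rank one package for a single fundamental root -/
theorem rk1_pkg_single [CharP F 2] (i : ℕ) (hi : i < D.rank) (a : F) (ha : a ≠ 0) :
    xGL D hD F (D.simple i) a * xGL D hD F (D.simple i) a = 1 ∧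
    xGL D hD F (D.neg (D.simple i)) a⁻¹ * xGL D hD F (D.neg (D.simple i)) a⁻¹ = 1 ∧
    ∃ h ∈ D.diagonalSubgroup F, xGL D hD F (D.neg (D.simple i)) a⁻¹ * xGL D hD F (D.simple i) a *
      xGL D hD F (D.neg (D.simple i)) a⁻¹ = h * nFund D hD F i :=
  ⟨xGL_sq D hD F _ _, xGL_sq D hD F _ _, rank_one_neg D hD F i hi a ha⟩

/-- the rank one package for two orthogonal fundamental roots -/
theorem rk1_pkg_pair [CharP F 2] (i j : ℕ) (hi : i < D.rank) (hj : j < D.rank)
    (h1 : NC D (D.simple i) (D.simple j)) (h2 : NC D (D.simple i) (D.neg (D.simple j)))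
    (h3 : NC D (D.simple j) (D.neg (D.simple i))) (h4 : NC D (D.neg (D.simple i)) (D.neg (D.simple j)))
    (a b : F) (ha : a ≠ 0) (hb : b ≠ 0) :
    (xGL D hD F (D.simple i) a * xGL D hD F (D.simple j) b) *
      (xGL D hD F (D.simple i) a * xGL D hD F (D.simple j) b) = 1 ∧
    (xGL D hD F (D.neg (D.simple i)) a⁻¹ * xGL D hD F (D.neg (D.simple j)) b⁻¹) *
      (xGL D hD F (D.neg (D.simple i)) a⁻¹ * xGL D hD F (D.neg (D.simple j)) b⁻¹) = 1 ∧
    ∃ h ∈ D.diagonalSubgroup F,
      (xGL D hD F (D.neg (D.simple i)) a⁻¹ * xGL D hD F (D.neg (D.simple j)) b⁻¹) *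
        (xGL D hD F (D.simple i) a * xGL D hD F (D.simple j) b) *
        (xGL D hD F (D.neg (D.simple i)) a⁻¹ * xGL D hD F (D.neg (D.simple j)) b⁻¹) =
        h * (nFund D hD F i * nFund D hD F j) := by
  obtain ⟨A, hA⟩ : ∃ A, A = xGL D hD F (D.simple i) a := ⟨_, rfl⟩
  obtain ⟨B, hB⟩ : ∃ B, B = xGL D hD F (D.simple j) b := ⟨_, rfl⟩
  obtain ⟨A', hA'⟩ : ∃ A', A' = xGL D hD F (D.neg (D.simple i)) a⁻¹ := ⟨_, rfl⟩
  obtain ⟨B', hB'⟩ : ∃ B', B' = xGL D hD F (D.neg (D.simple j)) b⁻¹ := ⟨_, rfl⟩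
  have cAB : A * B = B * A := by rw [hA, hB]; exact (h1.commute D hD F a b).eq
  have cAB' : A * B' = B' * A := by rw [hA, hB']; exact (h2.commute D hD F a b⁻¹).eq
  have cBA' : B * A' = A' * B := by rw [hB, hA']; exact (h3.commute D hD F b a⁻¹).eq
  have cA'B' : A' * B' = B' * A' := by rw [hA', hB']; exact (h4.commute D hD F a⁻¹ b⁻¹).eq
  have sA : A * A = 1 := by rw [hA]; exact xGL_sq D hD F _ _
  have sB : B * B = 1 := by rw [hB]; exact xGL_sq D hD F _ _
  have sA' : A' * A' = 1 := by rw [hA']; exact xGL_sq D hD F _ _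
  have sB' : B' * B' = 1 := by rw [hB']; exact xGL_sq D hD F _ _
  obtain ⟨k1, hk1, e1⟩ := rank_one_neg D hD F i hi a ha
  obtain ⟨k2, hk2, e2⟩ := rank_one_neg D hD F j hj b hb
  rw [← hA, ← hA'] at e1
  rw [← hB, ← hB'] at e2
  rw [← hA, ← hB, ← hA', ← hB']
  refine ⟨?_, ?_, ?_⟩
  · calc A * B * (A * B) = A * (B * A) * B := by group
      _ = A * (A * B) * B := by rw [cAB]
      _ = (A * A) * (B * B) := by group
      _ = 1 := by rw [sA, sB, one_mul]
  · calc A' * B' * (A' * B') = A' * (B' * A') * B' := by group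
      _ = A' * (A' * B') * B' := by rw [cA'B']
      _ = (A' * A') * (B' * B') := by group
      _ = 1 := by rw [sA', sB', one_mul]
  · have hconj : nFund D hD F i * k2 * (nFund D hD F i)⁻¹ ∈ D.diagonalSubgroup F :=
      nGL_conj_mem D hD F (D.simple i) (fundFacts_of_mem D hD i hi).hp k2 hk2
    refine ⟨k1 * (nFund D hD F i * k2 * (nFund D hD F i)⁻¹), Subgroup.mul_mem _ hk1 hconj, ?_⟩
    calc A' * B' * (A * B) * (A' * B') = A' * (B' * A) * B * A' * B' := by group
      _ = A' * (A * B') * B * A' * B' := by rw [cAB']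
      _ = A' * A * B' * (B * A') * B' := by group
      _ = A' * A * B' * (A' * B) * B' := by rw [cBA']
      _ = A' * A * (B' * A') * B * B' := by group
      _ = A' * A * (A' * B') * B * B' := by rw [cA'B']
      _ = (A' * A * A') * (B' * B * B') := by group
      _ = (k1 * nFund D hD F i) * (k2 * nFund D hD F j) := by rw [e1, e2]
      _ = k1 * (nFund D hD F i * k2 * (nFund D hD F i)⁻¹) * (nFund D hD F i * nFund D hD F j) := by group

end

end Cfsg.Agent.Lib.Helper7.TwInv
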