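import Cfsg.Agent.Lib.Helper7.ChevTwistE6
import Cfsg.Agent.Lib.Helper7.TwInvB
import Cfsg.Agent.Lib.Helper25.ChInvG

/-! The fusion of two classes of involutions of `F₄(q)` in `²E₆(q)`, `q` even (helper7). -/

set_option autoImplicit false
set_option maxRecDepth 100000

namespace Cfsg.Agent.Lib.Helper7.TwE6

open Cfsg Cfsg.Lie Matrix
open Cfsg.Agent.Lib.Helper7 Cfsg.Agent.Lib.Helper25.ChInv

theorem fuse_aux {G : Type*} [Group G] (A B X Y Z Ts Tu : G) (cBX : B * X = X * B) (cBY : B * Y = Y * B)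
    (cAX : A * X = X * A) (cAZ : A * Z = Z * A) (cATu : A * Tu = Tu * A) (hAY : A * Y = Y * Ts * A)
    (hBZ : B * Z = Z * Tu * B) (cTsZ : Ts * Z = Z * Ts) (cXY : X * Y = Y * X) (cXZ : X * Z = Z * X)
    (hT : X * Ts * Tu = 1) (cYZ : Y * Z = Z * Y) :
    A * B * (X * (Y * (Z * 1))) * (A * B)⁻¹ = Z * (Y * 1) := by
  have hBX' : ∀ r, B * (X * r) = X * (B * r) := fun r => by rw [← mul_assoc, cBX, mul_assoc]
  have hBY' : ∀ r, B * (Y * r) = Y * (B * r) := fun r => by rw [← mul_assoc, cBY, mul_assoc]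
  have hAX' : ∀ r, A * (X * r) = X * (A * r) := fun r => by rw [← mul_assoc, cAX, mul_assoc]
  have hAZ' : ∀ r, A * (Z * r) = Z * (A * r) := fun r => by rw [← mul_assoc, cAZ, mul_assoc]
  have hATu' : ∀ r, A * (Tu * r) = Tu * (A * r) := fun r => by rw [← mul_assoc, cATu, mul_assoc]
  have hAY' : ∀ r, A * (Y * r) = Y * (Ts * (A * r)) := fun r => by
    rw [← mul_assoc, hAY, mul_assoc, mul_assoc]
  have hBZ' : ∀ r, B * (Z * r) = Z * (Tu * (B * r)) := fun r => by
    rw [← mul_assoc, hBZ, mul_assoc, mul_assoc]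
  have hTsZ' : ∀ r, Ts * (Z * r) = Z * (Ts * r) := fun r => by rw [← mul_assoc, cTsZ, mul_assoc]
  have hXY' : ∀ r, X * (Y * r) = Y * (X * r) := fun r => by rw [← mul_assoc, cXY, mul_assoc]
  have hXZ' : ∀ r, X * (Z * r) = Z * (X * r) := fun r => by rw [← mul_assoc, cXZ, mul_assoc]
  have hYZ' : ∀ r, Y * (Z * r) = Z * (Y * r) := fun r => by rw [← mul_assoc, cYZ, mul_assoc]
  have hT' : ∀ r, X * (Ts * (Tu * r)) = r := fun r => by
    rw [← mul_assoc, ← mul_assoc, hT, one_mul]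
  rw [mul_inv_eq_iff_eq_mul, mul_one, mul_one]
  calc A * B * (X * (Y * Z)) = A * (B * (X * (Y * (Z * 1)))) := by rw [mul_one, mul_assoc]
    _ = A * (X * (Y * (Z * (Tu * (B * 1))))) := by rw [hBX', hBY', hBZ']
    _ = X * (Y * (Ts * (Z * (Tu * (A * (B * 1)))))) := by rw [hAX', hAY', hAZ', hATu']
    _ = Y * (Z * (X * (Ts * (Tu * (A * (B * 1)))))) := by rw [hTsZ', hXY', hXZ']
    _ = Z * (Y * (A * (B * 1))) := by rw [hT', hYZ']
    _ = Z * Y * (A * B) := by rw [mul_one, mul_assoc]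

section
variable (K : Type*) [Field K] [CharP K 2]

theorem nc_facts : NC chevE6 48 71 ∧ NC chevE6 48 66 ∧ NC chevE6 50 71 ∧ NC chevE6 50 68 ∧ NC chevE6 71 68 ∧
    NC chevE6 71 66 ∧ NC chevE6 66 68 := by decide +kernel

theorem ct_facts : chevE6.commTerms 50 66 = [(71, 1, 1, 1)] ∧ chevE6.commTerms 48 68 = [(71, 1, 1, 1)] := by
  decide +kernel

/-- the fusion identity: `x_71(1) x_66(1) x_68(1)` is conjugate to `x_68(1) x_66(1)` under
`x_50(s) x_48(u)` with `s + u = 1` -/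
theorem e6_fuse (s u : K) (hsu : s + u = 1) :
    (xGL chevE6 chevE6_mem K 50 s * xGL chevE6 chevE6_mem K 48 u) *
        wordGL chevE6 chevE6_mem K (ones K [71, 66, 68]) *
      (xGL chevE6 chevE6_mem K 50 s * xGL chevE6 chevE6_mem K 48 u)⁻¹ =
      wordGL chevE6 chevE6_mem K (ones K [68, 66]) := by
  obtain ⟨n1, n2, n3, n4, n5, n6, n7⟩ := nc_facts
  obtain ⟨c1, c2⟩ := ct_facts
  have e1 : wordGL chevE6 chevE6_mem K (ones K [71, 66, 68]) =
      xGL chevE6 chevE6_mem K 71 1 * (xGL chevE6 chevE6_mem K 66 1 * (xGL chevE6 chevE6_mem K 68 1 * 1)) := by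
    unfold ones wordGL; simp
  have e2 : wordGL chevE6 chevE6_mem K (ones K [68, 66]) =
      xGL chevE6 chevE6_mem K 68 1 * (xGL chevE6 chevE6_mem K 66 1 * 1) := by
    unfold ones wordGL; simp
  rw [e1, e2]
  have hAY : xGL chevE6 chevE6_mem K 50 s * xGL chevE6 chevE6_mem K 66 1 =
      xGL chevE6 chevE6_mem K 66 1 * xGL chevE6 chevE6_mem K 71 s * xGL chevE6 chevE6_mem K 50 s := by
    have h := xGL_conj_xGL chevE6 chevE6_mem K 50 66 (by decide) (by decide) (by decide) (by decide) s 1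
    unfold ChevalleyDatum.commWord at h
    rw [c1] at h
    unfold wordGL at h
    simp only [List.map_cons, List.map_nil, List.prod_cons, List.prod_nil, mul_one, pow_one, one_pow,
      Int.cast_one, one_mul, neg_neg] at h
    rw [← h]; group
  have hBZ : xGL chevE6 chevE6_mem K 48 u * xGL chevE6 chevE6_mem K 68 1 =
      xGL chevE6 chevE6_mem K 68 1 * xGL chevE6 chevE6_mem K 71 u * xGL chevE6 chevE6_mem K 48 u := by
    have h := xGL_conj_xGL chevE6 chevE6_mem K 48 68 (by decide) (by decide) (by decide) (by decide) u 1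
    unfold ChevalleyDatum.commWord at h
    rw [c2] at h
    unfold wordGL at h
    simp only [List.map_cons, List.map_nil, List.prod_cons, List.prod_nil, mul_one, pow_one, one_pow,
      Int.cast_one, one_mul, neg_neg] at h
    rw [← h]; group
  have hT : xGL chevE6 chevE6_mem K 71 1 * xGL chevE6 chevE6_mem K 71 s * xGL chevE6 chevE6_mem K 71 u = 1 := by
    rw [xGL_mul, xGL_mul, add_assoc, hsu, CharTwo.add_self_eq_zero, xGL_zero]
  exact fuse_aux _ _ _ _ _ _ _ (n1.commute chevE6 chevE6_mem K u 1).eq (n2.commute chevE6 chevE6_mem K u 1).eq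
    (n3.commute chevE6 chevE6_mem K s 1).eq (n4.commute chevE6 chevE6_mem K s 1).eq
    (n3.commute chevE6 chevE6_mem K s u).eq hAY hBZ (n5.commute chevE6 chevE6_mem K s 1).eq
    (n6.commute chevE6 chevE6_mem K 1 1).eq (n5.commute chevE6 chevE6_mem K 1 1).eq hT
    (n7.commute chevE6 chevE6_mem K 1 1).eq

end

end Cfsg.Agent.Lib.Helper7.TwE6
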