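import Cfsg.Agent.Lib.Helper7.TwInvG
import Cfsg.Agent.Lib.Helper7.ChevTwistBN10

/-! Involutions of twisted groups in characteristic two: the generic theorems in terms of the tables
`TwistTab`, `TwistTab2` (helper7). -/

set_option autoImplicit false

namespace Cfsg.Agent.Lib.Helper7.TwInv

open Cfsg Cfsg.Lie Matrix
open Cfsg.Agent.Lib.Helper7 Cfsg.Agent.Lib.Helper25 Cfsg.Agent.Lib.Helper25.ChInv

section
variable (D : ChevalleyDatum) (hD : D ∈ [chevG2, chevB2, chevD4, chevF4, chevE6, chevE7, chevE8])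
variable (pv pv' ρ ρ' : List ℕ) (ε : List ℤ) (w : List ℤ) (cls : List (List ℕ)) (m : ℕ)
variable (L1 : List ℕ) (L2 : List (ℕ × ℕ)) (L3 : List (ℕ × ℕ × ℕ)) (simpIdx simpCls : List (List ℕ))
variable (cert : List (List ℕ × ℕ))
variable (hT : TwistTab D pv pv' ρ ρ' ε w cls m L1 L2 L3 simpIdx simpCls cert)
variable (hT2 : TwistTab2 D L1 L2 L3 simpIdx simpCls)
variable (K : Type*) [Field K] (φ : K ≃+* K)
include hD hT

omit hT in
theorem tw_genSubgroup_le_group (W : Set (List (ℕ × K))) : D.genSubgroup K W ≤ D.group K := by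
  unfold ChevalleyDatum.genSubgroup
  rw [Subgroup.closure_le]
  rintro g ⟨wd, -, hg⟩
  have : g = wordGL D hD K wd := Units.ext (by rw [hg, coe_wordGL])
  rw [this]
  exact wordGL_mem_group D hD K wd

/-- the `σ`-fixed elements of `U` lie in the twisted group -/
theorem posU_fix_le_of_tab (hφ : ∀ a, φ^[m] a = a) :
    D.posUnipotent K ⊓ fixSigma D _ _ _ _ _ (graphFacts_of_graphOKB D pv pv' ρ ρ' ε hT.graph) K φ ≤
      D.genSubgroup K (twWords K φ L1 L2 L3) := by
  have hG := graphFacts_of_graphOKB D pv pv' ρ ρ' ε hT.graph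
  obtain ⟨hTw, hpos⟩ := twistFacts_of_twistOKB D ρ ρ' w cls hT.twist
  have hA := chainAdd_linF D hD w
  have hO : PosFacts D (linF D w) := ⟨hpos, hT.prim⟩
  have hF := twistGroupFacts_of_tab D hD pv pv' ρ ρ' ε w cls m L1 L2 L3 simpIdx simpCls cert hT K φ hφ
  exact posUnipotent_inf_fixSigma_le D hD _ _ _ _ _ hG K φ (linF D w) hA hO cls hTw _ simpIdx simpCls
    hF cert hT.cert

/-- the words of twisted root elements with parameter one lie in the twisted group -/
theorem blkW_mem_of_tab [CharP K 2] (hφ : ∀ a, φ^[m] a = a) (W0 : List (List ℕ))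
    (hBl : BlkFacts D (fun s => ρ.getD s 0) simpIdx W0) (bl : List ℕ) (hbl : ∀ r ∈ bl, r < D.nroots) :
    wordGL D hD K (ones K (blkW (fun s => ρ.getD s 0) bl)) ∈ D.genSubgroup K (twWords K φ L1 L2 L3) := by
  have hG := graphFacts_of_graphOKB D pv pv' ρ ρ' ε hT.graph
  obtain ⟨hTw, hpos⟩ := twistFacts_of_twistOKB D ρ ρ' w cls hT.twist
  have hF := twistGroupFacts_of_tab D hD pv pv' ρ ρ' ε w cls m L1 L2 L3 simpIdx simpCls cert hT K φ hφ
  have hUle := posU_fix_le_of_tab D hD pv pv' ρ ρ' ε w cls m L1 L2 L3 simpIdx simpCls cert hT K φ hφ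
  exact blkW_mem D hD _ _ _ _ _ hG K φ (linF D w) cls hTw _ simpIdx simpCls hF W0 hBl hUle bl hbl

include hT2 in
/-- every involution of the twisted group is conjugate in it to one of the representatives, given the table
checks and the conjugacy statements -/
theorem tw_invol_conj_of_tab [Fintype K] [CharP K 2] (hφ : ∀ a, φ^[m] a = a) (hOF : OrbFacts D simpIdx)
    (packed : List ℕ)
    (hpk : packed.map (unpackL D.nroots) =
      (List.range D.rank).map fun i => (List.range D.nroots).map (D.reflectRoot i))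
    (LJw : List (List ℕ) → List (List ℕ)) (repOf : List (List ℕ) → List ℕ) (validL : List (List (List ℕ)))
    (hall : ∀ Os ∈ simpIdx.sublists, twChk D packed simpIdx Os (LJw Os) (validL.contains Os) = true)
    (hconj : ∀ Os ∈ validL, TwConjStmt D hD K (D.genSubgroup K (twWords K φ L1 L2 L3))
      (LJw Os).flatten (repOf Os))
    (t : GL D.Idx K) (ht : t ∈ D.genSubgroup K (twWords K φ L1 L2 L3)) (hord : orderOf t = 2) :
    ∃ Os ∈ validL, ∃ h ∈ D.genSubgroup K (twWords K φ L1 L2 L3),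
      h * t * h⁻¹ = wordGL D hD K (ones K (repOf Os)) := by
  have hG := graphFacts_of_graphOKB D pv pv' ρ ρ' ε hT.graph
  obtain ⟨hTw, hpos⟩ := twistFacts_of_twistOKB D ρ ρ' w cls hT.twist
  have hA := chainAdd_linF D hD w
  have hO : PosFacts D (linF D w) := ⟨hpos, hT.prim⟩
  have hF := twistGroupFacts_of_tab D hD pv pv' ρ ρ' ε w cls m L1 L2 L3 simpIdx simpCls cert hT K φ hφ
  have hB := twistBNFacts_of_tab2 D L1 L2 L3 simpIdx simpCls hT2
  have hUle := posU_fix_le_of_tab D hD pv pv' ρ ρ' ε w cls m L1 L2 L3 simpIdx simpCls cert hT K φ hφ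
  have hsh : ∀ S ∈ cls, ClassShape (fun r => ρ'.getD r 0) (fun r => ε.getD r 0) m S :=
    fun S hS => classShape_of_classShapeB ρ' ε m _ (List.all_eq_true.mp hT.shape _ hS)
  exact tw_invol_conj_of_tables D hD _ _ _ _ _ hG K φ (linF D w) hA hO cls hTw _ simpIdx simpCls hF m hsh hB hOF
    (tw_genSubgroup_le_group D hD K _) hUle packed hpk LJw repOf validL hall hconj t ht hord

end

end Cfsg.Agent.Lib.Helper7.TwInv
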