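import Cfsg.Agent.Lib.Helper7.TwE6Chk0
import Cfsg.Agent.Lib.Helper7.TwE6Chk1
import Cfsg.Agent.Lib.Helper7.TwE6Chk2
import Cfsg.Agent.Lib.Helper7.TwE6Chk3
import Cfsg.Agent.Lib.Helper7.TwE6Chk4
import Cfsg.Agent.Lib.Helper7.TwE6Chk5
import Cfsg.Agent.Lib.Helper7.TwE6Chk6
import Cfsg.Agent.Lib.Helper7.TwE6Chk7
import Cfsg.Agent.Lib.Helper7.TwE6Chk8
import Cfsg.Agent.Lib.Helper7.TwE6Chk9
import Cfsg.Agent.Lib.Helper7.TwE6Chk10
import Cfsg.Agent.Lib.Helper7.TwE6Fuse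
import Cfsg.Agent.Lib.Helper7.TwInvH
import Cfsg.Agent.Lib.Helper7.ChevTwistE6
import Cfsg.Agent.Lib.Helper25.E6InvMain

/-! The three classes of involutions of `²E₆(q)`, `q` even (helper7). -/

set_option autoImplicit false
set_option maxRecDepth 100000

namespace Cfsg.Agent.Lib.Helper7.TwE6

open Cfsg Cfsg.Lie Matrix
open Cfsg.Agent.Lib.Helper7 Cfsg.Agent.Lib.Helper7.TwInv Cfsg.Agent.Lib.Helper25 Cfsg.Agent.Lib.Helper25.ChInv

theorem rep4_sq : BitWord.bitChkQ chevE6 ([71, 66, 68] ++ [71, 66, 68]) [] = true := by decide +kernel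

section
variable (K : Type*) [Field K] (φ : K ≃+* K)

local notation "G1E6" => chevE6.genSubgroup K (twWords K φ [e6p2, e6m2, e6p4, e6m4]
  [(e6p1, e6p6), (e6m1, e6m6), (e6p3, e6p5), (e6m3, e6m5)] [])

variable [CharP K 2] (hφ : ∀ a, φ^[2] a = a)
include hφ

/-- the words of twisted root elements with parameter one lie in `²E₆(q)` -/
theorem gW_mem (bl : List ℕ) (hbl : ∀ r ∈ bl, r < chevE6.nroots) :
    wordGL chevE6 chevE6_mem K (ones K (blkW rhoE6 bl)) ∈ G1E6 :=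
  blkW_mem_of_tab chevE6 chevE6_mem _ _ _ _ _ _ _ 2 _ _ _ _ _ _ twistTab_E6 K φ hφ W0 blkFacts_E6 bl hbl

variable [Fintype K]

theorem conj_0 : TwConjStmt chevE6 chevE6_mem K G1E6 (LJw []).flatten [55, 65, 67] :=
  twConjStmt_of_chk chevE6 chevE6_mem K _ _ gW_0 _ (by rw [gW_eq_0]; exact gW_mem K φ hφ heads_0 heads_lt_0)
    (BitWord.bitChkR_of_Q _ _ _ chkW_0) (BitWord.bitChkR_of_Q _ _ _ (E6Inv.reps_sq _ (by decide)))

theorem conj_1 : TwConjStmt chevE6 chevE6_mem K G1E6 (LJw [[1]]).flatten [55, 65, 67] :=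
  twConjStmt_of_chk chevE6 chevE6_mem K _ _ gW_1 _ (by rw [gW_eq_1]; exact gW_mem K φ hφ heads_1 heads_lt_1)
    (BitWord.bitChkR_of_Q _ _ _ chkW_1) (BitWord.bitChkR_of_Q _ _ _ (E6Inv.reps_sq _ (by decide)))

theorem conj_2 : TwConjStmt chevE6 chevE6_mem K G1E6 (LJw [[3]]).flatten [55, 65, 67] :=
  twConjStmt_of_chk chevE6 chevE6_mem K _ _ gW_2 _ (by rw [gW_eq_2]; exact gW_mem K φ hφ heads_2 heads_lt_2)
    (BitWord.bitChkR_of_Q _ _ _ chkW_2) (BitWord.bitChkR_of_Q _ _ _ (E6Inv.reps_sq _ (by decide)))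

theorem conj_3 : TwConjStmt chevE6 chevE6_mem K G1E6 (LJw [[0, 5]]).flatten [55, 65, 67] :=
  twConjStmt_of_chk chevE6 chevE6_mem K _ _ gW_3 _ (by rw [gW_eq_3]; exact gW_mem K φ hφ heads_3 heads_lt_3)
    (BitWord.bitChkR_of_Q _ _ _ chkW_3) (BitWord.bitChkR_of_Q _ _ _ (E6Inv.reps_sq _ (by decide)))

theorem conj_4 : TwConjStmt chevE6 chevE6_mem K G1E6 (LJw [[1], [0, 5]]).flatten [55, 65, 67] :=
  twConjStmt_of_chk chevE6 chevE6_mem K _ _ gW_4 _ (by rw [gW_eq_4]; exact gW_mem K φ hφ heads_4 heads_lt_4)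
    (BitWord.bitChkR_of_Q _ _ _ chkW_4) (BitWord.bitChkR_of_Q _ _ _ (E6Inv.reps_sq _ (by decide)))

theorem conj_5 : TwConjStmt chevE6 chevE6_mem K G1E6 (LJw [[3], [0, 5]]).flatten [55, 65, 67] :=
  twConjStmt_of_chk chevE6 chevE6_mem K _ _ gW_5 _ (by rw [gW_eq_5]; exact gW_mem K φ hφ heads_5 heads_lt_5)
    (BitWord.bitChkR_of_Q _ _ _ chkW_5) (BitWord.bitChkR_of_Q _ _ _ (E6Inv.reps_sq _ (by decide)))

theorem conj_6 : TwConjStmt chevE6 chevE6_mem K G1E6 (LJw [[2, 4]]).flatten [55, 65, 67] :=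
  twConjStmt_of_chk chevE6 chevE6_mem K _ _ gW_6 _ (by rw [gW_eq_6]; exact gW_mem K φ hφ heads_6 heads_lt_6)
    (BitWord.bitChkR_of_Q _ _ _ chkW_6) (BitWord.bitChkR_of_Q _ _ _ (E6Inv.reps_sq _ (by decide)))

theorem conj_7 : TwConjStmt chevE6 chevE6_mem K G1E6 (LJw [[1], [2, 4]]).flatten [55, 65, 67] :=
  twConjStmt_of_chk chevE6 chevE6_mem K _ _ gW_7 _ (by rw [gW_eq_7]; exact gW_mem K φ hφ heads_7 heads_lt_7)
    (BitWord.bitChkR_of_Q _ _ _ chkW_7) (BitWord.bitChkR_of_Q _ _ _ (E6Inv.reps_sq _ (by decide)))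

theorem conj_8a : TwConjStmt chevE6 chevE6_mem K G1E6 (LJw [[3], [2, 4]]).flatten [71, 66, 68] :=
  twConjStmt_of_chk chevE6 chevE6_mem K _ _ gW_8 _ (by rw [gW_eq_8]; exact gW_mem K φ hφ heads_8 heads_lt_8)
    (BitWord.bitChkR_of_Q _ _ _ chkW_8) (BitWord.bitChkR_of_Q _ _ _ rep4_sq)

theorem conj_9 : TwConjStmt chevE6 chevE6_mem K G1E6 (LJw [[1], [3], [2, 4]]).flatten [68, 66] :=
  twConjStmt_of_chk chevE6 chevE6_mem K _ _ gW_9 _ (by rw [gW_eq_9]; exact gW_mem K φ hφ heads_9 heads_lt_9)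
    (BitWord.bitChkR_of_Q _ _ _ chkW_9) (BitWord.bitChkR_of_Q _ _ _ (E6Inv.reps_sq _ (by decide)))

theorem conj_10 : TwConjStmt chevE6 chevE6_mem K G1E6 (LJw [[3], [0, 5], [2, 4]]).flatten [71] :=
  twConjStmt_of_chk chevE6 chevE6_mem K _ _ gW_10 _ (by rw [gW_eq_10]; exact gW_mem K φ hφ heads_10 heads_lt_10)
    (BitWord.bitChkR_of_Q _ _ _ chkW_10) (BitWord.bitChkR_of_Q _ _ _ (E6Inv.reps_sq _ (by decide)))

omit [Fintype K] in
/-- the twisted root element `x_50(s) x_48(φ s)` lies in `²E₆(q)` -/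
theorem fuse_mem (s : K) :
    xGL chevE6 chevE6_mem K 50 s * xGL chevE6 chevE6_mem K 48 (φ s) ∈ G1E6 := by
  have hG := graphFacts_of_graphOKB chevE6 _ _ _ _ _ twistTab_E6.graph
  apply posU_fix_le_of_tab chevE6 chevE6_mem _ _ _ _ _ _ _ 2 _ _ _ _ _ _ twistTab_E6 K φ hφ
  refine Subgroup.mem_inf.mpr ⟨Subgroup.mul_mem _ (xGL_pos_mem chevE6 chevE6_mem K 50 (by decide) _)
    (xGL_pos_mem chevE6 chevE6_mem K 48 (by decide) _), ?_⟩
  rw [mem_fixSigma, map_mul, sigmaGL_xGL chevE6 chevE6_mem _ _ _ _ _ hG K φ 50 (by decide),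
    sigmaGL_xGL chevE6 chevE6_mem _ _ _ _ _ hG K φ 48 (by decide)]
  have e1 : grRho_E6_1.getD 50 0 = 48 := by decide
  have e2 : grRho_E6_1.getD 48 0 = 50 := by decide
  have e3 : ((grEps_E6_1.getD 50 0 : ℤ) : K) = 1 := pm_cast K _ (hG.εpm 50 (by decide))
  have e4 : ((grEps_E6_1.getD 48 0 : ℤ) : K) = 1 := pm_cast K _ (hG.εpm 48 (by decide))
  have e5 : φ (φ s) = s := hφ s
  rw [e1, e2, e3, e4, one_mul, one_mul, e5]
  have hnc : NC chevE6 48 50 := by decide +kernel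
  exact (hnc.commute chevE6 chevE6_mem K (φ s) s).eq

theorem conj_8 (hne : ∃ a : K, φ a ≠ a) :
    TwConjStmt chevE6 chevE6_mem K G1E6 (LJw [[3], [2, 4]]).flatten [68, 66] := by
  obtain ⟨a, ha⟩ := hne
  have hφ2 : ∀ x : K, φ (φ x) = x := fun x => hφ x
  obtain ⟨b, hb⟩ : ∃ b, b = a + φ a := ⟨_, rfl⟩
  have hb0 : b ≠ 0 := by
    intro h
    apply ha
    have : φ a = -a := by
      rw [hb] at h
      exact (eq_neg_of_add_eq_zero_right h)
    rw [this, CharTwo.neg_eq]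
  have hbf : φ b = b := by rw [hb, map_add, hφ2, add_comm]
  have hs : a / b + φ (a / b) = 1 := by
    rw [map_div₀, hbf, ← add_div, ← hb, div_self hb0]
  exact (conj_8a K φ hφ).trans _ (fuse_mem K φ hφ (a / b)) (e6_fuse K (a / b) (φ (a / b)) hs)

end

/-- the final representative of the class of `n_J` -/
def repFin (Os : List (List ℕ)) : List ℕ :=
  if repOfTw Os = [71, 66, 68] then [68, 66] else repOfTw Os

theorem repFin_mem : ∀ Os ∈ validL, repFin Os ∈ E6Inv.repsL := by decide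

theorem rep3_eq : BitWord.bitChkQ chevE6 [55, 65, 67] [55, 67, 65] = true := by decide +kernel

section
variable (K : Type*) [Field K] (φ : K ≃+* K)

local notation "G1E6" => chevE6.genSubgroup K (twWords K φ [e6p2, e6m2, e6p4, e6m4]
  [(e6p1, e6p6), (e6m1, e6m6), (e6p3, e6p5), (e6m3, e6m5)] [])

variable [CharP K 2] (hφ : ∀ a, φ^[2] a = a)
include hφ

/-- the representatives lie in `²E₆(q)` -/
theorem rep_mem_G1 : ∀ R ∈ E6Inv.repsL, wordGL chevE6 chevE6_mem K (ones K R) ∈ G1E6 := by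
  unfold E6Inv.repsL
  refine List.forall_mem_cons.2 ⟨?_, List.forall_mem_cons.2 ⟨?_, List.forall_mem_cons.2 ⟨?_,
    fun _ h => absurd h List.not_mem_nil⟩⟩⟩
  · have e : ([71] : List ℕ) = blkW rhoE6 [71] := by decide
    rw [e]; exact gW_mem K φ hφ [71] (by decide)
  · have e : ([68, 66] : List ℕ) = blkW rhoE6 [68] := by decide
    rw [e]; exact gW_mem K φ hφ [68] (by decide)
  · rw [wordGL_eq_of_bitChkR chevE6 chevE6_mem K _ _ (BitWord.bitChkR_of_Q _ _ _ rep3_eq)]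
    have e : ([55, 67, 65] : List ℕ) = blkW rhoE6 [55, 65] := by decide
    rw [e]; exact gW_mem K φ hφ [55, 65] (by decide)

variable [Fintype K]

theorem conj_all (hne : ∃ a : K, φ a ≠ a) :
    ∀ Os ∈ validL, TwConjStmt chevE6 chevE6_mem K G1E6 (LJw Os).flatten (repFin Os) := by
  unfold validL
  refine List.forall_mem_cons.2 ⟨?_, List.forall_mem_cons.2 ⟨?_, List.forall_mem_cons.2 ⟨?_,
    List.forall_mem_cons.2 ⟨?_, List.forall_mem_cons.2 ⟨?_, List.forall_mem_cons.2 ⟨?_,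
    List.forall_mem_cons.2 ⟨?_, List.forall_mem_cons.2 ⟨?_, List.forall_mem_cons.2 ⟨?_,
    List.forall_mem_cons.2 ⟨?_, List.forall_mem_cons.2 ⟨?_, fun _ h => absurd h List.not_mem_nil⟩⟩⟩⟩⟩⟩⟩⟩⟩⟩⟩
  · rw [show repFin [] = [55, 65, 67] by decide]; exact conj_0 K φ hφ
  · rw [show repFin [[1]] = [55, 65, 67] by decide]; exact conj_1 K φ hφ
  · rw [show repFin [[3]] = [55, 65, 67] by decide]; exact conj_2 K φ hφ
  · rw [show repFin [[0, 5]] = [55, 65, 67] by decide]; exact conj_3 K φ hφ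
  · rw [show repFin [[1], [0, 5]] = [55, 65, 67] by decide]; exact conj_4 K φ hφ
  · rw [show repFin [[3], [0, 5]] = [55, 65, 67] by decide]; exact conj_5 K φ hφ
  · rw [show repFin [[2, 4]] = [55, 65, 67] by decide]; exact conj_6 K φ hφ
  · rw [show repFin [[1], [2, 4]] = [55, 65, 67] by decide]; exact conj_7 K φ hφ
  · rw [show repFin [[3], [2, 4]] = [68, 66] by decide]; exact conj_8 K φ hφ hne
  · rw [show repFin [[1], [3], [2, 4]] = [68, 66] by decide]; exact conj_9 K φ hφ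
  · rw [show repFin [[3], [0, 5], [2, 4]] = [71] by decide]; exact conj_10 K φ hφ

/-- every involution of `²E₆(q)` is conjugate in it to a representative -/
theorem invol_conj (hne : ∃ a : K, φ a ≠ a) (t : GL chevE6.Idx K) (ht : t ∈ G1E6) (hord : orderOf t = 2) :
    ∃ R ∈ E6Inv.repsL, ∃ h ∈ G1E6, h * t * h⁻¹ = wordGL chevE6 chevE6_mem K (ones K R) := by
  obtain ⟨Os, hOs, h, hh, hc⟩ := tw_invol_conj_of_tab chevE6 chevE6_mem _ _ _ _ _ _ _ 2 _ _ _ _ _ _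
    twistTab_E6 twistTab2_E6 K φ hφ orbFacts_E6 E6Inv.packed E6Inv.hpk LJw repFin validL chk_all
    (conj_all K φ hφ hne) t ht hord
  exact ⟨repFin Os, repFin_mem Os hOs, h, hh, hc⟩

/-- `²E₆(q)`, `q` even, has exactly three classes of involutions -/
theorem e6tw_invol_ncard (hne : ∃ a : K, φ a ≠ a) :
    (ConjClasses.mk '' {g : ↥G1E6 | orderOf g = 2}).ncard = 3 := by
  have hm := rep_mem_G1 K φ hφ
  obtain ⟨a, ha⟩ : ∃ a : ↥G1E6, a = ⟨wordGL chevE6 chevE6_mem K (ones K [71]), hm _ (by decide)⟩ := ⟨_, rfl⟩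
  obtain ⟨b, hb⟩ : ∃ b : ↥G1E6, b = ⟨wordGL chevE6 chevE6_mem K (ones K [68, 66]), hm _ (by decide)⟩ :=
    ⟨_, rfl⟩
  obtain ⟨c, hc⟩ : ∃ c : ↥G1E6, c = ⟨wordGL chevE6 chevE6_mem K (ones K [55, 65, 67]), hm _ (by decide)⟩ :=
    ⟨_, rfl⟩
  have hoa : orderOf a = 2 := by
    rw [ha, Subgroup.orderOf_mk]; exact (E6Inv.rep_order K [71] (by decide)).2
  have hob : orderOf b = 2 := by
    rw [hb, Subgroup.orderOf_mk]; exact (E6Inv.rep_order K [68, 66] (by decide)).2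
  have hoc : orderOf c = 2 := by
    rw [hc, Subgroup.orderOf_mk]; exact (E6Inv.rep_order K [55, 65, 67] (by decide)).2
  have hnc : ∀ (R₁ R₂ : List ℕ) (h1 : R₁ ∈ E6Inv.repsL) (h2 : R₂ ∈ E6Inv.repsL), R₁ ≠ R₂ →
      ConjClasses.mk (⟨wordGL chevE6 chevE6_mem K (ones K R₁), hm _ h1⟩ : ↥G1E6) ≠
        ConjClasses.mk (⟨wordGL chevE6 chevE6_mem K (ones K R₂), hm _ h2⟩ : ↥G1E6) := by
    intro R₁ R₂ h1 h2 hne' h
    rw [ConjClasses.mk_eq_mk_iff_isConj, isConj_iff] at h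
    obtain ⟨k, hk⟩ := h
    apply hne'
    have := congrArg Subtype.val hk
    exact E6Inv.no_conj K R₁ R₂ h1 h2 k.1 (by simpa using this)
  have hab : ConjClasses.mk a ≠ ConjClasses.mk b := by
    rw [ha, hb]; exact hnc _ _ (by decide) (by decide) (by decide)
  have hac : ConjClasses.mk a ≠ ConjClasses.mk c := by
    rw [ha, hc]; exact hnc _ _ (by decide) (by decide) (by decide)
  have hbc : ConjClasses.mk b ≠ ConjClasses.mk c := by
    rw [hb, hc]; exact hnc _ _ (by decide) (by decide) (by decide)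
  have hset : ConjClasses.mk '' {g : ↥G1E6 | orderOf g = 2} =
      {ConjClasses.mk a, ConjClasses.mk b, ConjClasses.mk c} := by
    apply Set.Subset.antisymm
    · rintro _ ⟨g, hg, rfl⟩
      have hg2 : orderOf (g : GL chevE6.Idx K) = 2 := by rw [Subgroup.orderOf_coe]; exact hg
      obtain ⟨R, hR, k, hk, hke⟩ := invol_conj K φ hφ hne g.1 g.2 hg2
      have hcj : ConjClasses.mk g =
          ConjClasses.mk (⟨wordGL chevE6 chevE6_mem K (ones K R), hm _ hR⟩ : ↥G1E6) := by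
        rw [ConjClasses.mk_eq_mk_iff_isConj, isConj_iff]
        exact ⟨⟨k, hk⟩, Subtype.ext (by simpa using hke)⟩
      unfold E6Inv.repsL at hR
      simp only [List.mem_cons, List.not_mem_nil, or_false] at hR
      rcases hR with rfl | rfl | rfl
      · left; rw [hcj, ha]
      · right; left; rw [hcj, hb]
      · right; right; rw [Set.mem_singleton_iff, hcj, hc]
    · rintro x hx
      rcases hx with rfl | rfl | rfl
      · exact ⟨a, hoa, rfl⟩
      · exact ⟨b, hob, rfl⟩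
      · exact ⟨c, hoc, rfl⟩
  rw [hset, Set.ncard_insert_of_notMem (by
    intro h
    rcases h with h | h
    · exact hab h
    · exact hac h), Set.ncard_pair hbc]

end

end Cfsg.Agent.Lib.Helper7.TwE6
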