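import Cfsg.Agent.Lib.Helper7.TwInvG
import Cfsg.Agent.Lib.Helper7.ChevTwistTab2E6
import Cfsg.Agent.Lib.Helper25.E6InvTab

/-! Tables for the involutions of `²E₆(2ᵃ)`: words of the elements `w₀ w_J` in the orbit reflections, the
admissible sets of orbits, the class representatives and the table facts (helper7; generated). -/

set_option autoImplicit false

namespace Cfsg.Agent.Lib.Helper7.TwE6

open Cfsg Cfsg.Lie Matrix
open Cfsg.Agent.Lib.Helper7 Cfsg.Agent.Lib.Helper7.TwInv Cfsg.Agent.Lib.Helper25 Cfsg.Agent.Lib.Helper25.ChInv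

/-- the permutation of the roots by the graph automorphism -/
def rhoE6 : ℕ → ℕ := fun s => grRho_E6_1.getD s 0

/-- words of the elements `w₀ w_J` in the orbit reflections -/
def LJwTab : List (List (List ℕ) × List (List ℕ)) := [
  ([], [[2, 4], [0, 5], [3], [2, 4], [0, 5], [1], [3], [2, 4], [0, 5], [1], [3], [2, 4], [0, 5], [1], [3], [2, 4], [0, 5], [1], [3], [2, 4], [0, 5], [1], [3], [1]]),
  ([[1]], [[2, 4], [0, 5], [3], [2, 4], [0, 5], [1], [3], [2, 4], [0, 5], [1], [3], [2, 4], [0, 5], [1], [3], [2, 4], [0, 5], [1], [3], [2, 4], [0, 5], [1], [3]]),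
  ([[3]], [[2, 4], [0, 5], [3], [2, 4], [0, 5], [1], [3], [2, 4], [0, 5], [1], [3], [2, 4], [0, 5], [1], [3], [2, 4], [0, 5], [1], [3], [2, 4], [0, 5], [3], [1]]),
  ([[1], [3]], [[2, 4], [0, 5], [3], [2, 4], [0, 5], [1], [3], [2, 4], [0, 5], [1], [3], [2, 4], [0, 5], [1], [3], [2, 4], [0, 5], [1], [3], [2, 4], [0, 5]]),
  ([[0, 5]], [[2, 4], [0, 5], [3], [2, 4], [0, 5], [1], [3], [2, 4], [0, 5], [1], [3], [2, 4], [0, 5], [1], [3], [2, 4], [0, 5], [1], [3], [2, 4], [1], [3], [1]]),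
  ([[1], [0, 5]], [[2, 4], [0, 5], [3], [2, 4], [0, 5], [1], [3], [2, 4], [0, 5], [1], [3], [2, 4], [0, 5], [1], [3], [2, 4], [0, 5], [1], [3], [2, 4], [1], [3]]),
  ([[3], [0, 5]], [[2, 4], [0, 5], [3], [2, 4], [0, 5], [1], [3], [2, 4], [0, 5], [1], [3], [2, 4], [0, 5], [1], [3], [2, 4], [0, 5], [1], [3], [2, 4], [3], [1]]),
  ([[1], [3], [0, 5]], [[2, 4], [0, 5], [3], [2, 4], [0, 5], [1], [3], [2, 4], [0, 5], [1], [3], [2, 4], [0, 5], [1], [3], [2, 4], [0, 5], [1], [3], [2, 4]]),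
  ([[2, 4]], [[0, 5], [3], [2, 4], [0, 5], [1], [3], [2, 4], [0, 5], [1], [3], [2, 4], [0, 5], [1], [3], [2, 4], [0, 5], [1], [3], [2, 4], [0, 5], [1], [3], [1]]),
  ([[1], [2, 4]], [[0, 5], [3], [2, 4], [0, 5], [1], [3], [2, 4], [0, 5], [1], [3], [2, 4], [0, 5], [1], [3], [2, 4], [0, 5], [1], [3], [2, 4], [0, 5], [1], [3]]),
  ([[3], [2, 4]], [[0, 5], [2, 4], [1], [3], [2, 4], [0, 5], [1], [3], [2, 4], [0, 5], [1], [3], [2, 4], [0, 5], [1], [3], [2, 4], [0, 5], [3], [1]]),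
  ([[1], [3], [2, 4]], [[0, 5], [2, 4], [3], [2, 4], [0, 5], [1], [3], [2, 4], [0, 5], [3], [2, 4], [1], [3], [2, 4], [0, 5]]),
  ([[0, 5], [2, 4]], [[3], [2, 4], [0, 5], [1], [3], [2, 4], [0, 5], [1], [3], [2, 4], [0, 5], [1], [3], [2, 4], [0, 5], [1], [3], [2, 4], [1], [3], [1]]),
  ([[1], [0, 5], [2, 4]], [[3], [2, 4], [0, 5], [1], [3], [2, 4], [0, 5], [1], [3], [2, 4], [0, 5], [1], [3], [2, 4], [0, 5], [1], [3], [2, 4], [1], [3]]),
  ([[3], [0, 5], [2, 4]], [[1], [3], [2, 4], [0, 5], [3], [2, 4], [1], [3], [2, 4], [0, 5], [1], [3], [2, 4], [3], [1]]),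
  ([[1], [3], [0, 5], [2, 4]], [])]

/-- a word of `w₀ w_J` in the orbit reflections -/
def LJw (Os : List (List ℕ)) : List (List ℕ) := (LJwTab.lookup Os).getD []

/-- the sets of orbits stabilised orbit by orbit by `w₀ w_J` -/
def validL : List (List (List ℕ)) := [[], [[1]], [[3]], [[0, 5]], [[1], [0, 5]], [[3], [0, 5]], [[2, 4]], [[1], [2, 4]], [[3], [2, 4]], [[1], [3], [2, 4]], [[3], [0, 5], [2, 4]]]

/-- the representative of the class of `n_J` (before fusion) -/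
def repTab : List (List (List ℕ) × List ℕ) := [
  ([], [55, 65, 67]),
  ([[1]], [55, 65, 67]),
  ([[3]], [55, 65, 67]),
  ([[0, 5]], [55, 65, 67]),
  ([[1], [0, 5]], [55, 65, 67]),
  ([[3], [0, 5]], [55, 65, 67]),
  ([[2, 4]], [55, 65, 67]),
  ([[1], [2, 4]], [55, 65, 67]),
  ([[3], [2, 4]], [71, 66, 68]),
  ([[1], [3], [2, 4]], [68, 66]),
  ([[3], [0, 5], [2, 4]], [71])]

/-- the representative of the class of `n_J` (before fusion) -/
def repOfTw (Os : List (List ℕ)) : List ℕ := (repTab.lookup Os).getD []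

/-- a word of `w₀` in the orbit reflections -/
def W0 : List (List ℕ) := [[2, 4], [0, 5], [3], [2, 4], [0, 5], [1], [3], [2, 4], [0, 5], [1], [3], [2, 4], [0, 5], [1], [3], [2, 4], [0, 5], [1], [3], [2, 4], [0, 5], [1], [3], [1]]

set_option maxHeartbeats 0 in
set_option maxRecDepth 1000000 in
theorem chk_all : ∀ Os ∈ twSimpIdx_E6.sublists,
    twChk chevE6 E6Inv.packed twSimpIdx_E6 Os (LJw Os) (validL.contains Os) = true := by
  decide +kernel

set_option maxHeartbeats 0 in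
set_option maxRecDepth 1000000 in
theorem orbFacts_E6 : OrbFacts chevE6 twSimpIdx_E6 where
  shape := by
    intro O hO
    simp only [twSimpIdx_E6, List.mem_cons, List.not_mem_nil, or_false] at hO
    rcases hO with rfl | rfl | rfl | rfl
    · exact Or.inl ⟨1, rfl⟩
    · exact Or.inl ⟨3, rfl⟩
    · exact Or.inr ⟨0, 5, rfl, by decide, by decide +kernel, by decide +kernel⟩
    · exact Or.inr ⟨2, 4, rfl, by decide, by decide +kernel, by decide +kernel⟩
  cov := by decide +kernel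
  disj := by decide +kernel
  desc := by decide +kernel

set_option maxHeartbeats 0 in
set_option maxRecDepth 1000000 in
theorem blkFacts_E6 : BlkFacts chevE6 rhoE6 twSimpIdx_E6 W0 where
  nc := by decide +kernel
  w0mem := by decide +kernel
  w0pos := by decide +kernel

end Cfsg.Agent.Lib.Helper7.TwE6
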