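import Cfsg.Agent.Lib.Helper25.ChInvC

/-! Involutions of twisted groups in characteristic two: the shape of the "stuck" involutions `w` of the
Weyl group commuting with the graph automorphism (every fundamental root is permuted inside `J` or made
negative), generalising `StuckW` of helper25 (helper7). -/

set_option autoImplicit false

namespace Cfsg.Agent.Lib.Helper7.TwInv

open Cfsg Cfsg.Lie Matrix
open Cfsg.Agent.Lib.Helper7 Cfsg.Agent.Lib.Helper25.ChInv

section
variable (D : ChevalleyDatum) (hD : D ∈ [chevG2, chevB2, chevD4, chevF4, chevE6, chevE7, chevE8])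
include hD

/-- `f` permutes the fundamental roots of `J` and makes the others negative -/
structure StuckP (f : ℕ → ℕ) (J : Set ℕ) : Prop where
  perm : ∀ i < D.rank, i ∈ J → ∃ j < D.rank, j ∈ J ∧ f (D.simple i) = D.simple j
  neg : ∀ i < D.rank, i ∉ J → D.IsNegRoot (f (D.simple i))

section stuck
variable (L : List ℕ) (hL : ∀ i ∈ L, i < D.rank)
variable (hinv : ∀ r < D.nroots, reflWord D L (reflWord D L r) = r)
variable (J : Set ℕ) (hS : StuckP D (reflWord D L) J)
include hL hinv hS

theorem stuckP_exists_out (j : ℕ) (hj : j < D.rank) (hjJ : j ∉ J) :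
    ∃ k < D.rank, k ∉ J ∧ corC D (reflWord D L (D.simple j)) k < 0 := by
  classical
  by_contra hcon
  push Not at hcon
  have hF := fun i (hi : i < D.rank) => (fundFacts_of_mem D hD i hi).hp
  have hneg := hS.neg j hj hjJ
  have h0 : ∀ k < D.rank, k ∉ J → corC D (reflWord D L (D.simple j)) k = 0 := fun k hk hkJ =>
    le_antisymm (getD_coroot_nonpos D _ hneg k) (hcon k hk hkJ)
  have h1 := corC_reflWord D hD L hL (reflWord D L (D.simple j)) hneg.1 j hj
  rw [hinv _ (hF j hj), corC_simple D hD j hj j hj, if_pos rfl] at h1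
  have h2 : ∀ i ∈ Finset.range D.rank,
      corC D (reflWord D L (D.simple j)) i * corC D (reflWord D L (D.simple i)) j = 0 := by
    intro i hi
    have hi' := Finset.mem_range.mp hi
    by_cases hiJ : i ∈ J
    · obtain ⟨i2, hi2, hi2J, he⟩ := hS.perm i hi' hiJ
      rw [he, corC_simple D hD i2 hi2 j hj]
      have : j ≠ i2 := fun h => hjJ (h ▸ hi2J)
      rw [if_neg this, mul_zero]
    · rw [h0 i hi' hiJ, zero_mul]
  rw [Finset.sum_eq_zero h2] at h1
  exact one_ne_zero h1

/-- a positive root whose image is positive lies in `Φ_J` -/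
theorem stuckP_inRootSub (r : ℕ) (hr : D.IsPosRoot r) (hfr : D.IsPosRoot (reflWord D L r)) :
    D.InRootSub J r := by
  classical
  refine ⟨hr.1, fun i0 hi0 hi0J => ?_⟩
  by_contra hne
  have hpos : 0 < corC D r i0 := lt_of_le_of_ne (getD_coroot_nonneg D r hr i0) (Ne.symm hne)
  obtain ⟨k0, hk0, hk0J, hlt⟩ := stuckP_exists_out D hD L hL hinv J hS i0 hi0 hi0J
  have h1 := corC_reflWord D hD L hL r hr.1 k0 hk0
  have hge : 0 ≤ corC D (reflWord D L r) k0 := getD_coroot_nonneg D _ hfr k0
  have hsum : ∑ j ∈ Finset.range D.rank, corC D r j * corC D (reflWord D L (D.simple j)) k0 <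
      ∑ _j ∈ Finset.range D.rank, (0 : ℤ) := by
    apply Finset.sum_lt_sum
    · intro i hi
      have hi' := Finset.mem_range.mp hi
      by_cases hiJ : i ∈ J
      · obtain ⟨i2, hi2, hi2J, he⟩ := hS.perm i hi' hiJ
        rw [he, corC_simple D hD i2 hi2 k0 hk0]
        have : k0 ≠ i2 := fun h => hk0J (h ▸ hi2J)
        rw [if_neg this, mul_zero]
      · exact mul_nonpos_of_nonneg_of_nonpos (getD_coroot_nonneg D r hr i)
          (getD_coroot_nonpos D _ (hS.neg i hi' hiJ) k0)
    · exact ⟨i0, Finset.mem_range.mpr hi0, mul_neg_of_pos_of_neg hpos hlt⟩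
  rw [Finset.sum_const_zero] at hsum
  omega

/-- the image of a positive root of `Φ_J` is a positive root of `Φ_J` -/
theorem stuckP_pos_of_inRootSub (r : ℕ) (hr : D.IsPosRoot r) (hJ : D.InRootSub J r) :
    D.IsPosRoot (reflWord D L r) ∧ D.InRootSub J (reflWord D L r) := by
  classical
  have hlt := reflWord_lt' D hD L hL r hr.1
  have hexp := fun k hk => corC_reflWord D hD L hL r hr.1 k hk
  have hterm : ∀ k < D.rank, ∀ i ∈ Finset.range D.rank,
      0 ≤ corC D r i * corC D (reflWord D L (D.simple i)) k ∧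
      (k ∉ J → corC D r i * corC D (reflWord D L (D.simple i)) k = 0) := by
    intro k hk i hi
    have hi' := Finset.mem_range.mp hi
    by_cases hiJ : i ∈ J
    · obtain ⟨i2, hi2, hi2J, he⟩ := hS.perm i hi' hiJ
      rw [he, corC_simple D hD i2 hi2 k hk]
      constructor
      · split_ifs
        · rw [mul_one]; exact getD_coroot_nonneg D r hr i
        · rw [mul_zero]
      · intro hkJ
        have : k ≠ i2 := fun h => hkJ (h ▸ hi2J)
        rw [if_neg this, mul_zero]
    · have : corC D r i = 0 := hJ.2 i hi' hiJ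
      rw [this, zero_mul]
      exact ⟨le_rfl, fun _ => rfl⟩
  have hnn : ∀ k < D.rank, 0 ≤ corC D (reflWord D L r) k := by
    intro k hk
    rw [hexp k hk]
    exact Finset.sum_nonneg (fun i hi => (hterm k hk i hi).1)
  have hout : ∀ k < D.rank, k ∉ J → corC D (reflWord D L r) k = 0 := by
    intro k hk hkJ
    rw [hexp k hk]
    exact Finset.sum_eq_zero (fun i hi => (hterm k hk i hi).2 hkJ)
  constructor
  · rcases posOrNeg_of_mem D hD _ hlt with hp | hn
    · exact hp
    · exfalso
      have h0 : ∀ k < D.rank, corC D (reflWord D L r) k = 0 := fun k hk =>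
        le_antisymm (getD_coroot_nonpos D _ hn k) (hnn k hk)
      have hR := rootFacts_of_mem D hD _ hlt
      have h2 := hR.Ar
      unfold carR at h2
      have : ((List.range D.rank).map fun k => (D.coroot.getD (reflWord D L r) #[]).getD k 0 *
          D.cartan k (reflWord D L r)).sum = 0 := by
        apply List.sum_eq_zero
        intro x hx
        rw [List.mem_map] at hx
        obtain ⟨k, hk, rfl⟩ := hx
        have := h0 k (List.mem_range.mp hk)
        unfold corC at this
        rw [this, zero_mul]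
      omega
  · exact ⟨hlt, fun k hk hkJ => hout k hk hkJ⟩

/-- the images of the positive roots outside `Φ_J` are negative -/
theorem stuckP_neg_of_not_inRootSub (r : ℕ) (hr : D.IsPosRoot r) (hJ : ¬ D.InRootSub J r) :
    D.IsNegRoot (reflWord D L r) := by
  rcases posOrNeg_of_mem D hD _ (reflWord_lt' D hD L hL r hr.1) with hp | hn
  · exact absurd (stuckP_inRootSub D hD L hL hinv J hS r hr hp) hJ
  · exact hn

end stuck

end

section
variable (D : ChevalleyDatum) (hD : D ∈ [chevG2, chevB2, chevD4, chevF4, chevE6, chevE7, chevE8])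
variable (F : Type*) [Field F]
include hD

/-- if a stuck involution of `N` conjugates `v ∈ U` into `U` then `v ∈ Z_J` -/
theorem mem_zJ_of_stuckP (L : List ℕ) (hL : ∀ i ∈ L, i < D.rank)
    (hinv : ∀ r < D.nroots, reflWord D L (reflWord D L r) = r)
    (J : Set ℕ) (hS : StuckP D (reflWord D L) J)
    (n : GL D.Idx F) (hact : ActsAs D hD F n (reflWord D L))
    (v : GL D.Idx F) (hv : v ∈ D.posUnipotent F) (hconj : n * v * n⁻¹ ∈ D.posUnipotent F) :
    v ∈ zJ D F J := by
  have hneg : ∀ y ∈ D.unipotentRadical F J, n * y * n⁻¹ ∈ D.negUnipotent F := by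
    intro y hy
    unfold ChevalleyDatum.unipotentRadical at hy
    induction hy using Subgroup.closure_induction with
    | mem x hx =>
      obtain ⟨r, t, hr, hnJ, hxm⟩ := hx
      have hx' : x = xGL D hD F r t := Units.ext (by rw [hxm, coe_xGL])
      obtain ⟨-, c, -, hc⟩ := hact r hr.1
      rw [hx', hc]
      exact xGL_neg_mem D hD F _ (stuckP_neg_of_not_inRootSub D hD L hL hinv J hS r hr hnJ) _
    | one => simpa using Subgroup.one_mem _
    | mul a b _ _ iha ihb =>
      have : n * (a * b) * n⁻¹ = (n * a * n⁻¹) * (n * b * n⁻¹) := by group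
      rw [this]
      exact Subgroup.mul_mem _ iha ihb
    | inv a _ iha =>
      have : n * a⁻¹ * n⁻¹ = (n * a * n⁻¹)⁻¹ := by group
      rw [this]
      exact Subgroup.inv_mem _ iha
  obtain ⟨z, hz, y, hy, rfl⟩ := exists_zJ_mul_uJ D hD F J v hv
  have h1 : n * z * n⁻¹ ∈ D.posUnipotent F := by
    have := conj_closure_gensL D hD F n _ hact (lJ D J)
      (fun r hr => ((mem_lJ D J r).mp hr).1.1) z hz
    refine Subgroup.closure_mono ?_ this
    rintro g ⟨r, hr, t, hg⟩
    rw [List.mem_map] at hr
    obtain ⟨r0, hr0, rfl⟩ := hr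
    obtain ⟨hp, hJ⟩ := (mem_lJ D J r0).mp hr0
    exact ⟨_, t, (stuckP_pos_of_inRootSub D hD L hL hinv J hS r0 hp hJ).1, hg⟩
  have h2 := hneg y hy
  have h3 : n * y * n⁻¹ ∈ D.posUnipotent F ⊓ D.negUnipotent F := by
    rw [Subgroup.mem_inf]
    refine ⟨?_, h2⟩
    have e : n * y * n⁻¹ = (n * z * n⁻¹)⁻¹ * (n * (z * y) * n⁻¹) := by group
    rw [e]
    exact Subgroup.mul_mem _ (Subgroup.inv_mem _ h1) hconj
  rw [posUnipotent_inf_negUnipotent D hD F, Subgroup.mem_bot] at h3
  have hy1 : y = 1 := by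
    have e : y = n⁻¹ * (n * y * n⁻¹) * n := by group
    rw [e, h3]; group
  rw [hy1, mul_one]
  exact hz

/-- the image under a stuck involution of `Z_J` is `Z_J` -/
theorem conj_mem_zJ_of_stuckP (L : List ℕ) (hL : ∀ i ∈ L, i < D.rank)
    (hinv : ∀ r < D.nroots, reflWord D L (reflWord D L r) = r)
    (J : Set ℕ) (hS : StuckP D (reflWord D L) J)
    (n : GL D.Idx F) (hact : ActsAs D hD F n (reflWord D L))
    (z : GL D.Idx F) (hz : z ∈ zJ D F J) : n * z * n⁻¹ ∈ zJ D F J := by
  have := conj_closure_gensL D hD F n _ hact (lJ D J)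
    (fun r hr => ((mem_lJ D J r).mp hr).1.1) z hz
  refine Subgroup.closure_mono ?_ this
  rintro g ⟨r, hr, t, hg⟩
  rw [List.mem_map] at hr
  obtain ⟨r0, hr0, rfl⟩ := hr
  obtain ⟨hp, hJ⟩ := (mem_lJ D J r0).mp hr0
  have h := stuckP_pos_of_inRootSub D hD L hL hinv J hS r0 hp hJ
  exact ⟨_, (mem_lJ D J _).mpr h, t, hg⟩

end

end Cfsg.Agent.Lib.Helper7.TwInv
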