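import Cfsg.Agent.Lib.Helper7.TwInvB
import Cfsg.Agent.Lib.Helper7.ChevTwistBN2
import Cfsg.Agent.Lib.Helper25.TwFix3
import Cfsg.Agent.Lib.Helper25.ChInvE

/-! Involutions of twisted groups in characteristic two: `σ`-fixed decompositions and the two
lengthening steps inside the twisted group (helper7). -/

set_option autoImplicit false

namespace Cfsg.Agent.Lib.Helper7.TwInv

open Cfsg Cfsg.Lie Matrix
open Cfsg.Agent.Lib.Helper7 Cfsg.Agent.Lib.Helper25.ChInv

/-- the shape of an orbit of fundamental roots: one root, or two orthogonal roots -/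
def OrbShape (D : ChevalleyDatum) (Jidx : List ℕ) : Prop :=
  (∃ i, Jidx = [i]) ∨
  (∃ i j, Jidx = [i, j] ∧ i ≠ j ∧ D.reflectRoot j (D.simple i) = D.simple i ∧
    D.reflectRoot i (D.simple j) = D.simple j)

section
variable (D : ChevalleyDatum) (hD : D ∈ [chevG2, chevB2, chevD4, chevF4, chevE6, chevE7, chevE8])
variable (pv pv' ρ ρ' : ℕ → ℕ) (ε : ℕ → ℤ) (hG : GraphFacts D pv pv' ρ ρ' ε)
variable (K : Type*) [Field K] (φ : K ≃+* K)
variable (A : ℕ → ℤ) (hA : ChainAdd D A) (hO : PosFacts D A) (cls : List (List ℕ))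
variable (hT : TwistFacts D ρ ρ' A cls)
variable (G1 : Subgroup (GL D.Idx K)) (simpIdx simpCls : List (List ℕ))
variable (hF : TwistGroupFacts D hD pv pv' ρ ρ' ε hG K φ cls G1 simpIdx simpCls)
variable (m : ℕ) (hsh : ∀ S ∈ cls, ClassShape ρ' ε m S)
variable (Jidx : List ℕ) (hC : SimpClassFacts D Jidx) (hJ : Jidx ∈ simpIdx)
  (hJS : Jidx.map D.simple ∈ simpCls)
include hD hA hO hT hF hC hJ hJS

omit hJ in
/-- the `σ`-fixed decomposition `U¹ = U_J¹ X_J¹` along a simple class -/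
theorem fixed_decomp_class (v : GL D.Idx K)
    (hv : v ∈ D.posUnipotent K ⊓ fixSigma D pv pv' ρ ρ' ε hG K φ) :
    ∃ c ∈ Subgroup.closure (gensL D K (restL D (Jidx.map D.simple))) ⊓ fixSigma D pv pv' ρ ρ' ε hG K φ,
      ∃ x ∈ Subgroup.closure (gensL D K (Jidx.map D.simple)) ⊓ fixSigma D pv pv' ρ ρ' ε hG K φ,
        v = c * x := by
  rw [Subgroup.mem_inf] at hv
  obtain ⟨hvU, hvF⟩ := hv
  obtain ⟨c, hc, x, hx, rfl⟩ := posUnipotent_decomp D hD K A hA hO Jidx hC v hvU
  have hScls := hF.simple_cls _ hJS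
  have hρpos := rho_pos_of_twistFacts D ρ ρ' A cls hT
  have hSlt := simple_class_lt D hD Jidx hC
  obtain ⟨nJ, hnJ⟩ : ∃ n, n = nWordGL D hD K Jidx := ⟨_, rfl⟩
  rw [mem_fixSigma, map_mul] at hvF
  have hSstab : ∀ r ∈ Jidx.map D.simple, ρ r ∈ Jidx.map D.simple :=
    fun r hr => (hT.perm _ hScls).subset (List.mem_map_of_mem hr)
  have hσx := sigma_closure_gensL D hD pv pv' ρ ρ' ε hG K φ _ hSlt hSstab x hx
  have hRstab : ∀ r ∈ restL D (Jidx.map D.simple), ρ r ∈ restL D (Jidx.map D.simple) := by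
    intro r hr
    have hr' := (mem_restL D _ r).mp hr
    rw [mem_restL]
    refine ⟨hρpos r hr'.1, fun hmem => hr'.2 ?_⟩
    have := rhoInv_mem_of_perm D pv pv' ρ ρ' ε hG _ hSlt (hT.perm _ hScls) _ hmem
    rwa [hG.ρinv r hr'.1.1] at this
  have hσc := sigma_closure_gensL D hD pv pv' ρ ρ' ε hG K φ _
    (fun r hr => ((mem_restL D _ r).mp hr).1.1) hRstab c hc
  obtain ⟨σc, hσcd⟩ : ∃ y, y = sigmaGL D pv pv' ρ ρ' ε hG K φ c := ⟨_, rfl⟩
  obtain ⟨σx, hσxd⟩ : ∃ y, y = sigmaGL D pv pv' ρ ρ' ε hG K φ x := ⟨_, rfl⟩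
  rw [← hσcd] at hσc hvF
  rw [← hσxd] at hσx hvF
  have e : x * σx⁻¹ = c⁻¹ * σc := by
    have : σc = c * x * σx⁻¹ := by rw [← hvF]; group
    rw [this]; group
  have h1 : nJ * (x * σx⁻¹) * nJ⁻¹ ∈ D.negUnipotent K := by
    rw [hnJ]
    exact conj_simple_class_mem_neg D hD K Jidx hC _ (Subgroup.mul_mem _ hx (Subgroup.inv_mem _ hσx))
  have h2 : nJ * (c⁻¹ * σc) * nJ⁻¹ ∈ D.posUnipotent K := by
    rw [hnJ]
    exact conj_restL_mem_pos D hD K Jidx hC _ (Subgroup.mul_mem _ (Subgroup.inv_mem _ hc) hσc)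
  have h3 : nJ * (x * σx⁻¹) * nJ⁻¹ = 1 := by
    have : nJ * (x * σx⁻¹) * nJ⁻¹ ∈ D.posUnipotent K ⊓ D.negUnipotent K :=
      Subgroup.mem_inf.mpr ⟨by rw [e]; exact h2, h1⟩
    rwa [posUnipotent_inf_negUnipotent D hD K, Subgroup.mem_bot] at this
  have hxfix : σx = x := by
    have : x * σx⁻¹ = 1 := by
      have e3 : x * σx⁻¹ = nJ⁻¹ * (nJ * (x * σx⁻¹) * nJ⁻¹) * nJ := by group
      rw [e3, h3]; group
    exact (mul_inv_eq_one.mp this).symm
  have hcfix : σc = c := by
    rw [hxfix] at hvF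
    exact mul_right_cancel hvF
  refine ⟨c, Subgroup.mem_inf.mpr ⟨hc, ?_⟩, x, Subgroup.mem_inf.mpr ⟨hx, ?_⟩, rfl⟩
  · rw [mem_fixSigma, ← hσcd]; exact hcfix
  · rw [mem_fixSigma, ← hσxd]; exact hxfix

omit hA hO hT in
/-- the twisted negative root elements of a simple class lie in `G¹` -/
theorem neg_class_mem [CharP K 2] (t' : ℕ → K)
    (ht' : ∀ r ∈ Jidx.map D.simple, t' r = twistFn ρ' ε K φ t' r) :
    ((Jidx.map D.simple).map fun r => xGL D hD K (D.neg r) (t' r)).prod ∈ G1 := by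
  have hSlt := simple_class_lt D hD Jidx hC
  have hs : nWordGL D hD K Jidx ∈ G1 := hF.n_mem _ hJ
  have hx' := hF.simple_mem _ hJS t' ht'
  have e : nWordGL D hD K Jidx * ordProd D hD K (Jidx.map D.simple) t' * (nWordGL D hD K Jidx)⁻¹ =
      ((Jidx.map D.simple).map fun r => xGL D hD K (D.neg r) (t' r)).prod := by
    rw [ordProd_eq_prod, conj_list_prod, List.map_map]
    congr 1
    apply List.map_congr_left
    intro r hr
    obtain ⟨c, hc, hct⟩ := nWordGL_conj_xGL_sign D hD K Jidx hC.lt r (hSlt r hr)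
    rw [List.mem_map] at hr
    obtain ⟨i, hi, rfl⟩ := hr
    rw [Function.comp_apply, hct, hC.neg i hi, pm_cast K c hc, one_mul]
  rw [← e]
  exact Subgroup.mul_mem _ (Subgroup.mul_mem _ hs hx') (Subgroup.inv_mem _ hs)

end

theorem grp_aux4 {G : Type*} [Group G] (n c x xm m' y : G) (hmm : xm * xm = 1) (hm2 : m' * m' = 1)
    (hm : xm * x * xm = m') (hy : y = n⁻¹ * xm * n) :
    xm * (n * (c * x)) * xm⁻¹ = (n * m') * (m' * ((y * c * y⁻¹) * (y * xm)) * m'⁻¹) := by
  have xminv : xm⁻¹ = xm := inv_eq_of_mul_eq_one_right hmm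
  have minv : m'⁻¹ = m' := inv_eq_of_mul_eq_one_right hm2
  have e1 : n * y = xm * n := by rw [hy]; group
  calc xm * (n * (c * x)) * xm⁻¹ = (xm * n) * c * x * xm := by rw [xminv]; group
    _ = (n * y) * c * x * xm := by rw [e1]
    _ = n * y * c * (xm * xm) * x * xm := by rw [hmm]; group
    _ = n * y * c * xm * (xm * x * xm) := by group
    _ = n * y * c * xm * m' := by rw [hm]
    _ = n * (m' * m') * y * c * xm * m' := by rw [hm2]; group
    _ = (n * m') * (m' * ((y * c * y⁻¹) * (y * xm)) * m') := by group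
    _ = _ := by rw [minv]

section
variable (D : ChevalleyDatum) (hD : D ∈ [chevG2, chevB2, chevD4, chevF4, chevE6, chevE7, chevE8])
variable (pv pv' ρ ρ' : ℕ → ℕ) (ε : ℕ → ℤ) (hG : GraphFacts D pv pv' ρ ρ' ε)
variable (K : Type*) [Field K] (φ : K ≃+* K)
variable (A : ℕ → ℤ) (hA : ChainAdd D A) (hO : PosFacts D A) (cls : List (List ℕ))
variable (hT : TwistFacts D ρ ρ' A cls)
variable (G1 : Subgroup (GL D.Idx K)) (simpIdx simpCls : List (List ℕ))
variable (hF : TwistGroupFacts D hD pv pv' ρ ρ' ε hG K φ cls G1 simpIdx simpCls)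
variable (m : ℕ) (hsh : ∀ S ∈ cls, ClassShape ρ' ε m S)
variable (Jidx : List ℕ) (hC : SimpClassFacts D Jidx) (hJ : Jidx ∈ simpIdx)
  (hJS : Jidx.map D.simple ∈ simpCls)
include hD hA hO hT hF hC hJ hJS


/-- Case (1) for a twisted group: an orbit of fundamental roots mapped to positive roots outside the orbit -/
theorem tw_case1 (hOS : OrbShape D Jidx) (n : GL D.Idx K)
    (hn : n ∈ D.monomialSubgroup K ⊓ fixSigma D pv pv' ρ ρ' ε hG K φ) (hnn : n * n = 1)
    (f : ℕ → ℕ) (hact : ActsAs D hD K n f)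
    (hpos : ∀ i ∈ Jidx, D.IsPosRoot (f (D.simple i)) ∧ f (D.simple i) ∉ Jidx.map D.simple)
    (v : GL D.Idx K) (hv : v ∈ D.posUnipotent K ⊓ fixSigma D pv pv' ρ ρ' ε hG K φ) :
    ∃ g ∈ G1, ∃ n' ∈ D.monomialSubgroup K ⊓ fixSigma D pv pv' ρ ρ' ε hG K φ,
      ∃ v' ∈ D.posUnipotent K ⊓ fixSigma D pv pv' ρ ρ' ε hG K φ,
        g * (n * v) * g⁻¹ = n' * v' ∧ wl D hD K n < wl D hD K n' := by
  obtain ⟨c, hc, x, hx, rfl⟩ := fixed_decomp_class D hD pv pv' ρ ρ' ε hG K φ A hA hO cls hT G1 simpIdx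
    simpCls hF Jidx hC hJS v hv
  have hxG : x ∈ G1 :=
    class_fixed_le D hD pv pv' ρ ρ' ε hG K φ A hA hO cls hT G1 simpIdx simpCls hF _ hJS x hx
  have hSlt := simple_class_lt D hD Jidx hC
  rw [Subgroup.mem_inf] at hn hc hx
  obtain ⟨s, hs⟩ : ∃ s, s = nWordGL D hD K Jidx := ⟨_, rfl⟩
  have hsG : s ∈ G1 := by rw [hs]; exact hF.n_mem _ hJ
  have hsN : s ∈ D.monomialSubgroup K := by
    rw [hs]; exact Cfsg.Agent.Lib.Helper7.nWordGL_mem_monomial D hD K _ hC.lt
  have hsF := hF.le_fix hsG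
  have hnx : n * x * n⁻¹ ∈ Subgroup.closure (gensL D K (restL D (Jidx.map D.simple))) := by
    have := conj_closure_gensL D hD K n f hact _ hSlt x hx.1
    refine Subgroup.closure_mono ?_ this
    rintro g ⟨r, hr, a, hg⟩
    rw [List.mem_map] at hr
    obtain ⟨r0, hr0, rfl⟩ := hr
    rw [List.mem_map] at hr0
    obtain ⟨i, hi, rfl⟩ := hr0
    exact ⟨_, (mem_restL D _ _).mpr (hpos i hi), a, hg⟩
  refine ⟨s * x, Subgroup.mul_mem _ hsG hxG, s * n * s⁻¹, Subgroup.mem_inf.mpr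
    ⟨Subgroup.mul_mem _ (Subgroup.mul_mem _ hsN hn.1) (Subgroup.inv_mem _ hsN),
      Subgroup.mul_mem _ (Subgroup.mul_mem _ hsF hn.2) (Subgroup.inv_mem _ hsF)⟩,
    s * ((n * x * n⁻¹) * c) * s⁻¹, Subgroup.mem_inf.mpr ⟨?_, ?_⟩, grp_aux1 n x c s hnn, ?_⟩
  · rw [hs]
    exact conj_restL_mem_pos D hD K Jidx hC _ (Subgroup.mul_mem _ hnx hc.1)
  · exact Subgroup.mul_mem _ (Subgroup.mul_mem _ hsF (Subgroup.mul_mem _
      (Subgroup.mul_mem _ (Subgroup.mul_mem _ hn.2 hx.2) (Subgroup.inv_mem _ hn.2)) hc.2))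
      (Subgroup.inv_mem _ hsF)
  · rcases hOS with ⟨i, rfl⟩ | ⟨i, j, rfl, hij, hji1, hji2⟩
    · have hi : i < D.rank := hC.lt i (by simp)
      have e : s = nFund D hD K i := by rw [hs]; unfold nWordGL; simp
      rw [e]
      have hp := hpos i (by simp)
      exact wl_conj_single D hD K n hn.1 hnn f hact i hi hp.1 (fun h => hp.2 (by rw [h]; simp))
    · have hi : i < D.rank := hC.lt i (by simp)
      have hj : j < D.rank := hC.lt j (by simp)
      have e : s = nFund D hD K i * nFund D hD K j := by rw [hs]; unfold nWordGL; simp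
      have hpi := hpos i (by simp)
      have hpj := hpos j (by simp)
      obtain ⟨n₁, hn₁⟩ : ∃ n₁, n₁ = nFund D hD K j * n * (nFund D hD K j)⁻¹ := ⟨_, rfl⟩
      have hjN := nFund_mem_monomial D hD K j hj
      have hn₁N : n₁ ∈ D.monomialSubgroup K := by
        rw [hn₁]; exact Subgroup.mul_mem _ (Subgroup.mul_mem _ hjN hn.1) (Subgroup.inv_mem _ hjN)
      have hnn₁ : n₁ * n₁ = 1 := by
        rw [hn₁]
        have : nFund D hD K j * n * (nFund D hD K j)⁻¹ * (nFund D hD K j * n * (nFund D hD K j)⁻¹) =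
            nFund D hD K j * (n * n) * (nFund D hD K j)⁻¹ := by group
        rw [this, hnn]; group
      have hact₁ : ActsAs D hD K n₁ ((D.reflectRoot j ∘ f) ∘ D.reflectRoot j) := by
        rw [hn₁]
        exact ActsAs.mul D K (ActsAs.mul D K (actsAs_nFund D hD K j hj) hact) (actsAs_nFund_inv D hD K j hj)
      have step1 := wl_conj_single D hD K n hn.1 hnn f hact j hj hpj.1
        (fun h => hpj.2 (by rw [h]; simp))
      rw [← hn₁] at step1
      have hCj := conjFacts_of_mem D hD j hj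
      have hflt : f (D.simple i) < D.nroots := hpi.1.1
      have hval : ((D.reflectRoot j ∘ f) ∘ D.reflectRoot j) (D.simple i) = D.reflectRoot j (f (D.simple i)) := by
        show D.reflectRoot j (f (D.reflectRoot j (D.simple i))) = _
        rw [hji1]
      have step2 := wl_conj_single D hD K n₁ hn₁N hnn₁ _ hact₁ i hi
        (by rw [hval]; exact reflect_pos_of_pos D hD j hj _ hpi.1 (fun h => hpi.2 (by rw [h]; simp)))
        (by
          rw [hval]
          intro h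
          apply hpi.2
          have h2 := hCj.winv _ hflt
          rw [h, hji1] at h2
          rw [← h2]; simp)
      have e2 : s * n * s⁻¹ = nFund D hD K i * n₁ * (nFund D hD K i)⁻¹ := by
        rw [e, hn₁]; group
      rw [e2]
      omega

end

section
variable (D : ChevalleyDatum) (hD : D ∈ [chevG2, chevB2, chevD4, chevF4, chevE6, chevE7, chevE8])
variable (pv pv' ρ ρ' : ℕ → ℕ) (ε : ℕ → ℤ) (hG : GraphFacts D pv pv' ρ ρ' ε)
variable (K : Type*) [Field K] (φ : K ≃+* K)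
variable (A : ℕ → ℤ) (hA : ChainAdd D A) (hO : PosFacts D A) (cls : List (List ℕ))
variable (hT : TwistFacts D ρ ρ' A cls)
variable (G1 : Subgroup (GL D.Idx K)) (simpIdx simpCls : List (List ℕ))
variable (hF : TwistGroupFacts D hD pv pv' ρ ρ' ε hG K φ cls G1 simpIdx simpCls)
variable (m : ℕ) (hsh : ∀ S ∈ cls, ClassShape ρ' ε m S)
variable (Jidx : List ℕ) (hC : SimpClassFacts D Jidx) (hJ : Jidx ∈ simpIdx)
  (hJS : Jidx.map D.simple ∈ simpCls)
include hD hA hO hT hF hsh hC hJ hJS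

/-- Case (2a) for a twisted group: a nontrivial component of `v` on an orbit of fundamental roots which is
permuted by `n` -/
theorem tw_step2a [CharP K 2] (hOS : OrbShape D Jidx) (n : GL D.Idx K)
    (hn : n ∈ D.monomialSubgroup K ⊓ fixSigma D pv pv' ρ ρ' ε hG K φ) (hnn : n * n = 1)
    (f : ℕ → ℕ) (hact : ActsAs D hD K n f)
    (hfneg : ∀ r < D.nroots, f (D.neg r) = D.neg (f r))
    (hperm : ∀ i ∈ Jidx, f (D.simple i) ∈ Jidx.map D.simple)
    (c : GL D.Idx K) (hc : c ∈ Subgroup.closure (gensL D K (restL D (Jidx.map D.simple))) ⊓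
      fixSigma D pv pv' ρ ρ' ε hG K φ)
    (x : GL D.Idx K) (hx : x ∈ Subgroup.closure (gensL D K (Jidx.map D.simple)) ⊓
      fixSigma D pv pv' ρ ρ' ε hG K φ) (hx1 : x ≠ 1) :
    ∃ g ∈ G1, ∃ n' ∈ D.monomialSubgroup K ⊓ fixSigma D pv pv' ρ ρ' ε hG K φ,
      ∃ v' ∈ D.posUnipotent K ⊓ fixSigma D pv pv' ρ ρ' ε hG K φ,
        g * (n * (c * x)) * g⁻¹ = n' * v' ∧ wl D hD K n < wl D hD K n' := by
  have hScls := hF.simple_cls _ hJS
  have hSlt := simple_class_lt D hD Jidx hC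
  have hSpos := simple_class_pos D hD Jidx hC
  have hxG : x ∈ G1 :=
    class_fixed_le D hD pv pv' ρ ρ' ε hG K φ A hA hO cls hT G1 simpIdx simpCls hF _ hJS x hx
  obtain ⟨t, hxt, ht⟩ := class_fixed_param D hD pv pv' ρ ρ' ε hG K φ A hA hO cls hT _ hScls x hx
  have ht0 := class_param_ne_zero D hD pv pv' ρ ρ' ε hG K φ A hA hO cls hT m _ hScls (hsh _ hScls) t ht
    (by rw [← hxt]; exact hx1)
  -- the twisted negative root element with inverse parameters
  have hstab := (hsh _ hScls).stable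
  have ht' : ∀ r ∈ Jidx.map D.simple, (fun r => (t r)⁻¹) r = twistFn ρ' ε K φ (fun r => (t r)⁻¹) r := by
    intro r hr
    have h1 := ht r hr
    unfold twistFn at h1 ⊢
    have hε : ((ε (ρ' r) : ℤ) : K) = 1 := pm_cast K _ (hG.εpm _ (hSlt _ (hstab r hr)))
    rw [hε, one_mul] at h1 ⊢
    show (t r)⁻¹ = φ ((t (ρ' r))⁻¹)
    rw [map_inv₀, ← h1]
  obtain ⟨xm, hxm⟩ : ∃ xm, xm = ((Jidx.map D.simple).map fun r => xGL D hD K (D.neg r) (t r)⁻¹).prod :=
    ⟨_, rfl⟩
  have hxmG : xm ∈ G1 := by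
    rw [hxm]
    exact neg_class_mem D hD pv pv' ρ ρ' ε hG K φ cls G1 simpIdx simpCls hF Jidx hC hJ hJS _ ht'
  have hxmneg : xm ∈ Subgroup.closure (gensL D K ((Jidx.map D.simple).map D.neg)) := by
    rw [hxm]
    apply Subgroup.list_prod_mem
    intro g hg
    rw [List.mem_map] at hg
    obtain ⟨r, hr, rfl⟩ := hg
    apply Subgroup.subset_closure
    exact ⟨D.neg r, List.mem_map_of_mem hr, _, coe_xGL D hD K _ _⟩
  rw [Subgroup.mem_inf] at hn hc hx
  obtain ⟨s, hs⟩ : ∃ s, s = nWordGL D hD K Jidx := ⟨_, rfl⟩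
  have hsN : s ∈ D.monomialSubgroup K := by
    rw [hs]; exact Cfsg.Agent.Lib.Helper7.nWordGL_mem_monomial D hD K _ hC.lt
  -- the rank one package
  have hpkg : x * x = 1 ∧ xm * xm = 1 ∧ ∃ h ∈ D.diagonalSubgroup K, xm * x * xm = h * s := by
    rcases hOS with ⟨i, rfl⟩ | ⟨i, j, rfl, hij, hji1, hji2⟩
    · have hi : i < D.rank := hC.lt i (by simp)
      have e : s = nFund D hD K i := by rw [hs]; unfold nWordGL; simp
      have ex : x = xGL D hD K (D.simple i) (t (D.simple i)) := by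
        rw [hxt]; simp [ordProd_cons, ordProd_nil]
      have em : xm = xGL D hD K (D.neg (D.simple i)) (t (D.simple i))⁻¹ := by
        rw [hxm]; simp
      rw [e, ex, em]
      exact rk1_pkg_single D hD K i hi _ (ht0 _ (by simp))
    · have hi : i < D.rank := hC.lt i (by simp)
      have hj : j < D.rank := hC.lt j (by simp)
      have e : s = nFund D hD K i * nFund D hD K j := by rw [hs]; unfold nWordGL; simp
      have ex : x = xGL D hD K (D.simple i) (t (D.simple i)) * xGL D hD K (D.simple j) (t (D.simple j)) := by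
        rw [hxt]; simp [ordProd_cons, ordProd_nil]
      have em : xm = xGL D hD K (D.neg (D.simple i)) (t (D.simple i))⁻¹ *
          xGL D hD K (D.neg (D.simple j)) (t (D.simple j))⁻¹ := by
        rw [hxm]; simp
      rw [e, ex, em]
      have n1 := hC.nc i (by simp) j (by simp) hij
      have n2 := hC.nc j (by simp) i (by simp) (Ne.symm hij)
      exact rk1_pkg_pair D hD K i j hi hj n1.1 n1.2.1 n2.2.1 n1.2.2 _ _ (ht0 _ (by simp)) (ht0 _ (by simp))
  obtain ⟨hxx, hmm, h, hh, hm⟩ := hpkg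
  obtain ⟨m', hm'⟩ : ∃ m', m' = h * s := ⟨_, rfl⟩
  rw [← hm'] at hm
  have hm2 : m' * m' = 1 := by
    rw [← hm]
    calc xm * x * xm * (xm * x * xm) = xm * x * (xm * xm) * x * xm := by group
      _ = xm * (x * x) * xm := by rw [hmm]; group
      _ = 1 := by rw [hxx, mul_one, hmm]
  have hm'N : m' ∈ D.monomialSubgroup K := by
    rw [hm']; exact Subgroup.mul_mem _ (diagonal_le_monomial D hD K hh) hsN
  have hm'G : m' ∈ G1 := by
    rw [← hm]; exact Subgroup.mul_mem _ (Subgroup.mul_mem _ hxmG hxG) hxmG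
  have hm'F := hF.le_fix hm'G
  have hxmF := hF.le_fix hxmG
  have hactm : ActsAs D hD K m' (reflWord D Jidx) := by
    have := ActsAs.mul D K (actsAs_diag D hD K h hh) (actsAs_nWordGL D hD K Jidx hC.lt)
    rw [Function.id_comp, ← hs, ← hm'] at this
    exact this
  have ninv : n⁻¹ = n := inv_eq_of_mul_eq_one_right hnn
  obtain ⟨y, hy⟩ : ∃ y, y = n⁻¹ * xm * n := ⟨_, rfl⟩
  have hyF : y ∈ fixSigma D pv pv' ρ ρ' ε hG K φ := by
    rw [hy]; exact Subgroup.mul_mem _ (Subgroup.mul_mem _ (Subgroup.inv_mem _ hn.2) hxmF) hn.2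
  have hneglt : ∀ r ∈ (Jidx.map D.simple).map D.neg, r < D.nroots := by
    intro r hr
    rw [List.mem_map] at hr
    obtain ⟨r0, hr0, rfl⟩ := hr
    exact (negOK_of_mem D hD r0 (hSlt r0 hr0)).1
  have hyneg : y ∈ Subgroup.closure (gensL D K ((Jidx.map D.simple).map D.neg)) := by
    have e : y = n * xm * n⁻¹ := by rw [hy, ninv]
    rw [e]
    have := conj_closure_gensL D hD K n f hact _ hneglt xm hxmneg
    refine Subgroup.closure_mono ?_ this
    rintro g ⟨r, hr, a, hg⟩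
    rw [List.mem_map] at hr
    obtain ⟨r0, hr0, rfl⟩ := hr
    rw [List.mem_map] at hr0
    obtain ⟨r1, hr1, rfl⟩ := hr0
    refine ⟨_, ?_, a, hg⟩
    rw [hfneg r1 (hSlt r1 hr1)]
    apply List.mem_map_of_mem
    rw [List.mem_map] at hr1
    obtain ⟨i, hi, rfl⟩ := hr1
    exact hperm i hi
  -- `m'` maps the negative root subgroups of the class and `U_J` into `U`
  have hconjneg : ∀ k ∈ Subgroup.closure (gensL D K ((Jidx.map D.simple).map D.neg)),
      m' * k * m'⁻¹ ∈ D.posUnipotent K := by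
    intro k hk
    have := conj_closure_gensL D hD K m' _ hactm _ hneglt k hk
    refine (Subgroup.closure_le _).mpr ?_ this
    rintro g ⟨r, hr, a, hg⟩
    have hg' : g = xGL D hD K r a := Units.ext (by rw [hg, coe_xGL])
    rw [List.mem_map] at hr
    obtain ⟨r0, hr0, rfl⟩ := hr
    rw [List.mem_map] at hr0
    obtain ⟨r1, hr1, rfl⟩ := hr0
    rw [hg']
    have hr1' := hr1
    rw [List.mem_map] at hr1
    obtain ⟨i, hi, rfl⟩ := hr1
    have e : reflWord D Jidx (D.neg (D.simple i)) = D.simple i := by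
      rw [reflWord_neg D hD Jidx hC.lt _ (hSlt _ hr1'), hC.neg i hi, neg_neg_root D hD _ (hSlt _ hr1')]
    rw [e]
    exact xGL_pos_mem D hD K _ (hSpos _ hr1') _
  have hconjrest : ∀ k ∈ Subgroup.closure (gensL D K (restL D (Jidx.map D.simple))),
      m' * k * m'⁻¹ ∈ D.posUnipotent K := by
    intro k hk
    have hlt : ∀ r ∈ restL D (Jidx.map D.simple), r < D.nroots :=
      fun r hr => ((mem_restL D _ r).mp hr).1.1
    have := conj_closure_gensL D hD K m' _ hactm _ hlt k hk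
    refine (Subgroup.closure_le _).mpr ?_ this
    rintro g ⟨r, hr, a, hg⟩
    have hg' : g = xGL D hD K r a := Units.ext (by rw [hg, coe_xGL])
    rw [List.mem_map] at hr
    obtain ⟨r0, hr0, rfl⟩ := hr
    rw [hg']
    have hr0' := (mem_restL D _ r0).mp hr0
    exact xGL_pos_mem D hD K _ (hC.pos r0 hr0'.1.1 hr0'.1 hr0'.2) _
  refine ⟨xm, hxmG, n * m', Subgroup.mem_inf.mpr ⟨Subgroup.mul_mem _ hn.1 hm'N,
      Subgroup.mul_mem _ hn.2 hm'F⟩, m' * ((y * c * y⁻¹) * (y * xm)) * m'⁻¹,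
    Subgroup.mem_inf.mpr ⟨?_, ?_⟩, grp_aux4 n c x xm m' y hmm hm2 hm hy, ?_⟩
  · have e : m' * ((y * c * y⁻¹) * (y * xm)) * m'⁻¹ =
        (m' * y * m'⁻¹) * (m' * c * m'⁻¹) * (m' * y * m'⁻¹)⁻¹ * (m' * (y * xm) * m'⁻¹) := by group
    rw [e]
    exact Subgroup.mul_mem _ (Subgroup.mul_mem _ (Subgroup.mul_mem _ (hconjneg y hyneg)
      (hconjrest c hc.1)) (Subgroup.inv_mem _ (hconjneg y hyneg)))
      (hconjneg _ (Subgroup.mul_mem _ hyneg hxmneg))
  · exact Subgroup.mul_mem _ (Subgroup.mul_mem _ hm'F (Subgroup.mul_mem _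
      (Subgroup.mul_mem _ (Subgroup.mul_mem _ hyF hc.2) (Subgroup.inv_mem _ hyF))
      (Subgroup.mul_mem _ hyF hxmF))) (Subgroup.inv_mem _ hm'F)
  · -- the length
    have hfpos : ∀ i ∈ Jidx, D.IsPosRoot (f (D.simple i)) := fun i hi => hSpos _ (hperm i hi)
    rcases hOS with ⟨i, rfl⟩ | ⟨i, j, rfl, hij, hji1, hji2⟩
    · have hi : i < D.rank := hC.lt i (by simp)
      have hact1 : ActsAs D hD K m' (D.reflectRoot i) := hactm
      exact wl_lt_right D hD K n hn.1 f hact i hi (hfpos i (by simp)) m' hm'N hact1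
    · have hi : i < D.rank := hC.lt i (by simp)
      have hj : j < D.rank := hC.lt j (by simp)
      have e : s = nFund D hD K i * nFund D hD K j := by rw [hs]; unfold nWordGL; simp
      have hiN := nFund_mem_monomial D hD K i hi
      have hjN := nFund_mem_monomial D hD K j hj
      have hk1N : h * nFund D hD K i ∈ D.monomialSubgroup K :=
        Subgroup.mul_mem _ (diagonal_le_monomial D hD K hh) hiN
      have hk1act : ActsAs D hD K (h * nFund D hD K i) (D.reflectRoot i) := by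
        have := ActsAs.mul D K (actsAs_diag D hD K h hh) (actsAs_nFund D hD K i hi)
        rwa [Function.id_comp] at this
      have step1 := wl_lt_right D hD K n hn.1 f hact i hi (hfpos i (by simp)) _ hk1N hk1act
      have hact2 := ActsAs.mul D K hact hk1act
      have step2 := wl_lt_right D hD K (n * (h * nFund D hD K i)) (Subgroup.mul_mem _ hn.1 hk1N) _ hact2 j hj
        (by
          show D.IsPosRoot (f (D.reflectRoot i (D.simple j)))
          rw [hji2]; exact hfpos j (by simp))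
        (nFund D hD K j) hjN (actsAs_nFund D hD K j hj)
      have e2 : n * m' = n * (h * nFund D hD K i) * nFund D hD K j := by rw [hm', e]; group
      rw [e2]
      omega

end

end Cfsg.Agent.Lib.Helper7.TwInv
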