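import Cfsg.Agent.Lib.Helper7.TwInvC
import Cfsg.Agent.Lib.Helper25.ChInvF

/-! Involutions of twisted groups in characteristic two: the descent inside the stable part and the
reduction to the stuck involutions of `N` (helper7). -/

set_option autoImplicit false

namespace Cfsg.Agent.Lib.Helper7.TwInv

open Cfsg Cfsg.Lie Matrix
open Cfsg.Agent.Lib.Helper7 Cfsg.Agent.Lib.Helper25.ChInv

/-- table facts on the orbits of the fundamental roots -/
structure OrbFacts (D : ChevalleyDatum) (simpIdx : List (List ℕ)) : Prop where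
  shape : ∀ O ∈ simpIdx, OrbShape D O
  cov : ∀ i < D.rank, ∃ O ∈ simpIdx, i ∈ O
  disj : ∀ O ∈ simpIdx, ∀ O' ∈ simpIdx, ∀ j, j ∈ O → j ∈ O' → O = O'
  desc : ∀ q < D.nroots, D.IsPosRoot q → (∀ i < D.rank, q ≠ D.simple i) →
    ∃ O ∈ simpIdx, htN D (reflWord D O q) < htN D q ∧ ∃ j ∈ O, corC D q j ≠ 0

section
variable (D : ChevalleyDatum) (hD : D ∈ [chevG2, chevB2, chevD4, chevF4, chevE6, chevE7, chevE8])
variable (pv pv' ρ ρ' : ℕ → ℕ) (ε : ℕ → ℤ) (hG : GraphFacts D pv pv' ρ ρ' ε)
variable (K : Type*) [Field K] (φ : K ≃+* K)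
variable (A : ℕ → ℤ) (cls : List (List ℕ))
variable (hT : TwistFacts D ρ ρ' A cls)
variable (m : ℕ) (hsh : ∀ S ∈ cls, ClassShape ρ' ε m S)
include hD hT hsh

/-- a `σ`-fixed element of `N` maps an orbit of fundamental roots into itself as soon as it does so for
one of its roots -/
theorem stable_dichotomy (Jidx : List ℕ) (hOS : OrbShape D Jidx) (hScls : Jidx.map D.simple ∈ cls)
    (hlt : ∀ i ∈ Jidx, i < D.rank)
    (n : GL D.Idx K) (hn : n ∈ fixSigma D pv pv' ρ ρ' ε hG K φ) (f : ℕ → ℕ) (hact : ActsAs D hD K n f)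
    (i0 : ℕ) (hi0 : i0 ∈ Jidx) (h0 : f (D.simple i0) ∈ Jidx.map D.simple) :
    ∀ i ∈ Jidx, f (D.simple i) ∈ Jidx.map D.simple := by
  have hperm : ∀ x ∈ Jidx.map D.simple, ρ x ∈ Jidx.map D.simple :=
    fun x hx => (hT.perm _ hScls).subset (List.mem_map_of_mem hx)
  rcases hOS with ⟨i, rfl⟩ | ⟨i, j, rfl, hij, -, -⟩
  · intro i' hi'
    rw [List.mem_singleton] at hi' hi0
    rw [hi']; rw [hi0] at h0; exact h0
  · have hi : i < D.rank := hlt i (by simp)
    have hj : j < D.rank := hlt j (by simp)
    have hpi := (fundFacts_of_mem D hD i hi).hp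
    have hpj := (fundFacts_of_mem D hD j hj).hp
    have hS := hsh _ hScls
    have hrel : ρ (D.simple j) = D.simple i ∧ ρ (D.simple i) = D.simple j := by
      rcases hS with ⟨r, hr, -, -⟩ | ⟨-, r, s, hrs, -, h1, h2, -⟩ | ⟨-, r, s, v, hrs, -⟩
      · simp at hr
      · simp only [List.map_cons, List.map_nil, List.cons.injEq, and_true] at hrs
        obtain ⟨rfl, rfl⟩ := hrs
        constructor
        · rw [← h1]; exact hG.ρinv' _ hpi
        · rw [← h2]; exact hG.ρinv' _ hpj
      · simp at hrs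
    have e1 : f (D.simple i) = ρ (f (D.simple j)) := by
      have := actsAs_comm_rho D hD pv pv' ρ ρ' ε hG K φ n hn f hact _ hpj
      rwa [hrel.1] at this
    have e2 : f (D.simple j) = ρ (f (D.simple i)) := by
      have := actsAs_comm_rho D hD pv pv' ρ ρ' ε hG K φ n hn f hact _ hpi
      rwa [hrel.2] at this
    have both : f (D.simple i) ∈ [i, j].map D.simple ∧ f (D.simple j) ∈ [i, j].map D.simple := by
      simp only [List.mem_cons, List.not_mem_nil, or_false] at hi0
      rcases hi0 with rfl | rfl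
      · exact ⟨h0, by rw [e2]; exact hperm _ h0⟩
      · exact ⟨by rw [e1]; exact hperm _ h0, h0⟩
    intro i' hi'
    simp only [List.mem_cons, List.not_mem_nil, or_false] at hi'
    rcases hi' with rfl | rfl
    · exact both.1
    · exact both.2

end

section
variable (D : ChevalleyDatum) (hD : D ∈ [chevG2, chevB2, chevD4, chevF4, chevE6, chevE7, chevE8])
variable (K : Type*) [Field K]
include hD

/-- the lifts of two orthogonal fundamental reflections of an orbit commute -/
theorem nFund_comm (Jidx : List ℕ) (hC : SimpClassFacts D Jidx) (i j : ℕ) (hi : i ∈ Jidx) (hj : j ∈ Jidx)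
    (hij : i ≠ j) : Commute (nFund D hD K i) (nFund D hD K j) := by
  have n1 := hC.nc i hi j hj hij
  have n2 := hC.nc j hj i hi (Ne.symm hij)
  unfold nFund
  rw [nGL_eq, nGL_eq]
  have cAB := fun a b : K => n1.1.commute D hD K a b
  have cAB' := fun a b : K => n1.2.1.commute D hD K a b
  have cBA' := fun a b : K => n2.2.1.commute D hD K a b
  have cA'B' := fun a b : K => n1.2.2.commute D hD K a b
  have cA : ∀ a : K, Commute (xGL D hD K (D.simple i) a)
      (xGL D hD K (D.simple j) 1 * xGL D hD K (D.neg (D.simple j)) (-(1 : K)⁻¹) * xGL D hD K (D.simple j) 1) :=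
    fun a => ((cAB a _).mul_right (cAB' a _)).mul_right (cAB a _)
  have cA' : ∀ a : K, Commute (xGL D hD K (D.neg (D.simple i)) a)
      (xGL D hD K (D.simple j) 1 * xGL D hD K (D.neg (D.simple j)) (-(1 : K)⁻¹) * xGL D hD K (D.simple j) 1) :=
    fun a => (((cBA' _ a).symm).mul_right (cA'B' a _)).mul_right ((cBA' _ a).symm)
  exact ((cA _).mul_left (cA' _)).mul_left (cA _)

/-- an element of `N` permuting the roots of an orbit normalises the coset of the orbit reflection -/
theorem conj_orbit [CharP K 2] (Jidx : List ℕ) (hOS : OrbShape D Jidx) (hC : SimpClassFacts D Jidx)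
    (n : GL D.Idx K) (hn : n ∈ D.monomialSubgroup K) (L : List ℕ) (hL : ∀ i ∈ L, i < D.rank)
    (hact : ActsAs D hD K n (reflWord D L))
    (hperm : ∀ i ∈ Jidx, reflWord D L (D.simple i) ∈ Jidx.map D.simple) :
    ∃ h ∈ D.diagonalSubgroup K, nWordGL D hD K Jidx * n * (nWordGL D hD K Jidx)⁻¹ = h * n := by
  obtain ⟨s, hs⟩ : ∃ s, s = nWordGL D hD K Jidx := ⟨_, rfl⟩
  rw [← hs]
  have key : ∃ h ∈ D.diagonalSubgroup K, n * s * n⁻¹ = h * s := by
    rcases hOS with ⟨i, rfl⟩ | ⟨i, j, rfl, hij, -, -⟩
    · have hi : i < D.rank := hC.lt i (by simp)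
      have e : s = nFund D hD K i := by rw [hs]; unfold nWordGL; simp
      have hf : reflWord D L (D.simple i) = D.simple i := by
        have := hperm i (by simp)
        simpa using this
      rw [e]
      exact conj_nFund D hD K n hn L hL hact i i hi hi hf
    · have hi : i < D.rank := hC.lt i (by simp)
      have hj : j < D.rank := hC.lt j (by simp)
      have hpi := (fundFacts_of_mem D hD i hi).hp
      have hpj := (fundFacts_of_mem D hD j hj).hp
      have e : s = nFund D hD K i * nFund D hD K j := by rw [hs]; unfold nWordGL; simp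
      have hne : D.simple i ≠ D.simple j := by
        have := hC.nodup
        simp only [List.map_cons, List.map_nil, List.nodup_cons, List.mem_cons, List.not_mem_nil,
          or_false, not_false_eq_true, List.nodup_nil, and_true] at this
        exact this
      have hinj : reflWord D L (D.simple i) ≠ reflWord D L (D.simple j) := by
        intro h
        apply hne
        have hLr : ∀ k ∈ L.reverse, k < D.rank := fun k hk => hL k (List.mem_reverse.mp hk)
        have h1 := reflWord_reverse_cancel D hD L.reverse hLr _ hpi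
        have h2 := reflWord_reverse_cancel D hD L.reverse hLr _ hpj
        rw [List.reverse_reverse] at h1 h2
        rw [← h1, ← h2, h]
      have hfi := hperm i (by simp)
      have hfj := hperm j (by simp)
      simp only [List.map_cons, List.map_nil, List.mem_cons, List.not_mem_nil, or_false] at hfi hfj
      have hcomm := nFund_comm D hD K [i, j] hC i j (by simp) (by simp) hij
      have hiN := nFund_mem_monomial D hD K i hi
      have hjN := nFund_mem_monomial D hD K j hj
      rw [e]
      have split : n * (nFund D hD K i * nFund D hD K j) * n⁻¹ =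
          (n * nFund D hD K i * n⁻¹) * (n * nFund D hD K j * n⁻¹) := by group
      rw [split]
      rcases hfi with hfi | hfi
      · rcases hfj with hfj | hfj
        · exact absurd (hfi.trans hfj.symm) hinj
        · obtain ⟨h1, hh1, e1⟩ := conj_nFund D hD K n hn L hL hact i i hi hi hfi
          obtain ⟨h2, hh2, e2⟩ := conj_nFund D hD K n hn L hL hact j j hj hj hfj
          have hc : nFund D hD K i * h2 * (nFund D hD K i)⁻¹ ∈ D.diagonalSubgroup K :=
            nGL_conj_mem D hD K (D.simple i) hpi h2 hh2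
          refine ⟨h1 * (nFund D hD K i * h2 * (nFund D hD K i)⁻¹), Subgroup.mul_mem _ hh1 hc, ?_⟩
          rw [e1, e2]; group
      · rcases hfj with hfj | hfj
        · obtain ⟨h1, hh1, e1⟩ := conj_nFund D hD K n hn L hL hact i j hi hj hfi
          obtain ⟨h2, hh2, e2⟩ := conj_nFund D hD K n hn L hL hact j i hj hi hfj
          have hc : nFund D hD K j * h2 * (nFund D hD K j)⁻¹ ∈ D.diagonalSubgroup K :=
            nGL_conj_mem D hD K (D.simple j) hpj h2 hh2
          refine ⟨h1 * (nFund D hD K j * h2 * (nFund D hD K j)⁻¹), Subgroup.mul_mem _ hh1 hc, ?_⟩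
          rw [e1, e2, hcomm.eq]; group
        · exact absurd (hfi.trans hfj.symm) hinj
  obtain ⟨h, hh, he⟩ := key
  refine ⟨h⁻¹, Subgroup.inv_mem _ hh, ?_⟩
  have e1 : n * s = h * s * n := by
    have : n * s = (n * s * n⁻¹) * n := by group
    rw [this, he]
  calc s * n * s⁻¹ = h⁻¹ * (h * s * n) * s⁻¹ := by group
    _ = h⁻¹ * (n * s) * s⁻¹ := by rw [e1]
    _ = h⁻¹ * n := by group

end

section
variable (D : ChevalleyDatum) (hD : D ∈ [chevG2, chevB2, chevD4, chevF4, chevE6, chevE7, chevE8])
variable (K : Type*) [Field K]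
include hD

theorem wordGL_mem_posU (w : List (ℕ × K)) (hw : ∀ e ∈ w, D.IsPosRoot e.1) :
    wordGL D hD K w ∈ D.posUnipotent K := by
  unfold wordGL
  apply Subgroup.list_prod_mem
  intro g hg
  rw [List.mem_map] at hg
  obtain ⟨e, he, rfl⟩ := hg
  exact xGL_pos_mem D hD K _ (hw e he) _

theorem inRootSub_reflWord (J : Set ℕ) : ∀ (L : List ℕ), (∀ j ∈ L, j < D.rank ∧ j ∈ J) → ∀ r,
    D.InRootSub J r → D.InRootSub J (reflWord D L r)
  | [], _, r, hr => hr
  | j :: L, hL, r, hr => by
    show D.InRootSub J (D.reflectRoot j (reflWord D L r))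
    exact inRootSub_reflect D hD J j (hL j List.mem_cons_self).1 (hL j List.mem_cons_self).2 _
      (inRootSub_reflWord J L (fun k hk => hL k (List.mem_cons_of_mem _ hk)) r hr)

theorem reflWord_inj (L : List ℕ) (hL : ∀ i ∈ L, i < D.rank) (a b : ℕ) (ha : a < D.nroots)
    (hb : b < D.nroots) (h : reflWord D L a = reflWord D L b) : a = b := by
  have hLr : ∀ k ∈ L.reverse, k < D.rank := fun k hk => hL k (List.mem_reverse.mp hk)
  have h1 := reflWord_reverse_cancel D hD L.reverse hLr _ ha
  have h2 := reflWord_reverse_cancel D hD L.reverse hLr _ hb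
  rw [List.reverse_reverse] at h1 h2
  rw [← h1, ← h2, h]

/-- the restricted product of a class lies in the subgroup `U_{p_i}` for the roots `p_i` of the class -/
theorem restL_le_up (S : List ℕ) (i : ℕ) (hi : D.simple i ∈ S) :
    Subgroup.closure (gensL D K (restL D S)) ≤ upSubgroup D K i := by
  apply Subgroup.closure_mono
  rintro g ⟨r, hr, a, hg⟩
  have hr' := (mem_restL D S r).mp hr
  exact ⟨r, a, hr'.1, fun h => hr'.2 (h ▸ hi), hg⟩

end

section
variable (D : ChevalleyDatum) (hD : D ∈ [chevG2, chevB2, chevD4, chevF4, chevE6, chevE7, chevE8])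
variable (pv pv' ρ ρ' : ℕ → ℕ) (ε : ℕ → ℤ) (hG : GraphFacts D pv pv' ρ ρ' ε)
variable (K : Type*) [Field K] (φ : K ≃+* K)
variable (A : ℕ → ℤ) (hA : ChainAdd D A) (hO : PosFacts D A) (cls : List (List ℕ))
variable (hT : TwistFacts D ρ ρ' A cls)
variable (G1 : Subgroup (GL D.Idx K)) (simpIdx simpCls : List (List ℕ))
variable (hF : TwistGroupFacts D hD pv pv' ρ ρ' ε hG K φ cls G1 simpIdx simpCls)
variable (hB : TwistBNFacts D simpIdx simpCls) (hOF : OrbFacts D simpIdx)
include hD hA hO hT hF hB hOF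

/-- descent of a `σ`-fixed word in the root elements of the stable part to a product with a nontrivial
component on an orbit of fundamental roots -/
theorem tw_descent [CharP K 2] (L : List ℕ) (hL : ∀ i ∈ L, i < D.rank) (J : Set ℕ)
    (hJ : ∀ i, i ∈ J ↔ ∃ O ∈ simpIdx, i ∈ O ∧
      ∀ i' ∈ O, reflWord D L (D.simple i') ∈ O.map D.simple) :
    ∀ m0 : ℕ, ∀ n ∈ D.monomialSubgroup K ⊓ fixSigma D pv pv' ρ ρ' ε hG K φ,
      ActsAs D hD K n (reflWord D L) →
    ∀ w : List (ℕ × K), (∀ e ∈ w, D.IsPosRoot e.1 ∧ D.InRootSub J e.1 ∧ e.2 ≠ 0) →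
      (w.map Prod.fst).Nodup → wordGL D hD K w ∈ fixSigma D pv pv' ρ ρ' ε hG K φ →
      (∃ e ∈ w, htN D e.1 ≤ m0) →
      ∃ g ∈ G1, ∃ n' ∈ D.monomialSubgroup K ⊓ fixSigma D pv pv' ρ ρ' ε hG K φ,
        ActsAs D hD K n' (reflWord D L) ∧ wl D hD K n' = wl D hD K n ∧
        ∃ O ∈ simpIdx, (∀ i ∈ O, reflWord D L (D.simple i) ∈ O.map D.simple) ∧
        ∃ c ∈ Subgroup.closure (gensL D K (restL D (O.map D.simple))) ⊓ fixSigma D pv pv' ρ ρ' ε hG K φ,
        ∃ x ∈ Subgroup.closure (gensL D K (O.map D.simple)) ⊓ fixSigma D pv pv' ρ ρ' ε hG K φ, x ≠ 1 ∧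
          g * (n * wordGL D hD K w) * g⁻¹ = n' * (c * x) := by
  intro m0
  induction m0 using Nat.strong_induction_on with
  | _ m0 ih =>
    intro n hn hact w hw hnd hwF hex
    have hwU : wordGL D hD K w ∈ D.posUnipotent K := wordGL_mem_posU D hD K w (fun e he => (hw e he).1)
    by_cases hS : ∃ e ∈ w, ∃ i < D.rank, e.1 = D.simple i
    · -- a fundamental letter
      obtain ⟨e, he, i, hi, hei⟩ := hS
      have hiJ : i ∈ J := simple_inj_mem D hD i hi J (hei ▸ (hw e he).2.1)
      obtain ⟨O, hOm, hiO, hstab⟩ := (hJ i).mp hiJ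
      have hC := hB.facts O hOm
      have hJS : O.map D.simple ∈ simpCls := by
        rw [hB.cls_eq]; exact List.mem_map_of_mem hOm
      obtain ⟨c, hc, x, hx, hvx⟩ := fixed_decomp_class D hD pv pv' ρ ρ' ε hG K φ A hA hO cls hT G1 simpIdx
        simpCls hF O hC hJS _ (Subgroup.mem_inf.mpr ⟨hwU, hwF⟩)
      refine ⟨1, Subgroup.one_mem _, n, hn, hact, rfl, O, hOm, hstab, c, hc, x, hx, ?_, ?_⟩
      · intro hx1
        rw [hx1, mul_one] at hvx
        have hcup : wordGL D hD K w ∈ upSubgroup D K i := by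
          rw [hvx]
          exact restL_le_up D hD K _ i (List.mem_map_of_mem hiO) (Subgroup.mem_inf.mp hc).1
        obtain ⟨w1, w2, rfl⟩ := List.append_of_mem he
        rw [List.map_append, List.map_cons, List.nodup_append] at hnd
        obtain ⟨-, hnd2, hdisj⟩ := hnd
        rw [List.nodup_cons] at hnd2
        have h1 : ∀ e' ∈ w1, D.IsPosRoot e'.1 ∧ e'.1 ≠ D.simple i := by
          intro e' he'
          refine ⟨(hw e' (List.mem_append_left _ he')).1, ?_⟩
          intro h
          exact hdisj e'.1 (List.mem_map.mpr ⟨e', he', rfl⟩) e.1 List.mem_cons_self (h.trans hei.symm)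
        have h2 : ∀ e' ∈ w2, D.IsPosRoot e'.1 ∧ e'.1 ≠ D.simple i := by
          intro e' he'
          refine ⟨(hw e' (List.mem_append_right _ (List.mem_cons_of_mem _ he'))).1, ?_⟩
          intro h
          apply hnd2.1
          rw [hei, ← h]
          exact List.mem_map.mpr ⟨e', he', rfl⟩
        have hxN := xGL_mem_normalizer_up D hD K i hi (D.simple i) (Or.inl rfl) e.2
        have hv0 : wordGL D hD K w1 * (xGL D hD K (D.simple i) e.2 * wordGL D hD K w2 *
            (xGL D hD K (D.simple i) e.2)⁻¹) ∈ upSubgroup D K i :=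
          Subgroup.mul_mem _ (wordGL_mem_up D hD K i w1 h1)
            (conj_mem_up D hD K i _ hxN _ (wordGL_mem_up D hD K i w2 h2))
        have hX : xGL D hD K (D.simple i) e.2 ∈ upSubgroup D K i := by
          have e3 : xGL D hD K (D.simple i) e.2 = (wordGL D hD K w1 * (xGL D hD K (D.simple i) e.2 *
              wordGL D hD K w2 * (xGL D hD K (D.simple i) e.2)⁻¹))⁻¹ * wordGL D hD K (w1 ++ e :: w2) := by
            rw [wordGL_append, wordGL_cons, hei]; group
          rw [e3]
          exact Subgroup.mul_mem _ (Subgroup.inv_mem _ hv0) hcup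
        exact (hw e (by simp)).2.2 (eq_zero_of_xGL_mem_up D hD K i hi _ hX)
      · rw [hvx]; group
    · -- no fundamental letter: descend
      push Not at hS
      obtain ⟨e, he, hem⟩ := hex
      obtain ⟨hep, heJ, -⟩ := hw e he
      obtain ⟨O, hOm, hlt, j, hjO, hcj⟩ := hOF.desc e.1 hep.1 hep (fun i hi => hS e he i hi)
      have hC := hB.facts O hOm
      have hj : j < D.rank := hC.lt j hjO
      have hjJ : j ∈ J := by
        by_contra hcon
        exact hcj (heJ.2 j hj hcon)
      obtain ⟨O', hO'm, hjO', hstab'⟩ := (hJ j).mp hjJ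
      have hOO : O = O' := hOF.disj O hOm O' hO'm j hjO hjO'
      subst hOO
      have hOJ : ∀ k ∈ O, k < D.rank ∧ k ∈ J :=
        fun k hk => ⟨hC.lt k hk, (hJ k).mpr ⟨O, hOm, hk, hstab'⟩⟩
      obtain ⟨s, hs⟩ : ∃ s, s = nWordGL D hD K O := ⟨_, rfl⟩
      have hsG : s ∈ G1 := by rw [hs]; exact hF.n_mem _ hOm
      have hsN : s ∈ D.monomialSubgroup K := by
        rw [hs]; exact Cfsg.Agent.Lib.Helper7.nWordGL_mem_monomial D hD K _ hC.lt
      have hsF := hF.le_fix hsG
      rw [Subgroup.mem_inf] at hn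
      obtain ⟨h, hh, hconj⟩ := conj_orbit D hD K O (hOF.shape O hOm) hC n hn.1 L hL hact hstab'
      rw [← hs] at hconj
      have hhN := diagonal_le_monomial D hD K hh
      have hn'N : h * n ∈ D.monomialSubgroup K := Subgroup.mul_mem _ hhN hn.1
      have hn'F : h * n ∈ fixSigma D pv pv' ρ ρ' ε hG K φ := by
        rw [← hconj]
        exact Subgroup.mul_mem _ (Subgroup.mul_mem _ hsF hn.2) (Subgroup.inv_mem _ hsF)
      have hact' : ActsAs D hD K (h * n) (reflWord D L) := by
        have := ActsAs.mul D K (actsAs_diag D hD K h hh) hact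
        rwa [Function.id_comp] at this
      have hwl : wl D hD K (h * n) = wl D hD K n := by
        unfold wl; rw [wOf_diag_mul D hD K h n hh hn.1]
      obtain ⟨cc, hcc, hconjw⟩ := Cfsg.Agent.Lib.Helper25.HRow.conj_actsAs_wordGL D hD K _ _ (actsAs_nWordGL D hD K O hC.lt)
      rw [← hs] at hconjw
      have hwlt : ∀ e' ∈ w, e'.1 < D.nroots := fun e' he' => (hw e' he').1.1
      obtain ⟨g', hg', n', hn', hactn', hwl', O2, hO2, hstab2, c, hc, x, hx, hx1, heq⟩ :=
        ih (htN D (reflWord D O e.1)) (by omega) (h * n) (Subgroup.mem_inf.mpr ⟨hn'N, hn'F⟩) hact'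
        (w.map fun e' => (reflWord D O e'.1, cc e'.1 * e'.2))
        (by
          intro e'' he''
          rw [List.mem_map] at he''
          obtain ⟨e', he', rfl⟩ := he''
          obtain ⟨h1, h2, h3⟩ := hw e' he'
          refine ⟨hC.pos _ h1.1 h1 ?_, inRootSub_reflWord D hD J O hOJ _ h2, mul_ne_zero (hcc _ h1.1) h3⟩
          intro hmem
          rw [List.mem_map] at hmem
          obtain ⟨k, hk, hke⟩ := hmem
          exact hS e' he' k (hC.lt k hk) hke.symm)
        (by
          rw [List.map_map]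
          have : (Prod.fst ∘ fun e' : ℕ × K => (reflWord D O e'.1, cc e'.1 * e'.2)) =
              reflWord D O ∘ Prod.fst := by
            funext e'; rfl
          rw [this, ← List.map_map]
          apply List.Nodup.map_on _ hnd
          intro a ha b hb hab
          rw [List.mem_map] at ha hb
          obtain ⟨ea, hea, rfl⟩ := ha
          obtain ⟨eb, heb, rfl⟩ := hb
          exact reflWord_inj D hD O hC.lt _ _ (hwlt ea hea) (hwlt eb heb) hab)
        (by
          rw [← hconjw w hwlt]
          exact Subgroup.mul_mem _ (Subgroup.mul_mem _ hsF hwF) (Subgroup.inv_mem _ hsF))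
        ⟨(reflWord D O e.1, cc e.1 * e.2), List.mem_map.mpr ⟨e, he, rfl⟩, le_refl _⟩
      refine ⟨g' * s, Subgroup.mul_mem _ hg' hsG, n', hn', hactn', hwl'.trans hwl, O2, hO2, hstab2,
        c, hc, x, hx, hx1, ?_⟩
      rw [← heq, ← hconjw w hwlt, ← hconj]
      group

end

end Cfsg.Agent.Lib.Helper7.TwInv
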