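import Cfsg.Agent.Lib.Helper7.TwInvD

/-! Involutions of twisted groups in characteristic two: every involution is conjugate in the twisted group
to a stuck involution of `N` (helper7). -/

set_option autoImplicit false

namespace Cfsg.Agent.Lib.Helper7.TwInv

open Cfsg Cfsg.Lie Matrix
open Cfsg.Agent.Lib.Helper7 Cfsg.Agent.Lib.Helper25.ChInv

theorem closure_gensL_le_posU (D : ChevalleyDatum) (K : Type*) [Field K] (l : List ℕ)
    (hl : ∀ r ∈ l, D.IsPosRoot r) : Subgroup.closure (gensL D K l) ≤ D.posUnipotent K := by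
  unfold ChevalleyDatum.posUnipotent
  apply Subgroup.closure_mono
  rintro g ⟨r, hr, a, hg⟩
  exact ⟨r, a, hl r hr, hg⟩

/-- the set of the indices of the fundamental roots in the orbits which `f` maps into themselves -/
def JSt (D : ChevalleyDatum) (simpIdx : List (List ℕ)) (f : ℕ → ℕ) : Set ℕ :=
  {i | ∃ O ∈ simpIdx, i ∈ O ∧ ∀ i' ∈ O, f (D.simple i') ∈ O.map D.simple}

section
variable (D : ChevalleyDatum) (hD : D ∈ [chevG2, chevB2, chevD4, chevF4, chevE6, chevE7, chevE8])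
variable (pv pv' ρ ρ' : ℕ → ℕ) (ε : ℕ → ℤ) (hG : GraphFacts D pv pv' ρ ρ' ε)
variable (K : Type*) [Field K] (φ : K ≃+* K)
variable (A : ℕ → ℤ) (hA : ChainAdd D A) (hO : PosFacts D A) (cls : List (List ℕ))
variable (hT : TwistFacts D ρ ρ' A cls)
variable (G1 : Subgroup (GL D.Idx K)) (simpIdx simpCls : List (List ℕ))
variable (hF : TwistGroupFacts D hD pv pv' ρ ρ' ε hG K φ cls G1 simpIdx simpCls)
variable (m : ℕ) (hsh : ∀ S ∈ cls, ClassShape ρ' ε m S)
variable (hB : TwistBNFacts D simpIdx simpCls) (hOF : OrbFacts D simpIdx)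

/-- the conclusion: a `σ`-fixed involution of `N` acting on the roots by a stuck word -/
def TwStuck (n : GL D.Idx K) : Prop :=
  n ∈ D.monomialSubgroup K ⊓ fixSigma D pv pv' ρ ρ' ε hG K φ ∧ n * n = 1 ∧
    ∃ L : List ℕ, (∀ i ∈ L, i < D.rank) ∧ ActsAs D hD K n (reflWord D L) ∧
      (∀ r < D.nroots, reflWord D L (reflWord D L r) = r) ∧
      StuckP D (reflWord D L) (JSt D simpIdx (reflWord D L))

include hA hO hT hF hsh hB hOF

/-- the stuck case: `v = 1`, or the involution can be lengthened -/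
theorem tw_step_stuck [Fintype K] [CharP K 2] (n : GL D.Idx K)
    (hn : n ∈ D.monomialSubgroup K ⊓ fixSigma D pv pv' ρ ρ' ε hG K φ)
    (L : List ℕ) (hL : ∀ i ∈ L, i < D.rank) (hact : ActsAs D hD K n (reflWord D L))
    (hinv : ∀ r < D.nroots, reflWord D L (reflWord D L r) = r)
    (hS : StuckP D (reflWord D L) (JSt D simpIdx (reflWord D L)))
    (v : GL D.Idx K) (hv : v ∈ D.posUnipotent K ⊓ fixSigma D pv pv' ρ ρ' ε hG K φ)
    (hconj : n * v * n⁻¹ ∈ D.posUnipotent K) (hsq : (n * v) * (n * v) = 1) :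
    v = 1 ∨ ∃ g ∈ G1, ∃ n' ∈ D.monomialSubgroup K ⊓ fixSigma D pv pv' ρ ρ' ε hG K φ,
      ∃ v' ∈ D.posUnipotent K ⊓ fixSigma D pv pv' ρ ρ' ε hG K φ,
        g * (n * v) * g⁻¹ = n' * v' ∧ wl D hD K n < wl D hD K n' := by
  classical
  obtain ⟨J, hJdef⟩ : ∃ J, J = JSt D simpIdx (reflWord D L) := ⟨_, rfl⟩
  rw [← hJdef] at hS
  have hJ : ∀ i, i ∈ J ↔ ∃ O ∈ simpIdx, i ∈ O ∧
      ∀ i' ∈ O, reflWord D L (D.simple i') ∈ O.map D.simple := by
    intro i; rw [hJdef]; rfl
  rw [Subgroup.mem_inf] at hv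
  have hz := mem_zJ_of_stuckP D hD K L hL hinv J hS n hact v hv.1 hconj
  obtain ⟨w0, hOw⟩ := exists_ordW D hD
  have hAw := chainAdd_linF D hD w0
  obtain ⟨c, hc⟩ := exists_ordProd' D hD K _ hAw hOw (lJ D J) (closedL_lJ D hD J) v hz
  rw [← ordProd_filter D hD K] at hc
  obtain ⟨l', hl'⟩ : ∃ l', l' = (lJ D J).filter fun r => decide (c r ≠ 0) := ⟨_, rfl⟩
  rw [← hl'] at hc
  have hl'mem : ∀ r ∈ l', D.IsPosRoot r ∧ D.InRootSub J r ∧ c r ≠ 0 := by
    intro r hr
    rw [hl', List.mem_filter, mem_lJ] at hr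
    exact ⟨hr.1.1, hr.1.2, by simpa using hr.2⟩
  have hl'nd : l'.Nodup := by
    rw [hl']
    exact ((closedL_lJ D hD J).sorted.imp (fun h => Nat.ne_of_lt h)).filter _
  rcases l'.eq_nil_or_concat with hnil | ⟨l'', q, hq⟩
  · left
    rw [hc, hnil, ordProd_nil]
  · right
    have hqmem : q ∈ l' := by rw [hq]; simp
    have hveq : v = wordGL D hD K (l'.map fun r => (r, c r)) := by
      rw [hc]; unfold ordProd; rfl
    obtain ⟨g, hg, n', hn', hactn', hwl, O, hOm, hstab, cc, hcc, x, hx, hx1, heq⟩ :=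
      tw_descent D hD pv pv' ρ ρ' ε hG K φ A hA hO cls hT G1 simpIdx simpCls hF hB hOF L hL J hJ
      (htN D q) n hn hact (l'.map fun r => (r, c r))
      (by
        intro e he
        rw [List.mem_map] at he
        obtain ⟨r, hr, rfl⟩ := he
        exact hl'mem r hr)
      (by
        rw [List.map_map]
        have : (Prod.fst ∘ fun r : ℕ => (r, c r)) = id := by funext r; rfl
        rw [this, List.map_id]
        exact hl'nd)
      (by rw [← hveq]; exact hv.2)
      ⟨(q, c q), List.mem_map.mpr ⟨q, hqmem, rfl⟩, le_refl _⟩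
    rw [← hveq] at heq
    have hC := hB.facts O hOm
    have hJS : O.map D.simple ∈ simpCls := by
      rw [hB.cls_eq]; exact List.mem_map_of_mem hOm
    have hSpos := simple_class_pos D hD O hC
    have hccU : cc ∈ D.posUnipotent K :=
      closure_gensL_le_posU D K _ (fun r hr => ((mem_restL D _ r).mp hr).1) (Subgroup.mem_inf.mp hcc).1
    have hxU : x ∈ D.posUnipotent K :=
      closure_gensL_le_posU D K _ hSpos (Subgroup.mem_inf.mp hx).1
    have hsq' : (n' * (cc * x)) * (n' * (cc * x)) = 1 := by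
      rw [← heq]
      have : g * (n * v) * g⁻¹ * (g * (n * v) * g⁻¹) = g * ((n * v) * (n * v)) * g⁻¹ := by group
      rw [this, hsq]; group
    obtain ⟨hnn', -⟩ := invol_normal_form D hD K n' (cc * x) (Subgroup.mem_inf.mp hn').1
      (Subgroup.mul_mem _ hccU hxU) hsq'
    obtain ⟨g2, hg2, n'', hn'', v'', hv'', heq2, hlt⟩ := tw_step2a D hD pv pv' ρ ρ' ε hG K φ A hA hO cls hT G1
      simpIdx simpCls hF m hsh O hC hOm hJS (hOF.shape O hOm) n' hn' hnn' (reflWord D L) hactn'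
      (fun r hr => reflWord_neg D hD L hL r hr) hstab cc hcc x hx hx1
    refine ⟨g2 * g, Subgroup.mul_mem _ hg2 hg, n'', hn'', v'', hv'', ?_, by omega⟩
    rw [← heq2, ← heq]
    group

theorem tw_stuck_aux [Fintype K] [CharP K 2] (M : ℕ) (hM : ∀ n : GL D.Idx K, wl D hD K n ≤ M) :
    ∀ k : ℕ, ∀ n ∈ D.monomialSubgroup K ⊓ fixSigma D pv pv' ρ ρ' ε hG K φ,
      ∀ v ∈ D.posUnipotent K ⊓ fixSigma D pv pv' ρ ρ' ε hG K φ, (n * v) * (n * v) = 1 →
      M - wl D hD K n ≤ k →
      ∃ g ∈ G1, ∃ n' : GL D.Idx K, g * (n * v) * g⁻¹ = n' ∧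
        TwStuck D hD pv pv' ρ ρ' ε hG K φ simpIdx n' := by
  intro k
  induction k using Nat.strong_induction_on with
  | _ k ih =>
    intro n hn v hv hsq hk
    have hn' := Subgroup.mem_inf.mp hn
    have hv' := Subgroup.mem_inf.mp hv
    obtain ⟨hnn, hinvv⟩ := invol_normal_form D hD K n v hn'.1 hv'.1 hsq
    obtain ⟨L, hL, hact⟩ := exists_actsAs D hD K n hn'.1
    have hinv : ∀ r < D.nroots, reflWord D L (reflWord D L r) = r := by
      intro r hr
      have h1 := ActsAs.mul D K hact hact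
      rw [hnn] at h1
      have h2 := actsAs_diag D hD K 1 (Subgroup.one_mem _)
      exact ActsAs.unique D hD K h1 h2 r hr
    have hstep : (∃ g ∈ G1, ∃ n' ∈ D.monomialSubgroup K ⊓ fixSigma D pv pv' ρ ρ' ε hG K φ,
        ∃ v' ∈ D.posUnipotent K ⊓ fixSigma D pv pv' ρ ρ' ε hG K φ,
        g * (n * v) * g⁻¹ = n' * v' ∧ wl D hD K n < wl D hD K n') →
        ∃ g ∈ G1, ∃ n' : GL D.Idx K, g * (n * v) * g⁻¹ = n' ∧
          TwStuck D hD pv pv' ρ ρ' ε hG K φ simpIdx n' := by
      rintro ⟨g, hg, n', hn'', v', hv'', heq, hlt⟩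
      have hsq' : (n' * v') * (n' * v') = 1 := by
        rw [← heq]
        have : g * (n * v) * g⁻¹ * (g * (n * v) * g⁻¹) = g * ((n * v) * (n * v)) * g⁻¹ := by group
        rw [this, hsq]; group
      have hM' := hM n'
      obtain ⟨g2, hg2, n2, heq2, hst⟩ := ih (M - wl D hD K n') (by omega) n' hn'' v' hv'' hsq' le_rfl
      refine ⟨g2 * g, Subgroup.mul_mem _ hg2 hg, n2, ?_, hst⟩
      rw [← heq2, ← heq]; group
    have hρpos := rho_pos_of_twistFacts D ρ ρ' A cls hT
    -- facts on one orbit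
    have horb : ∀ O ∈ simpIdx, (∀ i ∈ O, D.IsPosRoot (reflWord D L (D.simple i)) ∧
          reflWord D L (D.simple i) ∉ O.map D.simple) ∨
        (∀ i ∈ O, reflWord D L (D.simple i) ∈ O.map D.simple) ∨
        (∀ i ∈ O, D.IsNegRoot (reflWord D L (D.simple i))) := by
      intro O hOm
      have hC := hB.facts O hOm
      have hJS : O.map D.simple ∈ simpCls := by
        rw [hB.cls_eq]; exact List.mem_map_of_mem hOm
      have hScls := hF.simple_cls _ hJS
      have hSlt := simple_class_lt D hD O hC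
      rcases sign_dichotomy D hD pv pv' ρ ρ' ε hG K φ hρpos n hn'.2 _ hact m _ hSlt (hsh _ hScls) with hp | hng
      · by_cases hex : ∃ i0 ∈ O, reflWord D L (D.simple i0) ∈ O.map D.simple
        · obtain ⟨i0, hi0, h0⟩ := hex
          right; left
          exact stable_dichotomy D hD pv pv' ρ ρ' ε hG K φ A cls hT m hsh O (hOF.shape O hOm) hScls hC.lt n
            hn'.2 _ hact i0 hi0 h0
        · push Not at hex
          left
          exact fun i hi => ⟨hp _ (List.mem_map_of_mem hi), hex i hi⟩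
      · right; right
        exact fun i hi => hng _ (List.mem_map_of_mem hi)
    by_cases h1 : ∃ O ∈ simpIdx, ∀ i ∈ O, D.IsPosRoot (reflWord D L (D.simple i)) ∧
        reflWord D L (D.simple i) ∉ O.map D.simple
    · obtain ⟨O, hOm, hpos⟩ := h1
      have hC := hB.facts O hOm
      have hJS : O.map D.simple ∈ simpCls := by
        rw [hB.cls_eq]; exact List.mem_map_of_mem hOm
      exact hstep (tw_case1 D hD pv pv' ρ ρ' ε hG K φ A hA hO cls hT G1 simpIdx simpCls hF O hC hOm hJS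
        (hOF.shape O hOm) n hn hnn _ hact hpos v hv)
    · push Not at h1
      have hS : StuckP D (reflWord D L) (JSt D simpIdx (reflWord D L)) := by
        constructor
        · intro i hi hiJ
          obtain ⟨O, hOm, hiO, hstab⟩ := hiJ
          have hC := hB.facts O hOm
          have := hstab i hiO
          rw [List.mem_map] at this
          obtain ⟨j, hjO, hje⟩ := this
          exact ⟨j, hC.lt j hjO, ⟨O, hOm, hjO, hstab⟩, hje.symm⟩
        · intro i hi hiJ
          obtain ⟨O, hOm, hiO⟩ := hOF.cov i hi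
          have hC := hB.facts O hOm
          rcases horb O hOm with h | h | h
          · obtain ⟨i1, hi1, hcon⟩ := h1 O hOm
            exact absurd (h i1 hi1).2 (by
              intro hnot
              exact hnot (hcon (h i1 hi1).1))
          · exact absurd ⟨O, hOm, hiO, h⟩ hiJ
          · exact h i hiO
      have hconj : n * v * n⁻¹ ∈ D.posUnipotent K := by
        rw [hinvv]; exact Subgroup.inv_mem _ hv'.1
      rcases tw_step_stuck D hD pv pv' ρ ρ' ε hG K φ A hA hO cls hT G1 simpIdx simpCls hF m hsh hB hOF n hn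
        L hL hact hinv hS v hv hconj hsq with hv1 | hlen
      · exact ⟨1, Subgroup.one_mem _, n, by rw [hv1]; group, hn, hnn, L, hL, hact, hinv, hS⟩
      · exact hstep hlen

/-- every involution of the twisted group is conjugate in it to a stuck involution of `N` -/
theorem tw_exists_conj_stuck [Fintype K] [CharP K 2] (hGle : G1 ≤ D.group K)
    (hUle : D.posUnipotent K ⊓ fixSigma D pv pv' ρ ρ' ε hG K φ ≤ G1)
    (t : GL D.Idx K) (ht : t ∈ G1) (hsq : t * t = 1) :
    ∃ g ∈ G1, ∃ n : GL D.Idx K, g * t * g⁻¹ = n ∧ TwStuck D hD pv pv' ρ ρ' ε hG K φ simpIdx n := by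
  obtain ⟨M, hM⟩ := exists_wl_bound D hD K
  have hρpos := rho_pos_of_twistFacts D ρ ρ' A cls hT
  obtain ⟨u₁, hu₁, n₁, hn₁, u, hu, heq⟩ := Cfsg.Agent.Lib.Helper25.TwFix.fixed_decomp D hD pv pv' ρ ρ' ε hG K φ
    hρpos t (hGle ht) (hF.le_fix ht)
  have hu₁G := hUle hu₁
  have hv : u * u₁ ∈ D.posUnipotent K ⊓ fixSigma D pv pv' ρ ρ' ε hG K φ := Subgroup.mul_mem _ hu hu₁
  have e1 : u₁⁻¹ * t * u₁⁻¹⁻¹ = n₁ * (u * u₁) := by rw [heq]; group
  have hsq' : (n₁ * (u * u₁)) * (n₁ * (u * u₁)) = 1 := by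
    rw [← e1]
    have : u₁⁻¹ * t * u₁⁻¹⁻¹ * (u₁⁻¹ * t * u₁⁻¹⁻¹) = u₁⁻¹ * (t * t) * u₁⁻¹⁻¹ := by group
    rw [this, hsq]; group
  obtain ⟨g2, hg2, n2, heq2, hst⟩ := tw_stuck_aux D hD pv pv' ρ ρ' ε hG K φ A hA hO cls hT G1 simpIdx simpCls
    hF m hsh hB hOF M hM (M - wl D hD K n₁) n₁ hn₁ (u * u₁) hv hsq' le_rfl
  refine ⟨g2 * u₁⁻¹, Subgroup.mul_mem _ hg2 (Subgroup.inv_mem _ hu₁G), n2, ?_, hst⟩
  rw [← heq2, ← e1]; group

end

end Cfsg.Agent.Lib.Helper7.TwInv
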