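import Cfsg.Agent.Lib.Helper7.TwInvE
import Cfsg.Agent.Lib.Helper25.ChInvL

/-! Involutions of twisted groups in characteristic two: identification of the stuck involutions with the
lifts of `w₀ w_J`, words of twisted root elements, and the reduction of "every involution is conjugate to a
representative" to table checks and word checks (helper7). -/

set_option autoImplicit false

namespace Cfsg.Agent.Lib.Helper7.TwInv

open Cfsg Cfsg.Lie Matrix
open Cfsg.Agent.Lib.Helper7 Cfsg.Agent.Lib.Helper25 Cfsg.Agent.Lib.Helper25.ChInv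

section
variable (D : ChevalleyDatum) (hD : D ∈ [chevG2, chevB2, chevD4, chevF4, chevE6, chevE7, chevE8])
variable (F : Type*) [Field F]
include hD

/-- a stuck involution of `N` lies in the coset `H n_J` of the lift of `w₀ w_J` -/
theorem stuckP_mem_coset (n : GL D.Idx F) (hn : n ∈ D.monomialSubgroup F)
    (L : List ℕ) (hL : ∀ i ∈ L, i < D.rank) (hact : ActsAs D hD F n (reflWord D L))
    (hinv : ∀ r < D.nroots, reflWord D L (reflWord D L r) = r)
    (Jl : List ℕ) (hS : StuckP D (reflWord D L) {i | i ∈ Jl})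
    (LJ : List ℕ) (hP : p1B D Jl LJ = true) :
    n * (nWordGL D hD F LJ)⁻¹ ∈ D.diagonalSubgroup F := by
  obtain ⟨hLJ, hP1⟩ := p1B_spec D Jl LJ hP
  have hLJr : ∀ i ∈ LJ.reverse, i < D.rank := fun i hi => hLJ i (List.mem_reverse.mp hi)
  have hmN : n * (nWordGL D hD F LJ)⁻¹ ∈ D.monomialSubgroup F :=
    Subgroup.mul_mem _ hn (Subgroup.inv_mem _ (Cfsg.Agent.Lib.Helper7.nWordGL_mem_monomial D hD F LJ hLJ))
  have hmact := ActsAs.mul D F hact (actsAs_nWordGL_inv D hD F LJ hLJ)
  apply mem_diagonal_of_simple_pos D hD F _ hmN _ hmact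
  intro i hi
  have hFf := fundFacts_of_mem D hD i hi
  show D.IsPosRoot (reflWord D L (reflWord D LJ.reverse (D.simple i)))
  obtain ⟨r, hrdef⟩ : ∃ r, r = reflWord D LJ.reverse (D.simple i) := ⟨_, rfl⟩
  rw [← hrdef]
  have hr : r < D.nroots := by rw [hrdef]; exact reflWord_lt' D hD _ hLJr _ hFf.hp
  have hgr : reflWord D LJ r = D.simple i := by
    rw [hrdef]; exact reflWord_reverse_cancel D hD LJ hLJ _ hFf.hp
  have hpi := (parFacts_of_mem D hD).simplePos i hi
  rcases posOrNeg_of_mem D hD r hr with hp | hneg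
  · have h1 : D.InRootSub {i | i ∈ Jl} r := (hP1 r hp).mp (by rw [hgr]; exact hpi)
    exact (stuckP_pos_of_inRootSub D hD L hL hinv _ hS r hp h1).1
  · have hp' := isPosRoot_neg D hD r hneg
    have h1 : ¬ D.InRootSub {i | i ∈ Jl} (D.neg r) := by
      intro hcon
      have h2 := (hP1 _ hp').mpr hcon
      rw [reflWord_neg D hD LJ hLJ r hr, hgr] at h2
      exact Cfsg.Agent.Lib.Helper25.TwFix.not_pos_and_neg D hD _ h2 (isNegRoot_neg D hD _ hpi)
    have h3 := stuckP_neg_of_not_inRootSub D hD L hL hinv _ hS _ hp' h1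
    rw [reflWord_neg D hD L hL r hr] at h3
    have h4 := isPosRoot_neg D hD _ h3
    rwa [neg_neg_root D hD _ (reflWord_lt' D hD L hL r hr)] at h4

/-- two involutions of `N` in the same `H`-coset are conjugate under a power of their quotient -/
theorem exists_diag_conj_pow [Fintype F] [CharP F 2] (h m : GL D.Idx F) (hh : h ∈ D.diagonalSubgroup F)
    (hmm : m * m = 1) (hsq : (h * m) * (h * m) = 1) :
    ∃ e : ℕ, h * m = h ^ e * m * (h ^ e)⁻¹ := by
  have minv : m⁻¹ = m := inv_eq_of_mul_eq_one_right hmm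
  obtain ⟨e, -, hq⟩ := FiniteField.card F 2
  obtain ⟨q2, hq2⟩ : ∃ q2, Fintype.card F = 2 * q2 := by
    refine ⟨2 ^ ((e : ℕ) - 1), ?_⟩
    rw [hq, ← pow_succ']
    congr 1
    have := e.pos
    omega
  have hq1 := diagonal_pow_card_sub_one D hD F h hh
  have hpos : 1 ≤ Fintype.card F := Fintype.card_pos
  have hkk : h ^ q2 * h ^ q2 = h := by
    rw [← pow_add, ← two_mul, ← hq2]
    have : Fintype.card F = (Fintype.card F - 1) + 1 := by omega
    rw [this, pow_succ, hq1, one_mul]
  have hconj : m * h * m⁻¹ = h⁻¹ := by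
    have e1 : m * h * m = h⁻¹ * ((h * m) * (h * m)) := by group
    rw [minv, e1, hsq, mul_one]
  have hconjk : m * h ^ q2 * m⁻¹ = (h ^ q2)⁻¹ := by
    rw [← conj_pow, hconj, inv_pow]
  refine ⟨q2, ?_⟩
  rw [grp_aux3 (h ^ q2) m hmm hconjk, hkk]

theorem nWordGL_flatten_mem (G1 : Subgroup (GL D.Idx F)) : ∀ (Ls : List (List ℕ)),
    (∀ O ∈ Ls, nWordGL D hD F O ∈ G1) → nWordGL D hD F Ls.flatten ∈ G1
  | [], _ => by
    show nWordGL D hD F [] ∈ G1
    unfold nWordGL; simp
  | O :: Ls, h => by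
    rw [List.flatten_cons, nWordGL_append]
    exact Subgroup.mul_mem _ (h O List.mem_cons_self)
      (nWordGL_flatten_mem G1 Ls (fun O' hO' => h O' (List.mem_cons_of_mem _ hO')))

theorem ones_append (a b : List ℕ) : ones F (a ++ b) = ones F a ++ ones F b := by
  unfold ones; rw [List.map_append]

end

/-- the word of a twisted root element with parameter one: `x_r(1)` or `x_r(1) x_{ρ r}(1)` -/
def blk (ρ : ℕ → ℕ) (r : ℕ) : List ℕ := if ρ r = r then [r] else [r, ρ r]

/-- the word of a product of twisted root elements -/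
def blkW (ρ : ℕ → ℕ) (bl : List ℕ) : List ℕ := bl.flatMap (blk ρ)

/-- table facts for the words of twisted root elements -/
structure BlkFacts (D : ChevalleyDatum) (ρ : ℕ → ℕ) (simpIdx : List (List ℕ)) (W0 : List (List ℕ)) : Prop where
  nc : ∀ r < D.nroots, ρ r ≠ r → NC D r (ρ r) ∧ ρ (ρ r) = r
  w0mem : ∀ O ∈ W0, O ∈ simpIdx
  w0pos : ∀ r < D.nroots, D.IsNegRoot r → D.IsPosRoot (reflWord D W0.flatten r)

section
variable (D : ChevalleyDatum) (hD : D ∈ [chevG2, chevB2, chevD4, chevF4, chevE6, chevE7, chevE8])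
variable (pv pv' ρ ρ' : ℕ → ℕ) (ε : ℕ → ℤ) (hG : GraphFacts D pv pv' ρ ρ' ε)
variable (K : Type*) [Field K] (φ : K ≃+* K)
variable (A : ℕ → ℤ) (cls : List (List ℕ))
variable (hT : TwistFacts D ρ ρ' A cls)
variable (G1 : Subgroup (GL D.Idx K)) (simpIdx simpCls : List (List ℕ))
variable (hF : TwistGroupFacts D hD pv pv' ρ ρ' ε hG K φ cls G1 simpIdx simpCls)
variable (W0 : List (List ℕ)) (hBl : BlkFacts D ρ simpIdx W0)
include hD hBl

omit hD in
theorem blk_lt (r : ℕ) (hr : r < D.nroots) : ∀ s ∈ blk ρ r, s < D.nroots := by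
  intro s hs
  unfold blk at hs
  split_ifs at hs with h
  · rw [List.mem_singleton] at hs; rw [hs]; exact hr
  · simp only [List.mem_cons, List.not_mem_nil, or_false] at hs
    rcases hs with rfl | rfl
    · exact hr
    · exact (hBl.nc r hr h).1.2.1

/-- the twisted root elements with parameter one are fixed by `σ` -/
theorem blk_fix [CharP K 2] (r : ℕ) (hr : r < D.nroots) :
    wordGL D hD K (ones K (blk ρ r)) ∈ fixSigma D pv pv' ρ ρ' ε hG K φ := by
  rw [mem_fixSigma]
  have hσ : ∀ s < D.nroots, sigmaGL D pv pv' ρ ρ' ε hG K φ (xGL D hD K s 1) = xGL D hD K (ρ s) 1 := by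
    intro s hs
    rw [sigmaGL_xGL D hD pv pv' ρ ρ' ε hG K φ s hs, map_one, mul_one, pm_cast K _ (hG.εpm s hs)]
  unfold blk
  split_ifs with h
  · have e : wordGL D hD K (ones K [r]) = xGL D hD K r 1 := by
      unfold ones wordGL; simp
    rw [e, hσ r hr, h]
  · obtain ⟨hnc, hρρ⟩ := hBl.nc r hr h
    have e : wordGL D hD K (ones K [r, ρ r]) = xGL D hD K r 1 * xGL D hD K (ρ r) 1 := by
      unfold ones wordGL; simp
    rw [e, map_mul, hσ r hr, hσ (ρ r) hnc.2.1, hρρ]
    exact ((hnc.commute D hD K 1 1).eq).symm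

include hT hF in
/-- the twisted root elements with parameter one lie in the twisted group -/
theorem blk_mem [CharP K 2] (hUle : D.posUnipotent K ⊓ fixSigma D pv pv' ρ ρ' ε hG K φ ≤ G1)
    (r : ℕ) (hr : r < D.nroots) : wordGL D hD K (ones K (blk ρ r)) ∈ G1 := by
  have hρpos := rho_pos_of_twistFacts D ρ ρ' A cls hT
  have hfix := blk_fix D hD pv pv' ρ ρ' ε hG K φ simpIdx W0 hBl r hr
  have hlt := blk_lt D ρ simpIdx W0 hBl r hr
  rcases posOrNeg_of_mem D hD r hr with hp | hng
  · apply hUle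
    refine Subgroup.mem_inf.mpr ⟨?_, hfix⟩
    apply wordGL_mem_posU D hD K
    intro e he
    unfold ones at he
    rw [List.mem_map] at he
    obtain ⟨s, hs, rfl⟩ := he
    unfold blk at hs
    split_ifs at hs with h
    · rw [List.mem_singleton] at hs; rw [hs]; exact hp
    · simp only [List.mem_cons, List.not_mem_nil, or_false] at hs
      rcases hs with rfl | rfl
      · exact hp
      · exact hρpos _ hp
  · have hW0lt : ∀ i ∈ W0.flatten, i < D.rank := by
      intro i hi
      obtain ⟨O, hO, hiO⟩ := List.mem_flatten.mp hi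
      exact hF.n_lt O (hBl.w0mem O hO) i hiO
    obtain ⟨n0, hn0⟩ : ∃ n0, n0 = nWordGL D hD K W0.flatten := ⟨_, rfl⟩
    have hn0G : n0 ∈ G1 := by
      rw [hn0]
      exact nWordGL_flatten_mem D hD K G1 W0 (fun O hO => hF.n_mem O (hBl.w0mem O hO))
    have hn0F := hF.le_fix hn0G
    obtain ⟨cc, hcc, hconjw⟩ := Cfsg.Agent.Lib.Helper25.HRow.conj_actsAs_wordGL D hD K _ _
      (actsAs_nWordGL D hD K W0.flatten hW0lt)
    rw [← hn0] at hconjw
    have hwlt : ∀ e ∈ ones K (blk ρ r), e.1 < D.nroots := by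
      intro e he
      unfold ones at he
      rw [List.mem_map] at he
      obtain ⟨s, hs, rfl⟩ := he
      exact hlt s hs
    have hneg : ∀ s ∈ blk ρ r, D.IsNegRoot s := by
      intro s hs
      unfold blk at hs
      split_ifs at hs with h
      · rw [List.mem_singleton] at hs; rw [hs]; exact hng
      · simp only [List.mem_cons, List.not_mem_nil, or_false] at hs
        rcases hs with rfl | rfl
        · exact hng
        · exact rho_neg_of_pos D hD pv pv' ρ ρ' ε hG hρpos _ hng
    have hmem : n0 * wordGL D hD K (ones K (blk ρ r)) * n0⁻¹ ∈ G1 := by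
      apply hUle
      refine Subgroup.mem_inf.mpr ⟨?_, Subgroup.mul_mem _ (Subgroup.mul_mem _ hn0F hfix)
        (Subgroup.inv_mem _ hn0F)⟩
      rw [hconjw _ hwlt]
      apply wordGL_mem_posU D hD K
      intro e he
      rw [List.mem_map] at he
      obtain ⟨e', he', rfl⟩ := he
      unfold ones at he'
      rw [List.mem_map] at he'
      obtain ⟨s, hs, rfl⟩ := he'
      exact hBl.w0pos s (hlt s hs) (hneg s hs)
    have e : wordGL D hD K (ones K (blk ρ r)) =
        n0⁻¹ * (n0 * wordGL D hD K (ones K (blk ρ r)) * n0⁻¹) * n0 := by group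
    rw [e]
    exact Subgroup.mul_mem _ (Subgroup.mul_mem _ (Subgroup.inv_mem _ hn0G) hmem) hn0G

include hT hF in
/-- the words of twisted root elements with parameter one lie in the twisted group -/
theorem blkW_mem [CharP K 2] (hUle : D.posUnipotent K ⊓ fixSigma D pv pv' ρ ρ' ε hG K φ ≤ G1) :
    ∀ (bl : List ℕ), (∀ r ∈ bl, r < D.nroots) → wordGL D hD K (ones K (blkW ρ bl)) ∈ G1
  | [], _ => by
    have : wordGL D hD K (ones K (blkW ρ [])) = 1 := by
      unfold blkW ones wordGL; simp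
    rw [this]; exact Subgroup.one_mem _
  | r :: bl, h => by
    have e : blkW ρ (r :: bl) = blk ρ r ++ blkW ρ bl := by
      unfold blkW; rw [List.flatMap_cons]
    rw [e, ones_append D hD K, wordGL_append]
    exact Subgroup.mul_mem _
      (blk_mem D hD pv pv' ρ ρ' ε hG K φ A cls hT G1 simpIdx simpCls hF W0 hBl hUle r (h r List.mem_cons_self))
      (blkW_mem hUle bl (fun s hs => h s (List.mem_cons_of_mem _ hs)))

end

end Cfsg.Agent.Lib.Helper7.TwInv
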