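import Cfsg.Agent.Lib.Helper7.TwInvF

/-! Involutions of twisted groups in characteristic two: the generic reduction of "every involution is
conjugate in the twisted group to a representative" to table checks and word checks (helper7). -/

set_option autoImplicit false

namespace Cfsg.Agent.Lib.Helper7.TwInv

open Cfsg Cfsg.Lie Matrix
open Cfsg.Agent.Lib.Helper7 Cfsg.Agent.Lib.Helper25 Cfsg.Agent.Lib.Helper25.ChInv

/-- the table check for a set `Os` of orbits of fundamental roots: the word `LJws` (a list of orbits) is a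
word of `w₀ w_J`, `J` the union of `Os`; and unless `Os` is declared valid, the word is empty or it moves
an orbit of `Os` -/
def twChk (D : ChevalleyDatum) (packed : List ℕ) (simpIdx Os LJws : List (List ℕ)) (valid : Bool) : Bool :=
  (LJws.all fun O => simpIdx.contains O) &&
  chkJ D packed Os.flatten LJws.flatten true &&
  (valid || LJws.isEmpty || Os.any fun O => O.any fun i =>
    !((O.map D.simple).contains ((permWP packed D.nroots LJws.flatten).getD (D.simple i) 0)))

section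
variable (D : ChevalleyDatum) (hD : D ∈ [chevG2, chevB2, chevD4, chevF4, chevE6, chevE7, chevE8])
variable (K : Type*) [Field K]

/-- the statement that the involutions of the coset `H n_J` are conjugate in `G¹` to the representative -/
def TwConjStmt (G1 : Subgroup (GL D.Idx K)) (LJ rep : List ℕ) : Prop :=
  ∀ t g h : GL D.Idx K, g ∈ G1 → h ∈ D.diagonalSubgroup K → h ∈ G1 →
    g * t * g⁻¹ = h * nWordGL D hD K LJ →
    (h * nWordGL D hD K LJ) * (h * nWordGL D hD K LJ) = 1 →
    ∃ h' ∈ G1, h' * t * h'⁻¹ = wordGL D hD K (ones K rep)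

variable {D hD K} in
/-- transport of the conjugacy statement along a conjugation of the representatives in `G¹` -/
theorem TwConjStmt.trans {G1 : Subgroup (GL D.Idx K)} {LJ rep rep' : List ℕ}
    (h : TwConjStmt D hD K G1 LJ rep) (y : GL D.Idx K) (hy : y ∈ G1)
    (hc : y * wordGL D hD K (ones K rep) * y⁻¹ = wordGL D hD K (ones K rep')) :
    TwConjStmt D hD K G1 LJ rep' := by
  intro t g h0 hg hh hhG heq hsq
  obtain ⟨h', hh', he⟩ := h t g h0 hg hh hhG heq hsq
  refine ⟨y * h', Subgroup.mul_mem _ hy hh', ?_⟩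
  rw [← hc, ← he]; group

/-- from the word check for `J` to the conjugacy of `h n_J` with the representative -/
theorem twConjStmt_of_chk [Fintype K] [CharP K 2] (G1 : Subgroup (GL D.Idx K)) (LJ gW rep : List ℕ)
    (hgW : wordGL D hD K (ones K gW) ∈ G1)
    (hchk : BitWord.bitChkR D (gW ++ nJR D LJ ++ gW.reverse) rep = true)
    (hR : BitWord.bitChkR D (rep ++ rep) [] = true) : TwConjStmt D hD K G1 LJ rep := by
  intro t g h hg hh hhG heq hsq
  have hc := conj_of_bitChkR D hD K gW LJ rep hchk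
  obtain ⟨G0, hG0⟩ : ∃ G0, G0 = wordGL D hD K (ones K gW) := ⟨_, rfl⟩
  obtain ⟨nJ, hnJ⟩ : ∃ nJ, nJ = nWordGL D hD K LJ := ⟨_, rfl⟩
  rw [← hG0, ← hnJ] at hc
  rw [← hnJ] at heq hsq
  rw [← hG0] at hgW
  have hnn : nJ * nJ = 1 := by
    have e : nJ = G0⁻¹ * wordGL D hD K (ones K rep) * G0 := by rw [← hc]; group
    have hr := sq_of_bitChkR D hD K rep hR
    calc nJ * nJ = G0⁻¹ * (wordGL D hD K (ones K rep) * wordGL D hD K (ones K rep)) * G0 := by
          rw [e]; group
      _ = 1 := by rw [hr]; group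
  obtain ⟨e, hkeq⟩ := exists_diag_conj_pow D hD K h nJ hh hnn hsq
  obtain ⟨k, hk⟩ : ∃ k, k = h ^ e := ⟨_, rfl⟩
  rw [← hk] at hkeq
  have hkG : k ∈ G1 := by rw [hk]; exact Subgroup.pow_mem _ hhG _
  refine ⟨G0 * k⁻¹ * g, Subgroup.mul_mem _ (Subgroup.mul_mem _ hgW (Subgroup.inv_mem _ hkG)) hg, ?_⟩
  rw [← hc]
  have e1 : G0 * k⁻¹ * g * t * (G0 * k⁻¹ * g)⁻¹ = G0 * k⁻¹ * (g * t * g⁻¹) * k * G0⁻¹ := by group
  rw [e1, heq, hkeq]
  group

end

section
variable (D : ChevalleyDatum) (hD : D ∈ [chevG2, chevB2, chevD4, chevF4, chevE6, chevE7, chevE8])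
variable (pv pv' ρ ρ' : ℕ → ℕ) (ε : ℕ → ℤ) (hG : GraphFacts D pv pv' ρ ρ' ε)
variable (K : Type*) [Field K] (φ : K ≃+* K)
variable (A : ℕ → ℤ) (hA : ChainAdd D A) (hO : PosFacts D A) (cls : List (List ℕ))
variable (hT : TwistFacts D ρ ρ' A cls)
variable (G1 : Subgroup (GL D.Idx K)) (simpIdx simpCls : List (List ℕ))
variable (hF : TwistGroupFacts D hD pv pv' ρ ρ' ε hG K φ cls G1 simpIdx simpCls)
variable (m : ℕ) (hsh : ∀ S ∈ cls, ClassShape ρ' ε m S)
variable (hB : TwistBNFacts D simpIdx simpCls) (hOF : OrbFacts D simpIdx)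
include hA hO hT hF hsh hB hOF

/-- every involution of the twisted group is conjugate in it to one of the representatives, given the table
checks and, for each admissible set of orbits, the conjugacy of the involutions of the coset `H n_J` with
the representative -/
theorem tw_invol_conj_of_tables [Fintype K] [CharP K 2] (hGle : G1 ≤ D.group K)
    (hUle : D.posUnipotent K ⊓ fixSigma D pv pv' ρ ρ' ε hG K φ ≤ G1)
    (packed : List ℕ)
    (hpk : packed.map (unpackL D.nroots) =
      (List.range D.rank).map fun i => (List.range D.nroots).map (D.reflectRoot i))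
    (LJw : List (List ℕ) → List (List ℕ)) (repOf : List (List ℕ) → List ℕ) (validL : List (List (List ℕ)))
    (hall : ∀ Os ∈ simpIdx.sublists, twChk D packed simpIdx Os (LJw Os) (validL.contains Os) = true)
    (hconj : ∀ Os ∈ validL, TwConjStmt D hD K G1 (LJw Os).flatten (repOf Os))
    (t : GL D.Idx K) (ht : t ∈ G1) (hord : orderOf t = 2) :
    ∃ Os ∈ validL, ∃ h ∈ G1, h * t * h⁻¹ = wordGL D hD K (ones K (repOf Os)) := by
  classical
  have hsq : t * t = 1 := by
    have := pow_orderOf_eq_one t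
    rwa [hord, sq] at this
  obtain ⟨g, hg, n, heq, hn, hnn, L, hL, hact, hinv, hS⟩ := tw_exists_conj_stuck D hD pv pv' ρ ρ' ε hG K φ A hA
    hO cls hT G1 simpIdx simpCls hF m hsh hB hOF hGle hUle t ht hsq
  have hnG : n ∈ G1 := by
    rw [← heq]; exact Subgroup.mul_mem _ (Subgroup.mul_mem _ hg ht) (Subgroup.inv_mem _ hg)
  obtain ⟨Os, hOs⟩ : ∃ Os, Os = simpIdx.filter
      (fun O => decide (∀ i' ∈ O, reflWord D L (D.simple i') ∈ O.map D.simple)) := ⟨_, rfl⟩
  have hOsmem : ∀ O, O ∈ Os ↔ O ∈ simpIdx ∧ ∀ i' ∈ O, reflWord D L (D.simple i') ∈ O.map D.simple := by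
    intro O
    rw [hOs, List.mem_filter, decide_eq_true_iff]
  have hsub : Os ∈ simpIdx.sublists := by
    rw [List.mem_sublists, hOs]
    exact List.filter_sublist
  have hJeq : JSt D simpIdx (reflWord D L) = {i | i ∈ Os.flatten} := by
    ext i
    constructor
    · rintro ⟨O, hOm, hiO, hst⟩
      exact List.mem_flatten.mpr ⟨O, (hOsmem O).mpr ⟨hOm, hst⟩, hiO⟩
    · intro hi
      obtain ⟨O, hO', hiO⟩ := List.mem_flatten.mp hi
      obtain ⟨hOm, hst⟩ := (hOsmem O).mp hO'
      exact ⟨O, hOm, hiO, hst⟩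
  rw [hJeq] at hS
  have hchk := hall Os hsub
  unfold twChk at hchk
  rw [Bool.and_eq_true, Bool.and_eq_true] at hchk
  obtain ⟨⟨hmemb, hchkJ⟩, hval⟩ := hchk
  have hLJmem : ∀ O ∈ LJw Os, O ∈ simpIdx := by
    rw [List.all_eq_true] at hmemb
    intro O hO'
    simpa using hmemb O hO'
  obtain ⟨hP, -⟩ := chkJ_spec D hD packed hpk Os.flatten (LJw Os).flatten true hchkJ
  obtain ⟨hLJ, -⟩ := p1B_spec D Os.flatten (LJw Os).flatten hP
  have hcos := stuckP_mem_coset D hD K n (Subgroup.mem_inf.mp hn).1 L hL hact hinv Os.flatten hS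
    (LJw Os).flatten hP
  obtain ⟨nJ, hnJ⟩ : ∃ nJ, nJ = nWordGL D hD K (LJw Os).flatten := ⟨_, rfl⟩
  have hnJG : nJ ∈ G1 := by
    rw [hnJ]
    exact nWordGL_flatten_mem D hD K G1 _ (fun O hO' => hF.n_mem O (hLJmem O hO'))
  obtain ⟨h0, hh0⟩ : ∃ h0, h0 = n * nJ⁻¹ := ⟨_, rfl⟩
  rw [← hnJ, ← hh0] at hcos
  have hh0G : h0 ∈ G1 := by rw [hh0]; exact Subgroup.mul_mem _ hnG (Subgroup.inv_mem _ hnJG)
  have hnJeq : n = h0 * nJ := by rw [hh0]; group
  have hact2 : ActsAs D hD K n (reflWord D (LJw Os).flatten) := by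
    rw [hnJeq, hnJ]
    have h5 := ActsAs.mul D K (actsAs_diag D hD K _ hcos) (actsAs_nWordGL D hD K _ hLJ)
    exact h5
  have hLeq : ∀ r < D.nroots, reflWord D L r = reflWord D (LJw Os).flatten r :=
    fun r hr => ActsAs.unique D hD K hact hact2 r hr
  rw [Bool.or_eq_true, Bool.or_eq_true] at hval
  rcases hval with (hv | hv) | hv
  · have hmemv : Os ∈ validL := by simpa using hv
    obtain ⟨h', hh', hc⟩ := hconj Os hmemv t g h0 hg hcos hh0G (by rw [← hnJ, ← hnJeq]; exact heq)
      (by rw [← hnJ, ← hnJeq]; exact hnn)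
    exact ⟨Os, hmemv, h', hh', hc⟩
  · exfalso
    have hnil : LJw Os = [] := by simpa using hv
    have e1 : nJ = 1 := by
      rw [hnJ, hnil]; unfold nWordGL; simp
    rw [e1, mul_one] at hnJeq
    rw [hnJeq] at hnn
    obtain ⟨e, hk⟩ := exists_diag_conj_pow D hD K h0 1 hcos (one_mul 1) (by rw [mul_one]; exact hnn)
    have e2 : h0 = 1 := by
      have : h0 * 1 = 1 := by rw [hk]; group
      rwa [mul_one] at this
    rw [hnJeq, e2] at heq
    have ht1 : t = 1 := by
      have : t = g⁻¹ * (g * t * g⁻¹) * g := by group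
      rw [this, heq]; group
    rw [ht1, orderOf_one] at hord
    omega
  · exfalso
    rw [List.any_eq_true] at hv
    obtain ⟨O, hO', hv2⟩ := hv
    rw [List.any_eq_true] at hv2
    obtain ⟨i, hiO, hv3⟩ := hv2
    obtain ⟨hOm, hst⟩ := (hOsmem O).mp hO'
    have hi : i < D.rank := hF.n_lt O hOm i hiO
    have hpi := (fundFacts_of_mem D hD i hi).hp
    rw [permWP_getD D hD packed hpk _ hLJ _ hpi, ← hLeq _ hpi] at hv3
    have := hst i hiO
    simp only [Bool.not_eq_true', List.contains_eq_mem, decide_eq_false_iff_not] at hv3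
    exact hv3 this

end

end Cfsg.Agent.Lib.Helper7.TwInv
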