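import Mathlib
import Cfsg.Agent.Lib.Helper7.U3Base

/-!
helper7: S2148 market "U3", leaf CAHOM (`exists_caHom`, `card_LL`, `isCyclic_LL`).
-/

set_option autoImplicit false
set_option linter.unusedSectionVars false

namespace Cfsg.Agent.Lib.Helper7.U3Leaf

open Cfsg.Agent.Lib.Helper18.PSUMod Cfsg.Agent.Lib.Helper5.HermBridge Cfsg.Agent.Lib.Helper12.U3
open Cfsg.Agent.Lib.Helper7.U3B

section model

variable {F : Type*} [Field F] [Fintype F] {q : ℕ} (hF : Fintype.card F = q ^ 2)

/-- M2: `ca` is an isomorphism of `LL` onto `Fˣ`, with kernel `QQ` on `PP`. -/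
theorem exists_caHom : ∃ φ : ↥(PP hF) →* Fˣ, (∀ k : ↥(PP hF), ((φ k : Fˣ) : F) = ca (k : GG hF)) ∧
    Function.Surjective φ ∧ φ.ker = (QQ hF).subgroupOf (PP hF) ∧
    ∀ k : ↥(PP hF), (k : GG hF) ∈ LL hF → φ k = 1 → k = 1 := by
  refine ⟨caHom hF, caHom_val hF, caHom_surj hF, caHom_ker hF, ?_⟩
  intro k hk h
  apply Subtype.ext
  rw [Subgroup.coe_one]
  apply eq_one_of_ca hF _ hk
  have := congrArg (fun u : Fˣ => (u : F)) h
  simpa [caHom_val] using this

/-- the isomorphism `LL ≃* Fˣ` -/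
noncomputable def caL : ↥(LL hF) ≃* Fˣ :=
  MulEquiv.ofBijective ((caHom hF).comp (Subgroup.inclusion (Le_le_Pe (barOK_frob hF).invol : LL hF ≤ PP hF)))
    (by
      constructor
      · rw [injective_iff_map_eq_one]
        intro l hl
        apply Subtype.ext
        rw [Subgroup.coe_one]
        apply eq_one_of_ca hF _ l.2
        have := congrArg (fun u : Fˣ => (u : F)) hl
        simpa [caHom_val] using this
      · intro u
        obtain ⟨l, hl, h⟩ := exists_LL_ca hF u
        exact ⟨⟨l, hl⟩, Units.ext h⟩)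

theorem card_LL : Nat.card (LL hF) = q ^ 2 - 1 := by
  classical
  rw [Nat.card_congr (caL hF).toEquiv, Nat.card_eq_fintype_card, Fintype.card_units, hF]

theorem isCyclic_LL : IsCyclic ↥(LL hF) :=
  isCyclic_of_injective (caL hF).toMonoidHom (caL hF).injective

end model

end Cfsg.Agent.Lib.Helper7.U3Leaf
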