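import Mathlib
import Cfsg.Agent.Lib.Helper20.UTNDefs
import Cfsg.Agent.Lib.Helper20.UTS
import Cfsg.Agent.Lib.Helper5.SUMax
import Cfsg.Agent.Lib.Helper9.UTNNZ
import Cfsg.Agent.Lib.Helper11.UTNN1b

/-!
helper7 for helper20's S5670 (N) market (`notes/S5670_N_leaves.lean`): the leaf
N3g `IsZ_comm_kA` (exact signature): `[u, kA x₀ c] = E_y(ζ - α ζ α⁻¹)`.
-/

set_option autoImplicit false
set_option linter.unusedSectionVars false
set_option linter.unusedVariables false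

namespace Cfsg.Agent.Lib.Helper7.UTNLeaf
open Matrix
open Cfsg.Agent.Lib.Helper25.Tens Cfsg.Agent.Lib.Helper25.TensLeaf Cfsg.Agent.Lib.Helper25.TensLeaves
open Cfsg.Agent.Lib.Helper20.UT Cfsg.Agent.Lib.Helper20.UTLeaf Cfsg.Agent.Lib.Helper20.UTN
open scoped Kronecker

variable {F : Type*} [Field F] [Fintype F] {a b q : ℕ} {M : Subgroup (GL (Idx a b) F)}

/-- an isometry fixing `A ⊗ y` pointwise commutes with the contraction `c_y` -/
theorem ct_cj_of_fix (hF : Fintype.card F = q ^ 2) {y : Fin b → F} {u : GL (Idx a b) F}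
    (hu : u ∈ GUI a b q F) (hfix : ∀ x : Fin a → F, mv u (pt x y) = pt x y) (w : Idx a b → F) :
    ct (cj q y) (mv u w) = ct (cj q y) w := by
  apply Cfsg.Agent.Lib.Helper11.UTNLeaf.hv_ext_left hF
  intro x
  rw [← hv_pt_right, ← hv_pt_right]
  conv_lhs => rw [← hfix x]
  exact mem_GUI.mp hu w (pt x y)

lemma pt_sub_left' (x x' : Fin a → F) (y : Fin b → F) : pt (x - x') y = pt x y - pt x' y := by
  ext p
  simp only [pt, Pi.sub_apply, sub_mul]

/-- N3g -/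
theorem IsZ_comm_kA (hF : Fintype.card F = q ^ 2) {y ys : Fin b → F} (hy0 : y ≠ 0)
    (hy : hv q y y = 0) (hys : hv q ys y = 1) {u : GL (Idx a b) F} (hu : u ∈ GUI a b q F)
    (hfix : ∀ x : Fin a → F, mv u (pt x y) = pt x y)
    (hpure : ∀ z : Fin b → F, hv q z y = 0 → ∃ z'' : Fin b → F, ∀ x : Fin a → F,
      mv u (pt x z) = pt x z'')
    (z₁ : Fin b → F) (ζ : Matrix (Fin a) (Fin a) F)
    (hcol : ∀ x : Fin a → F, mv u (pt x ys) = pt x (ys + z₁) + pt (ζ *ᵥ x) y)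
    (x₀ : Fin a → F) (c : F) (hx : hv q x₀ x₀ = 0) :
    IsZ q y (u * kA q x₀ c hx * u⁻¹ * (kA q x₀ c hx)⁻¹)
      (ζ - ((tvU q x₀ c hx : GL (Fin a) F) : Matrix (Fin a) (Fin a) F) * ζ *
        (((tvU q x₀ c hx)⁻¹ : GL (Fin a) F) : Matrix (Fin a) (Fin a) F)) := by
  set α : GL (Fin a) F := tvU q x₀ c hx with hα
  set k : GL (Idx a b) F := kA q x₀ c hx with hk
  have hkpt : ∀ (x : Fin a → F) (z : Fin b → F), mv k (pt x z) = pt (mv α x) z := by
    intro x z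
    have := Cfsg.Agent.Lib.Helper9.UTNLeaf.mv_kel_pt α (1 : GL (Fin b) F) x z
    rw [mv_one] at this
    exact this
  have hcu : ∀ w, ct (cj q y) (mv u w) = ct (cj q y) w := ct_cj_of_fix hF hu hfix
  have hck : ∀ w, ct (cj q y) (mv k w) = mv α (ct (cj q y) w) := by
    intro w
    have := Cfsg.Agent.Lib.Helper9.UTNLeaf.ct_cj_kel hF y α (1 : GL (Fin b) F)
      (fun u v => by rw [mv_one, mv_one]) w
    rw [mv_one] at this
    exact this
  set Mx : Matrix (Fin a) (Fin a) F :=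
    ζ * (α : Matrix (Fin a) (Fin a) F) - (α : Matrix (Fin a) (Fin a) F) * ζ with hMx
  have hαv : ∀ x : Fin a → F, (α : Matrix (Fin a) (Fin a) F) *ᵥ x = mv α x := fun x => rfl
  -- the predicate
  have hP0 : mv u (mv k (0 : Idx a b → F)) - mv k (mv u 0) =
      pt (Mx *ᵥ ct (cj q y) (0 : Idx a b → F)) y := by
    have h0 : ct (cj q y) (0 : Idx a b → F) = 0 := by
      ext i; simp [ct]
    simp only [mv_zero]
    rw [h0, Matrix.mulVec_zero, pt_zero_left, sub_zero]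
  have hPadd : ∀ v w : Idx a b → F,
      mv u (mv k v) - mv k (mv u v) = pt (Mx *ᵥ ct (cj q y) v) y →
      mv u (mv k w) - mv k (mv u w) = pt (Mx *ᵥ ct (cj q y) w) y →
      mv u (mv k (v + w)) - mv k (mv u (v + w)) = pt (Mx *ᵥ ct (cj q y) (v + w)) y := by
    intro v w h1 h2
    rw [mv_add, mv_add, mv_add, mv_add, ct_add, Matrix.mulVec_add, pt_add_left, ← h1, ← h2]
    abel
  have hPsmul : ∀ (t : F) (v : Idx a b → F),
      mv u (mv k v) - mv k (mv u v) = pt (Mx *ᵥ ct (cj q y) v) y →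
      mv u (mv k (t • v)) - mv k (mv u (t • v)) = pt (Mx *ᵥ ct (cj q y) (t • v)) y := by
    intro t v h1
    rw [mv_smul, mv_smul, mv_smul, mv_smul, ct_smul, Matrix.mulVec_smul, pt_smul_left, ← h1,
      smul_sub]
  have hP1 : ∀ (x : Fin a → F) (z : Fin b → F), hv q z y = 0 →
      mv u (mv k (pt x z)) - mv k (mv u (pt x z)) = pt (Mx *ᵥ ct (cj q y) (pt x z)) y := by
    intro x z hz
    obtain ⟨z'', hz''⟩ := hpure z hz
    rw [hkpt, hz'', hz'', hkpt, sub_self, ct_cj_pt, hz, zero_smul, Matrix.mulVec_zero,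
      pt_zero_left]
  have hP2 : ∀ x : Fin a → F,
      mv u (mv k (pt x ys)) - mv k (mv u (pt x ys)) = pt (Mx *ᵥ ct (cj q y) (pt x ys)) y := by
    intro x
    rw [hkpt, hcol, hcol, mv_add, hkpt, hkpt, ct_cj_pt, hys, one_smul, hMx, Matrix.sub_mulVec,
      pt_sub_left', ← Matrix.mulVec_mulVec, ← Matrix.mulVec_mulVec, hαv, hαv]
    abel
  have key : ∀ v' : Idx a b → F,
      mv u (mv k v') - mv k (mv u v') = pt (Mx *ᵥ ct (cj q y) v') y := by
    apply Cfsg.Agent.Lib.Helper9.UTNLeaf.pt_ind' hP0 hPadd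
    intro x z
    have hz : z = (z - hv q z y • ys) + hv q z y • ys := by abel
    rw [hz, pt_add_right, pt_smul_right]
    apply hPadd
    · apply hP1
      rw [hv_sub_left, hv_smul_left, hys, mul_one, sub_self]
    · exact hPsmul _ _ (hP2 x)
  intro v
  have h1 := key (mv u⁻¹ (mv k⁻¹ v))
  rw [mv_mv_inv, mv_mv_inv] at h1
  have h2 : ct (cj q y) (mv u⁻¹ (mv k⁻¹ v)) =
      ((α⁻¹ : GL (Fin a) F) : Matrix (Fin a) (Fin a) F) *ᵥ ct (cj q y) v := by
    have h3 := hcu (mv u⁻¹ (mv k⁻¹ v))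
    rw [mv_mv_inv] at h3
    rw [← h3]
    have h4 := hck (mv k⁻¹ v)
    rw [mv_mv_inv] at h4
    rw [h4]
    exact (mv_inv_mv α _).symm
  rw [h2, Matrix.mulVec_mulVec] at h1
  have h5 : Mx * ((α⁻¹ : GL (Fin a) F) : Matrix (Fin a) (Fin a) F) =
      ζ - (α : Matrix (Fin a) (Fin a) F) * ζ *
        ((α⁻¹ : GL (Fin a) F) : Matrix (Fin a) (Fin a) F) := by
    rw [hMx, sub_mul, mul_assoc ζ, ← Units.val_mul, mul_inv_cancel, Units.val_one, mul_one]
  rw [h5] at h1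
  rw [mv_mul, mv_mul, mv_mul, ← h1]
  abel

end Cfsg.Agent.Lib.Helper7.UTNLeaf
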