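/-
helper7: S2524 leaf F5 (planner helper10), part A (split agreed with helper4, who assembles `comm_iota_on_zsp`):
* `comm_Xs_on_zsp` / `comm_Qp` (LEMMA A): a linear map commuting with `Z = {xZ c}` and `A = {xA j c}` between
  (W)-modules commutes with the whole Siegel radical on the eigenspaces `zsp l`, `l ≠ 0`, of `Z`
  (by (W) a weight `B` with `B 0 0 = l ≠ 0` is determined by its first row, so the `ZA`-weight spaces inside `zsp l`
  are the `Q`-weight spaces);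
* `good_conj` (the twist): if `s` centralises `Z` and conjugates the generators of `A` to elements commuting with `φ`,
  then `φ` commutes on `zsp l` with every `W` such that `Xs S * s = s * W`.
-/
import Mathlib
import Cfsg.Agent.Lib.Helper10.WGDefs
import Cfsg.Agent.Lib.Helper17.WGWD

set_option autoImplicit false
set_option linter.unusedSectionVars false

namespace Cfsg.Agent.Lib.Helper7.WGF5A

open Matrix Cfsg.Agent.Lib.Helper11.LS Cfsg.Agent.Lib.Helper10.WG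

universe u

variable {F : Type*} [Field F] [Fintype F] [DecidableEq F]

theorem psi_ne_zero (ψ : AddChar F ℂ) (x : F) : ψ x ≠ 0 := (AddChar.val_isUnit ψ x).ne_zero

/-- a primitive character separates points -/
theorem eq_of_forall_psi_eq (ψ : AddChar F ℂ) (hψ : ψ.IsPrimitive) (a b : F)
    (h : ∀ c : F, ψ (a * c) = ψ (b * c)) : a = b := by
  by_contra hne
  have hab : a - b ≠ 0 := sub_ne_zero.mpr hne
  apply hψ hab
  ext c
  rw [AddChar.mulShift_apply, AddChar.one_apply, sub_mul, sub_eq_add_neg, AddChar.map_add_eq_mul,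
    AddChar.map_neg_eq_inv, h c, mul_inv_cancel₀ (psi_ne_zero ψ _)]

section step1

variable {n : ℕ} {V V' : Type u} [AddCommGroup V] [Module ℂ V] [AddCommGroup V'] [Module ℂ V']

theorem Xs_mul_Xs (S T : Matrix (Fin n) (Fin n) F) (hS : Sᵀ = S) (hT : Tᵀ = T) :
    (Xs S hS : SpG F n) * Xs T hT = Xs T hT * Xs S hS := by
  apply Subtype.ext
  show fromBlocks 1 S 0 1 * fromBlocks 1 T 0 1 = fromBlocks 1 T 0 1 * fromBlocks 1 S 0 1
  rw [fromBlocks_multiply, fromBlocks_multiply]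
  simp [add_comm]

/-- the operators of the Siegel radical commute with each other -/
theorem comm_Xs_self (ρ : Representation ℂ (SpG F n) V) (T : Matrix (Fin n) (Fin n) F) (hT : Tᵀ = T)
    (S : Matrix (Fin n) (Fin n) F) (hS : Sᵀ = S) : Comm ρ ρ (ρ (Xs T hT)) (Xs S hS) := by
  intro v
  rw [← Module.End.mul_apply, ← Module.End.mul_apply, ← map_mul, ← map_mul, Xs_mul_Xs]

/-- the weight projectors commute with the Siegel radical -/
theorem wtProj_Xs (ψ : AddChar F ℂ) (ρ : Representation ℂ (SpG F n) V) (B : Matrix (Fin n) (Fin n) F)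
    (T : Matrix (Fin n) (Fin n) F) (hT : Tᵀ = T) (v : V) :
    ρ (Xs T hT) (wtProj ψ ρ B v) = wtProj ψ ρ B (ρ (Xs T hT) v) :=
  Cfsg.Agent.Lib.Helper17.WGWD.wtProj_comm ψ ρ ρ (ρ (Xs T hT)) (fun S hS => comm_Xs_self ρ T hT S hS) B v

end step1

section step1b

variable {k : ℕ} {V V' : Type u} [AddCommGroup V] [Module ℂ V] [AddCommGroup V'] [Module ℂ V']

/-- a symmetric matrix of rank at most one with `B 0 0 ≠ 0` is determined by its first row -/
theorem eq_of_rank_one (B B' : Matrix (Fin (k + 1)) (Fin (k + 1)) F) (a a' : F)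
    (x x' : Fin (k + 1) → F) (hB : B = a • vecMulVec x x) (hB' : B' = a' • vecMulVec x' x')
    (h0 : B 0 0 ≠ 0) (hrow : ∀ j, B 0 j = B' 0 j) : B = B' := by
  have h1 : ∀ i j, B i j * B 0 0 = B 0 i * B 0 j := by
    intro i j
    rw [hB]
    simp only [Matrix.smul_apply, vecMulVec_apply, smul_eq_mul]
    ring
  have h1' : ∀ i j, B' i j * B' 0 0 = B' 0 i * B' 0 j := by
    intro i j
    rw [hB']
    simp only [Matrix.smul_apply, vecMulVec_apply, smul_eq_mul]
    ring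
  ext i j
  have e1 := h1 i j
  have e2 := h1' i j
  rw [← hrow 0, ← hrow i, ← hrow j] at e2
  exact mul_right_cancel₀ h0 (e1.trans e2.symm)

theorem trace_mul_single00 (B : Matrix (Fin (k + 1)) (Fin (k + 1)) F) (c : F) :
    trace (B * single 0 0 c) = B 0 0 * c := by
  rw [trace_mul_single]
  simp [mul_comm]

theorem trace_mul_xA (B : Matrix (Fin (k + 1)) (Fin (k + 1)) F) (hB : Bᵀ = B) (j : Fin k) (c : F) :
    trace (B * (single 0 j.succ c + single j.succ 0 c)) = (2 * B 0 j.succ) * c := by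
  have hs : B j.succ 0 = B 0 j.succ := by
    conv_lhs => rw [← hB]
    rfl
  rw [Matrix.mul_add, trace_add, trace_mul_single, trace_mul_single]
  simp only [MulOpposite.smul_eq_mul_unop, MulOpposite.unop_op, hs]
  ring

/-- (step 1, key) a map commuting with `Z` and `A` maps the weight space of `B`, `B 0 0 ≠ 0`, into the weight
space of `B` -/
theorem phi_mem_wt (h2 : (2 : F) ≠ 0) (ψ : AddChar F ℂ) (hψ : ψ.IsPrimitive)
    (ρ' : Representation ℂ (SpG F (k + 1)) V') (ρ : Representation ℂ (SpG F (k + 1)) V)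
    (hW' : IsW ψ ρ') (hW : IsW ψ ρ) (φ : V' →ₗ[ℂ] V)
    (hZ : ∀ c : F, Comm ρ' ρ φ (xZ c)) (hA : ∀ (j : Fin k) (c : F), Comm ρ' ρ φ (xA j c))
    (B : Matrix (Fin (k + 1)) (Fin (k + 1)) F) (hB : Bᵀ = B) (hB0 : B 0 0 ≠ 0)
    (w : V') (hw : w ∈ wt ψ ρ' B) : φ w ∈ wt ψ ρ B := by
  by_cases hw0 : w = 0
  · rw [hw0, map_zero]
    exact Submodule.zero_mem _
  have hsum := Cfsg.Agent.Lib.Helper17.WGWD.sum_wtProj h2 ψ hψ ρ (φ w)
  have hne' : wt ψ ρ' B ≠ ⊥ := (Submodule.ne_bot_iff _).mpr ⟨w, hw, hw0⟩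
  obtain ⟨a, x, hax⟩ := hW' B hB hne'
  have claim : ∀ B' : SymM F (k + 1), wtProj ψ ρ B'.1 (φ w) ≠ 0 → B'.1 = B := by
    rintro ⟨B', hB'⟩ hu
    set u := wtProj ψ ρ B' (φ w) with hudef
    have hu_mem : u ∈ wt ψ ρ B' := Cfsg.Agent.Lib.Helper17.WGWD.wtProj_mem ψ ρ B' (φ w)
    have key : ∀ (T : Matrix (Fin (k + 1)) (Fin (k + 1)) F) (hT : Tᵀ = T),
        Comm ρ' ρ φ (Xs T hT) → ψ (trace (B * T)) = ψ (trace (B' * T)) := by
      intro T hT hc
      have e1 : ρ (Xs T hT) u = ψ (trace (B * T)) • u := by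
        rw [hudef, wtProj_Xs, ← hc w, hw T hT, map_smul, map_smul]
      have e2 : ρ (Xs T hT) u = ψ (trace (B' * T)) • u := hu_mem T hT
      have e3 : (ψ (trace (B * T)) - ψ (trace (B' * T))) • u = 0 := by
        rw [sub_smul, ← e1, ← e2, sub_self]
      rcases smul_eq_zero.mp e3 with h | h
      · exact sub_eq_zero.mp h
      · exact absurd h hu
    have h00 : B 0 0 = B' 0 0 := by
      apply eq_of_forall_psi_eq ψ hψ
      intro c
      have := key (single 0 0 c) (by simp) (hZ c)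
      rwa [trace_mul_single00, trace_mul_single00] at this
    have h0j : ∀ j : Fin k, B 0 j.succ = B' 0 j.succ := by
      intro j
      have h3 : 2 * B 0 j.succ = 2 * B' 0 j.succ := by
        apply eq_of_forall_psi_eq ψ hψ
        intro c
        have := key (single 0 j.succ c + single j.succ 0 c)
          (by rw [transpose_add, transpose_single, transpose_single]; exact add_comm _ _) (hA j c)
        rwa [trace_mul_xA B hB, trace_mul_xA B' hB'] at this
      exact mul_left_cancel₀ h2 h3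
    have hrow : ∀ j, B 0 j = B' 0 j := by
      intro j
      refine Fin.cases h00 (fun j' => h0j j') j
    have hne : wt ψ ρ B' ≠ ⊥ := (Submodule.ne_bot_iff _).mpr ⟨u, hu_mem, hu⟩
    obtain ⟨a', x', hax'⟩ := hW B' hB' hne
    exact (eq_of_rank_one B B' a a' x x' hax hax' hB0 hrow).symm
  have hsingle : ∑ B' : SymM F (k + 1), wtProj ψ ρ B'.1 (φ w) = wtProj ψ ρ B (φ w) := by
    rw [Finset.sum_eq_single (⟨B, hB⟩ : SymM F (k + 1))]
    · intro B' _ hne
      by_contra hu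
      exact hne (Subtype.ext (claim B' hu))
    · intro h
      exact absurd (Finset.mem_univ _) h
  rw [← hsum, hsingle]
  exact Cfsg.Agent.Lib.Helper17.WGWD.wtProj_mem ψ ρ B (φ w)

/-- (step 1) a map commuting with `Z` and `A` commutes with the whole Siegel radical on the eigenspaces of `Z`
for `l ≠ 0` -/
theorem comm_Xs_on_zsp (h2 : (2 : F) ≠ 0) (ψ : AddChar F ℂ) (hψ : ψ.IsPrimitive)
    (ρ' : Representation ℂ (SpG F (k + 1)) V') (ρ : Representation ℂ (SpG F (k + 1)) V)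
    (hW' : IsW ψ ρ') (hW : IsW ψ ρ) (φ : V' →ₗ[ℂ] V)
    (hZ : ∀ c : F, Comm ρ' ρ φ (xZ c)) (hA : ∀ (j : Fin k) (c : F), Comm ρ' ρ φ (xA j c))
    (l : F) (hl : l ≠ 0) (v : V') (hv : v ∈ zsp ψ ρ' l)
    (S : Matrix (Fin (k + 1)) (Fin (k + 1)) F) (hS : Sᵀ = S) :
    φ (ρ' (Xs S hS) v) = ρ (Xs S hS) (φ v) := by
  have hsum := Cfsg.Agent.Lib.Helper17.WGWD.sum_wtProj h2 ψ hψ ρ' v
  have hterm : ∀ B : SymM F (k + 1), φ (ρ' (Xs S hS) (wtProj ψ ρ' B.1 v)) =
      ρ (Xs S hS) (φ (wtProj ψ ρ' B.1 v)) := by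
    rintro ⟨B, hB⟩
    set w := wtProj ψ ρ' B v with hwdef
    have hw : w ∈ wt ψ ρ' B := Cfsg.Agent.Lib.Helper17.WGWD.wtProj_mem ψ ρ' B v
    by_cases hw0 : w = 0
    · rw [hw0, map_zero, map_zero, map_zero]
    have hB00 : B 0 0 = l := by
      apply eq_of_forall_psi_eq ψ hψ
      intro c
      have e1 : ρ' (xZ c) w = ψ (l * c) • w := by
        show ρ' (Xs (single 0 0 c) _) w = _
        rw [hwdef, wtProj_Xs]
        have : ρ' (Xs (single 0 0 c) (by simp)) v = ψ (l * c) • v := hv c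
        rw [this, map_smul]
      have e2 : ρ' (xZ c) w = ψ (B 0 0 * c) • w := by
        have := hw (single 0 0 c) (by simp)
        rw [trace_mul_single00] at this
        exact this
      have e3 : (ψ (B 0 0 * c) - ψ (l * c)) • w = 0 := by
        rw [sub_smul, ← e1, ← e2, sub_self]
      rcases smul_eq_zero.mp e3 with h | h
      · exact sub_eq_zero.mp h
      · exact absurd h hw0
    have hB0 : B 0 0 ≠ 0 := by rw [hB00]; exact hl
    have hφw := phi_mem_wt h2 ψ hψ ρ' ρ hW' hW φ hZ hA B hB hB0 w hw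
    rw [hw S hS, map_smul, hφw S hS]
  calc φ (ρ' (Xs S hS) v) = φ (ρ' (Xs S hS) (∑ B : SymM F (k + 1), wtProj ψ ρ' B.1 v)) := by rw [hsum]
    _ = ∑ B : SymM F (k + 1), φ (ρ' (Xs S hS) (wtProj ψ ρ' B.1 v)) := by rw [map_sum, map_sum]
    _ = ∑ B : SymM F (k + 1), ρ (Xs S hS) (φ (wtProj ψ ρ' B.1 v)) :=
        Finset.sum_congr rfl (fun B _ => hterm B)
    _ = ρ (Xs S hS) (φ (∑ B : SymM F (k + 1), wtProj ψ ρ' B.1 v)) := by rw [map_sum, map_sum]
    _ = ρ (Xs S hS) (φ v) := by rw [hsum]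

end step1b

section step2

variable {k : ℕ} {V V' : Type u} [AddCommGroup V] [Module ℂ V] [AddCommGroup V'] [Module ℂ V']

theorem rho_mul_apply {n : ℕ} (ρ : Representation ℂ (SpG F n) V) (g h : SpG F n) (v : V) :
    ρ (g * h) v = ρ g (ρ h v) := by
  rw [map_mul]
  rfl

theorem rho_inv_apply {n : ℕ} (ρ : Representation ℂ (SpG F n) V) (g : SpG F n) (v : V) :
    ρ g⁻¹ (ρ g v) = v := by
  rw [← rho_mul_apply, inv_mul_cancel, map_one]
  rfl

theorem rho_apply_inv {n : ℕ} (ρ : Representation ℂ (SpG F n) V) (g : SpG F n) (v : V) :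
    ρ g (ρ g⁻¹ v) = v := by
  rw [← rho_mul_apply, mul_inv_cancel, map_one]
  rfl

/-- elements commuting with `Z` preserve the eigenspaces of `Z` -/
theorem mem_zsp_of_comm (ψ : AddChar F ℂ) (ρ : Representation ℂ (SpG F (k + 1)) V)
    (g : SpG F (k + 1)) (hg : ∀ c, g * xZ c = xZ c * g) (l : F) (v : V) (hv : v ∈ zsp ψ ρ l) :
    ρ g v ∈ zsp ψ ρ l := by
  intro c
  rw [← rho_mul_apply, ← hg c, rho_mul_apply, hv c, map_smul]

/-- (step 2) if `s` centralises `Z` and conjugates the generators of `A` to elements commuting with `φ`,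
then `φ` commutes on `zsp l` with the `s`-conjugates of the Siegel radical -/
theorem good_conj (h2 : (2 : F) ≠ 0) (ψ : AddChar F ℂ) (hψ : ψ.IsPrimitive)
    (ρ' : Representation ℂ (SpG F (k + 1)) V') (ρ : Representation ℂ (SpG F (k + 1)) V)
    (hW' : IsW ψ ρ') (hW : IsW ψ ρ) (φ : V' →ₗ[ℂ] V)
    (hZ : ∀ c : F, Comm ρ' ρ φ (xZ c))
    (l : F) (hl : l ≠ 0) (s : SpG F (k + 1))
    (hsZ : ∀ c, xZ c * s = s * xZ c)
    (hsA : ∀ (j : Fin k) (c : F), ∃ x' : SpG F (k + 1), Comm ρ' ρ φ x' ∧ xA j c * s = s * x')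
    (S : Matrix (Fin (k + 1)) (Fin (k + 1)) F) (hS : Sᵀ = S) (W : SpG F (k + 1))
    (hWs : Xs S hS * s = s * W) (w : V') (hw : w ∈ zsp ψ ρ' l) :
    φ (ρ' W w) = ρ W (φ w) := by
  set φs : V' →ₗ[ℂ] V := (ρ s) ∘ₗ φ ∘ₗ (ρ' s⁻¹) with hφs
  have hφs_apply : ∀ v, φs v = ρ s (φ (ρ' s⁻¹ v)) := fun v => rfl
  have hinvZ : ∀ c, s⁻¹ * xZ c = xZ c * s⁻¹ := by
    intro c
    have := hsZ c
    calc s⁻¹ * xZ c = s⁻¹ * (xZ c * s) * s⁻¹ := by group
      _ = s⁻¹ * (s * xZ c) * s⁻¹ := by rw [this]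
      _ = xZ c * s⁻¹ := by group
  have hZs : ∀ c : F, Comm ρ' ρ φs (xZ c) := by
    intro c v
    rw [hφs_apply, hφs_apply, ← rho_mul_apply ρ', hinvZ c, rho_mul_apply ρ', hZ c,
      ← rho_mul_apply ρ, ← hsZ c, rho_mul_apply ρ]
  have hAs : ∀ (j : Fin k) (c : F), Comm ρ' ρ φs (xA j c) := by
    intro j c v
    obtain ⟨x', hx', hrel⟩ := hsA j c
    have hinv : s⁻¹ * xA j c = x' * s⁻¹ := by
      calc s⁻¹ * xA j c = s⁻¹ * (xA j c * s) * s⁻¹ := by group
        _ = s⁻¹ * (s * x') * s⁻¹ := by rw [hrel]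
        _ = x' * s⁻¹ := by group
    rw [hφs_apply, hφs_apply, ← rho_mul_apply ρ', hinv, rho_mul_apply ρ', hx',
      ← rho_mul_apply ρ, ← hrel, rho_mul_apply ρ]
  have hsw : ρ' s w ∈ zsp ψ ρ' l :=
    mem_zsp_of_comm ψ ρ' s (fun c => (hsZ c).symm) l w hw
  have h1 := comm_Xs_on_zsp h2 ψ hψ ρ' ρ hW' hW φs hZs hAs l hl (ρ' s w) hsw S hS
  rw [hφs_apply, hφs_apply, rho_inv_apply, ← rho_mul_apply ρ', ← rho_mul_apply ρ',
    ← rho_mul_apply ρ, hWs] at h1
  have h3 : s⁻¹ * Xs S hS * s = W := by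
    rw [mul_assoc, hWs]
    group
  rw [h3, rho_mul_apply ρ] at h1
  have := congrArg (ρ s⁻¹) h1
  rwa [rho_inv_apply, rho_inv_apply] at this

end step2


section lemmaA

variable {k : ℕ} {V V' : Type u} [AddCommGroup V] [Module ℂ V] [AddCommGroup V'] [Module ℂ V']

/-- LEMMA A in the shape asked for by helper4 (`hU` is not needed) -/
theorem comm_Qp (h2 : (2 : F) ≠ 0) (ψ : AddChar F ℂ) (hψ : ψ.IsPrimitive)
    (ρ' : Representation ℂ (SpG F (k + 1)) V') (ρ : Representation ℂ (SpG F (k + 1)) V)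
    (hW' : IsW ψ ρ') (hW : IsW ψ ρ) (φ : V' →ₗ[ℂ] V)
    (hZ : ∀ c : F, Comm ρ' ρ φ (xZ c)) (hA : ∀ (j : Fin k) (c : F), Comm ρ' ρ φ (xA j c))
    (hU : ∀ (j : Fin k) (c : F), Comm ρ' ρ φ (uP j c))
    (l : F) (hl : l ≠ 0) (v : V') (hv : v ∈ zsp ψ ρ' l)
    (S' : Matrix (Fin k) (Fin k) F) (hS' : S'ᵀ = S') :
    φ (ρ' (Xs (bd 0 S') (by rw [bd_transpose, hS'])) v) =
      ρ (Xs (bd 0 S') (by rw [bd_transpose, hS'])) (φ v) := by
  have _h := hU
  exact comm_Xs_on_zsp h2 ψ hψ ρ' ρ hW' hW φ hZ hA l hl v hv (bd 0 S') (by rw [bd_transpose, hS'])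

end lemmaA

end Cfsg.Agent.Lib.Helper7.WGF5A
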