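import Mathlib
import Cfsg.Agent.Lib.Helper25.WeilDefs

/-!
# S2347 leaf WI (helper7): a group of isometries stabilising `Y` acts genuinely on the induced
model `S.model Y` by `f ↦ f ∘ g⁻¹`, and these operators implement the group.
-/

set_option autoImplicit false

open Cfsg.Agent.Lib.Helper25.Weil Module

namespace Cfsg.Agent.Lib.Helper7.WeilLeaf

variable {F V : Type*} [Field F] [AddCommGroup V] [Module F V]

section

variable (S : Setting F V) {P : Type*} [Group P] [DistribMulAction P V]
  (hiso : ∀ (g : P) (u v : V), S.B (g • u) (g • v) = S.B u v)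
  (Y : Submodule F V) (hstab : ∀ (g : P), ∀ y ∈ Y, g • y ∈ Y)

include hiso in
theorem χ_smul (g : P) (u v : V) : S.χ (g • u) (g • v) = S.χ u v := by
  unfold Setting.χ
  rw [hiso]

include hiso hstab in
theorem liftFun_mem_model (g : P) {f : V → ℂ} (hf : f ∈ S.model Y) :
    Setting.liftFun g f ∈ S.model Y := by
  intro y hy v
  rw [Setting.liftFun_apply, Setting.liftFun_apply, smul_add, hf _ (hstab g⁻¹ y hy),
    χ_smul S hiso]

/-- the operator `f ↦ f ∘ g⁻¹` on the model -/
noncomputable def liftEnd (g : P) : Module.End ℂ (S.model Y) :=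
  (Setting.liftFun g).restrict (fun _ hf => liftFun_mem_model S hiso Y hstab g hf)

theorem liftEnd_apply (g : P) (f : S.model Y) (v : V) :
    ((liftEnd S hiso Y hstab g f : S.model Y) : V → ℂ) v = (f : V → ℂ) (g⁻¹ • v) := rfl

theorem liftEnd_one : liftEnd S hiso Y hstab 1 = 1 := by
  apply LinearMap.ext
  intro f
  apply Subtype.ext
  funext v
  rw [liftEnd_apply, inv_one, one_smul]
  rfl

theorem liftEnd_mul (g h : P) :
    liftEnd S hiso Y hstab (g * h) = liftEnd S hiso Y hstab g * liftEnd S hiso Y hstab h := by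
  apply LinearMap.ext
  intro f
  apply Subtype.ext
  funext v
  rw [Module.End.mul_apply, liftEnd_apply, liftEnd_apply, liftEnd_apply, mul_inv_rev, mul_smul]

theorem liftEnd_impl (g : P) :
    (S.modelW Y).Impl (fun v => g • v) (liftEnd S hiso Y hstab g) := by
  intro u
  apply LinearMap.ext
  intro f
  apply Subtype.ext
  funext x
  rw [Module.End.mul_apply, Module.End.mul_apply, liftEnd_apply, Setting.modelW_apply,
    Setting.modelW_apply, liftEnd_apply, smul_add, inv_smul_smul]
  congr 1
  have h := χ_smul S hiso g (g⁻¹ • x) u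
  rw [smul_inv_smul] at h
  exact h.symm

end

/-- WI -/
theorem exists_lift (S : Setting F V) {P : Type*} [Group P] [DistribMulAction P V]
    (hiso : ∀ (g : P) (u v : V), S.B (g • u) (g • v) = S.B u v)
    (Y : Submodule F V) (hstab : ∀ (g : P), ∀ y ∈ Y, g • y ∈ Y) :
    ∃ τ : P →* (Module.End ℂ (S.model Y))ˣ, ∀ g, (g, τ g) ∈ (S.modelW Y).implGroup P := by
  let L : P → Module.End ℂ (S.model Y) := liftEnd S hiso Y hstab
  have hL1 : L 1 = 1 := liftEnd_one S hiso Y hstab
  have hLm : ∀ g h, L (g * h) = L g * L h := liftEnd_mul S hiso Y hstab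
  let τ : P →* (Module.End ℂ (S.model Y))ˣ :=
    { toFun := fun g => ⟨L g, L g⁻¹, by rw [← hLm, mul_inv_cancel, hL1],
        by rw [← hLm, inv_mul_cancel, hL1]⟩
      map_one' := Units.ext hL1
      map_mul' := fun g h => Units.ext (hLm g h) }
  refine ⟨τ, fun g => ?_⟩
  rw [Setting.Weyl.mem_implGroup]
  exact liftEnd_impl S hiso Y hstab g

end Cfsg.Agent.Lib.Helper7.WeilLeaf
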